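import Cfsg.Agent.Lib.Helper4.TC.Perm

set_option autoImplicit false
set_option linter.unusedVariables false

/-! Strict versions of the range loops: the running index is evaluated to a numeral at each step.
(The lazy versions pass on towers of successors, which makes their evaluation by the kernel
superlinear in the length of the range.) -/

namespace Cfsg.Agent.Helper4.TC

/-- the lazy loop -/
noncomputable def rangeL (P : ℕ → Bool) (f k : ℕ) : Bool :=
  Nat.rec (motive := fun _ => ℕ → Bool) (fun _ => true)
    (fun _ ih k => Bool.rec (motive := fun _ => Bool) false (ih (Nat.succ k)) (P k)) f k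

/-- the strict loop -/
noncomputable def rangeS (P : ℕ → Bool) (f k : ℕ) : Bool :=
  Nat.rec (motive := fun _ => ℕ → Bool) (fun _ => true)
    (fun _ ih k => Bool.rec (motive := fun _ => Bool) false (force (Nat.succ k) ih) (P k)) f k

theorem rangeS_succ (P : ℕ → Bool) (f k : ℕ) :
    rangeS P (f + 1) k =
      Bool.rec (motive := fun _ => Bool) false (force (Nat.succ k) (rangeS P f)) (P k) := rfl

theorem rangeL_succ (P : ℕ → Bool) (f k : ℕ) :
    rangeL P (f + 1) k =
      Bool.rec (motive := fun _ => Bool) false (rangeL P f (Nat.succ k)) (P k) := rfl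

theorem rangeS_eq (P : ℕ → Bool) (f k : ℕ) : rangeS P f k = rangeL P f k := by
  induction f generalizing k with
  | zero => rfl
  | succ f ih =>
    rw [rangeS_succ, rangeL_succ, force_eq, ih]

theorem edgeRange_eq (d : Data) (c f k : ℕ) : edgeRange d c f k = rangeL (justE d c) f k := rfl
theorem mergeRange_eq (d : Data) (f k : ℕ) : mergeRange d f k = rangeL (justM d) f k := rfl
theorem rowsRange_eq (d : Data) (M f k : ℕ) :
    rowsRange d M f k = rangeL (fun k => !isFinal d k || rowOK d M k d.nc) f k := rfl
theorem invRange_eq (m : MData) (f k : ℕ) :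
    invRange m f k = rangeL (fun k => invRow m k m.nc) f k := rfl
theorem relsRange_eq (m : MData) (bases : List (List ℕ)) (f k : ℕ) :
    relsRange m bases f k = rangeL (fun k => relsAt m k bases) f k := rfl
theorem treeRange_eq (m : MData) (f k : ℕ) : treeRange m f k = rangeL (treeAt m) f k := rfl
theorem closedRange_eq (m : MData) (subsL : List (List ℕ)) (lo hi f k : ℕ) :
    closedRange m subsL lo hi f k = rangeL (fun k => closedAt m lo hi k subsL) f k := rfl
theorem reachRange_eq (m : MData) (subsL : List (List ℕ)) (lo f k : ℕ) :
    reachRange m subsL lo f k = rangeL (reachAt m subsL lo) f k := rfl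
theorem lvlRange_eq (m : MData) (d : LData) (W : List (List ℕ)) (b f k : ℕ) :
    lvlRange m d W b f k = rangeL (lvlAt m d W b) f k := rfl
theorem srtRange_eq (d : LData) (f k : ℕ) : srtRange d f k = rangeL (srtAt d) f k := rfl

theorem edgeRange_strict (d : Data) (c f k : ℕ) (h : rangeS (justE d c) f k = true) :
    edgeRange d c f k = true := by rw [edgeRange_eq, ← rangeS_eq]; exact h
theorem mergeRange_strict (d : Data) (f k : ℕ) (h : rangeS (justM d) f k = true) :
    mergeRange d f k = true := by rw [mergeRange_eq, ← rangeS_eq]; exact h
theorem rowsRange_strict (d : Data) (M f k : ℕ)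
    (h : rangeS (fun k => !isFinal d k || rowOK d M k d.nc) f k = true) :
    rowsRange d M f k = true := by rw [rowsRange_eq, ← rangeS_eq]; exact h
theorem invRange_strict (m : MData) (f k : ℕ) (h : rangeS (fun k => invRow m k m.nc) f k = true) :
    invRange m f k = true := by rw [invRange_eq, ← rangeS_eq]; exact h
theorem relsRange_strict (m : MData) (bases : List (List ℕ)) (f k : ℕ)
    (h : rangeS (fun k => relsAt m k bases) f k = true) :
    relsRange m bases f k = true := by rw [relsRange_eq, ← rangeS_eq]; exact h
theorem treeRange_strict (m : MData) (f k : ℕ) (h : rangeS (treeAt m) f k = true) :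
    treeRange m f k = true := by rw [treeRange_eq, ← rangeS_eq]; exact h
theorem closedRange_strict (m : MData) (subsL : List (List ℕ)) (lo hi f k : ℕ)
    (h : rangeS (fun k => closedAt m lo hi k subsL) f k = true) :
    closedRange m subsL lo hi f k = true := by rw [closedRange_eq, ← rangeS_eq]; exact h
theorem reachRange_strict (m : MData) (subsL : List (List ℕ)) (lo f k : ℕ)
    (h : rangeS (reachAt m subsL lo) f k = true) :
    reachRange m subsL lo f k = true := by rw [reachRange_eq, ← rangeS_eq]; exact h
theorem lvlRange_strict (m : MData) (d : LData) (W : List (List ℕ)) (b f k : ℕ)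
    (h : rangeS (lvlAt m d W b) f k = true) :
    lvlRange m d W b f k = true := by rw [lvlRange_eq, ← rangeS_eq]; exact h
theorem srtRange_strict (d : LData) (f k : ℕ) (h : rangeS (srtAt d) f k = true) :
    srtRange d f k = true := by rw [srtRange_eq, ← rangeS_eq]; exact h

/-- the strict count -/
noncomputable def countFinalS (d : Data) (f k acc : ℕ) : ℕ :=
  Nat.rec (motive := fun _ => ℕ → ℕ → ℕ) (fun _ acc => acc)
    (fun _ ih k acc => force (Nat.succ k) fun k' =>
      force (Bool.rec (motive := fun _ => ℕ) acc (Nat.succ acc) (isFinal d k)) fun acc' =>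
        ih k' acc') f k acc

theorem countFinalS_succ (d : Data) (f k acc : ℕ) :
    countFinalS d (f + 1) k acc = force (Nat.succ k) fun k' =>
      force (Bool.rec (motive := fun _ => ℕ) acc (Nat.succ acc) (isFinal d k)) fun acc' =>
        countFinalS d f k' acc' := rfl

theorem countFinal_succ' (d : Data) (f k acc : ℕ) :
    countFinal d (f + 1) k acc = countFinal d f (Nat.succ k)
      (Bool.rec (motive := fun _ => ℕ) acc (Nat.succ acc) (isFinal d k)) := rfl

theorem countFinalS_eq (d : Data) (f k acc : ℕ) : countFinalS d f k acc = countFinal d f k acc := by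
  induction f generalizing k acc with
  | zero => rfl
  | succ f ih =>
    rw [countFinalS_succ, countFinal_succ', force_eq, force_eq, ih]

theorem countFinal_strict (d : Data) (f k acc a : ℕ) (h : countFinalS d f k acc = a) :
    countFinal d f k acc = a := by rw [← countFinalS_eq]; exact h

end Cfsg.Agent.Helper4.TC
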