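import Cfsg.Agent.Lib.Helper4.TC.Basic

set_option autoImplicit false
set_option linter.unusedVariables false
set_option linter.unusedSectionVars false
set_option linter.style.haveILetI false

/-! A checker for coset enumeration certificates: an upper bound for the index of a subgroup.

The certificate is a static table of facts. An edge fact `(c, k)` says that the letter `c` takes the
coset of the pre-coset `k` to the coset of its table entry; a merge fact `k` says that the
pre-cosets `k` and `mg k` have the same coset. Every fact has a rank (`0`: not proved) and a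
justification which only uses facts of higher rank. Everything that is computed is written with
the basic functions on natural numbers and with recursors. -/

namespace Cfsg.Agent.Helper4.TC

/-- the static data of a certificate -/
structure Data where
  w : ℕ
  mask : ℕ
  tw : ℕ
  tmask : ℕ
  hsh : ℕ
  lsh : ℕ
  ew : ℕ
  emask : ℕ
  mw : ℕ
  mmask : ℕ
  jw : ℕ
  jmask : ℕ
  bsh : ℕ
  bmask : ℕ
  nc : ℕ
  fuel : ℕ
  E : ℕ → ℕ → ℕ
  J : ℕ → ℕ → ℕ
  Mg : ℕ → ℕ
  JM : ℕ → ℕ
  relW : ℕ → List ℕ
  nrot : ℕ
  subW : ℕ → List ℕ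
  nsub : ℕ

/-- the entry of the edge `(c, k)`: target, rank, hint -/
def entry (d : Data) (c k : ℕ) : ℕ :=
  fld d.ew d.emask (d.E c (Nat.shiftRight k d.bsh)) (Nat.land k d.bmask)

def tpF (d : Data) (e : ℕ) : ℕ := Nat.land e d.mask
def rankF (d : Data) (e : ℕ) : ℕ := Nat.land (Nat.shiftRight e d.w) d.tmask
def hintF (d : Data) (e : ℕ) : ℕ := Nat.shiftRight e d.hsh

/-- the entry of the pre-coset `k`: merge target, rank, parent, letter -/
def mentry (d : Data) (k : ℕ) : ℕ :=
  fld d.mw d.mmask (d.Mg (Nat.shiftRight k d.bsh)) (Nat.land k d.bmask)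

def mgF (d : Data) (m : ℕ) : ℕ := Nat.land m d.mask
def mrankF (d : Data) (m : ℕ) : ℕ := Nat.land (Nat.shiftRight m d.w) d.tmask
def parF (d : Data) (m : ℕ) : ℕ := Nat.land (Nat.shiftRight m d.hsh) d.mask
def letF (d : Data) (m : ℕ) : ℕ := Nat.shiftRight m d.lsh

def jentry (d : Data) (c k : ℕ) : ℕ :=
  fld d.jw d.jmask (d.J c (Nat.shiftRight k d.bsh)) (Nat.land k d.bmask)

def jmentry (d : Data) (k : ℕ) : ℕ :=
  fld d.jw d.jmask (d.JM (Nat.shiftRight k d.bsh)) (Nat.land k d.bmask)

/-- follow the merges of rank at least `r1` -/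
noncomputable def normT (d : Data) (r1 fuel k : ℕ) : ℕ :=
  Nat.rec (motive := fun _ => ℕ → ℕ) (fun k => k)
    (fun _ ih k => Bool.rec (motive := fun _ => ℕ) k (ih (mgF d (mentry d k)))
      (Nat.ble r1 (mrankF d (mentry d k)))) fuel k

/-- the target of an entry, normalised if the hint says so -/
noncomputable def target (d : Data) (r1 e : ℕ) : ℕ :=
  Bool.rec (motive := fun _ => ℕ) (tpF d e) (normT d r1 d.fuel (tpF d e)) (Nat.ble r1 (hintF d e))

/-- walk along a word, using edges of rank at least `r1` -/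
noncomputable def chain (d : Data) (r1 : ℕ) (word : List ℕ) (x : ℕ) : Option ℕ :=
  List.rec (motive := fun _ => ℕ → Option ℕ) (fun x => some x)
    (fun c _ ih x => Bool.rec (motive := fun _ => Option ℕ) none (ih (target d r1 (entry d c x)))
      (Nat.ble r1 (rankF d (entry d c x)))) word x

/-- does the walk end at `k`? -/
def endsAt (o : Option ℕ) (k : ℕ) : Bool :=
  match o with
  | none => false
  | some x => Nat.beq x k

noncomputable def jRel (d : Data) (c k e r1 p : ℕ) : Bool :=
  Nat.blt p d.nrot &&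
    (match d.relW p with
     | [] => false
     | g :: P => Nat.beq g c && endsAt (chain d r1 P (target d r1 e)) k)

noncomputable def jSub (d : Data) (c k e r1 p : ℕ) : Bool :=
  Nat.blt (Nat.land p 15) d.nsub &&
    (match (d.subW (Nat.land p 15)).drop (Nat.shiftRight p 4) with
     | [] => false
     | g :: back => Nat.beq g c && endsAt (chain d r1 back (target d r1 e)) 0 &&
        endsAt (chain d r1 ((d.subW (Nat.land p 15)).take (Nat.shiftRight p 4)) 0) k)

noncomputable def jPair (d : Data) (c k e r1 p : ℕ) : Bool :=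
  Nat.ble p d.mask && Nat.blt (Nat.xor c 1) d.nc &&
    Nat.ble r1 (rankF d (entry d (Nat.xor c 1) p)) &&
    Nat.beq (target d r1 (entry d (Nat.xor c 1) p)) k &&
    Nat.beq (target d r1 e) p

def jDefF (d : Data) (c k t : ℕ) : Bool :=
  Nat.beq (parF d (mentry d t)) k && Nat.beq (letF d (mentry d t)) c && Nat.blt k t

def jDefB (d : Data) (c k t : ℕ) : Bool :=
  Nat.beq (parF d (mentry d k)) t && Nat.beq (Nat.xor (letF d (mentry d k)) 1) c && Nat.blt t k

noncomputable def jXfer (d : Data) (c k e r1 a : ℕ) : Bool :=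
  Nat.ble a d.mask && Nat.ble r1 (rankF d (entry d c a)) &&
    Nat.beq (normT d r1 d.fuel a) k &&
    Nat.beq (target d r1 (entry d c a)) (target d r1 e)

/-- the justification of an edge fact: type `j &&& 7`, data `j >>> 3` -/
noncomputable def justE1 (d : Data) (c k e r1 j : ℕ) : Bool :=
  cond (Nat.beq (Nat.land j 7) 3) (jRel d c k e r1 (Nat.shiftRight j 3))
    (cond (Nat.beq (Nat.land j 7) 5) (jPair d c k e r1 (Nat.shiftRight j 3))
      (cond (Nat.beq (Nat.land j 7) 1) (jDefF d c k (tpF d e))
        (cond (Nat.beq (Nat.land j 7) 2) (jDefB d c k (tpF d e))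
          (cond (Nat.beq (Nat.land j 7) 6) (jXfer d c k e r1 (Nat.shiftRight j 3))
            (cond (Nat.beq (Nat.land j 7) 4) (jSub d c k e r1 (Nat.shiftRight j 3)) false)))))

/-- the edge fact `(c, k)` is not claimed, or justified -/
noncomputable def justE (d : Data) (c k : ℕ) : Bool :=
  cond (Nat.beq (rankF d (entry d c k)) 0) true
    (justE1 d c k (entry d c k) (Nat.succ (rankF d (entry d c k))) (jentry d c k))

noncomputable def jCoinRel (d : Data) (k g r1 p : ℕ) : Bool :=
  Nat.blt (Nat.shiftRight p 1) d.nrot &&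
    cond (Nat.beq (Nat.land p 1) 1)
      (endsAt (chain d r1 (d.relW (Nat.shiftRight p 1)) k) g)
      (endsAt (chain d r1 (d.relW (Nat.shiftRight p 1)) g) k)

noncomputable def jCoinSub (d : Data) (k g r1 p : ℕ) : Bool :=
  Nat.blt (Nat.land (Nat.shiftRight p 1) 15) d.nsub &&
    cond (Nat.beq (Nat.land p 1) 1)
      (endsAt (chain d r1 ((d.subW (Nat.land (Nat.shiftRight p 1) 15)).take (Nat.shiftRight p 5)) 0) g &&
        endsAt (chain d r1 ((d.subW (Nat.land (Nat.shiftRight p 1) 15)).drop (Nat.shiftRight p 5)) k) 0)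
      (endsAt (chain d r1 ((d.subW (Nat.land (Nat.shiftRight p 1) 15)).take (Nat.shiftRight p 5)) 0) k &&
        endsAt (chain d r1 ((d.subW (Nat.land (Nat.shiftRight p 1) 15)).drop (Nat.shiftRight p 5)) g) 0)

noncomputable def jDet (d : Data) (k g r1 l a : ℕ) : Bool :=
  Nat.blt l d.nc && Nat.ble a d.mask && Nat.ble r1 (rankF d (entry d l a)) &&
    Nat.ble r1 (rankF d (entry d l (normT d r1 d.fuel a))) &&
    ((Nat.beq (target d r1 (entry d l (normT d r1 d.fuel a))) k &&
        Nat.beq (target d r1 (entry d l a)) g) ||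
      (Nat.beq (target d r1 (entry d l (normT d r1 d.fuel a))) g &&
        Nat.beq (target d r1 (entry d l a)) k))

noncomputable def justM1 (d : Data) (k g r1 j : ℕ) : Bool :=
  cond (Nat.beq (Nat.land j 7) 1) (jCoinRel d k g r1 (Nat.shiftRight j 3))
    (cond (Nat.beq (Nat.land j 7) 2) (jCoinSub d k g r1 (Nat.shiftRight j 3))
      (cond (Nat.beq (Nat.land j 7) 3)
        (jDet d k g r1 (Nat.land (Nat.shiftRight j 3) 31) (Nat.shiftRight j 8)) false))

/-- the merge fact `k` is not claimed, or justified -/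
noncomputable def justM (d : Data) (k : ℕ) : Bool :=
  cond (Nat.beq (mrankF d (mentry d k)) 0) true
    (justM1 d k (mgF d (mentry d k)) (Nat.succ (mrankF d (mentry d k))) (jmentry d k))

/-- all edge facts `(c, k), …, (c, k + f - 1)` -/
noncomputable def edgeRange (d : Data) (c f k : ℕ) : Bool :=
  Nat.rec (motive := fun _ => ℕ → Bool) (fun _ => true)
    (fun _ ih k => Bool.rec (motive := fun _ => Bool) false (ih (Nat.succ k)) (justE d c k)) f k

noncomputable def mergeRange (d : Data) (f k : ℕ) : Bool :=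
  Nat.rec (motive := fun _ => ℕ → Bool) (fun _ => true)
    (fun _ ih k => Bool.rec (motive := fun _ => Bool) false (ih (Nat.succ k)) (justM d k)) f k

def isFinal (d : Data) (k : ℕ) : Bool := Nat.beq (mgF d (mentry d k)) k

/-- count the final pre-cosets among `k, …, k + f - 1` -/
noncomputable def countFinal (d : Data) (f k acc : ℕ) : ℕ :=
  Nat.rec (motive := fun _ => ℕ → ℕ → ℕ) (fun _ acc => acc)
    (fun _ ih k acc => ih (Nat.succ k) (Bool.rec (motive := fun _ => ℕ) acc (Nat.succ acc) (isFinal d k))) f k acc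

/-- the row of the final pre-coset `k` is complete, with final targets below `M` -/
noncomputable def rowOK (d : Data) (M k c : ℕ) : Bool :=
  Nat.rec (motive := fun _ => Bool) true
    (fun c ih => Nat.blt 0 (rankF d (entry d c k)) &&
      Nat.blt (target d 1 (entry d c k)) M &&
      isFinal d (target d 1 (entry d c k)) && ih) c

noncomputable def rowsRange (d : Data) (M f k : ℕ) : Bool :=
  Nat.rec (motive := fun _ => ℕ → Bool) (fun _ => true)
    (fun _ ih k => Bool.rec (motive := fun _ => Bool) false (ih (Nat.succ k))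
      (!isFinal d k || rowOK d M k d.nc)) f k

/-! ### Semantics -/

def tpOf (d : Data) (c k : ℕ) : ℕ := tpF d (entry d c k)
def rankOf (d : Data) (c k : ℕ) : ℕ := rankF d (entry d c k)
def mgOf (d : Data) (k : ℕ) : ℕ := mgF d (mentry d k)
def mrankOf (d : Data) (k : ℕ) : ℕ := mrankF d (mentry d k)
def parOf (d : Data) (k : ℕ) : ℕ := parF d (mentry d k)
def letOf (d : Data) (k : ℕ) : ℕ := letF d (mentry d k)

theorem tpF_le (d : Data) (e : ℕ) : tpF d e ≤ d.mask := Nat.and_le_right
theorem mgF_le (d : Data) (m : ℕ) : mgF d m ≤ d.mask := Nat.and_le_right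
theorem rankF_le (d : Data) (e : ℕ) : rankF d e ≤ d.tmask := Nat.and_le_right
theorem mrankF_le (d : Data) (m : ℕ) : mrankF d m ≤ d.tmask := Nat.and_le_right

theorem normT_zero (d : Data) (r1 k : ℕ) : normT d r1 0 k = k := rfl

theorem normT_succ (d : Data) (r1 f k : ℕ) :
    normT d r1 (f + 1) k =
      Bool.rec (motive := fun _ => ℕ) k (normT d r1 f (mgOf d k)) (Nat.ble r1 (mrankOf d k)) := rfl

theorem chain_nil (d : Data) (r1 x : ℕ) : chain d r1 [] x = some x := rfl

theorem chain_cons (d : Data) (r1 c : ℕ) (cs : List ℕ) (x : ℕ) :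
    chain d r1 (c :: cs) x =
      Bool.rec (motive := fun _ => Option ℕ) none (chain d r1 cs (target d r1 (entry d c x)))
        (Nat.ble r1 (rankOf d c x)) := rfl

theorem endsAt_eq {o : Option ℕ} {k : ℕ} (h : endsAt o k = true) : o = some k := by
  cases o with
  | none => cases h
  | some x =>
    have : Nat.beq x k = true := h
    rw [Nat.eq_of_beq_eq_true this]

theorem edgeRange_zero (d : Data) (c k : ℕ) : edgeRange d c 0 k = true := rfl

theorem edgeRange_succ (d : Data) (c f k : ℕ) :
    edgeRange d c (f + 1) k =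
      Bool.rec (motive := fun _ => Bool) false (edgeRange d c f (Nat.succ k)) (justE d c k) := rfl

theorem mergeRange_succ (d : Data) (f k : ℕ) :
    mergeRange d (f + 1) k =
      Bool.rec (motive := fun _ => Bool) false (mergeRange d f (Nat.succ k)) (justM d k) := rfl

theorem edgeRange_sound (d : Data) (c f k : ℕ) (h : edgeRange d c f k = true) :
    ∀ j, k ≤ j → j < k + f → justE d c j = true := by
  induction f generalizing k with
  | zero => intro j h1 h2; omega
  | succ f ih =>
    rw [edgeRange_succ] at h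
    cases hb : justE d c k
    · rw [hb] at h; cases h
    · rw [hb] at h
      intro j h1 h2
      rcases Nat.eq_or_lt_of_le h1 with rfl | hlt
      · exact hb
      · exact ih _ h j hlt (by omega)

theorem mergeRange_sound (d : Data) (f k : ℕ) (h : mergeRange d f k = true) :
    ∀ j, k ≤ j → j < k + f → justM d j = true := by
  induction f generalizing k with
  | zero => intro j h1 h2; omega
  | succ f ih =>
    rw [mergeRange_succ] at h
    cases hb : justM d k
    · rw [hb] at h; cases h
    · rw [hb] at h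
      intro j h1 h2
      rcases Nat.eq_or_lt_of_le h1 with rfl | hlt
      · exact hb
      · exact ih _ h j hlt (by omega)

section Sem

variable {α : Type} {G : Type*} [Group G] (H : Subgroup G) (γ : α → G) (dec : ℕ → Letter α)

/-- the coset of a pre-coset -/
noncomputable def cos (d : Data) (k : ℕ) : G ⧸ H :=
  if h : k ≠ 0 ∧ parOf d k < k then gl γ (dec (letOf d k)) • cos d (parOf d k) else ((1 : G) : G ⧸ H)
termination_by k
decreasing_by exact h.2

theorem cos_zero (d : Data) : cos H γ dec d 0 = ((1 : G) : G ⧸ H) := by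
  rw [cos]; simp

theorem cos_succ (d : Data) (k : ℕ) (h1 : k ≠ 0) (h2 : parOf d k < k) :
    cos H γ dec d k = gl γ (dec (letOf d k)) • cos H γ dec d (parOf d k) := by
  rw [cos]; simp [h1, h2]

/-- all facts of rank above `r` are true -/
def ValidAbove (d : Data) (r : ℕ) : Prop :=
  (∀ c k, c < d.nc → k ≤ d.mask → r < rankOf d c k →
    gl γ (dec c) • cos H γ dec d k = cos H γ dec d (tpOf d c k)) ∧
  (∀ k, k ≤ d.mask → r < mrankOf d k → cos H γ dec d k = cos H γ dec d (mgOf d k))

variable {H γ dec}

theorem normT_sound {d : Data} {r : ℕ} (hv : ValidAbove H γ dec d r) (f k : ℕ) (hk : k ≤ d.mask) :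
    cos H γ dec d (normT d (r + 1) f k) = cos H γ dec d k ∧ normT d (r + 1) f k ≤ d.mask := by
  induction f generalizing k with
  | zero => exact ⟨rfl, hk⟩
  | succ f ih =>
    rw [normT_succ]
    cases h : Nat.ble (r + 1) (mrankOf d k)
    · exact ⟨rfl, hk⟩
    · have h' : r < mrankOf d k := Nat.le_of_ble_eq_true h
      obtain ⟨h1, h2⟩ := ih (mgOf d k) (mgF_le _ _)
      exact ⟨by rw [hv.2 k hk h']; exact h1, h2⟩

theorem target_sound {d : Data} {r : ℕ} (hv : ValidAbove H γ dec d r) (e : ℕ) :
    cos H γ dec d (target d (r + 1) e) = cos H γ dec d (tpF d e) ∧ target d (r + 1) e ≤ d.mask := by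
  unfold target
  cases h : Nat.ble (r + 1) (hintF d e)
  · exact ⟨rfl, tpF_le _ _⟩
  · exact normT_sound hv _ _ (tpF_le _ _)

theorem chain_sound {d : Data} {r : ℕ} (hv : ValidAbove H γ dec d r) (word : List ℕ)
    (hw : ∀ c ∈ word, c < d.nc) (x z : ℕ) (hx : x ≤ d.mask)
    (h : chain d (r + 1) word x = some z) :
    evc γ dec word • cos H γ dec d x = cos H γ dec d z ∧ z ≤ d.mask := by
  induction word generalizing x with
  | nil =>
    rw [chain_nil] at h
    cases h
    exact ⟨by rw [evc_nil, one_smul], hx⟩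
  | cons c cs ih =>
    rw [chain_cons] at h
    cases hb : Nat.ble (r + 1) (rankOf d c x)
    · rw [hb] at h
      have h' : (none : Option ℕ) = some z := h
      cases h'
    · rw [hb] at h
      have h' : chain d (r + 1) cs (target d (r + 1) (entry d c x)) = some z := h
      have hr : r < rankOf d c x := Nat.le_of_ble_eq_true hb
      have hc := hw c List.mem_cons_self
      obtain ⟨t1, t2⟩ := target_sound hv (entry d c x)
      obtain ⟨h1, h2⟩ := ih (fun c' hc' => hw c' (List.mem_cons_of_mem _ hc')) _ t2 h'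
      refine ⟨?_, h2⟩
      rw [evc_cons, mul_smul, hv.1 c x hc hx hr, ← h1, t1]
      rfl

/-- the hypotheses on the words and the letters -/
structure WordsOK (H : Subgroup G) (γ : α → G) (dec : ℕ → Letter α) (d : Data) : Prop where
  dec_inv : ∀ c, dec (Nat.xor c 1) = linv (dec c)
  rel : ∀ i, i < d.nrot → evc γ dec (d.relW i) = 1
  relc : ∀ i, i < d.nrot → ∀ c ∈ d.relW i, c < d.nc
  sub : ∀ i, i < d.nsub → evc γ dec (d.subW i) ∈ H
  subc : ∀ i, i < d.nsub → ∀ c ∈ d.subW i, c < d.nc

theorem sub_fix {d : Data} (hw : WordsOK H γ dec d) (i : ℕ) (hi : i < d.nsub) :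
    evc γ dec (d.subW i) • cos H γ dec d 0 = cos H γ dec d 0 := by
  rw [cos_zero, MulAction.Quotient.smul_coe, smul_eq_mul, mul_one]
  exact QuotientGroup.eq.mpr (by rw [mul_one]; exact H.inv_mem (hw.sub i hi))

theorem jRel_sound {d : Data} (hw : WordsOK H γ dec d) {r : ℕ} (hv : ValidAbove H γ dec d r)
    (c k p : ℕ) (hc : c < d.nc) (hk : k ≤ d.mask)
    (h : jRel d c k (entry d c k) (r + 1) p = true) :
    gl γ (dec c) • cos H γ dec d k = cos H γ dec d (tpOf d c k) := by
  unfold jRel at h
  rw [Bool.and_eq_true] at h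
  obtain ⟨h1, h2⟩ := h
  have hp : p < d.nrot := lt_of_blt h1
  have hrel := hw.rel p hp
  have hrelc := hw.relc p hp
  cases hW : d.relW p with
  | nil => rw [hW] at h2; cases h2
  | cons g P =>
    rw [hW] at h2 hrel hrelc
    simp only [Bool.and_eq_true] at h2
    obtain ⟨h3, h4⟩ := h2
    have hg : g = c := Nat.eq_of_beq_eq_true h3
    subst hg
    obtain ⟨t1, t2⟩ := target_sound hv (entry d g k)
    obtain ⟨c1, _⟩ := chain_sound hv P (fun c' hc' => hrelc c' (List.mem_cons_of_mem _ hc')) _ _ t2
      (endsAt_eq h4)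
    rw [evc_cons] at hrel
    have e1 : evc γ dec P = (gl γ (dec g))⁻¹ := eq_inv_of_mul_eq_one_left hrel
    rw [← c1, t1, e1, smul_smul, mul_inv_cancel, one_smul]
    rfl

theorem jSub_sound {d : Data} (hw : WordsOK H γ dec d) {r : ℕ} (hv : ValidAbove H γ dec d r)
    (c k p : ℕ) (hc : c < d.nc) (hk : k ≤ d.mask)
    (h : jSub d c k (entry d c k) (r + 1) p = true) :
    gl γ (dec c) • cos H γ dec d k = cos H γ dec d (tpOf d c k) := by
  unfold jSub at h
  rw [Bool.and_eq_true] at h
  obtain ⟨h1, h2⟩ := h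
  have hp : Nat.land p 15 < d.nsub := lt_of_blt h1
  have hfix := sub_fix hw _ hp
  have hsubc := hw.subc _ hp
  set hword := d.subW (Nat.land p 15) with hhw
  set s := Nat.shiftRight p 4 with hs
  cases hW : hword.drop s with
  | nil => rw [hW] at h2; cases h2
  | cons g back =>
    rw [hW] at h2
    simp only [Bool.and_eq_true] at h2
    obtain ⟨⟨h3, h4⟩, h5⟩ := h2
    have hg : g = c := Nat.eq_of_beq_eq_true h3
    subst hg
    have hsplit : hword = hword.take s ++ g :: back := by
      rw [← hW, List.take_append_drop]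
    have hcf : ∀ c' ∈ hword.take s, c' < d.nc := fun c' hc' => hsubc c' (List.mem_of_mem_take hc')
    have hcb : ∀ c' ∈ back, c' < d.nc := fun c' hc' =>
      hsubc c' (by rw [hsplit]; exact List.mem_append_right _ (List.mem_cons_of_mem _ hc'))
    obtain ⟨t1, t2⟩ := target_sound hv (entry d g k)
    obtain ⟨c1, _⟩ := chain_sound hv back hcb _ _ t2 (endsAt_eq h4)
    obtain ⟨c2, _⟩ := chain_sound hv (hword.take s) hcf 0 k (Nat.zero_le _) (endsAt_eq h5)
    rw [hsplit, evc_append, evc_cons, mul_smul, mul_smul, c2, ← c1] at hfix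
    have := (MulAction.injective _) hfix
    rw [this, t1]
    rfl

theorem jPair_sound {d : Data} (hw : WordsOK H γ dec d) {r : ℕ} (hv : ValidAbove H γ dec d r)
    (c k p : ℕ) (hc : c < d.nc) (hk : k ≤ d.mask)
    (h : jPair d c k (entry d c k) (r + 1) p = true) :
    gl γ (dec c) • cos H γ dec d k = cos H γ dec d (tpOf d c k) := by
  unfold jPair at h
  simp only [Bool.and_eq_true] at h
  obtain ⟨⟨⟨⟨h1, h2⟩, h3⟩, h4⟩, h5⟩ := h
  have hp : p ≤ d.mask := Nat.le_of_ble_eq_true h1
  have hc' : Nat.xor c 1 < d.nc := lt_of_blt h2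
  have hr : r < rankOf d (Nat.xor c 1) p := Nat.le_of_ble_eq_true h3
  have e4 : target d (r + 1) (entry d (Nat.xor c 1) p) = k := Nat.eq_of_beq_eq_true h4
  have e5 : target d (r + 1) (entry d c k) = p := Nat.eq_of_beq_eq_true h5
  have f1 := hv.1 _ p hc' hp hr
  obtain ⟨t1, _⟩ := target_sound hv (entry d (Nat.xor c 1) p)
  obtain ⟨t2, _⟩ := target_sound hv (entry d c k)
  rw [e4] at t1
  rw [e5] at t2
  rw [hw.dec_inv, gl_linv, inv_smul_eq_iff] at f1
  show _ = cos H γ dec d (tpF d (entry d c k))
  rw [← t2, f1, t1]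
  rfl

theorem jDefF_sound {d : Data} (c k : ℕ)
    (h : jDefF d c k (tpOf d c k) = true) :
    gl γ (dec c) • cos H γ dec d k = cos H γ dec d (tpOf d c k) := by
  unfold jDefF at h
  simp only [Bool.and_eq_true] at h
  obtain ⟨⟨h1, h2⟩, h3⟩ := h
  have e1 : parOf d (tpOf d c k) = k := Nat.eq_of_beq_eq_true h1
  have e2 : letOf d (tpOf d c k) = c := Nat.eq_of_beq_eq_true h2
  have e3 : k < tpOf d c k := lt_of_blt h3
  rw [cos_succ H γ dec d (tpOf d c k) (by omega) (by rw [e1]; exact e3), e1, e2]

theorem jDefB_sound {d : Data} (hw : WordsOK H γ dec d) (c k : ℕ)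
    (h : jDefB d c k (tpOf d c k) = true) :
    gl γ (dec c) • cos H γ dec d k = cos H γ dec d (tpOf d c k) := by
  unfold jDefB at h
  simp only [Bool.and_eq_true] at h
  obtain ⟨⟨h1, h2⟩, h3⟩ := h
  have e1 : parOf d k = tpOf d c k := Nat.eq_of_beq_eq_true h1
  have e2 : Nat.xor (letOf d k) 1 = c := Nat.eq_of_beq_eq_true h2
  have e3 : tpOf d c k < k := lt_of_blt h3
  rw [cos_succ H γ dec d k (by omega) (by rw [e1]; exact e3), e1, ← e2, hw.dec_inv, gl_linv, smul_smul,
    inv_mul_cancel, one_smul]

theorem jXfer_sound {d : Data} {r : ℕ} (hv : ValidAbove H γ dec d r)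
    (c k a : ℕ) (hc : c < d.nc) (hk : k ≤ d.mask)
    (h : jXfer d c k (entry d c k) (r + 1) a = true) :
    gl γ (dec c) • cos H γ dec d k = cos H γ dec d (tpOf d c k) := by
  unfold jXfer at h
  simp only [Bool.and_eq_true] at h
  obtain ⟨⟨⟨h1, h2⟩, h3⟩, h4⟩ := h
  have ha : a ≤ d.mask := Nat.le_of_ble_eq_true h1
  have hr : r < rankOf d c a := Nat.le_of_ble_eq_true h2
  have e3 : normT d (r + 1) d.fuel a = k := Nat.eq_of_beq_eq_true h3
  have e4 : target d (r + 1) (entry d c a) = target d (r + 1) (entry d c k) := Nat.eq_of_beq_eq_true h4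
  have f1 := hv.1 c a hc ha hr
  obtain ⟨n1, _⟩ := normT_sound hv d.fuel a ha
  rw [e3] at n1
  obtain ⟨t1, _⟩ := target_sound hv (entry d c a)
  obtain ⟨t2, _⟩ := target_sound hv (entry d c k)
  show _ = cos H γ dec d (tpF d (entry d c k))
  rw [n1, f1, ← t2, ← e4, t1]
  rfl

theorem justE_sound {d : Data} (hw : WordsOK H γ dec d) (c k : ℕ) (hc : c < d.nc) (hk : k ≤ d.mask)
    (hv : ValidAbove H γ dec d (rankOf d c k)) (hr : 0 < rankOf d c k)
    (h : justE d c k = true) :
    gl γ (dec c) • cos H γ dec d k = cos H γ dec d (tpOf d c k) := by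
  unfold justE at h
  have h0 : Nat.beq (rankF d (entry d c k)) 0 = false := by
    cases hb : Nat.beq (rankF d (entry d c k)) 0
    · rfl
    · have := Nat.eq_of_beq_eq_true hb
      unfold rankOf at hr
      omega
  rw [h0] at h
  simp only [cond_false] at h
  unfold justE1 at h
  have hr1 : Nat.succ (rankF d (entry d c k)) = rankOf d c k + 1 := rfl
  rw [hr1] at h
  cases h3 : Nat.beq (Nat.land (jentry d c k) 7) 3
  · rw [h3] at h; simp only [cond_false] at h
    cases h5 : Nat.beq (Nat.land (jentry d c k) 7) 5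
    · rw [h5] at h; simp only [cond_false] at h
      cases h1 : Nat.beq (Nat.land (jentry d c k) 7) 1
      · rw [h1] at h; simp only [cond_false] at h
        cases h2 : Nat.beq (Nat.land (jentry d c k) 7) 2
        · rw [h2] at h; simp only [cond_false] at h
          cases h6 : Nat.beq (Nat.land (jentry d c k) 7) 6
          · rw [h6] at h; simp only [cond_false] at h
            cases h4 : Nat.beq (Nat.land (jentry d c k) 7) 4
            · rw [h4] at h; cases h
            · rw [h4] at h; simp only [cond_true] at h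
              exact jSub_sound hw hv c k _ hc hk h
          · rw [h6] at h; simp only [cond_true] at h
            exact jXfer_sound hv c k _ hc hk h
        · rw [h2] at h; simp only [cond_true] at h
          exact jDefB_sound hw c k h
      · rw [h1] at h; simp only [cond_true] at h
        exact jDefF_sound c k h
    · rw [h5] at h; simp only [cond_true] at h
      exact jPair_sound hw hv c k _ hc hk h
  · rw [h3] at h; simp only [cond_true] at h
    exact jRel_sound hw hv c k _ hc hk h

theorem jCoinRel_sound {d : Data} (hw : WordsOK H γ dec d) {r : ℕ} (hv : ValidAbove H γ dec d r)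
    (k g p : ℕ) (hk : k ≤ d.mask) (hg : g ≤ d.mask)
    (h : jCoinRel d k g (r + 1) p = true) : cos H γ dec d k = cos H γ dec d g := by
  unfold jCoinRel at h
  rw [Bool.and_eq_true] at h
  obtain ⟨h1, h2⟩ := h
  have hp : Nat.shiftRight p 1 < d.nrot := lt_of_blt h1
  have hrel := hw.rel _ hp
  have hrelc := hw.relc _ hp
  cases hf : Nat.beq (Nat.land p 1) 1
  · rw [hf] at h2
    simp only [cond_false] at h2
    obtain ⟨c1, _⟩ := chain_sound hv _ hrelc _ _ hg (endsAt_eq h2)
    rw [hrel, one_smul] at c1
    exact c1.symm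
  · rw [hf] at h2
    simp only [cond_true] at h2
    obtain ⟨c1, _⟩ := chain_sound hv _ hrelc _ _ hk (endsAt_eq h2)
    rw [hrel, one_smul] at c1
    exact c1

theorem jCoinSub_sound {d : Data} (hw : WordsOK H γ dec d) {r : ℕ} (hv : ValidAbove H γ dec d r)
    (k g p : ℕ) (hk : k ≤ d.mask) (hg : g ≤ d.mask)
    (h : jCoinSub d k g (r + 1) p = true) : cos H γ dec d k = cos H γ dec d g := by
  unfold jCoinSub at h
  rw [Bool.and_eq_true] at h
  obtain ⟨h1, h2⟩ := h
  have hp : Nat.land (Nat.shiftRight p 1) 15 < d.nsub := lt_of_blt h1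
  have hfix := sub_fix hw _ hp
  have hsubc := hw.subc _ hp
  set hword := d.subW (Nat.land (Nat.shiftRight p 1) 15) with hhw
  set s := Nat.shiftRight p 5 with hs
  have hcf : ∀ c' ∈ hword.take s, c' < d.nc := fun c' hc' => hsubc c' (List.mem_of_mem_take hc')
  have hcb : ∀ c' ∈ hword.drop s, c' < d.nc := fun c' hc' => hsubc c' (List.mem_of_mem_drop hc')
  rw [← List.take_append_drop s hword, evc_append, mul_smul] at hfix
  cases hf : Nat.beq (Nat.land p 1) 1
  · rw [hf] at h2
    simp only [cond_false, Bool.and_eq_true] at h2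
    obtain ⟨c1, _⟩ := chain_sound hv _ hcf 0 k (Nat.zero_le _) (endsAt_eq h2.1)
    obtain ⟨c2, _⟩ := chain_sound hv _ hcb g 0 hg (endsAt_eq h2.2)
    rw [c1, ← c2] at hfix
    exact (MulAction.injective _) hfix
  · rw [hf] at h2
    simp only [cond_true, Bool.and_eq_true] at h2
    obtain ⟨c1, _⟩ := chain_sound hv _ hcf 0 g (Nat.zero_le _) (endsAt_eq h2.1)
    obtain ⟨c2, _⟩ := chain_sound hv _ hcb k 0 hk (endsAt_eq h2.2)
    rw [c1, ← c2] at hfix
    exact ((MulAction.injective _) hfix).symm

theorem jDet_sound {d : Data} {r : ℕ} (hv : ValidAbove H γ dec d r)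
    (k g l a : ℕ) (h : jDet d k g (r + 1) l a = true) :
    cos H γ dec d k = cos H γ dec d g := by
  unfold jDet at h
  simp only [Bool.and_eq_true, Bool.or_eq_true] at h
  obtain ⟨⟨⟨⟨h1, h2⟩, h3⟩, h4⟩, h5⟩ := h
  have hl : l < d.nc := lt_of_blt h1
  have ha : a ≤ d.mask := Nat.le_of_ble_eq_true h2
  have hr1 : r < rankOf d l a := Nat.le_of_ble_eq_true h3
  obtain ⟨n1, n2⟩ := normT_sound hv d.fuel a ha
  have hr2 : r < rankOf d l (normT d (r + 1) d.fuel a) := Nat.le_of_ble_eq_true h4
  have f1 := hv.1 l a hl ha hr1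
  have f2 := hv.1 l _ hl n2 hr2
  obtain ⟨t1, _⟩ := target_sound hv (entry d l a)
  obtain ⟨t2, _⟩ := target_sound hv (entry d l (normT d (r + 1) d.fuel a))
  have key : cos H γ dec d (target d (r + 1) (entry d l (normT d (r + 1) d.fuel a))) =
      cos H γ dec d (target d (r + 1) (entry d l a)) := by
    rw [t1, t2]
    show cos H γ dec d (tpOf d l _) = cos H γ dec d (tpOf d l a)
    rw [← f1, ← f2, n1]
  rcases h5 with ⟨e1, e2⟩ | ⟨e1, e2⟩
  · rw [Nat.eq_of_beq_eq_true e1, Nat.eq_of_beq_eq_true e2] at key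
    exact key
  · rw [Nat.eq_of_beq_eq_true e1, Nat.eq_of_beq_eq_true e2] at key
    exact key.symm

theorem justM_sound {d : Data} (hw : WordsOK H γ dec d) (k : ℕ) (hk : k ≤ d.mask)
    (hv : ValidAbove H γ dec d (mrankOf d k)) (hr : 0 < mrankOf d k)
    (h : justM d k = true) : cos H γ dec d k = cos H γ dec d (mgOf d k) := by
  unfold justM at h
  have h0 : Nat.beq (mrankF d (mentry d k)) 0 = false := by
    cases hb : Nat.beq (mrankF d (mentry d k)) 0
    · rfl
    · have := Nat.eq_of_beq_eq_true hb
      unfold mrankOf at hr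
      omega
  rw [h0] at h
  simp only [cond_false] at h
  unfold justM1 at h
  have hr1 : Nat.succ (mrankF d (mentry d k)) = mrankOf d k + 1 := rfl
  rw [hr1] at h
  have hg : mgOf d k ≤ d.mask := mgF_le _ _
  cases h1 : Nat.beq (Nat.land (jmentry d k) 7) 1
  · rw [h1] at h; simp only [cond_false] at h
    cases h2 : Nat.beq (Nat.land (jmentry d k) 7) 2
    · rw [h2] at h; simp only [cond_false] at h
      cases h3 : Nat.beq (Nat.land (jmentry d k) 7) 3
      · rw [h3] at h; cases h
      · rw [h3] at h; simp only [cond_true] at h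
        exact jDet_sound hv k _ _ _ h
    · rw [h2] at h; simp only [cond_true] at h
      exact jCoinSub_sound hw hv k _ _ hk hg h
  · rw [h1] at h; simp only [cond_true] at h
    exact jCoinRel_sound hw hv k _ _ hk hg h

/-- if every claimed fact is justified, every claimed fact is true -/
theorem all_valid {d : Data} (hw : WordsOK H γ dec d)
    (hE : ∀ c k, c < d.nc → k ≤ d.mask → justE d c k = true)
    (hM : ∀ k, k ≤ d.mask → justM d k = true) : ∀ r, ValidAbove H γ dec d r := by
  have key : ∀ m r, d.tmask + 1 ≤ r + m → ValidAbove H γ dec d r := by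
    intro m
    induction m with
    | zero =>
      intro r hr
      constructor
      · intro c k _ _ h
        have := rankF_le d (entry d c k)
        unfold rankOf at h
        omega
      · intro k _ h
        have := mrankF_le d (mentry d k)
        unfold mrankOf at h
        omega
    | succ m ih =>
      intro r hr
      constructor
      · intro c k hc hk h
        exact justE_sound hw c k hc hk (ih _ (by omega)) (by omega) (hE c k hc hk)
      · intro k hk h
        exact justM_sound hw k hk (ih _ (by omega)) (by omega) (hM k hk)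
  intro r
  exact key (d.tmask + 1) r (by omega)

theorem countFinal_succ (d : Data) (f k acc : ℕ) :
    countFinal d (f + 1) k acc =
      countFinal d f (Nat.succ k) (Bool.rec (motive := fun _ => ℕ) acc (Nat.succ acc) (isFinal d k)) := rfl

theorem countFinal_eq (d : Data) (f k acc : ℕ) :
    countFinal d f k acc = acc + (List.range' k f).countP (isFinal d) := by
  induction f generalizing k acc with
  | zero => simp [countFinal]
  | succ f ih =>
    rw [countFinal_succ, ih, List.range'_succ, List.countP_cons]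
    have e : Nat.succ k = k + 1 := rfl
    rw [e]
    cases h : isFinal d k
    · simp
    · simp only [if_true]
      show Nat.succ acc + _ = _
      omega

theorem countFinal_split (d : Data) (f1 f2 k k2 a b : ℕ) (hk : k2 = k + f1)
    (h1 : countFinal d f1 k 0 = a) (h2 : countFinal d f2 k2 0 = b) :
    countFinal d (f1 + f2) k 0 = a + b := by
  rw [countFinal_eq, zero_add] at h1 h2 ⊢
  have e : List.range' k (f1 + f2) = List.range' k f1 ++ List.range' k2 f2 := by
    rw [hk, List.range'_append_1]
  rw [e, List.countP_append, h1, h2]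

theorem rowOK_succ (d : Data) (M k c : ℕ) :
    rowOK d M k (c + 1) = (Nat.blt 0 (rankF d (entry d c k)) &&
      Nat.blt (target d 1 (entry d c k)) M &&
      isFinal d (target d 1 (entry d c k)) && rowOK d M k c) := rfl

theorem rowOK_sound (d : Data) (M k c : ℕ) (h : rowOK d M k c = true) :
    ∀ c', c' < c → 0 < rankOf d c' k ∧ target d 1 (entry d c' k) < M ∧
      isFinal d (target d 1 (entry d c' k)) = true := by
  induction c with
  | zero => intro c' hc'; omega
  | succ c ih =>
    rw [rowOK_succ] at h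
    simp only [Bool.and_eq_true] at h
    obtain ⟨⟨⟨h1, h2⟩, h3⟩, h4⟩ := h
    intro c' hc'
    rcases Nat.lt_succ_iff_lt_or_eq.mp hc' with hlt | rfl
    · exact ih h4 c' hlt
    · exact ⟨lt_of_blt h1, lt_of_blt h2, h3⟩

theorem rowsRange_succ (d : Data) (M f k : ℕ) :
    rowsRange d M (f + 1) k =
      Bool.rec (motive := fun _ => Bool) false (rowsRange d M f (Nat.succ k))
        (!isFinal d k || rowOK d M k d.nc) := rfl

theorem rowsRange_sound (d : Data) (M f k : ℕ) (h : rowsRange d M f k = true) :
    ∀ j, k ≤ j → j < k + f → isFinal d j = true → rowOK d M j d.nc = true := by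
  induction f generalizing k with
  | zero => intro j h1 h2; omega
  | succ f ih =>
    rw [rowsRange_succ] at h
    cases hb : (!isFinal d k || rowOK d M k d.nc)
    · rw [hb] at h; cases h
    · rw [hb] at h
      intro j h1 h2 hj
      rcases Nat.eq_or_lt_of_le h1 with rfl | hlt
      · rw [hj] at hb
        simpa using hb
      · exact ih _ h j hlt (by omega) hj

/-- the bound given by a certificate -/
theorem card_le {d : Data} (hw : WordsOK H γ dec d)
    (hE : ∀ c k, c < d.nc → k ≤ d.mask → justE d c k = true)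
    (hM : ∀ k, k ≤ d.mask → justM d k = true)
    (hgen : Subgroup.closure (Set.range γ) = ⊤)
    (hcov : ∀ x : α, (∃ c, c < d.nc ∧ dec c = (x, true)) ∧ (∃ c, c < d.nc ∧ dec c = (x, false)))
    (M n : ℕ) (hf0 : isFinal d 0 = true) (hM0 : 0 < M) (hMle : M ≤ d.mask + 1)
    (hcnt : countFinal d M 0 0 = n)
    (hrows : ∀ k, k < M → isFinal d k = true → rowOK d M k d.nc = true) :
    Finite (G ⧸ H) ∧ Nat.card (G ⧸ H) ≤ n := by
  have hv : ValidAbove H γ dec d 0 := all_valid hw hE hM 0
  rw [countFinal_eq, zero_add, List.countP_eq_length_filter] at hcnt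
  set F := (List.range' 0 M).filter (isFinal d) with hF
  have hFmem : ∀ k, k ∈ F ↔ k < M ∧ isFinal d k = true := by
    intro k
    rw [hF, List.mem_filter, List.mem_range']
    constructor
    · rintro ⟨⟨i, hi, rfl⟩, h2⟩
      exact ⟨by omega, h2⟩
    · rintro ⟨h1, h2⟩
      exact ⟨⟨k, h1, by omega⟩, h2⟩
  let S : Set (G ⧸ H) := {q | ∃ k ∈ F, cos H γ dec d k = q}
  have hclosed : ∀ c, c < d.nc → ∀ q ∈ S, gl γ (dec c) • q ∈ S := by
    rintro c hc q ⟨k, hk, rfl⟩
    obtain ⟨hkM, hkf⟩ := (hFmem k).mp hk
    obtain ⟨hb, hlt, hfin'⟩ := rowOK_sound d M k d.nc (hrows k hkM hkf) c hc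
    refine ⟨target d 1 (entry d c k), (hFmem _).mpr ⟨hlt, hfin'⟩, ?_⟩
    obtain ⟨t1, _⟩ := target_sound hv (entry d c k)
    rw [hv.1 c k hc (by omega) hb]
    exact t1
  have hall : ∀ g : G, (∀ q ∈ S, g • q ∈ S) ∧ (∀ q ∈ S, g⁻¹ • q ∈ S) := by
    intro g
    have hg : g ∈ Subgroup.closure (Set.range γ) := by rw [hgen]; trivial
    induction hg using Subgroup.closure_induction with
    | mem x hx =>
      obtain ⟨a, rfl⟩ := hx
      obtain ⟨⟨c, hc, hdc⟩, ⟨c', hc', hdc'⟩⟩ := hcov a
      constructor
      · intro q hq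
        have := hclosed c hc q hq
        rwa [hdc] at this
      · intro q hq
        have := hclosed c' hc' q hq
        rwa [hdc'] at this
    | one => simp
    | mul x y _ _ hx hy =>
      constructor
      · intro q hq
        rw [mul_smul]
        exact hx.1 _ (hy.1 _ hq)
      · intro q hq
        rw [mul_inv_rev, mul_smul]
        exact hy.2 _ (hx.2 _ hq)
    | inv x _ hx =>
      constructor
      · exact hx.2
      · intro q hq
        rw [inv_inv]
        exact hx.1 q hq
  have h0 : ((1 : G) : G ⧸ H) ∈ S := by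
    refine ⟨0, (hFmem 0).mpr ⟨hM0, hf0⟩, cos_zero H γ dec d⟩
  have hS : ∀ q : G ⧸ H, q ∈ S := by
    intro q
    induction q using QuotientGroup.induction_on with
    | H g =>
      have := (hall g).1 _ h0
      rwa [MulAction.Quotient.smul_coe, smul_eq_mul, mul_one] at this
  have surj : Function.Surjective (fun i : Fin F.length => cos H γ dec d (F.get i)) := by
    intro q
    obtain ⟨k, hk, rfl⟩ := hS q
    obtain ⟨i, rfl⟩ := List.get_of_mem hk
    exact ⟨i, rfl⟩
  refine ⟨Finite.of_surjective _ surj, ?_⟩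
  have := Nat.card_le_card_of_surjective _ surj
  rwa [Nat.card_fin, hcnt] at this

end Sem

end Cfsg.Agent.Helper4.TC
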