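import Cfsg.Agent.Lib.Helper4.TC.Model
import Cfsg.Agent.Lib.Helper4.TC.Timed

set_option autoImplicit false
set_option linter.unusedVariables false
set_option linter.unusedSectionVars false
set_option linter.style.haveILetI false

/-! The index of a subgroup of a presented group, and the orbits of the subgroup on its cosets,
from a coset enumeration certificate and a permutation model. -/

namespace Cfsg.Agent.Helper4.TC

section Main

variable {α : Type} (R S : Set (FreeGroup α)) (dec : ℕ → Letter α) (enc : α → ℕ)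

/-- the element of the free group of a list of letter codes (application order) -/
def wordF (dec : ℕ → Letter α) (b : List ℕ) : FreeGroup α := FreeGroup.mk ((b.map dec).reverse)

theorem lift_of_eq_mk :
    (FreeGroup.lift (PresentedGroup.of (rels := R)) : FreeGroup α →* PresentedGroup R) =
      PresentedGroup.mk R := by
  ext x
  simp [PresentedGroup.of]

theorem evc_of (b : List ℕ) :
    evc (PresentedGroup.of (rels := R)) dec b = PresentedGroup.mk R (wordF dec b) := by
  unfold evc wordF
  rw [← lift_mk_reverse, lift_of_eq_mk]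

theorem toGroup_mk {P : Type*} [Group P] (f : α → P) (h : ∀ r ∈ R, FreeGroup.lift f r = 1)
    (w : FreeGroup α) : PresentedGroup.toGroup h (PresentedGroup.mk R w) = FreeGroup.lift f w := rfl

theorem toGroup_wordF {P : Type*} [Group P] (f : α → P) (h : ∀ r ∈ R, FreeGroup.lift f r = 1)
    (b : List ℕ) : PresentedGroup.toGroup h (PresentedGroup.mk R (wordF dec b)) = evc f dec b := by
  rw [toGroup_mk]
  unfold wordF evc
  rw [lift_mk_reverse]

/-! ### the static check of the words -/

def rotsOK (d : Data) (bases : List (List ℕ)) : List (ℕ × ℕ) → ℕ → Bool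
  | [], _ => true
  | r :: rs, i =>
    decide (d.relW i = (bases.getD r.1 []).rotate r.2) && lettersOK d.nc (d.relW i) &&
      rotsOK d bases rs (i + 1)

def subsOK (d : Data) : List (List ℕ) → ℕ → Bool
  | [], _ => true
  | s :: ss, i => decide (d.subW i = s) && lettersOK d.nc s && subsOK d ss (i + 1)

def wordsCheck (d : Data) (bases subsL : List (List ℕ)) (rots : List (ℕ × ℕ)) : Bool :=
  Nat.beq rots.length d.nrot && Nat.beq subsL.length d.nsub && rotsOK d bases rots 0 &&
    subsOK d subsL 0

theorem rotsOK_sound (d : Data) (bases : List (List ℕ)) (rots : List (ℕ × ℕ)) (i : ℕ)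
    (h : rotsOK d bases rots i = true) :
    ∀ j, i ≤ j → j < i + rots.length →
      (∃ b t, (b ∈ bases ∨ b = []) ∧ d.relW j = b.rotate t) ∧ ∀ c ∈ d.relW j, c < d.nc := by
  induction rots generalizing i with
  | nil => intro j h1 h2; simp at h2; omega
  | cons r rs ih =>
    unfold rotsOK at h
    simp only [Bool.and_eq_true] at h
    intro j h1 h2
    rcases Nat.eq_or_lt_of_le h1 with rfl | hlt
    · refine ⟨⟨bases.getD r.1 [], r.2, ?_, of_decide_eq_true h.1.1⟩, lettersOK_sound _ _ h.1.2⟩
      by_cases hr : r.1 < bases.length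
      · left
        rw [List.getD_eq_getElem _ _ hr]
        exact List.getElem_mem hr
      · right
        exact List.getD_eq_default _ _ (by omega)
    · exact ih _ h.2 j hlt (by simp at h2; omega)

theorem subsOK_sound (d : Data) (subsL : List (List ℕ)) (i : ℕ)
    (h : subsOK d subsL i = true) :
    ∀ j, i ≤ j → j < i + subsL.length → d.subW j ∈ subsL ∧ ∀ c ∈ d.subW j, c < d.nc := by
  induction subsL generalizing i with
  | nil => intro j h1 h2; simp at h2; omega
  | cons s ss ih =>
    unfold subsOK at h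
    simp only [Bool.and_eq_true] at h
    intro j h1 h2
    rcases Nat.eq_or_lt_of_le h1 with rfl | hlt
    · rw [of_decide_eq_true h.1.1]
      exact ⟨List.mem_cons_self, lettersOK_sound _ _ h.1.2⟩
    · obtain ⟨h3, h4⟩ := ih _ h.2 j hlt (by simp at h2; omega)
      exact ⟨List.mem_cons_of_mem _ h3, h4⟩

theorem evc_rotate {P : Type*} [Group P] (f : α → P) (b : List ℕ) (t : ℕ)
    (h : evc f dec b = 1) : evc f dec (b.rotate t) = 1 := by
  rw [List.rotate_eq_drop_append_take_mod, evc_append]
  have h2 : evc f dec (List.take (t % b.length) b ++ List.drop (t % b.length) b) = 1 := by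
    rw [List.take_append_drop]; exact h
  rw [evc_append] at h2
  have h3 := eq_inv_of_mul_eq_one_left h2
  rw [h3]
  simp

variable {R S dec enc}

theorem wordsOK_of_check (d : Data) (bases subsL : List (List ℕ)) (rots : List (ℕ × ℕ))
    (hcod : Coding dec enc d.nc)
    (hR2 : ∀ b ∈ bases, wordF dec b ∈ R) (hS2 : ∀ b ∈ subsL, wordF dec b ∈ S)
    (hwc : wordsCheck d bases subsL rots = true) :
    WordsOK ((Subgroup.closure S).map (PresentedGroup.mk R)) (PresentedGroup.of (rels := R)) dec d := by
  unfold wordsCheck at hwc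
  simp only [Bool.and_eq_true] at hwc
  obtain ⟨⟨⟨h1, h2⟩, h3⟩, h4⟩ := hwc
  have h1' : rots.length = d.nrot := Nat.eq_of_beq_eq_true h1
  have h2' : subsL.length = d.nsub := Nat.eq_of_beq_eq_true h2
  refine ⟨hcod.dec_inv, ?_, ?_, ?_, ?_⟩
  · intro i hi
    obtain ⟨⟨b, t, hb, hu⟩, _⟩ := rotsOK_sound d bases rots 0 h3 i (Nat.zero_le _) (by omega)
    rw [hu]
    apply evc_rotate
    rcases hb with hb | rfl
    · rw [evc_of]
      exact PresentedGroup.one_of_mem (hR2 b hb)
    · rfl
  · intro i hi
    exact (rotsOK_sound d bases rots 0 h3 i (Nat.zero_le _) (by omega)).2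
  · intro i hi
    obtain ⟨hm, _⟩ := subsOK_sound d subsL 0 h4 i (Nat.zero_le _) (by omega)
    rw [evc_of]
    exact Subgroup.mem_map_of_mem _ (Subgroup.subset_closure (hS2 _ hm))
  · intro i hi
    exact (subsOK_sound d subsL 0 h4 i (Nat.zero_le _) (by omega)).2

/-- the bound for the index from a certificate -/
theorem tc_bound (d : Data) (bases subsL : List (List ℕ)) (rots : List (ℕ × ℕ))
    (hcod : Coding dec enc d.nc)
    (hR2 : ∀ b ∈ bases, wordF dec b ∈ R) (hS2 : ∀ b ∈ subsL, wordF dec b ∈ S)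
    (hwc : wordsCheck d bases subsL rots = true)
    (hE : ∀ c k, c < d.nc → k ≤ d.mask → justE d c k = true)
    (hM : ∀ k, k ≤ d.mask → justM d k = true)
    (M n : ℕ) (hf0 : isFinal d 0 = true) (hM0 : 0 < M) (hMle : M ≤ d.mask + 1)
    (hcnt : countFinal d M 0 0 = n)
    (hrows : ∀ k, k < M → isFinal d k = true → rowOK d M k d.nc = true) :
    Finite (PresentedGroup R ⧸ (Subgroup.closure S).map (PresentedGroup.mk R)) ∧
      Nat.card (PresentedGroup R ⧸ (Subgroup.closure S).map (PresentedGroup.mk R)) ≤ n := by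
  refine card_le (wordsOK_of_check d bases subsL rots hcod hR2 hS2 hwc) hE hM
    (PresentedGroup.closure_range_of R) ?_ M n hf0 hM0 hMle hcnt hrows
  intro x
  refine ⟨⟨enc x, hcod.enc_lt x, hcod.dec_enc x⟩, ⟨Nat.xor (enc x) 1, hcod.nc_even _ (hcod.enc_lt x), ?_⟩⟩
  rw [hcod.dec_inv, hcod.dec_enc]
  rfl

/-- the index and the orbits from a permutation model and a bound -/
theorem model_main (m : MData) (bases subsL : List (List ℕ)) (hcod : Coding dec enc m.nc)
    (hR1 : ∀ r ∈ R, ∃ b ∈ bases, r = wordF dec b)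
    (hS1 : ∀ s ∈ S, ∃ b ∈ subsL, s = wordF dec b)
    (hS2 : ∀ b ∈ subsL, wordF dec b ∈ S)
    (hm : ModelOK m bases subsL)
    (hub : Finite (PresentedGroup R ⧸ (Subgroup.closure S).map (PresentedGroup.mk R)) ∧
      Nat.card (PresentedGroup R ⧸ (Subgroup.closure S).map (PresentedGroup.mk R)) ≤ m.n) :
    ((Subgroup.closure S).map (PresentedGroup.mk R)).index = m.n ∧
    ∃ e : (PresentedGroup R ⧸ (Subgroup.closure S).map (PresentedGroup.mk R)) ≃ Fin m.n,
      ∀ lo hi, OrbOK m subsL lo hi → ∀ q, (e q).val = lo →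
        e '' (MulAction.orbit ((Subgroup.closure S).map (PresentedGroup.mk R)) q) =
          {x : Fin m.n | lo ≤ x.val ∧ x.val < hi} := by
  set H := (Subgroup.closure S).map (PresentedGroup.mk R) with hH
  let f : α → Equiv.Perm (Fin m.n) := permG hm hcod
  have hword : ∀ b : List ℕ, (∀ c ∈ b, c < m.nc) → ∀ k : Fin m.n,
      (evc f dec b k).val = mtrace m b k.val := fun b hb k => evc_permG_apply hm hcod b hb k
  have hrel : ∀ r ∈ R, FreeGroup.lift f r = 1 := by
    intro r hr
    obtain ⟨b, hb, rfl⟩ := hR1 r hr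
    unfold wordF
    rw [lift_mk_reverse]
    ext k
    have := hword b (hm.relc b hb) k
    unfold evc at this
    rw [this, hm.rel k.val k.2 b hb]
    rfl
  let φ : PresentedGroup R →* Equiv.Perm (Fin m.n) := PresentedGroup.toGroup hrel
  have hφw : ∀ b : List ℕ, φ (PresentedGroup.mk R (wordF dec b)) = evc f dec b :=
    fun b => toGroup_wordF R dec f hrel b
  let x0 : Fin m.n := ⟨0, hm.npos⟩
  have hHeq : H = Subgroup.closure ((PresentedGroup.mk R) '' S) := by
    rw [hH, MonoidHom.map_closure]
  have hfix : ∀ h ∈ H, φ h x0 = x0 := by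
    intro h hh
    rw [hHeq] at hh
    induction hh using Subgroup.closure_induction with
    | mem t ht =>
      obtain ⟨s, hs, rfl⟩ := ht
      obtain ⟨b, hb, rfl⟩ := hS1 s hs
      rw [hφw]
      apply Fin.ext
      rw [hword b (hm.subc b hb)]
      exact hm.sub0 b hb
    | one => simp
    | mul a b _ _ ha hb => rw [map_mul, Equiv.Perm.mul_apply, hb, ha]
    | inv a _ ha => rw [map_inv, Equiv.Perm.inv_eq_iff_eq, ha]
  have hglφ : ∀ c, c < m.nc → ∀ k : Fin m.n,
      (φ (gl (PresentedGroup.of (rels := R)) (dec c)) k).val = m.at c k.val := by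
    intro c hc k
    rw [map_gl]
    have : (fun x => φ (PresentedGroup.of (rels := R) x)) = f := by
      funext x
      exact PresentedGroup.toGroup.of hrel
    rw [this, gl_permG hm hcod c hc, permC_apply hm hcod.nc_even c hc]
  have htr : ∀ x : Fin m.n, ∃ g, φ g x0 = x := by
    intro x
    obtain ⟨k, hk⟩ := x
    induction hD : m.tdepOf k using Nat.strong_induction_on generalizing k with
    | _ D ih =>
      by_cases h0 : k = 0
      · subst h0
        exact ⟨1, by simp [x0]⟩
      · obtain ⟨h1, h1', h2, h3⟩ := hm.tree k (by omega) (by omega)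
        obtain ⟨g, hg⟩ := ih (m.tdepOf (m.tparOf k)) (by omega) (m.tparOf k) h1 rfl
        refine ⟨gl (PresentedGroup.of (rels := R)) (dec (m.tletOf k)) * g, ?_⟩
        rw [map_mul, Equiv.Perm.mul_apply, hg]
        apply Fin.ext
        rw [hglφ _ h2]
        exact h3
  have hcard : Nat.card (PresentedGroup R ⧸ H) ≤ Nat.card (Fin m.n) := by
    rw [Nat.card_fin]; exact hub.2
  obtain ⟨e, he, he0⟩ := exists_equiv_of_transitive H φ x0 hfix htr hub.1 hcard
  refine ⟨by rw [index_eq_of_equiv H e, Nat.card_fin], e, ?_⟩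
  intro lo hi ho q hq
  rw [image_orbit H φ e he q]
  have hset : {x | ∃ h ∈ H, φ h (e q) = x} =
      {x | ∃ h ∈ Subgroup.closure ((PresentedGroup.mk R) '' S), φ h (e q) = x} := by
    ext x
    constructor
    · rintro ⟨h, hh, rfl⟩
      exact ⟨h, hHeq ▸ hh, rfl⟩
    · rintro ⟨h, hh, rfl⟩
      exact ⟨h, hHeq ▸ hh, rfl⟩
  rw [hset]
  have hfinY : ({x : Fin m.n | lo ≤ x.val ∧ x.val < hi} : Set (Fin m.n)).Finite := Set.toFinite _
  apply orbit_eq_of_closed φ _ _ hfinY (e q)
  · show lo ≤ (e q).val ∧ (e q).val < hi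
    rw [hq]
    exact ⟨le_refl _, ho.lt⟩
  · rintro t ⟨s, hs, rfl⟩ y ⟨hy1, hy2⟩
    obtain ⟨b, hb, rfl⟩ := hS1 s hs
    show lo ≤ (φ _ y).val ∧ (φ _ y).val < hi
    rw [hφw, hword b (hm.subc b hb)]
    exact ho.closed y.val hy1 hy2 b hb
  · intro y hy
    obtain ⟨k, hk⟩ := y
    induction k using Nat.strong_induction_on with
    | _ k ih =>
      obtain ⟨hy1, hy2⟩ := hy
      simp only at hy1 hy2
      by_cases h0 : k = lo
      · refine ⟨1, Subgroup.one_mem _, ?_⟩
        rw [map_one, Equiv.Perm.one_apply]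
        apply Fin.ext
        show (e q).val = k
        rw [hq, h0]
      · obtain ⟨h1, h2, s, hs, h3⟩ := ho.reach k (by omega) hy2
        obtain ⟨g, hg, hgq⟩ := ih (m.oparOf k) h2 (by omega) ⟨h1, by simp only; omega⟩
        refine ⟨PresentedGroup.mk R (wordF dec s) * g,
          Subgroup.mul_mem _ (Subgroup.subset_closure ⟨_, hS2 s hs, rfl⟩) hg, ?_⟩
        rw [map_mul, Equiv.Perm.mul_apply, hgq, hφw]
        apply Fin.ext
        rw [hword s (hm.subc s hs)]
        exact h3

/-- an orbit which is a range of points -/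
theorem exists_orbit {Q : Type*} {n : ℕ} (e : Q ≃ Fin n) (orb : Q → Set Q) (lo hi : ℕ)
    (h1 : lo < hi) (h2 : hi ≤ n)
    (he : ∀ q, (e q).val = lo → e '' orb q = {x : Fin n | lo ≤ x.val ∧ x.val < hi}) :
    ∃ q, (orb q).ncard = hi - lo ∧ ∀ q', q' ∈ orb q ↔ (lo ≤ (e q').val ∧ (e q').val < hi) := by
  refine ⟨e.symm ⟨lo, by omega⟩, ?_, ?_⟩
  · exact ncard_of_equiv_range e _ lo hi h2 (he _ (by simp))
  · intro q'
    have := he (e.symm ⟨lo, by omega⟩) (by simp)
    constructor
    · intro hq
      have h3 : e q' ∈ e '' orb (e.symm ⟨lo, by omega⟩) := ⟨q', hq, rfl⟩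
      rw [this] at h3
      exact h3
    · intro hq
      have h3 : e q' ∈ e '' orb (e.symm ⟨lo, by omega⟩) := by rw [this]; exact hq
      obtain ⟨q'', hq'', h4⟩ := h3
      rwa [e.injective h4] at hq''

end Main

end Cfsg.Agent.Helper4.TC
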