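import Cfsg.Agent.Lib.Helper4.TC.Perm
import Cfsg.Prelude.Def_SporadicB

set_option autoImplicit false
set_option linter.unusedVariables false
set_option linter.unusedSectionVars false
set_option linter.style.haveILetI false

/-! A perfect group of twice the order of a non-abelian simple group mapping onto it is a
non-split double cover of it. -/

namespace Cfsg.Agent.Helper4.TC

section Cover

variable {H K : Type*} [Group H] [Group K]

theorem center_eq_bot_of_simple [IsSimpleGroup K] (hna : ∃ a b : K, a * b ≠ b * a) :
    Subgroup.center K = ⊥ := by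
  rcases IsSimpleGroup.eq_bot_or_eq_top_of_normal (Subgroup.center K) inferInstance with h | h
  · exact h
  · exfalso
    obtain ⟨a, b, hab⟩ := hna
    apply hab
    have ha : a ∈ Subgroup.center K := by rw [h]; trivial
    exact (Subgroup.mem_center_iff.mp ha b).symm

/-- a normal subgroup of order two is central -/
theorem le_center_of_card_two (Z : Subgroup H) [hn : Z.Normal] (hZ : Nat.card Z = 2) :
    Z ≤ Subgroup.center H := by
  intro z hz
  rw [Subgroup.mem_center_iff]
  intro g
  by_cases h1 : z = 1
  · rw [h1]; simp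
  · have hc : g * z * g⁻¹ ∈ Z := hn.conj_mem z hz g
    have h2 : g * z * g⁻¹ ≠ 1 := by
      intro h
      apply h1
      have : g * z = g := by rw [← mul_inv_eq_one]; exact h
      exact mul_eq_left.mp this
    obtain ⟨y, _, hy⟩ := (Nat.card_eq_two_iff' (1 : Z)).mp hZ
    have e1 : (⟨z, hz⟩ : Z) = y := hy _ (fun h => h1 (congrArg Subtype.val h))
    have e2 : (⟨g * z * g⁻¹, hc⟩ : Z) = y := hy _ (fun h => h2 (congrArg Subtype.val h))
    have e3 : g * z * g⁻¹ = z := congrArg Subtype.val (e2.trans e1.symm)
    exact mul_inv_eq_iff_eq_mul.mp e3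

theorem nonsplit_double_cover_of [Finite H] [Finite K] (π : H →* K)
    (hπ : Function.Surjective π) (hcard : Nat.card H = 2 * Nat.card K) [IsSimpleGroup K]
    (hna : ∃ a b : K, a * b ≠ b * a) (hperf : commutator H = ⊤) :
    Cfsg.IsNonsplitDoubleCover H K := by
  have hker : Nat.card π.ker = 2 := by
    have h1 := π.ker.card_mul_index
    have h2 : π.ker.index = Nat.card K := by
      rw [Subgroup.index_ker, MonoidHom.range_eq_top.mpr hπ]
      exact Nat.card_congr (Subgroup.topEquiv).toEquiv
    rw [h2, hcard] at h1
    have hpos : 0 < Nat.card K := Nat.card_pos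
    exact Nat.eq_of_mul_eq_mul_right hpos h1
  have hle : π.ker ≤ Subgroup.center H := le_center_of_card_two π.ker hker
  have hge : Subgroup.center H ≤ π.ker := by
    intro z hz
    rw [MonoidHom.mem_ker]
    have h1 : π z ∈ Subgroup.center K := by
      rw [Subgroup.mem_center_iff]
      intro k
      obtain ⟨g, rfl⟩ := hπ k
      rw [← map_mul, ← map_mul, Subgroup.mem_center_iff.mp hz g]
    rw [center_eq_bot_of_simple hna] at h1
    exact h1
  have hZ : Subgroup.center H = π.ker := le_antisymm hge hle
  have hc2 : Nat.card (Subgroup.center H) = 2 := by rw [hZ]; exact hker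
  refine ⟨hc2, ?_, ?_⟩
  · exact ⟨(QuotientGroup.quotientMulEquivOfEq hZ).trans
      (QuotientGroup.quotientKerEquivOfSurjective π hπ)⟩
  · intro L hL
    have h1 : L.index = 2 := by
      rw [hL.index_eq_card, hc2]
    haveI : L.Normal := Subgroup.normal_of_index_eq_two h1
    have h2 : commutator H ≤ L := by
      have hc : Nat.card (H ⧸ L) = 2 := h1
      haveI : Fact (Nat.Prime 2) := ⟨Nat.prime_two⟩
      haveI : IsCyclic (H ⧸ L) := isCyclic_of_prime_card hc
      letI : CommGroup (H ⧸ L) := IsCyclic.commGroup
      have := Abelianization.commutator_subset_ker (QuotientGroup.mk' L)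
      rwa [QuotientGroup.ker_mk'] at this
    rw [hperf, top_le_iff] at h2
    rw [h2, Subgroup.index_top] at h1
    omega

end Cover

section Main

variable {G P K : Type*} [Group G] [Group P] [Group K]

theorem not_comm_of_simple_of_not_prime [IsSimpleGroup K] (h : ¬ (Nat.card K).Prime) :
    ∃ a b : K, a * b ≠ b * a := by
  by_contra hc
  push Not at hc
  letI : CommGroup K := { ‹Group K› with mul_comm := hc }
  exact h (IsSimpleGroup.prime_card (α := K))

/-- a subgroup which is the image of a perfect group of at most its order mapping onto a simple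
group of half the order is a non-split double cover -/
theorem double_cover_main (Hs : Subgroup G) (ψ : P →* G) (hle : Hs ≤ ψ.range) (k : ℕ)
    (hk : 0 < k) (hHcard : Nat.card Hs = 2 * k) (hP : Finite P ∧ Nat.card P ≤ 2 * k)
    (π : P →* K) (hπ : Function.Surjective π) [IsSimpleGroup K] (hKcard : Nat.card K = k)
    (hkprime : ¬ k.Prime) (hperf : commutator P = ⊤) :
    Cfsg.IsNonsplitDoubleCover Hs K := by
  haveI := hP.1
  haveI : Finite K := Nat.finite_of_card_ne_zero (by omega)
  haveI : Finite ψ.range := Finite.of_surjective ψ.rangeRestrict ψ.rangeRestrict_surjective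
  have h1 : Nat.card ψ.range ≤ Nat.card P :=
    Nat.card_le_card_of_surjective ψ.rangeRestrict ψ.rangeRestrict_surjective
  have hEq : Hs = ψ.range := Subgroup.eq_of_le_of_card_ge hle (by omega)
  have h2 : Nat.card ψ.range = 2 * k := by rw [← hEq]; exact hHcard
  have hbij : Function.Bijective ψ.rangeRestrict :=
    Function.Surjective.bijective_of_nat_card_le ψ.rangeRestrict_surjective (by omega)
  let e0 : P ≃* ψ.range := MulEquiv.ofBijective ψ.rangeRestrict hbij
  let e : P ≃* Hs := e0.trans (MulEquiv.subgroupCongr hEq.symm)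
  haveI : Finite Hs := Finite.of_equiv P e.toEquiv
  let πH : Hs →* K := π.comp e.symm.toMonoidHom
  have hπH : Function.Surjective πH := hπ.comp e.symm.surjective
  have hperfH : commutator Hs = ⊤ := by
    have h3 : (commutator P).map e.toMonoidHom = commutator Hs := by
      rw [commutator_def, commutator_def, Subgroup.map_commutator,
        Subgroup.map_top_of_surjective _ e.surjective]
    rw [← h3, hperf, Subgroup.map_top_of_surjective _ e.surjective]
  exact nonsplit_double_cover_of πH hπH (by rw [hHcard, hKcard])
    (not_comm_of_simple_of_not_prime (by rw [hKcard]; exact hkprime)) hperfH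

/-- the same for any group isomorphic to the subgroup -/
theorem double_cover_main' (Hs : Subgroup G) (ψ : P →* G) (hle : Hs ≤ ψ.range) (k : ℕ)
    (hk : 0 < k) (hHcard : Nat.card Hs = 2 * k) (hP : Finite P ∧ Nat.card P ≤ 2 * k)
    (π : P →* K) (hπ : Function.Surjective π) [IsSimpleGroup K] (hKcard : Nat.card K = k)
    (hkprime : ¬ k.Prime) (hperf : commutator P = ⊤) {A : Type*} [Group A] (f : Hs ≃* A) :
    Cfsg.IsNonsplitDoubleCover A K := by
  haveI := hP.1
  haveI : Finite K := Nat.finite_of_card_ne_zero (by omega)
  haveI : Finite ψ.range := Finite.of_surjective ψ.rangeRestrict ψ.rangeRestrict_surjective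
  have h1 : Nat.card ψ.range ≤ Nat.card P :=
    Nat.card_le_card_of_surjective ψ.rangeRestrict ψ.rangeRestrict_surjective
  have hEq : Hs = ψ.range := Subgroup.eq_of_le_of_card_ge hle (by omega)
  have h2 : Nat.card ψ.range = 2 * k := by rw [← hEq]; exact hHcard
  have hbij : Function.Bijective ψ.rangeRestrict :=
    Function.Surjective.bijective_of_nat_card_le ψ.rangeRestrict_surjective (by omega)
  let e0 : P ≃* ψ.range := MulEquiv.ofBijective ψ.rangeRestrict hbij
  let e : P ≃* A := (e0.trans (MulEquiv.subgroupCongr hEq.symm)).trans f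
  haveI : Finite A := Finite.of_equiv P e.toEquiv
  let πA : A →* K := π.comp e.symm.toMonoidHom
  have hπA : Function.Surjective πA := hπ.comp e.symm.surjective
  have hperfA : commutator A = ⊤ := by
    have h3 : (commutator P).map e.toMonoidHom = commutator A := by
      rw [commutator_def, commutator_def, Subgroup.map_commutator,
        Subgroup.map_top_of_surjective _ e.surjective]
    rw [← h3, hperf, Subgroup.map_top_of_surjective _ e.surjective]
  have hAcard : Nat.card A = 2 * Nat.card K := by
    rw [← Nat.card_congr f.toEquiv, hHcard, hKcard]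
  exact nonsplit_double_cover_of πA hπA hAcard
    (not_comm_of_simple_of_not_prime (by rw [hKcard]; exact hkprime)) hperfA

end Main

section Pres

variable {α : Type} (R R' : Set (FreeGroup α))

/-- a presented group is perfect when making its generators commute gives a trivial group -/
theorem commutator_eq_top_of_trivial
    (hR' : ∀ r ∈ R', r ∈ R ∨ ∃ u v : FreeGroup α, r = u * v * u⁻¹ * v⁻¹)
    (htriv : Finite (PresentedGroup R') ∧ Nat.card (PresentedGroup R') ≤ 1) :
    commutator (PresentedGroup R) = ⊤ := by
  set N := commutator (PresentedGroup R) with hN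
  let π : PresentedGroup R →* PresentedGroup R ⧸ N := QuotientGroup.mk' N
  let f : α → PresentedGroup R ⧸ N := fun a => π (PresentedGroup.of a)
  have hlift : ∀ w : FreeGroup α, FreeGroup.lift f w = π (PresentedGroup.mk R w) := by
    intro w
    have : FreeGroup.lift f = π.comp (PresentedGroup.mk R) := by
      ext a
      simp [f, PresentedGroup.of]
    rw [this]
    rfl
  have hrel : ∀ r ∈ R', FreeGroup.lift f r = 1 := by
    intro r hr
    rw [hlift]
    rcases hR' r hr with h | ⟨u, v, rfl⟩
    · rw [PresentedGroup.one_of_mem h, map_one]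
    · apply (QuotientGroup.eq_one_iff _).mpr
      rw [hN, commutator_def, map_mul, map_mul, map_mul, map_inv, map_inv]
      exact Subgroup.commutator_mem_commutator (Subgroup.mem_top _) (Subgroup.mem_top _)
  let ψ : PresentedGroup R' →* PresentedGroup R ⧸ N := PresentedGroup.toGroup hrel
  have hsurj : Function.Surjective ψ := by
    intro q
    obtain ⟨g, rfl⟩ := QuotientGroup.mk'_surjective N q
    obtain ⟨w, rfl⟩ := PresentedGroup.mk_surjective R g
    refine ⟨PresentedGroup.mk R' w, ?_⟩
    show PresentedGroup.toGroup hrel (PresentedGroup.mk R' w) = _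
    rw [toGroup_mk, hlift]
  haveI := htriv.1
  have h1 : Nat.card (PresentedGroup R ⧸ N) ≤ 1 :=
    (Nat.card_le_card_of_surjective ψ hsurj).trans htriv.2
  haveI : Finite (PresentedGroup R ⧸ N) := Finite.of_surjective ψ hsurj
  have h2 : Subsingleton (PresentedGroup R ⧸ N) := by
    rw [← Finite.card_le_one_iff_subsingleton]
    exact h1
  exact QuotientGroup.subgroup_eq_top_of_subsingleton N h2

end Pres

section CommWord

variable {α : Type} {dec : ℕ → Letter α} {enc : α → ℕ} {nc : ℕ}

/-- the word is a commutator of two letters -/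
def isCommWord : List ℕ → Bool
  | [c1, c2, c3, c4] => Nat.beq c3 (Nat.xor c1 1) && Nat.beq c4 (Nat.xor c2 1)
  | _ => false

theorem wordF_comm (hcod : Coding dec enc nc) (b : List ℕ) (h : isCommWord b = true) :
    ∃ u v : FreeGroup α, wordF dec b = u * v * u⁻¹ * v⁻¹ := by
  match b, h with
  | [c1, c2, c3, c4], h =>
    unfold isCommWord at h
    rw [Bool.and_eq_true] at h
    have h3 : c3 = Nat.xor c1 1 := Nat.eq_of_beq_eq_true h.1
    have h4 : c4 = Nat.xor c2 1 := Nat.eq_of_beq_eq_true h.2
    subst h3 h4
    refine ⟨FreeGroup.mk [dec (Nat.xor c2 1)], FreeGroup.mk [dec (Nat.xor c1 1)], ?_⟩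
    unfold wordF
    have e1 : (FreeGroup.mk [dec (Nat.xor c2 1)])⁻¹ = FreeGroup.mk [dec c2] := by
      rw [FreeGroup.inv_mk, hcod.dec_inv]
      simp [FreeGroup.invRev, linv]
    have e2 : (FreeGroup.mk [dec (Nat.xor c1 1)])⁻¹ = FreeGroup.mk [dec c1] := by
      rw [FreeGroup.inv_mk, hcod.dec_inv]
      simp [FreeGroup.invRev, linv]
    rw [e1, e2, FreeGroup.mul_mk, FreeGroup.mul_mk, FreeGroup.mul_mk]
    rfl

end CommWord

section Homs

variable {α β : Type} {dec : ℕ → Letter α} {dec' : ℕ → Letter β}

/-- the homomorphism from the group given by relators of a subgroup -/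
theorem exists_stage_hom (R R' S : Set (FreeGroup α)) (B B' SL : List (List ℕ)) (u : α → Bool)
    (hR2 : ∀ b ∈ B, wordF dec b ∈ R)
    (hR1' : ∀ r ∈ R', ∃ b ∈ B', r = wordF dec b)
    (hS1 : ∀ s ∈ S, ∃ b ∈ SL, s = wordF dec b)
    (hSu : ∀ s ∈ SL, filt dec u s = s)
    (hB' : ∀ b ∈ B', filt dec u b = [] ∨ filt dec u b ∈ B) :
    ∃ ψ : PresentedGroup R' →* PresentedGroup R,
      (Subgroup.closure S).map (PresentedGroup.mk R) ≤ ψ.range := by
  let f : α → PresentedGroup R := fun x => if u x then PresentedGroup.of x else 1
  have hf : ∀ b : List ℕ, FreeGroup.lift f (wordF dec b) =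
      PresentedGroup.mk R (wordF dec (filt dec u b)) := by
    intro b
    rw [lift_wordF, evc_kill, evc_of]
  have hrel : ∀ r ∈ R', FreeGroup.lift f r = 1 := by
    intro r hr
    obtain ⟨b, hb, rfl⟩ := hR1' r hr
    rw [hf]
    rcases hB' b hb with h | h
    · rw [h]
      rfl
    · exact PresentedGroup.one_of_mem (hR2 _ h)
  refine ⟨PresentedGroup.toGroup hrel, ?_⟩
  rw [MonoidHom.map_closure, Subgroup.closure_le]
  rintro _ ⟨s, hs, rfl⟩
  obtain ⟨b, hb, rfl⟩ := hS1 s hs
  refine ⟨PresentedGroup.mk R' (wordF dec b), ?_⟩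
  show PresentedGroup.toGroup hrel (PresentedGroup.mk R' (wordF dec b)) = _
  rw [toGroup_mk, hf, hSu b hb]

theorem evc_translate {P : Type*} [Group P] (g : β → P) (σ : α → Option β) (τ : ℕ → Option ℕ)
    (b : List ℕ)
    (hτ : ∀ c ∈ b, (σ (dec c).1).map (fun y => (y, (dec c).2)) = (τ c).map dec') :
    evc (fun x => match σ x with | some y => g y | none => 1) dec b =
      evc g dec' (b.filterMap τ) := by
  induction b with
  | nil => rfl
  | cons c cs ih =>
    rw [evc_cons, ih (fun c' hc' => hτ c' (List.mem_cons_of_mem _ hc'))]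
    have h := hτ c List.mem_cons_self
    rw [List.filterMap_cons]
    cases hs : σ (dec c).1 with
    | none =>
      rw [hs] at h
      cases ht : τ c with
      | none =>
        have : gl (fun x => match σ x with | some y => g y | none => 1) (dec c) = 1 := by
          unfold gl
          simp only [hs]
          split_ifs <;> simp
        rw [this, mul_one]
      | some c' => rw [ht] at h; simp at h
    | some y =>
      rw [hs] at h
      cases ht : τ c with
      | none => rw [ht] at h; simp at h
      | some c' =>
        rw [ht] at h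
        simp only [Option.map_some, Option.some.injEq] at h
        rw [evc_cons]
        congr 1
        unfold gl
        rw [← h]
        simp only [hs]

/-- a homomorphism onto a presented group on other generators -/
theorem exists_onto_hom (R' : Set (FreeGroup α)) (Q : Set (FreeGroup β))
    (B' BQ : List (List ℕ)) (σ : α → Option β) (τ : ℕ → Option ℕ)
    (hR1' : ∀ r ∈ R', ∃ b ∈ B', r = wordF dec b)
    (hQ2 : ∀ b ∈ BQ, wordF dec' b ∈ Q)
    (hτ : ∀ b ∈ B', ∀ c ∈ b, (σ (dec c).1).map (fun y => (y, (dec c).2)) = (τ c).map dec')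
    (hB : ∀ b ∈ B', b.filterMap τ = [] ∨ b.filterMap τ ∈ BQ)
    (hσ : ∀ y : β, ∃ x, σ x = some y) :
    ∃ π : PresentedGroup R' →* PresentedGroup Q, Function.Surjective π := by
  let f : α → PresentedGroup Q := fun x => match σ x with
    | some y => PresentedGroup.of y
    | none => 1
  have hrel : ∀ r ∈ R', FreeGroup.lift f r = 1 := by
    intro r hr
    obtain ⟨b, hb, rfl⟩ := hR1' r hr
    rw [lift_wordF, evc_translate PresentedGroup.of σ τ b (hτ b hb), evc_of]
    rcases hB b hb with h | h
    · rw [h]
      rfl
    · exact PresentedGroup.one_of_mem (hQ2 _ h)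
  refine ⟨PresentedGroup.toGroup hrel, ?_⟩
  rw [← MonoidHom.range_eq_top, eq_top_iff, ← PresentedGroup.closure_range_of, Subgroup.closure_le]
  rintro _ ⟨y, rfl⟩
  obtain ⟨x, hx⟩ := hσ y
  refine ⟨PresentedGroup.of x, ?_⟩
  rw [PresentedGroup.toGroup.of]
  show (match σ x with | some y => PresentedGroup.of y | none => 1) = _
  rw [hx]

end Homs

end Cfsg.Agent.Helper4.TC
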