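import Cfsg.Agent.Lib.Helper4.TC.Embed

set_option autoImplicit false
set_option linter.unusedVariables false
set_option linter.unusedSectionVars false
set_option linter.style.haveILetI false

/-! Further lemmas on subgroups given by homomorphisms from presented simple groups. -/

namespace Cfsg.Agent.Helper4.TC

section Pieces

variable {α : Type} {R : Set (FreeGroup α)} {dec : ℕ → Letter α}

/-- a concatenation of words whose classes lie in a subgroup has its class in the subgroup -/
theorem mk_flatten_mem (H : Subgroup (PresentedGroup R)) (pieces : List (List ℕ))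
    (hp : ∀ b ∈ pieces, PresentedGroup.mk R (wordF dec b) ∈ H) :
    PresentedGroup.mk R (wordF dec pieces.flatten) ∈ H := by
  induction pieces with
  | nil =>
    have : PresentedGroup.mk R (wordF dec ([] : List ℕ)) = 1 := by
      rw [← evc_of]; rfl
    rw [List.flatten_nil, this]
    exact H.one_mem
  | cons b bs ih =>
    rw [List.flatten_cons, ← evc_of, evc_append, evc_of, evc_of]
    exact H.mul_mem (ih fun b' hb' => hp b' (List.mem_cons_of_mem _ hb')) (hp b List.mem_cons_self)

end Pieces

section Gens

variable {β : Type} {R' : Set (FreeGroup β)} {A : Type*} [Group A]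

/-- the range of a homomorphism from a presented group lies in a subgroup as soon as the images
of the generators do -/
theorem range_le_of_gens (θ : PresentedGroup R' →* A) (K : Subgroup A)
    (h : ∀ x, θ (PresentedGroup.of x) ∈ K) : θ.range ≤ K := by
  have h1 : (⊤ : Subgroup (PresentedGroup R')) ≤ K.comap θ := by
    rw [← PresentedGroup.closure_range_of, Subgroup.closure_le]
    rintro _ ⟨x, rfl⟩
    exact h x
  rintro _ ⟨y, rfl⟩
  exact h1 (Subgroup.mem_top y)

end Gens

section IndexTwo

variable {G : Type*} [Group G]

/-- a non-trivial homomorphism from a simple group of half the order of the subgroup `H`, with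
range in `H`, gives a normal subgroup of index two of `H` isomorphic to the simple group -/
theorem index_two_of_hom {P : Type*} [Group P] [IsSimpleGroup P] (θ : P →* G)
    (hθ : ∃ x, θ x ≠ 1) (H : Subgroup G) [Finite H] (hle : θ.range ≤ H)
    (hcard : Nat.card H = 2 * Nat.card P) :
    ∃ N : Subgroup H, N.Normal ∧ N.index = 2 ∧ Nonempty (N ≃* P) := by
  have hinj : Function.Injective θ := by
    rw [← MonoidHom.ker_eq_bot_iff]
    rcases IsSimpleGroup.eq_bot_or_eq_top_of_normal θ.ker inferInstance with h | h
    · exact h
    · exfalso
      obtain ⟨x, hx⟩ := hθ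
      apply hx
      have : x ∈ θ.ker := by rw [h]; trivial
      exact this
  let e1 : P ≃* θ.range := MonoidHom.ofInjective hinj
  let e2 : (θ.range).subgroupOf H ≃* θ.range := Subgroup.subgroupOfEquivOfLe hle
  let e : (θ.range).subgroupOf H ≃* P := e2.trans e1.symm
  have hc : Nat.card ((θ.range).subgroupOf H) = Nat.card P := Nat.card_congr e.toEquiv
  have hpos : 0 < Nat.card P := by
    rcases Nat.eq_zero_or_pos (Nat.card P) with h0 | h0
    · rw [h0] at hcard
      have := Nat.card_pos (α := H)
      omega
    · exact h0
  have hidx : ((θ.range).subgroupOf H).index = 2 := by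
    have h1 := ((θ.range).subgroupOf H).card_mul_index
    rw [hc, hcard, mul_comm 2] at h1
    exact Nat.eq_of_mul_eq_mul_left hpos h1
  exact ⟨(θ.range).subgroupOf H, Subgroup.normal_of_index_eq_two hidx, hidx, ⟨e⟩⟩

end IndexTwo

end Cfsg.Agent.Helper4.TC
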