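import Cfsg.Agent.Lib.Helper4.TC.MatData
import Cfsg.Agent.Lib.Helper4.TC.Embed2

set_option autoImplicit false
set_option linter.unusedVariables false
set_option linter.unusedSectionVars false
set_option linter.style.haveILetI false

/-! Homomorphisms from presented groups into general linear groups given by explicit matrices,
and from perfect simple groups into the commutator subgroup modulo its centre. -/

namespace Cfsg.Agent.Helper4.TC

section GLHom

variable {n : ℕ} {R : Type} [CommRing R] {κ : Type} [Fintype κ] [DecidableEq κ] (ε : κ ≃ Fin n)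
variable {α : Type} (D D' : α → MatD n R)
  (h1 : ∀ x, (D x).mul (D' x) = MatD.one) (h2 : ∀ x, (D' x).mul (D x) = MatD.one)

/-- the invertible matrix of a generator -/
def glOf (x : α) : GL κ R :=
  ⟨(D x).toMatE ε, (D' x).toMatE ε, by rw [← MatD.toMatE_mul, h1, MatD.toMatE_one],
    by rw [← MatD.toMatE_mul, h2, MatD.toMatE_one]⟩

/-- the data of a letter -/
def dlM (l : Letter α) : MatD n R := if l.2 then D l.1 else D' l.1

theorem coe_gl_gl (l : Letter α) :
    ((gl (glOf ε D D' h1 h2) l : GL κ R) : Matrix κ κ R) = (dlM D D' l).toMatE ε := by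
  rcases l with ⟨x, s⟩
  cases s <;> rfl

theorem coe_ev_gl (ls : List (Letter α)) :
    ((ev (glOf ε D D' h1 h2) ls : GL κ R) : Matrix κ κ R) = (MatD.evM (dlM D D') ls).toMatE ε := by
  induction ls with
  | nil => exact (MatD.toMatE_one ε).symm
  | cons l ls ih =>
    show ((ev (glOf ε D D' h1 h2) ls * gl (glOf ε D D' h1 h2) l : GL κ R) : Matrix κ κ R) =
      ((MatD.evM (dlM D D') ls).mul (dlM D D' l)).toMatE ε
    rw [MatD.toMatE_mul, ← ih, ← coe_gl_gl ε D D' h1 h2 l]
    rfl

theorem ev_gl_eq_one (ls : List (Letter α)) (h : MatD.evM (dlM D D') ls = MatD.one) :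
    ev (glOf ε D D' h1 h2) ls = 1 := by
  apply Units.ext
  rw [coe_ev_gl, h, MatD.toMatE_one]
  rfl

/-- the homomorphism from a presented group given by invertible matrices -/
theorem exists_hom_gl (Rs : Set (FreeGroup α)) (dec : ℕ → Letter α) (bases : List (List ℕ))
    (hR1 : ∀ r ∈ Rs, ∃ b ∈ bases, r = wordF dec b)
    (hchk : ∀ b ∈ bases, MatD.evM (dlM D D') (b.map dec) = MatD.one) :
    ∃ φ : PresentedGroup Rs →* GL κ R, ∀ x, φ (PresentedGroup.of x) = glOf ε D D' h1 h2 x := by
  have hf : ∀ r ∈ Rs, FreeGroup.lift (glOf ε D D' h1 h2) r = 1 := by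
    intro r hr
    obtain ⟨b, hb, rfl⟩ := hR1 r hr
    rw [lift_wordF]
    exact ev_gl_eq_one ε D D' h1 h2 _ (hchk b hb)
  exact ⟨PresentedGroup.toGroup hf, fun x => PresentedGroup.toGroup.of hf⟩

end GLHom

section Perfect

open scoped commutatorElement

variable {P G : Type*} [Group P] [Group G]

theorem commutator_eq_top_of_simple [IsSimpleGroup P] (hna : ∃ a b : P, a * b ≠ b * a) :
    commutator P = ⊤ := by
  rcases IsSimpleGroup.eq_bot_or_eq_top_of_normal (commutator P) inferInstance with h | h
  · exfalso
    obtain ⟨a, b, hab⟩ := hna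
    have h1 : ⁅a, b⁆ ∈ commutator P :=
      Subgroup.commutator_mem_commutator (Subgroup.mem_top a) (Subgroup.mem_top b)
    rw [h, Subgroup.mem_bot, commutatorElement_eq_one_iff_mul_comm] at h1
    exact hab h1
  · exact h

/-- a non-trivial homomorphism from a non-abelian simple group into a group gives an injective
homomorphism into the commutator subgroup modulo its centre -/
theorem exists_hom_commutator_mod_center [IsSimpleGroup P] (hna : ∃ a b : P, a * b ≠ b * a)
    (θ : P →* G) (hθ : ∃ x, θ x ≠ 1) :
    ∃ π : P →* (commutator G ⧸ Subgroup.center (commutator G)), Function.Injective π := by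
  have hperf := commutator_eq_top_of_simple hna
  have hinjθ : Function.Injective θ := by
    rw [← MonoidHom.ker_eq_bot_iff]
    rcases IsSimpleGroup.eq_bot_or_eq_top_of_normal θ.ker inferInstance with h | h
    · exact h
    · exfalso
      obtain ⟨x, hx⟩ := hθ
      apply hx
      have : x ∈ θ.ker := by rw [h]; trivial
      exact this
  have hle : ∀ p, θ p ∈ commutator G := by
    intro p
    have h1 : θ p ∈ (commutator P).map θ := by
      rw [hperf]; exact Subgroup.mem_map_of_mem θ (Subgroup.mem_top p)
    rw [commutator_def, Subgroup.map_commutator] at h1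
    exact Subgroup.commutator_mono le_top le_top h1
  let θ' : P →* commutator G := θ.codRestrict (commutator G) hle
  have hinj' : Function.Injective θ' := by
    intro a b hab
    apply hinjθ
    exact congrArg Subtype.val hab
  let π : P →* (commutator G ⧸ Subgroup.center (commutator G)) :=
    (QuotientGroup.mk' (Subgroup.center (commutator G))).comp θ'
  refine ⟨π, ?_⟩
  rw [← MonoidHom.ker_eq_bot_iff]
  rcases IsSimpleGroup.eq_bot_or_eq_top_of_normal π.ker inferInstance with h | h
  · exact h
  · exfalso
    obtain ⟨a, b, hab⟩ := hna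
    apply hab
    apply hinj'
    have ha : θ' a ∈ Subgroup.center (commutator G) := by
      have : a ∈ π.ker := by rw [h]; trivial
      rw [MonoidHom.mem_ker] at this
      exact (QuotientGroup.eq_one_iff _).mp this
    rw [map_mul, map_mul]
    exact (Subgroup.mem_center_iff.mp ha (θ' b)).symm

end Perfect

section Equiv

variable {P G : Type*} [Group P] [Group G]

/-- a subgroup in the range of a homomorphism from a simple group of the same order is
isomorphic to it -/
theorem equiv_of_le_range [IsSimpleGroup P] [Finite P] (θ : P →* G) (H : Subgroup G)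
    (hle : H ≤ θ.range) (hcard : Nat.card H = Nat.card P) (hP : 1 < Nat.card P) :
    Nonempty (H ≃* P) := by
  haveI : Finite θ.range := Finite.of_surjective θ.rangeRestrict θ.rangeRestrict_surjective
  have h1 : Nat.card θ.range ≤ Nat.card P :=
    Nat.card_le_card_of_surjective θ.rangeRestrict θ.rangeRestrict_surjective
  have hEq : H = θ.range := Subgroup.eq_of_le_of_card_ge hle (by omega)
  have hbij : Function.Bijective θ.rangeRestrict :=
    Function.Surjective.bijective_of_nat_card_le θ.rangeRestrict_surjective
      (by rw [← hEq, hcard])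
  let e0 : P ≃* θ.range := MulEquiv.ofBijective θ.rangeRestrict hbij
  exact ⟨((MulEquiv.subgroupCongr hEq).trans e0.symm)⟩

end Equiv

end Cfsg.Agent.Helper4.TC
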