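import Cfsg.Agent.Lib.Helper4.TC.Perm

set_option autoImplicit false
set_option linter.unusedVariables false
set_option linter.unusedSectionVars false
set_option linter.style.haveILetI false

/-! Simplicity without maximality of the point stabiliser: the orbit of a point under a non-trivial
normal subgroup is a union of orbits of the point stabiliser whose size divides the degree; when
every such size is divisible by the full power of a prime `p` dividing the order, the normal
subgroup contains all the `p`-elements. -/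

namespace Cfsg.Agent.Helper4.TC

open MulAction

section Abstract

theorem simple_of_pelement_of_dvd {G : Type*} [Group G] [Finite G] [Nontrivial G]
    (p : ℕ) [hpp : Fact p.Prime]
    (hdvd : ∀ N : Subgroup G, N.Normal → N ≠ ⊥ →
      (Nat.card G).factorization p ≤ (Nat.card N).factorization p)
    (x : G) (k : ℕ) (hx : x ^ p ^ k = 1) (hnc : Subgroup.normalClosure {x} = ⊤) :
    IsSimpleGroup G := by
  refine ⟨fun N hNn => ?_⟩
  by_cases hN : N = ⊥
  · exact Or.inl hN
  right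
  haveI := hNn
  let P : Sylow p N := default
  let Q : Subgroup G := (P : Subgroup N).map N.subtype
  have hQN : Q ≤ N := Subgroup.map_subtype_le _
  have hQc : Nat.card Q = Nat.card P :=
    Nat.card_congr (Subgroup.equivMapOfInjective _ _ N.subtype_injective).symm.toEquiv
  have hPc : Nat.card P = p ^ (Nat.card N).factorization p := P.card_eq_multiplicity
  have hNpos : Nat.card N ≠ 0 := Nat.card_pos.ne'
  have hGpos : Nat.card G ≠ 0 := Nat.card_pos.ne'
  have hf1 := hdvd N hNn hN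
  have hf2 : (Nat.card N).factorization p ≤ (Nat.card G).factorization p :=
    (Nat.factorization_le_iff_dvd hNpos hGpos).mpr (Subgroup.card_subgroup_dvd_card N) p
  have hfe : (Nat.card N).factorization p = (Nat.card G).factorization p := by omega
  let Q' : Sylow p G := Sylow.ofCard Q (by rw [hQc, hPc, hfe])
  have hxp : IsPGroup p (Subgroup.zpowers x) := by
    rintro ⟨g, hg⟩
    obtain ⟨i, rfl⟩ := Subgroup.mem_zpowers_iff.mp hg
    refine ⟨k, ?_⟩
    apply Subtype.ext
    show (x ^ i) ^ p ^ k = 1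
    rw [← zpow_natCast, ← zpow_mul, mul_comm, zpow_mul, zpow_natCast, hx, one_zpow]
  obtain ⟨S, hS⟩ := hxp.exists_le_sylow
  obtain ⟨g, hg⟩ := MulAction.exists_smul_eq G S Q'
  have hxS : x ∈ (S : Subgroup G) := hS (Subgroup.mem_zpowers x)
  have hgx : g * x * g⁻¹ ∈ (Q' : Subgroup G) := by
    rw [← hg, Sylow.coe_subgroup_smul]
    exact Subgroup.mem_pointwise_smul_iff_inv_smul_mem.mpr (by
      simpa [MulAut.smul_def, MulAut.conj_apply, mul_assoc] using hxS)
  have hxN : x ∈ N := by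
    have h1 : g * x * g⁻¹ ∈ N := hQN hgx
    have h2 := hNn.conj_mem _ h1 g⁻¹
    simpa [mul_assoc] using h2
  rw [eq_top_iff, ← hnc]
  exact Subgroup.normalClosure_le_normal (Set.singleton_subset_iff.mpr hxN)

variable {G : Type*} [Group G] {X : Type*} [MulAction G X]

/-- an invariant set is a union of orbits -/
theorem union_of_invariant {k : ℕ} (H' : Subgroup G) (Ωs O₀ : Set X) (O : Fin k → Set X)
    (n₀ : ℕ) (n : Fin k → ℕ)
    (hΩ : ∀ x ∈ Ωs, x ∈ O₀ ∨ ∃ i, x ∈ O i)
    (hO₀ : O₀ ⊆ Ωs) (hO : ∀ i, O i ⊆ Ωs)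
    (hfin₀ : O₀.Finite) (hfin : ∀ i, (O i).Finite)
    (hα : ∀ i, Disjoint O₀ (O i)) (hdisj : ∀ i j, i ≠ j → Disjoint (O i) (O j))
    (hcard₀ : O₀.ncard = n₀) (hcard : ∀ i, (O i).ncard = n i)
    (htrans : ∀ i, ∀ x ∈ O i, ∀ y ∈ O i, ∃ h ∈ H', h • x = y)
    (S : Set X) (h1 : O₀ ⊆ S) (h2 : S ⊆ Ωs) (h3 : ∀ h ∈ H', ∀ x ∈ S, h • x ∈ S) :
    ∃ I : Finset (Fin k), S = O₀ ∪ ⋃ i ∈ I, O i ∧ S.ncard = n₀ + ∑ i ∈ I, n i ∧
      Ωs.ncard = n₀ + ∑ i, n i := by
  classical
  let I : Finset (Fin k) := Finset.univ.filter (fun i => O i ⊆ S)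
  have key : ∀ i, (∃ x ∈ O i, x ∈ S) → O i ⊆ S := by
    rintro i ⟨x, hx, hxS⟩ y hy
    obtain ⟨h, hh, rfl⟩ := htrans i x hx y hy
    exact h3 h hh x hxS
  have hS : ∀ J : Finset (Fin k), (∀ x, x ∈ O₀ ∪ ⋃ i ∈ J, O i ↔ x ∈ O₀ ∨ ∃ i ∈ J, x ∈ O i) := by
    intro J x
    simp only [Set.mem_union, Set.mem_iUnion, exists_prop]
  have hSI : S = O₀ ∪ ⋃ i ∈ I, O i := by
    ext x
    rw [hS]
    constructor
    · intro hx
      rcases hΩ x (h2 hx) with h | ⟨i, hi⟩
      · exact Or.inl h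
      · exact Or.inr ⟨i, Finset.mem_filter.mpr ⟨Finset.mem_univ _, key i ⟨x, hi, hx⟩⟩, hi⟩
    · rintro (h | ⟨i, hi, hx⟩)
      · exact h1 h
      · exact (Finset.mem_filter.mp hi).2 hx
  have hΩU : Ωs = O₀ ∪ ⋃ i ∈ (Finset.univ : Finset (Fin k)), O i := by
    ext x
    rw [hS]
    constructor
    · intro hx
      rcases hΩ x hx with h | ⟨i, hi⟩
      · exact Or.inl h
      · exact Or.inr ⟨i, Finset.mem_univ _, hi⟩
    · rintro (h | ⟨i, _, hx⟩)
      · exact hO₀ h
      · exact hO i hx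
  have hcardJ : ∀ J : Finset (Fin k), (O₀ ∪ ⋃ i ∈ J, O i).ncard = n₀ + ∑ i ∈ J, n i := by
    intro J
    have e : (O₀ ∪ ⋃ i ∈ J, O i) =
        ((hfin₀.toFinset ∪ J.biUnion (fun i => (hfin i).toFinset) : Finset X) : Set X) := by
      ext x
      simp only [Set.mem_union, Set.mem_iUnion, exists_prop, Finset.coe_union,
        Set.Finite.coe_toFinset, Finset.coe_biUnion, Finset.mem_coe]
    rw [e, Set.ncard_coe_finset, Finset.card_union_of_disjoint, Finset.card_biUnion]
    · congr 1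
      · rw [← Set.ncard_eq_toFinset_card _ hfin₀, hcard₀]
      · apply Finset.sum_congr rfl
        intro i _
        rw [← Set.ncard_eq_toFinset_card _ (hfin i), hcard i]
    · intro i _ j _ hij
      rw [Function.onFun, Set.Finite.disjoint_toFinset]
      exact hdisj i j hij
    · rw [Finset.disjoint_biUnion_right]
      intro i _
      rw [Set.Finite.disjoint_toFinset]
      exact hα i
  refine ⟨I, hSI, ?_, ?_⟩
  · rw [← hcardJ I, ← hSI]
  · rw [← hcardJ Finset.univ, ← hΩU]

/-- the order of a non-trivial normal subgroup is divisible by any number dividing the sizes of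
all the non-trivial unions of suborbits which divide the degree -/
theorem dvd_card_normal_of_blocks [Finite G] {k : ℕ} (α : X) (O : Fin k → Set X) (n : Fin k → ℕ)
    (hΩ : ∀ x ∈ orbit G α, x = α ∨ ∃ i, x ∈ O i)
    (hO : ∀ i, O i ⊆ orbit G α)
    (hfin : ∀ i, (O i).Finite)
    (hα : ∀ i, α ∉ O i) (hdisj : ∀ i j, i ≠ j → Disjoint (O i) (O j))
    (hcard : ∀ i, (O i).ncard = n i)
    (htrans : ∀ i, ∀ x ∈ O i, ∀ y ∈ O i, ∃ h ∈ stabilizer G α, h • x = y)
    (hfaith : ∀ g : G, (∀ x ∈ orbit G α, g • x = x) → g = 1)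
    (q : ℕ) (harith : ∀ I : Finset (Fin k), I ≠ ∅ →
      (1 + ∑ i ∈ I, n i) ∣ (1 + ∑ i, n i) → q ∣ (1 + ∑ i ∈ I, n i))
    (N : Subgroup G) [hNn : N.Normal] (hN : N ≠ ⊥) : q ∣ Nat.card N := by
  set S : Set X := orbit N α with hSdef
  have h1 : ({α} : Set X) ⊆ S := Set.singleton_subset_iff.mpr (mem_orbit_self α)
  have h2 : S ⊆ orbit G α := by
    rintro _ ⟨ν, rfl⟩
    exact ⟨ν.1, rfl⟩
  have h3 : ∀ h ∈ stabilizer G α, ∀ x ∈ S, h • x ∈ S := by
    rintro h hh _ ⟨ν, rfl⟩
    refine ⟨⟨h * ν.1 * h⁻¹, hNn.conj_mem ν.1 ν.2 h⟩, ?_⟩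
    show (h * ν.1 * h⁻¹) • α = h • ((ν : G) • α)
    have hh' : h⁻¹ • α = α := by
      rw [inv_smul_eq_iff]; exact (mem_stabilizer_iff.mp hh).symm
    rw [mul_smul, mul_smul, hh']
  obtain ⟨I, hSI, hSc, hΩc⟩ := union_of_invariant (stabilizer G α) (orbit G α) {α} O 1 n
    (fun x hx => by
      rcases hΩ x hx with h | h
      · exact Or.inl h
      · exact Or.inr h)
    (Set.singleton_subset_iff.mpr (mem_orbit_self α)) hO (Set.finite_singleton α) hfin
    (fun i => Set.disjoint_singleton_left.mpr (hα i)) hdisj (Set.ncard_singleton α) hcard htrans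
    S h1 h2 h3
  have hI : I ≠ ∅ := by
    intro hI
    apply hN
    rw [eq_bot_iff]
    intro ν hν
    rw [Subgroup.mem_bot]
    apply hfaith
    rintro _ ⟨g, rfl⟩
    have h4 : (g⁻¹ * ν * g⁻¹⁻¹) • α ∈ S := ⟨⟨g⁻¹ * ν * g⁻¹⁻¹, hNn.conj_mem ν hν g⁻¹⟩, rfl⟩
    rw [hSI, hI] at h4
    simp only [Finset.notMem_empty, Set.iUnion_of_empty, Set.iUnion_empty, Set.union_empty,
      Set.mem_singleton_iff] at h4
    rw [inv_inv, mul_smul, mul_smul, inv_smul_eq_iff] at h4
    exact h4
  -- the size of the orbit divides the degree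
  have hdvd : S.ncard ∣ (orbit G α).ncard := by
    set M : Subgroup G := N ⊔ stabilizer G α with hM
    have hle : stabilizer G α ≤ M := le_sup_right
    have hSM : S = orbit M α := by
      ext x
      constructor
      · rintro ⟨ν, rfl⟩
        exact ⟨⟨ν.1, (le_sup_left : N ≤ M) ν.2⟩, rfl⟩
      · rintro ⟨m, rfl⟩
        have hm : (m : G) ∈ (↑(N ⊔ stabilizer G α) : Set G) := m.2
        rw [Subgroup.normal_mul] at hm
        obtain ⟨ν, hν, h, hh, hνh⟩ := hm
        refine ⟨⟨ν, hν⟩, ?_⟩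
        show ν • α = (m : G) • α
        rw [← hνh, mul_smul, mem_stabilizer_iff.mp hh]
    rw [hSM, ← index_stabilizer, ← index_stabilizer, SC.stabilizer_subgroup_eq]
    exact ⟨M.index, (Subgroup.relIndex_mul_index hle).symm⟩
  have hq : q ∣ S.ncard := by
    rw [hSc]
    apply harith I hI
    rw [← hSc, ← hΩc]
    exact hdvd
  have h5 : S.ncard ∣ Nat.card N := by
    rw [hSdef, ← index_stabilizer]
    exact ⟨_, ((stabilizer N α).index_mul_card).symm⟩
  exact hq.trans h5

end Abstract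

theorem factorization_of_eq (N p a r : ℕ) (hp : p.Prime) (hN : N = p ^ a * r) (hr : ¬ p ∣ r) :
    N.factorization p = a := by
  have h0 : r ≠ 0 := fun h => hr (h ▸ dvd_zero p)
  rw [hN, Nat.factorization_mul (pow_ne_zero _ hp.ne_zero) h0, Nat.factorization_pow,
    Finsupp.add_apply, Finsupp.smul_apply, hp.factorization_self,
    Nat.factorization_eq_zero_of_not_dvd hr]
  simp

section Assemble

variable {G : Type*} [Group G] {n : ℕ}

theorem simple_card_blocks_abstract (φ : G →* Equiv.Perm (Fin n)) (x0 : Fin n)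
    (N : ℕ) (hub : Finite G ∧ Nat.card G ≤ N)
    (htr : ∀ y, ∃ g, φ g x0 = y)
    (l : List (Fin n × ℕ)) (hl : ChainOK φ.range l) (hprod : (l.map Prod.snd).prod = N)
    (hn : 2 ≤ n) (p : ℕ) [hpp : Fact p.Prime] (a : ℕ) (ha : N.factorization p = a)
    (hblk : Function.Injective φ → ∀ K : Subgroup G, K.Normal → K ≠ ⊥ → p ^ a ∣ Nat.card K)
    (x : G) (k : ℕ) (hx : (φ x) ^ p ^ k = 1) (hnc : Subgroup.normalClosure {x} = ⊤) :
    IsSimpleGroup G ∧ Nat.card G = N := by
  haveI := hub.1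
  haveI : Finite φ.range := Finite.of_surjective φ.rangeRestrict φ.rangeRestrict_surjective
  have h1 : N ≤ Nat.card φ.range := by
    rw [← hprod]
    exact card_ge_of_chain l φ.range hl
  have h2 : Nat.card φ.range ≤ Nat.card G :=
    Nat.card_le_card_of_surjective φ.rangeRestrict φ.rangeRestrict_surjective
  have hcard : Nat.card G = N := le_antisymm hub.2 (h1.trans h2)
  have hbij : Function.Bijective φ.rangeRestrict :=
    Function.Surjective.bijective_of_nat_card_le φ.rangeRestrict_surjective (by omega)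
  have hinj : Function.Injective φ := by
    intro a b hab
    apply hbij.1
    apply Subtype.ext
    exact hab
  refine ⟨?_, hcard⟩
  haveI : Nontrivial G := by
    by_contra hc
    rw [not_nontrivial_iff_subsingleton] at hc
    have h0 : ∀ y : Fin n, y = x0 := by
      intro y
      obtain ⟨g, hg⟩ := htr y
      rw [← hg, Subsingleton.elim g 1, map_one, Equiv.Perm.one_apply]
    have h3 := h0 ⟨0, by omega⟩
    have h4 := h0 ⟨1, by omega⟩
    have : (⟨0, by omega⟩ : Fin n) = ⟨1, by omega⟩ := h3.trans h4.symm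
    simp at this
  have hxG : x ^ p ^ k = 1 := by
    apply hinj
    rw [map_pow, hx, map_one]
  refine simple_of_pelement_of_dvd p ?_ x k hxG hnc
  intro K hK hKb
  rw [hcard, ha]
  have hd := hblk hinj K hK hKb
  have hKpos : Nat.card K ≠ 0 := Nat.card_pos.ne'
  exact (hpp.out.pow_dvd_iff_le_factorization hKpos).mp hd

end Assemble

section Model

variable {α : Type} {R : Set (FreeGroup α)} {dec : ℕ → Letter α} {enc : α → ℕ}
variable {m : MData} {bases subsL : List (List ℕ)}

theorem dvd_card_normal_of_orbs (hcod : Coding dec enc m.nc)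
    (hR1 : ∀ r ∈ R, ∃ b ∈ bases, r = wordF dec b)
    (hm : ModelOK m bases subsL) (rs : List (ℕ × ℕ)) (hcon : Consec rs 1 m.n)
    (horb : ∀ r ∈ rs, OrbOK m subsL r.1 r.2) (q : ℕ)
    (harith : ∀ I : Finset (Fin rs.length), I ≠ ∅ →
      (1 + ∑ i ∈ I, ((rs.get i).2 - (rs.get i).1)) ∣ (1 + ∑ i, ((rs.get i).2 - (rs.get i).1)) →
        q ∣ (1 + ∑ i ∈ I, ((rs.get i).2 - (rs.get i).1)))
    [Finite (PresentedGroup R)]
    (hinj : Function.Injective (modelHom hcod hR1 hm))
    (K : Subgroup (PresentedGroup R)) (hK : K.Normal) (hKb : K ≠ ⊥) : q ∣ Nat.card K := by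
  set φ := modelHom hcod hR1 hm with hφ
  set x0 : Fin m.n := ⟨0, hm.npos⟩ with hx0
  letI : MulAction (PresentedGroup R) (Fin m.n) := MulAction.compHom (Fin m.n) φ
  have hsm : ∀ (g : PresentedGroup R) (y : Fin m.n), g • y = φ g y := fun _ _ => rfl
  have hstab : MulAction.stabilizer (PresentedGroup R) x0 = stabOf φ x0 := by
    ext g
    rw [mem_stabOf, MulAction.mem_stabilizer_iff, hsm]
  have horbit : MulAction.orbit (PresentedGroup R) x0 = Set.univ := by
    ext y
    simp only [Set.mem_univ, iff_true]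
    obtain ⟨g, hg⟩ := modelHom_trans hcod hR1 hm y
    exact ⟨g, hg⟩
  let O : Fin rs.length → Set (Fin m.n) := fun i => {x | (rs.get i).1 ≤ x.val ∧ x.val < (rs.get i).2}
  haveI := hK
  refine dvd_card_normal_of_blocks x0 O (fun i => (rs.get i).2 - (rs.get i).1)
    ?_ ?_ ?_ ?_ ?_ ?_ ?_ ?_ q harith K hKb
  · intro x _
    by_cases hx : x.val = 0
    · left
      apply Fin.ext
      exact hx
    · right
      obtain ⟨i, hi⟩ := hcon.cover x.val (by omega) x.2
      exact ⟨i, hi⟩
  · intro i x _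
    rw [horbit]
    trivial
  · intro i
    exact Set.toFinite _
  · intro i hi
    have := (hcon.bounds i).1
    have h2 : (rs.get i).1 ≤ 0 := hi.1
    omega
  · intro i j hij
    rw [Set.disjoint_left]
    rintro x ⟨h1, h2⟩ ⟨h3, h4⟩
    rcases Nat.lt_or_gt_of_ne (fun h => hij (Fin.ext h)) with h | h
    · have := hcon.disj i j h; omega
    · have := hcon.disj j i h; omega
  · intro i
    have hb := hcon.bounds i
    exact ncard_range_fin m.n (rs.get i).1 (rs.get i).2 hb.2.2
  · intro i x hx y hy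
    have hb := hcon.bounds i
    have ho := horb (rs.get i) (List.get_mem rs i)
    obtain ⟨g1, hg1, h1⟩ := orb_reach hcod hR1 hm _ _ ho x.val hx.1 hx.2
    obtain ⟨g2, hg2, h2⟩ := orb_reach hcod hR1 hm _ _ ho y.val hy.1 hy.2
    refine ⟨g2 * g1⁻¹, ?_, ?_⟩
    · rw [hstab]
      exact Subgroup.mul_mem _ hg2 (Subgroup.inv_mem _ hg1)
    · rw [hsm, map_mul, Equiv.Perm.mul_apply, map_inv]
      have h1' : (φ g1)⁻¹ x = ⟨(rs.get i).1, by omega⟩ := by
        rw [Equiv.Perm.inv_eq_iff_eq]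
        exact h1.symm
      rw [h1']
      exact h2
  · intro g hg
    apply hinj
    rw [map_one]
    ext y
    have := hg y (by rw [horbit]; trivial)
    rw [hsm] at this
    rw [this, Equiv.Perm.one_apply]

/-- order and simplicity from the block sizes -/
theorem simple_card_blocks (hcod : Coding dec enc m.nc)
    (hR1 : ∀ r ∈ R, ∃ b ∈ bases, r = wordF dec b) (hm : ModelOK m bases subsL)
    (N : ℕ) (hub : Finite (PresentedGroup R) ∧ Nat.card (PresentedGroup R) ≤ N)
    (specs : List LSpec) (hlev : LevelsOK m [0] specs)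
    (hprod : m.n * (specs.map fun s => s.d.cnt).prod = N)
    (rs : List (ℕ × ℕ)) (hcon : Consec rs 1 m.n) (horb : ∀ r ∈ rs, OrbOK m subsL r.1 r.2)
    (hn : 2 ≤ m.n) (p : ℕ) [hpp : Fact p.Prime] (a : ℕ) (ha : N.factorization p = a)
    (harith : ∀ I : Finset (Fin rs.length), I ≠ ∅ →
      (1 + ∑ i ∈ I, ((rs.get i).2 - (rs.get i).1)) ∣ (1 + ∑ i, ((rs.get i).2 - (rs.get i).1)) →
        p ^ a ∣ (1 + ∑ i ∈ I, ((rs.get i).2 - (rs.get i).1)))
    (xw : List ℕ) (k : ℕ)
    (hx : (PresentedGroup.mk R (wordF dec xw)) ^ p ^ k = 1)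
    (hnc : Subgroup.normalClosure {PresentedGroup.mk R (wordF dec xw)} = ⊤) :
    IsSimpleGroup (PresentedGroup R) ∧ Nat.card (PresentedGroup R) = N := by
  set φ := modelHom hcod hR1 hm with hφ
  have hx0 : mkPt hm 0 = ⟨0, hm.npos⟩ := mkPt_of_lt hm 0 hm.npos
  have hchain : ChainOK φ.range
      ((⟨0, hm.npos⟩, m.n) :: specs.map fun s => (mkPt hm s.b, s.d.cnt)) := by
    refine ⟨⟨Set.univ, by rw [Set.ncard_univ, Nat.card_fin], fun y _ => ?_⟩, ?_⟩
    · obtain ⟨g, hg⟩ := modelHom_trans hcod hR1 hm y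
      exact ⟨_, ⟨g, rfl⟩, hg⟩
    · have := chainOK_of_levels hcod hR1 hm specs [0] (by simpa using hm.npos) hlev
      rw [List.map_cons, List.map_nil, ← fixSub_cons, fixSub_nil, hx0] at this
      exact this
  haveI := hub.1
  refine simple_card_blocks_abstract φ ⟨0, hm.npos⟩ N hub (modelHom_trans hcod hR1 hm) _ hchain ?_
    hn p a ha
    (fun hinj K hK hKb => dvd_card_normal_of_orbs hcod hR1 hm rs hcon horb (p ^ a) harith hinj K hK hKb)
    (PresentedGroup.mk R (wordF dec xw)) k (by rw [← map_pow, hx, map_one]) hnc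
  rw [List.map_cons, List.prod_cons, List.map_map, ← hprod]
  rfl

end Model

end Cfsg.Agent.Helper4.TC
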