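import Mathlib

set_option autoImplicit false
set_option linter.unusedVariables false
set_option linter.unusedSectionVars false
set_option linter.style.haveILetI false

/-! Abstract lemmas for orders and simplicity of groups given by a presentation together with a
faithful permutation model: the order from a chain of subgroups, the order of a permutation
group from a chain of stabilisers, and simplicity from a maximal core-free subgroup and the
normal closure of an element of prime power order. -/

namespace Cfsg.Agent.Helper4.TC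

section Abs

variable {G : Type*} [Group G]

/-- the order from an index and the order of the subgroup -/
theorem card_le_of_index_le (H : Subgroup G) (n m : ℕ)
    (h1 : Finite (G ⧸ H) ∧ Nat.card (G ⧸ H) ≤ n) (h2 : Finite H ∧ Nat.card H ≤ m) :
    Finite G ∧ Nat.card G ≤ n * m := by
  haveI := h1.1
  haveI := h2.1
  have hf : Finite G := Finite.of_equiv _ (Subgroup.groupEquivQuotientProdSubgroup (s := H)).symm
  refine ⟨hf, ?_⟩
  rw [Subgroup.card_eq_card_quotient_mul_card_subgroup H]
  exact Nat.mul_le_mul h1.2 h2.2

/-- the order of a subgroup contained in the image of a homomorphism -/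
theorem card_le_of_le_range {K : Type*} [Group K] (ψ : K →* G) (H : Subgroup G) (h : H ≤ ψ.range)
    (m : ℕ) (hK : Finite K ∧ Nat.card K ≤ m) : Finite H ∧ Nat.card H ≤ m := by
  haveI := hK.1
  haveI : Finite ψ.range := Finite.of_surjective ψ.rangeRestrict ψ.rangeRestrict_surjective
  have h1 : Nat.card ψ.range ≤ Nat.card K :=
    Nat.card_le_card_of_surjective ψ.rangeRestrict ψ.rangeRestrict_surjective
  have hinj : Function.Injective (Subgroup.inclusion h) := Subgroup.inclusion_injective h
  haveI : Finite H := Finite.of_injective _ hinj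
  exact ⟨inferInstance, (Nat.card_le_card_of_injective _ hinj).trans (h1.trans hK.2)⟩

/-- a group with a subgroup of index at most `1` which is trivial -/
theorem card_le_of_bot (n : ℕ) (h : Finite (G ⧸ (⊥ : Subgroup G)) ∧ Nat.card (G ⧸ (⊥ : Subgroup G)) ≤ n) :
    Finite G ∧ Nat.card G ≤ n := by
  have := card_le_of_index_le (⊥ : Subgroup G) n 1 h ⟨inferInstance, by simp⟩
  simpa using this

end Abs

section Simple

variable {G : Type*} [Group G] [Finite G]

theorem index_dvd_card_of_sup_eq_top (H N : Subgroup G) [N.Normal] (h : H ⊔ N = ⊤) :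
    H.index ∣ Nat.card N := by
  have h1 : N.index = N.relIndex H := by
    have := Subgroup.relIndex_sup_right H N
    rw [h, Subgroup.relIndex_top_right] at this
    exact this
  obtain ⟨c, hc⟩ : N.relIndex H ∣ Nat.card H := Subgroup.relIndex_dvd_card _ _
  have h2 := N.card_mul_index
  have h3 := H.card_mul_index
  rw [hc, ← h1] at h3
  have hpos : 0 < N.index := Nat.pos_of_ne_zero Subgroup.index_ne_zero_of_finite
  refine ⟨c, ?_⟩
  apply Nat.eq_of_mul_eq_mul_right hpos
  rw [h2, ← h3]
  ring

/-- Simplicity from a maximal subgroup containing no non-trivial normal subgroup, a prime `p`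
dividing the index as often as the order, and an element of order a power of `p` whose normal
closure is the whole group. -/
theorem simple_of_max_of_pelement [Nontrivial G] (H : Subgroup G)
    (hmax : ∀ M : Subgroup G, H ≤ M → M = H ∨ M = ⊤)
    (hcore : ∀ N : Subgroup G, N.Normal → N ≤ H → N = ⊥)
    (p : ℕ) [hpp : Fact p.Prime]
    (hv : (Nat.card G).factorization p = H.index.factorization p)
    (x : G) (k : ℕ) (hx : x ^ p ^ k = 1) (hnc : Subgroup.normalClosure {x} = ⊤) :
    IsSimpleGroup G := by
  refine ⟨fun N hNn => ?_⟩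
  by_cases hN : N = ⊥
  · exact Or.inl hN
  right
  haveI := hNn
  have hsup : H ⊔ N = ⊤ := by
    rcases hmax (H ⊔ N) le_sup_left with h | h
    · exfalso
      apply hN
      apply hcore N hNn
      rw [← h]
      exact le_sup_right
    · exact h
  have hdvd : H.index ∣ Nat.card N := index_dvd_card_of_sup_eq_top H N hsup
  let P : Sylow p N := default
  let Q : Subgroup G := (P : Subgroup N).map N.subtype
  have hQN : Q ≤ N := Subgroup.map_subtype_le _
  have hQc : Nat.card Q = Nat.card P :=
    Nat.card_congr (Subgroup.equivMapOfInjective _ _ N.subtype_injective).symm.toEquiv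
  have hPc : Nat.card P = p ^ (Nat.card N).factorization p := P.card_eq_multiplicity
  have hNpos : Nat.card N ≠ 0 := Nat.card_pos.ne'
  have hGpos : Nat.card G ≠ 0 := Nat.card_pos.ne'
  have hipos : H.index ≠ 0 := Subgroup.index_ne_zero_of_finite
  have hf1 : H.index.factorization p ≤ (Nat.card N).factorization p :=
    (Nat.factorization_le_iff_dvd hipos hNpos).mpr hdvd p
  have hf2 : (Nat.card N).factorization p ≤ (Nat.card G).factorization p :=
    (Nat.factorization_le_iff_dvd hNpos hGpos).mpr (Subgroup.card_subgroup_dvd_card N) p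
  have hfe : (Nat.card N).factorization p = (Nat.card G).factorization p := by omega
  let Q' : Sylow p G := Sylow.ofCard Q (by rw [hQc, hPc, hfe])
  have hxp : IsPGroup p (Subgroup.zpowers x) := by
    rintro ⟨g, hg⟩
    obtain ⟨i, rfl⟩ := Subgroup.mem_zpowers_iff.mp hg
    refine ⟨k, ?_⟩
    apply Subtype.ext
    show (x ^ i) ^ p ^ k = 1
    rw [← zpow_natCast, ← zpow_mul, mul_comm, zpow_mul, zpow_natCast, hx, one_zpow]
  obtain ⟨S, hS⟩ := hxp.exists_le_sylow
  obtain ⟨g, hg⟩ := MulAction.exists_smul_eq G S Q'
  have hxS : x ∈ (S : Subgroup G) := hS (Subgroup.mem_zpowers x)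
  have hgx : g * x * g⁻¹ ∈ (Q' : Subgroup G) := by
    rw [← hg, Sylow.coe_subgroup_smul]
    exact Subgroup.mem_pointwise_smul_iff_inv_smul_mem.mpr (by
      simpa [MulAut.smul_def, MulAut.conj_apply, mul_assoc] using hxS)
  have hxN : x ∈ N := by
    have h1 : g * x * g⁻¹ ∈ N := hQN hgx
    have h2 := hNn.conj_mem _ h1 g⁻¹
    simpa [mul_assoc] using h2
  rw [eq_top_iff, ← hnc]
  exact Subgroup.normalClosure_le_normal (Set.singleton_subset_iff.mpr hxN)

end Simple

section Chain

variable {A : Type*} [Group A] {X : Type*} [MulAction A X]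

/-- a chain of stabilisers with large orbits -/
def ChainOK : Subgroup A → List (X × ℕ) → Prop
  | _, [] => True
  | K, bn :: rest =>
    (∃ O : Set X, O.ncard = bn.2 ∧ ∀ y ∈ O, ∃ g ∈ K, g • bn.1 = y) ∧
      ChainOK (K ⊓ MulAction.stabilizer A bn.1) rest

theorem card_ge_of_chain (l : List (X × ℕ)) (K : Subgroup A) [Finite K] (h : ChainOK K l) :
    (l.map Prod.snd).prod ≤ Nat.card K := by
  induction l generalizing K with
  | nil => simp only [List.map_nil, List.prod_nil]; exact Nat.card_pos
  | cons bn rest ih =>
    obtain ⟨⟨O, hO, hy⟩, hrest⟩ := h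
    set K' := K ⊓ MulAction.stabilizer A bn.1 with hK'
    haveI : Finite K' := Finite.of_injective (Subgroup.inclusion (inf_le_left : K' ≤ K))
      (Subgroup.inclusion_injective _)
    have h1 := ih K' hrest
    rw [List.map_cons, List.prod_cons]
    have h2 : (MulAction.stabilizer K bn.1).index = (MulAction.orbit K bn.1).ncard :=
      MulAction.index_stabilizer K bn.1
    have h3 := (MulAction.stabilizer K bn.1).card_mul_index
    have h4 : Nat.card (MulAction.stabilizer K bn.1) = Nat.card K' := by
      have e1 : MulAction.stabilizer K bn.1 = (MulAction.stabilizer A bn.1).subgroupOf K := by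
        ext m
        simp only [MulAction.mem_stabilizer_iff, Subgroup.mem_subgroupOf]
        rfl
      rw [e1, hK', inf_comm, ← Subgroup.inf_subgroupOf_right]
      exact Nat.card_congr (Subgroup.subgroupOfEquivOfLe inf_le_right).toEquiv
    have h5 : bn.2 ≤ (MulAction.orbit K bn.1).ncard := by
      rw [← hO]
      apply Set.ncard_le_ncard
      · intro y hy'
        obtain ⟨g, hg, rfl⟩ := hy y hy'
        exact ⟨⟨g, hg⟩, rfl⟩
      · exact Set.finite_range _
    rw [← h3, h4, h2, mul_comm]
    exact Nat.mul_le_mul h1 h5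

end Chain

section Assemble

variable {G : Type*} [Group G] {n : ℕ}

/-- the stabiliser of a point under a homomorphism to a permutation group -/
def stabOf (φ : G →* Equiv.Perm (Fin n)) (x0 : Fin n) : Subgroup G :=
  (MulAction.stabilizer (Equiv.Perm (Fin n)) x0).comap φ

theorem mem_stabOf (φ : G →* Equiv.Perm (Fin n)) (x0 : Fin n) (g : G) :
    g ∈ stabOf φ x0 ↔ φ g x0 = x0 := by
  unfold stabOf
  rw [Subgroup.mem_comap, MulAction.mem_stabilizer_iff]
  rfl

theorem index_stabOf (φ : G →* Equiv.Perm (Fin n)) (x0 : Fin n)
    (htr : ∀ y, ∃ g, φ g x0 = y) : (stabOf φ x0).index = n := by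
  letI : MulAction G (Fin n) := MulAction.compHom (Fin n) φ
  have h1 : MulAction.stabilizer G x0 = stabOf φ x0 := by
    ext g
    rw [mem_stabOf, MulAction.mem_stabilizer_iff]
    rfl
  have h2 : MulAction.orbit G x0 = Set.univ := by
    ext y
    simp only [Set.mem_univ, iff_true]
    obtain ⟨g, hg⟩ := htr y
    exact ⟨g, hg⟩
  rw [← h1, MulAction.index_stabilizer, h2, Set.ncard_univ, Nat.card_fin]

/-- order and simplicity of a group with an upper bound for its order, a permutation
representation whose image has at least that order, a maximal point stabiliser, and a suitable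
element of prime power order -/
theorem simple_card_abstract (φ : G →* Equiv.Perm (Fin n)) (x0 : Fin n)
    (N : ℕ) (hub : Finite G ∧ Nat.card G ≤ N)
    (htr : ∀ y, ∃ g, φ g x0 = y)
    (l : List (Fin n × ℕ)) (hl : ChainOK φ.range l) (hprod : (l.map Prod.snd).prod = N)
    (hmax : ∀ M : Subgroup G, stabOf φ x0 ≤ M → M = stabOf φ x0 ∨ M = ⊤)
    (hn : 2 ≤ n) (p : ℕ) [hpp : Fact p.Prime] (hv : N.factorization p = n.factorization p)
    (x : G) (k : ℕ) (hx : (φ x) ^ p ^ k = 1) (hnc : Subgroup.normalClosure {x} = ⊤) :
    IsSimpleGroup G ∧ Nat.card G = N := by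
  haveI := hub.1
  haveI : Finite φ.range := Finite.of_surjective φ.rangeRestrict φ.rangeRestrict_surjective
  have h1 : N ≤ Nat.card φ.range := by
    rw [← hprod]
    exact card_ge_of_chain l φ.range hl
  have h2 : Nat.card φ.range ≤ Nat.card G :=
    Nat.card_le_card_of_surjective φ.rangeRestrict φ.rangeRestrict_surjective
  have hcard : Nat.card G = N := le_antisymm hub.2 (h1.trans h2)
  have hbij : Function.Bijective φ.rangeRestrict :=
    Function.Surjective.bijective_of_nat_card_le φ.rangeRestrict_surjective (by omega)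
  have hinj : Function.Injective φ := by
    intro a b hab
    apply hbij.1
    apply Subtype.ext
    exact hab
  refine ⟨?_, hcard⟩
  haveI : Nontrivial G := by
    by_contra hc
    rw [not_nontrivial_iff_subsingleton] at hc
    have h0 : ∀ y : Fin n, y = x0 := by
      intro y
      obtain ⟨g, hg⟩ := htr y
      rw [← hg, Subsingleton.elim g 1, map_one, Equiv.Perm.one_apply]
    have h3 := h0 ⟨0, by omega⟩
    have h4 := h0 ⟨1, by omega⟩
    have : (⟨0, by omega⟩ : Fin n) = ⟨1, by omega⟩ := h3.trans h4.symm
    simp at this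
  have hcore : ∀ K : Subgroup G, K.Normal → K ≤ stabOf φ x0 → K = ⊥ := by
    intro K hK hle
    rw [eq_bot_iff]
    intro g hg
    rw [Subgroup.mem_bot]
    apply hinj
    rw [map_one]
    ext y
    obtain ⟨t, rfl⟩ := htr y
    have h3 : t⁻¹ * g * t⁻¹⁻¹ ∈ K := hK.conj_mem g hg t⁻¹
    have h4 := (mem_stabOf φ x0 _).mp (hle h3)
    rw [inv_inv, map_mul, map_mul, Equiv.Perm.mul_apply, Equiv.Perm.mul_apply, map_inv,
      Equiv.Perm.inv_eq_iff_eq] at h4
    rw [Equiv.Perm.one_apply, h4]
  have hxG : x ^ p ^ k = 1 := by
    apply hinj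
    rw [map_pow, hx, map_one]
  exact simple_of_max_of_pelement (stabOf φ x0) hmax hcore p
    (by rw [hcard, index_stabOf φ x0 htr]; exact hv) x k hxG hnc

end Assemble

section ChainFix

variable {A : Type*} [Group A] {X : Type*} [MulAction A X]

/-- the subgroup left at the end of a chain of stabilisers -/
def finalSub : Subgroup A → List (X × ℕ) → Subgroup A
  | K, [] => K
  | K, bn :: rest => finalSub (K ⊓ MulAction.stabilizer A bn.1) rest

theorem mem_finalSub (l : List (X × ℕ)) (K : Subgroup A) (g : A) :
    g ∈ finalSub K l ↔ g ∈ K ∧ ∀ bn ∈ l, g • bn.1 = bn.1 := by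
  induction l generalizing K with
  | nil => simp [finalSub]
  | cons bn rest ih =>
    show g ∈ finalSub (K ⊓ MulAction.stabilizer A bn.1) rest ↔ _
    rw [ih, Subgroup.mem_inf, MulAction.mem_stabilizer_iff]
    simp only [List.mem_cons, forall_eq_or_imp]
    tauto

theorem finalSub_le (l : List (X × ℕ)) (K : Subgroup A) : finalSub K l ≤ K :=
  fun g hg => ((mem_finalSub l K g).mp hg).1

theorem card_chain_mul (l : List (X × ℕ)) (K : Subgroup A) [Finite K] (h : ChainOK K l) :
    (l.map Prod.snd).prod * Nat.card (finalSub K l) ≤ Nat.card K := by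
  induction l generalizing K with
  | nil => simp [finalSub]
  | cons bn rest ih =>
    obtain ⟨⟨O, hO, hy⟩, hrest⟩ := h
    set K' := K ⊓ MulAction.stabilizer A bn.1 with hK'
    haveI : Finite K' := Finite.of_injective (Subgroup.inclusion (inf_le_left : K' ≤ K))
      (Subgroup.inclusion_injective _)
    have h1 := ih K' hrest
    rw [List.map_cons, List.prod_cons]
    show bn.2 * (rest.map Prod.snd).prod * Nat.card (finalSub K' rest) ≤ _
    have h2 : (MulAction.stabilizer K bn.1).index = (MulAction.orbit K bn.1).ncard :=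
      MulAction.index_stabilizer K bn.1
    have h3 := (MulAction.stabilizer K bn.1).card_mul_index
    have h4 : Nat.card (MulAction.stabilizer K bn.1) = Nat.card K' := by
      have e1 : MulAction.stabilizer K bn.1 = (MulAction.stabilizer A bn.1).subgroupOf K := by
        ext m
        simp only [MulAction.mem_stabilizer_iff, Subgroup.mem_subgroupOf]
        rfl
      rw [e1, hK', inf_comm, ← Subgroup.inf_subgroupOf_right]
      exact Nat.card_congr (Subgroup.subgroupOfEquivOfLe inf_le_right).toEquiv
    have h5 : bn.2 ≤ (MulAction.orbit K bn.1).ncard := by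
      rw [← hO]
      apply Set.ncard_le_ncard
      · intro y hy'
        obtain ⟨g, hg, rfl⟩ := hy y hy'
        exact ⟨⟨g, hg⟩, rfl⟩
      · exact Set.finite_range _
    rw [← h3, h4, h2, mul_assoc, mul_comm]
    exact Nat.mul_le_mul h1 h5

end ChainFix

section Faithful

variable {G : Type*} [Group G] {n : ℕ}

/-- with a chain of stabilisers of the full order, the representation is faithful and an element
fixing the base points is trivial -/
theorem eq_one_of_fixes_base (φ : G →* Equiv.Perm (Fin n)) (N : ℕ) (hN : 0 < N)
    (hub : Finite G ∧ Nat.card G ≤ N)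
    (l : List (Fin n × ℕ)) (hl : ChainOK φ.range l) (hprod : (l.map Prod.snd).prod = N)
    (g : G) (hg : ∀ bn ∈ l, φ g bn.1 = bn.1) : g = 1 := by
  haveI := hub.1
  haveI : Finite φ.range := Finite.of_surjective φ.rangeRestrict φ.rangeRestrict_surjective
  have h1 := card_chain_mul l φ.range hl
  rw [hprod] at h1
  have h2 : Nat.card φ.range ≤ Nat.card G :=
    Nat.card_le_card_of_surjective φ.rangeRestrict φ.rangeRestrict_surjective
  have hpos : 0 < Nat.card (finalSub φ.range l) := Nat.card_pos
  have h3 : Nat.card (finalSub φ.range l) = 1 := by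
    by_contra hne
    have h4 : 2 ≤ Nat.card (finalSub φ.range l) := by omega
    have h5 : N * 2 ≤ N * Nat.card (finalSub φ.range l) := Nat.mul_le_mul_left N h4
    omega
  have h6 : N ≤ Nat.card φ.range := by rw [h3, mul_one] at h1; exact h1
  have hbij : Function.Bijective φ.rangeRestrict :=
    Function.Surjective.bijective_of_nat_card_le φ.rangeRestrict_surjective (by omega)
  have hmem : φ g ∈ finalSub φ.range l := by
    rw [mem_finalSub]
    exact ⟨⟨g, rfl⟩, hg⟩
  have h7 : φ g = 1 := by
    haveI : Subsingleton (finalSub φ.range l) := (Nat.card_eq_one_iff_unique.mp h3).1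
    have := Subsingleton.elim (⟨φ g, hmem⟩ : finalSub φ.range l) 1
    exact congrArg Subtype.val this
  apply hbij.1
  apply Subtype.ext
  show φ g = φ 1
  rw [h7, map_one]

end Faithful

end Cfsg.Agent.Helper4.TC
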