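import Cfsg.Agent.Lib.Helper4.TC.Main
import Cfsg.Agent.Lib.Helper4.TC.Simple
import Cfsg.Agent.Lib.Helper4.SimpleCrit

set_option autoImplicit false
set_option linter.unusedVariables false
set_option linter.unusedSectionVars false
set_option linter.style.haveILetI false

/-! The permutation representation of a presented group from a checked model, certificates for
orbits of stabilisers in it, and the comparison of a presentation with a presentation of a
subgroup. -/

namespace Cfsg.Agent.Helper4.TC

section Hom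

variable {α : Type} {R : Set (FreeGroup α)} {dec : ℕ → Letter α} {enc : α → ℕ}
variable {m : MData} {bases subsL : List (List ℕ)}

theorem model_rel (hcod : Coding dec enc m.nc) (hR1 : ∀ r ∈ R, ∃ b ∈ bases, r = wordF dec b)
    (hm : ModelOK m bases subsL) : ∀ r ∈ R, FreeGroup.lift (permG hm hcod) r = 1 := by
  intro r hr
  obtain ⟨b, hb, rfl⟩ := hR1 r hr
  unfold wordF
  rw [lift_mk_reverse]
  ext k
  have := evc_permG_apply hm hcod b (hm.relc b hb) k
  unfold evc at this
  rw [this, hm.rel k.val k.2 b hb]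
  rfl

/-- the permutation representation -/
noncomputable def modelHom (hcod : Coding dec enc m.nc)
    (hR1 : ∀ r ∈ R, ∃ b ∈ bases, r = wordF dec b) (hm : ModelOK m bases subsL) :
    PresentedGroup R →* Equiv.Perm (Fin m.n) :=
  PresentedGroup.toGroup (model_rel hcod hR1 hm)

theorem modelHom_word (hcod : Coding dec enc m.nc)
    (hR1 : ∀ r ∈ R, ∃ b ∈ bases, r = wordF dec b) (hm : ModelOK m bases subsL)
    (b : List ℕ) (hb : ∀ c ∈ b, c < m.nc) (k : Fin m.n) :
    (modelHom hcod hR1 hm (PresentedGroup.mk R (wordF dec b)) k).val = mtrace m b k.val := by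
  unfold modelHom
  rw [toGroup_wordF R dec (permG hm hcod) (model_rel hcod hR1 hm) b]
  exact evc_permG_apply hm hcod b hb k

theorem mtrace_lt (hm : ModelOK m bases subsL) (b : List ℕ) (hb : ∀ c ∈ b, c < m.nc) (k : ℕ)
    (hk : k < m.n) : mtrace m b k < m.n := by
  induction b generalizing k with
  | nil => exact hk
  | cons c cs ih =>
    rw [mtrace_cons]
    exact ih (fun c' hc' => hb c' (List.mem_cons_of_mem _ hc')) _
      (hm.inv k hk c (hb c List.mem_cons_self)).1

theorem modelHom_trans (hcod : Coding dec enc m.nc)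
    (hR1 : ∀ r ∈ R, ∃ b ∈ bases, r = wordF dec b) (hm : ModelOK m bases subsL) :
    ∀ x : Fin m.n, ∃ g, modelHom hcod hR1 hm g ⟨0, hm.npos⟩ = x := by
  intro x
  obtain ⟨k, hk⟩ := x
  induction hD : m.tdepOf k using Nat.strong_induction_on generalizing k with
  | _ D ih =>
    by_cases h0 : k = 0
    · subst h0
      exact ⟨1, by simp⟩
    · obtain ⟨h1, h1', h2, h3⟩ := hm.tree k (by omega) (by omega)
      obtain ⟨g, hg⟩ := ih (m.tdepOf (m.tparOf k)) (by omega) (m.tparOf k) h1 rfl
      refine ⟨PresentedGroup.mk R (wordF dec [m.tletOf k]) * g, ?_⟩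
      rw [map_mul, Equiv.Perm.mul_apply, hg]
      apply Fin.ext
      rw [modelHom_word hcod hR1 hm _ (by simpa using h2)]
      exact h3

/-- a power of a word as a word -/
def wpow (w : List ℕ) : ℕ → List ℕ
  | 0 => []
  | t + 1 => w ++ wpow w t

theorem evc_wpow {P : Type*} [Group P] (f : α → P) (w : List ℕ) (t : ℕ) :
    evc f dec (wpow w t) = (evc f dec w) ^ t := by
  induction t with
  | zero => rw [pow_zero]; rfl
  | succ t ih =>
    show evc f dec (w ++ wpow w t) = _
    rw [evc_append, ih, pow_succ]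

theorem mk_wordF_wpow (w : List ℕ) (t : ℕ) :
    PresentedGroup.mk R (wordF dec (wpow w t)) = (PresentedGroup.mk R (wordF dec w)) ^ t := by
  rw [← evc_of, ← evc_of, evc_wpow]

theorem wpow_letters (w : List ℕ) (t : ℕ) (nc : ℕ) (hw : ∀ c ∈ w, c < nc) :
    ∀ c ∈ wpow w t, c < nc := by
  induction t with
  | zero => intro c hc; cases hc
  | succ t ih =>
    intro c hc
    rcases List.mem_append.mp hc with h | h
    · exact hw c h
    · exact ih c h

/-- a word acting trivially gives a trivial power -/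
theorem modelHom_pow_eq_one (hcod : Coding dec enc m.nc)
    (hR1 : ∀ r ∈ R, ∃ b ∈ bases, r = wordF dec b) (hm : ModelOK m bases subsL)
    (w : List ℕ) (hw : ∀ c ∈ w, c < m.nc) (t : ℕ)
    (h : ∀ k, k < m.n → mtrace m (wpow w t) k = k) :
    (modelHom hcod hR1 hm (PresentedGroup.mk R (wordF dec w))) ^ t = 1 := by
  rw [← map_pow, ← mk_wordF_wpow]
  ext k
  rw [modelHom_word hcod hR1 hm _ (wpow_letters w t m.nc hw), h k.val k.2]
  rfl

end Hom

/-! ### orbits of stabilisers, as sorted lists of points with a spanning tree -/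

/-- a packed list of points with parents, depths and generators -/
structure LData where
  cnt : ℕ
  pmask : ℕ
  dmask : ℕ
  ew : ℕ
  emask : ℕ
  s1 : ℕ
  s2 : ℕ
  s3 : ℕ
  bsh : ℕ
  bmask : ℕ
  L : ℕ → ℕ

def LData.ent (d : LData) (j : ℕ) : ℕ :=
  fld d.ew d.emask (d.L (Nat.shiftRight j d.bsh)) (Nat.land j d.bmask)

def LData.pt (d : LData) (j : ℕ) : ℕ := Nat.land (d.ent j) d.pmask
def LData.par (d : LData) (j : ℕ) : ℕ := Nat.land (Nat.shiftRight (d.ent j) d.s1) d.pmask
def LData.dep (d : LData) (j : ℕ) : ℕ := Nat.land (Nat.shiftRight (d.ent j) d.s2) d.dmask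
def LData.gen (d : LData) (j : ℕ) : ℕ := Nat.shiftRight (d.ent j) d.s3

/-- the entry `j` is the root, or is the image of an entry of smaller depth -/
noncomputable def lvlAt (m : MData) (d : LData) (W : List (List ℕ)) (b j : ℕ) : Bool :=
  force (d.ent j) fun e =>
    (Nat.beq (Nat.land (Nat.shiftRight e d.s2) d.dmask) 0 && Nat.beq (Nat.land e d.pmask) b) ||
    force (Nat.land (Nat.shiftRight e d.s1) d.pmask) fun pj =>
      force (d.ent pj) fun e' =>
        Nat.blt pj d.cnt &&
        Nat.blt (Nat.land (Nat.shiftRight e' d.s2) d.dmask) (Nat.land (Nat.shiftRight e d.s2) d.dmask) &&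
        Nat.beq (mtrace m (W.getD (Nat.shiftRight e d.s3) []) (Nat.land e' d.pmask)) (Nat.land e d.pmask)

theorem lvlAt_eq (m : MData) (d : LData) (W : List (List ℕ)) (b j : ℕ) :
    lvlAt m d W b j =
      ((Nat.beq (d.dep j) 0 && Nat.beq (d.pt j) b) ||
        (Nat.blt (d.par j) d.cnt && Nat.blt (d.dep (d.par j)) (d.dep j) &&
          Nat.beq (mtrace m (W.getD (d.gen j) []) (d.pt (d.par j))) (d.pt j))) := by
  unfold lvlAt
  rw [force_eq, force_eq, force_eq]
  rfl

noncomputable def lvlRange (m : MData) (d : LData) (W : List (List ℕ)) (b f k : ℕ) : Bool :=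
  Nat.rec (motive := fun _ => ℕ → Bool) (fun _ => true)
    (fun _ ih k => Bool.rec (motive := fun _ => Bool) false (ih (Nat.succ k)) (lvlAt m d W b k)) f k

theorem lvlRange_succ (m : MData) (d : LData) (W : List (List ℕ)) (b f k : ℕ) :
    lvlRange m d W b (f + 1) k =
      Bool.rec (motive := fun _ => Bool) false (lvlRange m d W b f (Nat.succ k)) (lvlAt m d W b k) :=
  rfl

/-- the points increase -/
noncomputable def srtAt (d : LData) (j : ℕ) : Bool := Nat.blt (d.pt j) (d.pt (Nat.succ j))

noncomputable def srtRange (d : LData) (f k : ℕ) : Bool :=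
  Nat.rec (motive := fun _ => ℕ → Bool) (fun _ => true)
    (fun _ ih k => Bool.rec (motive := fun _ => Bool) false (ih (Nat.succ k)) (srtAt d k)) f k

theorem srtRange_succ (d : LData) (f k : ℕ) :
    srtRange d (f + 1) k =
      Bool.rec (motive := fun _ => Bool) false (srtRange d f (Nat.succ k)) (srtAt d k) := rfl

theorem lvlRange_sound (m : MData) (d : LData) (W : List (List ℕ)) (b f k : ℕ)
    (h : lvlRange m d W b f k = true) : ∀ j, k ≤ j → j < k + f → lvlAt m d W b j = true :=
  range_sound (lvlAt m d W b) (lvlRange m d W b) (fun _ => rfl) (lvlRange_succ m d W b) f k h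

theorem srtRange_sound (d : LData) (f k : ℕ) (h : srtRange d f k = true) :
    ∀ j, k ≤ j → j < k + f → d.pt j < d.pt (j + 1) := by
  intro j h1 h2
  exact lt_of_blt (range_sound (srtAt d) (srtRange d) (fun _ => rfl) (srtRange_succ d) f k h j h1 h2)

/-- a checked list of points of an orbit -/
structure LevelOK (m : MData) (d : LData) (W : List (List ℕ)) (b : ℕ) : Prop where
  lvl : ∀ j, j < d.cnt → lvlAt m d W b j = true
  srt : ∀ j, j + 1 < d.cnt → d.pt j < d.pt (j + 1)

theorem LevelOK.mono {m : MData} {d : LData} {W : List (List ℕ)} {b : ℕ} (h : LevelOK m d W b)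
    (i j : ℕ) (hij : i < j) (hj : j < d.cnt) : d.pt i < d.pt j := by
  induction j with
  | zero => omega
  | succ j ih =>
    rcases Nat.lt_succ_iff_lt_or_eq.mp hij with h1 | rfl
    · exact (ih h1 (by omega)).trans (h.srt j hj)
    · exact h.srt i hj

section LevelHom

variable {α : Type} {R : Set (FreeGroup α)} {dec : ℕ → Letter α} {enc : α → ℕ}
variable {m : MData} {bases subsL : List (List ℕ)}

/-- every listed point is the image of the base point under the group generated by the words -/
theorem LevelOK.reach {d : LData} {W : List (List ℕ)} {b : ℕ} (h : LevelOK m d W b)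
    (hcod : Coding dec enc m.nc) (hR1 : ∀ r ∈ R, ∃ b ∈ bases, r = wordF dec b)
    (hm : ModelOK m bases subsL) (hW : ∀ w ∈ W, ∀ c ∈ w, c < m.nc) (hb : b < m.n)
    (K : Subgroup (Equiv.Perm (Fin m.n)))
    (hK : ∀ w ∈ W, modelHom hcod hR1 hm (PresentedGroup.mk R (wordF dec w)) ∈ K) :
    ∀ j, j < d.cnt → ∃ hp : d.pt j < m.n, ∃ g ∈ K, g ⟨b, hb⟩ = ⟨d.pt j, hp⟩ := by
  intro j
  induction hD : d.dep j using Nat.strong_induction_on generalizing j with
  | _ D ih =>
    intro hj
    have h1 := h.lvl j hj
    rw [lvlAt_eq, Bool.or_eq_true] at h1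
    rcases h1 with h1 | h1
    · rw [Bool.and_eq_true] at h1
      have h2 : d.pt j = b := Nat.eq_of_beq_eq_true h1.2
      refine ⟨h2 ▸ hb, 1, K.one_mem, ?_⟩
      apply Fin.ext
      simp [h2]
    · simp only [Bool.and_eq_true] at h1
      obtain ⟨⟨h2, h3⟩, h4⟩ := h1
      have h2' := lt_of_blt h2
      have h3' := lt_of_blt h3
      have h4' := Nat.eq_of_beq_eq_true h4
      obtain ⟨hp, g, hg, hgb⟩ := ih (d.dep (d.par j)) (by omega) (d.par j) rfl h2'
      by_cases hgen : d.gen j < W.length
      · rw [List.getD_eq_getElem _ _ hgen] at h4'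
        have hwm : W[d.gen j] ∈ W := List.getElem_mem hgen
        have hp' : d.pt j < m.n := by
          rw [← h4']
          exact mtrace_lt hm _ (hW _ hwm) _ hp
        refine ⟨hp', modelHom hcod hR1 hm (PresentedGroup.mk R (wordF dec W[d.gen j])) * g,
          K.mul_mem (hK _ hwm) hg, ?_⟩
        rw [Equiv.Perm.mul_apply, hgb]
        apply Fin.ext
        rw [modelHom_word hcod hR1 hm _ (hW _ hwm)]
        exact h4'
      · rw [List.getD_eq_default _ _ (by omega), mtrace_nil] at h4'
        refine ⟨h4' ▸ hp, g, hg, ?_⟩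
        rw [hgb]
        apply Fin.ext
        exact h4'

/-- the set of listed points -/
theorem LevelOK.exists_set {d : LData} {W : List (List ℕ)} {b : ℕ} (h : LevelOK m d W b)
    (hcod : Coding dec enc m.nc) (hR1 : ∀ r ∈ R, ∃ b ∈ bases, r = wordF dec b)
    (hm : ModelOK m bases subsL) (hW : ∀ w ∈ W, ∀ c ∈ w, c < m.nc) (hb : b < m.n)
    (K : Subgroup (Equiv.Perm (Fin m.n)))
    (hK : ∀ w ∈ W, modelHom hcod hR1 hm (PresentedGroup.mk R (wordF dec w)) ∈ K) :
    ∃ O : Set (Fin m.n), O.ncard = d.cnt ∧ ∀ y ∈ O, ∃ g ∈ K, g • (⟨b, hb⟩ : Fin m.n) = y := by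
  have hr := h.reach hcod hR1 hm hW hb K hK
  let f : Fin d.cnt → Fin m.n := fun j => ⟨d.pt j.val, (hr j.val j.2).1⟩
  have hf : Function.Injective f := by
    intro i j hij
    have h1 : d.pt i.val = d.pt j.val := congrArg Fin.val hij
    apply Fin.ext
    by_contra hne
    rcases Nat.lt_or_gt_of_ne hne with h2 | h2
    · have := h.mono i.val j.val h2 j.2; omega
    · have := h.mono j.val i.val h2 i.2; omega
  refine ⟨Set.range f, ?_, ?_⟩
  · rw [Set.ncard_eq_toFinset_card' , Set.toFinset_range, Finset.card_image_of_injective _ hf,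
      Finset.card_univ, Fintype.card_fin]
  · rintro _ ⟨j, rfl⟩
    obtain ⟨hp, g, hg, hgb⟩ := hr j.val j.2
    exact ⟨g, hg, hgb⟩

end LevelHom

/-! ### a presentation and a presentation of a subgroup -/

section Stage

variable {α : Type} {dec : ℕ → Letter α}

/-- the elements of the free group of a list of words -/
def relSet (dec : ℕ → Letter α) (B : List (List ℕ)) : Set (FreeGroup α) :=
  {r | ∃ b ∈ B, r = wordF dec b}

theorem mem_relSet (B : List (List ℕ)) (b : List ℕ) (hb : b ∈ B) : wordF dec b ∈ relSet dec B :=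
  ⟨b, hb, rfl⟩

/-- the letters of the generators in use -/
def filt (dec : ℕ → Letter α) (u : α → Bool) (b : List ℕ) : List ℕ := b.filter fun c => u (dec c).1

theorem lift_wordF {P : Type*} [Group P] (f : α → P) (b : List ℕ) :
    FreeGroup.lift f (wordF dec b) = evc f dec b := by
  unfold wordF evc
  rw [lift_mk_reverse]

theorem evc_kill {P : Type*} [Group P] (f : α → P) (u : α → Bool) (b : List ℕ) :
    evc (fun x => if u x then f x else 1) dec b = evc f dec (filt dec u b) := by
  induction b with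
  | nil => rfl
  | cons c cs ih =>
    unfold filt at ih ⊢
    rw [evc_cons, ih, List.filter_cons]
    by_cases hc : u (dec c).1 = true
    · rw [if_pos (by simpa using hc), evc_cons]
      congr 1
      unfold gl
      have h1 : (fun x => if u x = true then f x else 1) (dec c).1 = f (dec c).1 := by
        show (if u (dec c).1 = true then f (dec c).1 else 1) = f (dec c).1
        rw [if_pos hc]
      rw [h1]
    · rw [if_neg (by simpa using hc)]
      have : gl (fun x => if u x then f x else 1) (dec c) = 1 := by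
        unfold gl
        have h1 : (fun x => if u x = true then f x else 1) (dec c).1 = 1 := by
          show (if u (dec c).1 = true then f (dec c).1 else 1) = 1
          rw [if_neg hc]
        rw [h1]
        split_ifs <;> simp
      rw [this, mul_one]

variable (R R' S : Set (FreeGroup α))

/-- the order of a presented group from the index of a subgroup and the order of a group given by
relators which hold in the subgroup -/
theorem stage_bound (B B' SL : List (List ℕ)) (u : α → Bool)
    (hR2 : ∀ b ∈ B, wordF dec b ∈ R)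
    (hR1' : ∀ r ∈ R', ∃ b ∈ B', r = wordF dec b)
    (hS1 : ∀ s ∈ S, ∃ b ∈ SL, s = wordF dec b)
    (hSu : ∀ s ∈ SL, filt dec u s = s)
    (hB' : ∀ b ∈ B', filt dec u b = [] ∨ filt dec u b ∈ B)
    (n m : ℕ)
    (hidx : Finite (PresentedGroup R ⧸ (Subgroup.closure S).map (PresentedGroup.mk R)) ∧
      Nat.card (PresentedGroup R ⧸ (Subgroup.closure S).map (PresentedGroup.mk R)) ≤ n)
    (hK : Finite (PresentedGroup R') ∧ Nat.card (PresentedGroup R') ≤ m) :
    Finite (PresentedGroup R) ∧ Nat.card (PresentedGroup R) ≤ n * m := by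
  let f : α → PresentedGroup R := fun x => if u x then PresentedGroup.of x else 1
  have hf : ∀ b : List ℕ, FreeGroup.lift f (wordF dec b) =
      PresentedGroup.mk R (wordF dec (filt dec u b)) := by
    intro b
    rw [lift_wordF, evc_kill, evc_of]
  have hrel : ∀ r ∈ R', FreeGroup.lift f r = 1 := by
    intro r hr
    obtain ⟨b, hb, rfl⟩ := hR1' r hr
    rw [hf]
    rcases hB' b hb with h | h
    · rw [h]
      rfl
    · exact PresentedGroup.one_of_mem (hR2 _ h)
  let ψ : PresentedGroup R' →* PresentedGroup R := PresentedGroup.toGroup hrel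
  have hle : (Subgroup.closure S).map (PresentedGroup.mk R) ≤ ψ.range := by
    rw [MonoidHom.map_closure, Subgroup.closure_le]
    rintro _ ⟨s, hs, rfl⟩
    obtain ⟨b, hb, rfl⟩ := hS1 s hs
    refine ⟨PresentedGroup.mk R' (wordF dec b), ?_⟩
    show PresentedGroup.toGroup hrel (PresentedGroup.mk R' (wordF dec b)) = _
    rw [toGroup_mk, hf, hSu b hb]
  exact card_le_of_index_le _ n m hidx (card_le_of_le_range ψ _ hle m hK)

/-- the order of a presented group from the index of the trivial subgroup -/
theorem stage_bot (hS : ∀ s ∈ S, False) (n : ℕ)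
    (hidx : Finite (PresentedGroup R ⧸ (Subgroup.closure S).map (PresentedGroup.mk R)) ∧
      Nat.card (PresentedGroup R ⧸ (Subgroup.closure S).map (PresentedGroup.mk R)) ≤ n) :
    Finite (PresentedGroup R) ∧ Nat.card (PresentedGroup R) ≤ n := by
  have hS' : S = ∅ := Set.eq_empty_of_forall_notMem fun s hs => hS s hs
  have hbot : (Subgroup.closure S).map (PresentedGroup.mk R) = ⊥ := by
    rw [hS', Subgroup.closure_empty, Subgroup.map_bot]
  rw [hbot] at hidx
  exact card_le_of_bot n hidx

/-- the normal closure of an element is everything when adding it to the relators gives a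
trivial group -/
theorem normalClosure_eq_top_of_trivial (x : FreeGroup α)
    (hR' : ∀ r ∈ R', r ∈ R ∨ r = x)
    (htriv : Finite (PresentedGroup R') ∧ Nat.card (PresentedGroup R') ≤ 1) :
    Subgroup.normalClosure {PresentedGroup.mk R x} = ⊤ := by
  set N := Subgroup.normalClosure {PresentedGroup.mk R x} with hN
  let π : PresentedGroup R →* PresentedGroup R ⧸ N := QuotientGroup.mk' N
  let f : α → PresentedGroup R ⧸ N := fun a => π (PresentedGroup.of a)
  have hlift : ∀ w : FreeGroup α, FreeGroup.lift f w = π (PresentedGroup.mk R w) := by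
    intro w
    have : FreeGroup.lift f = π.comp (PresentedGroup.mk R) := by
      ext a
      simp [f, PresentedGroup.of]
    rw [this]
    rfl
  have hrel : ∀ r ∈ R', FreeGroup.lift f r = 1 := by
    intro r hr
    rw [hlift]
    rcases hR' r hr with h | rfl
    · rw [PresentedGroup.one_of_mem h, map_one]
    · exact (QuotientGroup.eq_one_iff _).mpr (Subgroup.subset_normalClosure rfl)
  let ψ : PresentedGroup R' →* PresentedGroup R ⧸ N := PresentedGroup.toGroup hrel
  have hsurj : Function.Surjective ψ := by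
    intro q
    obtain ⟨g, rfl⟩ := QuotientGroup.mk'_surjective N q
    obtain ⟨w, rfl⟩ := PresentedGroup.mk_surjective R g
    refine ⟨PresentedGroup.mk R' w, ?_⟩
    show PresentedGroup.toGroup hrel (PresentedGroup.mk R' w) = _
    rw [toGroup_mk, hlift]
  haveI := htriv.1
  have h1 : Nat.card (PresentedGroup R ⧸ N) ≤ 1 :=
    (Nat.card_le_card_of_surjective ψ hsurj).trans htriv.2
  haveI : Finite (PresentedGroup R ⧸ N) := Finite.of_surjective ψ hsurj
  have h2 : Subsingleton (PresentedGroup R ⧸ N) := by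
    rw [← Finite.card_le_one_iff_subsingleton]
    exact h1
  exact QuotientGroup.subgroup_eq_top_of_subsingleton N h2

end Stage

/-! ### maximality of the point stabiliser from the orbits of a subgroup of it -/

/-- consecutive ranges from `a` to `b` -/
def Consec : List (ℕ × ℕ) → ℕ → ℕ → Prop
  | [], a, b => a = b
  | r :: rs, a, b => r.1 = a ∧ a < r.2 ∧ Consec rs r.2 b

instance : ∀ (rs : List (ℕ × ℕ)) (a b : ℕ), Decidable (Consec rs a b)
  | [], a, b => inferInstanceAs (Decidable (a = b))
  | r :: rs, a, b =>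
    haveI := instDecidableConsec rs r.2 b
    inferInstanceAs (Decidable (r.1 = a ∧ a < r.2 ∧ Consec rs r.2 b))

theorem Consec.le {rs : List (ℕ × ℕ)} {a b : ℕ} (h : Consec rs a b) : a ≤ b := by
  induction rs generalizing a with
  | nil => exact le_of_eq h
  | cons r rs ih =>
    obtain ⟨h1, h2, h3⟩ := h
    exact (le_of_lt h2).trans (ih h3)

theorem Consec.cover {rs : List (ℕ × ℕ)} {a b : ℕ} (h : Consec rs a b) (x : ℕ) (h1 : a ≤ x)
    (h2 : x < b) : ∃ i : Fin rs.length, (rs.get i).1 ≤ x ∧ x < (rs.get i).2 := by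
  induction rs generalizing a with
  | nil =>
    have : a = b := h
    omega
  | cons r rs ih =>
    obtain ⟨h3, h4, h5⟩ := h
    by_cases hx : x < r.2
    · exact ⟨⟨0, by simp⟩, by simp only [List.get_eq_getElem, List.getElem_cons_zero]; omega, hx⟩
    · obtain ⟨i, hi⟩ := ih h5 (by omega)
      exact ⟨i.succ, by simpa using hi⟩

theorem Consec.bounds {rs : List (ℕ × ℕ)} {a b : ℕ} (h : Consec rs a b) (i : Fin rs.length) :
    a ≤ (rs.get i).1 ∧ (rs.get i).1 < (rs.get i).2 ∧ (rs.get i).2 ≤ b := by
  induction rs generalizing a with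
  | nil => exact i.elim0
  | cons r rs ih =>
    obtain ⟨h3, h4, h5⟩ := h
    refine Fin.cases ?_ (fun j => ?_) i
    · simp only [List.get_eq_getElem, Fin.val_zero, List.getElem_cons_zero]
      exact ⟨by omega, by omega, h5.le⟩
    · have := ih h5 j
      simp only [List.get_eq_getElem, Fin.val_succ, List.getElem_cons_succ] at this ⊢
      omega

theorem Consec.disj {rs : List (ℕ × ℕ)} {a b : ℕ} (h : Consec rs a b) (i j : Fin rs.length)
    (hij : i.val < j.val) : (rs.get i).2 ≤ (rs.get j).1 := by
  induction rs generalizing a with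
  | nil => exact i.elim0
  | cons r rs ih =>
    obtain ⟨h3, h4, h5⟩ := h
    revert hij
    refine Fin.cases ?_ (fun j' => ?_) j
    · intro hij; simp at hij
    · refine Fin.cases ?_ (fun i' => ?_) i
      · intro _
        have := (h5.bounds j').1
        simpa using this
      · intro hij
        have := ih h5 i' j' (by simpa using hij)
        simpa using this

section Maximal

variable {α : Type} {R : Set (FreeGroup α)} {dec : ℕ → Letter α} {enc : α → ℕ}
variable {m : MData} {bases subsL : List (List ℕ)}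

/-- the points of a range are images of its first point under the stabiliser -/
theorem orb_reach (hcod : Coding dec enc m.nc) (hR1 : ∀ r ∈ R, ∃ b ∈ bases, r = wordF dec b)
    (hm : ModelOK m bases subsL) (lo hi : ℕ) (ho : OrbOK m subsL lo hi) :
    ∀ k (hk1 : lo ≤ k) (hk2 : k < hi),
      ∃ g ∈ stabOf (modelHom hcod hR1 hm) ⟨0, hm.npos⟩,
        modelHom hcod hR1 hm g ⟨lo, by have := ho.le; omega⟩ = ⟨k, by have := ho.le; omega⟩ := by
  intro k
  induction k using Nat.strong_induction_on with
  | _ k ih =>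
    intro hk1 hk2
    by_cases h0 : k = lo
    · subst h0
      exact ⟨1, Subgroup.one_mem _, by simp⟩
    · obtain ⟨h1, h2, s, hs, h3⟩ := ho.reach k (by omega) hk2
      obtain ⟨g, hg, hgq⟩ := ih (m.oparOf k) h2 h1 (by omega)
      refine ⟨PresentedGroup.mk R (wordF dec s) * g, Subgroup.mul_mem _ ?_ hg, ?_⟩
      · rw [mem_stabOf]
        apply Fin.ext
        rw [modelHom_word hcod hR1 hm s (hm.subc s hs)]
        exact hm.sub0 s hs
      · rw [map_mul, Equiv.Perm.mul_apply, hgq]
        apply Fin.ext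
        rw [modelHom_word hcod hR1 hm s (hm.subc s hs)]
        exact h3

theorem maximal_of_orbs (hcod : Coding dec enc m.nc) (hR1 : ∀ r ∈ R, ∃ b ∈ bases, r = wordF dec b)
    (hm : ModelOK m bases subsL) (rs : List (ℕ × ℕ)) (hcon : Consec rs 1 m.n)
    (horb : ∀ r ∈ rs, OrbOK m subsL r.1 r.2)
    (harith : ∀ I : Finset (Fin rs.length),
      (1 + ∑ i ∈ I, ((rs.get i).2 - (rs.get i).1)) ∣ (1 + ∑ i, ((rs.get i).2 - (rs.get i).1)) →
        I = ∅ ∨ I = Finset.univ)
    (M : Subgroup (PresentedGroup R)) (hM : stabOf (modelHom hcod hR1 hm) ⟨0, hm.npos⟩ ≤ M) :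
    M = stabOf (modelHom hcod hR1 hm) ⟨0, hm.npos⟩ ∨ M = ⊤ := by
  set φ := modelHom hcod hR1 hm with hφ
  set x0 : Fin m.n := ⟨0, hm.npos⟩ with hx0
  letI : MulAction (PresentedGroup R) (Fin m.n) := MulAction.compHom (Fin m.n) φ
  have hsm : ∀ (g : PresentedGroup R) (y : Fin m.n), g • y = φ g y := fun _ _ => rfl
  have hstab : MulAction.stabilizer (PresentedGroup R) x0 = stabOf φ x0 := by
    ext g
    rw [mem_stabOf, MulAction.mem_stabilizer_iff, hsm]
  have horbit : MulAction.orbit (PresentedGroup R) x0 = Set.univ := by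
    ext y
    simp only [Set.mem_univ, iff_true]
    obtain ⟨g, hg⟩ := modelHom_trans hcod hR1 hm y
    exact ⟨g, hg⟩
  let O : Fin rs.length → Set (Fin m.n) := fun i => {x | (rs.get i).1 ≤ x.val ∧ x.val < (rs.get i).2}
  rw [← hstab] at hM ⊢
  refine SC.maximal_of_suborbits x0 O (fun i => (rs.get i).2 - (rs.get i).1)
    ?_ ?_ ?_ ?_ ?_ ?_ ?_ harith M hM
  · intro x _
    by_cases hx : x.val = 0
    · left
      apply Fin.ext
      exact hx
    · right
      obtain ⟨i, hi⟩ := hcon.cover x.val (by omega) x.2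
      exact ⟨i, hi⟩
  · intro i x _
    rw [horbit]
    trivial
  · intro i
    exact Set.toFinite _
  · intro i hi
    have := (hcon.bounds i).1
    have h2 : (rs.get i).1 ≤ 0 := hi.1
    omega
  · intro i j hij
    rw [Set.disjoint_left]
    rintro x ⟨h1, h2⟩ ⟨h3, h4⟩
    rcases Nat.lt_or_gt_of_ne (fun h => hij (Fin.ext h)) with h | h
    · have := hcon.disj i j h; omega
    · have := hcon.disj j i h; omega
  · intro i
    have hb := hcon.bounds i
    exact ncard_range_fin m.n (rs.get i).1 (rs.get i).2 hb.2.2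
  · intro i x hx y hy
    have hb := hcon.bounds i
    have ho := horb (rs.get i) (List.get_mem rs i)
    obtain ⟨g1, hg1, h1⟩ := orb_reach hcod hR1 hm _ _ ho x.val hx.1 hx.2
    obtain ⟨g2, hg2, h2⟩ := orb_reach hcod hR1 hm _ _ ho y.val hy.1 hy.2
    refine ⟨g2 * g1⁻¹, ?_, ?_⟩
    · rw [hstab]
      exact Subgroup.mul_mem _ hg2 (Subgroup.inv_mem _ hg1)
    · rw [hsm, map_mul, Equiv.Perm.mul_apply, map_inv]
      have h1' : (φ g1)⁻¹ x = ⟨(rs.get i).1, by omega⟩ := by
        rw [Equiv.Perm.inv_eq_iff_eq]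
        exact h1.symm
      rw [h1']
      exact h2

end Maximal

/-! ### the chain of stabilisers from checked levels, and the main theorem -/

section FixSub

variable {A : Type*} [Group A] {X : Type*} [MulAction A X]

/-- the elements of a subgroup fixing the points of a list -/
def fixSub (K0 : Subgroup A) (fixed : List X) : Subgroup A :=
  K0 ⊓ ⨅ q ∈ fixed, MulAction.stabilizer A q

theorem mem_fixSub (K0 : Subgroup A) (fixed : List X) (g : A) :
    g ∈ fixSub K0 fixed ↔ g ∈ K0 ∧ ∀ q ∈ fixed, g • q = q := by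
  unfold fixSub
  simp only [Subgroup.mem_inf, Subgroup.mem_iInf, MulAction.mem_stabilizer_iff]

theorem fixSub_nil (K0 : Subgroup A) : fixSub K0 ([] : List X) = K0 := by
  ext g
  rw [mem_fixSub]
  simp

theorem fixSub_cons (K0 : Subgroup A) (fixed : List X) (b : X) :
    fixSub K0 fixed ⊓ MulAction.stabilizer A b = fixSub K0 (b :: fixed) := by
  ext g
  rw [Subgroup.mem_inf, mem_fixSub, mem_fixSub, MulAction.mem_stabilizer_iff]
  simp only [List.mem_cons, forall_eq_or_imp]
  tauto

end FixSub

/-- a level: the list of points, the words, and the base point -/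
structure LSpec where
  d : LData
  W : List (List ℕ)
  b : ℕ

/-- checked levels, each fixing the base points of the levels before -/
def LevelsOK (m : MData) : List ℕ → List LSpec → Prop
  | _, [] => True
  | fixed, s :: rest =>
    (LevelOK m s.d s.W s.b ∧ s.b < m.n ∧
      ∀ w ∈ s.W, (∀ c ∈ w, c < m.nc) ∧ ∀ q ∈ fixed, mtrace m w q = q) ∧
      LevelsOK m (s.b :: fixed) rest

theorem levelsOK_nil (m : MData) (fixed : List ℕ) : LevelsOK m fixed [] := trivial

theorem levelsOK_cons (m : MData) (fixed : List ℕ) (s : LSpec) (rest : List LSpec)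
    (h1 : LevelOK m s.d s.W s.b) (h2 : s.b < m.n)
    (h3 : ∀ w ∈ s.W, (∀ c ∈ w, c < m.nc) ∧ ∀ q ∈ fixed, mtrace m w q = q)
    (h4 : LevelsOK m (s.b :: fixed) rest) : LevelsOK m fixed (s :: rest) :=
  ⟨⟨h1, h2, h3⟩, h4⟩

/-- the multiplicity of a prime in two numbers with the same power of it -/
theorem factorization_eq_of (N n p a r r' : ℕ) (hp : p.Prime) (hN : N = p ^ a * r)
    (hn : n = p ^ a * r') (hr : ¬ p ∣ r) (hr' : ¬ p ∣ r') :
    N.factorization p = n.factorization p := by
  have h0 : r ≠ 0 := fun h => hr (h ▸ dvd_zero p)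
  have h0' : r' ≠ 0 := fun h => hr' (h ▸ dvd_zero p)
  have hpa : p ^ a ≠ 0 := pow_ne_zero _ hp.ne_zero
  rw [hN, hn, Nat.factorization_mul hpa h0, Nat.factorization_mul hpa h0']
  simp only [Finsupp.coe_add, Pi.add_apply]
  rw [Nat.factorization_eq_zero_of_not_dvd hr, Nat.factorization_eq_zero_of_not_dvd hr']

section Final

variable {α : Type} {R : Set (FreeGroup α)} {dec : ℕ → Letter α} {enc : α → ℕ}
variable {m : MData} {bases subsL : List (List ℕ)}

/-- a point of the model from a number -/
def mkPt (hm : ModelOK m bases subsL) (q : ℕ) : Fin m.n := ⟨q % m.n, Nat.mod_lt _ hm.npos⟩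

theorem mkPt_of_lt (hm : ModelOK m bases subsL) (q : ℕ) (hq : q < m.n) :
    mkPt hm q = ⟨q, hq⟩ := by
  apply Fin.ext
  exact Nat.mod_eq_of_lt hq

theorem chainOK_of_levels (hcod : Coding dec enc m.nc)
    (hR1 : ∀ r ∈ R, ∃ b ∈ bases, r = wordF dec b) (hm : ModelOK m bases subsL)
    (specs : List LSpec) (fixed : List ℕ) (hfixed : ∀ q ∈ fixed, q < m.n)
    (h : LevelsOK m fixed specs) :
    ChainOK (fixSub (modelHom hcod hR1 hm).range (fixed.map (mkPt hm)))
      (specs.map fun s => (mkPt hm s.b, s.d.cnt)) := by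
  induction specs generalizing fixed with
  | nil => trivial
  | cons s rest ih =>
    obtain ⟨⟨h1, h2, h3⟩, h4⟩ := h
    rw [List.map_cons]
    refine ⟨?_, ?_⟩
    · rw [mkPt_of_lt hm s.b h2]
      apply h1.exists_set hcod hR1 hm (fun w hw => (h3 w hw).1) h2
      intro w hw
      rw [mem_fixSub]
      refine ⟨⟨_, rfl⟩, ?_⟩
      intro q hq
      obtain ⟨q', hq', rfl⟩ := List.mem_map.mp hq
      rw [mkPt_of_lt hm q' (hfixed q' hq')]
      apply Fin.ext
      show (modelHom hcod hR1 hm (PresentedGroup.mk R (wordF dec w)) ⟨q', _⟩).val = q'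
      rw [modelHom_word hcod hR1 hm w (h3 w hw).1]
      exact (h3 w hw).2 q' hq'
    · show ChainOK (fixSub _ _ ⊓ MulAction.stabilizer _ (mkPt hm s.b)) _
      rw [fixSub_cons, ← List.map_cons]
      apply ih (s.b :: fixed) _ h4
      intro q hq
      rcases List.mem_cons.mp hq with rfl | hq
      · exact h2
      · exact hfixed q hq

/-- the order and the simplicity of a presented group from an upper bound for the order, a
permutation model with checked levels and orbits of the subgroup, and a word of prime power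
order with trivial quotient -/
theorem simple_card_main (hcod : Coding dec enc m.nc)
    (hR1 : ∀ r ∈ R, ∃ b ∈ bases, r = wordF dec b) (hm : ModelOK m bases subsL)
    (N : ℕ) (hub : Finite (PresentedGroup R) ∧ Nat.card (PresentedGroup R) ≤ N)
    (specs : List LSpec) (hlev : LevelsOK m [0] specs)
    (hprod : m.n * (specs.map fun s => s.d.cnt).prod = N)
    (rs : List (ℕ × ℕ)) (hcon : Consec rs 1 m.n) (horb : ∀ r ∈ rs, OrbOK m subsL r.1 r.2)
    (harith : ∀ I : Finset (Fin rs.length),
      (1 + ∑ i ∈ I, ((rs.get i).2 - (rs.get i).1)) ∣ (1 + ∑ i, ((rs.get i).2 - (rs.get i).1)) →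
        I = ∅ ∨ I = Finset.univ)
    (hn : 2 ≤ m.n) (p : ℕ) [hpp : Fact p.Prime] (hv : N.factorization p = m.n.factorization p)
    (xw : List ℕ) (hxw : ∀ c ∈ xw, c < m.nc) (k : ℕ)
    (hxp : ∀ j, j < m.n → mtrace m (wpow xw (p ^ k)) j = j)
    (hnc : Subgroup.normalClosure {PresentedGroup.mk R (wordF dec xw)} = ⊤) :
    IsSimpleGroup (PresentedGroup R) ∧ Nat.card (PresentedGroup R) = N := by
  set φ := modelHom hcod hR1 hm with hφ
  have hx0 : mkPt hm 0 = ⟨0, hm.npos⟩ := mkPt_of_lt hm 0 hm.npos
  have hchain : ChainOK φ.range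
      ((⟨0, hm.npos⟩, m.n) :: specs.map fun s => (mkPt hm s.b, s.d.cnt)) := by
    refine ⟨⟨Set.univ, by rw [Set.ncard_univ, Nat.card_fin], fun y _ => ?_⟩, ?_⟩
    · obtain ⟨g, hg⟩ := modelHom_trans hcod hR1 hm y
      exact ⟨_, ⟨g, rfl⟩, hg⟩
    · have := chainOK_of_levels hcod hR1 hm specs [0] (by simpa using hm.npos) hlev
      rw [List.map_cons, List.map_nil, ← fixSub_cons, fixSub_nil, hx0] at this
      exact this
  refine simple_card_abstract φ ⟨0, hm.npos⟩ N hub (modelHom_trans hcod hR1 hm) _ hchain ?_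
    (maximal_of_orbs hcod hR1 hm rs hcon horb harith) hn p hv
    (PresentedGroup.mk R (wordF dec xw)) k
    (modelHom_pow_eq_one hcod hR1 hm xw hxw (p ^ k) hxp) hnc
  rw [List.map_cons, List.prod_cons, List.map_map, ← hprod]
  rfl

/-- the same with the power of the word trivial in the presented group -/
theorem simple_card_main' (hcod : Coding dec enc m.nc)
    (hR1 : ∀ r ∈ R, ∃ b ∈ bases, r = wordF dec b) (hm : ModelOK m bases subsL)
    (N : ℕ) (hub : Finite (PresentedGroup R) ∧ Nat.card (PresentedGroup R) ≤ N)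
    (specs : List LSpec) (hlev : LevelsOK m [0] specs)
    (hprod : m.n * (specs.map fun s => s.d.cnt).prod = N)
    (rs : List (ℕ × ℕ)) (hcon : Consec rs 1 m.n) (horb : ∀ r ∈ rs, OrbOK m subsL r.1 r.2)
    (harith : ∀ I : Finset (Fin rs.length),
      (1 + ∑ i ∈ I, ((rs.get i).2 - (rs.get i).1)) ∣ (1 + ∑ i, ((rs.get i).2 - (rs.get i).1)) →
        I = ∅ ∨ I = Finset.univ)
    (hn : 2 ≤ m.n) (p : ℕ) [hpp : Fact p.Prime] (hv : N.factorization p = m.n.factorization p)
    (xw : List ℕ) (k : ℕ)
    (hx : (PresentedGroup.mk R (wordF dec xw)) ^ p ^ k = 1)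
    (hnc : Subgroup.normalClosure {PresentedGroup.mk R (wordF dec xw)} = ⊤) :
    IsSimpleGroup (PresentedGroup R) ∧ Nat.card (PresentedGroup R) = N := by
  set φ := modelHom hcod hR1 hm with hφ
  have hx0 : mkPt hm 0 = ⟨0, hm.npos⟩ := mkPt_of_lt hm 0 hm.npos
  have hchain : ChainOK φ.range
      ((⟨0, hm.npos⟩, m.n) :: specs.map fun s => (mkPt hm s.b, s.d.cnt)) := by
    refine ⟨⟨Set.univ, by rw [Set.ncard_univ, Nat.card_fin], fun y _ => ?_⟩, ?_⟩
    · obtain ⟨g, hg⟩ := modelHom_trans hcod hR1 hm y
      exact ⟨_, ⟨g, rfl⟩, hg⟩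
    · have := chainOK_of_levels hcod hR1 hm specs [0] (by simpa using hm.npos) hlev
      rw [List.map_cons, List.map_nil, ← fixSub_cons, fixSub_nil, hx0] at this
      exact this
  refine simple_card_abstract φ ⟨0, hm.npos⟩ N hub (modelHom_trans hcod hR1 hm) _ hchain ?_
    (maximal_of_orbs hcod hR1 hm rs hcon horb harith) hn p hv
    (PresentedGroup.mk R (wordF dec xw)) k (by rw [← map_pow, hx, map_one]) hnc
  rw [List.map_cons, List.prod_cons, List.map_map, ← hprod]
  rfl

/-- a power of a word which is a relator -/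
theorem pow_eq_one_of_mem (xw : List ℕ) (t : ℕ) (h : wordF dec (wpow xw t) ∈ R) :
    (PresentedGroup.mk R (wordF dec xw)) ^ t = 1 := by
  rw [← mk_wordF_wpow]
  exact PresentedGroup.one_of_mem h

theorem LevelsOK.lt {m : MData} (specs : List LSpec) (fixed : List ℕ) (h : LevelsOK m fixed specs) :
    ∀ s ∈ specs, s.b < m.n := by
  induction specs generalizing fixed with
  | nil => intro s hs; cases hs
  | cons t rest ih =>
    obtain ⟨⟨_, h2, _⟩, h4⟩ := h
    intro s hs
    rcases List.mem_cons.mp hs with rfl | hs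
    · exact h2
    · exact ih _ h4 s hs

/-- a word fixing the base points of checked levels of the full order is trivial in the group -/
theorem word_eq_one_of_base (hcod : Coding dec enc m.nc)
    (hR1 : ∀ r ∈ R, ∃ b ∈ bases, r = wordF dec b) (hm : ModelOK m bases subsL)
    (N : ℕ) (hN : 0 < N) (hub : Finite (PresentedGroup R) ∧ Nat.card (PresentedGroup R) ≤ N)
    (specs : List LSpec) (hlev : LevelsOK m [0] specs)
    (hprod : m.n * (specs.map fun s => s.d.cnt).prod = N)
    (w : List ℕ) (hw : ∀ c ∈ w, c < m.nc) (h0 : mtrace m w 0 = 0)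
    (hb : ∀ s ∈ specs, mtrace m w s.b = s.b) :
    PresentedGroup.mk R (wordF dec w) = 1 := by
  set φ := modelHom hcod hR1 hm with hφ
  have hx0 : mkPt hm 0 = ⟨0, hm.npos⟩ := mkPt_of_lt hm 0 hm.npos
  have hchain : ChainOK φ.range
      ((⟨0, hm.npos⟩, m.n) :: specs.map fun s => (mkPt hm s.b, s.d.cnt)) := by
    refine ⟨⟨Set.univ, by rw [Set.ncard_univ, Nat.card_fin], fun y _ => ?_⟩, ?_⟩
    · obtain ⟨g, hg⟩ := modelHom_trans hcod hR1 hm y
      exact ⟨_, ⟨g, rfl⟩, hg⟩
    · have := chainOK_of_levels hcod hR1 hm specs [0] (by simpa using hm.npos) hlev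
      rw [List.map_cons, List.map_nil, ← fixSub_cons, fixSub_nil, hx0] at this
      exact this
  refine eq_one_of_fixes_base φ N hN hub _ hchain ?_ _ ?_
  · rw [List.map_cons, List.prod_cons, List.map_map, ← hprod]
    rfl
  · intro bn hbn
    rcases List.mem_cons.mp hbn with rfl | hbn
    · apply Fin.ext
      rw [modelHom_word hcod hR1 hm w hw]
      exact h0
    · obtain ⟨s, hs, rfl⟩ := List.mem_map.mp hbn
      have hlt := hlev.lt specs [0] s hs
      show φ _ (mkPt hm s.b) = mkPt hm s.b
      rw [mkPt_of_lt hm s.b hlt]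
      apply Fin.ext
      rw [modelHom_word hcod hR1 hm w hw]
      exact hb s hs

end Final

end Cfsg.Agent.Helper4.TC
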