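import Cfsg.Prelude.Def_SporCoxeter

set_option autoImplicit false

/-! A presentation of a simple group of order 6048 on two generators. -/

namespace Cfsg.Agent.Helper4.Pres

namespace U33

inductive Gen
  | b
  | a
  deriving DecidableEq

abbrev a : FreeGroup Gen := FreeGroup.of Gen.a
abbrev b : FreeGroup Gen := FreeGroup.of Gen.b

def edges : List (Gen × ℕ × Gen) := []

def extra : List (FreeGroup Gen) := [
  a * a,
  b * b * b * b * b * b,
  a * b * a * b * a * b * a * b * a * b * a * b * a * b,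
  a * b⁻¹ * b⁻¹ * a * b⁻¹ * b⁻¹ * a * b⁻¹ * b⁻¹ * a * b * b * a * b * b * a * b * b,
  a * b⁻¹ * a * b * a * b * a * b⁻¹ * a * b * b * a * b⁻¹ * a * b * b * a * b⁻¹ * a * b * b ]

end U33

end Cfsg.Agent.Helper4.Pres
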