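import Cfsg.Agent.Lib.Helper4.TC.Std
import Cfsg.Prelude.Def_Spor_Fi23

set_option autoImplicit false
set_option maxRecDepth 100000
set_option linter.unusedVariables false

namespace Cfsg.Agent.Helper4.TC.Fi23Cod

open Cfsg.Agent.Helper4.TC

def gens : List Cfsg.Spor.Fi23.Gen := [.a, .b, .c, .d, .e, .f, .g, .j, .h, .i]

abbrev dec : ℕ → Letter Cfsg.Spor.Fi23.Gen := stdDec gens .a
abbrev enc : Cfsg.Spor.Fi23.Gen → ℕ := stdEnc gens

theorem coding : Coding dec enc 20 :=
  std_coding gens .a (by decide) (by intro x; cases x <;> decide) 20 (by decide)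

end Cfsg.Agent.Helper4.TC.Fi23Cod
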