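import Cfsg.Agent.Lib.Helper4.TC.Fi23XD
import Cfsg.Agent.Lib.Helper4.TC.Perm
import Cfsg.Agent.Lib.Helper4.TC.Fi23Cod
import Cfsg.Agent.Lib.Helper4.TC.Strict

set_option autoImplicit false
set_option maxRecDepth 100000
set_option linter.unusedVariables false
set_option Elab.async false

namespace Cfsg.Agent.Helper4.TC.Fi23X

open Cfsg.Agent.Helper4.TC

theorem e0_c0 : edgeRange data 0 2048 0 = true := edgeRange_strict data 0 2048 0 (by decide +kernel)
theorem e1_c0 : edgeRange data 1 2048 0 = true := edgeRange_strict data 1 2048 0 (by decide +kernel)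
theorem e2_c0 : edgeRange data 2 2048 0 = true := edgeRange_strict data 2 2048 0 (by decide +kernel)
theorem e3_c0 : edgeRange data 3 2048 0 = true := edgeRange_strict data 3 2048 0 (by decide +kernel)
theorem e4_c0 : edgeRange data 4 2048 0 = true := edgeRange_strict data 4 2048 0 (by decide +kernel)
theorem e5_c0 : edgeRange data 5 2048 0 = true := edgeRange_strict data 5 2048 0 (by decide +kernel)
theorem e6_c0 : edgeRange data 6 2048 0 = true := edgeRange_strict data 6 2048 0 (by decide +kernel)
theorem e7_c0 : edgeRange data 7 2048 0 = true := edgeRange_strict data 7 2048 0 (by decide +kernel)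
theorem e8_c0 : edgeRange data 8 2048 0 = true := edgeRange_strict data 8 2048 0 (by decide +kernel)
theorem e9_c0 : edgeRange data 9 2048 0 = true := edgeRange_strict data 9 2048 0 (by decide +kernel)
theorem e10_c0 : edgeRange data 10 2048 0 = true := edgeRange_strict data 10 2048 0 (by decide +kernel)
theorem e11_c0 : edgeRange data 11 2048 0 = true := edgeRange_strict data 11 2048 0 (by decide +kernel)
theorem e12_c0 : edgeRange data 12 2048 0 = true := edgeRange_strict data 12 2048 0 (by decide +kernel)
theorem e13_c0 : edgeRange data 13 2048 0 = true := edgeRange_strict data 13 2048 0 (by decide +kernel)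
theorem e14_c0 : edgeRange data 14 2048 0 = true := edgeRange_strict data 14 2048 0 (by decide +kernel)
theorem e15_c0 : edgeRange data 15 2048 0 = true := edgeRange_strict data 15 2048 0 (by decide +kernel)
theorem e16_c0 : edgeRange data 16 2048 0 = true := edgeRange_strict data 16 2048 0 (by decide +kernel)
theorem e17_c0 : edgeRange data 17 2048 0 = true := edgeRange_strict data 17 2048 0 (by decide +kernel)
theorem e18_c0 : edgeRange data 18 2048 0 = true := edgeRange_strict data 18 2048 0 (by decide +kernel)
theorem e19_c0 : edgeRange data 19 2048 0 = true := edgeRange_strict data 19 2048 0 (by decide +kernel)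
theorem m_c0 : mergeRange data 2048 0 = true := mergeRange_strict data 2048 0 (by decide +kernel)
theorem cnt0 : countFinal data 214 0 0 = 1 := countFinal_strict data 214 0 0 1 (by decide +kernel)
theorem rows0 : rowsRange data 214 214 0 = true := rowsRange_strict data 214 214 0 (by decide +kernel)
theorem words_ok : wordsCheck data bases subsL rots = true := by decide +kernel
theorem fin0_ok : isFinal data 0 = true := by decide +kernel

theorem allE0 : ∀ k, k < 2048 → justE data 0 k = true := by
  intro k hk
  exact edgeRange_sound data 0 2048 0 e0_c0 k (by omega) (by omega)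

theorem allE1 : ∀ k, k < 2048 → justE data 1 k = true := by
  intro k hk
  exact edgeRange_sound data 1 2048 0 e1_c0 k (by omega) (by omega)

theorem allE2 : ∀ k, k < 2048 → justE data 2 k = true := by
  intro k hk
  exact edgeRange_sound data 2 2048 0 e2_c0 k (by omega) (by omega)

theorem allE3 : ∀ k, k < 2048 → justE data 3 k = true := by
  intro k hk
  exact edgeRange_sound data 3 2048 0 e3_c0 k (by omega) (by omega)

theorem allE4 : ∀ k, k < 2048 → justE data 4 k = true := by
  intro k hk
  exact edgeRange_sound data 4 2048 0 e4_c0 k (by omega) (by omega)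

theorem allE5 : ∀ k, k < 2048 → justE data 5 k = true := by
  intro k hk
  exact edgeRange_sound data 5 2048 0 e5_c0 k (by omega) (by omega)

theorem allE6 : ∀ k, k < 2048 → justE data 6 k = true := by
  intro k hk
  exact edgeRange_sound data 6 2048 0 e6_c0 k (by omega) (by omega)

theorem allE7 : ∀ k, k < 2048 → justE data 7 k = true := by
  intro k hk
  exact edgeRange_sound data 7 2048 0 e7_c0 k (by omega) (by omega)

theorem allE8 : ∀ k, k < 2048 → justE data 8 k = true := by
  intro k hk
  exact edgeRange_sound data 8 2048 0 e8_c0 k (by omega) (by omega)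

theorem allE9 : ∀ k, k < 2048 → justE data 9 k = true := by
  intro k hk
  exact edgeRange_sound data 9 2048 0 e9_c0 k (by omega) (by omega)

theorem allE10 : ∀ k, k < 2048 → justE data 10 k = true := by
  intro k hk
  exact edgeRange_sound data 10 2048 0 e10_c0 k (by omega) (by omega)

theorem allE11 : ∀ k, k < 2048 → justE data 11 k = true := by
  intro k hk
  exact edgeRange_sound data 11 2048 0 e11_c0 k (by omega) (by omega)

theorem allE12 : ∀ k, k < 2048 → justE data 12 k = true := by
  intro k hk
  exact edgeRange_sound data 12 2048 0 e12_c0 k (by omega) (by omega)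

theorem allE13 : ∀ k, k < 2048 → justE data 13 k = true := by
  intro k hk
  exact edgeRange_sound data 13 2048 0 e13_c0 k (by omega) (by omega)

theorem allE14 : ∀ k, k < 2048 → justE data 14 k = true := by
  intro k hk
  exact edgeRange_sound data 14 2048 0 e14_c0 k (by omega) (by omega)

theorem allE15 : ∀ k, k < 2048 → justE data 15 k = true := by
  intro k hk
  exact edgeRange_sound data 15 2048 0 e15_c0 k (by omega) (by omega)

theorem allE16 : ∀ k, k < 2048 → justE data 16 k = true := by
  intro k hk
  exact edgeRange_sound data 16 2048 0 e16_c0 k (by omega) (by omega)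

theorem allE17 : ∀ k, k < 2048 → justE data 17 k = true := by
  intro k hk
  exact edgeRange_sound data 17 2048 0 e17_c0 k (by omega) (by omega)

theorem allE18 : ∀ k, k < 2048 → justE data 18 k = true := by
  intro k hk
  exact edgeRange_sound data 18 2048 0 e18_c0 k (by omega) (by omega)

theorem allE19 : ∀ k, k < 2048 → justE data 19 k = true := by
  intro k hk
  exact edgeRange_sound data 19 2048 0 e19_c0 k (by omega) (by omega)

theorem allE : ∀ c k, c < data.nc → k ≤ data.mask → justE data c k = true := by
  intro c k hc hk
  have hc' : c < 20 := hc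
  have hk' : k < 2048 := Nat.lt_succ_of_le hk
  interval_cases c
  · exact allE0 k hk'
  · exact allE1 k hk'
  · exact allE2 k hk'
  · exact allE3 k hk'
  · exact allE4 k hk'
  · exact allE5 k hk'
  · exact allE6 k hk'
  · exact allE7 k hk'
  · exact allE8 k hk'
  · exact allE9 k hk'
  · exact allE10 k hk'
  · exact allE11 k hk'
  · exact allE12 k hk'
  · exact allE13 k hk'
  · exact allE14 k hk'
  · exact allE15 k hk'
  · exact allE16 k hk'
  · exact allE17 k hk'
  · exact allE18 k hk'
  · exact allE19 k hk'

theorem allM : ∀ k, k ≤ data.mask → justM data k = true := by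
  intro k hk
  have hk' : k < 2048 := Nat.lt_succ_of_le hk
  exact mergeRange_sound data 2048 0 m_c0 k (by omega) (by omega)

theorem rows_all : ∀ k, k < M → isFinal data k = true → rowOK data M k data.nc = true := by
  intro k hk
  have hk' : k < 214 := hk
  exact rowsRange_sound data M 214 0 rows0 k (by omega) (by omega)

theorem cnt_ok : countFinal data M 0 0 = n := by
  exact cnt0

/-- the index of the subgroup generated by `subsL` in the group with relators `bases` -/
theorem bound : Finite (PresentedGroup (relSet Fi23Cod.dec bases) ⧸ (Subgroup.closure (relSet Fi23Cod.dec subsL)).map (PresentedGroup.mk (relSet Fi23Cod.dec bases))) ∧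
    Nat.card (PresentedGroup (relSet Fi23Cod.dec bases) ⧸ (Subgroup.closure (relSet Fi23Cod.dec subsL)).map (PresentedGroup.mk (relSet Fi23Cod.dec bases))) ≤ n :=
  tc_bound data bases subsL rots Fi23Cod.coding (mem_relSet bases) (mem_relSet subsL) words_ok allE allM M n fin0_ok (by decide) (by decide) cnt_ok rows_all

end Cfsg.Agent.Helper4.TC.Fi23X
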