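import Cfsg.Agent.Lib.Helper4.TC.Fi23Z1D
import Cfsg.Agent.Lib.Helper4.TC.Strict

set_option autoImplicit false
set_option maxRecDepth 100000
set_option linter.unusedVariables false
set_option Elab.async false

namespace Cfsg.Agent.Helper4.TC.Fi23Z1

open Cfsg.Agent.Helper4.TC

theorem cnt0 : countFinal data 30388 0 0 = 14080 := countFinal_strict data 30388 0 0 14080 (by decide +kernel)
theorem rows0 : rowsRange data 30388 1554 0 = true := rowsRange_strict data 30388 1554 0 (by decide +kernel)
theorem rows1 : rowsRange data 30388 1709 1554 = true := rowsRange_strict data 30388 1709 1554 (by decide +kernel)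
theorem rows2 : rowsRange data 30388 1955 3263 = true := rowsRange_strict data 30388 1955 3263 (by decide +kernel)
theorem rows3 : rowsRange data 30388 2038 5218 = true := rowsRange_strict data 30388 2038 5218 (by decide +kernel)
theorem rows4 : rowsRange data 30388 1992 7256 = true := rowsRange_strict data 30388 1992 7256 (by decide +kernel)
theorem rows5 : rowsRange data 30388 1764 9248 = true := rowsRange_strict data 30388 1764 9248 (by decide +kernel)
theorem rows6 : rowsRange data 30388 1506 11012 = true := rowsRange_strict data 30388 1506 11012 (by decide +kernel)

end Cfsg.Agent.Helper4.TC.Fi23Z1
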