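import Cfsg.Agent.Lib.Helper4.TC.Fi23Z1D
import Cfsg.Agent.Lib.Helper4.TC.Strict

set_option autoImplicit false
set_option maxRecDepth 100000
set_option linter.unusedVariables false
set_option Elab.async false

namespace Cfsg.Agent.Helper4.TC.Fi23Z1

open Cfsg.Agent.Helper4.TC

theorem rows7 : rowsRange data 30388 1555 12518 = true := rowsRange_strict data 30388 1555 12518 (by decide +kernel)
theorem rows8 : rowsRange data 30388 1652 14073 = true := rowsRange_strict data 30388 1652 14073 (by decide +kernel)
theorem rows9 : rowsRange data 30388 1656 15725 = true := rowsRange_strict data 30388 1656 15725 (by decide +kernel)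
theorem rows10 : rowsRange data 30388 1700 17381 = true := rowsRange_strict data 30388 1700 17381 (by decide +kernel)
theorem rows11 : rowsRange data 30388 1701 19081 = true := rowsRange_strict data 30388 1701 19081 (by decide +kernel)
theorem rows12 : rowsRange data 30388 1739 20782 = true := rowsRange_strict data 30388 1739 20782 (by decide +kernel)
theorem rows13 : rowsRange data 30388 1657 22521 = true := rowsRange_strict data 30388 1657 22521 (by decide +kernel)
theorem rows14 : rowsRange data 30388 1585 24178 = true := rowsRange_strict data 30388 1585 24178 (by decide +kernel)

end Cfsg.Agent.Helper4.TC.Fi23Z1
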