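import Cfsg.Agent.Lib.Helper4.TC.Perm
import Cfsg.Agent.Lib.Helper4.TC.Fi23Cod
import Cfsg.Agent.Lib.Helper4.TC.Fi23Z1Fin
import Cfsg.Agent.Lib.Helper4.TC.Fi23Z1CM
import Cfsg.Agent.Lib.Helper4.TC.Fi23Z1CE0
import Cfsg.Agent.Lib.Helper4.TC.Fi23Z1CE1
import Cfsg.Agent.Lib.Helper4.TC.Fi23Z1CE2
import Cfsg.Agent.Lib.Helper4.TC.Fi23Z1CE3
import Cfsg.Agent.Lib.Helper4.TC.Fi23Z1CE4
import Cfsg.Agent.Lib.Helper4.TC.Fi23Z1CE5
import Cfsg.Agent.Lib.Helper4.TC.Fi23Z1CE6
import Cfsg.Agent.Lib.Helper4.TC.Fi23Z1CE7
import Cfsg.Agent.Lib.Helper4.TC.Fi23Z1CE8
import Cfsg.Agent.Lib.Helper4.TC.Fi23Z1CE9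
import Cfsg.Agent.Lib.Helper4.TC.Fi23Z1CE10
import Cfsg.Agent.Lib.Helper4.TC.Fi23Z1CE11
import Cfsg.Agent.Lib.Helper4.TC.Fi23Z1CE12
import Cfsg.Agent.Lib.Helper4.TC.Fi23Z1CE13
import Cfsg.Agent.Lib.Helper4.TC.Fi23Z1CE14
import Cfsg.Agent.Lib.Helper4.TC.Fi23Z1CE15
import Cfsg.Agent.Lib.Helper4.TC.Fi23Z1CE16
import Cfsg.Agent.Lib.Helper4.TC.Fi23Z1CE17
import Cfsg.Agent.Lib.Helper4.TC.Fi23Z1CE18
import Cfsg.Agent.Lib.Helper4.TC.Fi23Z1CE19
import Cfsg.Agent.Lib.Helper4.TC.Fi23Z1CF0
import Cfsg.Agent.Lib.Helper4.TC.Fi23Z1CF1
import Cfsg.Agent.Lib.Helper4.TC.Fi23Z1CF2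

set_option autoImplicit false
set_option maxRecDepth 100000
set_option linter.unusedVariables false

namespace Cfsg.Agent.Helper4.TC.Fi23Z1

open Cfsg.Agent.Helper4.TC

theorem allE0 : ∀ k, k < 32768 → justE data 0 k = true := by
  intro k hk
  by_cases hh1 : k < 14627
  · skip
    exact edgeRange_sound data 0 14627 0 e0_c0 k (by omega) (by omega)
  · skip
    by_cases hh2 : k < 29191
    · skip
      exact edgeRange_sound data 0 14564 14627 e0_c1 k (by omega) (by omega)
    · skip
      exact edgeRange_sound data 0 3577 29191 e0_c2 k (by omega) (by omega)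

theorem allE1 : ∀ k, k < 32768 → justE data 1 k = true := by
  intro k hk
  by_cases hh1 : k < 20225
  · skip
    exact edgeRange_sound data 1 20225 0 e1_c0 k (by omega) (by omega)
  · skip
    exact edgeRange_sound data 1 12543 20225 e1_c1 k (by omega) (by omega)

theorem allE2 : ∀ k, k < 32768 → justE data 2 k = true := by
  intro k hk
  by_cases hh1 : k < 14640
  · skip
    exact edgeRange_sound data 2 14640 0 e2_c0 k (by omega) (by omega)
  · skip
    by_cases hh2 : k < 29489
    · skip
      exact edgeRange_sound data 2 14849 14640 e2_c1 k (by omega) (by omega)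
    · skip
      exact edgeRange_sound data 2 3279 29489 e2_c2 k (by omega) (by omega)

theorem allE3 : ∀ k, k < 32768 → justE data 3 k = true := by
  intro k hk
  by_cases hh1 : k < 20232
  · skip
    exact edgeRange_sound data 3 20232 0 e3_c0 k (by omega) (by omega)
  · skip
    exact edgeRange_sound data 3 12536 20232 e3_c1 k (by omega) (by omega)

theorem allE4 : ∀ k, k < 32768 → justE data 4 k = true := by
  intro k hk
  by_cases hh1 : k < 14794
  · skip
    exact edgeRange_sound data 4 14794 0 e4_c0 k (by omega) (by omega)
  · skip
    by_cases hh2 : k < 29849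
    · skip
      exact edgeRange_sound data 4 15055 14794 e4_c1 k (by omega) (by omega)
    · skip
      exact edgeRange_sound data 4 2919 29849 e4_c2 k (by omega) (by omega)

theorem allE5 : ∀ k, k < 32768 → justE data 5 k = true := by
  intro k hk
  by_cases hh1 : k < 20306
  · skip
    exact edgeRange_sound data 5 20306 0 e5_c0 k (by omega) (by omega)
  · skip
    exact edgeRange_sound data 5 12462 20306 e5_c1 k (by omega) (by omega)

theorem allE6 : ∀ k, k < 32768 → justE data 6 k = true := by
  intro k hk
  by_cases hh1 : k < 14732
  · skip
    exact edgeRange_sound data 6 14732 0 e6_c0 k (by omega) (by omega)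
  · skip
    by_cases hh2 : k < 29609
    · skip
      exact edgeRange_sound data 6 14877 14732 e6_c1 k (by omega) (by omega)
    · skip
      exact edgeRange_sound data 6 3159 29609 e6_c2 k (by omega) (by omega)

theorem allE7 : ∀ k, k < 32768 → justE data 7 k = true := by
  intro k hk
  by_cases hh1 : k < 20520
  · skip
    exact edgeRange_sound data 7 20520 0 e7_c0 k (by omega) (by omega)
  · skip
    exact edgeRange_sound data 7 12248 20520 e7_c1 k (by omega) (by omega)

theorem allE8 : ∀ k, k < 32768 → justE data 8 k = true := by
  intro k hk
  by_cases hh1 : k < 15026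
  · skip
    exact edgeRange_sound data 8 15026 0 e8_c0 k (by omega) (by omega)
  · skip
    by_cases hh2 : k < 31541
    · skip
      exact edgeRange_sound data 8 16515 15026 e8_c1 k (by omega) (by omega)
    · skip
      exact edgeRange_sound data 8 1227 31541 e8_c2 k (by omega) (by omega)

theorem allE9 : ∀ k, k < 32768 → justE data 9 k = true := by
  intro k hk
  by_cases hh1 : k < 20403
  · skip
    exact edgeRange_sound data 9 20403 0 e9_c0 k (by omega) (by omega)
  · skip
    exact edgeRange_sound data 9 12365 20403 e9_c1 k (by omega) (by omega)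

theorem allE10 : ∀ k, k < 32768 → justE data 10 k = true := by
  intro k hk
  by_cases hh1 : k < 15047
  · skip
    exact edgeRange_sound data 10 15047 0 e10_c0 k (by omega) (by omega)
  · skip
    by_cases hh2 : k < 31132
    · skip
      exact edgeRange_sound data 10 16085 15047 e10_c1 k (by omega) (by omega)
    · skip
      exact edgeRange_sound data 10 1636 31132 e10_c2 k (by omega) (by omega)

theorem allE11 : ∀ k, k < 32768 → justE data 11 k = true := by
  intro k hk
  by_cases hh1 : k < 20311
  · skip
    exact edgeRange_sound data 11 20311 0 e11_c0 k (by omega) (by omega)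
  · skip
    exact edgeRange_sound data 11 12457 20311 e11_c1 k (by omega) (by omega)

theorem allE12 : ∀ k, k < 32768 → justE data 12 k = true := by
  intro k hk
  by_cases hh1 : k < 15303
  · skip
    exact edgeRange_sound data 12 15303 0 e12_c0 k (by omega) (by omega)
  · skip
    exact edgeRange_sound data 12 17465 15303 e12_c1 k (by omega) (by omega)

theorem allE13 : ∀ k, k < 32768 → justE data 13 k = true := by
  intro k hk
  by_cases hh1 : k < 20289
  · skip
    exact edgeRange_sound data 13 20289 0 e13_c0 k (by omega) (by omega)
  · skip
    exact edgeRange_sound data 13 12479 20289 e13_c1 k (by omega) (by omega)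

theorem allE14 : ∀ k, k < 32768 → justE data 14 k = true := by
  intro k hk
  by_cases hh1 : k < 25000
  · skip
    exact edgeRange_sound data 14 25000 0 e14_c0 k (by omega) (by omega)
  · skip
    exact edgeRange_sound data 14 7768 25000 e14_c1 k (by omega) (by omega)

theorem allE15 : ∀ k, k < 32768 → justE data 15 k = true := by
  intro k hk
  by_cases hh1 : k < 20291
  · skip
    exact edgeRange_sound data 15 20291 0 e15_c0 k (by omega) (by omega)
  · skip
    exact edgeRange_sound data 15 12477 20291 e15_c1 k (by omega) (by omega)

theorem allE16 : ∀ k, k < 32768 → justE data 16 k = true := by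
  intro k hk
  by_cases hh1 : k < 16654
  · skip
    exact edgeRange_sound data 16 16654 0 e16_c0 k (by omega) (by omega)
  · skip
    exact edgeRange_sound data 16 16114 16654 e16_c1 k (by omega) (by omega)

theorem allE17 : ∀ k, k < 32768 → justE data 17 k = true := by
  intro k hk
  by_cases hh1 : k < 20885
  · skip
    exact edgeRange_sound data 17 20885 0 e17_c0 k (by omega) (by omega)
  · skip
    exact edgeRange_sound data 17 11883 20885 e17_c1 k (by omega) (by omega)

theorem allE18 : ∀ k, k < 32768 → justE data 18 k = true := by
  intro k hk
  by_cases hh1 : k < 17570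
  · skip
    exact edgeRange_sound data 18 17570 0 e18_c0 k (by omega) (by omega)
  · skip
    exact edgeRange_sound data 18 15198 17570 e18_c1 k (by omega) (by omega)

theorem allE19 : ∀ k, k < 32768 → justE data 19 k = true := by
  intro k hk
  by_cases hh1 : k < 20918
  · skip
    exact edgeRange_sound data 19 20918 0 e19_c0 k (by omega) (by omega)
  · skip
    exact edgeRange_sound data 19 11850 20918 e19_c1 k (by omega) (by omega)

theorem allE : ∀ c k, c < data.nc → k ≤ data.mask → justE data c k = true := by
  intro c k hc hk
  have hc' : c < 20 := hc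
  have hk' : k < 32768 := Nat.lt_succ_of_le hk
  interval_cases c
  · exact allE0 k hk'
  · exact allE1 k hk'
  · exact allE2 k hk'
  · exact allE3 k hk'
  · exact allE4 k hk'
  · exact allE5 k hk'
  · exact allE6 k hk'
  · exact allE7 k hk'
  · exact allE8 k hk'
  · exact allE9 k hk'
  · exact allE10 k hk'
  · exact allE11 k hk'
  · exact allE12 k hk'
  · exact allE13 k hk'
  · exact allE14 k hk'
  · exact allE15 k hk'
  · exact allE16 k hk'
  · exact allE17 k hk'
  · exact allE18 k hk'
  · exact allE19 k hk'

theorem allM : ∀ k, k ≤ data.mask → justM data k = true := by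
  intro k hk
  have hk' : k < 32768 := Nat.lt_succ_of_le hk
  by_cases hh1 : k < 31558
  · skip
    exact mergeRange_sound data 31558 0 m_c0 k (by omega) (by omega)
  · skip
    exact mergeRange_sound data 1210 31558 m_c1 k (by omega) (by omega)

theorem rows_all : ∀ k, k < M → isFinal data k = true → rowOK data M k data.nc = true := by
  intro k hk
  have hk' : k < 30388 := hk
  by_cases hh1 : k < 15725
  · skip
    by_cases hh2 : k < 7256
    · skip
      by_cases hh3 : k < 3263
      · skip
        by_cases hh4 : k < 1554
        · skip
          exact rowsRange_sound data M 1554 0 rows0 k (by omega) (by omega)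
        · skip
          exact rowsRange_sound data M 1709 1554 rows1 k (by omega) (by omega)
      · skip
        by_cases hh5 : k < 5218
        · skip
          exact rowsRange_sound data M 1955 3263 rows2 k (by omega) (by omega)
        · skip
          exact rowsRange_sound data M 2038 5218 rows3 k (by omega) (by omega)
    · skip
      by_cases hh6 : k < 11012
      · skip
        by_cases hh7 : k < 9248
        · skip
          exact rowsRange_sound data M 1992 7256 rows4 k (by omega) (by omega)
        · skip
          exact rowsRange_sound data M 1764 9248 rows5 k (by omega) (by omega)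
      · skip
        by_cases hh8 : k < 12518
        · skip
          exact rowsRange_sound data M 1506 11012 rows6 k (by omega) (by omega)
        · skip
          by_cases hh9 : k < 14073
          · skip
            exact rowsRange_sound data M 1555 12518 rows7 k (by omega) (by omega)
          · skip
            exact rowsRange_sound data M 1652 14073 rows8 k (by omega) (by omega)
  · skip
    by_cases hh10 : k < 22521
    · skip
      by_cases hh11 : k < 19081
      · skip
        by_cases hh12 : k < 17381
        · skip
          exact rowsRange_sound data M 1656 15725 rows9 k (by omega) (by omega)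
        · skip
          exact rowsRange_sound data M 1700 17381 rows10 k (by omega) (by omega)
      · skip
        by_cases hh13 : k < 20782
        · skip
          exact rowsRange_sound data M 1701 19081 rows11 k (by omega) (by omega)
        · skip
          exact rowsRange_sound data M 1739 20782 rows12 k (by omega) (by omega)
    · skip
      by_cases hh14 : k < 25763
      · skip
        by_cases hh15 : k < 24178
        · skip
          exact rowsRange_sound data M 1657 22521 rows13 k (by omega) (by omega)
        · skip
          exact rowsRange_sound data M 1585 24178 rows14 k (by omega) (by omega)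
      · skip
        by_cases hh16 : k < 27450
        · skip
          exact rowsRange_sound data M 1687 25763 rows15 k (by omega) (by omega)
        · skip
          by_cases hh17 : k < 29326
          · skip
            exact rowsRange_sound data M 1876 27450 rows16 k (by omega) (by omega)
          · skip
            exact rowsRange_sound data M 1062 29326 rows17 k (by omega) (by omega)

theorem cnt_ok : countFinal data M 0 0 = n := by
  exact cnt0

/-- the index of the subgroup generated by `subsL` in the group with relators `bases` -/
theorem bound : Finite (PresentedGroup (relSet Fi23Cod.dec bases) ⧸ (Subgroup.closure (relSet Fi23Cod.dec subsL)).map (PresentedGroup.mk (relSet Fi23Cod.dec bases))) ∧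
    Nat.card (PresentedGroup (relSet Fi23Cod.dec bases) ⧸ (Subgroup.closure (relSet Fi23Cod.dec subsL)).map (PresentedGroup.mk (relSet Fi23Cod.dec bases))) ≤ n :=
  tc_bound data bases subsL rots Fi23Cod.coding (mem_relSet bases) (mem_relSet subsL) words_ok allE allM M n fin0_ok (by decide) (by decide) cnt_ok rows_all

end Cfsg.Agent.Helper4.TC.Fi23Z1
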