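import Cfsg.Agent.Lib.Helper4.TC.Fi23SX
import Cfsg.Agent.Lib.Helper4.TC.Fi23XB
import Cfsg.Agent.Lib.Helper4.TC.Fi23Z1B
import Cfsg.Agent.Lib.Helper4.TC.Fi23Z2B
import Cfsg.Agent.Lib.Helper4.TC.Fi23Z3B
import Cfsg.Agent.Lib.Helper4.TC.Fi23Z4B
import Cfsg.Agent.Lib.Helper4.TC.Fi23Z5B
import Cfsg.Agent.Lib.Helper4.TC.Fi23Z6B
import Cfsg.Agent.Lib.Helper4.TC.Fi23Z7B
import Cfsg.Agent.Lib.Helper4.TC.Fi23Z8B
import Cfsg.Agent.Lib.Helper4.TC.Fi23Z9B

set_option autoImplicit false
set_option maxRecDepth 100000
set_option linter.unusedVariables false

namespace Cfsg.Agent.Helper4.TC.Fi23S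

open Cfsg.Agent.Helper4.TC

abbrev dec := Fi23Cod.dec
abbrev Rset : Set (FreeGroup Cfsg.Spor.Fi23.Gen) := Cfsg.Spor.coxRelators Cfsg.Spor.Fi23.edges ∪ {r | r ∈ Cfsg.Spor.Fi23.extra}

theorem card8 : Finite (PresentedGroup (relSet dec Fi23Z9.bases)) ∧ Nat.card (PresentedGroup (relSet dec Fi23Z9.bases)) ≤ 2 := by
  refine stage_bot _ _ ?_ _ Fi23Z9.bound
  rintro s ⟨b, hb, _⟩
  simp [Fi23Z9.subsL] at hb

theorem card7 : Finite (PresentedGroup (relSet dec Fi23Z8.bases)) ∧ Nat.card (PresentedGroup (relSet dec Fi23Z8.bases)) ≤ 6 := by
  have h := stage_bound (relSet dec Fi23Z8.bases) (relSet dec Fi23Z9.bases) (relSet dec Fi23Z8.subsL) Fi23Z8.bases Fi23Z9.bases Fi23Z8.subsL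
    (fun x : Cfsg.Spor.Fi23.Gen => decide (x ∈ ([.h] : List Cfsg.Spor.Fi23.Gen))) (mem_relSet _) (fun r hr => hr) (fun s hs => hs) (by decide +kernel) (by decide +kernel) Fi23Z8.n 2 Fi23Z8.bound card8
  exact ⟨h.1, h.2.trans (by decide)⟩

theorem card6 : Finite (PresentedGroup (relSet dec Fi23Z7.bases)) ∧ Nat.card (PresentedGroup (relSet dec Fi23Z7.bases)) ≤ 24 := by
  have h := stage_bound (relSet dec Fi23Z7.bases) (relSet dec Fi23Z8.bases) (relSet dec Fi23Z7.subsL) Fi23Z7.bases Fi23Z8.bases Fi23Z7.subsL
    (fun x : Cfsg.Spor.Fi23.Gen => decide (x ∈ ([.d, .h] : List Cfsg.Spor.Fi23.Gen))) (mem_relSet _) (fun r hr => hr) (fun s hs => hs) (by decide +kernel) (by decide +kernel) Fi23Z7.n 6 Fi23Z7.bound card7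
  exact ⟨h.1, h.2.trans (by decide)⟩

theorem card5 : Finite (PresentedGroup (relSet dec Fi23Z6.bases)) ∧ Nat.card (PresentedGroup (relSet dec Fi23Z6.bases)) ≤ 192 := by
  have h := stage_bound (relSet dec Fi23Z6.bases) (relSet dec Fi23Z7.bases) (relSet dec Fi23Z6.subsL) Fi23Z6.bases Fi23Z7.bases Fi23Z6.subsL
    (fun x : Cfsg.Spor.Fi23.Gen => decide (x ∈ ([.d, .e, .h] : List Cfsg.Spor.Fi23.Gen))) (mem_relSet _) (fun r hr => hr) (fun s hs => hs) (by decide +kernel) (by decide +kernel) Fi23Z6.n 24 Fi23Z6.bound card6
  exact ⟨h.1, h.2.trans (by decide)⟩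

theorem card4 : Finite (PresentedGroup (relSet dec Fi23Z5.bases)) ∧ Nat.card (PresentedGroup (relSet dec Fi23Z5.bases)) ≤ 1920 := by
  have h := stage_bound (relSet dec Fi23Z5.bases) (relSet dec Fi23Z6.bases) (relSet dec Fi23Z5.subsL) Fi23Z5.bases Fi23Z6.bases Fi23Z5.subsL
    (fun x : Cfsg.Spor.Fi23.Gen => decide (x ∈ ([.c, .d, .e, .h] : List Cfsg.Spor.Fi23.Gen))) (mem_relSet _) (fun r hr => hr) (fun s hs => hs) (by decide +kernel) (by decide +kernel) Fi23Z5.n 192 Fi23Z5.bound card5
  exact ⟨h.1, h.2.trans (by decide)⟩

theorem card3 : Finite (PresentedGroup (relSet dec Fi23Z4.bases)) ∧ Nat.card (PresentedGroup (relSet dec Fi23Z4.bases)) ≤ 51840 := by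
  have h := stage_bound (relSet dec Fi23Z4.bases) (relSet dec Fi23Z5.bases) (relSet dec Fi23Z4.subsL) Fi23Z4.bases Fi23Z5.bases Fi23Z4.subsL
    (fun x : Cfsg.Spor.Fi23.Gen => decide (x ∈ ([.c, .d, .e, .h, .i] : List Cfsg.Spor.Fi23.Gen))) (mem_relSet _) (fun r hr => hr) (fun s hs => hs) (by decide +kernel) (by decide +kernel) Fi23Z4.n 1920 Fi23Z4.bound card4
  exact ⟨h.1, h.2.trans (by decide)⟩

theorem card2 : Finite (PresentedGroup (relSet dec Fi23Z3.bases)) ∧ Nat.card (PresentedGroup (relSet dec Fi23Z3.bases)) ≤ 12597120 := by
  have h := stage_bound (relSet dec Fi23Z3.bases) (relSet dec Fi23Z4.bases) (relSet dec Fi23Z3.subsL) Fi23Z3.bases Fi23Z4.bases Fi23Z3.subsL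
    (fun x : Cfsg.Spor.Fi23.Gen => decide (x ∈ ([.b, .c, .d, .e, .h, .i] : List Cfsg.Spor.Fi23.Gen))) (mem_relSet _) (fun r hr => hr) (fun s hs => hs) (by decide +kernel) (by decide +kernel) Fi23Z3.n 51840 Fi23Z3.bound card3
  exact ⟨h.1, h.2.trans (by decide)⟩

theorem card1 : Finite (PresentedGroup (relSet dec Fi23Z2.bases)) ∧ Nat.card (PresentedGroup (relSet dec Fi23Z2.bases)) ≤ 9170703360 := by
  have h := stage_bound (relSet dec Fi23Z2.bases) (relSet dec Fi23Z3.bases) (relSet dec Fi23Z2.subsL) Fi23Z2.bases Fi23Z3.bases Fi23Z2.subsL
    (fun x : Cfsg.Spor.Fi23.Gen => decide (x ∈ ([.b, .c, .d, .e, .f, .h, .i] : List Cfsg.Spor.Fi23.Gen))) (mem_relSet _) (fun r hr => hr) (fun s hs => hs) (by decide +kernel) (by decide +kernel) Fi23Z2.n 12597120 Fi23Z2.bound card2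
  exact ⟨h.1, h.2.trans (by decide)⟩

theorem card0 : Finite (PresentedGroup (relSet dec Fi23Z1.bases)) ∧ Nat.card (PresentedGroup (relSet dec Fi23Z1.bases)) ≤ 129123503308800 := by
  have h := stage_bound (relSet dec Fi23Z1.bases) (relSet dec Fi23Z2.bases) (relSet dec Fi23Z1.subsL) Fi23Z1.bases Fi23Z2.bases Fi23Z1.subsL
    (fun x : Cfsg.Spor.Fi23.Gen => decide (x ∈ ([.b, .c, .d, .e, .f, .g, .h, .i] : List Cfsg.Spor.Fi23.Gen))) (mem_relSet _) (fun r hr => hr) (fun s hs => hs) (by decide +kernel) (by decide +kernel) Fi23Z1.n 9170703360 Fi23Z1.bound card1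
  exact ⟨h.1, h.2.trans (by decide)⟩

theorem card_top : Finite (PresentedGroup Rset) ∧ Nat.card (PresentedGroup Rset) ≤ 4089470473293004800 := by
  have h := stage_bound Rset (relSet dec Fi23Z1.bases) Fi23Fi22.Sset Fi23Fi22.bases Fi23Z1.bases Fi23Fi22.subsL
    (fun x : Cfsg.Spor.Fi23.Gen => decide (x ∈ ([.a, .b, .c, .d, .e, .f, .g, .h, .i] : List Cfsg.Spor.Fi23.Gen))) Fi23Fi22.hR2 (fun r hr => hr) Fi23Fi22.hS1 (by decide +kernel) (by decide +kernel) Fi23Fi22.n 129123503308800 Fi23Fi22.bound card0
  exact ⟨h.1, h.2.trans (by decide)⟩

theorem cardX : Finite (PresentedGroup (relSet dec Fi23X.bases)) ∧ Nat.card (PresentedGroup (relSet dec Fi23X.bases)) ≤ 1 := by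
  refine stage_bot _ _ ?_ _ Fi23X.bound
  rintro s ⟨b, hb, _⟩
  simp [Fi23X.subsL] at hb

theorem hnc : Subgroup.normalClosure {PresentedGroup.mk Rset (wordF dec xw)} = ⊤ := by
  refine normalClosure_eq_top_of_trivial Rset (relSet dec Fi23X.bases) (wordF dec xw) ?_ cardX
  rintro r ⟨b, hb, rfl⟩
  have hb' : b ∈ Fi23Fi22.bases ++ [xw] := (by decide : Fi23X.bases = Fi23Fi22.bases ++ [xw]) ▸ hb
  rcases List.mem_append.mp hb' with h | h
  · exact Or.inl (Fi23Fi22.hR2 b h)
  · right
    rw [List.mem_singleton.mp h]

theorem hxp : ∀ j, j < Fi23Fi22.mdata.n → mtrace Fi23Fi22.mdata (wpow xw (17 ^ 1)) j = j := by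
  have e : wpow xw (17 ^ 1) = xpw := by decide
  rw [e]
  intro k hk
  have hk' : k < 31671 := hk
  by_cases hh1 : k < 15660
  · skip
    by_cases hh2 : k < 7830
    · skip
      by_cases hh3 : k < 3654
      · skip
        by_cases hh4 : k < 1566
        · skip
          by_cases hh5 : k < 522
          · skip
            exact relsRange_sound Fi23Fi22.mdata [xpw] 522 0 xp_c0 k (by omega) (by omega) xpw List.mem_cons_self
          · skip
            by_cases hh6 : k < 1044
            · skip
              exact relsRange_sound Fi23Fi22.mdata [xpw] 522 522 xp_c1 k (by omega) (by omega) xpw List.mem_cons_self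
            · skip
              exact relsRange_sound Fi23Fi22.mdata [xpw] 522 1044 xp_c2 k (by omega) (by omega) xpw List.mem_cons_self
        · skip
          by_cases hh7 : k < 2610
          · skip
            by_cases hh8 : k < 2088
            · skip
              exact relsRange_sound Fi23Fi22.mdata [xpw] 522 1566 xp_c3 k (by omega) (by omega) xpw List.mem_cons_self
            · skip
              exact relsRange_sound Fi23Fi22.mdata [xpw] 522 2088 xp_c4 k (by omega) (by omega) xpw List.mem_cons_self
          · skip
            by_cases hh9 : k < 3132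
            · skip
              exact relsRange_sound Fi23Fi22.mdata [xpw] 522 2610 xp_c5 k (by omega) (by omega) xpw List.mem_cons_self
            · skip
              exact relsRange_sound Fi23Fi22.mdata [xpw] 522 3132 xp_c6 k (by omega) (by omega) xpw List.mem_cons_self
      · skip
        by_cases hh10 : k < 5742
        · skip
          by_cases hh11 : k < 4698
          · skip
            by_cases hh12 : k < 4176
            · skip
              exact relsRange_sound Fi23Fi22.mdata [xpw] 522 3654 xp_c7 k (by omega) (by omega) xpw List.mem_cons_self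
            · skip
              exact relsRange_sound Fi23Fi22.mdata [xpw] 522 4176 xp_c8 k (by omega) (by omega) xpw List.mem_cons_self
          · skip
            by_cases hh13 : k < 5220
            · skip
              exact relsRange_sound Fi23Fi22.mdata [xpw] 522 4698 xp_c9 k (by omega) (by omega) xpw List.mem_cons_self
            · skip
              exact relsRange_sound Fi23Fi22.mdata [xpw] 522 5220 xp_c10 k (by omega) (by omega) xpw List.mem_cons_self
        · skip
          by_cases hh14 : k < 6786
          · skip
            by_cases hh15 : k < 6264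
            · skip
              exact relsRange_sound Fi23Fi22.mdata [xpw] 522 5742 xp_c11 k (by omega) (by omega) xpw List.mem_cons_self
            · skip
              exact relsRange_sound Fi23Fi22.mdata [xpw] 522 6264 xp_c12 k (by omega) (by omega) xpw List.mem_cons_self
          · skip
            by_cases hh16 : k < 7308
            · skip
              exact relsRange_sound Fi23Fi22.mdata [xpw] 522 6786 xp_c13 k (by omega) (by omega) xpw List.mem_cons_self
            · skip
              exact relsRange_sound Fi23Fi22.mdata [xpw] 522 7308 xp_c14 k (by omega) (by omega) xpw List.mem_cons_self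
    · skip
      by_cases hh17 : k < 11484
      · skip
        by_cases hh18 : k < 9396
        · skip
          by_cases hh19 : k < 8352
          · skip
            exact relsRange_sound Fi23Fi22.mdata [xpw] 522 7830 xp_c15 k (by omega) (by omega) xpw List.mem_cons_self
          · skip
            by_cases hh20 : k < 8874
            · skip
              exact relsRange_sound Fi23Fi22.mdata [xpw] 522 8352 xp_c16 k (by omega) (by omega) xpw List.mem_cons_self
            · skip
              exact relsRange_sound Fi23Fi22.mdata [xpw] 522 8874 xp_c17 k (by omega) (by omega) xpw List.mem_cons_self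
        · skip
          by_cases hh21 : k < 10440
          · skip
            by_cases hh22 : k < 9918
            · skip
              exact relsRange_sound Fi23Fi22.mdata [xpw] 522 9396 xp_c18 k (by omega) (by omega) xpw List.mem_cons_self
            · skip
              exact relsRange_sound Fi23Fi22.mdata [xpw] 522 9918 xp_c19 k (by omega) (by omega) xpw List.mem_cons_self
          · skip
            by_cases hh23 : k < 10962
            · skip
              exact relsRange_sound Fi23Fi22.mdata [xpw] 522 10440 xp_c20 k (by omega) (by omega) xpw List.mem_cons_self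
            · skip
              exact relsRange_sound Fi23Fi22.mdata [xpw] 522 10962 xp_c21 k (by omega) (by omega) xpw List.mem_cons_self
      · skip
        by_cases hh24 : k < 13572
        · skip
          by_cases hh25 : k < 12528
          · skip
            by_cases hh26 : k < 12006
            · skip
              exact relsRange_sound Fi23Fi22.mdata [xpw] 522 11484 xp_c22 k (by omega) (by omega) xpw List.mem_cons_self
            · skip
              exact relsRange_sound Fi23Fi22.mdata [xpw] 522 12006 xp_c23 k (by omega) (by omega) xpw List.mem_cons_self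
          · skip
            by_cases hh27 : k < 13050
            · skip
              exact relsRange_sound Fi23Fi22.mdata [xpw] 522 12528 xp_c24 k (by omega) (by omega) xpw List.mem_cons_self
            · skip
              exact relsRange_sound Fi23Fi22.mdata [xpw] 522 13050 xp_c25 k (by omega) (by omega) xpw List.mem_cons_self
        · skip
          by_cases hh28 : k < 14616
          · skip
            by_cases hh29 : k < 14094
            · skip
              exact relsRange_sound Fi23Fi22.mdata [xpw] 522 13572 xp_c26 k (by omega) (by omega) xpw List.mem_cons_self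
            · skip
              exact relsRange_sound Fi23Fi22.mdata [xpw] 522 14094 xp_c27 k (by omega) (by omega) xpw List.mem_cons_self
          · skip
            by_cases hh30 : k < 15138
            · skip
              exact relsRange_sound Fi23Fi22.mdata [xpw] 522 14616 xp_c28 k (by omega) (by omega) xpw List.mem_cons_self
            · skip
              exact relsRange_sound Fi23Fi22.mdata [xpw] 522 15138 xp_c29 k (by omega) (by omega) xpw List.mem_cons_self
  · skip
    by_cases hh31 : k < 23490
    · skip
      by_cases hh32 : k < 19314
      · skip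
        by_cases hh33 : k < 17226
        · skip
          by_cases hh34 : k < 16182
          · skip
            exact relsRange_sound Fi23Fi22.mdata [xpw] 522 15660 xp_c30 k (by omega) (by omega) xpw List.mem_cons_self
          · skip
            by_cases hh35 : k < 16704
            · skip
              exact relsRange_sound Fi23Fi22.mdata [xpw] 522 16182 xp_c31 k (by omega) (by omega) xpw List.mem_cons_self
            · skip
              exact relsRange_sound Fi23Fi22.mdata [xpw] 522 16704 xp_c32 k (by omega) (by omega) xpw List.mem_cons_self
        · skip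
          by_cases hh36 : k < 18270
          · skip
            by_cases hh37 : k < 17748
            · skip
              exact relsRange_sound Fi23Fi22.mdata [xpw] 522 17226 xp_c33 k (by omega) (by omega) xpw List.mem_cons_self
            · skip
              exact relsRange_sound Fi23Fi22.mdata [xpw] 522 17748 xp_c34 k (by omega) (by omega) xpw List.mem_cons_self
          · skip
            by_cases hh38 : k < 18792
            · skip
              exact relsRange_sound Fi23Fi22.mdata [xpw] 522 18270 xp_c35 k (by omega) (by omega) xpw List.mem_cons_self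
            · skip
              exact relsRange_sound Fi23Fi22.mdata [xpw] 522 18792 xp_c36 k (by omega) (by omega) xpw List.mem_cons_self
      · skip
        by_cases hh39 : k < 21402
        · skip
          by_cases hh40 : k < 20358
          · skip
            by_cases hh41 : k < 19836
            · skip
              exact relsRange_sound Fi23Fi22.mdata [xpw] 522 19314 xp_c37 k (by omega) (by omega) xpw List.mem_cons_self
            · skip
              exact relsRange_sound Fi23Fi22.mdata [xpw] 522 19836 xp_c38 k (by omega) (by omega) xpw List.mem_cons_self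
          · skip
            by_cases hh42 : k < 20880
            · skip
              exact relsRange_sound Fi23Fi22.mdata [xpw] 522 20358 xp_c39 k (by omega) (by omega) xpw List.mem_cons_self
            · skip
              exact relsRange_sound Fi23Fi22.mdata [xpw] 522 20880 xp_c40 k (by omega) (by omega) xpw List.mem_cons_self
        · skip
          by_cases hh43 : k < 22446
          · skip
            by_cases hh44 : k < 21924
            · skip
              exact relsRange_sound Fi23Fi22.mdata [xpw] 522 21402 xp_c41 k (by omega) (by omega) xpw List.mem_cons_self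
            · skip
              exact relsRange_sound Fi23Fi22.mdata [xpw] 522 21924 xp_c42 k (by omega) (by omega) xpw List.mem_cons_self
          · skip
            by_cases hh45 : k < 22968
            · skip
              exact relsRange_sound Fi23Fi22.mdata [xpw] 522 22446 xp_c43 k (by omega) (by omega) xpw List.mem_cons_self
            · skip
              exact relsRange_sound Fi23Fi22.mdata [xpw] 522 22968 xp_c44 k (by omega) (by omega) xpw List.mem_cons_self
    · skip
      by_cases hh46 : k < 27666
      · skip
        by_cases hh47 : k < 25578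
        · skip
          by_cases hh48 : k < 24534
          · skip
            by_cases hh49 : k < 24012
            · skip
              exact relsRange_sound Fi23Fi22.mdata [xpw] 522 23490 xp_c45 k (by omega) (by omega) xpw List.mem_cons_self
            · skip
              exact relsRange_sound Fi23Fi22.mdata [xpw] 522 24012 xp_c46 k (by omega) (by omega) xpw List.mem_cons_self
          · skip
            by_cases hh50 : k < 25056
            · skip
              exact relsRange_sound Fi23Fi22.mdata [xpw] 522 24534 xp_c47 k (by omega) (by omega) xpw List.mem_cons_self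
            · skip
              exact relsRange_sound Fi23Fi22.mdata [xpw] 522 25056 xp_c48 k (by omega) (by omega) xpw List.mem_cons_self
        · skip
          by_cases hh51 : k < 26622
          · skip
            by_cases hh52 : k < 26100
            · skip
              exact relsRange_sound Fi23Fi22.mdata [xpw] 522 25578 xp_c49 k (by omega) (by omega) xpw List.mem_cons_self
            · skip
              exact relsRange_sound Fi23Fi22.mdata [xpw] 522 26100 xp_c50 k (by omega) (by omega) xpw List.mem_cons_self
          · skip
            by_cases hh53 : k < 27144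
            · skip
              exact relsRange_sound Fi23Fi22.mdata [xpw] 522 26622 xp_c51 k (by omega) (by omega) xpw List.mem_cons_self
            · skip
              exact relsRange_sound Fi23Fi22.mdata [xpw] 522 27144 xp_c52 k (by omega) (by omega) xpw List.mem_cons_self
      · skip
        by_cases hh54 : k < 29754
        · skip
          by_cases hh55 : k < 28710
          · skip
            by_cases hh56 : k < 28188
            · skip
              exact relsRange_sound Fi23Fi22.mdata [xpw] 522 27666 xp_c53 k (by omega) (by omega) xpw List.mem_cons_self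
            · skip
              exact relsRange_sound Fi23Fi22.mdata [xpw] 522 28188 xp_c54 k (by omega) (by omega) xpw List.mem_cons_self
          · skip
            by_cases hh57 : k < 29232
            · skip
              exact relsRange_sound Fi23Fi22.mdata [xpw] 522 28710 xp_c55 k (by omega) (by omega) xpw List.mem_cons_self
            · skip
              exact relsRange_sound Fi23Fi22.mdata [xpw] 522 29232 xp_c56 k (by omega) (by omega) xpw List.mem_cons_self
        · skip
          by_cases hh58 : k < 30798
          · skip
            by_cases hh59 : k < 30276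
            · skip
              exact relsRange_sound Fi23Fi22.mdata [xpw] 522 29754 xp_c57 k (by omega) (by omega) xpw List.mem_cons_self
            · skip
              exact relsRange_sound Fi23Fi22.mdata [xpw] 522 30276 xp_c58 k (by omega) (by omega) xpw List.mem_cons_self
          · skip
            by_cases hh60 : k < 31320
            · skip
              exact relsRange_sound Fi23Fi22.mdata [xpw] 522 30798 xp_c59 k (by omega) (by omega) xpw List.mem_cons_self
            · skip
              exact relsRange_sound Fi23Fi22.mdata [xpw] 351 31320 xp_c60 k (by omega) (by omega) xpw List.mem_cons_self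

instance : Fact (Nat.Prime 17) := ⟨by norm_num⟩

theorem main : IsSimpleGroup (PresentedGroup Rset) ∧ Nat.card (PresentedGroup Rset) = 4089470473293004800 := by
  refine simple_card_main Fi23Fi22.coding Fi23Fi22.hR1 Fi23Fi22.model_ok 4089470473293004800 card_top specs levels_ok ?_
    [(1, 28161), (28161, 31671)] (by decide) ?_ (by decide) (by decide) 17 ?_ xw (by decide) 1 hxp hnc
  · decide
  · intro r hr
    simp only [List.mem_cons, List.not_mem_nil, or_false] at hr
    rcases hr with rfl | rfl
    · exact Fi23Fi22.orb1
    · exact Fi23Fi22.orb2
  · exact factorization_eq_of _ _ 17 1 240557086664294400 1863 (by norm_num) (by norm_num [Fi23Fi22.mdata]) (by norm_num [Fi23Fi22.mdata]) (by norm_num) (by norm_num)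

end Cfsg.Agent.Helper4.TC.Fi23S
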