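import Cfsg.Agent.Lib.Helper4.TC.Schur2

set_option autoImplicit false
set_option linter.unusedVariables false
set_option linter.unusedSectionVars false
set_option linter.style.haveILetI false

/-! Stem extensions of a presented group whose generators have an order prime to the exponent of
the kernel: relators which are products of two conjugates of powers of generators hold exactly
for the lifts of that order, and when these make the group with weak relators perfect no power
relators are needed: the relators are only made central. -/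

namespace Cfsg.Agent.Helper4.TC.Schur

open Cfsg Cfsg.Agent.Helper4.TC

universe u v

section Weak0

variable {α : Type} {dec : ℕ → Letter α} {enc : α → ℕ} {nc : ℕ}

/-- the commutators of the words `centL` with the generators -/
def weakify0 (gensL centL : List (List ℕ)) : List (List ℕ) :=
  centL.flatMap fun ρ => gensL.map fun x => invW x ++ invW ρ ++ x ++ ρ

/-- a group generated by elements which satisfy the words `exactL` and for which the words
`centL` are central is a quotient of the group with these relators -/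
theorem exists_hom_weak0 (hcod : Coding dec enc nc) {Δ : Type*} [Group Δ] (Z : Subgroup Δ)
    (hZc : Z ≤ Subgroup.center Δ) (f : α → Δ) (exactL centL gensL : List (List ℕ))
    (hex : ∀ b ∈ exactL, evc f dec b = 1) (hce : ∀ ρ ∈ centL, evc f dec ρ ∈ Z) :
    ∃ φ : PresentedGroup (relSet dec (exactL ++ weakify0 gensL centL)) →* Δ,
      ∀ x, φ (PresentedGroup.of x) = f x := by
  have hf : ∀ r ∈ relSet dec (exactL ++ weakify0 gensL centL), FreeGroup.lift f r = 1 := by
    rintro r ⟨b, hb, rfl⟩
    rw [lift_wordF]
    rcases List.mem_append.mp hb with h | h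
    · exact hex b h
    · unfold weakify0 at h
      obtain ⟨ρ, hρ, hbρ⟩ := List.mem_flatMap.mp h
      have hz := hce ρ hρ
      obtain ⟨x, hx, rfl⟩ := List.mem_map.mp hbρ
      rw [evc_append, evc_append, evc_append, evc_invW f hcod, evc_invW f hcod]
      have hc := Subgroup.mem_center_iff.mp (hZc hz) (evc f dec x)
      calc evc f dec ρ * (evc f dec x * ((evc f dec ρ)⁻¹ * (evc f dec x)⁻¹))
          = (evc f dec ρ * evc f dec x) * (evc f dec ρ)⁻¹ * (evc f dec x)⁻¹ := by group
        _ = (evc f dec x * evc f dec ρ) * (evc f dec ρ)⁻¹ * (evc f dec x)⁻¹ := by rw [hc]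
        _ = 1 := by group
  exact ⟨PresentedGroup.toGroup hf, fun x => PresentedGroup.toGroup.of hf⟩

/-- the order of a stem extension is bounded by the order of the group in which the relators
`centL` are only central, when the relators `exactL` hold for the lifts -/
theorem card_le_of_weak0 {R : Set (FreeGroup α)} (hcod : Coding dec enc nc)
    {Γ : Type*} [Group Γ] [Finite Γ] (σ : Γ →* PresentedGroup R) (hσ : IsStemExtension σ)
    (g : α → Γ) (hg : ∀ x, σ (g x) = PresentedGroup.of x)
    (exactL centL gensL : List (List ℕ))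
    (hex : ∀ b ∈ exactL, evc g dec b = 1)
    (hcent : ∀ ρ ∈ centL, wordF dec ρ ∈ R)
    (N : ℕ)
    (hW : Finite (PresentedGroup (relSet dec (exactL ++ weakify0 gensL centL))) ∧
      Nat.card (PresentedGroup (relSet dec (exactL ++ weakify0 gensL centL))) ≤ N) :
    Nat.card Γ ≤ N := by
  have hσevc : ∀ w, σ (evc g dec w) = PresentedGroup.mk R (wordF dec w) := by
    intro w
    rw [map_evc, ← evc_of]
    congr 1
    funext x
    exact hg x
  obtain ⟨φ0, hφ0⟩ := exists_hom_weak0 hcod σ.ker hσ.2.1 g exactL centL gensL hex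
    (fun ρ hρ => by
      rw [MonoidHom.mem_ker, hσevc]
      exact PresentedGroup.one_of_mem (hcent ρ hρ))
  have hr : φ0.range = ⊤ := by
    apply eq_top_of_map_eq_top σ hσ
    rw [eq_top_iff, ← PresentedGroup.closure_range_of R, Subgroup.closure_le]
    rintro _ ⟨x, rfl⟩
    exact ⟨g x, ⟨PresentedGroup.of x, hφ0 x⟩, hg x⟩
  have hsurj : Function.Surjective φ0 := MonoidHom.range_eq_top.mp hr
  haveI := hW.1
  exact (Nat.card_le_card_of_surjective φ0 hsurj).trans hW.2

/-- a conjugate of a power of a letter -/
def conjW (A : List ℕ) (c a : ℕ) : List ℕ := A ++ wpow [c] a ++ invW A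

/-- a product of two conjugates of powers of letters -/
def pairW (d : List ℕ × ℕ × ℕ × List ℕ × ℕ × ℕ) : List ℕ :=
  conjW d.1 d.2.1 d.2.2.1 ++ conjW d.2.2.2.1 d.2.2.2.2.1 d.2.2.2.2.2

theorem evc_conjW {Q : Type*} [Group Q] (hcod : Coding dec enc nc) (f : α → Q) (A : List ℕ)
    (c a : ℕ) : evc f dec (conjW A c a) =
      (evc f dec A)⁻¹ * (gl f (dec c)) ^ a * ((evc f dec A)⁻¹)⁻¹ := by
  unfold conjW
  rw [evc_append, evc_append, evc_invW f hcod, evc_wpow, evc_cons, evc_nil, one_mul, inv_inv,
    mul_assoc]

theorem gl_pow_eq_one {Q : Type*} [Group Q] (f : α → Q) (m : ℕ) (hord : ∀ x, f x ^ m = 1)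
    (l : Letter α) : (gl f l) ^ m = 1 := by
  unfold gl
  split
  · exact hord _
  · rw [inv_pow, hord, inv_one]

/-- a relator which is a product of two conjugates of powers of generators holds exactly for
lifts of the generators whose order `m` is prime to the exponent `p` of the kernel -/
theorem evc_pairW_eq_one {R : Set (FreeGroup α)} (hcod : Coding dec enc nc)
    {Γ : Type*} [Group Γ] (σ : Γ →* PresentedGroup R) (hcen : σ.ker ≤ Subgroup.center Γ)
    (p : ℕ) (hexp : ∀ z ∈ σ.ker, z ^ p = 1)
    (g : α → Γ) (hg : ∀ x, σ (g x) = PresentedGroup.of x) (m : ℕ) (hm : Nat.Coprime m p)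
    (hord : ∀ x, g x ^ m = 1) (d : List ℕ × ℕ × ℕ × List ℕ × ℕ × ℕ)
    (hd : wordF dec (pairW d) ∈ R) : evc g dec (pairW d) = 1 := by
  have hσevc : ∀ w, σ (evc g dec w) = PresentedGroup.mk R (wordF dec w) := by
    intro w
    rw [map_evc, ← evc_of]
    congr 1
    funext x
    exact hg x
  have h1 := hσevc (pairW d)
  rw [PresentedGroup.one_of_mem hd] at h1
  have hpw : ∀ (A : List ℕ) (c a : ℕ), (evc g dec (conjW A c a)) ^ m = 1 := by
    intro A c a
    rw [evc_conjW hcod, conj_pow, ← pow_mul, mul_comm, pow_mul, gl_pow_eq_one g m hord, one_pow,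
      mul_one, inv_inv, inv_mul_cancel]
  unfold pairW at h1 ⊢
  rw [evc_append] at h1 ⊢
  exact mul_eq_one_of_orders σ hcen p hexp _ _ m hm (hpw _ _ _) (hpw _ _ _) h1

end Weak0

end Cfsg.Agent.Helper4.TC.Schur
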