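import Cfsg.Agent.Lib.Helper4.TC.ONZ1D
import Cfsg.Agent.Lib.Helper4.TC.Perm
import Cfsg.Agent.Lib.Helper4.TC.ONCod
import Cfsg.Agent.Lib.Helper4.TC.Strict

set_option autoImplicit false
set_option maxRecDepth 100000
set_option linter.unusedVariables false
set_option Elab.async false

namespace Cfsg.Agent.Helper4.TC.ONZ1

open Cfsg.Agent.Helper4.TC

theorem e0_c0 : edgeRange data 0 16384 0 = true := edgeRange_strict data 0 16384 0 (by decide +kernel)
theorem e1_c0 : edgeRange data 1 16384 0 = true := edgeRange_strict data 1 16384 0 (by decide +kernel)
theorem e2_c0 : edgeRange data 2 16384 0 = true := edgeRange_strict data 2 16384 0 (by decide +kernel)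
theorem e3_c0 : edgeRange data 3 16384 0 = true := edgeRange_strict data 3 16384 0 (by decide +kernel)
theorem e4_c0 : edgeRange data 4 16384 0 = true := edgeRange_strict data 4 16384 0 (by decide +kernel)
theorem e5_c0 : edgeRange data 5 16384 0 = true := edgeRange_strict data 5 16384 0 (by decide +kernel)
theorem e6_c0 : edgeRange data 6 16384 0 = true := edgeRange_strict data 6 16384 0 (by decide +kernel)
theorem e7_c0 : edgeRange data 7 16384 0 = true := edgeRange_strict data 7 16384 0 (by decide +kernel)
theorem e8_c0 : edgeRange data 8 16384 0 = true := edgeRange_strict data 8 16384 0 (by decide +kernel)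
theorem e9_c0 : edgeRange data 9 16384 0 = true := edgeRange_strict data 9 16384 0 (by decide +kernel)
theorem e10_c0 : edgeRange data 10 16384 0 = true := edgeRange_strict data 10 16384 0 (by decide +kernel)
theorem e11_c0 : edgeRange data 11 16384 0 = true := edgeRange_strict data 11 16384 0 (by decide +kernel)
theorem e12_c0 : edgeRange data 12 16384 0 = true := edgeRange_strict data 12 16384 0 (by decide +kernel)
theorem e13_c0 : edgeRange data 13 16384 0 = true := edgeRange_strict data 13 16384 0 (by decide +kernel)
theorem m_c0 : mergeRange data 16384 0 = true := mergeRange_strict data 16384 0 (by decide +kernel)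
theorem cnt0 : countFinal data 11180 0 0 = 5586 := countFinal_strict data 11180 0 0 5586 (by decide +kernel)
theorem rows0 : rowsRange data 11180 2012 0 = true := rowsRange_strict data 11180 2012 0 (by decide +kernel)
theorem rows1 : rowsRange data 11180 2024 2012 = true := rowsRange_strict data 11180 2024 2012 (by decide +kernel)
theorem rows2 : rowsRange data 11180 2157 4036 = true := rowsRange_strict data 11180 2157 4036 (by decide +kernel)
theorem rows3 : rowsRange data 11180 2456 6193 = true := rowsRange_strict data 11180 2456 6193 (by decide +kernel)
theorem rows4 : rowsRange data 11180 2531 8649 = true := rowsRange_strict data 11180 2531 8649 (by decide +kernel)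
theorem words_ok : wordsCheck data bases subsL rots = true := by decide +kernel
theorem fin0_ok : isFinal data 0 = true := by decide +kernel

theorem allE0 : ∀ k, k < 16384 → justE data 0 k = true := by
  intro k hk
  exact edgeRange_sound data 0 16384 0 e0_c0 k (by omega) (by omega)

theorem allE1 : ∀ k, k < 16384 → justE data 1 k = true := by
  intro k hk
  exact edgeRange_sound data 1 16384 0 e1_c0 k (by omega) (by omega)

theorem allE2 : ∀ k, k < 16384 → justE data 2 k = true := by
  intro k hk
  exact edgeRange_sound data 2 16384 0 e2_c0 k (by omega) (by omega)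

theorem allE3 : ∀ k, k < 16384 → justE data 3 k = true := by
  intro k hk
  exact edgeRange_sound data 3 16384 0 e3_c0 k (by omega) (by omega)

theorem allE4 : ∀ k, k < 16384 → justE data 4 k = true := by
  intro k hk
  exact edgeRange_sound data 4 16384 0 e4_c0 k (by omega) (by omega)

theorem allE5 : ∀ k, k < 16384 → justE data 5 k = true := by
  intro k hk
  exact edgeRange_sound data 5 16384 0 e5_c0 k (by omega) (by omega)

theorem allE6 : ∀ k, k < 16384 → justE data 6 k = true := by
  intro k hk
  exact edgeRange_sound data 6 16384 0 e6_c0 k (by omega) (by omega)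

theorem allE7 : ∀ k, k < 16384 → justE data 7 k = true := by
  intro k hk
  exact edgeRange_sound data 7 16384 0 e7_c0 k (by omega) (by omega)

theorem allE8 : ∀ k, k < 16384 → justE data 8 k = true := by
  intro k hk
  exact edgeRange_sound data 8 16384 0 e8_c0 k (by omega) (by omega)

theorem allE9 : ∀ k, k < 16384 → justE data 9 k = true := by
  intro k hk
  exact edgeRange_sound data 9 16384 0 e9_c0 k (by omega) (by omega)

theorem allE10 : ∀ k, k < 16384 → justE data 10 k = true := by
  intro k hk
  exact edgeRange_sound data 10 16384 0 e10_c0 k (by omega) (by omega)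

theorem allE11 : ∀ k, k < 16384 → justE data 11 k = true := by
  intro k hk
  exact edgeRange_sound data 11 16384 0 e11_c0 k (by omega) (by omega)

theorem allE12 : ∀ k, k < 16384 → justE data 12 k = true := by
  intro k hk
  exact edgeRange_sound data 12 16384 0 e12_c0 k (by omega) (by omega)

theorem allE13 : ∀ k, k < 16384 → justE data 13 k = true := by
  intro k hk
  exact edgeRange_sound data 13 16384 0 e13_c0 k (by omega) (by omega)

theorem allE : ∀ c k, c < data.nc → k ≤ data.mask → justE data c k = true := by
  intro c k hc hk
  have hc' : c < 14 := hc
  have hk' : k < 16384 := Nat.lt_succ_of_le hk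
  interval_cases c
  · exact allE0 k hk'
  · exact allE1 k hk'
  · exact allE2 k hk'
  · exact allE3 k hk'
  · exact allE4 k hk'
  · exact allE5 k hk'
  · exact allE6 k hk'
  · exact allE7 k hk'
  · exact allE8 k hk'
  · exact allE9 k hk'
  · exact allE10 k hk'
  · exact allE11 k hk'
  · exact allE12 k hk'
  · exact allE13 k hk'

theorem allM : ∀ k, k ≤ data.mask → justM data k = true := by
  intro k hk
  have hk' : k < 16384 := Nat.lt_succ_of_le hk
  exact mergeRange_sound data 16384 0 m_c0 k (by omega) (by omega)

theorem rows_all : ∀ k, k < M → isFinal data k = true → rowOK data M k data.nc = true := by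
  intro k hk
  have hk' : k < 11180 := hk
  by_cases hh1 : k < 4036
  · skip
    by_cases hh2 : k < 2012
    · skip
      exact rowsRange_sound data M 2012 0 rows0 k (by omega) (by omega)
    · skip
      exact rowsRange_sound data M 2024 2012 rows1 k (by omega) (by omega)
  · skip
    by_cases hh3 : k < 6193
    · skip
      exact rowsRange_sound data M 2157 4036 rows2 k (by omega) (by omega)
    · skip
      by_cases hh4 : k < 8649
      · skip
        exact rowsRange_sound data M 2456 6193 rows3 k (by omega) (by omega)
      · skip
        exact rowsRange_sound data M 2531 8649 rows4 k (by omega) (by omega)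

theorem cnt_ok : countFinal data M 0 0 = n := by
  exact cnt0

/-- the index of the subgroup generated by `subsL` in the group with relators `bases` -/
theorem bound : Finite (PresentedGroup (relSet ONCod.dec bases) ⧸ (Subgroup.closure (relSet ONCod.dec subsL)).map (PresentedGroup.mk (relSet ONCod.dec bases))) ∧
    Nat.card (PresentedGroup (relSet ONCod.dec bases) ⧸ (Subgroup.closure (relSet ONCod.dec subsL)).map (PresentedGroup.mk (relSet ONCod.dec bases))) ≤ n :=
  tc_bound data bases subsL rots ONCod.coding (mem_relSet bases) (mem_relSet subsL) words_ok allE allM M n fin0_ok (by decide) (by decide) cnt_ok rows_all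

end Cfsg.Agent.Helper4.TC.ONZ1
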