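import Cfsg.Agent.Lib.Helper4.TC.ONSX
import Cfsg.Agent.Lib.Helper4.TC.ONXB
import Cfsg.Agent.Lib.Helper4.TC.ONZ1B
import Cfsg.Agent.Lib.Helper4.TC.ONZ2B
import Cfsg.Agent.Lib.Helper4.TC.ONZ3B
import Cfsg.Agent.Lib.Helper4.TC.ONZ4B
import Cfsg.Agent.Lib.Helper4.TC.ONZ5B
import Cfsg.Agent.Lib.Helper4.TC.ONZ6B

set_option autoImplicit false
set_option maxRecDepth 100000
set_option linter.unusedVariables false

namespace Cfsg.Agent.Helper4.TC.ONS

open Cfsg.Agent.Helper4.TC

abbrev dec := ONCod.dec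
abbrev Rset : Set (FreeGroup Cfsg.Spor.ON.Gen) := Cfsg.Spor.coxRelators Cfsg.Spor.ON.edges ∪ {r | r ∈ Cfsg.Spor.ON.extra}

theorem card5 : Finite (PresentedGroup (relSet dec ONZ6.bases)) ∧ Nat.card (PresentedGroup (relSet dec ONZ6.bases)) ≤ 2 := by
  refine stage_bot _ _ ?_ _ ONZ6.bound
  rintro s ⟨b, hb, _⟩
  simp [ONZ6.subsL] at hb

theorem card4 : Finite (PresentedGroup (relSet dec ONZ5.bases)) ∧ Nat.card (PresentedGroup (relSet dec ONZ5.bases)) ≤ 6 := by
  have h := stage_bound (relSet dec ONZ5.bases) (relSet dec ONZ6.bases) (relSet dec ONZ5.subsL) ONZ5.bases ONZ6.bases ONZ5.subsL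
    (fun x : Cfsg.Spor.ON.Gen => decide (x ∈ ([.c] : List Cfsg.Spor.ON.Gen))) (mem_relSet _) (fun r hr => hr) (fun s hs => hs) (by decide +kernel) (by decide +kernel) ONZ5.n 2 ONZ5.bound card5
  exact ⟨h.1, h.2.trans (by decide)⟩

theorem card3 : Finite (PresentedGroup (relSet dec ONZ4.bases)) ∧ Nat.card (PresentedGroup (relSet dec ONZ4.bases)) ≤ 24 := by
  have h := stage_bound (relSet dec ONZ4.bases) (relSet dec ONZ5.bases) (relSet dec ONZ4.subsL) ONZ4.bases ONZ5.bases ONZ4.subsL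
    (fun x : Cfsg.Spor.ON.Gen => decide (x ∈ ([.b, .c] : List Cfsg.Spor.ON.Gen))) (mem_relSet _) (fun r hr => hr) (fun s hs => hs) (by decide +kernel) (by decide +kernel) ONZ4.n 6 ONZ4.bound card4
  exact ⟨h.1, h.2.trans (by decide)⟩

theorem card2 : Finite (PresentedGroup (relSet dec ONZ3.bases)) ∧ Nat.card (PresentedGroup (relSet dec ONZ3.bases)) ≤ 48 := by
  have h := stage_bound (relSet dec ONZ3.bases) (relSet dec ONZ4.bases) (relSet dec ONZ3.subsL) ONZ3.bases ONZ4.bases ONZ3.subsL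
    (fun x : Cfsg.Spor.ON.Gen => decide (x ∈ ([.a, .b, .c] : List Cfsg.Spor.ON.Gen))) (mem_relSet _) (fun r hr => hr) (fun s hs => hs) (by decide +kernel) (by decide +kernel) ONZ3.n 24 ONZ3.bound card3
  exact ⟨h.1, h.2.trans (by decide)⟩

theorem card1 : Finite (PresentedGroup (relSet dec ONZ2.bases)) ∧ Nat.card (PresentedGroup (relSet dec ONZ2.bases)) ≤ 672 := by
  have h := stage_bound (relSet dec ONZ2.bases) (relSet dec ONZ3.bases) (relSet dec ONZ2.subsL) ONZ2.bases ONZ3.bases ONZ2.subsL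
    (fun x : Cfsg.Spor.ON.Gen => decide (x ∈ ([.a, .b, .c, .f] : List Cfsg.Spor.ON.Gen))) (mem_relSet _) (fun r hr => hr) (fun s hs => hs) (by decide +kernel) (by decide +kernel) ONZ2.n 48 ONZ2.bound card2
  exact ⟨h.1, h.2.trans (by decide)⟩

theorem card0 : Finite (PresentedGroup (relSet dec ONZ1.bases)) ∧ Nat.card (PresentedGroup (relSet dec ONZ1.bases)) ≤ 3753792 := by
  have h := stage_bound (relSet dec ONZ1.bases) (relSet dec ONZ2.bases) (relSet dec ONZ1.subsL) ONZ1.bases ONZ2.bases ONZ1.subsL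
    (fun x : Cfsg.Spor.ON.Gen => decide (x ∈ ([.a, .b, .c, .d, .f] : List Cfsg.Spor.ON.Gen))) (mem_relSet _) (fun r hr => hr) (fun s hs => hs) (by decide +kernel) (by decide +kernel) ONZ1.n 672 ONZ1.bound card1
  exact ⟨h.1, h.2.trans (by decide)⟩

theorem card_top : Finite (PresentedGroup Rset) ∧ Nat.card (PresentedGroup Rset) ≤ 460815505920 := by
  have h := stage_bound Rset (relSet dec ONZ1.bases) ONL37.Sset ONL37.bases ONZ1.bases ONL37.subsL
    (fun x : Cfsg.Spor.ON.Gen => decide (x ∈ ([.a, .b, .c, .d, .e, .f] : List Cfsg.Spor.ON.Gen))) ONL37.hR2 (fun r hr => hr) ONL37.hS1 (by decide +kernel) (by decide +kernel) ONL37.n 3753792 ONL37.bound card0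
  exact ⟨h.1, h.2.trans (by decide)⟩

theorem cardX : Finite (PresentedGroup (relSet dec ONX.bases)) ∧ Nat.card (PresentedGroup (relSet dec ONX.bases)) ≤ 1 := by
  refine stage_bot _ _ ?_ _ ONX.bound
  rintro s ⟨b, hb, _⟩
  simp [ONX.subsL] at hb

theorem hnc : Subgroup.normalClosure {PresentedGroup.mk Rset (wordF dec xw)} = ⊤ := by
  refine normalClosure_eq_top_of_trivial Rset (relSet dec ONX.bases) (wordF dec xw) ?_ cardX
  rintro r ⟨b, hb, rfl⟩
  have hb' : b ∈ ONL37.bases ++ [xw] := (by decide : ONX.bases = ONL37.bases ++ [xw]) ▸ hb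
  rcases List.mem_append.mp hb' with h | h
  · exact Or.inl (ONL37.hR2 b h)
  · right
    rw [List.mem_singleton.mp h]

theorem hx : (PresentedGroup.mk Rset (wordF dec xw)) ^ 5 ^ 1 = 1 :=
  pow_eq_one_of_mem xw (5 ^ 1) (ONL37.hR2 _ (by decide))

instance : Fact (Nat.Prime 5) := ⟨by norm_num⟩

theorem main : IsSimpleGroup (PresentedGroup Rset) ∧ Nat.card (PresentedGroup Rset) = 460815505920 := by
  refine simple_card_main' ONL37.coding ONL37.hR1 ONL37.model_ok 460815505920 card_top specs levels_ok ?_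
    [(1, 58654), (58654, 110790), (110790, 116376), (116376, 122760)] (by decide) ?_ (by decide) (by decide) 5 ?_ xw 1 hx hnc
  · decide
  · intro r hr
    simp only [List.mem_cons, List.not_mem_nil, or_false] at hr
    rcases hr with rfl | rfl | rfl | rfl
    · exact ONL37.orb1
    · exact ONL37.orb2
    · exact ONL37.orb3
    · exact ONL37.orb4
  · exact factorization_eq_of _ _ 5 1 92163101184 24552 (by norm_num) (by norm_num [ONL37.mdata]) (by norm_num [ONL37.mdata]) (by norm_num) (by norm_num)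

end Cfsg.Agent.Helper4.TC.ONS
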