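import Cfsg.Agent.Lib.Helper4.TC.Trans

set_option autoImplicit false
set_option linter.unusedVariables false
set_option linter.unusedSectionVars false
set_option linter.style.haveILetI false

/-! Homomorphisms from a presented group into a presented group with a checked permutation
model, given by words for the images of the generators, and the subgroups of the permutation
group which they give. -/

namespace Cfsg.Agent.Helper4.TC

section Subst

variable {α : Type} {R : Set (FreeGroup α)} {dec : ℕ → Letter α} {enc : α → ℕ}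
variable {m : MData} {bases subsL : List (List ℕ)}
variable {β : Type} {dec' : ℕ → Letter β}

/-- substitute words for the generators -/
def substW (σ : β → List ℕ) (dec' : ℕ → Letter β) : List ℕ → List ℕ
  | [] => []
  | c :: cs => (bif (dec' c).2 then σ (dec' c).1 else invW (σ (dec' c).1)) ++ substW σ dec' cs

theorem evc_substW {P : Type*} [Group P] (f : α → P) {nc : ℕ} (hcod : Coding dec enc nc)
    (σ : β → List ℕ) (b : List ℕ) :
    evc f dec (substW σ dec' b) = evc (fun x => evc f dec (σ x)) dec' b := by
  induction b with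
  | nil => rfl
  | cons c cs ih =>
    show evc f dec ((bif (dec' c).2 then σ (dec' c).1 else invW (σ (dec' c).1)) ++
      substW σ dec' cs) = _
    rw [evc_append, ih, evc_cons (fun x => evc f dec (σ x)) dec' c cs]
    congr 1
    rcases hc : dec' c with ⟨x, s⟩
    cases s
    · show evc f dec (invW (σ x)) = _
      rw [evc_invW f hcod]
      simp [gl]
    · show evc f dec (σ x) = _
      simp [gl]

/-- the homomorphism given by words for the images of the generators -/
theorem exists_hom_of_subst (hcod : Coding dec enc m.nc)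
    (hR1 : ∀ r ∈ R, ∃ b ∈ bases, r = wordF dec b) (hm : ModelOK m bases subsL)
    (N : ℕ) (hN : 0 < N) (hub : Finite (PresentedGroup R) ∧ Nat.card (PresentedGroup R) ≤ N)
    (specs : List LSpec) (hlev : LevelsOK m [0] specs)
    (hprod : m.n * (specs.map fun s => s.d.cnt).prod = N)
    (R' : Set (FreeGroup β)) (bases' : List (List ℕ))
    (hR1' : ∀ r ∈ R', ∃ b ∈ bases', r = wordF dec' b)
    (σ : β → List ℕ) (pts : List ℕ) (hpts : pts = 0 :: specs.map fun s => s.b)
    (hchk : ∀ b ∈ bases', fixesB m pts (substW σ dec' b) = true) :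
    ∃ ψ : PresentedGroup R' →* PresentedGroup R,
      ∀ x, ψ (PresentedGroup.of x) = PresentedGroup.mk R (wordF dec (σ x)) := by
  have hone : ∀ w, fixesB m pts w = true → PresentedGroup.mk R (wordF dec w) = 1 := by
    intro w hw
    obtain ⟨h1, h2⟩ := fixesB_sound hw
    refine word_eq_one_of_base hcod hR1 hm N hN hub specs hlev hprod w h1 ?_ ?_
    · exact h2 0 (by rw [hpts]; exact List.mem_cons_self)
    · intro s hs
      exact h2 s.b (by rw [hpts]; exact List.mem_cons_of_mem _ (List.mem_map_of_mem hs))
  let f : β → PresentedGroup R := fun x => PresentedGroup.mk R (wordF dec (σ x))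
  have hf : ∀ r ∈ R', FreeGroup.lift f r = 1 := by
    intro r hr
    obtain ⟨b, hb, rfl⟩ := hR1' r hr
    rw [lift_wordF]
    have h1 := hone _ (hchk b hb)
    rw [← evc_of, evc_substW _ hcod] at h1
    have h2 : (fun x => evc (PresentedGroup.of (rels := R)) dec (σ x)) = f := by
      funext x
      exact evc_of R dec (σ x)
    rw [h2] at h1
    exact h1
  refine ⟨PresentedGroup.toGroup hf, fun x => ?_⟩
  exact PresentedGroup.toGroup.of hf

end Subst

section Range

variable {G : Type*} [Group G] {n : ℕ}

/-- the image of a simple group under a non-trivial homomorphism, as a subgroup of a subgroup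
containing it -/
theorem exists_simple_subgroup {P : Type*} [Group P] [IsSimpleGroup P] {A : Type*} [Group A]
    (θ : P →* A) (hθ : ∃ x, θ x ≠ 1) (H : Subgroup A) (hle : θ.range ≤ H) :
    ∃ K : Subgroup H, IsSimpleGroup K ∧ Nat.card K = Nat.card P := by
  have hinj : Function.Injective θ := by
    rw [← MonoidHom.ker_eq_bot_iff]
    rcases IsSimpleGroup.eq_bot_or_eq_top_of_normal θ.ker inferInstance with h | h
    · exact h
    · exfalso
      obtain ⟨x, hx⟩ := hθ
      apply hx
      have : x ∈ θ.ker := by rw [h]; trivial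
      exact this
  let e1 : P ≃* θ.range := MonoidHom.ofInjective hinj
  let e2 : (θ.range).subgroupOf H ≃* θ.range := Subgroup.subgroupOfEquivOfLe hle
  let e : (θ.range).subgroupOf H ≃* P := e2.trans e1.symm
  exact ⟨(θ.range).subgroupOf H, e.isSimpleGroup, Nat.card_congr e.toEquiv⟩

/-- the image of a simple group under a transitive permutation representation -/
theorem range_facts [IsSimpleGroup G] (hn : 2 ≤ n) (φ : G →* Equiv.Perm (Fin n)) (x0 : Fin n)
    (htr : ∀ y, ∃ g, φ g x0 = y) :
    IsSimpleGroup φ.range ∧ Nat.card φ.range = Nat.card G ∧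
      MulAction.IsPretransitive φ.range (Fin n) ∧
      (Finite G → Nat.card (MulAction.stabilizer φ.range x0) * n = Nat.card G) := by
  have hne : ∃ x, φ x ≠ 1 := by
    obtain ⟨g, hg⟩ := htr ⟨(x0.val + 1) % n, Nat.mod_lt _ (by omega)⟩
    refine ⟨g, fun h => ?_⟩
    rw [h, Equiv.Perm.one_apply] at hg
    have h2 := congrArg Fin.val hg
    simp only at h2
    have hx := x0.2
    by_cases hlt : x0.val + 1 < n
    · rw [Nat.mod_eq_of_lt hlt] at h2; omega
    · have : x0.val + 1 = n := by omega
      rw [this, Nat.mod_self] at h2; omega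
  have hinj : Function.Injective φ := by
    rw [← MonoidHom.ker_eq_bot_iff]
    rcases IsSimpleGroup.eq_bot_or_eq_top_of_normal φ.ker inferInstance with h | h
    · exact h
    · exfalso
      obtain ⟨x, hx⟩ := hne
      apply hx
      have : x ∈ φ.ker := by rw [h]; trivial
      exact this
  let e1 : G ≃* φ.range := MonoidHom.ofInjective hinj
  have hpre : MulAction.IsPretransitive φ.range (Fin n) := by
    refine ⟨fun x y => ?_⟩
    obtain ⟨gx, hgx⟩ := htr x
    obtain ⟨gy, hgy⟩ := htr y
    refine ⟨⟨φ (gy * gx⁻¹), ⟨_, rfl⟩⟩, ?_⟩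
    show φ (gy * gx⁻¹) x = y
    rw [map_mul, Equiv.Perm.mul_apply, map_inv, ← hgx]
    have : (φ gx)⁻¹ ((φ gx) x0) = x0 := by simp
    rw [this, hgy]
  refine ⟨e1.symm.isSimpleGroup, (Nat.card_congr e1.toEquiv).symm, hpre, fun hfin => ?_⟩
  haveI := hfin
  haveI : Finite φ.range := Finite.of_equiv G e1.toEquiv
  haveI := hpre
  have h1 := (MulAction.stabilizer φ.range x0).card_mul_index
  rw [MulAction.index_stabilizer, MulAction.orbit_eq_univ, Set.ncard_univ, Nat.card_fin] at h1
  rw [h1, ← Nat.card_congr e1.toEquiv]

end Range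

end Cfsg.Agent.Helper4.TC
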