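import Cfsg.Agent.Lib.Helper4.TC.Fi22O73Data

set_option autoImplicit false
set_option maxRecDepth 100000
set_option linter.unusedVariables false
set_option Elab.async false

namespace Cfsg.Agent.Helper4.TC.Fi22O73

open Cfsg.Agent.Helper4.TC

theorem e2_c0 : edgeRange data 2 11080 0 = true := by decide +kernel
theorem e2_c1 : edgeRange data 2 5304 11080 = true := by decide +kernel

end Cfsg.Agent.Helper4.TC.Fi22O73
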