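import Cfsg.Agent.Lib.Helper4.TC.Fi22O73Data

set_option autoImplicit false
set_option maxRecDepth 100000
set_option linter.unusedVariables false
set_option Elab.async false

namespace Cfsg.Agent.Helper4.TC.Fi22O73

open Cfsg.Agent.Helper4.TC

theorem rows7 : rowsRange data 16035 910 8288 = true := by decide +kernel
theorem rows8 : rowsRange data 16035 910 9198 = true := by decide +kernel
theorem rows9 : rowsRange data 16035 910 10108 = true := by decide +kernel
theorem rows10 : rowsRange data 16035 910 11018 = true := by decide +kernel
theorem rows11 : rowsRange data 16035 910 11928 = true := by decide +kernel
theorem rows12 : rowsRange data 16035 910 12838 = true := by decide +kernel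
theorem rows13 : rowsRange data 16035 910 13748 = true := by decide +kernel
theorem rows14 : rowsRange data 16035 910 14658 = true := by decide +kernel

end Cfsg.Agent.Helper4.TC.Fi22O73
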