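import Cfsg.Agent.Lib.Helper4.TC.Fi22O73Model
import Cfsg.Agent.Lib.Helper4.TC.Fi22O73Data

set_option autoImplicit false
set_option maxRecDepth 100000
set_option linter.unusedVariables false
set_option Elab.async false

namespace Cfsg.Agent.Helper4.TC.Fi22O73

open Cfsg.Agent.Helper4.TC

theorem rel0 : relsRange mdata bases 144 0 = true := by decide +kernel
theorem rel1 : relsRange mdata bases 144 144 = true := by decide +kernel
theorem rel2 : relsRange mdata bases 144 288 = true := by decide +kernel
theorem rel3 : relsRange mdata bases 144 432 = true := by decide +kernel
theorem rel4 : relsRange mdata bases 144 576 = true := by decide +kernel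
theorem rel5 : relsRange mdata bases 144 720 = true := by decide +kernel
theorem rel6 : relsRange mdata bases 144 864 = true := by decide +kernel
theorem rel7 : relsRange mdata bases 144 1008 = true := by decide +kernel

end Cfsg.Agent.Helper4.TC.Fi22O73
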