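import Cfsg.Agent.Lib.Helper4.TC.Fi22O73Model
import Cfsg.Agent.Lib.Helper4.TC.Fi22O73Data

set_option autoImplicit false
set_option maxRecDepth 100000
set_option linter.unusedVariables false
set_option Elab.async false

namespace Cfsg.Agent.Helper4.TC.Fi22O73

open Cfsg.Agent.Helper4.TC

theorem rel88 : relsRange mdata bases 144 12672 = true := by decide +kernel
theorem rel89 : relsRange mdata bases 144 12816 = true := by decide +kernel
theorem rel90 : relsRange mdata bases 144 12960 = true := by decide +kernel
theorem rel91 : relsRange mdata bases 144 13104 = true := by decide +kernel
theorem rel92 : relsRange mdata bases 144 13248 = true := by decide +kernel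
theorem rel93 : relsRange mdata bases 144 13392 = true := by decide +kernel
theorem rel94 : relsRange mdata bases 144 13536 = true := by decide +kernel
theorem rel95 : relsRange mdata bases 144 13680 = true := by decide +kernel

end Cfsg.Agent.Helper4.TC.Fi22O73
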