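import Cfsg.Agent.Lib.Helper4.TC.Fi22O73Model
import Cfsg.Agent.Lib.Helper4.TC.Fi22O73Data

set_option autoImplicit false
set_option maxRecDepth 100000
set_option linter.unusedVariables false
set_option Elab.async false

namespace Cfsg.Agent.Helper4.TC.Fi22O73

open Cfsg.Agent.Helper4.TC

theorem rel96 : relsRange mdata bases 144 13824 = true := by decide +kernel
theorem rel97 : relsRange mdata bases 112 13968 = true := by decide +kernel
theorem inv0 : invRange mdata 1481 0 = true := by decide +kernel
theorem inv1 : invRange mdata 1481 1481 = true := by decide +kernel
theorem inv2 : invRange mdata 1481 2962 = true := by decide +kernel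
theorem inv3 : invRange mdata 1481 4443 = true := by decide +kernel
theorem inv4 : invRange mdata 1481 5924 = true := by decide +kernel
theorem inv5 : invRange mdata 1481 7405 = true := by decide +kernel

end Cfsg.Agent.Helper4.TC.Fi22O73
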