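import Cfsg.Agent.Lib.Helper4.TC.Fi22O73Model
import Cfsg.Agent.Lib.Helper4.TC.Fi22O73Data

set_option autoImplicit false
set_option maxRecDepth 100000
set_option linter.unusedVariables false
set_option Elab.async false

namespace Cfsg.Agent.Helper4.TC.Fi22O73

open Cfsg.Agent.Helper4.TC

theorem inv6 : invRange mdata 1481 8886 = true := by decide +kernel
theorem inv7 : invRange mdata 1481 10367 = true := by decide +kernel
theorem inv8 : invRange mdata 1481 11848 = true := by decide +kernel
theorem inv9 : invRange mdata 751 13329 = true := by decide +kernel
theorem tree0 : treeRange mdata 13333 1 = true := by decide +kernel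
theorem tree1 : treeRange mdata 746 13334 = true := by decide +kernel
theorem closed1_0 : closedRange mdata subsL 1 3160 3159 1 = true := by decide +kernel
theorem reach1_0 : reachRange mdata subsL 1 3158 2 = true := by decide +kernel

end Cfsg.Agent.Helper4.TC.Fi22O73
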