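import Cfsg.Agent.Lib.Helper4.TC.Fi22O73Model
import Cfsg.Agent.Lib.Helper4.TC.Fi22O73Data

set_option autoImplicit false
set_option maxRecDepth 100000
set_option linter.unusedVariables false
set_option Elab.async false

namespace Cfsg.Agent.Helper4.TC.Fi22O73

open Cfsg.Agent.Helper4.TC

theorem rel16 : relsRange mdata bases 144 2304 = true := by decide +kernel
theorem rel17 : relsRange mdata bases 144 2448 = true := by decide +kernel
theorem rel18 : relsRange mdata bases 144 2592 = true := by decide +kernel
theorem rel19 : relsRange mdata bases 144 2736 = true := by decide +kernel
theorem rel20 : relsRange mdata bases 144 2880 = true := by decide +kernel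
theorem rel21 : relsRange mdata bases 144 3024 = true := by decide +kernel
theorem rel22 : relsRange mdata bases 144 3168 = true := by decide +kernel
theorem rel23 : relsRange mdata bases 144 3312 = true := by decide +kernel

end Cfsg.Agent.Helper4.TC.Fi22O73
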