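import Cfsg.Agent.Lib.Helper4.TC.Fi22O73Model
import Cfsg.Agent.Lib.Helper4.TC.Fi22O73Data

set_option autoImplicit false
set_option maxRecDepth 100000
set_option linter.unusedVariables false
set_option Elab.async false

namespace Cfsg.Agent.Helper4.TC.Fi22O73

open Cfsg.Agent.Helper4.TC

theorem rel24 : relsRange mdata bases 144 3456 = true := by decide +kernel
theorem rel25 : relsRange mdata bases 144 3600 = true := by decide +kernel
theorem rel26 : relsRange mdata bases 144 3744 = true := by decide +kernel
theorem rel27 : relsRange mdata bases 144 3888 = true := by decide +kernel
theorem rel28 : relsRange mdata bases 144 4032 = true := by decide +kernel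
theorem rel29 : relsRange mdata bases 144 4176 = true := by decide +kernel
theorem rel30 : relsRange mdata bases 144 4320 = true := by decide +kernel
theorem rel31 : relsRange mdata bases 144 4464 = true := by decide +kernel

end Cfsg.Agent.Helper4.TC.Fi22O73
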