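import Cfsg.Agent.Lib.Helper4.TC.Fi22O73Model
import Cfsg.Agent.Lib.Helper4.TC.Fi22O73Data

set_option autoImplicit false
set_option maxRecDepth 100000
set_option linter.unusedVariables false
set_option Elab.async false

namespace Cfsg.Agent.Helper4.TC.Fi22O73

open Cfsg.Agent.Helper4.TC

theorem rel32 : relsRange mdata bases 144 4608 = true := by decide +kernel
theorem rel33 : relsRange mdata bases 144 4752 = true := by decide +kernel
theorem rel34 : relsRange mdata bases 144 4896 = true := by decide +kernel
theorem rel35 : relsRange mdata bases 144 5040 = true := by decide +kernel
theorem rel36 : relsRange mdata bases 144 5184 = true := by decide +kernel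
theorem rel37 : relsRange mdata bases 144 5328 = true := by decide +kernel
theorem rel38 : relsRange mdata bases 144 5472 = true := by decide +kernel
theorem rel39 : relsRange mdata bases 144 5616 = true := by decide +kernel

end Cfsg.Agent.Helper4.TC.Fi22O73
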