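import Cfsg.Agent.Lib.Helper4.TC.Fi22O73Model
import Cfsg.Agent.Lib.Helper4.TC.Fi22O73Data

set_option autoImplicit false
set_option maxRecDepth 100000
set_option linter.unusedVariables false
set_option Elab.async false

namespace Cfsg.Agent.Helper4.TC.Fi22O73

open Cfsg.Agent.Helper4.TC

theorem rel40 : relsRange mdata bases 144 5760 = true := by decide +kernel
theorem rel41 : relsRange mdata bases 144 5904 = true := by decide +kernel
theorem rel42 : relsRange mdata bases 144 6048 = true := by decide +kernel
theorem rel43 : relsRange mdata bases 144 6192 = true := by decide +kernel
theorem rel44 : relsRange mdata bases 144 6336 = true := by decide +kernel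
theorem rel45 : relsRange mdata bases 144 6480 = true := by decide +kernel
theorem rel46 : relsRange mdata bases 144 6624 = true := by decide +kernel
theorem rel47 : relsRange mdata bases 144 6768 = true := by decide +kernel

end Cfsg.Agent.Helper4.TC.Fi22O73
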