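import Cfsg.Agent.Lib.Helper4.TC.Fi22O73Model
import Cfsg.Agent.Lib.Helper4.TC.Fi22O73Data

set_option autoImplicit false
set_option maxRecDepth 100000
set_option linter.unusedVariables false
set_option Elab.async false

namespace Cfsg.Agent.Helper4.TC.Fi22O73

open Cfsg.Agent.Helper4.TC

theorem rel56 : relsRange mdata bases 144 8064 = true := by decide +kernel
theorem rel57 : relsRange mdata bases 144 8208 = true := by decide +kernel
theorem rel58 : relsRange mdata bases 144 8352 = true := by decide +kernel
theorem rel59 : relsRange mdata bases 144 8496 = true := by decide +kernel
theorem rel60 : relsRange mdata bases 144 8640 = true := by decide +kernel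
theorem rel61 : relsRange mdata bases 144 8784 = true := by decide +kernel
theorem rel62 : relsRange mdata bases 144 8928 = true := by decide +kernel
theorem rel63 : relsRange mdata bases 144 9072 = true := by decide +kernel

end Cfsg.Agent.Helper4.TC.Fi22O73
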