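import Cfsg.Agent.Lib.Helper4.TC.Std
import Cfsg.Agent.Lib.Helper4.TC.Fi22O73Fin
import Cfsg.Agent.Lib.Helper4.TC.Fi22O73CM
import Cfsg.Agent.Lib.Helper4.TC.Fi22O73CE0
import Cfsg.Agent.Lib.Helper4.TC.Fi22O73CE1
import Cfsg.Agent.Lib.Helper4.TC.Fi22O73CE2
import Cfsg.Agent.Lib.Helper4.TC.Fi22O73CE3
import Cfsg.Agent.Lib.Helper4.TC.Fi22O73CE4
import Cfsg.Agent.Lib.Helper4.TC.Fi22O73CE5
import Cfsg.Agent.Lib.Helper4.TC.Fi22O73CE6
import Cfsg.Agent.Lib.Helper4.TC.Fi22O73CE7
import Cfsg.Agent.Lib.Helper4.TC.Fi22O73CE8
import Cfsg.Agent.Lib.Helper4.TC.Fi22O73CE9
import Cfsg.Agent.Lib.Helper4.TC.Fi22O73CE10
import Cfsg.Agent.Lib.Helper4.TC.Fi22O73CE11
import Cfsg.Agent.Lib.Helper4.TC.Fi22O73CE12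
import Cfsg.Agent.Lib.Helper4.TC.Fi22O73CE13
import Cfsg.Agent.Lib.Helper4.TC.Fi22O73CE14
import Cfsg.Agent.Lib.Helper4.TC.Fi22O73CE15
import Cfsg.Agent.Lib.Helper4.TC.Fi22O73CE16
import Cfsg.Agent.Lib.Helper4.TC.Fi22O73CE17
import Cfsg.Agent.Lib.Helper4.TC.Fi22O73CF0
import Cfsg.Agent.Lib.Helper4.TC.Fi22O73CF1
import Cfsg.Agent.Lib.Helper4.TC.Fi22O73CF2
import Cfsg.Agent.Lib.Helper4.TC.Fi22O73MC0
import Cfsg.Agent.Lib.Helper4.TC.Fi22O73MC1
import Cfsg.Agent.Lib.Helper4.TC.Fi22O73MC2
import Cfsg.Agent.Lib.Helper4.TC.Fi22O73MC3
import Cfsg.Agent.Lib.Helper4.TC.Fi22O73MC4
import Cfsg.Agent.Lib.Helper4.TC.Fi22O73MC5
import Cfsg.Agent.Lib.Helper4.TC.Fi22O73MC6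
import Cfsg.Agent.Lib.Helper4.TC.Fi22O73MC7
import Cfsg.Agent.Lib.Helper4.TC.Fi22O73MC8
import Cfsg.Agent.Lib.Helper4.TC.Fi22O73MC9
import Cfsg.Agent.Lib.Helper4.TC.Fi22O73MC10
import Cfsg.Agent.Lib.Helper4.TC.Fi22O73MC11
import Cfsg.Agent.Lib.Helper4.TC.Fi22O73MC12
import Cfsg.Agent.Lib.Helper4.TC.Fi22O73MC13
import Cfsg.Agent.Lib.Helper4.TC.Fi22O73MC14
import Cfsg.Prelude.Def_Spor_Fi22

set_option autoImplicit false
set_option maxRecDepth 100000
set_option linter.unusedVariables false

namespace Cfsg.Agent.Helper4.TC.Fi22O73

open Cfsg.Agent.Helper4.TC

def gens : List Cfsg.Spor.Fi22.Gen := [.a, .b, .c, .d, .e, .f, .g, .h, .i]

abbrev dec : ℕ → Letter Cfsg.Spor.Fi22.Gen := stdDec gens .a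
abbrev enc : Cfsg.Spor.Fi22.Gen → ℕ := stdEnc gens

theorem coding : Coding dec enc 18 :=
  std_coding gens .a (by decide) (by intro x; cases x <;> decide) 18 (by decide)

theorem allE0 : ∀ k, k < 16384 → justE data 0 k = true := by
  intro k hk
  by_cases hh1 : k < 11021
  · skip
    exact edgeRange_sound data 0 11021 0 e0_c0 k (by omega) (by omega)
  · skip
    exact edgeRange_sound data 0 5363 11021 e0_c1 k (by omega) (by omega)

theorem allE1 : ∀ k, k < 16384 → justE data 1 k = true := by
  intro k hk
  exact edgeRange_sound data 1 16384 0 e1_c0 k (by omega) (by omega)

theorem allE2 : ∀ k, k < 16384 → justE data 2 k = true := by
  intro k hk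
  by_cases hh1 : k < 11080
  · skip
    exact edgeRange_sound data 2 11080 0 e2_c0 k (by omega) (by omega)
  · skip
    exact edgeRange_sound data 2 5304 11080 e2_c1 k (by omega) (by omega)

theorem allE3 : ∀ k, k < 16384 → justE data 3 k = true := by
  intro k hk
  exact edgeRange_sound data 3 16384 0 e3_c0 k (by omega) (by omega)

theorem allE4 : ∀ k, k < 16384 → justE data 4 k = true := by
  intro k hk
  by_cases hh1 : k < 11281
  · skip
    exact edgeRange_sound data 4 11281 0 e4_c0 k (by omega) (by omega)
  · skip
    exact edgeRange_sound data 4 5103 11281 e4_c1 k (by omega) (by omega)

theorem allE5 : ∀ k, k < 16384 → justE data 5 k = true := by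
  intro k hk
  exact edgeRange_sound data 5 16384 0 e5_c0 k (by omega) (by omega)

theorem allE6 : ∀ k, k < 16384 → justE data 6 k = true := by
  intro k hk
  by_cases hh1 : k < 11471
  · skip
    exact edgeRange_sound data 6 11471 0 e6_c0 k (by omega) (by omega)
  · skip
    exact edgeRange_sound data 6 4913 11471 e6_c1 k (by omega) (by omega)

theorem allE7 : ∀ k, k < 16384 → justE data 7 k = true := by
  intro k hk
  exact edgeRange_sound data 7 16384 0 e7_c0 k (by omega) (by omega)

theorem allE8 : ∀ k, k < 16384 → justE data 8 k = true := by
  intro k hk
  by_cases hh1 : k < 11511
  · skip
    exact edgeRange_sound data 8 11511 0 e8_c0 k (by omega) (by omega)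
  · skip
    exact edgeRange_sound data 8 4873 11511 e8_c1 k (by omega) (by omega)

theorem allE9 : ∀ k, k < 16384 → justE data 9 k = true := by
  intro k hk
  exact edgeRange_sound data 9 16384 0 e9_c0 k (by omega) (by omega)

theorem allE10 : ∀ k, k < 16384 → justE data 10 k = true := by
  intro k hk
  by_cases hh1 : k < 11156
  · skip
    exact edgeRange_sound data 10 11156 0 e10_c0 k (by omega) (by omega)
  · skip
    exact edgeRange_sound data 10 5228 11156 e10_c1 k (by omega) (by omega)

theorem allE11 : ∀ k, k < 16384 → justE data 11 k = true := by
  intro k hk
  exact edgeRange_sound data 11 16384 0 e11_c0 k (by omega) (by omega)

theorem allE12 : ∀ k, k < 16384 → justE data 12 k = true := by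
  intro k hk
  by_cases hh1 : k < 11910
  · skip
    exact edgeRange_sound data 12 11910 0 e12_c0 k (by omega) (by omega)
  · skip
    exact edgeRange_sound data 12 4474 11910 e12_c1 k (by omega) (by omega)

theorem allE13 : ∀ k, k < 16384 → justE data 13 k = true := by
  intro k hk
  exact edgeRange_sound data 13 16384 0 e13_c0 k (by omega) (by omega)

theorem allE14 : ∀ k, k < 16384 → justE data 14 k = true := by
  intro k hk
  by_cases hh1 : k < 12805
  · skip
    exact edgeRange_sound data 14 12805 0 e14_c0 k (by omega) (by omega)
  · skip
    exact edgeRange_sound data 14 3579 12805 e14_c1 k (by omega) (by omega)

theorem allE15 : ∀ k, k < 16384 → justE data 15 k = true := by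
  intro k hk
  exact edgeRange_sound data 15 16384 0 e15_c0 k (by omega) (by omega)

theorem allE16 : ∀ k, k < 16384 → justE data 16 k = true := by
  intro k hk
  by_cases hh1 : k < 13656
  · skip
    exact edgeRange_sound data 16 13656 0 e16_c0 k (by omega) (by omega)
  · skip
    exact edgeRange_sound data 16 2728 13656 e16_c1 k (by omega) (by omega)

theorem allE17 : ∀ k, k < 16384 → justE data 17 k = true := by
  intro k hk
  exact edgeRange_sound data 17 16384 0 e17_c0 k (by omega) (by omega)

theorem allE : ∀ c k, c < data.nc → k ≤ data.mask → justE data c k = true := by
  intro c k hc hk
  have hc' : c < 18 := hc
  have hk' : k < 16384 := Nat.lt_succ_of_le hk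
  interval_cases c
  · exact allE0 k hk'
  · exact allE1 k hk'
  · exact allE2 k hk'
  · exact allE3 k hk'
  · exact allE4 k hk'
  · exact allE5 k hk'
  · exact allE6 k hk'
  · exact allE7 k hk'
  · exact allE8 k hk'
  · exact allE9 k hk'
  · exact allE10 k hk'
  · exact allE11 k hk'
  · exact allE12 k hk'
  · exact allE13 k hk'
  · exact allE14 k hk'
  · exact allE15 k hk'
  · exact allE16 k hk'
  · exact allE17 k hk'

theorem allM : ∀ k, k ≤ data.mask → justM data k = true := by
  intro k hk
  have hk' : k < 16384 := Nat.lt_succ_of_le hk
  exact mergeRange_sound data 16384 0 m_c0 k (by omega) (by omega)

theorem rows_all : ∀ k, k < M → isFinal data k = true → rowOK data M k data.nc = true := by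
  intro k hk
  have hk' : k < 16035 := hk
  by_cases hh1 : k < 9198
  · skip
    by_cases hh2 : k < 5260
    · skip
      by_cases hh3 : k < 2342
      · skip
        by_cases hh4 : k < 1056
        · skip
          exact rowsRange_sound data M 1056 0 rows0 k (by omega) (by omega)
        · skip
          exact rowsRange_sound data M 1286 1056 rows1 k (by omega) (by omega)
      · skip
        by_cases hh5 : k < 3869
        · skip
          exact rowsRange_sound data M 1527 2342 rows2 k (by omega) (by omega)
        · skip
          exact rowsRange_sound data M 1391 3869 rows3 k (by omega) (by omega)
    · skip
      by_cases hh6 : k < 7378
      · skip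
        by_cases hh7 : k < 6468
        · skip
          exact rowsRange_sound data M 1208 5260 rows4 k (by omega) (by omega)
        · skip
          exact rowsRange_sound data M 910 6468 rows5 k (by omega) (by omega)
      · skip
        by_cases hh8 : k < 8288
        · skip
          exact rowsRange_sound data M 910 7378 rows6 k (by omega) (by omega)
        · skip
          exact rowsRange_sound data M 910 8288 rows7 k (by omega) (by omega)
  · skip
    by_cases hh9 : k < 12838
    · skip
      by_cases hh10 : k < 11018
      · skip
        by_cases hh11 : k < 10108
        · skip
          exact rowsRange_sound data M 910 9198 rows8 k (by omega) (by omega)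
        · skip
          exact rowsRange_sound data M 910 10108 rows9 k (by omega) (by omega)
      · skip
        by_cases hh12 : k < 11928
        · skip
          exact rowsRange_sound data M 910 11018 rows10 k (by omega) (by omega)
        · skip
          exact rowsRange_sound data M 910 11928 rows11 k (by omega) (by omega)
    · skip
      by_cases hh13 : k < 14658
      · skip
        by_cases hh14 : k < 13748
        · skip
          exact rowsRange_sound data M 910 12838 rows12 k (by omega) (by omega)
        · skip
          exact rowsRange_sound data M 910 13748 rows13 k (by omega) (by omega)
      · skip
        by_cases hh15 : k < 15568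
        · skip
          exact rowsRange_sound data M 910 14658 rows14 k (by omega) (by omega)
        · skip
          exact rowsRange_sound data M 467 15568 rows15 k (by omega) (by omega)

theorem cnt_ok : countFinal data M 0 0 = n := by
  exact cnt0

abbrev Rset : Set (FreeGroup Cfsg.Spor.Fi22.Gen) := Cfsg.Spor.coxRelators Cfsg.Spor.Fi22.edges ∪ {r | r ∈ Cfsg.Spor.Fi22.extra}
abbrev Sset : Set (FreeGroup Cfsg.Spor.Fi22.Gen) := {Cfsg.Spor.Fi22.b, Cfsg.Spor.Fi22.c, Cfsg.Spor.Fi22.d, Cfsg.Spor.Fi22.e, Cfsg.Spor.Fi22.f, Cfsg.Spor.Fi22.g, Cfsg.Spor.Fi22.h, Cfsg.Spor.Fi22.i}
def SL : List (FreeGroup Cfsg.Spor.Fi22.Gen) := [Cfsg.Spor.Fi22.b, Cfsg.Spor.Fi22.c, Cfsg.Spor.Fi22.d, Cfsg.Spor.Fi22.e, Cfsg.Spor.Fi22.f, Cfsg.Spor.Fi22.g, Cfsg.Spor.Fi22.h, Cfsg.Spor.Fi22.i]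

theorem mem_S (s : FreeGroup Cfsg.Spor.Fi22.Gen) : s ∈ Sset ↔ s ∈ SL := by
  simp only [Sset, SL, Set.mem_insert_iff, Set.mem_singleton_iff, List.mem_cons, List.not_mem_nil, or_false]

theorem hR1 : ∀ r ∈ Rset, ∃ b ∈ bases, r = wordF dec b := by
  intro r hr
  rw [mem_rels_iff] at hr
  revert r
  decide +kernel

theorem hR2 : ∀ b ∈ bases, wordF dec b ∈ Rset := by
  intro b hb
  rw [mem_rels_iff]
  revert b
  decide +kernel

theorem hS1 : ∀ s ∈ Sset, ∃ b ∈ subsL, s = wordF dec b := by
  intro s hs
  rw [mem_S] at hs
  revert s
  decide +kernel

theorem hS2 : ∀ b ∈ subsL, wordF dec b ∈ Sset := by
  intro b hb
  rw [mem_S]
  revert b
  decide +kernel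

theorem bound : Finite (PresentedGroup Rset ⧸ (Subgroup.closure Sset).map (PresentedGroup.mk Rset)) ∧
    Nat.card (PresentedGroup Rset ⧸ (Subgroup.closure Sset).map (PresentedGroup.mk Rset)) ≤ n :=
  tc_bound data bases subsL rots coding hR2 hS2 words_ok allE allM M n fin0_ok (by decide) (by decide) cnt_ok rows_all

theorem model_ok : ModelOK mdata bases subsL := by
  refine ⟨by decide, ?_, ?_, wordsLettersOK_sound _ _ relc_ok, wordsLettersOK_sound _ _ subc_ok,
    sub0OK_sound _ _ sub0_ok, ?_⟩
  · intro k hk
    have hk' : k < 14080 := hk
    by_cases hh1 : k < 7405
    · skip
      by_cases hh2 : k < 2962
      · skip
        by_cases hh3 : k < 1481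
        · skip
          exact invRange_sound mdata 1481 0 inv0 k (by omega) (by omega)
        · skip
          exact invRange_sound mdata 1481 1481 inv1 k (by omega) (by omega)
      · skip
        by_cases hh4 : k < 4443
        · skip
          exact invRange_sound mdata 1481 2962 inv2 k (by omega) (by omega)
        · skip
          by_cases hh5 : k < 5924
          · skip
            exact invRange_sound mdata 1481 4443 inv3 k (by omega) (by omega)
          · skip
            exact invRange_sound mdata 1481 5924 inv4 k (by omega) (by omega)
    · skip
      by_cases hh6 : k < 10367
      · skip
        by_cases hh7 : k < 8886
        · skip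
          exact invRange_sound mdata 1481 7405 inv5 k (by omega) (by omega)
        · skip
          exact invRange_sound mdata 1481 8886 inv6 k (by omega) (by omega)
      · skip
        by_cases hh8 : k < 11848
        · skip
          exact invRange_sound mdata 1481 10367 inv7 k (by omega) (by omega)
        · skip
          by_cases hh9 : k < 13329
          · skip
            exact invRange_sound mdata 1481 11848 inv8 k (by omega) (by omega)
          · skip
            exact invRange_sound mdata 751 13329 inv9 k (by omega) (by omega)
  · intro k hk
    have hk' : k < 14080 := hk
    by_cases hh1 : k < 7056
    · skip
      by_cases hh2 : k < 3456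
      · skip
        by_cases hh3 : k < 1728
        · skip
          by_cases hh4 : k < 864
          · skip
            by_cases hh5 : k < 432
            · skip
              by_cases hh6 : k < 144
              · skip
                exact relsRange_sound mdata bases 144 0 rel0 k (by omega) (by omega)
              · skip
                by_cases hh7 : k < 288
                · skip
                  exact relsRange_sound mdata bases 144 144 rel1 k (by omega) (by omega)
                · skip
                  exact relsRange_sound mdata bases 144 288 rel2 k (by omega) (by omega)
            · skip
              by_cases hh8 : k < 576
              · skip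
                exact relsRange_sound mdata bases 144 432 rel3 k (by omega) (by omega)
              · skip
                by_cases hh9 : k < 720
                · skip
                  exact relsRange_sound mdata bases 144 576 rel4 k (by omega) (by omega)
                · skip
                  exact relsRange_sound mdata bases 144 720 rel5 k (by omega) (by omega)
          · skip
            by_cases hh10 : k < 1296
            · skip
              by_cases hh11 : k < 1008
              · skip
                exact relsRange_sound mdata bases 144 864 rel6 k (by omega) (by omega)
              · skip
                by_cases hh12 : k < 1152
                · skip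
                  exact relsRange_sound mdata bases 144 1008 rel7 k (by omega) (by omega)
                · skip
                  exact relsRange_sound mdata bases 144 1152 rel8 k (by omega) (by omega)
            · skip
              by_cases hh13 : k < 1440
              · skip
                exact relsRange_sound mdata bases 144 1296 rel9 k (by omega) (by omega)
              · skip
                by_cases hh14 : k < 1584
                · skip
                  exact relsRange_sound mdata bases 144 1440 rel10 k (by omega) (by omega)
                · skip
                  exact relsRange_sound mdata bases 144 1584 rel11 k (by omega) (by omega)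
        · skip
          by_cases hh15 : k < 2592
          · skip
            by_cases hh16 : k < 2160
            · skip
              by_cases hh17 : k < 1872
              · skip
                exact relsRange_sound mdata bases 144 1728 rel12 k (by omega) (by omega)
              · skip
                by_cases hh18 : k < 2016
                · skip
                  exact relsRange_sound mdata bases 144 1872 rel13 k (by omega) (by omega)
                · skip
                  exact relsRange_sound mdata bases 144 2016 rel14 k (by omega) (by omega)
            · skip
              by_cases hh19 : k < 2304
              · skip
                exact relsRange_sound mdata bases 144 2160 rel15 k (by omega) (by omega)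
              · skip
                by_cases hh20 : k < 2448
                · skip
                  exact relsRange_sound mdata bases 144 2304 rel16 k (by omega) (by omega)
                · skip
                  exact relsRange_sound mdata bases 144 2448 rel17 k (by omega) (by omega)
          · skip
            by_cases hh21 : k < 3024
            · skip
              by_cases hh22 : k < 2736
              · skip
                exact relsRange_sound mdata bases 144 2592 rel18 k (by omega) (by omega)
              · skip
                by_cases hh23 : k < 2880
                · skip
                  exact relsRange_sound mdata bases 144 2736 rel19 k (by omega) (by omega)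
                · skip
                  exact relsRange_sound mdata bases 144 2880 rel20 k (by omega) (by omega)
            · skip
              by_cases hh24 : k < 3168
              · skip
                exact relsRange_sound mdata bases 144 3024 rel21 k (by omega) (by omega)
              · skip
                by_cases hh25 : k < 3312
                · skip
                  exact relsRange_sound mdata bases 144 3168 rel22 k (by omega) (by omega)
                · skip
                  exact relsRange_sound mdata bases 144 3312 rel23 k (by omega) (by omega)
      · skip
        by_cases hh26 : k < 5184
        · skip
          by_cases hh27 : k < 4320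
          · skip
            by_cases hh28 : k < 3888
            · skip
              by_cases hh29 : k < 3600
              · skip
                exact relsRange_sound mdata bases 144 3456 rel24 k (by omega) (by omega)
              · skip
                by_cases hh30 : k < 3744
                · skip
                  exact relsRange_sound mdata bases 144 3600 rel25 k (by omega) (by omega)
                · skip
                  exact relsRange_sound mdata bases 144 3744 rel26 k (by omega) (by omega)
            · skip
              by_cases hh31 : k < 4032
              · skip
                exact relsRange_sound mdata bases 144 3888 rel27 k (by omega) (by omega)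
              · skip
                by_cases hh32 : k < 4176
                · skip
                  exact relsRange_sound mdata bases 144 4032 rel28 k (by omega) (by omega)
                · skip
                  exact relsRange_sound mdata bases 144 4176 rel29 k (by omega) (by omega)
          · skip
            by_cases hh33 : k < 4752
            · skip
              by_cases hh34 : k < 4464
              · skip
                exact relsRange_sound mdata bases 144 4320 rel30 k (by omega) (by omega)
              · skip
                by_cases hh35 : k < 4608
                · skip
                  exact relsRange_sound mdata bases 144 4464 rel31 k (by omega) (by omega)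
                · skip
                  exact relsRange_sound mdata bases 144 4608 rel32 k (by omega) (by omega)
            · skip
              by_cases hh36 : k < 4896
              · skip
                exact relsRange_sound mdata bases 144 4752 rel33 k (by omega) (by omega)
              · skip
                by_cases hh37 : k < 5040
                · skip
                  exact relsRange_sound mdata bases 144 4896 rel34 k (by omega) (by omega)
                · skip
                  exact relsRange_sound mdata bases 144 5040 rel35 k (by omega) (by omega)
        · skip
          by_cases hh38 : k < 6048
          · skip
            by_cases hh39 : k < 5616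
            · skip
              by_cases hh40 : k < 5328
              · skip
                exact relsRange_sound mdata bases 144 5184 rel36 k (by omega) (by omega)
              · skip
                by_cases hh41 : k < 5472
                · skip
                  exact relsRange_sound mdata bases 144 5328 rel37 k (by omega) (by omega)
                · skip
                  exact relsRange_sound mdata bases 144 5472 rel38 k (by omega) (by omega)
            · skip
              by_cases hh42 : k < 5760
              · skip
                exact relsRange_sound mdata bases 144 5616 rel39 k (by omega) (by omega)
              · skip
                by_cases hh43 : k < 5904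
                · skip
                  exact relsRange_sound mdata bases 144 5760 rel40 k (by omega) (by omega)
                · skip
                  exact relsRange_sound mdata bases 144 5904 rel41 k (by omega) (by omega)
          · skip
            by_cases hh44 : k < 6480
            · skip
              by_cases hh45 : k < 6192
              · skip
                exact relsRange_sound mdata bases 144 6048 rel42 k (by omega) (by omega)
              · skip
                by_cases hh46 : k < 6336
                · skip
                  exact relsRange_sound mdata bases 144 6192 rel43 k (by omega) (by omega)
                · skip
                  exact relsRange_sound mdata bases 144 6336 rel44 k (by omega) (by omega)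
            · skip
              by_cases hh47 : k < 6768
              · skip
                by_cases hh48 : k < 6624
                · skip
                  exact relsRange_sound mdata bases 144 6480 rel45 k (by omega) (by omega)
                · skip
                  exact relsRange_sound mdata bases 144 6624 rel46 k (by omega) (by omega)
              · skip
                by_cases hh49 : k < 6912
                · skip
                  exact relsRange_sound mdata bases 144 6768 rel47 k (by omega) (by omega)
                · skip
                  exact relsRange_sound mdata bases 144 6912 rel48 k (by omega) (by omega)
    · skip
      by_cases hh50 : k < 10512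
      · skip
        by_cases hh51 : k < 8784
        · skip
          by_cases hh52 : k < 7920
          · skip
            by_cases hh53 : k < 7488
            · skip
              by_cases hh54 : k < 7200
              · skip
                exact relsRange_sound mdata bases 144 7056 rel49 k (by omega) (by omega)
              · skip
                by_cases hh55 : k < 7344
                · skip
                  exact relsRange_sound mdata bases 144 7200 rel50 k (by omega) (by omega)
                · skip
                  exact relsRange_sound mdata bases 144 7344 rel51 k (by omega) (by omega)
            · skip
              by_cases hh56 : k < 7632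
              · skip
                exact relsRange_sound mdata bases 144 7488 rel52 k (by omega) (by omega)
              · skip
                by_cases hh57 : k < 7776
                · skip
                  exact relsRange_sound mdata bases 144 7632 rel53 k (by omega) (by omega)
                · skip
                  exact relsRange_sound mdata bases 144 7776 rel54 k (by omega) (by omega)
          · skip
            by_cases hh58 : k < 8352
            · skip
              by_cases hh59 : k < 8064
              · skip
                exact relsRange_sound mdata bases 144 7920 rel55 k (by omega) (by omega)
              · skip
                by_cases hh60 : k < 8208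
                · skip
                  exact relsRange_sound mdata bases 144 8064 rel56 k (by omega) (by omega)
                · skip
                  exact relsRange_sound mdata bases 144 8208 rel57 k (by omega) (by omega)
            · skip
              by_cases hh61 : k < 8496
              · skip
                exact relsRange_sound mdata bases 144 8352 rel58 k (by omega) (by omega)
              · skip
                by_cases hh62 : k < 8640
                · skip
                  exact relsRange_sound mdata bases 144 8496 rel59 k (by omega) (by omega)
                · skip
                  exact relsRange_sound mdata bases 144 8640 rel60 k (by omega) (by omega)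
        · skip
          by_cases hh63 : k < 9648
          · skip
            by_cases hh64 : k < 9216
            · skip
              by_cases hh65 : k < 8928
              · skip
                exact relsRange_sound mdata bases 144 8784 rel61 k (by omega) (by omega)
              · skip
                by_cases hh66 : k < 9072
                · skip
                  exact relsRange_sound mdata bases 144 8928 rel62 k (by omega) (by omega)
                · skip
                  exact relsRange_sound mdata bases 144 9072 rel63 k (by omega) (by omega)
            · skip
              by_cases hh67 : k < 9360
              · skip
                exact relsRange_sound mdata bases 144 9216 rel64 k (by omega) (by omega)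
              · skip
                by_cases hh68 : k < 9504
                · skip
                  exact relsRange_sound mdata bases 144 9360 rel65 k (by omega) (by omega)
                · skip
                  exact relsRange_sound mdata bases 144 9504 rel66 k (by omega) (by omega)
          · skip
            by_cases hh69 : k < 10080
            · skip
              by_cases hh70 : k < 9792
              · skip
                exact relsRange_sound mdata bases 144 9648 rel67 k (by omega) (by omega)
              · skip
                by_cases hh71 : k < 9936
                · skip
                  exact relsRange_sound mdata bases 144 9792 rel68 k (by omega) (by omega)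
                · skip
                  exact relsRange_sound mdata bases 144 9936 rel69 k (by omega) (by omega)
            · skip
              by_cases hh72 : k < 10224
              · skip
                exact relsRange_sound mdata bases 144 10080 rel70 k (by omega) (by omega)
              · skip
                by_cases hh73 : k < 10368
                · skip
                  exact relsRange_sound mdata bases 144 10224 rel71 k (by omega) (by omega)
                · skip
                  exact relsRange_sound mdata bases 144 10368 rel72 k (by omega) (by omega)
      · skip
        by_cases hh74 : k < 12240
        · skip
          by_cases hh75 : k < 11376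
          · skip
            by_cases hh76 : k < 10944
            · skip
              by_cases hh77 : k < 10656
              · skip
                exact relsRange_sound mdata bases 144 10512 rel73 k (by omega) (by omega)
              · skip
                by_cases hh78 : k < 10800
                · skip
                  exact relsRange_sound mdata bases 144 10656 rel74 k (by omega) (by omega)
                · skip
                  exact relsRange_sound mdata bases 144 10800 rel75 k (by omega) (by omega)
            · skip
              by_cases hh79 : k < 11088
              · skip
                exact relsRange_sound mdata bases 144 10944 rel76 k (by omega) (by omega)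
              · skip
                by_cases hh80 : k < 11232
                · skip
                  exact relsRange_sound mdata bases 144 11088 rel77 k (by omega) (by omega)
                · skip
                  exact relsRange_sound mdata bases 144 11232 rel78 k (by omega) (by omega)
          · skip
            by_cases hh81 : k < 11808
            · skip
              by_cases hh82 : k < 11520
              · skip
                exact relsRange_sound mdata bases 144 11376 rel79 k (by omega) (by omega)
              · skip
                by_cases hh83 : k < 11664
                · skip
                  exact relsRange_sound mdata bases 144 11520 rel80 k (by omega) (by omega)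
                · skip
                  exact relsRange_sound mdata bases 144 11664 rel81 k (by omega) (by omega)
            · skip
              by_cases hh84 : k < 11952
              · skip
                exact relsRange_sound mdata bases 144 11808 rel82 k (by omega) (by omega)
              · skip
                by_cases hh85 : k < 12096
                · skip
                  exact relsRange_sound mdata bases 144 11952 rel83 k (by omega) (by omega)
                · skip
                  exact relsRange_sound mdata bases 144 12096 rel84 k (by omega) (by omega)
        · skip
          by_cases hh86 : k < 13104
          · skip
            by_cases hh87 : k < 12672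
            · skip
              by_cases hh88 : k < 12384
              · skip
                exact relsRange_sound mdata bases 144 12240 rel85 k (by omega) (by omega)
              · skip
                by_cases hh89 : k < 12528
                · skip
                  exact relsRange_sound mdata bases 144 12384 rel86 k (by omega) (by omega)
                · skip
                  exact relsRange_sound mdata bases 144 12528 rel87 k (by omega) (by omega)
            · skip
              by_cases hh90 : k < 12816
              · skip
                exact relsRange_sound mdata bases 144 12672 rel88 k (by omega) (by omega)
              · skip
                by_cases hh91 : k < 12960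
                · skip
                  exact relsRange_sound mdata bases 144 12816 rel89 k (by omega) (by omega)
                · skip
                  exact relsRange_sound mdata bases 144 12960 rel90 k (by omega) (by omega)
          · skip
            by_cases hh92 : k < 13536
            · skip
              by_cases hh93 : k < 13248
              · skip
                exact relsRange_sound mdata bases 144 13104 rel91 k (by omega) (by omega)
              · skip
                by_cases hh94 : k < 13392
                · skip
                  exact relsRange_sound mdata bases 144 13248 rel92 k (by omega) (by omega)
                · skip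
                  exact relsRange_sound mdata bases 144 13392 rel93 k (by omega) (by omega)
            · skip
              by_cases hh95 : k < 13824
              · skip
                by_cases hh96 : k < 13680
                · skip
                  exact relsRange_sound mdata bases 144 13536 rel94 k (by omega) (by omega)
                · skip
                  exact relsRange_sound mdata bases 144 13680 rel95 k (by omega) (by omega)
              · skip
                by_cases hh97 : k < 13968
                · skip
                  exact relsRange_sound mdata bases 144 13824 rel96 k (by omega) (by omega)
                · skip
                  exact relsRange_sound mdata bases 112 13968 rel97 k (by omega) (by omega)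
  · intro k h1 h2
    have h2' : k < 1 + (14080 - 1) := h2
    by_cases hh1 : k < 13334
    · skip
      exact treeRange_sound mdata 13333 1 tree0 k (by omega) (by omega)
    · skip
      exact treeRange_sound mdata 746 13334 tree1 k (by omega) (by omega)

theorem orb1 : OrbOK mdata subsL 1 3160 := by
  refine ⟨by decide, by decide, ?_, ?_⟩
  · intro k h1 h2
    exact closedRange_sound mdata subsL 1 3160 3159 1 closed1_0 k (by omega) (by omega)
  · intro k h1 h2
    exact reachRange_sound mdata subsL 1 3158 2 reach1_0 k (by omega) (by omega)

theorem orb2 : OrbOK mdata subsL 3160 14080 := by
  refine ⟨by decide, by decide, ?_, ?_⟩
  · intro k h1 h2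
    by_cases hh1 : k < 8160
    · skip
      exact closedRange_sound mdata subsL 3160 14080 5000 3160 closed2_0 k (by omega) (by omega)
    · skip
      by_cases hh2 : k < 13160
      · skip
        exact closedRange_sound mdata subsL 3160 14080 5000 8160 closed2_1 k (by omega) (by omega)
      · skip
        exact closedRange_sound mdata subsL 3160 14080 920 13160 closed2_2 k (by omega) (by omega)
  · intro k h1 h2
    exact reachRange_sound mdata subsL 3160 10919 3161 reach2_0 k (by omega) (by omega)

theorem main : ((Subgroup.closure Sset).map (PresentedGroup.mk Rset)).index = 14080 ∧
    ∃ e : (PresentedGroup Rset ⧸ (Subgroup.closure Sset).map (PresentedGroup.mk Rset)) ≃ Fin 14080,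
      ∀ lo hi, OrbOK mdata subsL lo hi → ∀ q, (e q).val = lo →
        e '' (MulAction.orbit ((Subgroup.closure Sset).map (PresentedGroup.mk Rset)) q) =
          {x : Fin 14080 | lo ≤ x.val ∧ x.val < hi} :=
  model_main mdata bases subsL coding hR1 hS1 hS2 model_ok bound

end Cfsg.Agent.Helper4.TC.Fi22O73
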