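import Cfsg.Agent.Lib.Helper4.TC.Fi22SX
import Cfsg.Agent.Lib.Helper4.TC.Fi22XB
import Cfsg.Agent.Lib.Helper4.TC.Fi22Z1B
import Cfsg.Agent.Lib.Helper4.TC.Fi22Z2B
import Cfsg.Agent.Lib.Helper4.TC.Fi22Z3B
import Cfsg.Agent.Lib.Helper4.TC.Fi22Z4B
import Cfsg.Agent.Lib.Helper4.TC.Fi22Z5B
import Cfsg.Agent.Lib.Helper4.TC.Fi22Z6B
import Cfsg.Agent.Lib.Helper4.TC.Fi22Z7B
import Cfsg.Agent.Lib.Helper4.TC.Fi22Z8B
import Cfsg.Agent.Lib.Helper4.TC.Fi22O73Glue

set_option autoImplicit false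
set_option maxRecDepth 100000
set_option linter.unusedVariables false

namespace Cfsg.Agent.Helper4.TC.Fi22S

open Cfsg.Agent.Helper4.TC

abbrev dec := Fi22Cod.dec
abbrev Rset : Set (FreeGroup Cfsg.Spor.Fi22.Gen) := Cfsg.Spor.coxRelators Cfsg.Spor.Fi22.edges ∪ {r | r ∈ Cfsg.Spor.Fi22.extra}

theorem card7 : Finite (PresentedGroup (relSet dec Fi22Z8.bases)) ∧ Nat.card (PresentedGroup (relSet dec Fi22Z8.bases)) ≤ 2 := by
  refine stage_bot _ _ ?_ _ Fi22Z8.bound
  rintro s ⟨b, hb, _⟩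
  simp [Fi22Z8.subsL] at hb

theorem card6 : Finite (PresentedGroup (relSet dec Fi22Z7.bases)) ∧ Nat.card (PresentedGroup (relSet dec Fi22Z7.bases)) ≤ 6 := by
  have h := stage_bound (relSet dec Fi22Z7.bases) (relSet dec Fi22Z8.bases) (relSet dec Fi22Z7.subsL) Fi22Z7.bases Fi22Z8.bases Fi22Z7.subsL
    (fun x : Cfsg.Spor.Fi22.Gen => decide (x ∈ ([.h] : List Cfsg.Spor.Fi22.Gen))) (mem_relSet _) (fun r hr => hr) (fun s hs => hs) (by decide +kernel) (by decide +kernel) Fi22Z7.n 2 Fi22Z7.bound card7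
  exact ⟨h.1, h.2.trans (by decide)⟩

theorem card5 : Finite (PresentedGroup (relSet dec Fi22Z6.bases)) ∧ Nat.card (PresentedGroup (relSet dec Fi22Z6.bases)) ≤ 24 := by
  have h := stage_bound (relSet dec Fi22Z6.bases) (relSet dec Fi22Z7.bases) (relSet dec Fi22Z6.subsL) Fi22Z6.bases Fi22Z7.bases Fi22Z6.subsL
    (fun x : Cfsg.Spor.Fi22.Gen => decide (x ∈ ([.d, .h] : List Cfsg.Spor.Fi22.Gen))) (mem_relSet _) (fun r hr => hr) (fun s hs => hs) (by decide +kernel) (by decide +kernel) Fi22Z6.n 6 Fi22Z6.bound card6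
  exact ⟨h.1, h.2.trans (by decide)⟩

theorem card4 : Finite (PresentedGroup (relSet dec Fi22Z5.bases)) ∧ Nat.card (PresentedGroup (relSet dec Fi22Z5.bases)) ≤ 192 := by
  have h := stage_bound (relSet dec Fi22Z5.bases) (relSet dec Fi22Z6.bases) (relSet dec Fi22Z5.subsL) Fi22Z5.bases Fi22Z6.bases Fi22Z5.subsL
    (fun x : Cfsg.Spor.Fi22.Gen => decide (x ∈ ([.d, .e, .h] : List Cfsg.Spor.Fi22.Gen))) (mem_relSet _) (fun r hr => hr) (fun s hs => hs) (by decide +kernel) (by decide +kernel) Fi22Z5.n 24 Fi22Z5.bound card5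
  exact ⟨h.1, h.2.trans (by decide)⟩

theorem card3 : Finite (PresentedGroup (relSet dec Fi22Z4.bases)) ∧ Nat.card (PresentedGroup (relSet dec Fi22Z4.bases)) ≤ 1920 := by
  have h := stage_bound (relSet dec Fi22Z4.bases) (relSet dec Fi22Z5.bases) (relSet dec Fi22Z4.subsL) Fi22Z4.bases Fi22Z5.bases Fi22Z4.subsL
    (fun x : Cfsg.Spor.Fi22.Gen => decide (x ∈ ([.c, .d, .e, .h] : List Cfsg.Spor.Fi22.Gen))) (mem_relSet _) (fun r hr => hr) (fun s hs => hs) (by decide +kernel) (by decide +kernel) Fi22Z4.n 192 Fi22Z4.bound card4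
  exact ⟨h.1, h.2.trans (by decide)⟩

theorem card2 : Finite (PresentedGroup (relSet dec Fi22Z3.bases)) ∧ Nat.card (PresentedGroup (relSet dec Fi22Z3.bases)) ≤ 51840 := by
  have h := stage_bound (relSet dec Fi22Z3.bases) (relSet dec Fi22Z4.bases) (relSet dec Fi22Z3.subsL) Fi22Z3.bases Fi22Z4.bases Fi22Z3.subsL
    (fun x : Cfsg.Spor.Fi22.Gen => decide (x ∈ ([.c, .d, .e, .h, .i] : List Cfsg.Spor.Fi22.Gen))) (mem_relSet _) (fun r hr => hr) (fun s hs => hs) (by decide +kernel) (by decide +kernel) Fi22Z3.n 1920 Fi22Z3.bound card3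
  exact ⟨h.1, h.2.trans (by decide)⟩

theorem card1 : Finite (PresentedGroup (relSet dec Fi22Z2.bases)) ∧ Nat.card (PresentedGroup (relSet dec Fi22Z2.bases)) ≤ 12597120 := by
  have h := stage_bound (relSet dec Fi22Z2.bases) (relSet dec Fi22Z3.bases) (relSet dec Fi22Z2.subsL) Fi22Z2.bases Fi22Z3.bases Fi22Z2.subsL
    (fun x : Cfsg.Spor.Fi22.Gen => decide (x ∈ ([.b, .c, .d, .e, .h, .i] : List Cfsg.Spor.Fi22.Gen))) (mem_relSet _) (fun r hr => hr) (fun s hs => hs) (by decide +kernel) (by decide +kernel) Fi22Z2.n 51840 Fi22Z2.bound card2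
  exact ⟨h.1, h.2.trans (by decide)⟩

theorem card0 : Finite (PresentedGroup (relSet dec Fi22Z1.bases)) ∧ Nat.card (PresentedGroup (relSet dec Fi22Z1.bases)) ≤ 4585351680 := by
  have h := stage_bound (relSet dec Fi22Z1.bases) (relSet dec Fi22Z2.bases) (relSet dec Fi22Z1.subsL) Fi22Z1.bases Fi22Z2.bases Fi22Z1.subsL
    (fun x : Cfsg.Spor.Fi22.Gen => decide (x ∈ ([.b, .c, .d, .e, .f, .h, .i] : List Cfsg.Spor.Fi22.Gen))) (mem_relSet _) (fun r hr => hr) (fun s hs => hs) (by decide +kernel) (by decide +kernel) Fi22Z1.n 12597120 Fi22Z1.bound card1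
  exact ⟨h.1, h.2.trans (by decide)⟩

theorem card_top : Finite (PresentedGroup Rset) ∧ Nat.card (PresentedGroup Rset) ≤ 64561751654400 := by
  have h := stage_bound Rset (relSet dec Fi22Z1.bases) Fi22O73.Sset Fi22O73.bases Fi22Z1.bases Fi22O73.subsL
    (fun x : Cfsg.Spor.Fi22.Gen => decide (x ∈ ([.b, .c, .d, .e, .f, .g, .h, .i] : List Cfsg.Spor.Fi22.Gen))) Fi22O73.hR2 (fun r hr => hr) Fi22O73.hS1 (by decide +kernel) (by decide +kernel) Fi22O73.n 4585351680 Fi22O73.bound card0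
  exact ⟨h.1, h.2.trans (by decide)⟩

theorem cardX : Finite (PresentedGroup (relSet dec Fi22X.bases)) ∧ Nat.card (PresentedGroup (relSet dec Fi22X.bases)) ≤ 1 := by
  refine stage_bot _ _ ?_ _ Fi22X.bound
  rintro s ⟨b, hb, _⟩
  simp [Fi22X.subsL] at hb

theorem hnc : Subgroup.normalClosure {PresentedGroup.mk Rset (wordF dec xw)} = ⊤ := by
  refine normalClosure_eq_top_of_trivial Rset (relSet dec Fi22X.bases) (wordF dec xw) ?_ cardX
  rintro r ⟨b, hb, rfl⟩
  have hb' : b ∈ Fi22U62.bases ++ [xw] := (by decide : Fi22X.bases = Fi22U62.bases ++ [xw]) ▸ hb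
  rcases List.mem_append.mp hb' with h | h
  · exact Or.inl (Fi22U62.hR2 b h)
  · right
    rw [List.mem_singleton.mp h]

theorem hxp : ∀ j, j < Fi22U62.mdata.n → mtrace Fi22U62.mdata (wpow xw (13 ^ 1)) j = j := by
  have e : wpow xw (13 ^ 1) = xpw := by decide
  rw [e]
  intro k hk
  have hk' : k < 3510 := hk
  by_cases hh1 : k < 1845
  · skip
    by_cases hh2 : k < 615
    · skip
      exact relsRange_sound Fi22U62.mdata [xpw] 615 0 xp_c0 k (by omega) (by omega) xpw List.mem_cons_self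
    · skip
      by_cases hh3 : k < 1230
      · skip
        exact relsRange_sound Fi22U62.mdata [xpw] 615 615 xp_c1 k (by omega) (by omega) xpw List.mem_cons_self
      · skip
        exact relsRange_sound Fi22U62.mdata [xpw] 615 1230 xp_c2 k (by omega) (by omega) xpw List.mem_cons_self
  · skip
    by_cases hh4 : k < 2460
    · skip
      exact relsRange_sound Fi22U62.mdata [xpw] 615 1845 xp_c3 k (by omega) (by omega) xpw List.mem_cons_self
    · skip
      by_cases hh5 : k < 3075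
      · skip
        exact relsRange_sound Fi22U62.mdata [xpw] 615 2460 xp_c4 k (by omega) (by omega) xpw List.mem_cons_self
      · skip
        exact relsRange_sound Fi22U62.mdata [xpw] 435 3075 xp_c5 k (by omega) (by omega) xpw List.mem_cons_self

instance : Fact (Nat.Prime 13) := ⟨by norm_num⟩

theorem main : IsSimpleGroup (PresentedGroup Rset) ∧ Nat.card (PresentedGroup Rset) = 64561751654400 := by
  refine simple_card_main Fi22U62.coding Fi22U62.hR1 Fi22U62.model_ok 64561751654400 card_top specs levels_ok ?_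
    [(1, 2817), (2817, 3510)] (by decide) ?_ (by decide) (by decide) 13 ?_ xw (by decide) 1 hxp hnc
  · decide
  · intro r hr
    simp only [List.mem_cons, List.not_mem_nil, or_false] at hr
    rcases hr with rfl | rfl
    · exact Fi22U62.orb1
    · exact Fi22U62.orb2
  · exact factorization_eq_of _ _ 13 1 4966288588800 270 (by norm_num) (by norm_num [Fi22U62.mdata]) (by norm_num [Fi22U62.mdata]) (by norm_num) (by norm_num)

end Cfsg.Agent.Helper4.TC.Fi22S
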