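import Cfsg.Agent.Lib.Helper4.TC.Cover

set_option autoImplicit false
set_option linter.unusedVariables false
set_option linter.unusedSectionVars false
set_option linter.style.haveILetI false

/-! A class of 3-transpositions in a simple group with a primitive permutation representation
whose point stabiliser centralises an involution. -/

namespace Cfsg.Agent.Helper4.TC

section Trans

variable {G : Type*} [Group G]

theorem ncard_conjugatesOf [Finite G] (z : G) :
    (conjugatesOf z).ncard = (Subgroup.centralizer {z}).index := by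
  have h1 : MulAction.orbit (ConjAct G) z = conjugatesOf z := by
    ext g
    rw [ConjAct.mem_orbit_conjAct]
    exact isConj_comm
  have h2 := MulAction.index_stabilizer (ConjAct G) z
  rw [h1, ConjAct.stabilizer_eq_centralizer] at h2
  rw [← h2]
  rfl

theorem conj_centralizer_equiv (z g : G) :
    Nonempty (Subgroup.centralizer {z} ≃* Subgroup.centralizer {g * z * g⁻¹}) := by
  have h : (Subgroup.centralizer {z}).map (MulAut.conj g).toMonoidHom =
      Subgroup.centralizer {g * z * g⁻¹} := by
    ext x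
    simp only [Subgroup.mem_map, Subgroup.mem_centralizer_iff, Set.mem_singleton_iff, forall_eq,
      MulEquiv.coe_toMonoidHom, MulAut.conj_apply]
    constructor
    · rintro ⟨y, hy, rfl⟩
      calc g * z * g⁻¹ * (g * y * g⁻¹) = g * (z * y) * g⁻¹ := by group
        _ = g * (y * z) * g⁻¹ := by rw [hy]
        _ = g * y * g⁻¹ * (g * z * g⁻¹) := by group
    · intro hx
      refine ⟨g⁻¹ * x * g, ?_, by group⟩
      have : g⁻¹ * (g * z * g⁻¹ * x) * g = g⁻¹ * (x * (g * z * g⁻¹)) * g := by rw [hx]
      calc z * (g⁻¹ * x * g) = g⁻¹ * (g * z * g⁻¹ * x) * g := by group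
        _ = g⁻¹ * (x * (g * z * g⁻¹)) * g := this
        _ = g⁻¹ * x * g * z := by group
  exact ⟨((MulAut.conj g).subgroupMap (Subgroup.centralizer {z})).trans (MulEquiv.subgroupCongr h)⟩

/-- the class of an involution centralised by the maximal point stabiliser of a transitive
representation of a simple group, whose products with its conjugates have order at most `3` for
representatives of the orbits of the stabiliser -/
theorem three_transposition_main [Finite G] [IsSimpleGroup G] (hna : ∃ a b : G, a * b ≠ b * a)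
    {n : ℕ} (φ : G →* Equiv.Perm (Fin n)) (x0 : Fin n) (htr : ∀ y, ∃ g, φ g x0 = y)
    (Hgen : Set G) (hHgen : Subgroup.closure Hgen = stabOf φ x0)
    (hmax : ∀ M : Subgroup G, stabOf φ x0 ≤ M → M = stabOf φ x0 ∨ M = ⊤)
    (z : G) (hz2 : z ^ 2 = 1) (hz1 : z ≠ 1) (hcomm : ∀ s ∈ Hgen, s * z = z * s)
    (reps : List G)
    (hreps : ∀ y : Fin n, ∃ r ∈ reps, ∃ h ∈ stabOf φ x0, φ (h * r) x0 = y)
    (hP : ∀ r ∈ reps, (z * (r * z * r⁻¹)) ^ 2 = 1 ∨ (z * (r * z * r⁻¹)) ^ 3 = 1) :
    Cfsg.IsThreeTranspositionClass (conjugatesOf z) ∧ Nat.card (conjugatesOf z) = n ∧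
      Subgroup.centralizer {z} = stabOf φ x0 := by
  have hle : stabOf φ x0 ≤ Subgroup.centralizer {z} := by
    rw [← hHgen, Subgroup.closure_le]
    intro s hs
    rw [SetLike.mem_coe, Subgroup.mem_centralizer_iff]
    intro w hw
    rw [Set.mem_singleton_iff.mp hw]
    exact (hcomm s hs).symm
  have hC : Subgroup.centralizer {z} = stabOf φ x0 := by
    rcases hmax _ hle with h | h
    · exact h
    · exfalso
      apply hz1
      have hzc : z ∈ Subgroup.center G := by
        rw [Subgroup.mem_center_iff]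
        intro g
        have hg : g ∈ Subgroup.centralizer {z} := by rw [h]; trivial
        exact (Subgroup.mem_centralizer_iff.mp hg z rfl).symm
      rw [center_eq_bot_of_simple hna] at hzc
      exact hzc
  have hcz : ∀ h ∈ stabOf φ x0, h * z = z * h := by
    intro h hh
    have := hle hh
    exact (Subgroup.mem_centralizer_iff.mp this z rfl).symm
  have hcard : Nat.card (conjugatesOf z) = n := by
    rw [Nat.card_coe_set_eq, ncard_conjugatesOf, hC, index_stabOf φ x0 htr]
  refine ⟨⟨⟨?_, ?_⟩, ⟨z, mem_conjugatesOf_self, rfl⟩, ?_⟩, hcard, hC⟩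
  · intro d hd
    obtain ⟨c, rfl⟩ := isConj_iff.mp (show IsConj z d from hd)
    haveI : Fact (Nat.Prime 2) := ⟨Nat.prime_two⟩
    apply orderOf_eq_prime
    · rw [conj_pow, hz2]; group
    · intro h
      apply hz1
      have : c⁻¹ * (c * z * c⁻¹) * c = c⁻¹ * 1 * c := by rw [h]
      simpa [mul_assoc] using this
  · intro d hd e he
    obtain ⟨c, rfl⟩ := isConj_iff.mp (show IsConj z d from hd)
    obtain ⟨c', rfl⟩ := isConj_iff.mp (show IsConj z e from he)
    obtain ⟨r, hr, h, hh, hy⟩ := hreps (φ (c⁻¹ * c') x0)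
    have hh' : (h * r)⁻¹ * (c⁻¹ * c') ∈ stabOf φ x0 := by
      rw [mem_stabOf, map_mul, Equiv.Perm.mul_apply, ← hy, map_inv, Equiv.Perm.inv_eq_iff_eq]
    set h' := (h * r)⁻¹ * (c⁻¹ * c') with hh'def
    have ht : c⁻¹ * c' = h * r * h' := by rw [hh'def]; group
    have e1 : h' * z * h'⁻¹ = z := by rw [hcz h' hh']; group
    have e2 : h * z * h⁻¹ = z := by rw [hcz h hh]; group
    have key : c * z * c⁻¹ * (c' * z * c'⁻¹) =
        (c * h) * (z * (r * z * r⁻¹)) * (c * h)⁻¹ := by
      have e3 : c' = c * (h * r * h') := by rw [← ht]; group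
      rw [e3]
      calc c * z * c⁻¹ * (c * (h * r * h') * z * (c * (h * r * h'))⁻¹)
          = c * z * (h * r * (h' * z * h'⁻¹) * r⁻¹ * h⁻¹) * c⁻¹ := by group
        _ = c * z * (h * r * z * r⁻¹ * h⁻¹) * c⁻¹ := by rw [e1]
        _ = c * (h * z * h⁻¹) * (h * r * z * r⁻¹ * h⁻¹) * c⁻¹ := by rw [e2]
        _ = (c * h) * (z * (r * z * r⁻¹)) * (c * h)⁻¹ := by group
    rw [key, conj_pow, conj_pow]
    rcases hP r hr with h2 | h3
    · left; rw [h2]; group
    · right; rw [h3]; group
  · have h1 : Subgroup.closure (conjugatesOf z) = Subgroup.normalClosure {z} := by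
      unfold Subgroup.normalClosure
      congr 1
      ext g
      simp [Group.conjugatesOfSet]
    rw [h1]
    rcases IsSimpleGroup.eq_bot_or_eq_top_of_normal (Subgroup.normalClosure {z})
      Subgroup.normalClosure_normal with h | h
    · exfalso
      apply hz1
      have : z ∈ Subgroup.normalClosure {z} := Subgroup.subset_normalClosure rfl
      rw [h] at this
      exact this
    · exact h

end Trans

/-! ### the same from a checked permutation model -/

section TransModel

variable {α : Type} {R : Set (FreeGroup α)} {dec : ℕ → Letter α} {enc : α → ℕ}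
variable {m : MData} {bases subsL : List (List ℕ)}

/-- the inverse word -/
def invW (w : List ℕ) : List ℕ := (w.map fun c => Nat.xor c 1).reverse

theorem invW_cons (c : ℕ) (w : List ℕ) : invW (c :: w) = invW w ++ [Nat.xor c 1] := by
  unfold invW
  rw [List.map_cons, List.reverse_cons]

theorem evc_invW {P : Type*} [Group P] (f : α → P) {nc : ℕ} (hcod : Coding dec enc nc)
    (w : List ℕ) : evc f dec (invW w) = (evc f dec w)⁻¹ := by
  induction w with
  | nil => show (1 : P) = (1 : P)⁻¹; rw [inv_one]
  | cons c u ih =>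
    rw [invW_cons, evc_append, ih, evc_cons f dec c u, mul_inv_rev]
    congr 1
    show evc f dec [] * gl f (dec (Nat.xor c 1)) = _
    rw [evc_nil, one_mul, hcod.dec_inv, gl_linv]

/-- the word has its letters below `nc` and fixes the listed points -/
noncomputable def fixesB (m : MData) (pts : List ℕ) (w : List ℕ) : Bool :=
  (w.all fun c => Nat.blt c m.nc) && pts.all fun p => Nat.beq (mtrace m w p) p

theorem fixesB_sound {pts w : List ℕ} (h : fixesB m pts w = true) :
    (∀ c ∈ w, c < m.nc) ∧ ∀ p ∈ pts, mtrace m w p = p := by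
  unfold fixesB at h
  rw [Bool.and_eq_true, List.all_eq_true, List.all_eq_true] at h
  refine ⟨fun c hc => ?_, fun p hp => ?_⟩
  · have := h.1 c hc
    rw [Nat.blt_eq] at this
    exact this
  · exact Nat.eq_of_beq_eq_true (h.2 p hp)

theorem three_transposition_model (hcod : Coding dec enc m.nc)
    (hR1 : ∀ r ∈ R, ∃ b ∈ bases, r = wordF dec b) (hm : ModelOK m bases subsL)
    [IsSimpleGroup (PresentedGroup R)]
    (N : ℕ) (hN : 0 < N) (hub : Finite (PresentedGroup R) ∧ Nat.card (PresentedGroup R) ≤ N)
    (hnp : ¬ (Nat.card (PresentedGroup R)).Prime)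
    (specs : List LSpec) (hlev : LevelsOK m [0] specs)
    (hprod : m.n * (specs.map fun s => s.d.cnt).prod = N)
    (S : Set (FreeGroup α)) (hS1 : ∀ s ∈ S, ∃ b ∈ subsL, s = wordF dec b)
    (hidx : ((Subgroup.closure S).map (PresentedGroup.mk R)).index = m.n)
    (rs : List (ℕ × ℕ)) (hcon : Consec rs 1 m.n) (horb : ∀ r ∈ rs, OrbOK m subsL r.1 r.2)
    (harith : ∀ I : Finset (Fin rs.length),
      (1 + ∑ i ∈ I, ((rs.get i).2 - (rs.get i).1)) ∣ (1 + ∑ i, ((rs.get i).2 - (rs.get i).1)) →
        I = ∅ ∨ I = Finset.univ)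
    (zw : List ℕ) (k0 : ℕ) (hk0 : k0 < m.n) (hz1 : mtrace m zw k0 ≠ k0)
    (pts : List ℕ) (hpts : pts = 0 :: specs.map fun s => s.b)
    (hz2 : fixesB m pts (zw ++ zw) = true)
    (hcomm : ∀ b ∈ subsL, fixesB m pts (b ++ zw ++ invW b ++ invW zw) = true)
    (ws : List (List ℕ)) (hws : ∀ r ∈ rs, ∃ w ∈ ws, mtrace m w 0 = r.1)
    (hP : ∀ w ∈ ws, fixesB m pts (wpow (invW w ++ zw ++ w ++ zw) 2) = true ∨
      fixesB m pts (wpow (invW w ++ zw ++ w ++ zw) 3) = true) :
    Cfsg.IsThreeTranspositionClass (conjugatesOf (PresentedGroup.mk R (wordF dec zw))) ∧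
      Nat.card (conjugatesOf (PresentedGroup.mk R (wordF dec zw))) = m.n ∧
      Subgroup.centralizer {PresentedGroup.mk R (wordF dec zw)} =
        (Subgroup.closure S).map (PresentedGroup.mk R) := by
  haveI := hub.1
  set φ := modelHom hcod hR1 hm with hφ
  set x0 : Fin m.n := ⟨0, hm.npos⟩ with hx0
  set z := PresentedGroup.mk R (wordF dec zw) with hz
  have htr := modelHom_trans hcod hR1 hm
  -- words trivial in the group
  have hone : ∀ w, fixesB m pts w = true → PresentedGroup.mk R (wordF dec w) = 1 := by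
    intro w hw
    obtain ⟨h1, h2⟩ := fixesB_sound hw
    refine word_eq_one_of_base hcod hR1 hm N hN hub specs hlev hprod w h1 ?_ ?_
    · exact h2 0 (by rw [hpts]; exact List.mem_cons_self)
    · intro s hs
      exact h2 s.b (by rw [hpts]; exact List.mem_cons_of_mem _ (List.mem_map_of_mem hs))
  have hlet : ∀ u v : List ℕ, (∀ c ∈ u ++ v, c < m.nc) → ∀ c ∈ v, c < m.nc :=
    fun u v h c hc => h c (List.mem_append_right _ hc)
  have hzw : ∀ c ∈ zw, c < m.nc := hlet zw zw (fixesB_sound hz2).1
  -- the stabiliser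
  have hmap : (Subgroup.closure S).map (PresentedGroup.mk R) =
      Subgroup.closure (PresentedGroup.mk R '' S) := MonoidHom.map_closure _ _
  have hle : Subgroup.closure (PresentedGroup.mk R '' S) ≤ stabOf φ x0 := by
    rw [Subgroup.closure_le]
    rintro _ ⟨s, hs, rfl⟩
    obtain ⟨b, hb, rfl⟩ := hS1 s hs
    rw [SetLike.mem_coe, mem_stabOf]
    apply Fin.ext
    rw [modelHom_word hcod hR1 hm b (hm.subc b hb)]
    exact hm.sub0 b hb
  have hHgen : Subgroup.closure (PresentedGroup.mk R '' S) = stabOf φ x0 := by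
    refine Subgroup.eq_of_le_of_card_ge hle ?_
    have h1 := (Subgroup.closure (PresentedGroup.mk R '' S)).card_mul_index
    have h2 := (stabOf φ x0).card_mul_index
    rw [← hmap, hidx] at h1
    rw [index_stabOf φ x0 htr] at h2
    have h3 : Nat.card (stabOf φ x0) * m.n =
        Nat.card ((Subgroup.closure S).map (PresentedGroup.mk R)) * m.n := by rw [h1, h2]
    rw [← hmap]
    exact le_of_eq (Nat.eq_of_mul_eq_mul_right hm.npos h3)
  have hz2' : z ^ 2 = 1 := by
    rw [pow_two, hz, ← evc_of, ← evc_append, evc_of]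
    exact hone _ hz2
  have hz1' : z ≠ 1 := by
    intro h
    apply hz1
    have h1 := modelHom_word hcod hR1 hm zw hzw ⟨k0, hk0⟩
    rw [← hz, h, map_one] at h1
    exact h1.symm
  have hcomm' : ∀ s ∈ PresentedGroup.mk R '' S, s * z = z * s := by
    rintro _ ⟨s, hs, rfl⟩
    obtain ⟨b, hb, rfl⟩ := hS1 s hs
    have h1 := hone _ (hcomm b hb)
    rw [← evc_of, evc_append, evc_append, evc_append, evc_invW _ hcod, evc_invW _ hcod, evc_of,
      evc_of, ← hz] at h1
    -- z⁻¹ * (s⁻¹ * (z * s)) = 1 (with the association given by the appends)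
    set s' := PresentedGroup.mk R (wordF dec b) with hs'
    have h2 : z * s' = s' * z := by
      have : z⁻¹ * s'⁻¹ * (z * s') = 1 := by rw [← h1]; group
      calc z * s' = s' * z * (z⁻¹ * s'⁻¹ * (z * s')) := by group
        _ = s' * z := by rw [this, mul_one]
    exact h2.symm
  have hmax := maximal_of_orbs hcod hR1 hm rs hcon horb harith
  -- representatives
  have hreps : ∀ y : Fin m.n, ∃ r ∈ (1 : PresentedGroup R) ::
      ws.map (fun w => PresentedGroup.mk R (wordF dec w)), ∃ h ∈ stabOf φ x0,
        φ (h * r) x0 = y := by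
    intro y
    by_cases hy : y.val = 0
    · refine ⟨1, List.mem_cons_self, 1, Subgroup.one_mem _, ?_⟩
      rw [mul_one, map_one]
      apply Fin.ext
      exact hy.symm
    · obtain ⟨i, hi1, hi2⟩ := hcon.cover y.val (by omega) y.2
      have hmem := List.get_mem rs i
      have ho := horb _ hmem
      obtain ⟨w, hw, hw0⟩ := hws _ hmem
      obtain ⟨g, hg, hgy⟩ := orb_reach hcod hR1 hm _ _ ho y.val hi1 hi2
      refine ⟨_, List.mem_cons_of_mem _ (List.mem_map_of_mem hw), g, hg, ?_⟩
      rw [map_mul, Equiv.Perm.mul_apply]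
      have hwc : ∀ c ∈ w, c < m.nc := by
        rcases hP w hw with h | h
        · have h1 := (fixesB_sound h).1
          intro c hc
          apply h1 c
          show c ∈ (invW w ++ zw ++ w ++ zw) ++ wpow _ 1
          exact List.mem_append_left _ (List.mem_append_left _ (List.mem_append_right _ hc))
        · have h1 := (fixesB_sound h).1
          intro c hc
          apply h1 c
          show c ∈ (invW w ++ zw ++ w ++ zw) ++ wpow _ 2
          exact List.mem_append_left _ (List.mem_append_left _ (List.mem_append_right _ hc))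
      have h2 : φ (PresentedGroup.mk R (wordF dec w)) x0 =
          ⟨(rs.get i).1, by have := ho.le; have := ho.lt; omega⟩ := by
        apply Fin.ext
        rw [modelHom_word hcod hR1 hm w hwc]
        exact hw0
      rw [h2]
      exact hgy
  have hP' : ∀ r ∈ (1 : PresentedGroup R) :: ws.map (fun w => PresentedGroup.mk R (wordF dec w)),
      (z * (r * z * r⁻¹)) ^ 2 = 1 ∨ (z * (r * z * r⁻¹)) ^ 3 = 1 := by
    intro r hr
    rcases List.mem_cons.mp hr with rfl | hr
    · left
      rw [one_mul, inv_one, mul_one, ← pow_two, hz2', one_pow]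
    · obtain ⟨w, hw, rfl⟩ := List.mem_map.mp hr
      have key : z * (PresentedGroup.mk R (wordF dec w) * z *
          (PresentedGroup.mk R (wordF dec w))⁻¹) =
          PresentedGroup.mk R (wordF dec (invW w ++ zw ++ w ++ zw)) := by
        rw [← evc_of (b := invW w ++ zw ++ w ++ zw), evc_append, evc_append, evc_append,
          evc_invW _ hcod, evc_of, evc_of, ← hz]
        group
      rw [key, ← mk_wordF_wpow, ← mk_wordF_wpow]
      rcases hP w hw with h | h
      · exact Or.inl (hone _ h)
      · exact Or.inr (hone _ h)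
  obtain ⟨h1, h2, h3⟩ := three_transposition_main (not_comm_of_simple_of_not_prime hnp) φ x0 htr
    (PresentedGroup.mk R '' S) hHgen hmax z hz2' hz1' hcomm' _ hreps hP'
  exact ⟨h1, h2, by rw [h3, hmap, hHgen]⟩

end TransModel

end Cfsg.Agent.Helper4.TC
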