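import Cfsg.Prelude.Def_SporCoxeter

set_option autoImplicit false

/-! Presentations on eight involutions: `U62` of a group of order 18393661440 (a double cover
of the unitary group of dimension six over the field with four elements) and `U62Q` of its
simple quotient of order 9196830720. -/

namespace Cfsg.Agent.Helper4.Pres

namespace U62

inductive Gen
  | c
  | d
  | e
  | f
  | g
  | h
  | i
  | x
  deriving DecidableEq

abbrev c : FreeGroup Gen := FreeGroup.of Gen.c
abbrev d : FreeGroup Gen := FreeGroup.of Gen.d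
abbrev e : FreeGroup Gen := FreeGroup.of Gen.e
abbrev f : FreeGroup Gen := FreeGroup.of Gen.f
abbrev g : FreeGroup Gen := FreeGroup.of Gen.g
abbrev h : FreeGroup Gen := FreeGroup.of Gen.h
abbrev i : FreeGroup Gen := FreeGroup.of Gen.i
abbrev x : FreeGroup Gen := FreeGroup.of Gen.x

def edges : List (Gen × ℕ × Gen) :=
  [(.c, 3, .d), (.d, 3, .e), (.d, 3, .h), (.e, 3, .f), (.f, 3, .g), (.h, 3, .i), (.f, 3, .x), (.i, 3, .x)]

def extra : List (FreeGroup Gen) := [
  (d * e * f * x * i * h * i * x * f * e) ^ 3,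
  (d * e * f * x * i * h) ^ 5,
  (e * f * g * x * i * h) ^ 5,
  (c * d * e * f * g * h * i) ^ 9 ]

end U62

namespace U62Q

inductive Gen
  | c
  | d
  | e
  | f
  | g
  | h
  | i
  | x
  deriving DecidableEq

abbrev c : FreeGroup Gen := FreeGroup.of Gen.c
abbrev d : FreeGroup Gen := FreeGroup.of Gen.d
abbrev e : FreeGroup Gen := FreeGroup.of Gen.e
abbrev f : FreeGroup Gen := FreeGroup.of Gen.f
abbrev g : FreeGroup Gen := FreeGroup.of Gen.g
abbrev h : FreeGroup Gen := FreeGroup.of Gen.h
abbrev i : FreeGroup Gen := FreeGroup.of Gen.i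
abbrev x : FreeGroup Gen := FreeGroup.of Gen.x

def edges : List (Gen × ℕ × Gen) :=
  [(.c, 3, .d), (.d, 3, .e), (.d, 3, .h), (.e, 3, .f), (.f, 3, .g), (.h, 3, .i), (.f, 3, .x), (.i, 3, .x)]

def extra : List (FreeGroup Gen) := [
  (d * e * f * x * i * h * i * x * f * e) ^ 3,
  (d * e * f * x * i * h) ^ 5,
  (e * f * g * x * i * h) ^ 5,
  (c * d * e * f * g * h * i) ^ 9,
  (x * i * h * d * c * e) ^ 5 ]

end U62Q

end Cfsg.Agent.Helper4.Pres
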