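import Cfsg.Agent.Lib.Helper4.TC.U62PPcGlue
import Cfsg.Agent.Lib.Helper4.TC.U62PABB
import Cfsg.Agent.Lib.Helper4.TC.U62PZ1B
import Cfsg.Agent.Lib.Helper4.TC.U62PZ2B
import Cfsg.Agent.Lib.Helper4.TC.U62PZ3B
import Cfsg.Agent.Lib.Helper4.TC.U62PZ4B
import Cfsg.Agent.Lib.Helper4.TC.U62PZ5B
import Cfsg.Agent.Lib.Helper4.TC.U62PZ6B
import Cfsg.Agent.Lib.Helper4.TC.U62PZ7B
import Cfsg.Agent.Lib.Helper4.TC.Cover

set_option autoImplicit false
set_option maxRecDepth 100000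
set_option linter.unusedVariables false

namespace Cfsg.Agent.Helper4.TC.U62PC

open Cfsg.Agent.Helper4.TC

abbrev dec := U62PCod.dec
abbrev Rset : Set (FreeGroup Cfsg.Agent.Helper4.Pres.U62.Gen) := Cfsg.Spor.coxRelators Cfsg.Agent.Helper4.Pres.U62.edges ∪ {r | r ∈ Cfsg.Agent.Helper4.Pres.U62.extra}

theorem card6 : Finite (PresentedGroup (relSet dec U62PZ7.bases)) ∧ Nat.card (PresentedGroup (relSet dec U62PZ7.bases)) ≤ 2 := by
  refine stage_bot _ _ ?_ _ U62PZ7.bound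
  rintro s ⟨b, hb, _⟩
  simp [U62PZ7.subsL] at hb

theorem card5 : Finite (PresentedGroup (relSet dec U62PZ6.bases)) ∧ Nat.card (PresentedGroup (relSet dec U62PZ6.bases)) ≤ 6 := by
  have h := stage_bound (relSet dec U62PZ6.bases) (relSet dec U62PZ7.bases) (relSet dec U62PZ6.subsL) U62PZ6.bases U62PZ7.bases U62PZ6.subsL
    (fun x : Cfsg.Agent.Helper4.Pres.U62.Gen => decide (x ∈ ([.e] : List Cfsg.Agent.Helper4.Pres.U62.Gen))) (mem_relSet _) (fun r hr => hr) (fun s hs => hs) (by decide +kernel) (by decide +kernel) U62PZ6.n 2 U62PZ6.bound card6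
  exact ⟨h.1, h.2.trans (by decide)⟩

theorem card4 : Finite (PresentedGroup (relSet dec U62PZ5.bases)) ∧ Nat.card (PresentedGroup (relSet dec U62PZ5.bases)) ≤ 24 := by
  have h := stage_bound (relSet dec U62PZ5.bases) (relSet dec U62PZ6.bases) (relSet dec U62PZ5.subsL) U62PZ5.bases U62PZ6.bases U62PZ5.subsL
    (fun x : Cfsg.Agent.Helper4.Pres.U62.Gen => decide (x ∈ ([.e, .f] : List Cfsg.Agent.Helper4.Pres.U62.Gen))) (mem_relSet _) (fun r hr => hr) (fun s hs => hs) (by decide +kernel) (by decide +kernel) U62PZ5.n 6 U62PZ5.bound card5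
  exact ⟨h.1, h.2.trans (by decide)⟩

theorem card3 : Finite (PresentedGroup (relSet dec U62PZ4.bases)) ∧ Nat.card (PresentedGroup (relSet dec U62PZ4.bases)) ≤ 120 := by
  have h := stage_bound (relSet dec U62PZ4.bases) (relSet dec U62PZ5.bases) (relSet dec U62PZ4.subsL) U62PZ4.bases U62PZ5.bases U62PZ4.subsL
    (fun x : Cfsg.Agent.Helper4.Pres.U62.Gen => decide (x ∈ ([.e, .f, .x] : List Cfsg.Agent.Helper4.Pres.U62.Gen))) (mem_relSet _) (fun r hr => hr) (fun s hs => hs) (by decide +kernel) (by decide +kernel) U62PZ4.n 24 U62PZ4.bound card4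
  exact ⟨h.1, h.2.trans (by decide)⟩

theorem card2 : Finite (PresentedGroup (relSet dec U62PZ3.bases)) ∧ Nat.card (PresentedGroup (relSet dec U62PZ3.bases)) ≤ 720 := by
  have h := stage_bound (relSet dec U62PZ3.bases) (relSet dec U62PZ4.bases) (relSet dec U62PZ3.subsL) U62PZ3.bases U62PZ4.bases U62PZ3.subsL
    (fun x : Cfsg.Agent.Helper4.Pres.U62.Gen => decide (x ∈ ([.e, .f, .x, .i] : List Cfsg.Agent.Helper4.Pres.U62.Gen))) (mem_relSet _) (fun r hr => hr) (fun s hs => hs) (by decide +kernel) (by decide +kernel) U62PZ3.n 120 U62PZ3.bound card3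
  exact ⟨h.1, h.2.trans (by decide)⟩

theorem card1 : Finite (PresentedGroup (relSet dec U62PZ2.bases)) ∧ Nat.card (PresentedGroup (relSet dec U62PZ2.bases)) ≤ 58320 := by
  have h := stage_bound (relSet dec U62PZ2.bases) (relSet dec U62PZ3.bases) (relSet dec U62PZ2.subsL) U62PZ2.bases U62PZ3.bases U62PZ2.subsL
    (fun x : Cfsg.Agent.Helper4.Pres.U62.Gen => decide (x ∈ ([.e, .f, .x, .i, .h] : List Cfsg.Agent.Helper4.Pres.U62.Gen))) (mem_relSet _) (fun r hr => hr) (fun s hs => hs) (by decide +kernel) (by decide +kernel) U62PZ2.n 720 U62PZ2.bound card2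
  exact ⟨h.1, h.2.trans (by decide)⟩

theorem card0 : Finite (PresentedGroup (relSet dec U62PZ1.bases)) ∧ Nat.card (PresentedGroup (relSet dec U62PZ1.bases)) ≤ 6531840 := by
  have h := stage_bound (relSet dec U62PZ1.bases) (relSet dec U62PZ2.bases) (relSet dec U62PZ1.subsL) U62PZ1.bases U62PZ2.bases U62PZ1.subsL
    (fun x : Cfsg.Agent.Helper4.Pres.U62.Gen => decide (x ∈ ([.d, .e, .f, .x, .i, .h] : List Cfsg.Agent.Helper4.Pres.U62.Gen))) (mem_relSet _) (fun r hr => hr) (fun s hs => hs) (by decide +kernel) (by decide +kernel) U62PZ1.n 58320 U62PZ1.bound card1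
  exact ⟨h.1, h.2.trans (by decide)⟩

theorem card_top : Finite (PresentedGroup Rset) ∧ Nat.card (PresentedGroup Rset) ≤ 18393661440 := by
  have h := stage_bound Rset (relSet dec U62PZ1.bases) U62PPc.Sset U62PPc.bases U62PZ1.bases U62PPc.subsL
    (fun x : Cfsg.Agent.Helper4.Pres.U62.Gen => decide (x ∈ ([.d, .e, .f, .g, .h, .i, .x] : List Cfsg.Agent.Helper4.Pres.U62.Gen))) U62PPc.hR2 (fun r hr => hr) U62PPc.hS1 (by decide +kernel) (by decide +kernel) U62PPc.n 6531840 U62PPc.bound card0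
  exact ⟨h.1, h.2.trans (by decide)⟩

def comms : List (List ℕ) := [[0, 2, 1, 3], [0, 4, 1, 5], [0, 6, 1, 7], [0, 8, 1, 9], [0, 10, 1, 11], [0, 12, 1, 13], [0, 14, 1, 15], [2, 4, 3, 5], [2, 6, 3, 7], [2, 8, 3, 9], [2, 10, 3, 11], [2, 12, 3, 13], [2, 14, 3, 15], [4, 6, 5, 7], [4, 8, 5, 9], [4, 10, 5, 11], [4, 12, 5, 13], [4, 14, 5, 15], [6, 8, 7, 9], [6, 10, 7, 11], [6, 12, 7, 13], [6, 14, 7, 15], [8, 10, 9, 11], [8, 12, 9, 13], [8, 14, 9, 15], [10, 12, 11, 13], [10, 14, 11, 15], [12, 14, 13, 15]]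

theorem cardAB : Finite (PresentedGroup (relSet dec U62PAB.bases)) ∧ Nat.card (PresentedGroup (relSet dec U62PAB.bases)) ≤ 1 := by
  refine stage_bot _ _ ?_ _ U62PAB.bound
  rintro s ⟨b, hb, _⟩
  simp [U62PAB.subsL] at hb

theorem hperf : commutator (PresentedGroup Rset) = ⊤ := by
  refine commutator_eq_top_of_trivial Rset (relSet dec U62PAB.bases) ?_ cardAB
  rintro r ⟨b, hb, rfl⟩
  have hb' : b ∈ U62PPc.bases ++ comms := (by decide : U62PAB.bases = U62PPc.bases ++ comms) ▸ hb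
  rcases List.mem_append.mp hb' with h | h
  · exact Or.inl (U62PPc.hR2 b h)
  · exact Or.inr (wordF_comm U62PCod.coding b ((by decide : ∀ b ∈ comms, isCommWord b = true) b h))

end Cfsg.Agent.Helper4.TC.U62PC
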