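import Cfsg.Agent.Lib.Helper4.TC.U62QSX
import Cfsg.Agent.Lib.Helper4.TC.U62QXB
import Cfsg.Agent.Lib.Helper4.TC.U62QZ1B
import Cfsg.Agent.Lib.Helper4.TC.U62QZ2B
import Cfsg.Agent.Lib.Helper4.TC.U62QZ3B
import Cfsg.Agent.Lib.Helper4.TC.U62QZ4B
import Cfsg.Agent.Lib.Helper4.TC.U62QZ5B
import Cfsg.Agent.Lib.Helper4.TC.U62QZ6B
import Cfsg.Agent.Lib.Helper4.TC.U62QZ7B

set_option autoImplicit false
set_option maxRecDepth 100000
set_option linter.unusedVariables false

namespace Cfsg.Agent.Helper4.TC.U62QS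

open Cfsg.Agent.Helper4.TC

abbrev dec := U62QCod.dec
abbrev Rset : Set (FreeGroup Cfsg.Agent.Helper4.Pres.U62Q.Gen) := Cfsg.Spor.coxRelators Cfsg.Agent.Helper4.Pres.U62Q.edges ∪ {r | r ∈ Cfsg.Agent.Helper4.Pres.U62Q.extra}

theorem card6 : Finite (PresentedGroup (relSet dec U62QZ7.bases)) ∧ Nat.card (PresentedGroup (relSet dec U62QZ7.bases)) ≤ 2 := by
  refine stage_bot _ _ ?_ _ U62QZ7.bound
  rintro s ⟨b, hb, _⟩
  simp [U62QZ7.subsL] at hb

theorem card5 : Finite (PresentedGroup (relSet dec U62QZ6.bases)) ∧ Nat.card (PresentedGroup (relSet dec U62QZ6.bases)) ≤ 6 := by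
  have h := stage_bound (relSet dec U62QZ6.bases) (relSet dec U62QZ7.bases) (relSet dec U62QZ6.subsL) U62QZ6.bases U62QZ7.bases U62QZ6.subsL
    (fun x : Cfsg.Agent.Helper4.Pres.U62Q.Gen => decide (x ∈ ([.e] : List Cfsg.Agent.Helper4.Pres.U62Q.Gen))) (mem_relSet _) (fun r hr => hr) (fun s hs => hs) (by decide +kernel) (by decide +kernel) U62QZ6.n 2 U62QZ6.bound card6
  exact ⟨h.1, h.2.trans (by decide)⟩

theorem card4 : Finite (PresentedGroup (relSet dec U62QZ5.bases)) ∧ Nat.card (PresentedGroup (relSet dec U62QZ5.bases)) ≤ 24 := by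
  have h := stage_bound (relSet dec U62QZ5.bases) (relSet dec U62QZ6.bases) (relSet dec U62QZ5.subsL) U62QZ5.bases U62QZ6.bases U62QZ5.subsL
    (fun x : Cfsg.Agent.Helper4.Pres.U62Q.Gen => decide (x ∈ ([.e, .f] : List Cfsg.Agent.Helper4.Pres.U62Q.Gen))) (mem_relSet _) (fun r hr => hr) (fun s hs => hs) (by decide +kernel) (by decide +kernel) U62QZ5.n 6 U62QZ5.bound card5
  exact ⟨h.1, h.2.trans (by decide)⟩

theorem card3 : Finite (PresentedGroup (relSet dec U62QZ4.bases)) ∧ Nat.card (PresentedGroup (relSet dec U62QZ4.bases)) ≤ 120 := by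
  have h := stage_bound (relSet dec U62QZ4.bases) (relSet dec U62QZ5.bases) (relSet dec U62QZ4.subsL) U62QZ4.bases U62QZ5.bases U62QZ4.subsL
    (fun x : Cfsg.Agent.Helper4.Pres.U62Q.Gen => decide (x ∈ ([.e, .f, .x] : List Cfsg.Agent.Helper4.Pres.U62Q.Gen))) (mem_relSet _) (fun r hr => hr) (fun s hs => hs) (by decide +kernel) (by decide +kernel) U62QZ4.n 24 U62QZ4.bound card4
  exact ⟨h.1, h.2.trans (by decide)⟩

theorem card2 : Finite (PresentedGroup (relSet dec U62QZ3.bases)) ∧ Nat.card (PresentedGroup (relSet dec U62QZ3.bases)) ≤ 720 := by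
  have h := stage_bound (relSet dec U62QZ3.bases) (relSet dec U62QZ4.bases) (relSet dec U62QZ3.subsL) U62QZ3.bases U62QZ4.bases U62QZ3.subsL
    (fun x : Cfsg.Agent.Helper4.Pres.U62Q.Gen => decide (x ∈ ([.e, .f, .x, .i] : List Cfsg.Agent.Helper4.Pres.U62Q.Gen))) (mem_relSet _) (fun r hr => hr) (fun s hs => hs) (by decide +kernel) (by decide +kernel) U62QZ3.n 120 U62QZ3.bound card3
  exact ⟨h.1, h.2.trans (by decide)⟩

theorem card1 : Finite (PresentedGroup (relSet dec U62QZ2.bases)) ∧ Nat.card (PresentedGroup (relSet dec U62QZ2.bases)) ≤ 58320 := by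
  have h := stage_bound (relSet dec U62QZ2.bases) (relSet dec U62QZ3.bases) (relSet dec U62QZ2.subsL) U62QZ2.bases U62QZ3.bases U62QZ2.subsL
    (fun x : Cfsg.Agent.Helper4.Pres.U62Q.Gen => decide (x ∈ ([.e, .f, .x, .i, .h] : List Cfsg.Agent.Helper4.Pres.U62Q.Gen))) (mem_relSet _) (fun r hr => hr) (fun s hs => hs) (by decide +kernel) (by decide +kernel) U62QZ2.n 720 U62QZ2.bound card2
  exact ⟨h.1, h.2.trans (by decide)⟩

theorem card0 : Finite (PresentedGroup (relSet dec U62QZ1.bases)) ∧ Nat.card (PresentedGroup (relSet dec U62QZ1.bases)) ≤ 6531840 := by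
  have h := stage_bound (relSet dec U62QZ1.bases) (relSet dec U62QZ2.bases) (relSet dec U62QZ1.subsL) U62QZ1.bases U62QZ2.bases U62QZ1.subsL
    (fun x : Cfsg.Agent.Helper4.Pres.U62Q.Gen => decide (x ∈ ([.d, .e, .f, .x, .i, .h] : List Cfsg.Agent.Helper4.Pres.U62Q.Gen))) (mem_relSet _) (fun r hr => hr) (fun s hs => hs) (by decide +kernel) (by decide +kernel) U62QZ1.n 58320 U62QZ1.bound card1
  exact ⟨h.1, h.2.trans (by decide)⟩

theorem card_top : Finite (PresentedGroup Rset) ∧ Nat.card (PresentedGroup Rset) ≤ 9196830720 := by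
  have h := stage_bound Rset (relSet dec U62QZ1.bases) U62QPc.Sset U62QPc.bases U62QZ1.bases U62QPc.subsL
    (fun x : Cfsg.Agent.Helper4.Pres.U62Q.Gen => decide (x ∈ ([.d, .e, .f, .g, .h, .i, .x] : List Cfsg.Agent.Helper4.Pres.U62Q.Gen))) U62QPc.hR2 (fun r hr => hr) U62QPc.hS1 (by decide +kernel) (by decide +kernel) U62QPc.n 6531840 U62QPc.bound card0
  exact ⟨h.1, h.2.trans (by decide)⟩

theorem cardX : Finite (PresentedGroup (relSet dec U62QX.bases)) ∧ Nat.card (PresentedGroup (relSet dec U62QX.bases)) ≤ 1 := by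
  refine stage_bot _ _ ?_ _ U62QX.bound
  rintro s ⟨b, hb, _⟩
  simp [U62QX.subsL] at hb

theorem hnc : Subgroup.normalClosure {PresentedGroup.mk Rset (wordF dec xw)} = ⊤ := by
  refine normalClosure_eq_top_of_trivial Rset (relSet dec U62QX.bases) (wordF dec xw) ?_ cardX
  rintro r ⟨b, hb, rfl⟩
  have hb' : b ∈ U62QPc.bases ++ [xw] := (by decide : U62QX.bases = U62QPc.bases ++ [xw]) ▸ hb
  rcases List.mem_append.mp hb' with h | h
  · exact Or.inl (U62QPc.hR2 b h)
  · right
    rw [List.mem_singleton.mp h]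

theorem hxp : ∀ j, j < U62QPc.mdata.n → mtrace U62QPc.mdata (wpow xw (11 ^ 1)) j = j := by
  have e : wpow xw (11 ^ 1) = xpw := by decide
  rw [e]
  intro k hk
  have hk' : k < 1408 := hk
  by_cases hh1 : k < 808
  · skip
    exact relsRange_sound U62QPc.mdata [xpw] 808 0 xp_c0 k (by omega) (by omega) xpw List.mem_cons_self
  · skip
    exact relsRange_sound U62QPc.mdata [xpw] 600 808 xp_c1 k (by omega) (by omega) xpw List.mem_cons_self

instance : Fact (Nat.Prime 11) := ⟨by norm_num⟩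

theorem main : IsSimpleGroup (PresentedGroup Rset) ∧ Nat.card (PresentedGroup Rset) = 9196830720 := by
  refine simple_card_main U62QPc.coding U62QPc.hR1 U62QPc.model_ok 9196830720 card_top specs levels_ok ?_
    [(1, 568), (568, 1408)] (by decide) ?_ (by decide) (by decide) 11 ?_ xw (by decide) 1 hxp hnc
  · decide
  · intro r hr
    simp only [List.mem_cons, List.not_mem_nil, or_false] at hr
    rcases hr with rfl | rfl
    · exact U62QPc.orb1
    · exact U62QPc.orb2
  · exact factorization_eq_of _ _ 11 1 836075520 128 (by norm_num) (by norm_num [U62QPc.mdata]) (by norm_num [U62QPc.mdata]) (by norm_num) (by norm_num)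

end Cfsg.Agent.Helper4.TC.U62QS
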