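import Cfsg.Agent.Lib.Helper4.TC.U62Mat
import Cfsg.Agent.Lib.Helper4.TC.U62QSMain
import Cfsg.Agent.Lib.Helper4.TC.U62PCMain
import Cfsg.Agent.Lib.Helper4.TC.Cover
import Cfsg.Agent.S0280

set_option autoImplicit false
set_option maxRecDepth 100000
set_option linter.unusedVariables false
set_option linter.style.haveILetI false

/-! The presented group `Pres.U62Q` is isomorphic to `PSU₆(2)`, and the presented group
`Pres.U62` maps onto it. -/

namespace Cfsg.Agent.Helper4.TC.U62Iso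

open Cfsg.Agent.Helper4.TC Cfsg.Agent.Helper4.TC.U62Mat Cfsg.Agent.Lib.Helper6.FFour

abbrev PSU6 : Type := Cfsg.PSU 6 K4 2

theorem hchkQ : ∀ b ∈ U62QPc.bases, isScal (MatD.evM (dlM DQ DQ) (b.map U62QPc.dec)) = true := by
  decide +kernel

theorem hchkP : ∀ b ∈ U62PPc.bases, isScal (MatD.evM (dlM DP DP) (b.map U62PPc.dec)) = true := by
  decide +kernel

theorem card_psu : Nat.card PSU6 = 9196830720 := by
  have h := Cfsg.Agent.S0280.result (F := K4) (q := 2) k4_card 6 (by norm_num)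
  have e2 : 2 ^ (6 * (6 - 1) / 2) * ∏ i ∈ Finset.range 6,
      (if Even i then 2 ^ (i + 1) + 1 else 2 ^ (i + 1) - 1) = 82771476480 := by
    decide
  rw [e2] at h
  have h' : 3 * (3 * Nat.card PSU6) = 82771476480 := h
  omega

/-- the isomorphism, with the images of the generators -/
theorem exists_iso : ∃ φ : PresentedGroup U62QS.Rset →* PSU6,
    (∀ x, φ (PresentedGroup.of x) = QuotientGroup.mk (suOf DQ hinvQ hunitQ x)) ∧
      Function.Bijective φ := by
  haveI : IsSimpleGroup (PresentedGroup U62QS.Rset) := U62QS.main.1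
  haveI : Finite (PresentedGroup U62QS.Rset) := U62QS.card_top.1
  obtain ⟨φ, hφ⟩ := exists_hom_psu DQ hinvQ hunitQ U62QS.Rset U62QPc.dec U62QPc.bases
    U62QPc.hR1 hchkQ
  have hne : φ (PresentedGroup.of .c) ≠ 1 := by
    rw [hφ]
    intro h
    exact suOf_not_mem_center DQ hinvQ hunitQ .c .d 1 2 hncQ ((QuotientGroup.eq_one_iff _).mp h)
  have hinj : Function.Injective φ := by
    rw [← MonoidHom.ker_eq_bot_iff]
    rcases IsSimpleGroup.eq_bot_or_eq_top_of_normal φ.ker inferInstance with h | h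
    · exact h
    · exfalso
      apply hne
      have : PresentedGroup.of .c ∈ φ.ker := by rw [h]; trivial
      exact this
  haveI : Finite PSU6 := Nat.finite_of_card_ne_zero (by rw [card_psu]; norm_num)
  refine ⟨φ, hφ, ?_⟩
  rw [Nat.bijective_iff_injective_and_card]
  exact ⟨hinj, U62QS.main.2.trans card_psu.symm⟩

theorem iso : Nonempty (PresentedGroup U62QS.Rset ≃* PSU6) := by
  obtain ⟨φ, _, hb⟩ := exists_iso
  exact ⟨MulEquiv.ofBijective φ hb⟩

instance simple_psu : IsSimpleGroup PSU6 := by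
  haveI : IsSimpleGroup (PresentedGroup U62QS.Rset) := U62QS.main.1
  obtain ⟨e⟩ := iso
  exact e.symm.isSimpleGroup

/-- corresponding generators -/
def toQ : Cfsg.Agent.Helper4.Pres.U62.Gen → Cfsg.Agent.Helper4.Pres.U62Q.Gen
  | .c => .c
  | .d => .d
  | .e => .e
  | .f => .f
  | .g => .g
  | .h => .h
  | .i => .i
  | .x => .x

theorem toQ_surj : ∀ y, ∃ x, toQ x = y := by
  intro y
  cases y
  exacts [⟨.c, rfl⟩, ⟨.d, rfl⟩, ⟨.e, rfl⟩, ⟨.f, rfl⟩, ⟨.g, rfl⟩, ⟨.h, rfl⟩, ⟨.i, rfl⟩, ⟨.x, rfl⟩]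

theorem su_toQ (x : Cfsg.Agent.Helper4.Pres.U62.Gen) :
    suOf DQ hinvQ hunitQ (toQ x) = suOf DP hinvP hunitP x := by
  apply mat_injective
  rw [mat_suOf, mat_suOf]
  cases x <;> rfl

/-- the homomorphism from the double cover onto the unitary group -/
theorem exists_onto : ∃ π : PresentedGroup U62PC.Rset →* PSU6, Function.Surjective π := by
  obtain ⟨φ, hφ, hb⟩ := exists_iso
  obtain ⟨π, hπ⟩ := exists_hom_psu DP hinvP hunitP U62PC.Rset U62PPc.dec U62PPc.bases
    U62PPc.hR1 hchkP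
  refine ⟨π, ?_⟩
  have h1 : φ.range ≤ π.range := by
    refine range_le_of_gens φ π.range fun y => ?_
    obtain ⟨x, rfl⟩ := toQ_surj y
    refine ⟨PresentedGroup.of x, ?_⟩
    rw [hπ, hφ, su_toQ]
  rw [← MonoidHom.range_eq_top, eq_top_iff]
  exact (MonoidHom.range_eq_top.mpr hb.surjective).ge.trans h1

end Cfsg.Agent.Helper4.TC.U62Iso
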