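import Cfsg.Prelude.Def_SporadicB
import Cfsg.Prelude.Def_Sporadic
import Cfsg.Agent.Lib.Helper4.TC.Fi22SMain
import Cfsg.Agent.Lib.Helper4.TC.U62Iso
import Cfsg.Agent.Lib.Helper4.TC.Embed2
import Cfsg.Agent.Lib.Helper4.TC.Trans

set_option autoImplicit false
set_option maxRecDepth 100000
set_option linter.unusedVariables false

namespace Cfsg.Agent.Helper4.TC.Fi22U6

open Cfsg.Agent.Helper4.TC

open Cfsg.Agent.Lib.Helper6.FFour

abbrev Rset : Set (FreeGroup Cfsg.Spor.Fi22.Gen) := Cfsg.Spor.coxRelators Cfsg.Spor.Fi22.edges ∪ {r | r ∈ Cfsg.Spor.Fi22.extra}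
def pts : List ℕ := [0, 1, 651, 8, 11]

def sig : Cfsg.Agent.Helper4.Pres.U62.Gen → List ℕ
  | .c => [4]
  | .d => [6]
  | .e => [8]
  | .f => [10]
  | .g => [12]
  | .h => [14]
  | .i => [16]
  | .x => [14, 8, 6, 4, 2, 0, 14, 8, 6, 4, 2, 0, 14, 8, 6, 4, 2, 0, 14, 8, 6, 4, 2, 0, 14, 8, 6, 4, 2, 0]

theorem chk : ∀ b ∈ U62PPc.bases, fixesB Fi22U62.mdata pts (substW sig U62PPc.dec b) = true := by decide +kernel

def aw : List ℕ := [0]
def pieces : List (List ℕ) := [sig .x, sig .i, sig .h, sig .d, sig .c, sig .e, sig .x, sig .i, sig .h, sig .d, sig .c, sig .e, sig .x, sig .i, sig .h, sig .d, sig .c, sig .e, sig .x, sig .i, sig .h, sig .d, sig .c, sig .e, sig .x, sig .i, sig .h, sig .d, sig .c, sig .e]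
theorem chka : fixesB Fi22U62.mdata pts (aw ++ invW pieces.flatten) = true := by decide +kernel

theorem hone (w : List ℕ) (hw : fixesB Fi22U62.mdata pts w = true) :
    PresentedGroup.mk Rset (wordF Fi22U62.dec w) = 1 := by
  obtain ⟨h1, h2⟩ := fixesB_sound hw
  refine word_eq_one_of_base Fi22U62.coding Fi22U62.hR1 Fi22U62.model_ok 64561751654400 (by norm_num) Fi22S.card_top
    Fi22S.specs Fi22S.levels_ok (by decide) w h1 ?_ ?_
  · exact h2 0 (by decide)
  · intro s hs
    exact h2 s.b (by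
      have hp : pts = 0 :: Fi22S.specs.map fun s => s.b := rfl
      rw [hp]
      exact List.mem_cons_of_mem _ (List.mem_map_of_mem hs))

/-- the homomorphism from the presented double cover into the presented Fi22 -/
theorem exists_psi : ∃ ψ : PresentedGroup U62PC.Rset →* PresentedGroup Rset,
    ∀ x, ψ (PresentedGroup.of x) = PresentedGroup.mk Rset (wordF Fi22U62.dec (sig x)) :=
  exists_hom_of_subst Fi22U62.coding Fi22U62.hR1 Fi22U62.model_ok 64561751654400 (by norm_num) Fi22S.card_top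
    Fi22S.specs Fi22S.levels_ok (by decide) U62PC.Rset U62PPc.bases U62PPc.hR1 sig pts rfl chk

def gensL : List Cfsg.Agent.Helper4.Pres.U62.Gen := [.c, .d, .e, .f, .g, .h, .i, .x]
theorem hsubs' : ∀ b ∈ Fi22U62.subsL, b = aw ∨ b ∈ gensL.map sig := by decide

theorem hHcard : Nat.card ((Subgroup.closure Fi22U62.Sset).map (PresentedGroup.mk Rset)) = 2 * 9196830720 := by
  have h1 := ((Subgroup.closure Fi22U62.Sset).map (PresentedGroup.mk Rset)).card_mul_index
  rw [Fi22U62.main.1, Fi22S.main.2] at h1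
  omega

theorem main' {A : Type*} [Group A] (f : ((Subgroup.closure Fi22U62.Sset).map (PresentedGroup.mk Rset)) ≃* A) :
    Cfsg.IsNonsplitDoubleCover A (Cfsg.PSU 6 K4 2) := by
  obtain ⟨ψ, hψ⟩ := exists_psi
  obtain ⟨π, hπ⟩ := U62Iso.exists_onto
  have hle : ((Subgroup.closure Fi22U62.Sset).map (PresentedGroup.mk Rset)) ≤ ψ.range := by
    rw [Subgroup.map_le_iff_le_comap, Subgroup.closure_le]
    intro s hs
    obtain ⟨b, hb, rfl⟩ := Fi22U62.hS1 s hs
    show PresentedGroup.mk Rset (wordF Fi22U62.dec b) ∈ ψ.range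
    rcases hsubs' b hb with rfl | h
    · have h1 := hone _ chka
      rw [← evc_of, evc_append, evc_invW _ Fi22U62.coding, evc_of, evc_of, inv_mul_eq_one] at h1
      rw [← h1]
      refine mk_flatten_mem ψ.range pieces fun b' hb' => ?_
      have h2 : b' ∈ gensL.map sig := (by decide : ∀ b' ∈ pieces, b' ∈ gensL.map sig) b' hb'
      obtain ⟨x, _, rfl⟩ := List.mem_map.mp h2
      exact ⟨PresentedGroup.of x, hψ x⟩
    · obtain ⟨x, _, rfl⟩ := List.mem_map.mp h
      exact ⟨PresentedGroup.of x, hψ x⟩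
  exact double_cover_main' _ ψ hle 9196830720 (by norm_num) hHcard
    ⟨U62PC.card_top.1, U62PC.card_top.2.trans (by norm_num)⟩ π hπ U62Iso.card_psu (by norm_num) U62PC.hperf f

theorem s1684 : ∃ (K : Type) (_ : Field K) (_ : Fintype K), Fintype.card K = 4 ∧ Cfsg.IsNonsplitDoubleCover ((Subgroup.closure Fi22U62.Sset).map (PresentedGroup.mk Rset)) (Cfsg.PSU 6 K 2) :=
  ⟨K4, inferInstance, inferInstance, by decide, main' (MulEquiv.refl _)⟩

def zw : List ℕ := [0]
def ws : List (List ℕ) := [[2], [2, 0, 4, 2]]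

theorem hz1 : mtrace Fi22U62.mdata zw 1 ≠ 1 := by decide +kernel
theorem hz2 : fixesB Fi22U62.mdata pts (zw ++ zw) = true := by decide +kernel
theorem hcomm : ∀ b ∈ Fi22U62.subsL, fixesB Fi22U62.mdata pts (b ++ zw ++ invW b ++ invW zw) = true := by decide +kernel
theorem hws : ∀ r ∈ [(1, 2817), (2817, 3510)], ∃ w ∈ ws, mtrace Fi22U62.mdata w 0 = r.1 := by decide +kernel
theorem hP : ∀ w ∈ ws, fixesB Fi22U62.mdata pts (wpow (invW w ++ zw ++ w ++ zw) 2) = true ∨
    fixesB Fi22U62.mdata pts (wpow (invW w ++ zw ++ w ++ zw) 3) = true := by decide +kernel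

theorem s0471 : ∃ (G : Type) (_ : Group G) (_ : Finite G), Cfsg.IsFi22 G ∧ ∃ D : Set G, Cfsg.IsThreeTranspositionClass D ∧ Nat.card D = 3510 ∧ ∀ d ∈ D, ∃ (F : Type) (_ : Field F) (_ : Fintype F), Fintype.card F = 4 ∧ Cfsg.IsNonsplitDoubleCover (Subgroup.centralizer ({d} : Set G)) (Cfsg.PSU 6 F 2) := by
  haveI : IsSimpleGroup (PresentedGroup Rset) := Fi22S.main.1
  have horb : ∀ r ∈ [(1, 2817), (2817, 3510)], OrbOK Fi22U62.mdata Fi22U62.subsL r.1 r.2 := by
    intro r hr
    simp only [List.mem_cons, List.not_mem_nil, or_false] at hr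
    rcases hr with rfl | rfl
    · exact Fi22U62.orb1
    · exact Fi22U62.orb2
  obtain ⟨h3, hc, hcen⟩ := three_transposition_model Fi22U62.coding Fi22U62.hR1 Fi22U62.model_ok
    64561751654400 (by norm_num) Fi22S.card_top (by rw [Fi22S.main.2]; norm_num) Fi22S.specs Fi22S.levels_ok (by decide)
    Fi22U62.Sset Fi22U62.hS1 Fi22U62.main.1
    [(1, 2817), (2817, 3510)] (by decide) horb (by decide)
    zw 1 (by decide) hz1 pts rfl hz2 hcomm ws hws hP
  refine ⟨PresentedGroup Rset, inferInstance, Fi22S.card_top.1, Fi22S.main, _, h3, hc, ?_⟩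
  intro d hd
  obtain ⟨g, rfl⟩ := isConj_iff.mp (show IsConj _ d from hd)
  refine ⟨K4, inferInstance, inferInstance, by decide, ?_⟩
  obtain ⟨e⟩ := conj_centralizer_equiv (PresentedGroup.mk Rset (wordF Fi22U62.dec zw)) g
  exact main' ((MulEquiv.subgroupCongr hcen.symm).trans e)

end Cfsg.Agent.Helper4.TC.Fi22U6
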