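import Cfsg.Agent.Lib.Helper4.TC.U35PSX
import Cfsg.Agent.Lib.Helper4.TC.U35PXB
import Cfsg.Agent.Lib.Helper4.TC.U35PZ0B
import Cfsg.Agent.Lib.Helper4.TC.U35PZ1B
import Cfsg.Agent.Lib.Helper4.TC.Blocks

set_option autoImplicit false
set_option maxRecDepth 100000
set_option linter.unusedVariables false

namespace Cfsg.Agent.Helper4.TC.U35PS

open Cfsg.Agent.Helper4.TC

abbrev dec := U35PCod.dec
abbrev Rset : Set (FreeGroup Cfsg.Agent.Helper4.Pres.U35.Gen) := Cfsg.Spor.coxRelators Cfsg.Agent.Helper4.Pres.U35.edges ∪ {r | r ∈ Cfsg.Agent.Helper4.Pres.U35.extra}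

theorem card1 : Finite (PresentedGroup (relSet dec U35PZ1.bases)) ∧ Nat.card (PresentedGroup (relSet dec U35PZ1.bases)) ≤ 10 := by
  refine stage_bot _ _ ?_ _ U35PZ1.bound
  rintro s ⟨b, hb, _⟩
  simp [U35PZ1.subsL] at hb

theorem card0 : Finite (PresentedGroup (relSet dec U35PZ0.bases)) ∧ Nat.card (PresentedGroup (relSet dec U35PZ0.bases)) ≤ 126000 := by
  have h := stage_bound (relSet dec U35PZ0.bases) (relSet dec U35PZ1.bases) (relSet dec U35PZ0.subsL) U35PZ0.bases U35PZ1.bases U35PZ0.subsL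
    (fun x : Cfsg.Agent.Helper4.Pres.U35.Gen => decide (x ∈ ([.b] : List Cfsg.Agent.Helper4.Pres.U35.Gen))) (mem_relSet _) (fun r hr => hr) (fun s hs => hs) (by decide +kernel) (by decide +kernel) U35PZ0.n 10 U35PZ0.bound card1
  exact ⟨h.1, h.2.trans (by decide)⟩

theorem hRset : Rset = relSet dec U35PZ0.bases := by
  have hb : U35PB126.bases = U35PZ0.bases := by decide
  ext r
  constructor
  · intro h
    obtain ⟨b, hb', e⟩ := U35PB126.hR1 r h
    exact ⟨b, hb ▸ hb', e⟩
  · rintro ⟨b, hb', rfl⟩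
    exact U35PB126.hR2 b (hb ▸ hb')

theorem card_top : Finite (PresentedGroup Rset) ∧ Nat.card (PresentedGroup Rset) ≤ 126000 := by
  rw [hRset]
  exact card0

theorem cardX : Finite (PresentedGroup (relSet dec U35PX.bases)) ∧ Nat.card (PresentedGroup (relSet dec U35PX.bases)) ≤ 1 := by
  refine stage_bot _ _ ?_ _ U35PX.bound
  rintro s ⟨b, hb, _⟩
  simp [U35PX.subsL] at hb

theorem hnc : Subgroup.normalClosure {PresentedGroup.mk Rset (wordF dec xw)} = ⊤ := by
  refine normalClosure_eq_top_of_trivial Rset (relSet dec U35PX.bases) (wordF dec xw) ?_ cardX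
  rintro r ⟨b, hb, rfl⟩
  have hb' : b ∈ U35PB126.bases ++ [xw] := (by decide : U35PX.bases = U35PB126.bases ++ [xw]) ▸ hb
  rcases List.mem_append.mp hb' with h | h
  · exact Or.inl (U35PB126.hR2 b h)
  · right
    rw [List.mem_singleton.mp h]

theorem hx : (PresentedGroup.mk Rset (wordF dec xw)) ^ 7 ^ 1 = 1 :=
  pow_eq_one_of_mem xw (7 ^ 1) (U35PB126.hR2 _ (by decide))

instance : Fact (Nat.Prime 7) := ⟨by norm_num⟩

theorem main : IsSimpleGroup (PresentedGroup Rset) ∧ Nat.card (PresentedGroup Rset) = 126000 := by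
  refine simple_card_blocks U35PB126.coding U35PB126.hR1 U35PB126.model_ok 126000 card_top specs levels_ok ?_
    [(1, 126)] (by decide) ?_ (by decide) 7 1 ?_ (by decide) xw 1 hx hnc
  · decide
  · intro r hr
    simp only [List.mem_cons, List.not_mem_nil, or_false] at hr
    rcases hr with rfl
    · exact U35PB126.orb1
  · exact factorization_of_eq _ 7 1 18000 (by norm_num) (by norm_num) (by norm_num)

end Cfsg.Agent.Helper4.TC.U35PS
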