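import Cfsg.Agent.Lib.Helper4.TC.Fi22U62Data

set_option autoImplicit false
set_option maxRecDepth 100000
set_option linter.unusedVariables false
set_option Elab.async false

namespace Cfsg.Agent.Helper4.TC.Fi22U62

open Cfsg.Agent.Helper4.TC

theorem e6_c0 : edgeRange data 6 4096 0 = true := by decide +kernel

end Cfsg.Agent.Helper4.TC.Fi22U62
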