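import Cfsg.Agent.Lib.Helper4.TC.Fi22U62Data

set_option autoImplicit false
set_option maxRecDepth 100000
set_option linter.unusedVariables false
set_option Elab.async false

namespace Cfsg.Agent.Helper4.TC.Fi22U62

open Cfsg.Agent.Helper4.TC

theorem cnt0 : countFinal data 3546 0 0 = 3510 := by decide +kernel
theorem rows0 : rowsRange data 3546 945 0 = true := by decide +kernel
theorem rows1 : rowsRange data 3546 910 945 = true := by decide +kernel
theorem rows2 : rowsRange data 3546 910 1855 = true := by decide +kernel
theorem rows3 : rowsRange data 3546 781 2765 = true := by decide +kernel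

end Cfsg.Agent.Helper4.TC.Fi22U62
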