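import Cfsg.Agent.Lib.Helper4.TC.Fi22U62Model
import Cfsg.Agent.Lib.Helper4.TC.Fi22U62Data

set_option autoImplicit false
set_option maxRecDepth 100000
set_option linter.unusedVariables false
set_option Elab.async false

namespace Cfsg.Agent.Helper4.TC.Fi22U62

open Cfsg.Agent.Helper4.TC

theorem rel8 : relsRange mdata bases 144 1152 = true := by decide +kernel
theorem rel9 : relsRange mdata bases 144 1296 = true := by decide +kernel
theorem rel10 : relsRange mdata bases 144 1440 = true := by decide +kernel
theorem rel11 : relsRange mdata bases 144 1584 = true := by decide +kernel
theorem rel12 : relsRange mdata bases 144 1728 = true := by decide +kernel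
theorem rel13 : relsRange mdata bases 144 1872 = true := by decide +kernel
theorem rel14 : relsRange mdata bases 144 2016 = true := by decide +kernel
theorem rel15 : relsRange mdata bases 144 2160 = true := by decide +kernel

end Cfsg.Agent.Helper4.TC.Fi22U62
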