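import Cfsg.Agent.Lib.Helper4.TC.Fi22U62Model
import Cfsg.Agent.Lib.Helper4.TC.Fi22U62Data

set_option autoImplicit false
set_option maxRecDepth 100000
set_option linter.unusedVariables false
set_option Elab.async false

namespace Cfsg.Agent.Helper4.TC.Fi22U62

open Cfsg.Agent.Helper4.TC

theorem reach1_0 : reachRange mdata subsL 1 2352 2 = true := by decide +kernel
theorem reach1_1 : reachRange mdata subsL 1 463 2354 = true := by decide +kernel
theorem closed2_0 : closedRange mdata subsL 2817 3510 693 2817 = true := by decide +kernel
theorem reach2_0 : reachRange mdata subsL 2817 692 2818 = true := by decide +kernel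
theorem sub0_ok : sub0OK mdata subsL = true := by decide +kernel
theorem relc_ok : wordsLettersOK 18 bases = true := by decide +kernel
theorem subc_ok : wordsLettersOK 18 subsL = true := by decide +kernel

end Cfsg.Agent.Helper4.TC.Fi22U62
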