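import Cfsg.Agent.Lib.Helper4.TC.Std
import Cfsg.Agent.Lib.Helper4.TC.Fi22U62Fin
import Cfsg.Agent.Lib.Helper4.TC.Fi22U62CM
import Cfsg.Agent.Lib.Helper4.TC.Fi22U62CE0
import Cfsg.Agent.Lib.Helper4.TC.Fi22U62CE1
import Cfsg.Agent.Lib.Helper4.TC.Fi22U62CE2
import Cfsg.Agent.Lib.Helper4.TC.Fi22U62CE3
import Cfsg.Agent.Lib.Helper4.TC.Fi22U62CE4
import Cfsg.Agent.Lib.Helper4.TC.Fi22U62CE5
import Cfsg.Agent.Lib.Helper4.TC.Fi22U62CE6
import Cfsg.Agent.Lib.Helper4.TC.Fi22U62CE7
import Cfsg.Agent.Lib.Helper4.TC.Fi22U62CE8
import Cfsg.Agent.Lib.Helper4.TC.Fi22U62CE9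
import Cfsg.Agent.Lib.Helper4.TC.Fi22U62CE10
import Cfsg.Agent.Lib.Helper4.TC.Fi22U62CE11
import Cfsg.Agent.Lib.Helper4.TC.Fi22U62CE12
import Cfsg.Agent.Lib.Helper4.TC.Fi22U62CE13
import Cfsg.Agent.Lib.Helper4.TC.Fi22U62CE14
import Cfsg.Agent.Lib.Helper4.TC.Fi22U62CE15
import Cfsg.Agent.Lib.Helper4.TC.Fi22U62CE16
import Cfsg.Agent.Lib.Helper4.TC.Fi22U62CE17
import Cfsg.Agent.Lib.Helper4.TC.Fi22U62CF0
import Cfsg.Agent.Lib.Helper4.TC.Fi22U62MC0
import Cfsg.Agent.Lib.Helper4.TC.Fi22U62MC1
import Cfsg.Agent.Lib.Helper4.TC.Fi22U62MC2
import Cfsg.Agent.Lib.Helper4.TC.Fi22U62MC3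
import Cfsg.Agent.Lib.Helper4.TC.Fi22U62MC4
import Cfsg.Prelude.Def_Spor_Fi22

set_option autoImplicit false
set_option maxRecDepth 100000
set_option linter.unusedVariables false

namespace Cfsg.Agent.Helper4.TC.Fi22U62

open Cfsg.Agent.Helper4.TC

def gens : List Cfsg.Spor.Fi22.Gen := [.a, .b, .c, .d, .e, .f, .g, .h, .i]

abbrev dec : ℕ → Letter Cfsg.Spor.Fi22.Gen := stdDec gens .a
abbrev enc : Cfsg.Spor.Fi22.Gen → ℕ := stdEnc gens

theorem coding : Coding dec enc 18 :=
  std_coding gens .a (by decide) (by intro x; cases x <;> decide) 18 (by decide)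

theorem allE0 : ∀ k, k < 4096 → justE data 0 k = true := by
  intro k hk
  exact edgeRange_sound data 0 4096 0 e0_c0 k (by omega) (by omega)

theorem allE1 : ∀ k, k < 4096 → justE data 1 k = true := by
  intro k hk
  exact edgeRange_sound data 1 4096 0 e1_c0 k (by omega) (by omega)

theorem allE2 : ∀ k, k < 4096 → justE data 2 k = true := by
  intro k hk
  exact edgeRange_sound data 2 4096 0 e2_c0 k (by omega) (by omega)

theorem allE3 : ∀ k, k < 4096 → justE data 3 k = true := by
  intro k hk
  exact edgeRange_sound data 3 4096 0 e3_c0 k (by omega) (by omega)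

theorem allE4 : ∀ k, k < 4096 → justE data 4 k = true := by
  intro k hk
  exact edgeRange_sound data 4 4096 0 e4_c0 k (by omega) (by omega)

theorem allE5 : ∀ k, k < 4096 → justE data 5 k = true := by
  intro k hk
  exact edgeRange_sound data 5 4096 0 e5_c0 k (by omega) (by omega)

theorem allE6 : ∀ k, k < 4096 → justE data 6 k = true := by
  intro k hk
  exact edgeRange_sound data 6 4096 0 e6_c0 k (by omega) (by omega)

theorem allE7 : ∀ k, k < 4096 → justE data 7 k = true := by
  intro k hk
  exact edgeRange_sound data 7 4096 0 e7_c0 k (by omega) (by omega)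

theorem allE8 : ∀ k, k < 4096 → justE data 8 k = true := by
  intro k hk
  exact edgeRange_sound data 8 4096 0 e8_c0 k (by omega) (by omega)

theorem allE9 : ∀ k, k < 4096 → justE data 9 k = true := by
  intro k hk
  exact edgeRange_sound data 9 4096 0 e9_c0 k (by omega) (by omega)

theorem allE10 : ∀ k, k < 4096 → justE data 10 k = true := by
  intro k hk
  exact edgeRange_sound data 10 4096 0 e10_c0 k (by omega) (by omega)

theorem allE11 : ∀ k, k < 4096 → justE data 11 k = true := by
  intro k hk
  exact edgeRange_sound data 11 4096 0 e11_c0 k (by omega) (by omega)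

theorem allE12 : ∀ k, k < 4096 → justE data 12 k = true := by
  intro k hk
  exact edgeRange_sound data 12 4096 0 e12_c0 k (by omega) (by omega)

theorem allE13 : ∀ k, k < 4096 → justE data 13 k = true := by
  intro k hk
  exact edgeRange_sound data 13 4096 0 e13_c0 k (by omega) (by omega)

theorem allE14 : ∀ k, k < 4096 → justE data 14 k = true := by
  intro k hk
  exact edgeRange_sound data 14 4096 0 e14_c0 k (by omega) (by omega)

theorem allE15 : ∀ k, k < 4096 → justE data 15 k = true := by
  intro k hk
  exact edgeRange_sound data 15 4096 0 e15_c0 k (by omega) (by omega)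

theorem allE16 : ∀ k, k < 4096 → justE data 16 k = true := by
  intro k hk
  exact edgeRange_sound data 16 4096 0 e16_c0 k (by omega) (by omega)

theorem allE17 : ∀ k, k < 4096 → justE data 17 k = true := by
  intro k hk
  exact edgeRange_sound data 17 4096 0 e17_c0 k (by omega) (by omega)

theorem allE : ∀ c k, c < data.nc → k ≤ data.mask → justE data c k = true := by
  intro c k hc hk
  have hc' : c < 18 := hc
  have hk' : k < 4096 := Nat.lt_succ_of_le hk
  interval_cases c
  · exact allE0 k hk'
  · exact allE1 k hk'
  · exact allE2 k hk'
  · exact allE3 k hk'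
  · exact allE4 k hk'
  · exact allE5 k hk'
  · exact allE6 k hk'
  · exact allE7 k hk'
  · exact allE8 k hk'
  · exact allE9 k hk'
  · exact allE10 k hk'
  · exact allE11 k hk'
  · exact allE12 k hk'
  · exact allE13 k hk'
  · exact allE14 k hk'
  · exact allE15 k hk'
  · exact allE16 k hk'
  · exact allE17 k hk'

theorem allM : ∀ k, k ≤ data.mask → justM data k = true := by
  intro k hk
  have hk' : k < 4096 := Nat.lt_succ_of_le hk
  exact mergeRange_sound data 4096 0 m_c0 k (by omega) (by omega)

theorem rows_all : ∀ k, k < M → isFinal data k = true → rowOK data M k data.nc = true := by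
  intro k hk
  have hk' : k < 3546 := hk
  by_cases hh1 : k < 1855
  · skip
    by_cases hh2 : k < 945
    · skip
      exact rowsRange_sound data M 945 0 rows0 k (by omega) (by omega)
    · skip
      exact rowsRange_sound data M 910 945 rows1 k (by omega) (by omega)
  · skip
    by_cases hh3 : k < 2765
    · skip
      exact rowsRange_sound data M 910 1855 rows2 k (by omega) (by omega)
    · skip
      exact rowsRange_sound data M 781 2765 rows3 k (by omega) (by omega)

theorem cnt_ok : countFinal data M 0 0 = n := by
  exact cnt0

abbrev Rset : Set (FreeGroup Cfsg.Spor.Fi22.Gen) := Cfsg.Spor.coxRelators Cfsg.Spor.Fi22.edges ∪ {r | r ∈ Cfsg.Spor.Fi22.extra}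
abbrev Sset : Set (FreeGroup Cfsg.Spor.Fi22.Gen) := {Cfsg.Spor.Fi22.a, Cfsg.Spor.Fi22.c, Cfsg.Spor.Fi22.d, Cfsg.Spor.Fi22.e, Cfsg.Spor.Fi22.f, Cfsg.Spor.Fi22.g, Cfsg.Spor.Fi22.h, Cfsg.Spor.Fi22.i, (Cfsg.Spor.Fi22.a * Cfsg.Spor.Fi22.b * Cfsg.Spor.Fi22.c * Cfsg.Spor.Fi22.d * Cfsg.Spor.Fi22.e * Cfsg.Spor.Fi22.h) ^ 5}
def SL : List (FreeGroup Cfsg.Spor.Fi22.Gen) := [Cfsg.Spor.Fi22.a, Cfsg.Spor.Fi22.c, Cfsg.Spor.Fi22.d, Cfsg.Spor.Fi22.e, Cfsg.Spor.Fi22.f, Cfsg.Spor.Fi22.g, Cfsg.Spor.Fi22.h, Cfsg.Spor.Fi22.i, (Cfsg.Spor.Fi22.a * Cfsg.Spor.Fi22.b * Cfsg.Spor.Fi22.c * Cfsg.Spor.Fi22.d * Cfsg.Spor.Fi22.e * Cfsg.Spor.Fi22.h) ^ 5]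

theorem mem_S (s : FreeGroup Cfsg.Spor.Fi22.Gen) : s ∈ Sset ↔ s ∈ SL := by
  simp only [Sset, SL, Set.mem_insert_iff, Set.mem_singleton_iff, List.mem_cons, List.not_mem_nil, or_false]

theorem hR1 : ∀ r ∈ Rset, ∃ b ∈ bases, r = wordF dec b := by
  intro r hr
  rw [mem_rels_iff] at hr
  revert r
  decide +kernel

theorem hR2 : ∀ b ∈ bases, wordF dec b ∈ Rset := by
  intro b hb
  rw [mem_rels_iff]
  revert b
  decide +kernel

theorem hS1 : ∀ s ∈ Sset, ∃ b ∈ subsL, s = wordF dec b := by
  intro s hs
  rw [mem_S] at hs
  revert s
  decide +kernel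

theorem hS2 : ∀ b ∈ subsL, wordF dec b ∈ Sset := by
  intro b hb
  rw [mem_S]
  revert b
  decide +kernel

theorem bound : Finite (PresentedGroup Rset ⧸ (Subgroup.closure Sset).map (PresentedGroup.mk Rset)) ∧
    Nat.card (PresentedGroup Rset ⧸ (Subgroup.closure Sset).map (PresentedGroup.mk Rset)) ≤ n :=
  tc_bound data bases subsL rots coding hR2 hS2 words_ok allE allM M n fin0_ok (by decide) (by decide) cnt_ok rows_all

theorem model_ok : ModelOK mdata bases subsL := by
  refine ⟨by decide, ?_, ?_, wordsLettersOK_sound _ _ relc_ok, wordsLettersOK_sound _ _ subc_ok,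
    sub0OK_sound _ _ sub0_ok, ?_⟩
  · intro k hk
    have hk' : k < 3510 := hk
    by_cases hh1 : k < 1481
    · skip
      exact invRange_sound mdata 1481 0 inv0 k (by omega) (by omega)
    · skip
      by_cases hh2 : k < 2962
      · skip
        exact invRange_sound mdata 1481 1481 inv1 k (by omega) (by omega)
      · skip
        exact invRange_sound mdata 548 2962 inv2 k (by omega) (by omega)
  · intro k hk
    have hk' : k < 3510 := hk
    by_cases hh1 : k < 1728
    · skip
      by_cases hh2 : k < 864
      · skip
        by_cases hh3 : k < 432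
        · skip
          by_cases hh4 : k < 144
          · skip
            exact relsRange_sound mdata bases 144 0 rel0 k (by omega) (by omega)
          · skip
            by_cases hh5 : k < 288
            · skip
              exact relsRange_sound mdata bases 144 144 rel1 k (by omega) (by omega)
            · skip
              exact relsRange_sound mdata bases 144 288 rel2 k (by omega) (by omega)
        · skip
          by_cases hh6 : k < 576
          · skip
            exact relsRange_sound mdata bases 144 432 rel3 k (by omega) (by omega)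
          · skip
            by_cases hh7 : k < 720
            · skip
              exact relsRange_sound mdata bases 144 576 rel4 k (by omega) (by omega)
            · skip
              exact relsRange_sound mdata bases 144 720 rel5 k (by omega) (by omega)
      · skip
        by_cases hh8 : k < 1296
        · skip
          by_cases hh9 : k < 1008
          · skip
            exact relsRange_sound mdata bases 144 864 rel6 k (by omega) (by omega)
          · skip
            by_cases hh10 : k < 1152
            · skip
              exact relsRange_sound mdata bases 144 1008 rel7 k (by omega) (by omega)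
            · skip
              exact relsRange_sound mdata bases 144 1152 rel8 k (by omega) (by omega)
        · skip
          by_cases hh11 : k < 1440
          · skip
            exact relsRange_sound mdata bases 144 1296 rel9 k (by omega) (by omega)
          · skip
            by_cases hh12 : k < 1584
            · skip
              exact relsRange_sound mdata bases 144 1440 rel10 k (by omega) (by omega)
            · skip
              exact relsRange_sound mdata bases 144 1584 rel11 k (by omega) (by omega)
    · skip
      by_cases hh13 : k < 2592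
      · skip
        by_cases hh14 : k < 2160
        · skip
          by_cases hh15 : k < 1872
          · skip
            exact relsRange_sound mdata bases 144 1728 rel12 k (by omega) (by omega)
          · skip
            by_cases hh16 : k < 2016
            · skip
              exact relsRange_sound mdata bases 144 1872 rel13 k (by omega) (by omega)
            · skip
              exact relsRange_sound mdata bases 144 2016 rel14 k (by omega) (by omega)
        · skip
          by_cases hh17 : k < 2304
          · skip
            exact relsRange_sound mdata bases 144 2160 rel15 k (by omega) (by omega)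
          · skip
            by_cases hh18 : k < 2448
            · skip
              exact relsRange_sound mdata bases 144 2304 rel16 k (by omega) (by omega)
            · skip
              exact relsRange_sound mdata bases 144 2448 rel17 k (by omega) (by omega)
      · skip
        by_cases hh19 : k < 3024
        · skip
          by_cases hh20 : k < 2736
          · skip
            exact relsRange_sound mdata bases 144 2592 rel18 k (by omega) (by omega)
          · skip
            by_cases hh21 : k < 2880
            · skip
              exact relsRange_sound mdata bases 144 2736 rel19 k (by omega) (by omega)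
            · skip
              exact relsRange_sound mdata bases 144 2880 rel20 k (by omega) (by omega)
        · skip
          by_cases hh22 : k < 3312
          · skip
            by_cases hh23 : k < 3168
            · skip
              exact relsRange_sound mdata bases 144 3024 rel21 k (by omega) (by omega)
            · skip
              exact relsRange_sound mdata bases 144 3168 rel22 k (by omega) (by omega)
          · skip
            by_cases hh24 : k < 3456
            · skip
              exact relsRange_sound mdata bases 144 3312 rel23 k (by omega) (by omega)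
            · skip
              exact relsRange_sound mdata bases 54 3456 rel24 k (by omega) (by omega)
  · intro k h1 h2
    have h2' : k < 1 + (3510 - 1) := h2
    exact treeRange_sound mdata 3509 1 tree0 k (by omega) (by omega)

theorem orb1 : OrbOK mdata subsL 1 2817 := by
  refine ⟨by decide, by decide, ?_, ?_⟩
  · intro k h1 h2
    by_cases hh1 : k < 1053
    · skip
      exact closedRange_sound mdata subsL 1 2817 1052 1 closed1_0 k (by omega) (by omega)
    · skip
      by_cases hh2 : k < 2105
      · skip
        exact closedRange_sound mdata subsL 1 2817 1052 1053 closed1_1 k (by omega) (by omega)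
      · skip
        exact closedRange_sound mdata subsL 1 2817 712 2105 closed1_2 k (by omega) (by omega)
  · intro k h1 h2
    by_cases hh1 : k < 2354
    · skip
      exact reachRange_sound mdata subsL 1 2352 2 reach1_0 k (by omega) (by omega)
    · skip
      exact reachRange_sound mdata subsL 1 463 2354 reach1_1 k (by omega) (by omega)

theorem orb2 : OrbOK mdata subsL 2817 3510 := by
  refine ⟨by decide, by decide, ?_, ?_⟩
  · intro k h1 h2
    exact closedRange_sound mdata subsL 2817 3510 693 2817 closed2_0 k (by omega) (by omega)
  · intro k h1 h2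
    exact reachRange_sound mdata subsL 2817 692 2818 reach2_0 k (by omega) (by omega)

theorem main : ((Subgroup.closure Sset).map (PresentedGroup.mk Rset)).index = 3510 ∧
    ∃ e : (PresentedGroup Rset ⧸ (Subgroup.closure Sset).map (PresentedGroup.mk Rset)) ≃ Fin 3510,
      ∀ lo hi, OrbOK mdata subsL lo hi → ∀ q, (e q).val = lo →
        e '' (MulAction.orbit ((Subgroup.closure Sset).map (PresentedGroup.mk Rset)) q) =
          {x : Fin 3510 | lo ≤ x.val ∧ x.val < hi} :=
  model_main mdata bases subsL coding hR1 hS1 hS2 model_ok bound

end Cfsg.Agent.Helper4.TC.Fi22U62
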