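import Cfsg.Agent.Lib.Helper4.TC.O73PSX
import Cfsg.Agent.Lib.Helper4.TC.O73PXB
import Cfsg.Agent.Lib.Helper4.TC.O73PZ1B
import Cfsg.Agent.Lib.Helper4.TC.O73PZ2B
import Cfsg.Agent.Lib.Helper4.TC.O73PZ3B
import Cfsg.Agent.Lib.Helper4.TC.O73PZ4B
import Cfsg.Agent.Lib.Helper4.TC.O73PZ5B
import Cfsg.Agent.Lib.Helper4.TC.O73PZ6B
import Cfsg.Agent.Lib.Helper4.TC.O73PZ7B

set_option autoImplicit false
set_option maxRecDepth 100000
set_option linter.unusedVariables false

namespace Cfsg.Agent.Helper4.TC.O73PS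

open Cfsg.Agent.Helper4.TC

abbrev dec := O73PCod.dec
abbrev Rset : Set (FreeGroup Cfsg.Agent.Helper4.Pres.O73.Gen) := Cfsg.Spor.coxRelators Cfsg.Agent.Helper4.Pres.O73.edges ∪ {r | r ∈ Cfsg.Agent.Helper4.Pres.O73.extra}

theorem card6 : Finite (PresentedGroup (relSet dec O73PZ7.bases)) ∧ Nat.card (PresentedGroup (relSet dec O73PZ7.bases)) ≤ 2 := by
  refine stage_bot _ _ ?_ _ O73PZ7.bound
  rintro s ⟨b, hb, _⟩
  simp [O73PZ7.subsL] at hb

theorem card5 : Finite (PresentedGroup (relSet dec O73PZ6.bases)) ∧ Nat.card (PresentedGroup (relSet dec O73PZ6.bases)) ≤ 6 := by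
  have h := stage_bound (relSet dec O73PZ6.bases) (relSet dec O73PZ7.bases) (relSet dec O73PZ6.subsL) O73PZ6.bases O73PZ7.bases O73PZ6.subsL
    (fun x : Cfsg.Agent.Helper4.Pres.O73.Gen => decide (x ∈ ([.h] : List Cfsg.Agent.Helper4.Pres.O73.Gen))) (mem_relSet _) (fun r hr => hr) (fun s hs => hs) (by decide +kernel) (by decide +kernel) O73PZ6.n 2 O73PZ6.bound card6
  exact ⟨h.1, h.2.trans (by decide)⟩

theorem card4 : Finite (PresentedGroup (relSet dec O73PZ5.bases)) ∧ Nat.card (PresentedGroup (relSet dec O73PZ5.bases)) ≤ 24 := by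
  have h := stage_bound (relSet dec O73PZ5.bases) (relSet dec O73PZ6.bases) (relSet dec O73PZ5.subsL) O73PZ5.bases O73PZ6.bases O73PZ5.subsL
    (fun x : Cfsg.Agent.Helper4.Pres.O73.Gen => decide (x ∈ ([.d, .h] : List Cfsg.Agent.Helper4.Pres.O73.Gen))) (mem_relSet _) (fun r hr => hr) (fun s hs => hs) (by decide +kernel) (by decide +kernel) O73PZ5.n 6 O73PZ5.bound card5
  exact ⟨h.1, h.2.trans (by decide)⟩

theorem card3 : Finite (PresentedGroup (relSet dec O73PZ4.bases)) ∧ Nat.card (PresentedGroup (relSet dec O73PZ4.bases)) ≤ 192 := by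
  have h := stage_bound (relSet dec O73PZ4.bases) (relSet dec O73PZ5.bases) (relSet dec O73PZ4.subsL) O73PZ4.bases O73PZ5.bases O73PZ4.subsL
    (fun x : Cfsg.Agent.Helper4.Pres.O73.Gen => decide (x ∈ ([.d, .e, .h] : List Cfsg.Agent.Helper4.Pres.O73.Gen))) (mem_relSet _) (fun r hr => hr) (fun s hs => hs) (by decide +kernel) (by decide +kernel) O73PZ4.n 24 O73PZ4.bound card4
  exact ⟨h.1, h.2.trans (by decide)⟩

theorem card2 : Finite (PresentedGroup (relSet dec O73PZ3.bases)) ∧ Nat.card (PresentedGroup (relSet dec O73PZ3.bases)) ≤ 1920 := by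
  have h := stage_bound (relSet dec O73PZ3.bases) (relSet dec O73PZ4.bases) (relSet dec O73PZ3.subsL) O73PZ3.bases O73PZ4.bases O73PZ3.subsL
    (fun x : Cfsg.Agent.Helper4.Pres.O73.Gen => decide (x ∈ ([.c, .d, .e, .h] : List Cfsg.Agent.Helper4.Pres.O73.Gen))) (mem_relSet _) (fun r hr => hr) (fun s hs => hs) (by decide +kernel) (by decide +kernel) O73PZ3.n 192 O73PZ3.bound card3
  exact ⟨h.1, h.2.trans (by decide)⟩

theorem card1 : Finite (PresentedGroup (relSet dec O73PZ2.bases)) ∧ Nat.card (PresentedGroup (relSet dec O73PZ2.bases)) ≤ 51840 := by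
  have h := stage_bound (relSet dec O73PZ2.bases) (relSet dec O73PZ3.bases) (relSet dec O73PZ2.subsL) O73PZ2.bases O73PZ3.bases O73PZ2.subsL
    (fun x : Cfsg.Agent.Helper4.Pres.O73.Gen => decide (x ∈ ([.c, .d, .e, .h, .i] : List Cfsg.Agent.Helper4.Pres.O73.Gen))) (mem_relSet _) (fun r hr => hr) (fun s hs => hs) (by decide +kernel) (by decide +kernel) O73PZ2.n 1920 O73PZ2.bound card2
  exact ⟨h.1, h.2.trans (by decide)⟩

theorem card0 : Finite (PresentedGroup (relSet dec O73PZ1.bases)) ∧ Nat.card (PresentedGroup (relSet dec O73PZ1.bases)) ≤ 12597120 := by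
  have h := stage_bound (relSet dec O73PZ1.bases) (relSet dec O73PZ2.bases) (relSet dec O73PZ1.subsL) O73PZ1.bases O73PZ2.bases O73PZ1.subsL
    (fun x : Cfsg.Agent.Helper4.Pres.O73.Gen => decide (x ∈ ([.b, .c, .d, .e, .h, .i] : List Cfsg.Agent.Helper4.Pres.O73.Gen))) (mem_relSet _) (fun r hr => hr) (fun s hs => hs) (by decide +kernel) (by decide +kernel) O73PZ1.n 51840 O73PZ1.bound card1
  exact ⟨h.1, h.2.trans (by decide)⟩

theorem card_top : Finite (PresentedGroup Rset) ∧ Nat.card (PresentedGroup Rset) ≤ 4585351680 := by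
  have h := stage_bound Rset (relSet dec O73PZ1.bases) O73PE6a.Sset O73PE6a.bases O73PZ1.bases O73PE6a.subsL
    (fun x : Cfsg.Agent.Helper4.Pres.O73.Gen => decide (x ∈ ([.b, .c, .d, .e, .f, .h, .i] : List Cfsg.Agent.Helper4.Pres.O73.Gen))) O73PE6a.hR2 (fun r hr => hr) O73PE6a.hS1 (by decide +kernel) (by decide +kernel) O73PE6a.n 12597120 O73PE6a.bound card0
  exact ⟨h.1, h.2.trans (by decide)⟩

theorem cardX : Finite (PresentedGroup (relSet dec O73PX.bases)) ∧ Nat.card (PresentedGroup (relSet dec O73PX.bases)) ≤ 1 := by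
  refine stage_bot _ _ ?_ _ O73PX.bound
  rintro s ⟨b, hb, _⟩
  simp [O73PX.subsL] at hb

theorem hnc : Subgroup.normalClosure {PresentedGroup.mk Rset (wordF dec xw)} = ⊤ := by
  refine normalClosure_eq_top_of_trivial Rset (relSet dec O73PX.bases) (wordF dec xw) ?_ cardX
  rintro r ⟨b, hb, rfl⟩
  have hb' : b ∈ O73PE6a.bases ++ [xw] := (by decide : O73PX.bases = O73PE6a.bases ++ [xw]) ▸ hb
  rcases List.mem_append.mp hb' with h | h
  · exact Or.inl (O73PE6a.hR2 b h)
  · right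
    rw [List.mem_singleton.mp h]

theorem hxp : ∀ j, j < O73PE6a.mdata.n → mtrace O73PE6a.mdata (wpow xw (13 ^ 1)) j = j := by
  have e : wpow xw (13 ^ 1) = xpw := by decide
  rw [e]
  intro k hk
  have hk' : k < 364 := hk
  exact relsRange_sound O73PE6a.mdata [xpw] 364 0 xp_c0 k (by omega) (by omega) xpw List.mem_cons_self

instance : Fact (Nat.Prime 13) := ⟨by norm_num⟩

theorem main : IsSimpleGroup (PresentedGroup Rset) ∧ Nat.card (PresentedGroup Rset) = 4585351680 := by
  refine simple_card_main O73PE6a.coding O73PE6a.hR1 O73PE6a.model_ok 4585351680 card_top specs levels_ok ?_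
    [(1, 244), (244, 364)] (by decide) ?_ (by decide) (by decide) 13 ?_ xw (by decide) 1 hxp hnc
  · decide
  · intro r hr
    simp only [List.mem_cons, List.not_mem_nil, or_false] at hr
    rcases hr with rfl | rfl
    · exact O73PE6a.orb1
    · exact O73PE6a.orb2
  · exact factorization_eq_of _ _ 13 1 352719360 28 (by norm_num) (by norm_num [O73PE6a.mdata]) (by norm_num [O73PE6a.mdata]) (by norm_num) (by norm_num)

end Cfsg.Agent.Helper4.TC.O73PS
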