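import Cfsg.Agent.Lib.Helper4.TC.O73Mat
import Cfsg.Agent.Lib.Helper4.TC.O73PSMain
import Cfsg.Agent.Lib.Helper4.TC.Cover
import Cfsg.Agent.S0292

set_option autoImplicit false
set_option maxRecDepth 100000
set_option linter.unusedVariables false
set_option linter.style.haveILetI false

/-! The presented group `Pres.O73` is isomorphic to `PΩ₇(3)`. -/

namespace Cfsg.Agent.Helper4.TC.O73Iso

open Cfsg.Agent.Helper4.TC Cfsg.Agent.Helper4.TC.O73Mat

abbrev G7 : Subgroup (GL Idx (ZMod 3)) := Cfsg.isometryGroup (ZMod 3) (Cfsg.quadFormOdd 3 (ZMod 3))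

abbrev PO7 : Type := Cfsg.POmega (ZMod 3) (Cfsg.quadFormOdd 3 (ZMod 3))

theorem hchk : ∀ b ∈ O73PE6a.bases, MatD.evM (dlM D D) (b.map O73PE6a.dec) = MatD.one := by
  decide +kernel

theorem hneB : (D .b).toMatE eps ≠ 1 := by decide +kernel

theorem card_po7 : Nat.card PO7 = 4585351680 := by
  have h := Cfsg.Agent.S0292.result (F := ZMod 3) (q := 3) (ZMod.card 3) (by decide) 3 le_rfl
  have e2 : 3 ^ 3 ^ 2 * ∏ i ∈ Finset.range 3, (3 ^ (2 * (i + 1)) - 1) = 9170703360 := by
    rw [Finset.prod_range_succ, Finset.prod_range_succ, Finset.prod_range_one]; rfl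
  rw [e2] at h
  have h' : 2 * Nat.card PO7 = 9170703360 := h
  omega

/-- the isomorphism -/
theorem iso : Nonempty (PresentedGroup O73PS.Rset ≃* PO7) := by
  haveI : IsSimpleGroup (PresentedGroup O73PS.Rset) := O73PS.main.1
  haveI : Finite (PresentedGroup O73PS.Rset) := O73PS.card_top.1
  obtain ⟨φ, hφ⟩ := exists_hom_gl eps D D hinvD hinvD O73PS.Rset O73PE6a.dec O73PE6a.bases
    O73PE6a.hR1 hchk
  have hmem : φ.range ≤ G7 := by
    refine range_le_of_gens φ G7 fun x => ?_
    rw [hφ]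
    exact glO_mem x
  let θ : PresentedGroup O73PS.Rset →* G7 := φ.codRestrict G7 fun p => hmem ⟨p, rfl⟩
  have hθ : ∃ x, θ x ≠ 1 := by
    refine ⟨PresentedGroup.of .b, fun h => hneB ?_⟩
    have h1 : φ (PresentedGroup.of .b) = 1 := congrArg Subtype.val h
    rw [hφ] at h1
    exact congrArg Units.val h1
  have hna : ∃ a b : PresentedGroup O73PS.Rset, a * b ≠ b * a :=
    not_comm_of_simple_of_not_prime (by rw [O73PS.main.2]; norm_num)
  obtain ⟨π, hπ⟩ := exists_hom_commutator_mod_center hna θ hθ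
  haveI : Finite PO7 := Nat.finite_of_card_ne_zero (by rw [card_po7]; norm_num)
  have hbij : Function.Bijective π := by
    rw [Nat.bijective_iff_injective_and_card]
    exact ⟨hπ, O73PS.main.2.trans card_po7.symm⟩
  exact ⟨MulEquiv.ofBijective π hbij⟩

end Cfsg.Agent.Helper4.TC.O73Iso
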