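import Cfsg.Agent.Lib.Helper4.TC.Schur
import Cfsg.Agent.S2117
import Cfsg.Agent.Lib.Helper21.StemExt

set_option autoImplicit false
set_option linter.unusedVariables false
set_option linter.unusedSectionVars false
set_option linter.style.haveILetI false

/-! More tools for stem extensions of presented groups: products of two lifted elements of the same
order prime to the exponent of the kernel, the order of a stem extension against the group with
weak relators, and the reduction of the triviality of the kernel to the primes with a non-cyclic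
Sylow subgroup. -/

namespace Cfsg.Agent.Helper4.TC.Schur

open Cfsg Cfsg.Agent.Helper4.TC

universe u v

section Two

variable {Γ : Type u} {G : Type v} [Group Γ] [Group G]

/-- in an extension with central kernel of exponent `p`, a product of two elements of order
dividing `m`, prime to `p`, which lies in the kernel is trivial -/
theorem mul_eq_one_of_orders (σ : Γ →* G) (hcen : σ.ker ≤ Subgroup.center Γ) (p : ℕ)
    (hexp : ∀ z ∈ σ.ker, z ^ p = 1) (a b : Γ) (m : ℕ) (hm : Nat.Coprime m p)
    (ha : a ^ m = 1) (hb : b ^ m = 1) (hab : σ (a * b) = 1) : a * b = 1 := by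
  have hk : a * b ∈ σ.ker := MonoidHom.mem_ker.mpr hab
  have hc : ∀ g, g * (a * b) = (a * b) * g := Subgroup.mem_center_iff.mp (hcen hk)
  have h1 : a = (a * b) * b⁻¹ := by group
  have hcomm : Commute (a * b) b⁻¹ := (hc b⁻¹).symm
  have h2 : (a * b) ^ m = 1 := by
    have h3 : a ^ m = (a * b) ^ m * (b⁻¹) ^ m := by
      conv_lhs => rw [h1]
      exact hcomm.mul_pow m
    rw [ha, inv_pow, hb, inv_one, mul_one] at h3
    exact h3.symm
  have h4 : (a * b) ^ p = 1 := hexp _ hk
  have h5 : orderOf (a * b) ∣ Nat.gcd m p :=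
    Nat.dvd_gcd (orderOf_dvd_of_pow_eq_one h2) (orderOf_dvd_of_pow_eq_one h4)
  rw [hm] at h5
  exact orderOf_eq_one_iff.mp (Nat.dvd_one.mp h5)

/-- a surjective homomorphism from a finite group onto a group which is not smaller is an
isomorphism -/
theorem mulEquiv_of_surjective_of_card_le {A : Type u} {B : Type v} [Group A] [Group B] [Finite A]
    (φ : A →* B) (hs : Function.Surjective φ) (hc : Nat.card A ≤ Nat.card B) :
    Nonempty (A ≃* B) := by
  haveI : Finite B := Finite.of_surjective φ hs
  have h1 : Nat.card B ≤ Nat.card A := Nat.card_le_card_of_surjective φ hs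
  have hbij : Function.Bijective φ :=
    (Nat.bijective_iff_surjective_and_card φ).mpr ⟨hs, le_antisymm hc h1⟩
  exact ⟨MulEquiv.ofBijective φ hbij⟩

end Two

section Weak2

variable {α : Type} {dec : ℕ → Letter α} {enc : α → ℕ} {nc : ℕ}

/-- the group with the relators `exactL` and `centL` is a quotient of the group in which the
relators `centL` are only central of order `p` -/
theorem card_true_le (hcod : Coding dec enc nc) (p : ℕ) (exactL centL gensL : List (List ℕ))
    (N : ℕ)
    (hW : Finite (PresentedGroup (relSet dec (exactL ++ weakify p gensL centL))) ∧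
      Nat.card (PresentedGroup (relSet dec (exactL ++ weakify p gensL centL))) ≤ N) :
    Finite (PresentedGroup (relSet dec (exactL ++ centL))) ∧
      Nat.card (PresentedGroup (relSet dec (exactL ++ centL))) ≤ N := by
  set R := relSet dec (exactL ++ centL) with hR
  have hone : ∀ b ∈ exactL ++ centL, evc (PresentedGroup.of (rels := R)) dec b = 1 := by
    intro b hb
    rw [evc_of]
    exact PresentedGroup.one_of_mem (mem_relSet _ b hb)
  obtain ⟨φ, hφ⟩ := exists_hom_weak hcod (⊥ : Subgroup (PresentedGroup R)) bot_le p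
    (fun z hz => by rw [Subgroup.mem_bot.mp hz, one_pow]) (PresentedGroup.of (rels := R))
    exactL centL gensL (fun b hb => hone b (List.mem_append_left _ hb))
    (fun ρ hρ => by
      rw [Subgroup.mem_bot]
      exact hone ρ (List.mem_append_right _ hρ))
  have hr : φ.range = ⊤ := by
    rw [eq_top_iff, ← PresentedGroup.closure_range_of R, Subgroup.closure_le]
    rintro _ ⟨x, rfl⟩
    exact ⟨PresentedGroup.of x, hφ x⟩
  have hsurj : Function.Surjective φ := MonoidHom.range_eq_top.mp hr
  haveI := hW.1
  exact ⟨Finite.of_surjective φ hsurj, (Nat.card_le_card_of_surjective φ hsurj).trans hW.2⟩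

/-- the order of a stem extension with kernel of exponent `p` is bounded by the order of the
group with weak relators -/
theorem card_le_of_weak1 {R : Set (FreeGroup α)} (hcod : Coding dec enc nc)
    {Γ : Type*} [Group Γ] [Finite Γ] (σ : Γ →* PresentedGroup R) (hσ : IsStemExtension σ)
    (p : ℕ) (hexp : ∀ z ∈ σ.ker, z ^ p = 1)
    (g : α → Γ) (hg : ∀ x, σ (g x) = PresentedGroup.of x)
    (exactL centL gensL : List (List ℕ))
    (hex : ∀ b ∈ exactL, evc g dec b = 1)
    (hcent : ∀ ρ ∈ centL, wordF dec ρ ∈ R)
    (N : ℕ)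
    (hW : Finite (PresentedGroup (relSet dec (exactL ++ weakify p gensL centL))) ∧
      Nat.card (PresentedGroup (relSet dec (exactL ++ weakify p gensL centL))) ≤ N) :
    Nat.card Γ ≤ N := by
  have hσevc : ∀ w, σ (evc g dec w) = PresentedGroup.mk R (wordF dec w) := by
    intro w
    rw [map_evc, ← evc_of]
    congr 1
    funext x
    exact hg x
  obtain ⟨φ0, hφ0⟩ := exists_hom_weak hcod σ.ker hσ.2.1 p hexp g exactL centL gensL hex
    (fun ρ hρ => by
      rw [MonoidHom.mem_ker, hσevc]
      exact PresentedGroup.one_of_mem (hcent ρ hρ))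
  have hr : φ0.range = ⊤ := by
    apply eq_top_of_map_eq_top σ hσ
    rw [eq_top_iff, ← PresentedGroup.closure_range_of R, Subgroup.closure_le]
    rintro _ ⟨x, rfl⟩
    exact ⟨g x, ⟨PresentedGroup.of x, hφ0 x⟩, hg x⟩
  have hsurj : Function.Surjective φ0 := MonoidHom.range_eq_top.mp hr
  haveI := hW.1
  exact (Nat.card_le_card_of_surjective φ0 hsurj).trans hW.2

end Weak2

section Reduce

variable {P : Type} [Group P] [Finite P]

/-- a Sylow subgroup of a stem extension for a prime whose square does not divide the order of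
the quotient meets the kernel trivially -/
theorem sylow_inter_ker_of_factorization_le_one {Γ : Type} [Group Γ] [Finite Γ] (σ : Γ →* P)
    (hσ : IsStemExtension σ) (r : ℕ) [Fact r.Prime] (hf : (Nat.card P).factorization r ≤ 1)
    (S : Sylow r Γ) (z : Γ) (hzS : z ∈ (S : Subgroup Γ)) (hzk : z ∈ σ.ker) : z = 1 := by
  have hr : r.Prime := Fact.out
  have hsurj := hσ.1
  have hT : ((S.mapSurjective hsurj : Sylow r P) : Subgroup P) =
      (S : Subgroup Γ).map σ := Sylow.coe_mapSurjective hsurj S
  have hTcard := (S.mapSurjective hsurj).card_eq_multiplicity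
  have hcyc : IsCyclic ((S : Subgroup Γ).map σ) := by
    rw [← hT]
    have h01 : (Nat.card P).factorization r = 0 ∨ (Nat.card P).factorization r = 1 := by omega
    rcases h01 with h0 | h1
    · rw [h0, pow_zero] at hTcard
      haveI : Subsingleton ↥((S.mapSurjective hsurj : Sylow r P) : Subgroup P) :=
        (Nat.card_eq_one_iff_unique.mp hTcard).1
      exact isCyclic_of_subsingleton
    · rw [h1, pow_one] at hTcard
      exact isCyclic_of_prime_card hTcard
  obtain ⟨τ, hτ, hτker⟩ := Cfsg.Agent.S2117.sylow_stem σ hσ r S (MulEquiv.refl _)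
  have hbot := Cfsg.Agent.S2117.ker_eq_bot_of_cyclic τ hτ
  have hmem : (⟨z, hzS⟩ : (S : Subgroup Γ)) ∈ τ.ker := (hτker _).mpr hzk
  rw [hbot, Subgroup.mem_bot] at hmem
  exact congrArg Subtype.val hmem

/-- the kernel of a stem extension of `P` is trivial when this holds for the kernels of prime
exponent `r` for the primes `r` whose square divides the order of `P` -/
theorem ker_eq_bot_of_prime_cases
    (hbad : ∀ r : ℕ, r.Prime → 1 < (Nat.card P).factorization r →
      ∀ (Γ : Type) [Group Γ] [Finite Γ] (σ : Γ →* P), IsStemExtension σ →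
        (∀ z ∈ σ.ker, z ^ r = 1) → ∀ z ∈ σ.ker, z = 1)
    {Γ : Type} [Group Γ] [Finite Γ] (σ : Γ →* P) (hσ : IsStemExtension σ) : σ.ker = ⊥ := by
  classical
  by_contra hne
  have hcard : Nat.card σ.ker ≠ 1 := fun h => hne (Subgroup.card_eq_one.mp h)
  obtain ⟨r, hr, hrdvd⟩ := Nat.exists_prime_and_dvd hcard
  haveI : Fact r.Prime := ⟨hr⟩
  by_cases hf : 1 < (Nat.card P).factorization r
  · obtain ⟨Γ', _, _, σ', hσ', hexp', z, hz, hz1⟩ := exists_stem_exponent σ hσ r hrdvd
    exact hz1 (hbad r hr hf Γ' σ' hσ' hexp' z hz)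
  · refine Cfsg.Agent.S2117.not_dvd_of_sylow_trivial σ r ?_ hrdvd
    intro S a haS haker
    exact sylow_inter_ker_of_factorization_le_one σ hσ r (by omega) S a haS haker

/-- a finite group all of whose stem extensions have a trivial kernel has a trivial Schur
multiplier; transport along an isomorphism -/
theorem hasCyclicSchurMultiplier_one_of_iso {G : Type} [Group G] (e : G ≃* P)
    (h : ∀ (Γ : Type) [Group Γ] [Finite Γ] (σ : Γ →* P), IsStemExtension σ → σ.ker = ⊥) :
    Cfsg.HasCyclicSchurMultiplier G 1 := by
  haveI : Finite G := Finite.of_equiv P e.symm.toEquiv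
  apply Cfsg.Agent.Lib.Helper21.hasCyclicSchurMultiplier_one_of
  intro Γ _ _ σ hσ
  have hk : (e.toMonoidHom.comp σ).ker = σ.ker := by
    ext x
    simp [MonoidHom.mem_ker]
  have hσ' : IsStemExtension (e.toMonoidHom.comp σ) := by
    refine ⟨e.surjective.comp hσ.1, ?_, ?_⟩
    · rw [hk]; exact hσ.2.1
    · rw [hk]; exact hσ.2.2
  rw [← hk]
  exact h Γ _ hσ'

end Reduce

end Cfsg.Agent.Helper4.TC.Schur
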