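import Cfsg.Agent.Lib.Helper4.TC.Fi23SMain
import Cfsg.Agent.Lib.Helper4.TC.Fi22SMain
import Cfsg.Agent.Lib.Helper4.TC.Fi23ABB
import Cfsg.Agent.Lib.Helper4.TC.Cover

set_option autoImplicit false
set_option maxRecDepth 100000
set_option linter.unusedVariables false

namespace Cfsg.Agent.Helper4.TC.Fi23C

open Cfsg.Agent.Helper4.TC

abbrev dec := Fi23Cod.dec
abbrev Rset : Set (FreeGroup Cfsg.Spor.Fi23.Gen) := Cfsg.Spor.coxRelators Cfsg.Spor.Fi23.edges ∪ {r | r ∈ Cfsg.Spor.Fi23.extra}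
abbrev Q : Set (FreeGroup Cfsg.Spor.Fi22.Gen) := Cfsg.Spor.coxRelators Cfsg.Spor.Fi22.edges ∪ {r | r ∈ Cfsg.Spor.Fi22.extra}
abbrev PR : Set (FreeGroup Cfsg.Spor.Fi23.Gen) := relSet dec Fi23Z1.bases

def sigma : Cfsg.Spor.Fi23.Gen → Option Cfsg.Spor.Fi22.Gen
  | .a => some .a
  | .b => some .b
  | .c => some .c
  | .d => some .d
  | .e => some .e
  | .f => some .f
  | .g => some .g
  | .j => none
  | .h => some .h
  | .i => some .i

def tau (c : ℕ) : Option ℕ := [some 0, some 1, some 2, some 3, some 4, some 5, some 6, some 7, some 8, some 9, some 10, some 11, some 12, some 13, none, none, some 14, some 15, some 16, some 17].getD c none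

def comms : List (List ℕ) := [[0, 2, 1, 3], [0, 4, 1, 5], [0, 6, 1, 7], [0, 8, 1, 9], [0, 10, 1, 11], [0, 12, 1, 13], [0, 14, 1, 15], [0, 16, 1, 17], [0, 18, 1, 19], [2, 4, 3, 5], [2, 6, 3, 7], [2, 8, 3, 9], [2, 10, 3, 11], [2, 12, 3, 13], [2, 14, 3, 15], [2, 16, 3, 17], [2, 18, 3, 19], [4, 6, 5, 7], [4, 8, 5, 9], [4, 10, 5, 11], [4, 12, 5, 13], [4, 14, 5, 15], [4, 16, 5, 17], [4, 18, 5, 19], [6, 8, 7, 9], [6, 10, 7, 11], [6, 12, 7, 13], [6, 14, 7, 15], [6, 16, 7, 17], [6, 18, 7, 19], [8, 10, 9, 11], [8, 12, 9, 13], [8, 14, 9, 15], [8, 16, 9, 17], [8, 18, 9, 19], [10, 12, 11, 13], [10, 14, 11, 15], [10, 16, 11, 17], [10, 18, 11, 19], [12, 14, 13, 15], [12, 16, 13, 17], [12, 18, 13, 19], [14, 16, 15, 17], [14, 18, 15, 19], [16, 18, 17, 19]]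

theorem cardAB : Finite (PresentedGroup (relSet dec Fi23AB.bases)) ∧ Nat.card (PresentedGroup (relSet dec Fi23AB.bases)) ≤ 1 := by
  refine stage_bot _ _ ?_ _ Fi23AB.bound
  rintro s ⟨b, hb, _⟩
  simp [Fi23AB.subsL] at hb

theorem hperf : commutator (PresentedGroup PR) = ⊤ := by
  refine commutator_eq_top_of_trivial PR (relSet dec Fi23AB.bases) ?_ cardAB
  rintro r ⟨b, hb, rfl⟩
  have hb' : b ∈ Fi23Z1.bases ++ comms := (by decide : Fi23AB.bases = Fi23Z1.bases ++ comms) ▸ hb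
  rcases List.mem_append.mp hb' with h | h
  · exact Or.inl ⟨b, h, rfl⟩
  · exact Or.inr (wordF_comm Fi23Cod.coding b ((by decide : ∀ b ∈ comms, isCommWord b = true) b h))

theorem main' {A : Type*} [Group A] (f : ((Subgroup.closure Fi23Fi22.Sset).map (PresentedGroup.mk Rset)) ≃* A) :
    Cfsg.IsNonsplitDoubleCover A (PresentedGroup Q) := by
  obtain ⟨ψ, hψ⟩ := exists_stage_hom Rset PR Fi23Fi22.Sset Fi23Fi22.bases Fi23Z1.bases Fi23Fi22.subsL
    (fun x : Cfsg.Spor.Fi23.Gen => decide (x ∈ ([.a, .b, .c, .d, .e, .f, .g, .h, .i] : List Cfsg.Spor.Fi23.Gen))) Fi23Fi22.hR2 (fun r hr => hr) Fi23Fi22.hS1 (by decide +kernel) (by decide +kernel)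
  obtain ⟨π, hπ⟩ := exists_onto_hom (dec := dec) (dec' := Fi22Cod.dec) PR Q Fi23Z1.bases Fi22U62.bases sigma tau
    (fun r hr => hr) Fi22U62.hR2 (by decide +kernel) (by decide +kernel) (by intro y; cases y; exacts [⟨.a, rfl⟩, ⟨.b, rfl⟩, ⟨.c, rfl⟩, ⟨.d, rfl⟩, ⟨.e, rfl⟩, ⟨.f, rfl⟩, ⟨.g, rfl⟩, ⟨.h, rfl⟩, ⟨.i, rfl⟩])
  haveI : IsSimpleGroup (PresentedGroup Q) := Fi22S.main.1
  have hG : Nat.card (PresentedGroup Rset) = 4089470473293004800 := Fi23S.main.2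
  have hidx := Fi23Fi22.main.1
  have hH : Nat.card ((Subgroup.closure Fi23Fi22.Sset).map (PresentedGroup.mk Rset)) = 2 * 64561751654400 := by
    have h1 := ((Subgroup.closure Fi23Fi22.Sset).map (PresentedGroup.mk Rset)).card_mul_index
    rw [hidx, hG] at h1
    omega
  exact double_cover_main' _ ψ hψ 64561751654400 (by norm_num) hH
    ⟨Fi23S.card0.1, Fi23S.card0.2.trans (by norm_num)⟩ π hπ Fi22S.main.2 (by norm_num) hperf f

theorem main : Cfsg.IsNonsplitDoubleCover ((Subgroup.closure Fi23Fi22.Sset).map (PresentedGroup.mk Rset)) (PresentedGroup Q) :=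
  main' (MulEquiv.refl _)

end Cfsg.Agent.Helper4.TC.Fi23C
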