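import Cfsg.Agent.Lib.Helper4.TC.SuzG24Data

set_option autoImplicit false
set_option maxRecDepth 100000
set_option linter.unusedVariables false
set_option Elab.async false

namespace Cfsg.Agent.Helper4.TC.SuzG24

open Cfsg.Agent.Helper4.TC

theorem cnt0 : countFinal data 7764 0 0 = 1782 := by decide +kernel
theorem rows0 : rowsRange data 7764 2499 0 = true := by decide +kernel
theorem rows1 : rowsRange data 7764 5265 2499 = true := by decide +kernel

end Cfsg.Agent.Helper4.TC.SuzG24
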