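import Cfsg.Agent.Lib.Helper4.TC.SuzG24Model
import Cfsg.Agent.Lib.Helper4.TC.SuzG24Data

set_option autoImplicit false
set_option maxRecDepth 100000
set_option linter.unusedVariables false
set_option Elab.async false

namespace Cfsg.Agent.Helper4.TC.SuzG24

open Cfsg.Agent.Helper4.TC

theorem rel8 : relsRange mdata bases 54 1728 = true := by decide +kernel
theorem inv0 : invRange mdata 1782 0 = true := by decide +kernel
theorem tree0 : treeRange mdata 1781 1 = true := by decide +kernel
theorem closed1_0 : closedRange mdata subsL 1 1366 1365 1 = true := by decide +kernel
theorem reach1_0 : reachRange mdata subsL 1 1364 2 = true := by decide +kernel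
theorem closed2_0 : closedRange mdata subsL 1366 1782 416 1366 = true := by decide +kernel
theorem reach2_0 : reachRange mdata subsL 1366 415 1367 = true := by decide +kernel
theorem sub0_ok : sub0OK mdata subsL = true := by decide +kernel

end Cfsg.Agent.Helper4.TC.SuzG24
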