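import Cfsg.Agent.Lib.Helper4.TC.SuzSX
import Cfsg.Agent.Lib.Helper4.TC.SuzXB
import Cfsg.Agent.Lib.Helper4.TC.SuzZ1B
import Cfsg.Agent.Lib.Helper4.TC.SuzZ2B
import Cfsg.Agent.Lib.Helper4.TC.SuzZ3B
import Cfsg.Agent.Lib.Helper4.TC.SuzZ4B
import Cfsg.Agent.Lib.Helper4.TC.SuzZ5B
import Cfsg.Agent.Lib.Helper4.TC.SuzZ6B

set_option autoImplicit false
set_option maxRecDepth 100000
set_option linter.unusedVariables false

namespace Cfsg.Agent.Helper4.TC.SuzS

open Cfsg.Agent.Helper4.TC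

abbrev dec := SuzCod.dec
abbrev Rset : Set (FreeGroup Cfsg.Spor.Suz.Gen) := Cfsg.Spor.coxRelators Cfsg.Spor.Suz.edges ∪ {r | r ∈ Cfsg.Spor.Suz.extra}

theorem card5 : Finite (PresentedGroup (relSet dec SuzZ6.bases)) ∧ Nat.card (PresentedGroup (relSet dec SuzZ6.bases)) ≤ 2 := by
  refine stage_bot _ _ ?_ _ SuzZ6.bound
  rintro s ⟨b, hb, _⟩
  simp [SuzZ6.subsL] at hb

theorem card4 : Finite (PresentedGroup (relSet dec SuzZ5.bases)) ∧ Nat.card (PresentedGroup (relSet dec SuzZ5.bases)) ≤ 10 := by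
  have h := stage_bound (relSet dec SuzZ5.bases) (relSet dec SuzZ6.bases) (relSet dec SuzZ5.subsL) SuzZ5.bases SuzZ6.bases SuzZ5.subsL
    (fun x : Cfsg.Spor.Suz.Gen => decide (x ∈ ([.b] : List Cfsg.Spor.Suz.Gen))) (mem_relSet _) (fun r hr => hr) (fun s hs => hs) (by decide +kernel) (by decide +kernel) SuzZ5.n 2 SuzZ5.bound card5
  exact ⟨h.1, h.2.trans (by decide)⟩

theorem card3 : Finite (PresentedGroup (relSet dec SuzZ4.bases)) ∧ Nat.card (PresentedGroup (relSet dec SuzZ4.bases)) ≤ 20 := by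
  have h := stage_bound (relSet dec SuzZ4.bases) (relSet dec SuzZ5.bases) (relSet dec SuzZ4.subsL) SuzZ4.bases SuzZ5.bases SuzZ4.subsL
    (fun x : Cfsg.Spor.Suz.Gen => decide (x ∈ ([.a, .b] : List Cfsg.Spor.Suz.Gen))) (mem_relSet _) (fun r hr => hr) (fun s hs => hs) (by decide +kernel) (by decide +kernel) SuzZ4.n 10 SuzZ4.bound card4
  exact ⟨h.1, h.2.trans (by decide)⟩

theorem card2 : Finite (PresentedGroup (relSet dec SuzZ3.bases)) ∧ Nat.card (PresentedGroup (relSet dec SuzZ3.bases)) ≤ 2160 := by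
  have h := stage_bound (relSet dec SuzZ3.bases) (relSet dec SuzZ4.bases) (relSet dec SuzZ3.subsL) SuzZ3.bases SuzZ4.bases SuzZ3.subsL
    (fun x : Cfsg.Spor.Suz.Gen => decide (x ∈ ([.a, .b, .d] : List Cfsg.Spor.Suz.Gen))) (mem_relSet _) (fun r hr => hr) (fun s hs => hs) (by decide +kernel) (by decide +kernel) SuzZ3.n 20 SuzZ3.bound card3
  exact ⟨h.1, h.2.trans (by decide)⟩

theorem card1 : Finite (PresentedGroup (relSet dec SuzZ2.bases)) ∧ Nat.card (PresentedGroup (relSet dec SuzZ2.bases)) ≤ 604800 := by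
  have h := stage_bound (relSet dec SuzZ2.bases) (relSet dec SuzZ3.bases) (relSet dec SuzZ2.subsL) SuzZ2.bases SuzZ3.bases SuzZ2.subsL
    (fun x : Cfsg.Spor.Suz.Gen => decide (x ∈ ([.a, .b, .c, .d] : List Cfsg.Spor.Suz.Gen))) (mem_relSet _) (fun r hr => hr) (fun s hs => hs) (by decide +kernel) (by decide +kernel) SuzZ2.n 2160 SuzZ2.bound card2
  exact ⟨h.1, h.2.trans (by decide)⟩

theorem card0 : Finite (PresentedGroup (relSet dec SuzZ1.bases)) ∧ Nat.card (PresentedGroup (relSet dec SuzZ1.bases)) ≤ 251596800 := by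
  have h := stage_bound (relSet dec SuzZ1.bases) (relSet dec SuzZ2.bases) (relSet dec SuzZ1.subsL) SuzZ1.bases SuzZ2.bases SuzZ1.subsL
    (fun x : Cfsg.Spor.Suz.Gen => decide (x ∈ ([.a, .b, .c, .d, .e] : List Cfsg.Spor.Suz.Gen))) (mem_relSet _) (fun r hr => hr) (fun s hs => hs) (by decide +kernel) (by decide +kernel) SuzZ1.n 604800 SuzZ1.bound card1
  exact ⟨h.1, h.2.trans (by decide)⟩

theorem card_top : Finite (PresentedGroup Rset) ∧ Nat.card (PresentedGroup Rset) ≤ 448345497600 := by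
  have h := stage_bound Rset (relSet dec SuzZ1.bases) SuzG24.Sset SuzG24.bases SuzZ1.bases SuzG24.subsL
    (fun x : Cfsg.Spor.Suz.Gen => decide (x ∈ ([.a, .b, .c, .d, .e, .f] : List Cfsg.Spor.Suz.Gen))) SuzG24.hR2 (fun r hr => hr) SuzG24.hS1 (by decide +kernel) (by decide +kernel) SuzG24.n 251596800 SuzG24.bound card0
  exact ⟨h.1, h.2.trans (by decide)⟩

theorem cardX : Finite (PresentedGroup (relSet dec SuzX.bases)) ∧ Nat.card (PresentedGroup (relSet dec SuzX.bases)) ≤ 1 := by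
  refine stage_bot _ _ ?_ _ SuzX.bound
  rintro s ⟨b, hb, _⟩
  simp [SuzX.subsL] at hb

theorem hnc : Subgroup.normalClosure {PresentedGroup.mk Rset (wordF dec xw)} = ⊤ := by
  refine normalClosure_eq_top_of_trivial Rset (relSet dec SuzX.bases) (wordF dec xw) ?_ cardX
  rintro r ⟨b, hb, rfl⟩
  have hb' : b ∈ SuzG24.bases ++ [xw] := (by decide : SuzX.bases = SuzG24.bases ++ [xw]) ▸ hb
  rcases List.mem_append.mp hb' with h | h
  · exact Or.inl (SuzG24.hR2 b h)
  · right
    rw [List.mem_singleton.mp h]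

theorem hxp : ∀ j, j < SuzG24.mdata.n → mtrace SuzG24.mdata (wpow xw (11 ^ 1)) j = j := by
  have e : wpow xw (11 ^ 1) = xpw := by decide
  rw [e]
  intro k hk
  have hk' : k < 1782 := hk
  by_cases hh1 : k < 1212
  · skip
    exact relsRange_sound SuzG24.mdata [xpw] 1212 0 xp_c0 k (by omega) (by omega) xpw List.mem_cons_self
  · skip
    exact relsRange_sound SuzG24.mdata [xpw] 570 1212 xp_c1 k (by omega) (by omega) xpw List.mem_cons_self

instance : Fact (Nat.Prime 11) := ⟨by norm_num⟩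

theorem main : IsSimpleGroup (PresentedGroup Rset) ∧ Nat.card (PresentedGroup Rset) = 448345497600 := by
  refine simple_card_main SuzG24.coding SuzG24.hR1 SuzG24.model_ok 448345497600 card_top specs levels_ok ?_
    [(1, 1366), (1366, 1782)] (by decide) ?_ (by decide) (by decide) 11 ?_ xw (by decide) 1 hxp hnc
  · decide
  · intro r hr
    simp only [List.mem_cons, List.not_mem_nil, or_false] at hr
    rcases hr with rfl | rfl
    · exact SuzG24.orb1
    · exact SuzG24.orb2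
  · exact factorization_eq_of _ _ 11 1 40758681600 162 (by norm_num) (by norm_num [SuzG24.mdata]) (by norm_num [SuzG24.mdata]) (by norm_num) (by norm_num)

end Cfsg.Agent.Helper4.TC.SuzS
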