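import Cfsg.Agent.Lib.Helper4.TC.MatGL

set_option autoImplicit false
set_option linter.unusedVariables false
set_option linter.unusedSectionVars false

/-! Evaluation of a word in explicit matrices, checked step by step against a given list of
partial products. -/

namespace Cfsg.Agent.Helper4.TC

section Chain

variable {n : ℕ} {R : Type} [CommRing R] [DecidableEq R] {α : Type}

/-- `chainOK d ls Qs Q`: the word `ls` evaluates to `Q`, the list `Qs` giving the partial
products of the shorter tails. -/
def chainOK (d : Letter α → MatD n R) : List (Letter α) → List (MatD n R) → MatD n R → Bool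
  | [], _, Q => decide (Q = MatD.one)
  | _ :: _, [], _ => false
  | l :: ls, Q' :: Qs, Q => decide (Q'.mul (d l) = Q) && chainOK d ls Qs Q'

theorem chainOK_sound (d : Letter α → MatD n R) :
    ∀ (ls : List (Letter α)) (Qs : List (MatD n R)) (Q : MatD n R),
      chainOK d ls Qs Q = true → MatD.evM d ls = Q
  | [], _, Q, h => by
    have h1 : Q = MatD.one := of_decide_eq_true h
    rw [h1]
    rfl
  | _ :: _, [], _, h => by simp [chainOK] at h
  | l :: ls, Q' :: Qs, Q, h => by
    unfold chainOK at h
    rw [Bool.and_eq_true] at h
    have h1 : Q'.mul (d l) = Q := of_decide_eq_true h.1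
    have h2 := chainOK_sound d ls Qs Q' h.2
    show (MatD.evM d ls).mul (d l) = Q
    rw [h2, h1]

end Chain

end Cfsg.Agent.Helper4.TC

namespace Cfsg.Agent.Helper4.TC

/-- one step of the evaluation of a word -/
theorem evM_step {n : ℕ} {R : Type} [CommRing R] {α : Type} {d : Letter α → MatD n R}
    {l : Letter α} {ls : List (Letter α)} {Q' Q : MatD n R}
    (h2 : Q'.mul (d l) = Q) (h1 : MatD.evM d ls = Q') : MatD.evM d (l :: ls) = Q := by
  show (MatD.evM d ls).mul (d l) = Q
  rw [h1, h2]

end Cfsg.Agent.Helper4.TC
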