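import Cfsg.Agent.Lib.Helper4.TC.MatSU9
import Cfsg.Agent.Lib.Helper4.TC.MatChain
import Cfsg.Agent.Lib.Helper4.TC.U33PSMain
import Cfsg.Agent.Lib.Helper6.SUTransport
import Cfsg.Agent.S0280

set_option autoImplicit false
set_option maxRecDepth 100000
set_option maxHeartbeats 0
set_option linter.unusedVariables false
set_option linter.style.haveILetI false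

/-! The presented group `Pres.U33` is isomorphic to `PSU₃(3)`. -/

namespace Cfsg.Agent.Helper4.TC.U33Iso

open Cfsg.Agent.Helper4.TC Cfsg.Agent.Lib.Helper16.G168 Matrix

abbrev Gen := Cfsg.Agent.Helper4.Pres.U33.Gen

def uA : MatD 3 K9 := ⟨[⟨0, 0⟩, ⟨2, 2⟩, ⟨2, 1⟩, ⟨2, 1⟩, ⟨1, 0⟩, ⟨0, 1⟩, ⟨2, 2⟩, ⟨0, 2⟩, ⟨1, 0⟩]⟩
def uB : MatD 3 K9 := ⟨[⟨1, 2⟩, ⟨0, 2⟩, ⟨0, 2⟩, ⟨0, 1⟩, ⟨1, 0⟩, ⟨1, 2⟩, ⟨2, 0⟩, ⟨1, 1⟩, ⟨0, 1⟩]⟩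
def uA' : MatD 3 K9 := ⟨[⟨0, 0⟩, ⟨2, 2⟩, ⟨2, 1⟩, ⟨2, 1⟩, ⟨1, 0⟩, ⟨0, 1⟩, ⟨2, 2⟩, ⟨0, 2⟩, ⟨1, 0⟩]⟩
def uB' : MatD 3 K9 := ⟨[⟨1, 1⟩, ⟨0, 2⟩, ⟨2, 0⟩, ⟨0, 1⟩, ⟨1, 0⟩, ⟨1, 2⟩, ⟨0, 1⟩, ⟨1, 1⟩, ⟨0, 2⟩]⟩

def DU : Gen → MatD 3 K9
  | .a => uA
  | .b => uB

def DU' : Gen → MatD 3 K9
  | .a => uA'
  | .b => uB'

theorem hinvU : ∀ x, (DU x).mul (DU' x) = MatD.one := by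
  intro x; cases x <;> decide +kernel

theorem hunitU : ∀ x, (DU x).tr.mul ((DU x).mapE fun y => y ^ 3) = MatD.one := by
  intro x; cases x <;> decide +kernel

theorem hdet_aux : ∀ x : Gen,
    (DU x).entry 0 0 * (DU x).entry 1 1 * (DU x).entry 2 2 - (DU x).entry 0 0 * (DU x).entry 1 2 * (DU x).entry 2 1
      - (DU x).entry 0 1 * (DU x).entry 1 0 * (DU x).entry 2 2 + (DU x).entry 0 1 * (DU x).entry 1 2 * (DU x).entry 2 0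
      + (DU x).entry 0 2 * (DU x).entry 1 0 * (DU x).entry 2 1 - (DU x).entry 0 2 * (DU x).entry 1 1 * (DU x).entry 2 0
      = 1 := by
  intro x; cases x <;> decide +kernel

theorem hdetU : ∀ x, ((DU x).toMatE (Equiv.refl (Fin 3))).det = 1 := by
  intro x
  rw [Matrix.det_fin_three]
  exact hdet_aux x

def q0_1 : MatD 3 K9 := ⟨[⟨0, 0⟩, ⟨2, 2⟩, ⟨2, 1⟩, ⟨2, 1⟩, ⟨1, 0⟩, ⟨0, 1⟩, ⟨2, 2⟩, ⟨0, 2⟩, ⟨1, 0⟩]⟩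
theorem s0_1 : (MatD.one : MatD 3 K9).mul (dlM DU DU' (U33PB28.dec 2)) = q0_1 := by decide +kernel
theorem s0_2 : (q0_1 : MatD 3 K9).mul (dlM DU DU' (U33PB28.dec 2)) = MatD.one := by decide +kernel
theorem r0 : MatD.evM (dlM DU DU') (([2, 2] : List ℕ).map U33PB28.dec) = MatD.one := by
  refine evM_step s0_2 ?_
  refine evM_step s0_1 ?_
  rfl

def q1_1 : MatD 3 K9 := ⟨[⟨1, 2⟩, ⟨0, 2⟩, ⟨0, 2⟩, ⟨0, 1⟩, ⟨1, 0⟩, ⟨1, 2⟩, ⟨2, 0⟩, ⟨1, 1⟩, ⟨0, 1⟩]⟩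
def q1_2 : MatD 3 K9 := ⟨[⟨1, 2⟩, ⟨0, 0⟩, ⟨2, 1⟩, ⟨0, 0⟩, ⟨1, 0⟩, ⟨0, 0⟩, ⟨1, 1⟩, ⟨0, 0⟩, ⟨1, 1⟩]⟩
def q1_3 : MatD 3 K9 := ⟨[⟨1, 0⟩, ⟨0, 2⟩, ⟨1, 1⟩, ⟨0, 1⟩, ⟨1, 0⟩, ⟨1, 2⟩, ⟨1, 2⟩, ⟨1, 1⟩, ⟨0, 0⟩]⟩
def q1_4 : MatD 3 K9 := ⟨[⟨1, 1⟩, ⟨0, 0⟩, ⟨1, 2⟩, ⟨0, 0⟩, ⟨1, 0⟩, ⟨0, 0⟩, ⟨2, 2⟩, ⟨0, 0⟩, ⟨1, 2⟩]⟩
def q1_5 : MatD 3 K9 := ⟨[⟨1, 1⟩, ⟨0, 2⟩, ⟨2, 0⟩, ⟨0, 1⟩, ⟨1, 0⟩, ⟨1, 2⟩, ⟨0, 1⟩, ⟨1, 1⟩, ⟨0, 2⟩]⟩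
theorem s1_1 : (MatD.one : MatD 3 K9).mul (dlM DU DU' (U33PB28.dec 0)) = q1_1 := by decide +kernel
theorem s1_2 : (q1_1 : MatD 3 K9).mul (dlM DU DU' (U33PB28.dec 0)) = q1_2 := by decide +kernel
theorem s1_3 : (q1_2 : MatD 3 K9).mul (dlM DU DU' (U33PB28.dec 0)) = q1_3 := by decide +kernel
theorem s1_4 : (q1_3 : MatD 3 K9).mul (dlM DU DU' (U33PB28.dec 0)) = q1_4 := by decide +kernel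
theorem s1_5 : (q1_4 : MatD 3 K9).mul (dlM DU DU' (U33PB28.dec 0)) = q1_5 := by decide +kernel
theorem s1_6 : (q1_5 : MatD 3 K9).mul (dlM DU DU' (U33PB28.dec 0)) = MatD.one := by decide +kernel
theorem r1 : MatD.evM (dlM DU DU') (([0, 0, 0, 0, 0, 0] : List ℕ).map U33PB28.dec) = MatD.one := by
  refine evM_step s1_6 ?_
  refine evM_step s1_5 ?_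
  refine evM_step s1_4 ?_
  refine evM_step s1_3 ?_
  refine evM_step s1_2 ?_
  refine evM_step s1_1 ?_
  rfl

def q2_1 : MatD 3 K9 := ⟨[⟨0, 0⟩, ⟨2, 2⟩, ⟨2, 1⟩, ⟨2, 1⟩, ⟨1, 0⟩, ⟨0, 1⟩, ⟨2, 2⟩, ⟨0, 2⟩, ⟨1, 0⟩]⟩
def q2_2 : MatD 3 K9 := ⟨[⟨2, 1⟩, ⟨0, 2⟩, ⟨0, 2⟩, ⟨0, 2⟩, ⟨1, 2⟩, ⟨1, 0⟩, ⟨1, 0⟩, ⟨0, 1⟩, ⟨1, 1⟩]⟩
def q2_3 : MatD 3 K9 := ⟨[⟨0, 2⟩, ⟨1, 2⟩, ⟨1, 0⟩, ⟨2, 1⟩, ⟨0, 2⟩, ⟨0, 2⟩, ⟨2, 0⟩, ⟨0, 2⟩, ⟨2, 2⟩]⟩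
def q2_4 : MatD 3 K9 := ⟨[⟨2, 0⟩, ⟨1, 0⟩, ⟨2, 2⟩, ⟨1, 0⟩, ⟨2, 2⟩, ⟨1, 0⟩, ⟨1, 2⟩, ⟨0, 1⟩, ⟨0, 2⟩]⟩
def q2_5 : MatD 3 K9 := ⟨[⟨2, 0⟩, ⟨1, 2⟩, ⟨0, 2⟩, ⟨1, 2⟩, ⟨1, 0⟩, ⟨1, 0⟩, ⟨1, 0⟩, ⟨0, 1⟩, ⟨2, 1⟩]⟩
def q2_6 : MatD 3 K9 := ⟨[⟨0, 0⟩, ⟨2, 2⟩, ⟨1, 2⟩, ⟨2, 2⟩, ⟨1, 0⟩, ⟨0, 2⟩, ⟨1, 1⟩, ⟨1, 0⟩, ⟨0, 2⟩]⟩
def q2_7 : MatD 3 K9 := ⟨[⟨0, 0⟩, ⟨1, 1⟩, ⟨2, 1⟩, ⟨1, 2⟩, ⟨0, 2⟩, ⟨2, 0⟩, ⟨1, 2⟩, ⟨0, 1⟩, ⟨1, 0⟩]⟩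
def q2_8 : MatD 3 K9 := ⟨[⟨0, 0⟩, ⟨2, 1⟩, ⟨1, 2⟩, ⟨2, 1⟩, ⟨1, 0⟩, ⟨1, 0⟩, ⟨1, 1⟩, ⟨0, 1⟩, ⟨0, 1⟩]⟩
def q2_9 : MatD 3 K9 := ⟨[⟨1, 1⟩, ⟨1, 0⟩, ⟨0, 1⟩, ⟨1, 0⟩, ⟨0, 2⟩, ⟨1, 2⟩, ⟨0, 1⟩, ⟨1, 2⟩, ⟨0, 1⟩]⟩
def q2_10 : MatD 3 K9 := ⟨[⟨2, 0⟩, ⟨1, 0⟩, ⟨1, 1⟩, ⟨1, 0⟩, ⟨2, 1⟩, ⟨0, 2⟩, ⟨2, 1⟩, ⟨1, 0⟩, ⟨0, 1⟩]⟩
def q2_11 : MatD 3 K9 := ⟨[⟨2, 2⟩, ⟨0, 0⟩, ⟨2, 1⟩, ⟨2, 2⟩, ⟨0, 0⟩, ⟨1, 2⟩, ⟨0, 0⟩, ⟨1, 0⟩, ⟨0, 0⟩]⟩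
def q2_12 : MatD 3 K9 := ⟨[⟨2, 2⟩, ⟨0, 1⟩, ⟨1, 0⟩, ⟨0, 1⟩, ⟨1, 1⟩, ⟨0, 2⟩, ⟨0, 1⟩, ⟨1, 0⟩, ⟨1, 2⟩]⟩
def q2_13 : MatD 3 K9 := ⟨[⟨1, 1⟩, ⟨0, 2⟩, ⟨2, 0⟩, ⟨0, 1⟩, ⟨1, 0⟩, ⟨1, 2⟩, ⟨0, 1⟩, ⟨1, 1⟩, ⟨0, 2⟩]⟩
theorem s2_1 : (MatD.one : MatD 3 K9).mul (dlM DU DU' (U33PB28.dec 2)) = q2_1 := by decide +kernel
theorem s2_2 : (q2_1 : MatD 3 K9).mul (dlM DU DU' (U33PB28.dec 0)) = q2_2 := by decide +kernel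
theorem s2_3 : (q2_2 : MatD 3 K9).mul (dlM DU DU' (U33PB28.dec 2)) = q2_3 := by decide +kernel
theorem s2_4 : (q2_3 : MatD 3 K9).mul (dlM DU DU' (U33PB28.dec 0)) = q2_4 := by decide +kernel
theorem s2_5 : (q2_4 : MatD 3 K9).mul (dlM DU DU' (U33PB28.dec 2)) = q2_5 := by decide +kernel
theorem s2_6 : (q2_5 : MatD 3 K9).mul (dlM DU DU' (U33PB28.dec 0)) = q2_6 := by decide +kernel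
theorem s2_7 : (q2_6 : MatD 3 K9).mul (dlM DU DU' (U33PB28.dec 2)) = q2_7 := by decide +kernel
theorem s2_8 : (q2_7 : MatD 3 K9).mul (dlM DU DU' (U33PB28.dec 0)) = q2_8 := by decide +kernel
theorem s2_9 : (q2_8 : MatD 3 K9).mul (dlM DU DU' (U33PB28.dec 2)) = q2_9 := by decide +kernel
theorem s2_10 : (q2_9 : MatD 3 K9).mul (dlM DU DU' (U33PB28.dec 0)) = q2_10 := by decide +kernel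
theorem s2_11 : (q2_10 : MatD 3 K9).mul (dlM DU DU' (U33PB28.dec 2)) = q2_11 := by decide +kernel
theorem s2_12 : (q2_11 : MatD 3 K9).mul (dlM DU DU' (U33PB28.dec 0)) = q2_12 := by decide +kernel
theorem s2_13 : (q2_12 : MatD 3 K9).mul (dlM DU DU' (U33PB28.dec 2)) = q2_13 := by decide +kernel
theorem s2_14 : (q2_13 : MatD 3 K9).mul (dlM DU DU' (U33PB28.dec 0)) = MatD.one := by decide +kernel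
theorem r2 : MatD.evM (dlM DU DU') (([0, 2, 0, 2, 0, 2, 0, 2, 0, 2, 0, 2, 0, 2] : List ℕ).map U33PB28.dec) = MatD.one := by
  refine evM_step s2_14 ?_
  refine evM_step s2_13 ?_
  refine evM_step s2_12 ?_
  refine evM_step s2_11 ?_
  refine evM_step s2_10 ?_
  refine evM_step s2_9 ?_
  refine evM_step s2_8 ?_
  refine evM_step s2_7 ?_
  refine evM_step s2_6 ?_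
  refine evM_step s2_5 ?_
  refine evM_step s2_4 ?_
  refine evM_step s2_3 ?_
  refine evM_step s2_2 ?_
  refine evM_step s2_1 ?_
  rfl

def q3_1 : MatD 3 K9 := ⟨[⟨0, 0⟩, ⟨2, 2⟩, ⟨2, 1⟩, ⟨2, 1⟩, ⟨1, 0⟩, ⟨0, 1⟩, ⟨2, 2⟩, ⟨0, 2⟩, ⟨1, 0⟩]⟩
def q3_2 : MatD 3 K9 := ⟨[⟨0, 1⟩, ⟨0, 2⟩, ⟨2, 1⟩, ⟨0, 1⟩, ⟨1, 2⟩, ⟨0, 1⟩, ⟨1, 2⟩, ⟨0, 1⟩, ⟨0, 2⟩]⟩
def q3_3 : MatD 3 K9 := ⟨[⟨2, 0⟩, ⟨2, 2⟩, ⟨0, 2⟩, ⟨2, 2⟩, ⟨1, 0⟩, ⟨1, 0⟩, ⟨2, 0⟩, ⟨0, 2⟩, ⟨2, 2⟩]⟩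
def q3_4 : MatD 3 K9 := ⟨[⟨1, 1⟩, ⟨2, 0⟩, ⟨2, 0⟩, ⟨1, 0⟩, ⟨1, 1⟩, ⟨0, 1⟩, ⟨1, 0⟩, ⟨0, 1⟩, ⟨1, 1⟩]⟩
def q3_5 : MatD 3 K9 := ⟨[⟨0, 0⟩, ⟨2, 1⟩, ⟨1, 1⟩, ⟨2, 2⟩, ⟨0, 1⟩, ⟨2, 0⟩, ⟨2, 2⟩, ⟨0, 2⟩, ⟨1, 0⟩]⟩
def q3_6 : MatD 3 K9 := ⟨[⟨1, 0⟩, ⟨2, 0⟩, ⟨1, 1⟩, ⟨2, 0⟩, ⟨1, 1⟩, ⟨2, 0⟩, ⟨1, 2⟩, ⟨0, 1⟩, ⟨0, 2⟩]⟩
def q3_7 : MatD 3 K9 := ⟨[⟨1, 0⟩, ⟨2, 1⟩, ⟨0, 1⟩, ⟨2, 1⟩, ⟨2, 0⟩, ⟨2, 0⟩, ⟨1, 0⟩, ⟨0, 1⟩, ⟨2, 1⟩]⟩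
def q3_8 : MatD 3 K9 := ⟨[⟨2, 0⟩, ⟨1, 1⟩, ⟨0, 2⟩, ⟨1, 1⟩, ⟨2, 0⟩, ⟨0, 1⟩, ⟨2, 0⟩, ⟨1, 0⟩, ⟨1, 2⟩]⟩
def q3_9 : MatD 3 K9 := ⟨[⟨2, 0⟩, ⟨2, 1⟩, ⟨2, 0⟩, ⟨2, 1⟩, ⟨2, 0⟩, ⟨2, 0⟩, ⟨0, 1⟩, ⟨0, 1⟩, ⟨1, 1⟩]⟩
def q3_10 : MatD 3 K9 := ⟨[⟨1, 2⟩, ⟨0, 0⟩, ⟨2, 1⟩, ⟨2, 0⟩, ⟨1, 1⟩, ⟨2, 0⟩, ⟨2, 0⟩, ⟨2, 2⟩, ⟨2, 0⟩]⟩
def q3_11 : MatD 3 K9 := ⟨[⟨1, 0⟩, ⟨0, 2⟩, ⟨1, 1⟩, ⟨2, 2⟩, ⟨0, 1⟩, ⟨2, 0⟩, ⟨1, 0⟩, ⟨1, 2⟩, ⟨1, 0⟩]⟩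
def q3_12 : MatD 3 K9 := ⟨[⟨1, 1⟩, ⟨0, 0⟩, ⟨1, 2⟩, ⟨1, 0⟩, ⟨1, 1⟩, ⟨0, 1⟩, ⟨1, 0⟩, ⟨2, 2⟩, ⟨0, 1⟩]⟩
def q3_13 : MatD 3 K9 := ⟨[⟨1, 0⟩, ⟨2, 0⟩, ⟨2, 2⟩, ⟨2, 2⟩, ⟨1, 0⟩, ⟨1, 0⟩, ⟨0, 2⟩, ⟨2, 1⟩, ⟨0, 1⟩]⟩
def q3_14 : MatD 3 K9 := ⟨[⟨2, 2⟩, ⟨2, 0⟩, ⟨0, 2⟩, ⟨0, 1⟩, ⟨1, 2⟩, ⟨0, 1⟩, ⟨1, 0⟩, ⟨0, 2⟩, ⟨1, 2⟩]⟩
def q3_15 : MatD 3 K9 := ⟨[⟨1, 0⟩, ⟨2, 0⟩, ⟨2, 2⟩, ⟨2, 1⟩, ⟨1, 0⟩, ⟨0, 1⟩, ⟨1, 0⟩, ⟨2, 1⟩, ⟨0, 2⟩]⟩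
def q3_16 : MatD 3 K9 := ⟨[⟨1, 1⟩, ⟨0, 0⟩, ⟨1, 2⟩, ⟨0, 0⟩, ⟨1, 0⟩, ⟨0, 0⟩, ⟨2, 2⟩, ⟨0, 0⟩, ⟨1, 2⟩]⟩
def q3_17 : MatD 3 K9 := ⟨[⟨1, 1⟩, ⟨0, 2⟩, ⟨2, 0⟩, ⟨0, 1⟩, ⟨1, 0⟩, ⟨1, 2⟩, ⟨0, 1⟩, ⟨1, 1⟩, ⟨0, 2⟩]⟩
theorem s3_1 : (MatD.one : MatD 3 K9).mul (dlM DU DU' (U33PB28.dec 2)) = q3_1 := by decide +kernel
theorem s3_2 : (q3_1 : MatD 3 K9).mul (dlM DU DU' (U33PB28.dec 1)) = q3_2 := by decide +kernel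
theorem s3_3 : (q3_2 : MatD 3 K9).mul (dlM DU DU' (U33PB28.dec 1)) = q3_3 := by decide +kernel
theorem s3_4 : (q3_3 : MatD 3 K9).mul (dlM DU DU' (U33PB28.dec 2)) = q3_4 := by decide +kernel
theorem s3_5 : (q3_4 : MatD 3 K9).mul (dlM DU DU' (U33PB28.dec 1)) = q3_5 := by decide +kernel
theorem s3_6 : (q3_5 : MatD 3 K9).mul (dlM DU DU' (U33PB28.dec 1)) = q3_6 := by decide +kernel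
theorem s3_7 : (q3_6 : MatD 3 K9).mul (dlM DU DU' (U33PB28.dec 2)) = q3_7 := by decide +kernel
theorem s3_8 : (q3_7 : MatD 3 K9).mul (dlM DU DU' (U33PB28.dec 1)) = q3_8 := by decide +kernel
theorem s3_9 : (q3_8 : MatD 3 K9).mul (dlM DU DU' (U33PB28.dec 1)) = q3_9 := by decide +kernel
theorem s3_10 : (q3_9 : MatD 3 K9).mul (dlM DU DU' (U33PB28.dec 2)) = q3_10 := by decide +kernel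
theorem s3_11 : (q3_10 : MatD 3 K9).mul (dlM DU DU' (U33PB28.dec 0)) = q3_11 := by decide +kernel
theorem s3_12 : (q3_11 : MatD 3 K9).mul (dlM DU DU' (U33PB28.dec 0)) = q3_12 := by decide +kernel
theorem s3_13 : (q3_12 : MatD 3 K9).mul (dlM DU DU' (U33PB28.dec 2)) = q3_13 := by decide +kernel
theorem s3_14 : (q3_13 : MatD 3 K9).mul (dlM DU DU' (U33PB28.dec 0)) = q3_14 := by decide +kernel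
theorem s3_15 : (q3_14 : MatD 3 K9).mul (dlM DU DU' (U33PB28.dec 0)) = q3_15 := by decide +kernel
theorem s3_16 : (q3_15 : MatD 3 K9).mul (dlM DU DU' (U33PB28.dec 2)) = q3_16 := by decide +kernel
theorem s3_17 : (q3_16 : MatD 3 K9).mul (dlM DU DU' (U33PB28.dec 0)) = q3_17 := by decide +kernel
theorem s3_18 : (q3_17 : MatD 3 K9).mul (dlM DU DU' (U33PB28.dec 0)) = MatD.one := by decide +kernel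
theorem r3 : MatD.evM (dlM DU DU') (([0, 0, 2, 0, 0, 2, 0, 0, 2, 1, 1, 2, 1, 1, 2, 1, 1, 2] : List ℕ).map U33PB28.dec) = MatD.one := by
  refine evM_step s3_18 ?_
  refine evM_step s3_17 ?_
  refine evM_step s3_16 ?_
  refine evM_step s3_15 ?_
  refine evM_step s3_14 ?_
  refine evM_step s3_13 ?_
  refine evM_step s3_12 ?_
  refine evM_step s3_11 ?_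
  refine evM_step s3_10 ?_
  refine evM_step s3_9 ?_
  refine evM_step s3_8 ?_
  refine evM_step s3_7 ?_
  refine evM_step s3_6 ?_
  refine evM_step s3_5 ?_
  refine evM_step s3_4 ?_
  refine evM_step s3_3 ?_
  refine evM_step s3_2 ?_
  refine evM_step s3_1 ?_
  rfl

def q4_1 : MatD 3 K9 := ⟨[⟨0, 0⟩, ⟨2, 2⟩, ⟨2, 1⟩, ⟨2, 1⟩, ⟨1, 0⟩, ⟨0, 1⟩, ⟨2, 2⟩, ⟨0, 2⟩, ⟨1, 0⟩]⟩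
def q4_2 : MatD 3 K9 := ⟨[⟨0, 1⟩, ⟨0, 2⟩, ⟨2, 1⟩, ⟨0, 1⟩, ⟨1, 2⟩, ⟨0, 1⟩, ⟨1, 2⟩, ⟨0, 1⟩, ⟨0, 2⟩]⟩
def q4_3 : MatD 3 K9 := ⟨[⟨0, 1⟩, ⟨2, 2⟩, ⟨2, 0⟩, ⟨1, 1⟩, ⟨0, 1⟩, ⟨0, 1⟩, ⟨1, 0⟩, ⟨0, 1⟩, ⟨2, 1⟩]⟩
def q4_4 : MatD 3 K9 := ⟨[⟨0, 0⟩, ⟨2, 1⟩, ⟨2, 2⟩, ⟨1, 2⟩, ⟨0, 1⟩, ⟨1, 0⟩, ⟨1, 1⟩, ⟨1, 0⟩, ⟨0, 2⟩]⟩
def q4_5 : MatD 3 K9 := ⟨[⟨0, 0⟩, ⟨1, 2⟩, ⟨1, 1⟩, ⟨1, 1⟩, ⟨1, 0⟩, ⟨0, 2⟩, ⟨1, 2⟩, ⟨0, 1⟩, ⟨1, 0⟩]⟩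
def q4_6 : MatD 3 K9 := ⟨[⟨0, 0⟩, ⟨1, 1⟩, ⟨2, 2⟩, ⟨2, 2⟩, ⟨0, 1⟩, ⟨0, 1⟩, ⟨1, 1⟩, ⟨0, 1⟩, ⟨0, 1⟩]⟩
def q4_7 : MatD 3 K9 := ⟨[⟨1, 2⟩, ⟨0, 2⟩, ⟨1, 0⟩, ⟨0, 1⟩, ⟨1, 0⟩, ⟨1, 1⟩, ⟨0, 1⟩, ⟨1, 2⟩, ⟨0, 1⟩]⟩
def q4_8 : MatD 3 K9 := ⟨[⟨0, 1⟩, ⟨0, 2⟩, ⟨1, 2⟩, ⟨1, 0⟩, ⟨2, 2⟩, ⟨2, 0⟩, ⟨2, 2⟩, ⟨1, 0⟩, ⟨1, 0⟩]⟩
def q4_9 : MatD 3 K9 := ⟨[⟨2, 1⟩, ⟨0, 0⟩, ⟨1, 1⟩, ⟨0, 1⟩, ⟨1, 2⟩, ⟨2, 0⟩, ⟨1, 0⟩, ⟨1, 1⟩, ⟨0, 1⟩]⟩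
def q4_10 : MatD 3 K9 := ⟨[⟨2, 1⟩, ⟨1, 0⟩, ⟨0, 2⟩, ⟨0, 2⟩, ⟨1, 1⟩, ⟨1, 0⟩, ⟨0, 2⟩, ⟨0, 1⟩, ⟨1, 2⟩]⟩
def q4_11 : MatD 3 K9 := ⟨[⟨0, 1⟩, ⟨0, 0⟩, ⟨0, 0⟩, ⟨0, 0⟩, ⟨1, 2⟩, ⟨1, 1⟩, ⟨0, 0⟩, ⟨1, 1⟩, ⟨1, 2⟩]⟩
def q4_12 : MatD 3 K9 := ⟨[⟨0, 0⟩, ⟨1, 2⟩, ⟨2, 2⟩, ⟨0, 0⟩, ⟨2, 1⟩, ⟨2, 2⟩, ⟨2, 0⟩, ⟨0, 0⟩, ⟨0, 0⟩]⟩
def q4_13 : MatD 3 K9 := ⟨[⟨2, 0⟩, ⟨1, 0⟩, ⟨2, 2⟩, ⟨0, 1⟩, ⟨2, 2⟩, ⟨2, 0⟩, ⟨2, 2⟩, ⟨0, 1⟩, ⟨1, 0⟩]⟩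
def q4_14 : MatD 3 K9 := ⟨[⟨2, 0⟩, ⟨1, 2⟩, ⟨0, 2⟩, ⟨0, 1⟩, ⟨0, 2⟩, ⟨2, 1⟩, ⟨1, 1⟩, ⟨0, 2⟩, ⟨2, 0⟩]⟩
def q4_15 : MatD 3 K9 := ⟨[⟨0, 0⟩, ⟨2, 2⟩, ⟨1, 2⟩, ⟨0, 0⟩, ⟨2, 2⟩, ⟨2, 1⟩, ⟨1, 0⟩, ⟨0, 0⟩, ⟨0, 0⟩]⟩
def q4_16 : MatD 3 K9 := ⟨[⟨0, 0⟩, ⟨1, 2⟩, ⟨2, 1⟩, ⟨2, 1⟩, ⟨0, 2⟩, ⟨0, 2⟩, ⟨1, 2⟩, ⟨0, 2⟩, ⟨0, 2⟩]⟩
def q4_17 : MatD 3 K9 := ⟨[⟨2, 2⟩, ⟨2, 0⟩, ⟨0, 2⟩, ⟨0, 2⟩, ⟨1, 2⟩, ⟨1, 0⟩, ⟨0, 2⟩, ⟨0, 2⟩, ⟨1, 1⟩]⟩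
def q4_18 : MatD 3 K9 := ⟨[⟨1, 0⟩, ⟨2, 0⟩, ⟨2, 2⟩, ⟨2, 1⟩, ⟨1, 0⟩, ⟨0, 1⟩, ⟨1, 0⟩, ⟨2, 1⟩, ⟨0, 2⟩]⟩
def q4_19 : MatD 3 K9 := ⟨[⟨1, 1⟩, ⟨0, 0⟩, ⟨1, 2⟩, ⟨0, 0⟩, ⟨1, 0⟩, ⟨0, 0⟩, ⟨2, 2⟩, ⟨0, 0⟩, ⟨1, 2⟩]⟩
def q4_20 : MatD 3 K9 := ⟨[⟨1, 1⟩, ⟨0, 2⟩, ⟨2, 0⟩, ⟨0, 1⟩, ⟨1, 0⟩, ⟨1, 2⟩, ⟨0, 1⟩, ⟨1, 1⟩, ⟨0, 2⟩]⟩
theorem s4_1 : (MatD.one : MatD 3 K9).mul (dlM DU DU' (U33PB28.dec 2)) = q4_1 := by decide +kernel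
theorem s4_2 : (q4_1 : MatD 3 K9).mul (dlM DU DU' (U33PB28.dec 1)) = q4_2 := by decide +kernel
theorem s4_3 : (q4_2 : MatD 3 K9).mul (dlM DU DU' (U33PB28.dec 2)) = q4_3 := by decide +kernel
theorem s4_4 : (q4_3 : MatD 3 K9).mul (dlM DU DU' (U33PB28.dec 0)) = q4_4 := by decide +kernel
theorem s4_5 : (q4_4 : MatD 3 K9).mul (dlM DU DU' (U33PB28.dec 2)) = q4_5 := by decide +kernel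
theorem s4_6 : (q4_5 : MatD 3 K9).mul (dlM DU DU' (U33PB28.dec 0)) = q4_6 := by decide +kernel
theorem s4_7 : (q4_6 : MatD 3 K9).mul (dlM DU DU' (U33PB28.dec 2)) = q4_7 := by decide +kernel
theorem s4_8 : (q4_7 : MatD 3 K9).mul (dlM DU DU' (U33PB28.dec 1)) = q4_8 := by decide +kernel
theorem s4_9 : (q4_8 : MatD 3 K9).mul (dlM DU DU' (U33PB28.dec 2)) = q4_9 := by decide +kernel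
theorem s4_10 : (q4_9 : MatD 3 K9).mul (dlM DU DU' (U33PB28.dec 0)) = q4_10 := by decide +kernel
theorem s4_11 : (q4_10 : MatD 3 K9).mul (dlM DU DU' (U33PB28.dec 0)) = q4_11 := by decide +kernel
theorem s4_12 : (q4_11 : MatD 3 K9).mul (dlM DU DU' (U33PB28.dec 2)) = q4_12 := by decide +kernel
theorem s4_13 : (q4_12 : MatD 3 K9).mul (dlM DU DU' (U33PB28.dec 1)) = q4_13 := by decide +kernel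
theorem s4_14 : (q4_13 : MatD 3 K9).mul (dlM DU DU' (U33PB28.dec 2)) = q4_14 := by decide +kernel
theorem s4_15 : (q4_14 : MatD 3 K9).mul (dlM DU DU' (U33PB28.dec 0)) = q4_15 := by decide +kernel
theorem s4_16 : (q4_15 : MatD 3 K9).mul (dlM DU DU' (U33PB28.dec 0)) = q4_16 := by decide +kernel
theorem s4_17 : (q4_16 : MatD 3 K9).mul (dlM DU DU' (U33PB28.dec 2)) = q4_17 := by decide +kernel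
theorem s4_18 : (q4_17 : MatD 3 K9).mul (dlM DU DU' (U33PB28.dec 1)) = q4_18 := by decide +kernel
theorem s4_19 : (q4_18 : MatD 3 K9).mul (dlM DU DU' (U33PB28.dec 2)) = q4_19 := by decide +kernel
theorem s4_20 : (q4_19 : MatD 3 K9).mul (dlM DU DU' (U33PB28.dec 0)) = q4_20 := by decide +kernel
theorem s4_21 : (q4_20 : MatD 3 K9).mul (dlM DU DU' (U33PB28.dec 0)) = MatD.one := by decide +kernel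
theorem r4 : MatD.evM (dlM DU DU') (([0, 0, 2, 1, 2, 0, 0, 2, 1, 2, 0, 0, 2, 1, 2, 0, 2, 0, 2, 1, 2] : List ℕ).map U33PB28.dec) = MatD.one := by
  refine evM_step s4_21 ?_
  refine evM_step s4_20 ?_
  refine evM_step s4_19 ?_
  refine evM_step s4_18 ?_
  refine evM_step s4_17 ?_
  refine evM_step s4_16 ?_
  refine evM_step s4_15 ?_
  refine evM_step s4_14 ?_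
  refine evM_step s4_13 ?_
  refine evM_step s4_12 ?_
  refine evM_step s4_11 ?_
  refine evM_step s4_10 ?_
  refine evM_step s4_9 ?_
  refine evM_step s4_8 ?_
  refine evM_step s4_7 ?_
  refine evM_step s4_6 ?_
  refine evM_step s4_5 ?_
  refine evM_step s4_4 ?_
  refine evM_step s4_3 ?_
  refine evM_step s4_2 ?_
  refine evM_step s4_1 ?_
  rfl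

theorem hchkU : ∀ b ∈ U33PB28.bases, MatD.evM (dlM DU DU') (b.map U33PB28.dec) = MatD.one := by
  unfold U33PB28.bases
  refine List.forall_mem_cons.2 ⟨r0, ?_⟩
  refine List.forall_mem_cons.2 ⟨r1, ?_⟩
  refine List.forall_mem_cons.2 ⟨r2, ?_⟩
  refine List.forall_mem_cons.2 ⟨r3, ?_⟩
  refine List.forall_mem_cons.2 ⟨r4, ?_⟩
  exact fun _ h => absurd h List.not_mem_nil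

theorem hncU : ((DU .a).mul (DU .b)).entry 0 0 ≠ ((DU .b).mul (DU .a)).entry 0 0 := by
  decide +kernel

abbrev PSU3 : Type := Cfsg.PSU 3 K9 3

theorem card_psu : Nat.card PSU3 = 6048 := by
  have h := Cfsg.Agent.S0280.result (F := K9) (q := 3) k9_card 3 (by norm_num)
  have e2 : 3 ^ (3 * (3 - 1) / 2) * ∏ i ∈ Finset.range 3,
      (if Even i then 3 ^ (i + 1) + 1 else 3 ^ (i + 1) - 1) = 24192 := by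
    decide
  rw [e2] at h
  have h' : 1 * (4 * Nat.card PSU3) = 24192 := h
  omega

theorem iso_su : Nonempty (PresentedGroup U33PS.Rset ≃* PSU3) := by
  haveI : IsSimpleGroup (PresentedGroup U33PS.Rset) := U33PS.main.1
  haveI : Finite (PresentedGroup U33PS.Rset) := U33PS.card_top.1
  obtain ⟨φ0, hφ0⟩ := exists_hom_su9 DU DU' hinvU hdetU hunitU U33PS.Rset U33PB28.dec U33PB28.bases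
    U33PB28.hR1 hchkU
  let φ : PresentedGroup U33PS.Rset →* PSU3 := (QuotientGroup.mk' _).comp φ0
  have hne : φ (PresentedGroup.of .a) ≠ 1 := by
    intro h
    have h1 : (QuotientGroup.mk (φ0 (PresentedGroup.of .a)) : PSU3) = 1 := h
    rw [hφ0] at h1
    exact suOf9_not_mem_center DU hdetU hunitU .a .b 0 0 hncU ((QuotientGroup.eq_one_iff _).mp h1)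
  have hinj : Function.Injective φ := by
    rw [← MonoidHom.ker_eq_bot_iff]
    rcases IsSimpleGroup.eq_bot_or_eq_top_of_normal φ.ker inferInstance with h | h
    · exact h
    · exfalso
      apply hne
      have : PresentedGroup.of .a ∈ φ.ker := by rw [h]; trivial
      exact this
  haveI : Finite PSU3 := Nat.finite_of_card_ne_zero (by rw [card_psu]; norm_num)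
  have hb : Function.Bijective φ := by
    rw [Nat.bijective_iff_injective_and_card]
    exact ⟨hinj, U33PS.main.2.trans card_psu.symm⟩
  exact ⟨MulEquiv.ofBijective φ hb⟩

/-- over an arbitrary field with nine elements -/
theorem iso_su_field {K : Type*} [Field K] [Fintype K] (hK : Fintype.card K = 9) :
    Nonempty (PresentedGroup U33PS.Rset ≃* Cfsg.PSU 3 K 3) := by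
  obtain ⟨e⟩ := iso_su
  have eK : K9 ≃+* K := FiniteField.ringEquivOfCardEq (by rw [card_K9, hK])
  exact ⟨e.trans (Cfsg.Agent.Lib.Helper6.SUTransport.psuEquiv eK)⟩

end Cfsg.Agent.Helper4.TC.U33Iso
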