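import Mathlib

set_option autoImplicit false
set_option linter.unusedVariables false
set_option linter.unusedSectionVars false
set_option linter.style.haveILetI false

/-! A checker for coset enumeration certificates: an upper bound for the index of a subgroup.
Everything that is computed is written with the basic functions on natural numbers. -/

namespace Cfsg.Agent.Helper4.TC

/-- a generator or its inverse -/
abbrev Letter (α : Type) := α × Bool

/-- the inverse letter -/
def linv {α : Type} (l : Letter α) : Letter α := (l.1, !l.2)

/-- the `k`-th field of width `w` of a packed number -/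
def fld (w mask x k : ℕ) : ℕ := Nat.land (Nat.shiftRight x (Nat.mul w k)) mask

/-- the bit `i` of `x` -/
def bit (x i : ℕ) : Bool := Nat.beq (Nat.land (Nat.shiftRight x i) 1) 1

/-- evaluate a number before passing it on -/
def force {β : Sort*} (x : ℕ) (f : ℕ → β) : β :=
  Nat.rec (motive := fun _ => β) (f 0) (fun m _ => f (Nat.succ m)) x

theorem force_eq {β : Sort*} (x : ℕ) (f : ℕ → β) : force x f = f x := by
  cases x <;> rfl

theorem lt_of_blt {a b : ℕ} (h : Nat.blt a b = true) : a < b := by
  simpa [Nat.blt] using h

section Sem

variable {α : Type} {G : Type*} [Group G] (H : Subgroup G) (γ : α → G) (dec : ℕ → Letter α)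

/-- the group element of a letter -/
def gl (l : Letter α) : G := if l.2 then γ l.1 else (γ l.1)⁻¹

/-- the group element of a word in application order (the first letter acts first) -/
def ev : List (Letter α) → G
  | [] => 1
  | l :: ls => ev ls * gl γ l

/-- the group element of a list of letter codes -/
def evc (cs : List ℕ) : G := ev γ (cs.map dec)

theorem gl_linv (l : Letter α) : gl γ (linv l) = (gl γ l)⁻¹ := by
  rcases l with ⟨a, b⟩
  cases b <;> simp [gl, linv]

theorem ev_append (u v : List (Letter α)) : ev γ (u ++ v) = ev γ v * ev γ u := by
  induction u with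
  | nil => simp [ev]
  | cons l ls ih => simp [ev, ih, mul_assoc]

theorem evc_append (u v : List ℕ) : evc γ dec (u ++ v) = evc γ dec v * evc γ dec u := by
  unfold evc
  rw [List.map_append, ev_append]

theorem evc_cons (c : ℕ) (u : List ℕ) : evc γ dec (c :: u) = evc γ dec u * gl γ (dec c) := rfl

theorem evc_nil : evc γ dec [] = 1 := rfl

end Sem

end Cfsg.Agent.Helper4.TC
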