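import Cfsg.Agent.Lib.Helper4.TC.Embed
import Cfsg.Prelude.Def_KGroupFacts

set_option autoImplicit false
set_option linter.unusedVariables false
set_option linter.unusedSectionVars false
set_option linter.style.haveILetI false

/-! Stem extensions of a presented group and coset enumeration: the lifts of the generators to a
stem extension with kernel of exponent `p` satisfy the relators up to central elements of order
`p`, so the extension is a quotient of the group in which the relators are only central of order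
`p`; the order of that group is bounded by coset enumeration. -/

namespace Cfsg.Agent.Helper4.TC.Schur

open Cfsg Cfsg.Agent.Helper4.TC
open scoped commutatorElement

universe u v

section Stem

variable {Γ : Type u} {G : Type v} [Group Γ] [Group G]

theorem comm_central_left {z a b : Γ} (hz : z ∈ Subgroup.center Γ) : ⁅z * a, b⁆ = ⁅a, b⁆ := by
  have h : ∀ g, g * z = z * g := Subgroup.mem_center_iff.mp hz
  rw [commutatorElement_def, commutatorElement_def, mul_inv_rev]
  have h2 : z * a * b * (a⁻¹ * z⁻¹) = a * b * a⁻¹ := by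
    have h3 : z * (a * b * a⁻¹) * z⁻¹ = a * b * a⁻¹ := by
      rw [← h (a * b * a⁻¹)]
      group
    rw [← h3]
    group
  rw [h2]

theorem comm_central_right {z a b : Γ} (hz : z ∈ Subgroup.center Γ) : ⁅a, z * b⁆ = ⁅a, b⁆ := by
  rw [← commutatorElement_inv, comm_central_left hz, commutatorElement_inv]

/-- a subgroup of a stem extension which maps onto the quotient is the whole group -/
theorem eq_top_of_map_eq_top (σ : Γ →* G) (hσ : IsStemExtension σ) (L : Subgroup Γ)
    (hL : L.map σ = ⊤) : L = ⊤ := by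
  obtain ⟨hsurj, hcen, hcomm⟩ := hσ
  have hdec : ∀ g : Γ, ∃ z ∈ σ.ker, ∃ l ∈ L, g = z * l := by
    intro g
    have h1 : σ g ∈ L.map σ := by rw [hL]; trivial
    obtain ⟨l, hl, hlg⟩ := h1
    refine ⟨g * l⁻¹, ?_, l, hl, by group⟩
    rw [MonoidHom.mem_ker, map_mul, map_inv, hlg, mul_inv_cancel]
  have hcl : commutator Γ ≤ L := by
    rw [commutator_def, Subgroup.commutator_le]
    intro g1 _ g2 _
    obtain ⟨z1, hz1, l1, hl1, rfl⟩ := hdec g1
    obtain ⟨z2, hz2, l2, hl2, rfl⟩ := hdec g2
    rw [comm_central_left (hcen hz1), comm_central_right (hcen hz2), commutatorElement_def]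
    exact L.mul_mem (L.mul_mem (L.mul_mem hl1 hl2) (L.inv_mem hl1)) (L.inv_mem hl2)
  rw [eq_top_iff]
  intro g _
  obtain ⟨z, hz, l, hl, rfl⟩ := hdec g
  exact L.mul_mem (hcl (hcomm hz)) hl

/-- the `p`-th powers of a central subgroup -/
def powSub (Z : Subgroup Γ) (hZ : Z ≤ Subgroup.center Γ) (p : ℕ) : Subgroup Γ where
  carrier := {g | ∃ z ∈ Z, z ^ p = g}
  one_mem' := ⟨1, Z.one_mem, one_pow p⟩
  mul_mem' := by
    rintro _ _ ⟨z1, h1, rfl⟩ ⟨z2, h2, rfl⟩
    refine ⟨z1 * z2, Z.mul_mem h1 h2, ?_⟩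
    have hc : Commute z1 z2 := Subgroup.mem_center_iff.mp (hZ h2) z1
    exact hc.mul_pow p
  inv_mem' := by
    rintro _ ⟨z, h, rfl⟩
    exact ⟨z⁻¹, Z.inv_mem h, inv_pow z p⟩

theorem powSub_le (Z : Subgroup Γ) (hZ : Z ≤ Subgroup.center Γ) (p : ℕ) : powSub Z hZ p ≤ Z := by
  rintro _ ⟨z, h, rfl⟩
  exact Z.pow_mem h p

/-- a stem extension with a kernel of order divisible by `p` has a quotient which is a stem
extension with a non-trivial kernel of exponent `p` -/
theorem exists_stem_exponent {Γ : Type u} [Group Γ] [Finite Γ] (σ : Γ →* G)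
    (hσ : IsStemExtension σ) (p : ℕ) [hp : Fact p.Prime] (hdvd : p ∣ Nat.card σ.ker) :
    ∃ (Γ' : Type u) (_ : Group Γ') (_ : Finite Γ') (σ' : Γ' →* G), IsStemExtension σ' ∧
      (∀ z ∈ σ'.ker, z ^ p = 1) ∧ ∃ z ∈ σ'.ker, z ≠ 1 := by
  obtain ⟨hsurj, hcen, hcomm⟩ := hσ
  set M : Subgroup Γ := powSub σ.ker hcen p with hM
  have hMk : M ≤ σ.ker := powSub_le σ.ker hcen p
  have hMc : M ≤ Subgroup.center Γ := hMk.trans hcen
  haveI : M.Normal := ⟨fun n hn g => by
    have h1 := Subgroup.mem_center_iff.mp (hMc hn) g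
    rw [h1, mul_inv_cancel_right]
    exact hn⟩
  obtain ⟨z0, hz0k, hz0⟩ : ∃ z0 ∈ σ.ker, z0 ∉ M := by
    by_contra hall
    push Not at hall
    let ψ : σ.ker → σ.ker := fun z => ⟨z.1 ^ p, σ.ker.pow_mem z.2 p⟩
    have hs : Function.Surjective ψ := by
      intro y
      obtain ⟨z, hz, hzy⟩ := hall y.1 y.2
      exact ⟨⟨z, hz⟩, Subtype.ext hzy⟩
    have hi := Finite.injective_iff_surjective.mpr hs
    obtain ⟨x, hx⟩ := exists_prime_orderOf_dvd_card' p hdvd
    have h1 : ψ x = ψ 1 := by
      apply Subtype.ext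
      show (x : Γ) ^ p = ((1 : σ.ker) : Γ) ^ p
      rw [Subgroup.coe_one, one_pow, ← Subgroup.coe_pow, ← hx, pow_orderOf_eq_one]
      rfl
    have h2 := hi h1
    rw [h2, orderOf_one] at hx
    exact hp.out.one_lt.ne hx
  let σ' : Γ ⧸ M →* G := QuotientGroup.lift M σ hMk
  have hσ' : ∀ g : Γ, σ' (QuotientGroup.mk g) = σ g := fun g => QuotientGroup.lift_mk M hMk g
  have hker : ∀ q ∈ σ'.ker, ∃ g ∈ σ.ker, (QuotientGroup.mk g : Γ ⧸ M) = q := by
    intro q hq
    obtain ⟨g, rfl⟩ := QuotientGroup.mk_surjective q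
    refine ⟨g, ?_, rfl⟩
    rw [MonoidHom.mem_ker] at hq ⊢
    rw [← hσ' g]
    exact hq
  refine ⟨Γ ⧸ M, inferInstance, inferInstance, σ', ⟨?_, ?_, ?_⟩, ?_, ?_⟩
  · intro y
    obtain ⟨g, rfl⟩ := hsurj y
    exact ⟨QuotientGroup.mk g, hσ' g⟩
  · intro q hq
    obtain ⟨g, hg, rfl⟩ := hker q hq
    rw [Subgroup.mem_center_iff]
    intro q2
    obtain ⟨g2, rfl⟩ := QuotientGroup.mk_surjective q2
    have h1 := Subgroup.mem_center_iff.mp (hcen hg) g2
    rw [← QuotientGroup.mk_mul, ← QuotientGroup.mk_mul, h1]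
  · intro q hq
    obtain ⟨g, hg, rfl⟩ := hker q hq
    have h1 : g ∈ commutator Γ := hcomm hg
    have h2 : (QuotientGroup.mk' M) g ∈ (commutator Γ).map (QuotientGroup.mk' M) :=
      Subgroup.mem_map_of_mem _ h1
    rw [commutator_def, Subgroup.map_commutator,
      Subgroup.map_top_of_surjective _ (QuotientGroup.mk'_surjective M), ← commutator_def] at h2
    exact h2
  · intro q hq
    obtain ⟨g, hg, rfl⟩ := hker q hq
    rw [← QuotientGroup.mk_pow, QuotientGroup.eq_one_iff]
    exact ⟨g, hg, rfl⟩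
  · refine ⟨QuotientGroup.mk z0, ?_, ?_⟩
    · rw [MonoidHom.mem_ker, hσ' z0]
      exact hz0k
    · intro h
      exact hz0 ((QuotientGroup.eq_one_iff z0).mp h)

/-- powers of a lift -/
theorem pow_lift_eq_one (σ : Γ →* G) (p : ℕ) (hexp : ∀ z ∈ σ.ker, z ^ p = 1) (γ : Γ) (m e : ℕ)
    (hm : (σ γ) ^ m = 1) (hpe : p ∣ e) : (γ ^ e) ^ m = 1 := by
  have h1 : γ ^ m ∈ σ.ker := by rw [MonoidHom.mem_ker, map_pow, hm]
  obtain ⟨t, rfl⟩ := hpe
  have h2 : (γ ^ (p * t)) ^ m = ((γ ^ m) ^ p) ^ t := by
    rw [← pow_mul, ← pow_mul, ← pow_mul]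
    congr 1
    ring
  rw [h2, hexp _ h1, one_pow]

theorem map_pow_lift (σ : Γ →* G) (γ : Γ) (m e : ℕ) (hm : (σ γ) ^ m = 1) (he : e % m = 1) :
    σ (γ ^ e) = σ γ := by
  have h1 : e = m * (e / m) + 1 := by
    have := Nat.div_add_mod e m
    omega
  rw [map_pow, h1, pow_succ, pow_mul, hm, one_pow, one_mul]

end Stem

section Weak

variable {α : Type} {dec : ℕ → Letter α} {enc : α → ℕ} {nc : ℕ}

theorem map_evc {A B : Type*} [Group A] [Group B] (θ : A →* B) (f : α → A) (w : List ℕ) :
    θ (evc f dec w) = evc (fun x => θ (f x)) dec w := by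
  induction w with
  | nil => exact map_one θ
  | cons c cs ih =>
    rw [evc_cons, evc_cons, map_mul, ih]
    congr 1
    unfold gl
    split
    · rfl
    · exact map_inv θ _

/-- the commutators with the generators and the `p`-th powers of the words `centL` -/
def weakify (p : ℕ) (gensL centL : List (List ℕ)) : List (List ℕ) :=
  centL.flatMap fun ρ => (gensL.map fun x => invW x ++ invW ρ ++ x ++ ρ) ++ [wpow ρ p]

/-- a group generated by elements which satisfy the words `exactL` and for which the words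
`centL` are central of order `p` is a quotient of the group with these relators -/
theorem exists_hom_weak (hcod : Coding dec enc nc) {Δ : Type*} [Group Δ] (Z : Subgroup Δ)
    (hZc : Z ≤ Subgroup.center Δ) (p : ℕ) (hZp : ∀ z ∈ Z, z ^ p = 1) (f : α → Δ)
    (exactL centL gensL : List (List ℕ))
    (hex : ∀ b ∈ exactL, evc f dec b = 1) (hce : ∀ ρ ∈ centL, evc f dec ρ ∈ Z) :
    ∃ φ : PresentedGroup (relSet dec (exactL ++ weakify p gensL centL)) →* Δ,
      ∀ x, φ (PresentedGroup.of x) = f x := by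
  have hf : ∀ r ∈ relSet dec (exactL ++ weakify p gensL centL), FreeGroup.lift f r = 1 := by
    rintro r ⟨b, hb, rfl⟩
    rw [lift_wordF]
    rcases List.mem_append.mp hb with h | h
    · exact hex b h
    · unfold weakify at h
      obtain ⟨ρ, hρ, hbρ⟩ := List.mem_flatMap.mp h
      have hz := hce ρ hρ
      rcases List.mem_append.mp hbρ with h2 | h2
      · obtain ⟨x, hx, rfl⟩ := List.mem_map.mp h2
        rw [evc_append, evc_append, evc_append, evc_invW f hcod, evc_invW f hcod]
        have hc := Subgroup.mem_center_iff.mp (hZc hz) (evc f dec x)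
        calc evc f dec ρ * (evc f dec x * ((evc f dec ρ)⁻¹ * (evc f dec x)⁻¹))
            = (evc f dec ρ * evc f dec x) * (evc f dec ρ)⁻¹ * (evc f dec x)⁻¹ := by group
          _ = (evc f dec x * evc f dec ρ) * (evc f dec ρ)⁻¹ * (evc f dec x)⁻¹ := by rw [hc]
          _ = 1 := by group
      · rw [List.mem_singleton.mp h2, evc_wpow]
        exact hZp _ hz
  exact ⟨PresentedGroup.toGroup hf, fun x => PresentedGroup.toGroup.of hf⟩

/-- the order of a stem extension with kernel of exponent `p` is bounded by the index of a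
subgroup of the group with weak relators times the order of a group with weak relators for the
generators of the subgroup -/
theorem card_le_of_weak {R : Set (FreeGroup α)} (hcod : Coding dec enc nc)
    {Γ : Type*} [Group Γ] [Finite Γ] (σ : Γ →* PresentedGroup R) (hσ : IsStemExtension σ)
    (p : ℕ) (hexp : ∀ z ∈ σ.ker, z ^ p = 1)
    (g : α → Γ) (hg : ∀ x, σ (g x) = PresentedGroup.of x)
    (exactL centL gensL subsL : List (List ℕ))
    (hex : ∀ b ∈ exactL, evc g dec b = 1)
    (hcent : ∀ ρ ∈ centL, wordF dec ρ ∈ R)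
    (n0 : ℕ)
    (hK : Finite (PresentedGroup (relSet dec (exactL ++ weakify p gensL centL)) ⧸
        (Subgroup.closure (relSet dec subsL)).map
          (PresentedGroup.mk (relSet dec (exactL ++ weakify p gensL centL)))) ∧
      Nat.card (PresentedGroup (relSet dec (exactL ++ weakify p gensL centL)) ⧸
        (Subgroup.closure (relSet dec subsL)).map
          (PresentedGroup.mk (relSet dec (exactL ++ weakify p gensL centL)))) ≤ n0)
    {β : Type} {decH : ℕ → Letter β} {encH : β → ℕ} {ncH : ℕ} (hcodH : Coding decH encH ncH)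
    (pwL centHL gensHL : List (List ℕ)) (h : ℕ)
    (hH : Finite (PresentedGroup (relSet decH (pwL ++ weakify p gensHL centHL))) ∧
      Nat.card (PresentedGroup (relSet decH (pwL ++ weakify p gensHL centHL))) ≤ h)
    (υ : β → List ℕ) (hsub : ∀ s ∈ subsL, ∃ k, s = υ k)
    (hpw : ∀ b ∈ pwL, evc (fun k => evc g dec (υ k)) decH b = 1)
    (hcH : ∀ ρ ∈ centHL, evc (fun k => PresentedGroup.mk R (wordF dec (υ k))) decH ρ = 1) :
    Nat.card Γ ≤ n0 * h := by
  classical
  have hσevc : ∀ w, σ (evc g dec w) = PresentedGroup.mk R (wordF dec w) := by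
    intro w
    rw [map_evc, ← evc_of]
    congr 1
    funext x
    exact hg x
  obtain ⟨φ0, hφ0⟩ := exists_hom_weak hcod σ.ker hσ.2.1 p hexp g exactL centL gensL hex
    (fun ρ hρ => by
      rw [MonoidHom.mem_ker, hσevc]
      exact PresentedGroup.one_of_mem (hcent ρ hρ))
  have hφ0w : ∀ w, φ0 (PresentedGroup.mk _ (wordF dec w)) = evc g dec w := by
    intro w
    rw [← evc_of, map_evc]
    congr 1
    funext x
    exact hφ0 x
  have hr : φ0.range = ⊤ := by
    apply eq_top_of_map_eq_top σ hσ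
    rw [eq_top_iff, ← PresentedGroup.closure_range_of R, Subgroup.closure_le]
    rintro _ ⟨x, rfl⟩
    exact ⟨g x, ⟨PresentedGroup.of x, hφ0 x⟩, hg x⟩
  have hsurj : Function.Surjective φ0 := MonoidHom.range_eq_top.mp hr
  set H0 := (Subgroup.closure (relSet dec subsL)).map
    (PresentedGroup.mk (relSet dec (exactL ++ weakify p gensL centL))) with hH0
  have hidx : (H0.map φ0).index ≤ n0 := by
    have h1 : (H0.map φ0).index ∣ H0.index := Subgroup.index_map_dvd H0 hsurj
    haveI := hK.1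
    have h2 : H0.index ≤ n0 := hK.2
    have h3 : H0.index ≠ 0 := by
      rw [Subgroup.index]
      exact Nat.card_pos.ne'
    exact (Nat.le_of_dvd (Nat.pos_of_ne_zero h3) h1).trans h2
  obtain ⟨φ1, hφ1⟩ := exists_hom_weak hcodH σ.ker hσ.2.1 p hexp (fun k => evc g dec (υ k)) pwL
    centHL gensHL hpw
    (fun ρ hρ => by
      rw [MonoidHom.mem_ker, map_evc]
      have h1 : (fun k => σ (evc g dec (υ k))) =
          fun k => PresentedGroup.mk R (wordF dec (υ k)) := funext fun k => hσevc _
      rw [h1]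
      exact hcH ρ hρ)
  have hΔ : H0.map φ0 ≤ φ1.range := by
    rw [hH0, Subgroup.map_map, MonoidHom.map_closure, Subgroup.closure_le]
    rintro _ ⟨r, ⟨s, hs, rfl⟩, rfl⟩
    obtain ⟨k, rfl⟩ := hsub s hs
    refine ⟨PresentedGroup.of k, ?_⟩
    rw [hφ1]
    exact (hφ0w _).symm
  haveI := hH.1
  have hc1 : Nat.card (H0.map φ0 : Subgroup Γ) ≤ h := by
    calc Nat.card (H0.map φ0 : Subgroup Γ) ≤ Nat.card φ1.range := Subgroup.card_le_of_le hΔ
      _ ≤ Nat.card (PresentedGroup (relSet decH (pwL ++ weakify p gensHL centHL))) :=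
        Nat.card_le_card_of_surjective φ1.rangeRestrict φ1.rangeRestrict_surjective
      _ ≤ h := hH.2
  calc Nat.card Γ = (H0.map φ0).index * Nat.card (H0.map φ0 : Subgroup Γ) :=
        ((H0.map φ0).index_mul_card).symm
    _ ≤ n0 * h := Nat.mul_le_mul hidx hc1

end Weak

end Cfsg.Agent.Helper4.TC.Schur
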