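import Cfsg.Agent.Lib.Helper4.TC.Fi23Fi22Data

set_option autoImplicit false
set_option maxRecDepth 100000
set_option linter.unusedVariables false
set_option Elab.async false

namespace Cfsg.Agent.Helper4.TC.Fi23Fi22

open Cfsg.Agent.Helper4.TC

theorem e10_c0 : edgeRange data 10 12868 0 = true := by decide +kernel
theorem e10_c1 : edgeRange data 10 12854 12868 = true := by decide +kernel
theorem e10_c2 : edgeRange data 10 10333 25722 = true := by decide +kernel
theorem e10_c3 : edgeRange data 10 27772 36055 = true := by decide +kernel
theorem e10_c4 : edgeRange data 10 1709 63827 = true := by decide +kernel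

end Cfsg.Agent.Helper4.TC.Fi23Fi22
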