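import Cfsg.Agent.Lib.Helper4.TC.Fi23Fi22Data

set_option autoImplicit false
set_option maxRecDepth 100000
set_option linter.unusedVariables false
set_option Elab.async false

namespace Cfsg.Agent.Helper4.TC.Fi23Fi22

open Cfsg.Agent.Helper4.TC

theorem e2_c0 : edgeRange data 2 12012 0 = true := by decide +kernel
theorem e2_c1 : edgeRange data 2 13542 12012 = true := by decide +kernel
theorem e2_c2 : edgeRange data 2 10188 25554 = true := by decide +kernel
theorem e2_c3 : edgeRange data 2 26276 35742 = true := by decide +kernel
theorem e2_c4 : edgeRange data 2 3518 62018 = true := by decide +kernel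

end Cfsg.Agent.Helper4.TC.Fi23Fi22
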