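import Cfsg.Agent.Lib.Helper4.TC.Fi23Fi22Data

set_option autoImplicit false
set_option maxRecDepth 100000
set_option linter.unusedVariables false
set_option Elab.async false

namespace Cfsg.Agent.Helper4.TC.Fi23Fi22

open Cfsg.Agent.Helper4.TC

theorem cnt0 : countFinal data 42279 0 0 = 31671 := by decide +kernel
theorem rows0 : rowsRange data 42279 834 0 = true := by decide +kernel
theorem rows1 : rowsRange data 42279 900 834 = true := by decide +kernel
theorem rows2 : rowsRange data 42279 1035 1734 = true := by decide +kernel
theorem rows3 : rowsRange data 42279 1125 2769 = true := by decide +kernel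
theorem rows4 : rowsRange data 42279 1074 3894 = true := by decide +kernel
theorem rows5 : rowsRange data 42279 1305 4968 = true := by decide +kernel
theorem rows6 : rowsRange data 42279 1698 6273 = true := by decide +kernel

end Cfsg.Agent.Helper4.TC.Fi23Fi22
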