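import Cfsg.Agent.Lib.Helper4.TC.Fi23Fi22Data

set_option autoImplicit false
set_option maxRecDepth 100000
set_option linter.unusedVariables false
set_option Elab.async false

namespace Cfsg.Agent.Helper4.TC.Fi23Fi22

open Cfsg.Agent.Helper4.TC

theorem rows15 : rowsRange data 42279 1475 21548 = true := by decide +kernel
theorem rows16 : rowsRange data 42279 1347 23023 = true := by decide +kernel
theorem rows17 : rowsRange data 42279 827 24370 = true := by decide +kernel
theorem rows18 : rowsRange data 42279 820 25197 = true := by decide +kernel
theorem rows19 : rowsRange data 42279 820 26017 = true := by decide +kernel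
theorem rows20 : rowsRange data 42279 820 26837 = true := by decide +kernel
theorem rows21 : rowsRange data 42279 820 27657 = true := by decide +kernel
theorem rows22 : rowsRange data 42279 820 28477 = true := by decide +kernel

end Cfsg.Agent.Helper4.TC.Fi23Fi22
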