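import Cfsg.Agent.Lib.Helper4.TC.Fi23Fi22Data

set_option autoImplicit false
set_option maxRecDepth 100000
set_option linter.unusedVariables false
set_option Elab.async false

namespace Cfsg.Agent.Helper4.TC.Fi23Fi22

open Cfsg.Agent.Helper4.TC

theorem rows23 : rowsRange data 42279 820 29297 = true := by decide +kernel
theorem rows24 : rowsRange data 42279 820 30117 = true := by decide +kernel
theorem rows25 : rowsRange data 42279 820 30937 = true := by decide +kernel
theorem rows26 : rowsRange data 42279 820 31757 = true := by decide +kernel
theorem rows27 : rowsRange data 42279 820 32577 = true := by decide +kernel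
theorem rows28 : rowsRange data 42279 820 33397 = true := by decide +kernel
theorem rows29 : rowsRange data 42279 820 34217 = true := by decide +kernel
theorem rows30 : rowsRange data 42279 820 35037 = true := by decide +kernel

end Cfsg.Agent.Helper4.TC.Fi23Fi22
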