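import Cfsg.Agent.Lib.Helper4.TC.Fi23Fi22Data

set_option autoImplicit false
set_option maxRecDepth 100000
set_option linter.unusedVariables false
set_option Elab.async false

namespace Cfsg.Agent.Helper4.TC.Fi23Fi22

open Cfsg.Agent.Helper4.TC

theorem rows31 : rowsRange data 42279 820 35857 = true := by decide +kernel
theorem rows32 : rowsRange data 42279 820 36677 = true := by decide +kernel
theorem rows33 : rowsRange data 42279 820 37497 = true := by decide +kernel
theorem rows34 : rowsRange data 42279 820 38317 = true := by decide +kernel
theorem rows35 : rowsRange data 42279 820 39137 = true := by decide +kernel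
theorem rows36 : rowsRange data 42279 820 39957 = true := by decide +kernel
theorem rows37 : rowsRange data 42279 820 40777 = true := by decide +kernel
theorem rows38 : rowsRange data 42279 682 41597 = true := by decide +kernel

end Cfsg.Agent.Helper4.TC.Fi23Fi22
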