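import Cfsg.Agent.Lib.Helper4.TC.Fi23Fi22Model
import Cfsg.Agent.Lib.Helper4.TC.Fi23Fi22Data

set_option autoImplicit false
set_option maxRecDepth 100000
set_option linter.unusedVariables false
set_option Elab.async false

namespace Cfsg.Agent.Helper4.TC.Fi23Fi22

open Cfsg.Agent.Helper4.TC

theorem rel80 : relsRange mdata bases 140 11200 = true := by decide +kernel
theorem rel81 : relsRange mdata bases 140 11340 = true := by decide +kernel
theorem rel82 : relsRange mdata bases 140 11480 = true := by decide +kernel
theorem rel83 : relsRange mdata bases 140 11620 = true := by decide +kernel
theorem rel84 : relsRange mdata bases 140 11760 = true := by decide +kernel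
theorem rel85 : relsRange mdata bases 140 11900 = true := by decide +kernel
theorem rel86 : relsRange mdata bases 140 12040 = true := by decide +kernel
theorem rel87 : relsRange mdata bases 140 12180 = true := by decide +kernel

end Cfsg.Agent.Helper4.TC.Fi23Fi22
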