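import Cfsg.Agent.Lib.Helper4.TC.Fi23Fi22Model
import Cfsg.Agent.Lib.Helper4.TC.Fi23Fi22Data

set_option autoImplicit false
set_option maxRecDepth 100000
set_option linter.unusedVariables false
set_option Elab.async false

namespace Cfsg.Agent.Helper4.TC.Fi23Fi22

open Cfsg.Agent.Helper4.TC

theorem rel96 : relsRange mdata bases 140 13440 = true := by decide +kernel
theorem rel97 : relsRange mdata bases 140 13580 = true := by decide +kernel
theorem rel98 : relsRange mdata bases 140 13720 = true := by decide +kernel
theorem rel99 : relsRange mdata bases 140 13860 = true := by decide +kernel
theorem rel100 : relsRange mdata bases 140 14000 = true := by decide +kernel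
theorem rel101 : relsRange mdata bases 140 14140 = true := by decide +kernel
theorem rel102 : relsRange mdata bases 140 14280 = true := by decide +kernel
theorem rel103 : relsRange mdata bases 140 14420 = true := by decide +kernel

end Cfsg.Agent.Helper4.TC.Fi23Fi22
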