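import Cfsg.Agent.Lib.Helper4.TC.Fi23Fi22Model
import Cfsg.Agent.Lib.Helper4.TC.Fi23Fi22Data

set_option autoImplicit false
set_option maxRecDepth 100000
set_option linter.unusedVariables false
set_option Elab.async false

namespace Cfsg.Agent.Helper4.TC.Fi23Fi22

open Cfsg.Agent.Helper4.TC

theorem rel104 : relsRange mdata bases 140 14560 = true := by decide +kernel
theorem rel105 : relsRange mdata bases 140 14700 = true := by decide +kernel
theorem rel106 : relsRange mdata bases 140 14840 = true := by decide +kernel
theorem rel107 : relsRange mdata bases 140 14980 = true := by decide +kernel
theorem rel108 : relsRange mdata bases 140 15120 = true := by decide +kernel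
theorem rel109 : relsRange mdata bases 140 15260 = true := by decide +kernel
theorem rel110 : relsRange mdata bases 140 15400 = true := by decide +kernel
theorem rel111 : relsRange mdata bases 140 15540 = true := by decide +kernel

end Cfsg.Agent.Helper4.TC.Fi23Fi22
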