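import Cfsg.Agent.Lib.Helper4.TC.Fi23Fi22Model
import Cfsg.Agent.Lib.Helper4.TC.Fi23Fi22Data

set_option autoImplicit false
set_option maxRecDepth 100000
set_option linter.unusedVariables false
set_option Elab.async false

namespace Cfsg.Agent.Helper4.TC.Fi23Fi22

open Cfsg.Agent.Helper4.TC

theorem rel112 : relsRange mdata bases 140 15680 = true := by decide +kernel
theorem rel113 : relsRange mdata bases 140 15820 = true := by decide +kernel
theorem rel114 : relsRange mdata bases 140 15960 = true := by decide +kernel
theorem rel115 : relsRange mdata bases 140 16100 = true := by decide +kernel
theorem rel116 : relsRange mdata bases 140 16240 = true := by decide +kernel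
theorem rel117 : relsRange mdata bases 140 16380 = true := by decide +kernel
theorem rel118 : relsRange mdata bases 140 16520 = true := by decide +kernel
theorem rel119 : relsRange mdata bases 140 16660 = true := by decide +kernel

end Cfsg.Agent.Helper4.TC.Fi23Fi22
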