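import Cfsg.Agent.Lib.Helper4.TC.Fi23Fi22Model
import Cfsg.Agent.Lib.Helper4.TC.Fi23Fi22Data

set_option autoImplicit false
set_option maxRecDepth 100000
set_option linter.unusedVariables false
set_option Elab.async false

namespace Cfsg.Agent.Helper4.TC.Fi23Fi22

open Cfsg.Agent.Helper4.TC

theorem rel120 : relsRange mdata bases 140 16800 = true := by decide +kernel
theorem rel121 : relsRange mdata bases 140 16940 = true := by decide +kernel
theorem rel122 : relsRange mdata bases 140 17080 = true := by decide +kernel
theorem rel123 : relsRange mdata bases 140 17220 = true := by decide +kernel
theorem rel124 : relsRange mdata bases 140 17360 = true := by decide +kernel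
theorem rel125 : relsRange mdata bases 140 17500 = true := by decide +kernel
theorem rel126 : relsRange mdata bases 140 17640 = true := by decide +kernel
theorem rel127 : relsRange mdata bases 140 17780 = true := by decide +kernel

end Cfsg.Agent.Helper4.TC.Fi23Fi22
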