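import Cfsg.Agent.Lib.Helper4.TC.Fi23Fi22Model
import Cfsg.Agent.Lib.Helper4.TC.Fi23Fi22Data

set_option autoImplicit false
set_option maxRecDepth 100000
set_option linter.unusedVariables false
set_option Elab.async false

namespace Cfsg.Agent.Helper4.TC.Fi23Fi22

open Cfsg.Agent.Helper4.TC

theorem rel128 : relsRange mdata bases 140 17920 = true := by decide +kernel
theorem rel129 : relsRange mdata bases 140 18060 = true := by decide +kernel
theorem rel130 : relsRange mdata bases 140 18200 = true := by decide +kernel
theorem rel131 : relsRange mdata bases 140 18340 = true := by decide +kernel
theorem rel132 : relsRange mdata bases 140 18480 = true := by decide +kernel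
theorem rel133 : relsRange mdata bases 140 18620 = true := by decide +kernel
theorem rel134 : relsRange mdata bases 140 18760 = true := by decide +kernel
theorem rel135 : relsRange mdata bases 140 18900 = true := by decide +kernel

end Cfsg.Agent.Helper4.TC.Fi23Fi22
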