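import Cfsg.Agent.Lib.Helper4.TC.Fi23Fi22Model
import Cfsg.Agent.Lib.Helper4.TC.Fi23Fi22Data

set_option autoImplicit false
set_option maxRecDepth 100000
set_option linter.unusedVariables false
set_option Elab.async false

namespace Cfsg.Agent.Helper4.TC.Fi23Fi22

open Cfsg.Agent.Helper4.TC

theorem rel136 : relsRange mdata bases 140 19040 = true := by decide +kernel
theorem rel137 : relsRange mdata bases 140 19180 = true := by decide +kernel
theorem rel138 : relsRange mdata bases 140 19320 = true := by decide +kernel
theorem rel139 : relsRange mdata bases 140 19460 = true := by decide +kernel
theorem rel140 : relsRange mdata bases 140 19600 = true := by decide +kernel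
theorem rel141 : relsRange mdata bases 140 19740 = true := by decide +kernel
theorem rel142 : relsRange mdata bases 140 19880 = true := by decide +kernel
theorem rel143 : relsRange mdata bases 140 20020 = true := by decide +kernel

end Cfsg.Agent.Helper4.TC.Fi23Fi22
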