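import Cfsg.Agent.Lib.Helper4.TC.Fi23Fi22Model
import Cfsg.Agent.Lib.Helper4.TC.Fi23Fi22Data

set_option autoImplicit false
set_option maxRecDepth 100000
set_option linter.unusedVariables false
set_option Elab.async false

namespace Cfsg.Agent.Helper4.TC.Fi23Fi22

open Cfsg.Agent.Helper4.TC

theorem rel144 : relsRange mdata bases 140 20160 = true := by decide +kernel
theorem rel145 : relsRange mdata bases 140 20300 = true := by decide +kernel
theorem rel146 : relsRange mdata bases 140 20440 = true := by decide +kernel
theorem rel147 : relsRange mdata bases 140 20580 = true := by decide +kernel
theorem rel148 : relsRange mdata bases 140 20720 = true := by decide +kernel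
theorem rel149 : relsRange mdata bases 140 20860 = true := by decide +kernel
theorem rel150 : relsRange mdata bases 140 21000 = true := by decide +kernel
theorem rel151 : relsRange mdata bases 140 21140 = true := by decide +kernel

end Cfsg.Agent.Helper4.TC.Fi23Fi22
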