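import Cfsg.Agent.Lib.Helper4.TC.Fi23Fi22Model
import Cfsg.Agent.Lib.Helper4.TC.Fi23Fi22Data

set_option autoImplicit false
set_option maxRecDepth 100000
set_option linter.unusedVariables false
set_option Elab.async false

namespace Cfsg.Agent.Helper4.TC.Fi23Fi22

open Cfsg.Agent.Helper4.TC

theorem rel16 : relsRange mdata bases 140 2240 = true := by decide +kernel
theorem rel17 : relsRange mdata bases 140 2380 = true := by decide +kernel
theorem rel18 : relsRange mdata bases 140 2520 = true := by decide +kernel
theorem rel19 : relsRange mdata bases 140 2660 = true := by decide +kernel
theorem rel20 : relsRange mdata bases 140 2800 = true := by decide +kernel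
theorem rel21 : relsRange mdata bases 140 2940 = true := by decide +kernel
theorem rel22 : relsRange mdata bases 140 3080 = true := by decide +kernel
theorem rel23 : relsRange mdata bases 140 3220 = true := by decide +kernel

end Cfsg.Agent.Helper4.TC.Fi23Fi22
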