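import Cfsg.Agent.Lib.Helper4.TC.Fi23Fi22Model
import Cfsg.Agent.Lib.Helper4.TC.Fi23Fi22Data

set_option autoImplicit false
set_option maxRecDepth 100000
set_option linter.unusedVariables false
set_option Elab.async false

namespace Cfsg.Agent.Helper4.TC.Fi23Fi22

open Cfsg.Agent.Helper4.TC

theorem rel160 : relsRange mdata bases 140 22400 = true := by decide +kernel
theorem rel161 : relsRange mdata bases 140 22540 = true := by decide +kernel
theorem rel162 : relsRange mdata bases 140 22680 = true := by decide +kernel
theorem rel163 : relsRange mdata bases 140 22820 = true := by decide +kernel
theorem rel164 : relsRange mdata bases 140 22960 = true := by decide +kernel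
theorem rel165 : relsRange mdata bases 140 23100 = true := by decide +kernel
theorem rel166 : relsRange mdata bases 140 23240 = true := by decide +kernel
theorem rel167 : relsRange mdata bases 140 23380 = true := by decide +kernel

end Cfsg.Agent.Helper4.TC.Fi23Fi22
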