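import Cfsg.Agent.Lib.Helper4.TC.Fi23Fi22Model
import Cfsg.Agent.Lib.Helper4.TC.Fi23Fi22Data

set_option autoImplicit false
set_option maxRecDepth 100000
set_option linter.unusedVariables false
set_option Elab.async false

namespace Cfsg.Agent.Helper4.TC.Fi23Fi22

open Cfsg.Agent.Helper4.TC

theorem rel168 : relsRange mdata bases 140 23520 = true := by decide +kernel
theorem rel169 : relsRange mdata bases 140 23660 = true := by decide +kernel
theorem rel170 : relsRange mdata bases 140 23800 = true := by decide +kernel
theorem rel171 : relsRange mdata bases 140 23940 = true := by decide +kernel
theorem rel172 : relsRange mdata bases 140 24080 = true := by decide +kernel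
theorem rel173 : relsRange mdata bases 140 24220 = true := by decide +kernel
theorem rel174 : relsRange mdata bases 140 24360 = true := by decide +kernel
theorem rel175 : relsRange mdata bases 140 24500 = true := by decide +kernel

end Cfsg.Agent.Helper4.TC.Fi23Fi22
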