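import Cfsg.Agent.Lib.Helper4.TC.Fi23Fi22Model
import Cfsg.Agent.Lib.Helper4.TC.Fi23Fi22Data

set_option autoImplicit false
set_option maxRecDepth 100000
set_option linter.unusedVariables false
set_option Elab.async false

namespace Cfsg.Agent.Helper4.TC.Fi23Fi22

open Cfsg.Agent.Helper4.TC

theorem rel184 : relsRange mdata bases 140 25760 = true := by decide +kernel
theorem rel185 : relsRange mdata bases 140 25900 = true := by decide +kernel
theorem rel186 : relsRange mdata bases 140 26040 = true := by decide +kernel
theorem rel187 : relsRange mdata bases 140 26180 = true := by decide +kernel
theorem rel188 : relsRange mdata bases 140 26320 = true := by decide +kernel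
theorem rel189 : relsRange mdata bases 140 26460 = true := by decide +kernel
theorem rel190 : relsRange mdata bases 140 26600 = true := by decide +kernel
theorem rel191 : relsRange mdata bases 140 26740 = true := by decide +kernel

end Cfsg.Agent.Helper4.TC.Fi23Fi22
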