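import Cfsg.Agent.Lib.Helper4.TC.Fi23Fi22Model
import Cfsg.Agent.Lib.Helper4.TC.Fi23Fi22Data

set_option autoImplicit false
set_option maxRecDepth 100000
set_option linter.unusedVariables false
set_option Elab.async false

namespace Cfsg.Agent.Helper4.TC.Fi23Fi22

open Cfsg.Agent.Helper4.TC

theorem rel192 : relsRange mdata bases 140 26880 = true := by decide +kernel
theorem rel193 : relsRange mdata bases 140 27020 = true := by decide +kernel
theorem rel194 : relsRange mdata bases 140 27160 = true := by decide +kernel
theorem rel195 : relsRange mdata bases 140 27300 = true := by decide +kernel
theorem rel196 : relsRange mdata bases 140 27440 = true := by decide +kernel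
theorem rel197 : relsRange mdata bases 140 27580 = true := by decide +kernel
theorem rel198 : relsRange mdata bases 140 27720 = true := by decide +kernel
theorem rel199 : relsRange mdata bases 140 27860 = true := by decide +kernel

end Cfsg.Agent.Helper4.TC.Fi23Fi22
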