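import Cfsg.Agent.Lib.Helper4.TC.Fi23Fi22Model
import Cfsg.Agent.Lib.Helper4.TC.Fi23Fi22Data

set_option autoImplicit false
set_option maxRecDepth 100000
set_option linter.unusedVariables false
set_option Elab.async false

namespace Cfsg.Agent.Helper4.TC.Fi23Fi22

open Cfsg.Agent.Helper4.TC

theorem rel200 : relsRange mdata bases 140 28000 = true := by decide +kernel
theorem rel201 : relsRange mdata bases 140 28140 = true := by decide +kernel
theorem rel202 : relsRange mdata bases 140 28280 = true := by decide +kernel
theorem rel203 : relsRange mdata bases 140 28420 = true := by decide +kernel
theorem rel204 : relsRange mdata bases 140 28560 = true := by decide +kernel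
theorem rel205 : relsRange mdata bases 140 28700 = true := by decide +kernel
theorem rel206 : relsRange mdata bases 140 28840 = true := by decide +kernel
theorem rel207 : relsRange mdata bases 140 28980 = true := by decide +kernel

end Cfsg.Agent.Helper4.TC.Fi23Fi22
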