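import Cfsg.Agent.Lib.Helper4.TC.Fi23Fi22Model
import Cfsg.Agent.Lib.Helper4.TC.Fi23Fi22Data

set_option autoImplicit false
set_option maxRecDepth 100000
set_option linter.unusedVariables false
set_option Elab.async false

namespace Cfsg.Agent.Helper4.TC.Fi23Fi22

open Cfsg.Agent.Helper4.TC

theorem rel216 : relsRange mdata bases 140 30240 = true := by decide +kernel
theorem rel217 : relsRange mdata bases 140 30380 = true := by decide +kernel
theorem rel218 : relsRange mdata bases 140 30520 = true := by decide +kernel
theorem rel219 : relsRange mdata bases 140 30660 = true := by decide +kernel
theorem rel220 : relsRange mdata bases 140 30800 = true := by decide +kernel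
theorem rel221 : relsRange mdata bases 140 30940 = true := by decide +kernel
theorem rel222 : relsRange mdata bases 140 31080 = true := by decide +kernel
theorem rel223 : relsRange mdata bases 140 31220 = true := by decide +kernel

end Cfsg.Agent.Helper4.TC.Fi23Fi22
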