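import Cfsg.Agent.Lib.Helper4.TC.Fi23Fi22Model
import Cfsg.Agent.Lib.Helper4.TC.Fi23Fi22Data

set_option autoImplicit false
set_option maxRecDepth 100000
set_option linter.unusedVariables false
set_option Elab.async false

namespace Cfsg.Agent.Helper4.TC.Fi23Fi22

open Cfsg.Agent.Helper4.TC

theorem rel224 : relsRange mdata bases 140 31360 = true := by decide +kernel
theorem rel225 : relsRange mdata bases 140 31500 = true := by decide +kernel
theorem rel226 : relsRange mdata bases 31 31640 = true := by decide +kernel
theorem inv0 : invRange mdata 1333 0 = true := by decide +kernel
theorem inv1 : invRange mdata 1333 1333 = true := by decide +kernel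
theorem inv2 : invRange mdata 1333 2666 = true := by decide +kernel
theorem inv3 : invRange mdata 1333 3999 = true := by decide +kernel
theorem inv4 : invRange mdata 1333 5332 = true := by decide +kernel

end Cfsg.Agent.Helper4.TC.Fi23Fi22
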