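import Cfsg.Agent.Lib.Helper4.TC.Fi23Fi22Model
import Cfsg.Agent.Lib.Helper4.TC.Fi23Fi22Data

set_option autoImplicit false
set_option maxRecDepth 100000
set_option linter.unusedVariables false
set_option Elab.async false

namespace Cfsg.Agent.Helper4.TC.Fi23Fi22

open Cfsg.Agent.Helper4.TC

theorem inv5 : invRange mdata 1333 6665 = true := by decide +kernel
theorem inv6 : invRange mdata 1333 7998 = true := by decide +kernel
theorem inv7 : invRange mdata 1333 9331 = true := by decide +kernel
theorem inv8 : invRange mdata 1333 10664 = true := by decide +kernel
theorem inv9 : invRange mdata 1333 11997 = true := by decide +kernel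
theorem inv10 : invRange mdata 1333 13330 = true := by decide +kernel
theorem inv11 : invRange mdata 1333 14663 = true := by decide +kernel
theorem inv12 : invRange mdata 1333 15996 = true := by decide +kernel

end Cfsg.Agent.Helper4.TC.Fi23Fi22
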