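import Cfsg.Agent.Lib.Helper4.TC.Fi23Fi22Model
import Cfsg.Agent.Lib.Helper4.TC.Fi23Fi22Data

set_option autoImplicit false
set_option maxRecDepth 100000
set_option linter.unusedVariables false
set_option Elab.async false

namespace Cfsg.Agent.Helper4.TC.Fi23Fi22

open Cfsg.Agent.Helper4.TC

theorem inv13 : invRange mdata 1333 17329 = true := by decide +kernel
theorem inv14 : invRange mdata 1333 18662 = true := by decide +kernel
theorem inv15 : invRange mdata 1333 19995 = true := by decide +kernel
theorem inv16 : invRange mdata 1333 21328 = true := by decide +kernel
theorem inv17 : invRange mdata 1333 22661 = true := by decide +kernel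
theorem inv18 : invRange mdata 1333 23994 = true := by decide +kernel
theorem inv19 : invRange mdata 1333 25327 = true := by decide +kernel
theorem inv20 : invRange mdata 1333 26660 = true := by decide +kernel

end Cfsg.Agent.Helper4.TC.Fi23Fi22
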