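import Cfsg.Agent.Lib.Helper4.TC.Fi23Fi22Model
import Cfsg.Agent.Lib.Helper4.TC.Fi23Fi22Data

set_option autoImplicit false
set_option maxRecDepth 100000
set_option linter.unusedVariables false
set_option Elab.async false

namespace Cfsg.Agent.Helper4.TC.Fi23Fi22

open Cfsg.Agent.Helper4.TC

theorem inv21 : invRange mdata 1333 27993 = true := by decide +kernel
theorem inv22 : invRange mdata 1333 29326 = true := by decide +kernel
theorem inv23 : invRange mdata 1012 30659 = true := by decide +kernel
theorem tree0 : treeRange mdata 13333 1 = true := by decide +kernel
theorem tree1 : treeRange mdata 13333 13334 = true := by decide +kernel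
theorem tree2 : treeRange mdata 5004 26667 = true := by decide +kernel
theorem closed1_0 : closedRange mdata subsL 1 28161 4444 1 = true := by decide +kernel
theorem closed1_1 : closedRange mdata subsL 1 28161 4444 4445 = true := by decide +kernel

end Cfsg.Agent.Helper4.TC.Fi23Fi22
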