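import Cfsg.Agent.Lib.Helper4.TC.Fi23Fi22Model
import Cfsg.Agent.Lib.Helper4.TC.Fi23Fi22Data

set_option autoImplicit false
set_option maxRecDepth 100000
set_option linter.unusedVariables false
set_option Elab.async false

namespace Cfsg.Agent.Helper4.TC.Fi23Fi22

open Cfsg.Agent.Helper4.TC

theorem closed1_2 : closedRange mdata subsL 1 28161 4444 8889 = true := by decide +kernel
theorem closed1_3 : closedRange mdata subsL 1 28161 4444 13333 = true := by decide +kernel
theorem closed1_4 : closedRange mdata subsL 1 28161 4444 17777 = true := by decide +kernel
theorem closed1_5 : closedRange mdata subsL 1 28161 4444 22221 = true := by decide +kernel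
theorem closed1_6 : closedRange mdata subsL 1 28161 1496 26665 = true := by decide +kernel
theorem reach1_0 : reachRange mdata subsL 1 16000 2 = true := by decide +kernel
theorem reach1_1 : reachRange mdata subsL 1 12159 16002 = true := by decide +kernel
theorem closed2_0 : closedRange mdata subsL 28161 31671 3510 28161 = true := by decide +kernel

end Cfsg.Agent.Helper4.TC.Fi23Fi22
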