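import Cfsg.Agent.Lib.Helper4.TC.Fi23Fi22Model
import Cfsg.Agent.Lib.Helper4.TC.Fi23Fi22Data

set_option autoImplicit false
set_option maxRecDepth 100000
set_option linter.unusedVariables false
set_option Elab.async false

namespace Cfsg.Agent.Helper4.TC.Fi23Fi22

open Cfsg.Agent.Helper4.TC

theorem reach2_0 : reachRange mdata subsL 28161 3509 28162 = true := by decide +kernel
theorem sub0_ok : sub0OK mdata subsL = true := by decide +kernel
theorem relc_ok : wordsLettersOK 20 bases = true := by decide +kernel
theorem subc_ok : wordsLettersOK 20 subsL = true := by decide +kernel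

end Cfsg.Agent.Helper4.TC.Fi23Fi22
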