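import Cfsg.Agent.Lib.Helper4.TC.Fi23Fi22Model
import Cfsg.Agent.Lib.Helper4.TC.Fi23Fi22Data

set_option autoImplicit false
set_option maxRecDepth 100000
set_option linter.unusedVariables false
set_option Elab.async false

namespace Cfsg.Agent.Helper4.TC.Fi23Fi22

open Cfsg.Agent.Helper4.TC

theorem rel48 : relsRange mdata bases 140 6720 = true := by decide +kernel
theorem rel49 : relsRange mdata bases 140 6860 = true := by decide +kernel
theorem rel50 : relsRange mdata bases 140 7000 = true := by decide +kernel
theorem rel51 : relsRange mdata bases 140 7140 = true := by decide +kernel
theorem rel52 : relsRange mdata bases 140 7280 = true := by decide +kernel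
theorem rel53 : relsRange mdata bases 140 7420 = true := by decide +kernel
theorem rel54 : relsRange mdata bases 140 7560 = true := by decide +kernel
theorem rel55 : relsRange mdata bases 140 7700 = true := by decide +kernel

end Cfsg.Agent.Helper4.TC.Fi23Fi22
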