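import Cfsg.Agent.Lib.Helper4.TC.Fi23Fi22Model
import Cfsg.Agent.Lib.Helper4.TC.Fi23Fi22Data

set_option autoImplicit false
set_option maxRecDepth 100000
set_option linter.unusedVariables false
set_option Elab.async false

namespace Cfsg.Agent.Helper4.TC.Fi23Fi22

open Cfsg.Agent.Helper4.TC

theorem rel56 : relsRange mdata bases 140 7840 = true := by decide +kernel
theorem rel57 : relsRange mdata bases 140 7980 = true := by decide +kernel
theorem rel58 : relsRange mdata bases 140 8120 = true := by decide +kernel
theorem rel59 : relsRange mdata bases 140 8260 = true := by decide +kernel
theorem rel60 : relsRange mdata bases 140 8400 = true := by decide +kernel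
theorem rel61 : relsRange mdata bases 140 8540 = true := by decide +kernel
theorem rel62 : relsRange mdata bases 140 8680 = true := by decide +kernel
theorem rel63 : relsRange mdata bases 140 8820 = true := by decide +kernel

end Cfsg.Agent.Helper4.TC.Fi23Fi22
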