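import Cfsg.Agent.Lib.Helper4.TC.Fi23Fi22Model
import Cfsg.Agent.Lib.Helper4.TC.Fi23Fi22Data

set_option autoImplicit false
set_option maxRecDepth 100000
set_option linter.unusedVariables false
set_option Elab.async false

namespace Cfsg.Agent.Helper4.TC.Fi23Fi22

open Cfsg.Agent.Helper4.TC

theorem rel64 : relsRange mdata bases 140 8960 = true := by decide +kernel
theorem rel65 : relsRange mdata bases 140 9100 = true := by decide +kernel
theorem rel66 : relsRange mdata bases 140 9240 = true := by decide +kernel
theorem rel67 : relsRange mdata bases 140 9380 = true := by decide +kernel
theorem rel68 : relsRange mdata bases 140 9520 = true := by decide +kernel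
theorem rel69 : relsRange mdata bases 140 9660 = true := by decide +kernel
theorem rel70 : relsRange mdata bases 140 9800 = true := by decide +kernel
theorem rel71 : relsRange mdata bases 140 9940 = true := by decide +kernel

end Cfsg.Agent.Helper4.TC.Fi23Fi22
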