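import Cfsg.Agent.Lib.Helper4.TC.Fi23Fi22Model
import Cfsg.Agent.Lib.Helper4.TC.Fi23Fi22Data

set_option autoImplicit false
set_option maxRecDepth 100000
set_option linter.unusedVariables false
set_option Elab.async false

namespace Cfsg.Agent.Helper4.TC.Fi23Fi22

open Cfsg.Agent.Helper4.TC

theorem rel72 : relsRange mdata bases 140 10080 = true := by decide +kernel
theorem rel73 : relsRange mdata bases 140 10220 = true := by decide +kernel
theorem rel74 : relsRange mdata bases 140 10360 = true := by decide +kernel
theorem rel75 : relsRange mdata bases 140 10500 = true := by decide +kernel
theorem rel76 : relsRange mdata bases 140 10640 = true := by decide +kernel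
theorem rel77 : relsRange mdata bases 140 10780 = true := by decide +kernel
theorem rel78 : relsRange mdata bases 140 10920 = true := by decide +kernel
theorem rel79 : relsRange mdata bases 140 11060 = true := by decide +kernel

end Cfsg.Agent.Helper4.TC.Fi23Fi22
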