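import Cfsg.Agent.Lib.Helper4.TC.Std
import Cfsg.Agent.Lib.Helper4.TC.Fi23Fi22Fin
import Cfsg.Agent.Lib.Helper4.TC.Fi23Fi22CM
import Cfsg.Agent.Lib.Helper4.TC.Fi23Fi22CE0
import Cfsg.Agent.Lib.Helper4.TC.Fi23Fi22CE1
import Cfsg.Agent.Lib.Helper4.TC.Fi23Fi22CE2
import Cfsg.Agent.Lib.Helper4.TC.Fi23Fi22CE3
import Cfsg.Agent.Lib.Helper4.TC.Fi23Fi22CE4
import Cfsg.Agent.Lib.Helper4.TC.Fi23Fi22CE5
import Cfsg.Agent.Lib.Helper4.TC.Fi23Fi22CE6
import Cfsg.Agent.Lib.Helper4.TC.Fi23Fi22CE7
import Cfsg.Agent.Lib.Helper4.TC.Fi23Fi22CE8
import Cfsg.Agent.Lib.Helper4.TC.Fi23Fi22CE9
import Cfsg.Agent.Lib.Helper4.TC.Fi23Fi22CE10
import Cfsg.Agent.Lib.Helper4.TC.Fi23Fi22CE11
import Cfsg.Agent.Lib.Helper4.TC.Fi23Fi22CE12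
import Cfsg.Agent.Lib.Helper4.TC.Fi23Fi22CE13
import Cfsg.Agent.Lib.Helper4.TC.Fi23Fi22CE14
import Cfsg.Agent.Lib.Helper4.TC.Fi23Fi22CE15
import Cfsg.Agent.Lib.Helper4.TC.Fi23Fi22CE16
import Cfsg.Agent.Lib.Helper4.TC.Fi23Fi22CE17
import Cfsg.Agent.Lib.Helper4.TC.Fi23Fi22CE18
import Cfsg.Agent.Lib.Helper4.TC.Fi23Fi22CE19
import Cfsg.Agent.Lib.Helper4.TC.Fi23Fi22CF0
import Cfsg.Agent.Lib.Helper4.TC.Fi23Fi22CF1
import Cfsg.Agent.Lib.Helper4.TC.Fi23Fi22CF2
import Cfsg.Agent.Lib.Helper4.TC.Fi23Fi22CF3
import Cfsg.Agent.Lib.Helper4.TC.Fi23Fi22CF4
import Cfsg.Agent.Lib.Helper4.TC.Fi23Fi22MC0
import Cfsg.Agent.Lib.Helper4.TC.Fi23Fi22MC1
import Cfsg.Agent.Lib.Helper4.TC.Fi23Fi22MC2
import Cfsg.Agent.Lib.Helper4.TC.Fi23Fi22MC3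
import Cfsg.Agent.Lib.Helper4.TC.Fi23Fi22MC4
import Cfsg.Agent.Lib.Helper4.TC.Fi23Fi22MC5
import Cfsg.Agent.Lib.Helper4.TC.Fi23Fi22MC6
import Cfsg.Agent.Lib.Helper4.TC.Fi23Fi22MC7
import Cfsg.Agent.Lib.Helper4.TC.Fi23Fi22MC8
import Cfsg.Agent.Lib.Helper4.TC.Fi23Fi22MC9
import Cfsg.Agent.Lib.Helper4.TC.Fi23Fi22MC10
import Cfsg.Agent.Lib.Helper4.TC.Fi23Fi22MC11
import Cfsg.Agent.Lib.Helper4.TC.Fi23Fi22MC12
import Cfsg.Agent.Lib.Helper4.TC.Fi23Fi22MC13
import Cfsg.Agent.Lib.Helper4.TC.Fi23Fi22MC14
import Cfsg.Agent.Lib.Helper4.TC.Fi23Fi22MC15
import Cfsg.Agent.Lib.Helper4.TC.Fi23Fi22MC16
import Cfsg.Agent.Lib.Helper4.TC.Fi23Fi22MC17
import Cfsg.Agent.Lib.Helper4.TC.Fi23Fi22MC18
import Cfsg.Agent.Lib.Helper4.TC.Fi23Fi22MC19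
import Cfsg.Agent.Lib.Helper4.TC.Fi23Fi22MC20
import Cfsg.Agent.Lib.Helper4.TC.Fi23Fi22MC21
import Cfsg.Agent.Lib.Helper4.TC.Fi23Fi22MC22
import Cfsg.Agent.Lib.Helper4.TC.Fi23Fi22MC23
import Cfsg.Agent.Lib.Helper4.TC.Fi23Fi22MC24
import Cfsg.Agent.Lib.Helper4.TC.Fi23Fi22MC25
import Cfsg.Agent.Lib.Helper4.TC.Fi23Fi22MC26
import Cfsg.Agent.Lib.Helper4.TC.Fi23Fi22MC27
import Cfsg.Agent.Lib.Helper4.TC.Fi23Fi22MC28
import Cfsg.Agent.Lib.Helper4.TC.Fi23Fi22MC29
import Cfsg.Agent.Lib.Helper4.TC.Fi23Fi22MC30
import Cfsg.Agent.Lib.Helper4.TC.Fi23Fi22MC31
import Cfsg.Agent.Lib.Helper4.TC.Fi23Fi22MC32
import Cfsg.Agent.Lib.Helper4.TC.Fi23Fi22MC33
import Cfsg.Prelude.Def_Spor_Fi23

set_option autoImplicit false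
set_option maxRecDepth 100000
set_option linter.unusedVariables false

namespace Cfsg.Agent.Helper4.TC.Fi23Fi22

open Cfsg.Agent.Helper4.TC

def gens : List Cfsg.Spor.Fi23.Gen := [.a, .b, .c, .d, .e, .f, .g, .j, .h, .i]

abbrev dec : ℕ → Letter Cfsg.Spor.Fi23.Gen := stdDec gens .a
abbrev enc : Cfsg.Spor.Fi23.Gen → ℕ := stdEnc gens

theorem coding : Coding dec enc 20 :=
  std_coding gens .a (by decide) (by intro x; cases x <;> decide) 20 (by decide)

theorem allE0 : ∀ k, k < 65536 → justE data 0 k = true := by
  intro k hk
  by_cases hh1 : k < 25100
  · skip
    by_cases hh2 : k < 11871
    · skip
      exact edgeRange_sound data 0 11871 0 e0_c0 k (by omega) (by omega)
    · skip
      exact edgeRange_sound data 0 13229 11871 e0_c1 k (by omega) (by omega)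
  · skip
    by_cases hh3 : k < 35101
    · skip
      exact edgeRange_sound data 0 10001 25100 e0_c2 k (by omega) (by omega)
    · skip
      by_cases hh4 : k < 59413
      · skip
        exact edgeRange_sound data 0 24312 35101 e0_c3 k (by omega) (by omega)
      · skip
        exact edgeRange_sound data 0 6123 59413 e0_c4 k (by omega) (by omega)

theorem allE1 : ∀ k, k < 65536 → justE data 1 k = true := by
  intro k hk
  by_cases hh1 : k < 18653
  · skip
    exact edgeRange_sound data 1 18653 0 e1_c0 k (by omega) (by omega)
  · skip
    by_cases hh2 : k < 36111
    · skip
      exact edgeRange_sound data 1 17458 18653 e1_c1 k (by omega) (by omega)
    · skip
      exact edgeRange_sound data 1 29425 36111 e1_c2 k (by omega) (by omega)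

theorem allE2 : ∀ k, k < 65536 → justE data 2 k = true := by
  intro k hk
  by_cases hh1 : k < 25554
  · skip
    by_cases hh2 : k < 12012
    · skip
      exact edgeRange_sound data 2 12012 0 e2_c0 k (by omega) (by omega)
    · skip
      exact edgeRange_sound data 2 13542 12012 e2_c1 k (by omega) (by omega)
  · skip
    by_cases hh3 : k < 35742
    · skip
      exact edgeRange_sound data 2 10188 25554 e2_c2 k (by omega) (by omega)
    · skip
      by_cases hh4 : k < 62018
      · skip
        exact edgeRange_sound data 2 26276 35742 e2_c3 k (by omega) (by omega)
      · skip
        exact edgeRange_sound data 2 3518 62018 e2_c4 k (by omega) (by omega)

theorem allE3 : ∀ k, k < 65536 → justE data 3 k = true := by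
  intro k hk
  by_cases hh1 : k < 18808
  · skip
    exact edgeRange_sound data 3 18808 0 e3_c0 k (by omega) (by omega)
  · skip
    by_cases hh2 : k < 36441
    · skip
      exact edgeRange_sound data 3 17633 18808 e3_c1 k (by omega) (by omega)
    · skip
      exact edgeRange_sound data 3 29095 36441 e3_c2 k (by omega) (by omega)

theorem allE4 : ∀ k, k < 65536 → justE data 4 k = true := by
  intro k hk
  by_cases hh1 : k < 25611
  · skip
    by_cases hh2 : k < 12125
    · skip
      exact edgeRange_sound data 4 12125 0 e4_c0 k (by omega) (by omega)
    · skip
      exact edgeRange_sound data 4 13486 12125 e4_c1 k (by omega) (by omega)
  · skip
    by_cases hh3 : k < 36036
    · skip
      exact edgeRange_sound data 4 10425 25611 e4_c2 k (by omega) (by omega)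
    · skip
      by_cases hh4 : k < 62453
      · skip
        exact edgeRange_sound data 4 26417 36036 e4_c3 k (by omega) (by omega)
      · skip
        exact edgeRange_sound data 4 3083 62453 e4_c4 k (by omega) (by omega)

theorem allE5 : ∀ k, k < 65536 → justE data 5 k = true := by
  intro k hk
  by_cases hh1 : k < 18771
  · skip
    exact edgeRange_sound data 5 18771 0 e5_c0 k (by omega) (by omega)
  · skip
    by_cases hh2 : k < 36595
    · skip
      exact edgeRange_sound data 5 17824 18771 e5_c1 k (by omega) (by omega)
    · skip
      exact edgeRange_sound data 5 28941 36595 e5_c2 k (by omega) (by omega)

theorem allE6 : ∀ k, k < 65536 → justE data 6 k = true := by
  intro k hk
  by_cases hh1 : k < 25795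
  · skip
    by_cases hh2 : k < 12452
    · skip
      exact edgeRange_sound data 6 12452 0 e6_c0 k (by omega) (by omega)
    · skip
      exact edgeRange_sound data 6 13343 12452 e6_c1 k (by omega) (by omega)
  · skip
    by_cases hh3 : k < 36468
    · skip
      exact edgeRange_sound data 6 10673 25795 e6_c2 k (by omega) (by omega)
    · skip
      by_cases hh4 : k < 61755
      · skip
        exact edgeRange_sound data 6 25287 36468 e6_c3 k (by omega) (by omega)
      · skip
        exact edgeRange_sound data 6 3781 61755 e6_c4 k (by omega) (by omega)

theorem allE7 : ∀ k, k < 65536 → justE data 7 k = true := by
  intro k hk
  by_cases hh1 : k < 18755
  · skip
    exact edgeRange_sound data 7 18755 0 e7_c0 k (by omega) (by omega)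
  · skip
    by_cases hh2 : k < 37042
    · skip
      exact edgeRange_sound data 7 18287 18755 e7_c1 k (by omega) (by omega)
    · skip
      exact edgeRange_sound data 7 28494 37042 e7_c2 k (by omega) (by omega)

theorem allE8 : ∀ k, k < 65536 → justE data 8 k = true := by
  intro k hk
  by_cases hh1 : k < 25932
  · skip
    by_cases hh2 : k < 12622
    · skip
      exact edgeRange_sound data 8 12622 0 e8_c0 k (by omega) (by omega)
    · skip
      exact edgeRange_sound data 8 13310 12622 e8_c1 k (by omega) (by omega)
  · skip
    by_cases hh3 : k < 36926
    · skip
      exact edgeRange_sound data 8 10994 25932 e8_c2 k (by omega) (by omega)
    · skip
      exact edgeRange_sound data 8 28610 36926 e8_c3 k (by omega) (by omega)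

theorem allE9 : ∀ k, k < 65536 → justE data 9 k = true := by
  intro k hk
  by_cases hh1 : k < 18781
  · skip
    exact edgeRange_sound data 9 18781 0 e9_c0 k (by omega) (by omega)
  · skip
    by_cases hh2 : k < 36810
    · skip
      exact edgeRange_sound data 9 18029 18781 e9_c1 k (by omega) (by omega)
    · skip
      exact edgeRange_sound data 9 28726 36810 e9_c2 k (by omega) (by omega)

theorem allE10 : ∀ k, k < 65536 → justE data 10 k = true := by
  intro k hk
  by_cases hh1 : k < 25722
  · skip
    by_cases hh2 : k < 12868
    · skip
      exact edgeRange_sound data 10 12868 0 e10_c0 k (by omega) (by omega)
    · skip
      exact edgeRange_sound data 10 12854 12868 e10_c1 k (by omega) (by omega)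
  · skip
    by_cases hh3 : k < 36055
    · skip
      exact edgeRange_sound data 10 10333 25722 e10_c2 k (by omega) (by omega)
    · skip
      by_cases hh4 : k < 63827
      · skip
        exact edgeRange_sound data 10 27772 36055 e10_c3 k (by omega) (by omega)
      · skip
        exact edgeRange_sound data 10 1709 63827 e10_c4 k (by omega) (by omega)

theorem allE11 : ∀ k, k < 65536 → justE data 11 k = true := by
  intro k hk
  by_cases hh1 : k < 18841
  · skip
    exact edgeRange_sound data 11 18841 0 e11_c0 k (by omega) (by omega)
  · skip
    by_cases hh2 : k < 36490
    · skip
      exact edgeRange_sound data 11 17649 18841 e11_c1 k (by omega) (by omega)
    · skip
      exact edgeRange_sound data 11 29046 36490 e11_c2 k (by omega) (by omega)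

theorem allE12 : ∀ k, k < 65536 → justE data 12 k = true := by
  intro k hk
  by_cases hh1 : k < 25578
  · skip
    by_cases hh2 : k < 12825
    · skip
      exact edgeRange_sound data 12 12825 0 e12_c0 k (by omega) (by omega)
    · skip
      exact edgeRange_sound data 12 12753 12825 e12_c1 k (by omega) (by omega)
  · skip
    by_cases hh3 : k < 35532
    · skip
      exact edgeRange_sound data 12 9954 25578 e12_c2 k (by omega) (by omega)
    · skip
      by_cases hh4 : k < 59093
      · skip
        exact edgeRange_sound data 12 23561 35532 e12_c3 k (by omega) (by omega)
      · skip
        exact edgeRange_sound data 12 6443 59093 e12_c4 k (by omega) (by omega)

theorem allE13 : ∀ k, k < 65536 → justE data 13 k = true := by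
  intro k hk
  by_cases hh1 : k < 18859
  · skip
    exact edgeRange_sound data 13 18859 0 e13_c0 k (by omega) (by omega)
  · skip
    by_cases hh2 : k < 36376
    · skip
      exact edgeRange_sound data 13 17517 18859 e13_c1 k (by omega) (by omega)
    · skip
      exact edgeRange_sound data 13 29160 36376 e13_c2 k (by omega) (by omega)

theorem allE14 : ∀ k, k < 65536 → justE data 14 k = true := by
  intro k hk
  by_cases hh1 : k < 25634
  · skip
    by_cases hh2 : k < 12834
    · skip
      exact edgeRange_sound data 14 12834 0 e14_c0 k (by omega) (by omega)
    · skip
      exact edgeRange_sound data 14 12800 12834 e14_c1 k (by omega) (by omega)
  · skip
    by_cases hh3 : k < 36368
    · skip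
      exact edgeRange_sound data 14 10734 25634 e14_c2 k (by omega) (by omega)
    · skip
      by_cases hh4 : k < 64947
      · skip
        exact edgeRange_sound data 14 28579 36368 e14_c3 k (by omega) (by omega)
      · skip
        exact edgeRange_sound data 14 589 64947 e14_c4 k (by omega) (by omega)

theorem allE15 : ∀ k, k < 65536 → justE data 15 k = true := by
  intro k hk
  by_cases hh1 : k < 18339
  · skip
    exact edgeRange_sound data 15 18339 0 e15_c0 k (by omega) (by omega)
  · skip
    by_cases hh2 : k < 35746
    · skip
      exact edgeRange_sound data 15 17407 18339 e15_c1 k (by omega) (by omega)
    · skip
      exact edgeRange_sound data 15 29790 35746 e15_c2 k (by omega) (by omega)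

theorem allE16 : ∀ k, k < 65536 → justE data 16 k = true := by
  intro k hk
  by_cases hh1 : k < 27727
  · skip
    by_cases hh2 : k < 14004
    · skip
      exact edgeRange_sound data 16 14004 0 e16_c0 k (by omega) (by omega)
    · skip
      exact edgeRange_sound data 16 13723 14004 e16_c1 k (by omega) (by omega)
  · skip
    by_cases hh3 : k < 39390
    · skip
      exact edgeRange_sound data 16 11663 27727 e16_c2 k (by omega) (by omega)
    · skip
      exact edgeRange_sound data 16 26146 39390 e16_c3 k (by omega) (by omega)

theorem allE17 : ∀ k, k < 65536 → justE data 17 k = true := by
  intro k hk
  by_cases hh1 : k < 18991
  · skip
    exact edgeRange_sound data 17 18991 0 e17_c0 k (by omega) (by omega)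
  · skip
    by_cases hh2 : k < 37624
    · skip
      exact edgeRange_sound data 17 18633 18991 e17_c1 k (by omega) (by omega)
    · skip
      exact edgeRange_sound data 17 27912 37624 e17_c2 k (by omega) (by omega)

theorem allE18 : ∀ k, k < 65536 → justE data 18 k = true := by
  intro k hk
  by_cases hh1 : k < 29868
  · skip
    by_cases hh2 : k < 14139
    · skip
      exact edgeRange_sound data 18 14139 0 e18_c0 k (by omega) (by omega)
    · skip
      exact edgeRange_sound data 18 15729 14139 e18_c1 k (by omega) (by omega)
  · skip
    by_cases hh3 : k < 41850
    · skip
      exact edgeRange_sound data 18 11982 29868 e18_c2 k (by omega) (by omega)
    · skip
      exact edgeRange_sound data 18 23686 41850 e18_c3 k (by omega) (by omega)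

theorem allE19 : ∀ k, k < 65536 → justE data 19 k = true := by
  intro k hk
  by_cases hh1 : k < 18553
  · skip
    exact edgeRange_sound data 19 18553 0 e19_c0 k (by omega) (by omega)
  · skip
    by_cases hh2 : k < 37372
    · skip
      exact edgeRange_sound data 19 18819 18553 e19_c1 k (by omega) (by omega)
    · skip
      exact edgeRange_sound data 19 28164 37372 e19_c2 k (by omega) (by omega)

theorem allE : ∀ c k, c < data.nc → k ≤ data.mask → justE data c k = true := by
  intro c k hc hk
  have hc' : c < 20 := hc
  have hk' : k < 65536 := Nat.lt_succ_of_le hk
  interval_cases c
  · exact allE0 k hk'
  · exact allE1 k hk'
  · exact allE2 k hk'
  · exact allE3 k hk'
  · exact allE4 k hk'
  · exact allE5 k hk'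
  · exact allE6 k hk'
  · exact allE7 k hk'
  · exact allE8 k hk'
  · exact allE9 k hk'
  · exact allE10 k hk'
  · exact allE11 k hk'
  · exact allE12 k hk'
  · exact allE13 k hk'
  · exact allE14 k hk'
  · exact allE15 k hk'
  · exact allE16 k hk'
  · exact allE17 k hk'
  · exact allE18 k hk'
  · exact allE19 k hk'

theorem allM : ∀ k, k ≤ data.mask → justM data k = true := by
  intro k hk
  have hk' : k < 65536 := Nat.lt_succ_of_le hk
  by_cases hh1 : k < 31141
  · skip
    exact mergeRange_sound data 31141 0 m_c0 k (by omega) (by omega)
  · skip
    exact mergeRange_sound data 34395 31141 m_c1 k (by omega) (by omega)

theorem rows_all : ∀ k, k < M → isFinal data k = true → rowOK data M k data.nc = true := by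
  intro k hk
  have hk' : k < 42279 := hk
  by_cases hh1 : k < 26017
  · skip
    by_cases hh2 : k < 10983
    · skip
      by_cases hh3 : k < 3894
      · skip
        by_cases hh4 : k < 1734
        · skip
          by_cases hh5 : k < 834
          · skip
            exact rowsRange_sound data M 834 0 rows0 k (by omega) (by omega)
          · skip
            exact rowsRange_sound data M 900 834 rows1 k (by omega) (by omega)
        · skip
          by_cases hh6 : k < 2769
          · skip
            exact rowsRange_sound data M 1035 1734 rows2 k (by omega) (by omega)
          · skip
            exact rowsRange_sound data M 1125 2769 rows3 k (by omega) (by omega)
      · skip
        by_cases hh7 : k < 6273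
        · skip
          by_cases hh8 : k < 4968
          · skip
            exact rowsRange_sound data M 1074 3894 rows4 k (by omega) (by omega)
          · skip
            exact rowsRange_sound data M 1305 4968 rows5 k (by omega) (by omega)
        · skip
          by_cases hh9 : k < 7971
          · skip
            exact rowsRange_sound data M 1698 6273 rows6 k (by omega) (by omega)
          · skip
            by_cases hh10 : k < 9485
            · skip
              exact rowsRange_sound data M 1514 7971 rows7 k (by omega) (by omega)
            · skip
              exact rowsRange_sound data M 1498 9485 rows8 k (by omega) (by omega)
    · skip
      by_cases hh11 : k < 19371
      · skip
        by_cases hh12 : k < 14466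
        · skip
          by_cases hh13 : k < 13291
          · skip
            exact rowsRange_sound data M 2308 10983 rows9 k (by omega) (by omega)
          · skip
            exact rowsRange_sound data M 1175 13291 rows10 k (by omega) (by omega)
        · skip
          by_cases hh14 : k < 16771
          · skip
            exact rowsRange_sound data M 2305 14466 rows11 k (by omega) (by omega)
          · skip
            by_cases hh15 : k < 17911
            · skip
              exact rowsRange_sound data M 1140 16771 rows12 k (by omega) (by omega)
            · skip
              exact rowsRange_sound data M 1460 17911 rows13 k (by omega) (by omega)
      · skip
        by_cases hh16 : k < 23023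
        · skip
          by_cases hh17 : k < 21548
          · skip
            exact rowsRange_sound data M 2177 19371 rows14 k (by omega) (by omega)
          · skip
            exact rowsRange_sound data M 1475 21548 rows15 k (by omega) (by omega)
        · skip
          by_cases hh18 : k < 24370
          · skip
            exact rowsRange_sound data M 1347 23023 rows16 k (by omega) (by omega)
          · skip
            by_cases hh19 : k < 25197
            · skip
              exact rowsRange_sound data M 827 24370 rows17 k (by omega) (by omega)
            · skip
              exact rowsRange_sound data M 820 25197 rows18 k (by omega) (by omega)
  · skip
    by_cases hh20 : k < 34217
    · skip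
      by_cases hh21 : k < 30117
      · skip
        by_cases hh22 : k < 27657
        · skip
          by_cases hh23 : k < 26837
          · skip
            exact rowsRange_sound data M 820 26017 rows19 k (by omega) (by omega)
          · skip
            exact rowsRange_sound data M 820 26837 rows20 k (by omega) (by omega)
        · skip
          by_cases hh24 : k < 28477
          · skip
            exact rowsRange_sound data M 820 27657 rows21 k (by omega) (by omega)
          · skip
            by_cases hh25 : k < 29297
            · skip
              exact rowsRange_sound data M 820 28477 rows22 k (by omega) (by omega)
            · skip
              exact rowsRange_sound data M 820 29297 rows23 k (by omega) (by omega)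
      · skip
        by_cases hh26 : k < 31757
        · skip
          by_cases hh27 : k < 30937
          · skip
            exact rowsRange_sound data M 820 30117 rows24 k (by omega) (by omega)
          · skip
            exact rowsRange_sound data M 820 30937 rows25 k (by omega) (by omega)
        · skip
          by_cases hh28 : k < 32577
          · skip
            exact rowsRange_sound data M 820 31757 rows26 k (by omega) (by omega)
          · skip
            by_cases hh29 : k < 33397
            · skip
              exact rowsRange_sound data M 820 32577 rows27 k (by omega) (by omega)
            · skip
              exact rowsRange_sound data M 820 33397 rows28 k (by omega) (by omega)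
    · skip
      by_cases hh30 : k < 38317
      · skip
        by_cases hh31 : k < 35857
        · skip
          by_cases hh32 : k < 35037
          · skip
            exact rowsRange_sound data M 820 34217 rows29 k (by omega) (by omega)
          · skip
            exact rowsRange_sound data M 820 35037 rows30 k (by omega) (by omega)
        · skip
          by_cases hh33 : k < 36677
          · skip
            exact rowsRange_sound data M 820 35857 rows31 k (by omega) (by omega)
          · skip
            by_cases hh34 : k < 37497
            · skip
              exact rowsRange_sound data M 820 36677 rows32 k (by omega) (by omega)
            · skip
              exact rowsRange_sound data M 820 37497 rows33 k (by omega) (by omega)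
      · skip
        by_cases hh35 : k < 39957
        · skip
          by_cases hh36 : k < 39137
          · skip
            exact rowsRange_sound data M 820 38317 rows34 k (by omega) (by omega)
          · skip
            exact rowsRange_sound data M 820 39137 rows35 k (by omega) (by omega)
        · skip
          by_cases hh37 : k < 40777
          · skip
            exact rowsRange_sound data M 820 39957 rows36 k (by omega) (by omega)
          · skip
            by_cases hh38 : k < 41597
            · skip
              exact rowsRange_sound data M 820 40777 rows37 k (by omega) (by omega)
            · skip
              exact rowsRange_sound data M 682 41597 rows38 k (by omega) (by omega)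

theorem cnt_ok : countFinal data M 0 0 = n := by
  exact cnt0

abbrev Rset : Set (FreeGroup Cfsg.Spor.Fi23.Gen) := Cfsg.Spor.coxRelators Cfsg.Spor.Fi23.edges ∪ {r | r ∈ Cfsg.Spor.Fi23.extra}
abbrev Sset : Set (FreeGroup Cfsg.Spor.Fi23.Gen) := {Cfsg.Spor.Fi23.a, Cfsg.Spor.Fi23.b, Cfsg.Spor.Fi23.c, Cfsg.Spor.Fi23.d, Cfsg.Spor.Fi23.e, Cfsg.Spor.Fi23.f, Cfsg.Spor.Fi23.g, Cfsg.Spor.Fi23.h, Cfsg.Spor.Fi23.i}
def SL : List (FreeGroup Cfsg.Spor.Fi23.Gen) := [Cfsg.Spor.Fi23.a, Cfsg.Spor.Fi23.b, Cfsg.Spor.Fi23.c, Cfsg.Spor.Fi23.d, Cfsg.Spor.Fi23.e, Cfsg.Spor.Fi23.f, Cfsg.Spor.Fi23.g, Cfsg.Spor.Fi23.h, Cfsg.Spor.Fi23.i]

theorem mem_S (s : FreeGroup Cfsg.Spor.Fi23.Gen) : s ∈ Sset ↔ s ∈ SL := by
  simp only [Sset, SL, Set.mem_insert_iff, Set.mem_singleton_iff, List.mem_cons, List.not_mem_nil, or_false]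

theorem hR1 : ∀ r ∈ Rset, ∃ b ∈ bases, r = wordF dec b := by
  intro r hr
  rw [mem_rels_iff] at hr
  revert r
  decide +kernel

theorem hR2 : ∀ b ∈ bases, wordF dec b ∈ Rset := by
  intro b hb
  rw [mem_rels_iff]
  revert b
  decide +kernel

theorem hS1 : ∀ s ∈ Sset, ∃ b ∈ subsL, s = wordF dec b := by
  intro s hs
  rw [mem_S] at hs
  revert s
  decide +kernel

theorem hS2 : ∀ b ∈ subsL, wordF dec b ∈ Sset := by
  intro b hb
  rw [mem_S]
  revert b
  decide +kernel

theorem bound : Finite (PresentedGroup Rset ⧸ (Subgroup.closure Sset).map (PresentedGroup.mk Rset)) ∧
    Nat.card (PresentedGroup Rset ⧸ (Subgroup.closure Sset).map (PresentedGroup.mk Rset)) ≤ n :=
  tc_bound data bases subsL rots coding hR2 hS2 words_ok allE allM M n fin0_ok (by decide) (by decide) cnt_ok rows_all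

theorem model_ok : ModelOK mdata bases subsL := by
  refine ⟨by decide, ?_, ?_, wordsLettersOK_sound _ _ relc_ok, wordsLettersOK_sound _ _ subc_ok,
    sub0OK_sound _ _ sub0_ok, ?_⟩
  · intro k hk
    have hk' : k < 31671 := hk
    by_cases hh1 : k < 15996
    · skip
      by_cases hh2 : k < 7998
      · skip
        by_cases hh3 : k < 3999
        · skip
          by_cases hh4 : k < 1333
          · skip
            exact invRange_sound mdata 1333 0 inv0 k (by omega) (by omega)
          · skip
            by_cases hh5 : k < 2666
            · skip
              exact invRange_sound mdata 1333 1333 inv1 k (by omega) (by omega)
            · skip
              exact invRange_sound mdata 1333 2666 inv2 k (by omega) (by omega)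
        · skip
          by_cases hh6 : k < 5332
          · skip
            exact invRange_sound mdata 1333 3999 inv3 k (by omega) (by omega)
          · skip
            by_cases hh7 : k < 6665
            · skip
              exact invRange_sound mdata 1333 5332 inv4 k (by omega) (by omega)
            · skip
              exact invRange_sound mdata 1333 6665 inv5 k (by omega) (by omega)
      · skip
        by_cases hh8 : k < 11997
        · skip
          by_cases hh9 : k < 9331
          · skip
            exact invRange_sound mdata 1333 7998 inv6 k (by omega) (by omega)
          · skip
            by_cases hh10 : k < 10664
            · skip
              exact invRange_sound mdata 1333 9331 inv7 k (by omega) (by omega)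
            · skip
              exact invRange_sound mdata 1333 10664 inv8 k (by omega) (by omega)
        · skip
          by_cases hh11 : k < 13330
          · skip
            exact invRange_sound mdata 1333 11997 inv9 k (by omega) (by omega)
          · skip
            by_cases hh12 : k < 14663
            · skip
              exact invRange_sound mdata 1333 13330 inv10 k (by omega) (by omega)
            · skip
              exact invRange_sound mdata 1333 14663 inv11 k (by omega) (by omega)
    · skip
      by_cases hh13 : k < 23994
      · skip
        by_cases hh14 : k < 19995
        · skip
          by_cases hh15 : k < 17329
          · skip
            exact invRange_sound mdata 1333 15996 inv12 k (by omega) (by omega)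
          · skip
            by_cases hh16 : k < 18662
            · skip
              exact invRange_sound mdata 1333 17329 inv13 k (by omega) (by omega)
            · skip
              exact invRange_sound mdata 1333 18662 inv14 k (by omega) (by omega)
        · skip
          by_cases hh17 : k < 21328
          · skip
            exact invRange_sound mdata 1333 19995 inv15 k (by omega) (by omega)
          · skip
            by_cases hh18 : k < 22661
            · skip
              exact invRange_sound mdata 1333 21328 inv16 k (by omega) (by omega)
            · skip
              exact invRange_sound mdata 1333 22661 inv17 k (by omega) (by omega)
      · skip
        by_cases hh19 : k < 27993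
        · skip
          by_cases hh20 : k < 25327
          · skip
            exact invRange_sound mdata 1333 23994 inv18 k (by omega) (by omega)
          · skip
            by_cases hh21 : k < 26660
            · skip
              exact invRange_sound mdata 1333 25327 inv19 k (by omega) (by omega)
            · skip
              exact invRange_sound mdata 1333 26660 inv20 k (by omega) (by omega)
        · skip
          by_cases hh22 : k < 29326
          · skip
            exact invRange_sound mdata 1333 27993 inv21 k (by omega) (by omega)
          · skip
            by_cases hh23 : k < 30659
            · skip
              exact invRange_sound mdata 1333 29326 inv22 k (by omega) (by omega)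
            · skip
              exact invRange_sound mdata 1012 30659 inv23 k (by omega) (by omega)
  · intro k hk
    have hk' : k < 31671 := hk
    by_cases hh1 : k < 15820
    · skip
      by_cases hh2 : k < 7840
      · skip
        by_cases hh3 : k < 3920
        · skip
          by_cases hh4 : k < 1960
          · skip
            by_cases hh5 : k < 980
            · skip
              by_cases hh6 : k < 420
              · skip
                by_cases hh7 : k < 140
                · skip
                  exact relsRange_sound mdata bases 140 0 rel0 k (by omega) (by omega)
                · skip
                  by_cases hh8 : k < 280
                  · skip
                    exact relsRange_sound mdata bases 140 140 rel1 k (by omega) (by omega)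
                  · skip
                    exact relsRange_sound mdata bases 140 280 rel2 k (by omega) (by omega)
              · skip
                by_cases hh9 : k < 700
                · skip
                  by_cases hh10 : k < 560
                  · skip
                    exact relsRange_sound mdata bases 140 420 rel3 k (by omega) (by omega)
                  · skip
                    exact relsRange_sound mdata bases 140 560 rel4 k (by omega) (by omega)
                · skip
                  by_cases hh11 : k < 840
                  · skip
                    exact relsRange_sound mdata bases 140 700 rel5 k (by omega) (by omega)
                  · skip
                    exact relsRange_sound mdata bases 140 840 rel6 k (by omega) (by omega)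
            · skip
              by_cases hh12 : k < 1400
              · skip
                by_cases hh13 : k < 1120
                · skip
                  exact relsRange_sound mdata bases 140 980 rel7 k (by omega) (by omega)
                · skip
                  by_cases hh14 : k < 1260
                  · skip
                    exact relsRange_sound mdata bases 140 1120 rel8 k (by omega) (by omega)
                  · skip
                    exact relsRange_sound mdata bases 140 1260 rel9 k (by omega) (by omega)
              · skip
                by_cases hh15 : k < 1680
                · skip
                  by_cases hh16 : k < 1540
                  · skip
                    exact relsRange_sound mdata bases 140 1400 rel10 k (by omega) (by omega)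
                  · skip
                    exact relsRange_sound mdata bases 140 1540 rel11 k (by omega) (by omega)
                · skip
                  by_cases hh17 : k < 1820
                  · skip
                    exact relsRange_sound mdata bases 140 1680 rel12 k (by omega) (by omega)
                  · skip
                    exact relsRange_sound mdata bases 140 1820 rel13 k (by omega) (by omega)
          · skip
            by_cases hh18 : k < 2940
            · skip
              by_cases hh19 : k < 2380
              · skip
                by_cases hh20 : k < 2100
                · skip
                  exact relsRange_sound mdata bases 140 1960 rel14 k (by omega) (by omega)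
                · skip
                  by_cases hh21 : k < 2240
                  · skip
                    exact relsRange_sound mdata bases 140 2100 rel15 k (by omega) (by omega)
                  · skip
                    exact relsRange_sound mdata bases 140 2240 rel16 k (by omega) (by omega)
              · skip
                by_cases hh22 : k < 2660
                · skip
                  by_cases hh23 : k < 2520
                  · skip
                    exact relsRange_sound mdata bases 140 2380 rel17 k (by omega) (by omega)
                  · skip
                    exact relsRange_sound mdata bases 140 2520 rel18 k (by omega) (by omega)
                · skip
                  by_cases hh24 : k < 2800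
                  · skip
                    exact relsRange_sound mdata bases 140 2660 rel19 k (by omega) (by omega)
                  · skip
                    exact relsRange_sound mdata bases 140 2800 rel20 k (by omega) (by omega)
            · skip
              by_cases hh25 : k < 3360
              · skip
                by_cases hh26 : k < 3080
                · skip
                  exact relsRange_sound mdata bases 140 2940 rel21 k (by omega) (by omega)
                · skip
                  by_cases hh27 : k < 3220
                  · skip
                    exact relsRange_sound mdata bases 140 3080 rel22 k (by omega) (by omega)
                  · skip
                    exact relsRange_sound mdata bases 140 3220 rel23 k (by omega) (by omega)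
              · skip
                by_cases hh28 : k < 3640
                · skip
                  by_cases hh29 : k < 3500
                  · skip
                    exact relsRange_sound mdata bases 140 3360 rel24 k (by omega) (by omega)
                  · skip
                    exact relsRange_sound mdata bases 140 3500 rel25 k (by omega) (by omega)
                · skip
                  by_cases hh30 : k < 3780
                  · skip
                    exact relsRange_sound mdata bases 140 3640 rel26 k (by omega) (by omega)
                  · skip
                    exact relsRange_sound mdata bases 140 3780 rel27 k (by omega) (by omega)
        · skip
          by_cases hh31 : k < 5880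
          · skip
            by_cases hh32 : k < 4900
            · skip
              by_cases hh33 : k < 4340
              · skip
                by_cases hh34 : k < 4060
                · skip
                  exact relsRange_sound mdata bases 140 3920 rel28 k (by omega) (by omega)
                · skip
                  by_cases hh35 : k < 4200
                  · skip
                    exact relsRange_sound mdata bases 140 4060 rel29 k (by omega) (by omega)
                  · skip
                    exact relsRange_sound mdata bases 140 4200 rel30 k (by omega) (by omega)
              · skip
                by_cases hh36 : k < 4620
                · skip
                  by_cases hh37 : k < 4480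
                  · skip
                    exact relsRange_sound mdata bases 140 4340 rel31 k (by omega) (by omega)
                  · skip
                    exact relsRange_sound mdata bases 140 4480 rel32 k (by omega) (by omega)
                · skip
                  by_cases hh38 : k < 4760
                  · skip
                    exact relsRange_sound mdata bases 140 4620 rel33 k (by omega) (by omega)
                  · skip
                    exact relsRange_sound mdata bases 140 4760 rel34 k (by omega) (by omega)
            · skip
              by_cases hh39 : k < 5320
              · skip
                by_cases hh40 : k < 5040
                · skip
                  exact relsRange_sound mdata bases 140 4900 rel35 k (by omega) (by omega)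
                · skip
                  by_cases hh41 : k < 5180
                  · skip
                    exact relsRange_sound mdata bases 140 5040 rel36 k (by omega) (by omega)
                  · skip
                    exact relsRange_sound mdata bases 140 5180 rel37 k (by omega) (by omega)
              · skip
                by_cases hh42 : k < 5600
                · skip
                  by_cases hh43 : k < 5460
                  · skip
                    exact relsRange_sound mdata bases 140 5320 rel38 k (by omega) (by omega)
                  · skip
                    exact relsRange_sound mdata bases 140 5460 rel39 k (by omega) (by omega)
                · skip
                  by_cases hh44 : k < 5740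
                  · skip
                    exact relsRange_sound mdata bases 140 5600 rel40 k (by omega) (by omega)
                  · skip
                    exact relsRange_sound mdata bases 140 5740 rel41 k (by omega) (by omega)
          · skip
            by_cases hh45 : k < 6860
            · skip
              by_cases hh46 : k < 6300
              · skip
                by_cases hh47 : k < 6020
                · skip
                  exact relsRange_sound mdata bases 140 5880 rel42 k (by omega) (by omega)
                · skip
                  by_cases hh48 : k < 6160
                  · skip
                    exact relsRange_sound mdata bases 140 6020 rel43 k (by omega) (by omega)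
                  · skip
                    exact relsRange_sound mdata bases 140 6160 rel44 k (by omega) (by omega)
              · skip
                by_cases hh49 : k < 6580
                · skip
                  by_cases hh50 : k < 6440
                  · skip
                    exact relsRange_sound mdata bases 140 6300 rel45 k (by omega) (by omega)
                  · skip
                    exact relsRange_sound mdata bases 140 6440 rel46 k (by omega) (by omega)
                · skip
                  by_cases hh51 : k < 6720
                  · skip
                    exact relsRange_sound mdata bases 140 6580 rel47 k (by omega) (by omega)
                  · skip
                    exact relsRange_sound mdata bases 140 6720 rel48 k (by omega) (by omega)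
            · skip
              by_cases hh52 : k < 7280
              · skip
                by_cases hh53 : k < 7000
                · skip
                  exact relsRange_sound mdata bases 140 6860 rel49 k (by omega) (by omega)
                · skip
                  by_cases hh54 : k < 7140
                  · skip
                    exact relsRange_sound mdata bases 140 7000 rel50 k (by omega) (by omega)
                  · skip
                    exact relsRange_sound mdata bases 140 7140 rel51 k (by omega) (by omega)
              · skip
                by_cases hh55 : k < 7560
                · skip
                  by_cases hh56 : k < 7420
                  · skip
                    exact relsRange_sound mdata bases 140 7280 rel52 k (by omega) (by omega)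
                  · skip
                    exact relsRange_sound mdata bases 140 7420 rel53 k (by omega) (by omega)
                · skip
                  by_cases hh57 : k < 7700
                  · skip
                    exact relsRange_sound mdata bases 140 7560 rel54 k (by omega) (by omega)
                  · skip
                    exact relsRange_sound mdata bases 140 7700 rel55 k (by omega) (by omega)
      · skip
        by_cases hh58 : k < 11760
        · skip
          by_cases hh59 : k < 9800
          · skip
            by_cases hh60 : k < 8820
            · skip
              by_cases hh61 : k < 8260
              · skip
                by_cases hh62 : k < 7980
                · skip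
                  exact relsRange_sound mdata bases 140 7840 rel56 k (by omega) (by omega)
                · skip
                  by_cases hh63 : k < 8120
                  · skip
                    exact relsRange_sound mdata bases 140 7980 rel57 k (by omega) (by omega)
                  · skip
                    exact relsRange_sound mdata bases 140 8120 rel58 k (by omega) (by omega)
              · skip
                by_cases hh64 : k < 8540
                · skip
                  by_cases hh65 : k < 8400
                  · skip
                    exact relsRange_sound mdata bases 140 8260 rel59 k (by omega) (by omega)
                  · skip
                    exact relsRange_sound mdata bases 140 8400 rel60 k (by omega) (by omega)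
                · skip
                  by_cases hh66 : k < 8680
                  · skip
                    exact relsRange_sound mdata bases 140 8540 rel61 k (by omega) (by omega)
                  · skip
                    exact relsRange_sound mdata bases 140 8680 rel62 k (by omega) (by omega)
            · skip
              by_cases hh67 : k < 9240
              · skip
                by_cases hh68 : k < 8960
                · skip
                  exact relsRange_sound mdata bases 140 8820 rel63 k (by omega) (by omega)
                · skip
                  by_cases hh69 : k < 9100
                  · skip
                    exact relsRange_sound mdata bases 140 8960 rel64 k (by omega) (by omega)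
                  · skip
                    exact relsRange_sound mdata bases 140 9100 rel65 k (by omega) (by omega)
              · skip
                by_cases hh70 : k < 9520
                · skip
                  by_cases hh71 : k < 9380
                  · skip
                    exact relsRange_sound mdata bases 140 9240 rel66 k (by omega) (by omega)
                  · skip
                    exact relsRange_sound mdata bases 140 9380 rel67 k (by omega) (by omega)
                · skip
                  by_cases hh72 : k < 9660
                  · skip
                    exact relsRange_sound mdata bases 140 9520 rel68 k (by omega) (by omega)
                  · skip
                    exact relsRange_sound mdata bases 140 9660 rel69 k (by omega) (by omega)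
          · skip
            by_cases hh73 : k < 10780
            · skip
              by_cases hh74 : k < 10220
              · skip
                by_cases hh75 : k < 9940
                · skip
                  exact relsRange_sound mdata bases 140 9800 rel70 k (by omega) (by omega)
                · skip
                  by_cases hh76 : k < 10080
                  · skip
                    exact relsRange_sound mdata bases 140 9940 rel71 k (by omega) (by omega)
                  · skip
                    exact relsRange_sound mdata bases 140 10080 rel72 k (by omega) (by omega)
              · skip
                by_cases hh77 : k < 10500
                · skip
                  by_cases hh78 : k < 10360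
                  · skip
                    exact relsRange_sound mdata bases 140 10220 rel73 k (by omega) (by omega)
                  · skip
                    exact relsRange_sound mdata bases 140 10360 rel74 k (by omega) (by omega)
                · skip
                  by_cases hh79 : k < 10640
                  · skip
                    exact relsRange_sound mdata bases 140 10500 rel75 k (by omega) (by omega)
                  · skip
                    exact relsRange_sound mdata bases 140 10640 rel76 k (by omega) (by omega)
            · skip
              by_cases hh80 : k < 11200
              · skip
                by_cases hh81 : k < 10920
                · skip
                  exact relsRange_sound mdata bases 140 10780 rel77 k (by omega) (by omega)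
                · skip
                  by_cases hh82 : k < 11060
                  · skip
                    exact relsRange_sound mdata bases 140 10920 rel78 k (by omega) (by omega)
                  · skip
                    exact relsRange_sound mdata bases 140 11060 rel79 k (by omega) (by omega)
              · skip
                by_cases hh83 : k < 11480
                · skip
                  by_cases hh84 : k < 11340
                  · skip
                    exact relsRange_sound mdata bases 140 11200 rel80 k (by omega) (by omega)
                  · skip
                    exact relsRange_sound mdata bases 140 11340 rel81 k (by omega) (by omega)
                · skip
                  by_cases hh85 : k < 11620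
                  · skip
                    exact relsRange_sound mdata bases 140 11480 rel82 k (by omega) (by omega)
                  · skip
                    exact relsRange_sound mdata bases 140 11620 rel83 k (by omega) (by omega)
        · skip
          by_cases hh86 : k < 13720
          · skip
            by_cases hh87 : k < 12740
            · skip
              by_cases hh88 : k < 12180
              · skip
                by_cases hh89 : k < 11900
                · skip
                  exact relsRange_sound mdata bases 140 11760 rel84 k (by omega) (by omega)
                · skip
                  by_cases hh90 : k < 12040
                  · skip
                    exact relsRange_sound mdata bases 140 11900 rel85 k (by omega) (by omega)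
                  · skip
                    exact relsRange_sound mdata bases 140 12040 rel86 k (by omega) (by omega)
              · skip
                by_cases hh91 : k < 12460
                · skip
                  by_cases hh92 : k < 12320
                  · skip
                    exact relsRange_sound mdata bases 140 12180 rel87 k (by omega) (by omega)
                  · skip
                    exact relsRange_sound mdata bases 140 12320 rel88 k (by omega) (by omega)
                · skip
                  by_cases hh93 : k < 12600
                  · skip
                    exact relsRange_sound mdata bases 140 12460 rel89 k (by omega) (by omega)
                  · skip
                    exact relsRange_sound mdata bases 140 12600 rel90 k (by omega) (by omega)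
            · skip
              by_cases hh94 : k < 13160
              · skip
                by_cases hh95 : k < 12880
                · skip
                  exact relsRange_sound mdata bases 140 12740 rel91 k (by omega) (by omega)
                · skip
                  by_cases hh96 : k < 13020
                  · skip
                    exact relsRange_sound mdata bases 140 12880 rel92 k (by omega) (by omega)
                  · skip
                    exact relsRange_sound mdata bases 140 13020 rel93 k (by omega) (by omega)
              · skip
                by_cases hh97 : k < 13440
                · skip
                  by_cases hh98 : k < 13300
                  · skip
                    exact relsRange_sound mdata bases 140 13160 rel94 k (by omega) (by omega)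
                  · skip
                    exact relsRange_sound mdata bases 140 13300 rel95 k (by omega) (by omega)
                · skip
                  by_cases hh99 : k < 13580
                  · skip
                    exact relsRange_sound mdata bases 140 13440 rel96 k (by omega) (by omega)
                  · skip
                    exact relsRange_sound mdata bases 140 13580 rel97 k (by omega) (by omega)
          · skip
            by_cases hh100 : k < 14700
            · skip
              by_cases hh101 : k < 14140
              · skip
                by_cases hh102 : k < 13860
                · skip
                  exact relsRange_sound mdata bases 140 13720 rel98 k (by omega) (by omega)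
                · skip
                  by_cases hh103 : k < 14000
                  · skip
                    exact relsRange_sound mdata bases 140 13860 rel99 k (by omega) (by omega)
                  · skip
                    exact relsRange_sound mdata bases 140 14000 rel100 k (by omega) (by omega)
              · skip
                by_cases hh104 : k < 14420
                · skip
                  by_cases hh105 : k < 14280
                  · skip
                    exact relsRange_sound mdata bases 140 14140 rel101 k (by omega) (by omega)
                  · skip
                    exact relsRange_sound mdata bases 140 14280 rel102 k (by omega) (by omega)
                · skip
                  by_cases hh106 : k < 14560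
                  · skip
                    exact relsRange_sound mdata bases 140 14420 rel103 k (by omega) (by omega)
                  · skip
                    exact relsRange_sound mdata bases 140 14560 rel104 k (by omega) (by omega)
            · skip
              by_cases hh107 : k < 15260
              · skip
                by_cases hh108 : k < 14980
                · skip
                  by_cases hh109 : k < 14840
                  · skip
                    exact relsRange_sound mdata bases 140 14700 rel105 k (by omega) (by omega)
                  · skip
                    exact relsRange_sound mdata bases 140 14840 rel106 k (by omega) (by omega)
                · skip
                  by_cases hh110 : k < 15120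
                  · skip
                    exact relsRange_sound mdata bases 140 14980 rel107 k (by omega) (by omega)
                  · skip
                    exact relsRange_sound mdata bases 140 15120 rel108 k (by omega) (by omega)
              · skip
                by_cases hh111 : k < 15540
                · skip
                  by_cases hh112 : k < 15400
                  · skip
                    exact relsRange_sound mdata bases 140 15260 rel109 k (by omega) (by omega)
                  · skip
                    exact relsRange_sound mdata bases 140 15400 rel110 k (by omega) (by omega)
                · skip
                  by_cases hh113 : k < 15680
                  · skip
                    exact relsRange_sound mdata bases 140 15540 rel111 k (by omega) (by omega)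
                  · skip
                    exact relsRange_sound mdata bases 140 15680 rel112 k (by omega) (by omega)
    · skip
      by_cases hh114 : k < 23800
      · skip
        by_cases hh115 : k < 19740
        · skip
          by_cases hh116 : k < 17780
          · skip
            by_cases hh117 : k < 16800
            · skip
              by_cases hh118 : k < 16240
              · skip
                by_cases hh119 : k < 15960
                · skip
                  exact relsRange_sound mdata bases 140 15820 rel113 k (by omega) (by omega)
                · skip
                  by_cases hh120 : k < 16100
                  · skip
                    exact relsRange_sound mdata bases 140 15960 rel114 k (by omega) (by omega)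
                  · skip
                    exact relsRange_sound mdata bases 140 16100 rel115 k (by omega) (by omega)
              · skip
                by_cases hh121 : k < 16520
                · skip
                  by_cases hh122 : k < 16380
                  · skip
                    exact relsRange_sound mdata bases 140 16240 rel116 k (by omega) (by omega)
                  · skip
                    exact relsRange_sound mdata bases 140 16380 rel117 k (by omega) (by omega)
                · skip
                  by_cases hh123 : k < 16660
                  · skip
                    exact relsRange_sound mdata bases 140 16520 rel118 k (by omega) (by omega)
                  · skip
                    exact relsRange_sound mdata bases 140 16660 rel119 k (by omega) (by omega)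
            · skip
              by_cases hh124 : k < 17220
              · skip
                by_cases hh125 : k < 16940
                · skip
                  exact relsRange_sound mdata bases 140 16800 rel120 k (by omega) (by omega)
                · skip
                  by_cases hh126 : k < 17080
                  · skip
                    exact relsRange_sound mdata bases 140 16940 rel121 k (by omega) (by omega)
                  · skip
                    exact relsRange_sound mdata bases 140 17080 rel122 k (by omega) (by omega)
              · skip
                by_cases hh127 : k < 17500
                · skip
                  by_cases hh128 : k < 17360
                  · skip
                    exact relsRange_sound mdata bases 140 17220 rel123 k (by omega) (by omega)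
                  · skip
                    exact relsRange_sound mdata bases 140 17360 rel124 k (by omega) (by omega)
                · skip
                  by_cases hh129 : k < 17640
                  · skip
                    exact relsRange_sound mdata bases 140 17500 rel125 k (by omega) (by omega)
                  · skip
                    exact relsRange_sound mdata bases 140 17640 rel126 k (by omega) (by omega)
          · skip
            by_cases hh130 : k < 18760
            · skip
              by_cases hh131 : k < 18200
              · skip
                by_cases hh132 : k < 17920
                · skip
                  exact relsRange_sound mdata bases 140 17780 rel127 k (by omega) (by omega)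
                · skip
                  by_cases hh133 : k < 18060
                  · skip
                    exact relsRange_sound mdata bases 140 17920 rel128 k (by omega) (by omega)
                  · skip
                    exact relsRange_sound mdata bases 140 18060 rel129 k (by omega) (by omega)
              · skip
                by_cases hh134 : k < 18480
                · skip
                  by_cases hh135 : k < 18340
                  · skip
                    exact relsRange_sound mdata bases 140 18200 rel130 k (by omega) (by omega)
                  · skip
                    exact relsRange_sound mdata bases 140 18340 rel131 k (by omega) (by omega)
                · skip
                  by_cases hh136 : k < 18620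
                  · skip
                    exact relsRange_sound mdata bases 140 18480 rel132 k (by omega) (by omega)
                  · skip
                    exact relsRange_sound mdata bases 140 18620 rel133 k (by omega) (by omega)
            · skip
              by_cases hh137 : k < 19180
              · skip
                by_cases hh138 : k < 18900
                · skip
                  exact relsRange_sound mdata bases 140 18760 rel134 k (by omega) (by omega)
                · skip
                  by_cases hh139 : k < 19040
                  · skip
                    exact relsRange_sound mdata bases 140 18900 rel135 k (by omega) (by omega)
                  · skip
                    exact relsRange_sound mdata bases 140 19040 rel136 k (by omega) (by omega)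
              · skip
                by_cases hh140 : k < 19460
                · skip
                  by_cases hh141 : k < 19320
                  · skip
                    exact relsRange_sound mdata bases 140 19180 rel137 k (by omega) (by omega)
                  · skip
                    exact relsRange_sound mdata bases 140 19320 rel138 k (by omega) (by omega)
                · skip
                  by_cases hh142 : k < 19600
                  · skip
                    exact relsRange_sound mdata bases 140 19460 rel139 k (by omega) (by omega)
                  · skip
                    exact relsRange_sound mdata bases 140 19600 rel140 k (by omega) (by omega)
        · skip
          by_cases hh143 : k < 21700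
          · skip
            by_cases hh144 : k < 20720
            · skip
              by_cases hh145 : k < 20160
              · skip
                by_cases hh146 : k < 19880
                · skip
                  exact relsRange_sound mdata bases 140 19740 rel141 k (by omega) (by omega)
                · skip
                  by_cases hh147 : k < 20020
                  · skip
                    exact relsRange_sound mdata bases 140 19880 rel142 k (by omega) (by omega)
                  · skip
                    exact relsRange_sound mdata bases 140 20020 rel143 k (by omega) (by omega)
              · skip
                by_cases hh148 : k < 20440
                · skip
                  by_cases hh149 : k < 20300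
                  · skip
                    exact relsRange_sound mdata bases 140 20160 rel144 k (by omega) (by omega)
                  · skip
                    exact relsRange_sound mdata bases 140 20300 rel145 k (by omega) (by omega)
                · skip
                  by_cases hh150 : k < 20580
                  · skip
                    exact relsRange_sound mdata bases 140 20440 rel146 k (by omega) (by omega)
                  · skip
                    exact relsRange_sound mdata bases 140 20580 rel147 k (by omega) (by omega)
            · skip
              by_cases hh151 : k < 21140
              · skip
                by_cases hh152 : k < 20860
                · skip
                  exact relsRange_sound mdata bases 140 20720 rel148 k (by omega) (by omega)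
                · skip
                  by_cases hh153 : k < 21000
                  · skip
                    exact relsRange_sound mdata bases 140 20860 rel149 k (by omega) (by omega)
                  · skip
                    exact relsRange_sound mdata bases 140 21000 rel150 k (by omega) (by omega)
              · skip
                by_cases hh154 : k < 21420
                · skip
                  by_cases hh155 : k < 21280
                  · skip
                    exact relsRange_sound mdata bases 140 21140 rel151 k (by omega) (by omega)
                  · skip
                    exact relsRange_sound mdata bases 140 21280 rel152 k (by omega) (by omega)
                · skip
                  by_cases hh156 : k < 21560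
                  · skip
                    exact relsRange_sound mdata bases 140 21420 rel153 k (by omega) (by omega)
                  · skip
                    exact relsRange_sound mdata bases 140 21560 rel154 k (by omega) (by omega)
          · skip
            by_cases hh157 : k < 22680
            · skip
              by_cases hh158 : k < 22120
              · skip
                by_cases hh159 : k < 21840
                · skip
                  exact relsRange_sound mdata bases 140 21700 rel155 k (by omega) (by omega)
                · skip
                  by_cases hh160 : k < 21980
                  · skip
                    exact relsRange_sound mdata bases 140 21840 rel156 k (by omega) (by omega)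
                  · skip
                    exact relsRange_sound mdata bases 140 21980 rel157 k (by omega) (by omega)
              · skip
                by_cases hh161 : k < 22400
                · skip
                  by_cases hh162 : k < 22260
                  · skip
                    exact relsRange_sound mdata bases 140 22120 rel158 k (by omega) (by omega)
                  · skip
                    exact relsRange_sound mdata bases 140 22260 rel159 k (by omega) (by omega)
                · skip
                  by_cases hh163 : k < 22540
                  · skip
                    exact relsRange_sound mdata bases 140 22400 rel160 k (by omega) (by omega)
                  · skip
                    exact relsRange_sound mdata bases 140 22540 rel161 k (by omega) (by omega)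
            · skip
              by_cases hh164 : k < 23240
              · skip
                by_cases hh165 : k < 22960
                · skip
                  by_cases hh166 : k < 22820
                  · skip
                    exact relsRange_sound mdata bases 140 22680 rel162 k (by omega) (by omega)
                  · skip
                    exact relsRange_sound mdata bases 140 22820 rel163 k (by omega) (by omega)
                · skip
                  by_cases hh167 : k < 23100
                  · skip
                    exact relsRange_sound mdata bases 140 22960 rel164 k (by omega) (by omega)
                  · skip
                    exact relsRange_sound mdata bases 140 23100 rel165 k (by omega) (by omega)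
              · skip
                by_cases hh168 : k < 23520
                · skip
                  by_cases hh169 : k < 23380
                  · skip
                    exact relsRange_sound mdata bases 140 23240 rel166 k (by omega) (by omega)
                  · skip
                    exact relsRange_sound mdata bases 140 23380 rel167 k (by omega) (by omega)
                · skip
                  by_cases hh170 : k < 23660
                  · skip
                    exact relsRange_sound mdata bases 140 23520 rel168 k (by omega) (by omega)
                  · skip
                    exact relsRange_sound mdata bases 140 23660 rel169 k (by omega) (by omega)
      · skip
        by_cases hh171 : k < 27720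
        · skip
          by_cases hh172 : k < 25760
          · skip
            by_cases hh173 : k < 24780
            · skip
              by_cases hh174 : k < 24220
              · skip
                by_cases hh175 : k < 23940
                · skip
                  exact relsRange_sound mdata bases 140 23800 rel170 k (by omega) (by omega)
                · skip
                  by_cases hh176 : k < 24080
                  · skip
                    exact relsRange_sound mdata bases 140 23940 rel171 k (by omega) (by omega)
                  · skip
                    exact relsRange_sound mdata bases 140 24080 rel172 k (by omega) (by omega)
              · skip
                by_cases hh177 : k < 24500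
                · skip
                  by_cases hh178 : k < 24360
                  · skip
                    exact relsRange_sound mdata bases 140 24220 rel173 k (by omega) (by omega)
                  · skip
                    exact relsRange_sound mdata bases 140 24360 rel174 k (by omega) (by omega)
                · skip
                  by_cases hh179 : k < 24640
                  · skip
                    exact relsRange_sound mdata bases 140 24500 rel175 k (by omega) (by omega)
                  · skip
                    exact relsRange_sound mdata bases 140 24640 rel176 k (by omega) (by omega)
            · skip
              by_cases hh180 : k < 25200
              · skip
                by_cases hh181 : k < 24920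
                · skip
                  exact relsRange_sound mdata bases 140 24780 rel177 k (by omega) (by omega)
                · skip
                  by_cases hh182 : k < 25060
                  · skip
                    exact relsRange_sound mdata bases 140 24920 rel178 k (by omega) (by omega)
                  · skip
                    exact relsRange_sound mdata bases 140 25060 rel179 k (by omega) (by omega)
              · skip
                by_cases hh183 : k < 25480
                · skip
                  by_cases hh184 : k < 25340
                  · skip
                    exact relsRange_sound mdata bases 140 25200 rel180 k (by omega) (by omega)
                  · skip
                    exact relsRange_sound mdata bases 140 25340 rel181 k (by omega) (by omega)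
                · skip
                  by_cases hh185 : k < 25620
                  · skip
                    exact relsRange_sound mdata bases 140 25480 rel182 k (by omega) (by omega)
                  · skip
                    exact relsRange_sound mdata bases 140 25620 rel183 k (by omega) (by omega)
          · skip
            by_cases hh186 : k < 26740
            · skip
              by_cases hh187 : k < 26180
              · skip
                by_cases hh188 : k < 25900
                · skip
                  exact relsRange_sound mdata bases 140 25760 rel184 k (by omega) (by omega)
                · skip
                  by_cases hh189 : k < 26040
                  · skip
                    exact relsRange_sound mdata bases 140 25900 rel185 k (by omega) (by omega)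
                  · skip
                    exact relsRange_sound mdata bases 140 26040 rel186 k (by omega) (by omega)
              · skip
                by_cases hh190 : k < 26460
                · skip
                  by_cases hh191 : k < 26320
                  · skip
                    exact relsRange_sound mdata bases 140 26180 rel187 k (by omega) (by omega)
                  · skip
                    exact relsRange_sound mdata bases 140 26320 rel188 k (by omega) (by omega)
                · skip
                  by_cases hh192 : k < 26600
                  · skip
                    exact relsRange_sound mdata bases 140 26460 rel189 k (by omega) (by omega)
                  · skip
                    exact relsRange_sound mdata bases 140 26600 rel190 k (by omega) (by omega)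
            · skip
              by_cases hh193 : k < 27160
              · skip
                by_cases hh194 : k < 26880
                · skip
                  exact relsRange_sound mdata bases 140 26740 rel191 k (by omega) (by omega)
                · skip
                  by_cases hh195 : k < 27020
                  · skip
                    exact relsRange_sound mdata bases 140 26880 rel192 k (by omega) (by omega)
                  · skip
                    exact relsRange_sound mdata bases 140 27020 rel193 k (by omega) (by omega)
              · skip
                by_cases hh196 : k < 27440
                · skip
                  by_cases hh197 : k < 27300
                  · skip
                    exact relsRange_sound mdata bases 140 27160 rel194 k (by omega) (by omega)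
                  · skip
                    exact relsRange_sound mdata bases 140 27300 rel195 k (by omega) (by omega)
                · skip
                  by_cases hh198 : k < 27580
                  · skip
                    exact relsRange_sound mdata bases 140 27440 rel196 k (by omega) (by omega)
                  · skip
                    exact relsRange_sound mdata bases 140 27580 rel197 k (by omega) (by omega)
        · skip
          by_cases hh199 : k < 29680
          · skip
            by_cases hh200 : k < 28700
            · skip
              by_cases hh201 : k < 28140
              · skip
                by_cases hh202 : k < 27860
                · skip
                  exact relsRange_sound mdata bases 140 27720 rel198 k (by omega) (by omega)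
                · skip
                  by_cases hh203 : k < 28000
                  · skip
                    exact relsRange_sound mdata bases 140 27860 rel199 k (by omega) (by omega)
                  · skip
                    exact relsRange_sound mdata bases 140 28000 rel200 k (by omega) (by omega)
              · skip
                by_cases hh204 : k < 28420
                · skip
                  by_cases hh205 : k < 28280
                  · skip
                    exact relsRange_sound mdata bases 140 28140 rel201 k (by omega) (by omega)
                  · skip
                    exact relsRange_sound mdata bases 140 28280 rel202 k (by omega) (by omega)
                · skip
                  by_cases hh206 : k < 28560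
                  · skip
                    exact relsRange_sound mdata bases 140 28420 rel203 k (by omega) (by omega)
                  · skip
                    exact relsRange_sound mdata bases 140 28560 rel204 k (by omega) (by omega)
            · skip
              by_cases hh207 : k < 29120
              · skip
                by_cases hh208 : k < 28840
                · skip
                  exact relsRange_sound mdata bases 140 28700 rel205 k (by omega) (by omega)
                · skip
                  by_cases hh209 : k < 28980
                  · skip
                    exact relsRange_sound mdata bases 140 28840 rel206 k (by omega) (by omega)
                  · skip
                    exact relsRange_sound mdata bases 140 28980 rel207 k (by omega) (by omega)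
              · skip
                by_cases hh210 : k < 29400
                · skip
                  by_cases hh211 : k < 29260
                  · skip
                    exact relsRange_sound mdata bases 140 29120 rel208 k (by omega) (by omega)
                  · skip
                    exact relsRange_sound mdata bases 140 29260 rel209 k (by omega) (by omega)
                · skip
                  by_cases hh212 : k < 29540
                  · skip
                    exact relsRange_sound mdata bases 140 29400 rel210 k (by omega) (by omega)
                  · skip
                    exact relsRange_sound mdata bases 140 29540 rel211 k (by omega) (by omega)
          · skip
            by_cases hh213 : k < 30660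
            · skip
              by_cases hh214 : k < 30100
              · skip
                by_cases hh215 : k < 29820
                · skip
                  exact relsRange_sound mdata bases 140 29680 rel212 k (by omega) (by omega)
                · skip
                  by_cases hh216 : k < 29960
                  · skip
                    exact relsRange_sound mdata bases 140 29820 rel213 k (by omega) (by omega)
                  · skip
                    exact relsRange_sound mdata bases 140 29960 rel214 k (by omega) (by omega)
              · skip
                by_cases hh217 : k < 30380
                · skip
                  by_cases hh218 : k < 30240
                  · skip
                    exact relsRange_sound mdata bases 140 30100 rel215 k (by omega) (by omega)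
                  · skip
                    exact relsRange_sound mdata bases 140 30240 rel216 k (by omega) (by omega)
                · skip
                  by_cases hh219 : k < 30520
                  · skip
                    exact relsRange_sound mdata bases 140 30380 rel217 k (by omega) (by omega)
                  · skip
                    exact relsRange_sound mdata bases 140 30520 rel218 k (by omega) (by omega)
            · skip
              by_cases hh220 : k < 31220
              · skip
                by_cases hh221 : k < 30940
                · skip
                  by_cases hh222 : k < 30800
                  · skip
                    exact relsRange_sound mdata bases 140 30660 rel219 k (by omega) (by omega)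
                  · skip
                    exact relsRange_sound mdata bases 140 30800 rel220 k (by omega) (by omega)
                · skip
                  by_cases hh223 : k < 31080
                  · skip
                    exact relsRange_sound mdata bases 140 30940 rel221 k (by omega) (by omega)
                  · skip
                    exact relsRange_sound mdata bases 140 31080 rel222 k (by omega) (by omega)
              · skip
                by_cases hh224 : k < 31500
                · skip
                  by_cases hh225 : k < 31360
                  · skip
                    exact relsRange_sound mdata bases 140 31220 rel223 k (by omega) (by omega)
                  · skip
                    exact relsRange_sound mdata bases 140 31360 rel224 k (by omega) (by omega)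
                · skip
                  by_cases hh226 : k < 31640
                  · skip
                    exact relsRange_sound mdata bases 140 31500 rel225 k (by omega) (by omega)
                  · skip
                    exact relsRange_sound mdata bases 31 31640 rel226 k (by omega) (by omega)
  · intro k h1 h2
    have h2' : k < 1 + (31671 - 1) := h2
    by_cases hh1 : k < 13334
    · skip
      exact treeRange_sound mdata 13333 1 tree0 k (by omega) (by omega)
    · skip
      by_cases hh2 : k < 26667
      · skip
        exact treeRange_sound mdata 13333 13334 tree1 k (by omega) (by omega)
      · skip
        exact treeRange_sound mdata 5004 26667 tree2 k (by omega) (by omega)

theorem orb1 : OrbOK mdata subsL 1 28161 := by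
  refine ⟨by decide, by decide, ?_, ?_⟩
  · intro k h1 h2
    by_cases hh1 : k < 13333
    · skip
      by_cases hh2 : k < 4445
      · skip
        exact closedRange_sound mdata subsL 1 28161 4444 1 closed1_0 k (by omega) (by omega)
      · skip
        by_cases hh3 : k < 8889
        · skip
          exact closedRange_sound mdata subsL 1 28161 4444 4445 closed1_1 k (by omega) (by omega)
        · skip
          exact closedRange_sound mdata subsL 1 28161 4444 8889 closed1_2 k (by omega) (by omega)
    · skip
      by_cases hh4 : k < 22221
      · skip
        by_cases hh5 : k < 17777
        · skip
          exact closedRange_sound mdata subsL 1 28161 4444 13333 closed1_3 k (by omega) (by omega)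
        · skip
          exact closedRange_sound mdata subsL 1 28161 4444 17777 closed1_4 k (by omega) (by omega)
      · skip
        by_cases hh6 : k < 26665
        · skip
          exact closedRange_sound mdata subsL 1 28161 4444 22221 closed1_5 k (by omega) (by omega)
        · skip
          exact closedRange_sound mdata subsL 1 28161 1496 26665 closed1_6 k (by omega) (by omega)
  · intro k h1 h2
    by_cases hh1 : k < 16002
    · skip
      exact reachRange_sound mdata subsL 1 16000 2 reach1_0 k (by omega) (by omega)
    · skip
      exact reachRange_sound mdata subsL 1 12159 16002 reach1_1 k (by omega) (by omega)

theorem orb2 : OrbOK mdata subsL 28161 31671 := by
  refine ⟨by decide, by decide, ?_, ?_⟩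
  · intro k h1 h2
    exact closedRange_sound mdata subsL 28161 31671 3510 28161 closed2_0 k (by omega) (by omega)
  · intro k h1 h2
    exact reachRange_sound mdata subsL 28161 3509 28162 reach2_0 k (by omega) (by omega)

theorem main : ((Subgroup.closure Sset).map (PresentedGroup.mk Rset)).index = 31671 ∧
    ∃ e : (PresentedGroup Rset ⧸ (Subgroup.closure Sset).map (PresentedGroup.mk Rset)) ≃ Fin 31671,
      ∀ lo hi, OrbOK mdata subsL lo hi → ∀ q, (e q).val = lo →
        e '' (MulAction.orbit ((Subgroup.closure Sset).map (PresentedGroup.mk Rset)) q) =
          {x : Fin 31671 | lo ≤ x.val ∧ x.val < hi} :=
  model_main mdata bases subsL coding hR1 hS1 hS2 model_ok bound

end Cfsg.Agent.Helper4.TC.Fi23Fi22
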