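import Cfsg.Agent.Lib.Helper4.TC.Fi23SL
import Cfsg.Agent.Lib.Helper4.TC.Fi23Fi22Glue
import Cfsg.Agent.Lib.Helper4.TC.Strict

set_option autoImplicit false
set_option maxRecDepth 100000
set_option linter.unusedVariables false
set_option Elab.async false

namespace Cfsg.Agent.Helper4.TC.Fi23S

open Cfsg.Agent.Helper4.TC

theorem lvl2_c0 : lvlRange Fi23Fi22.mdata ld2 W2 1 20001 0 = true := lvlRange_strict Fi23Fi22.mdata ld2 W2 1 20001 0 (by decide +kernel)
theorem lvl2_c1 : lvlRange Fi23Fi22.mdata ld2 W2 1 8159 20001 = true := lvlRange_strict Fi23Fi22.mdata ld2 W2 1 8159 20001 (by decide +kernel)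
theorem srt2_c0 : srtRange ld2 28159 0 = true := srtRange_strict ld2 28159 0 (by decide +kernel)
theorem fix2 : ∀ w ∈ W2, (∀ c ∈ w, c < Fi23Fi22.mdata.nc) ∧ ∀ q ∈ [0], mtrace Fi23Fi22.mdata w q = q := by decide +kernel

theorem lvl3_c0 : lvlRange Fi23Fi22.mdata ld3 W3 203 2861 0 = true := lvlRange_strict Fi23Fi22.mdata ld3 W3 203 2861 0 (by decide +kernel)
theorem lvl3_c1 : lvlRange Fi23Fi22.mdata ld3 W3 203 2859 2861 = true := lvlRange_strict Fi23Fi22.mdata ld3 W3 203 2859 2861 (by decide +kernel)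
theorem lvl3_c2 : lvlRange Fi23Fi22.mdata ld3 W3 203 2862 5720 = true := lvlRange_strict Fi23Fi22.mdata ld3 W3 203 2862 5720 (by decide +kernel)
theorem lvl3_c3 : lvlRange Fi23Fi22.mdata ld3 W3 203 2860 8582 = true := lvlRange_strict Fi23Fi22.mdata ld3 W3 203 2860 8582 (by decide +kernel)
theorem lvl3_c4 : lvlRange Fi23Fi22.mdata ld3 W3 203 2852 11442 = true := lvlRange_strict Fi23Fi22.mdata ld3 W3 203 2852 11442 (by decide +kernel)
theorem lvl3_c5 : lvlRange Fi23Fi22.mdata ld3 W3 203 2858 14294 = true := lvlRange_strict Fi23Fi22.mdata ld3 W3 203 2858 14294 (by decide +kernel)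
theorem lvl3_c6 : lvlRange Fi23Fi22.mdata ld3 W3 203 2857 17152 = true := lvlRange_strict Fi23Fi22.mdata ld3 W3 203 2857 17152 (by decide +kernel)
theorem lvl3_c7 : lvlRange Fi23Fi22.mdata ld3 W3 203 1831 20009 = true := lvlRange_strict Fi23Fi22.mdata ld3 W3 203 1831 20009 (by decide +kernel)
theorem srt3_c0 : srtRange ld3 21839 0 = true := srtRange_strict ld3 21839 0 (by decide +kernel)
theorem fix3 : ∀ w ∈ W3, (∀ c ∈ w, c < Fi23Fi22.mdata.nc) ∧ ∀ q ∈ [1, 0], mtrace Fi23Fi22.mdata w q = q := by decide +kernel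

theorem lvl4_c0 : lvlRange Fi23Fi22.mdata ld4 W4 1230 502 0 = true := lvlRange_strict Fi23Fi22.mdata ld4 W4 1230 502 0 (by decide +kernel)
theorem lvl4_c1 : lvlRange Fi23Fi22.mdata ld4 W4 1230 485 502 = true := lvlRange_strict Fi23Fi22.mdata ld4 W4 1230 485 502 (by decide +kernel)
theorem lvl4_c2 : lvlRange Fi23Fi22.mdata ld4 W4 1230 471 987 = true := lvlRange_strict Fi23Fi22.mdata ld4 W4 1230 471 987 (by decide +kernel)
theorem lvl4_c3 : lvlRange Fi23Fi22.mdata ld4 W4 1230 456 1458 = true := lvlRange_strict Fi23Fi22.mdata ld4 W4 1230 456 1458 (by decide +kernel)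
theorem lvl4_c4 : lvlRange Fi23Fi22.mdata ld4 W4 1230 456 1914 = true := lvlRange_strict Fi23Fi22.mdata ld4 W4 1230 456 1914 (by decide +kernel)
theorem lvl4_c5 : lvlRange Fi23Fi22.mdata ld4 W4 1230 452 2370 = true := lvlRange_strict Fi23Fi22.mdata ld4 W4 1230 452 2370 (by decide +kernel)
theorem lvl4_c6 : lvlRange Fi23Fi22.mdata ld4 W4 1230 445 2822 = true := lvlRange_strict Fi23Fi22.mdata ld4 W4 1230 445 2822 (by decide +kernel)
theorem lvl4_c7 : lvlRange Fi23Fi22.mdata ld4 W4 1230 453 3267 = true := lvlRange_strict Fi23Fi22.mdata ld4 W4 1230 453 3267 (by decide +kernel)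
theorem lvl4_c8 : lvlRange Fi23Fi22.mdata ld4 W4 1230 454 3720 = true := lvlRange_strict Fi23Fi22.mdata ld4 W4 1230 454 3720 (by decide +kernel)
theorem lvl4_c9 : lvlRange Fi23Fi22.mdata ld4 W4 1230 441 4174 = true := lvlRange_strict Fi23Fi22.mdata ld4 W4 1230 441 4174 (by decide +kernel)
theorem lvl4_c10 : lvlRange Fi23Fi22.mdata ld4 W4 1230 445 4615 = true := lvlRange_strict Fi23Fi22.mdata ld4 W4 1230 445 4615 (by decide +kernel)
theorem lvl4_c11 : lvlRange Fi23Fi22.mdata ld4 W4 1230 450 5060 = true := lvlRange_strict Fi23Fi22.mdata ld4 W4 1230 450 5060 (by decide +kernel)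
theorem lvl4_c12 : lvlRange Fi23Fi22.mdata ld4 W4 1230 455 5510 = true := lvlRange_strict Fi23Fi22.mdata ld4 W4 1230 455 5510 (by decide +kernel)
theorem lvl4_c13 : lvlRange Fi23Fi22.mdata ld4 W4 1230 466 5965 = true := lvlRange_strict Fi23Fi22.mdata ld4 W4 1230 466 5965 (by decide +kernel)
theorem lvl4_c14 : lvlRange Fi23Fi22.mdata ld4 W4 1230 477 6431 = true := lvlRange_strict Fi23Fi22.mdata ld4 W4 1230 477 6431 (by decide +kernel)
theorem lvl4_c15 : lvlRange Fi23Fi22.mdata ld4 W4 1230 472 6908 = true := lvlRange_strict Fi23Fi22.mdata ld4 W4 1230 472 6908 (by decide +kernel)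
theorem lvl4_c16 : lvlRange Fi23Fi22.mdata ld4 W4 1230 396 7380 = true := lvlRange_strict Fi23Fi22.mdata ld4 W4 1230 396 7380 (by decide +kernel)
theorem srt4_c0 : srtRange ld4 7775 0 = true := srtRange_strict ld4 7775 0 (by decide +kernel)
theorem fix4 : ∀ w ∈ W4, (∀ c ∈ w, c < Fi23Fi22.mdata.nc) ∧ ∀ q ∈ [203, 1, 0], mtrace Fi23Fi22.mdata w q = q := by decide +kernel

theorem lvl5_c0 : lvlRange Fi23Fi22.mdata ld5 W5 2 27 0 = true := lvlRange_strict Fi23Fi22.mdata ld5 W5 2 27 0 (by decide +kernel)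
theorem srt5_c0 : srtRange ld5 26 0 = true := srtRange_strict ld5 26 0 (by decide +kernel)
theorem fix5 : ∀ w ∈ W5, (∀ c ∈ w, c < Fi23Fi22.mdata.nc) ∧ ∀ q ∈ [1230, 203, 1, 0], mtrace Fi23Fi22.mdata w q = q := by decide +kernel

theorem lvl2 : LevelOK Fi23Fi22.mdata ld2 W2 1 := by
  refine ⟨?_, ?_⟩
  · intro k hk
    have hk' : k < 28160 := hk
    by_cases hh1 : k < 20001
    · skip
      exact lvlRange_sound Fi23Fi22.mdata ld2 W2 1 20001 0 lvl2_c0 k (by omega) (by omega)
    · skip
      exact lvlRange_sound Fi23Fi22.mdata ld2 W2 1 8159 20001 lvl2_c1 k (by omega) (by omega)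
  · intro k hk
    have hk' : k + 1 < 28160 := hk
    exact srtRange_sound ld2 28159 0 srt2_c0 k (by omega) (by omega)

theorem lvl3 : LevelOK Fi23Fi22.mdata ld3 W3 203 := by
  refine ⟨?_, ?_⟩
  · intro k hk
    have hk' : k < 21840 := hk
    by_cases hh1 : k < 11442
    · skip
      by_cases hh2 : k < 5720
      · skip
        by_cases hh3 : k < 2861
        · skip
          exact lvlRange_sound Fi23Fi22.mdata ld3 W3 203 2861 0 lvl3_c0 k (by omega) (by omega)
        · skip
          exact lvlRange_sound Fi23Fi22.mdata ld3 W3 203 2859 2861 lvl3_c1 k (by omega) (by omega)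
      · skip
        by_cases hh4 : k < 8582
        · skip
          exact lvlRange_sound Fi23Fi22.mdata ld3 W3 203 2862 5720 lvl3_c2 k (by omega) (by omega)
        · skip
          exact lvlRange_sound Fi23Fi22.mdata ld3 W3 203 2860 8582 lvl3_c3 k (by omega) (by omega)
    · skip
      by_cases hh5 : k < 17152
      · skip
        by_cases hh6 : k < 14294
        · skip
          exact lvlRange_sound Fi23Fi22.mdata ld3 W3 203 2852 11442 lvl3_c4 k (by omega) (by omega)
        · skip
          exact lvlRange_sound Fi23Fi22.mdata ld3 W3 203 2858 14294 lvl3_c5 k (by omega) (by omega)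
      · skip
        by_cases hh7 : k < 20009
        · skip
          exact lvlRange_sound Fi23Fi22.mdata ld3 W3 203 2857 17152 lvl3_c6 k (by omega) (by omega)
        · skip
          exact lvlRange_sound Fi23Fi22.mdata ld3 W3 203 1831 20009 lvl3_c7 k (by omega) (by omega)
  · intro k hk
    have hk' : k + 1 < 21840 := hk
    exact srtRange_sound ld3 21839 0 srt3_c0 k (by omega) (by omega)

theorem lvl4 : LevelOK Fi23Fi22.mdata ld4 W4 1230 := by
  refine ⟨?_, ?_⟩
  · intro k hk
    have hk' : k < 7776 := hk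
    by_cases hh1 : k < 3720
    · skip
      by_cases hh2 : k < 1914
      · skip
        by_cases hh3 : k < 987
        · skip
          by_cases hh4 : k < 502
          · skip
            exact lvlRange_sound Fi23Fi22.mdata ld4 W4 1230 502 0 lvl4_c0 k (by omega) (by omega)
          · skip
            exact lvlRange_sound Fi23Fi22.mdata ld4 W4 1230 485 502 lvl4_c1 k (by omega) (by omega)
        · skip
          by_cases hh5 : k < 1458
          · skip
            exact lvlRange_sound Fi23Fi22.mdata ld4 W4 1230 471 987 lvl4_c2 k (by omega) (by omega)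
          · skip
            exact lvlRange_sound Fi23Fi22.mdata ld4 W4 1230 456 1458 lvl4_c3 k (by omega) (by omega)
      · skip
        by_cases hh6 : k < 2822
        · skip
          by_cases hh7 : k < 2370
          · skip
            exact lvlRange_sound Fi23Fi22.mdata ld4 W4 1230 456 1914 lvl4_c4 k (by omega) (by omega)
          · skip
            exact lvlRange_sound Fi23Fi22.mdata ld4 W4 1230 452 2370 lvl4_c5 k (by omega) (by omega)
        · skip
          by_cases hh8 : k < 3267
          · skip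
            exact lvlRange_sound Fi23Fi22.mdata ld4 W4 1230 445 2822 lvl4_c6 k (by omega) (by omega)
          · skip
            exact lvlRange_sound Fi23Fi22.mdata ld4 W4 1230 453 3267 lvl4_c7 k (by omega) (by omega)
    · skip
      by_cases hh9 : k < 5510
      · skip
        by_cases hh10 : k < 4615
        · skip
          by_cases hh11 : k < 4174
          · skip
            exact lvlRange_sound Fi23Fi22.mdata ld4 W4 1230 454 3720 lvl4_c8 k (by omega) (by omega)
          · skip
            exact lvlRange_sound Fi23Fi22.mdata ld4 W4 1230 441 4174 lvl4_c9 k (by omega) (by omega)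
        · skip
          by_cases hh12 : k < 5060
          · skip
            exact lvlRange_sound Fi23Fi22.mdata ld4 W4 1230 445 4615 lvl4_c10 k (by omega) (by omega)
          · skip
            exact lvlRange_sound Fi23Fi22.mdata ld4 W4 1230 450 5060 lvl4_c11 k (by omega) (by omega)
      · skip
        by_cases hh13 : k < 6431
        · skip
          by_cases hh14 : k < 5965
          · skip
            exact lvlRange_sound Fi23Fi22.mdata ld4 W4 1230 455 5510 lvl4_c12 k (by omega) (by omega)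
          · skip
            exact lvlRange_sound Fi23Fi22.mdata ld4 W4 1230 466 5965 lvl4_c13 k (by omega) (by omega)
        · skip
          by_cases hh15 : k < 6908
          · skip
            exact lvlRange_sound Fi23Fi22.mdata ld4 W4 1230 477 6431 lvl4_c14 k (by omega) (by omega)
          · skip
            by_cases hh16 : k < 7380
            · skip
              exact lvlRange_sound Fi23Fi22.mdata ld4 W4 1230 472 6908 lvl4_c15 k (by omega) (by omega)
            · skip
              exact lvlRange_sound Fi23Fi22.mdata ld4 W4 1230 396 7380 lvl4_c16 k (by omega) (by omega)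
  · intro k hk
    have hk' : k + 1 < 7776 := hk
    exact srtRange_sound ld4 7775 0 srt4_c0 k (by omega) (by omega)

theorem lvl5 : LevelOK Fi23Fi22.mdata ld5 W5 2 := by
  refine ⟨?_, ?_⟩
  · intro k hk
    have hk' : k < 27 := hk
    exact lvlRange_sound Fi23Fi22.mdata ld5 W5 2 27 0 lvl5_c0 k (by omega) (by omega)
  · intro k hk
    have hk' : k + 1 < 27 := hk
    exact srtRange_sound ld5 26 0 srt5_c0 k (by omega) (by omega)

noncomputable def specs : List LSpec := [⟨ld2, W2, 1⟩, ⟨ld3, W3, 203⟩, ⟨ld4, W4, 1230⟩, ⟨ld5, W5, 2⟩]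

theorem levels_ok : LevelsOK Fi23Fi22.mdata [0] specs := by
  refine levelsOK_cons Fi23Fi22.mdata [0] ⟨ld2, W2, 1⟩ _ lvl2 (by decide) fix2 ?_
  refine levelsOK_cons Fi23Fi22.mdata [1, 0] ⟨ld3, W3, 203⟩ _ lvl3 (by decide) fix3 ?_
  refine levelsOK_cons Fi23Fi22.mdata [203, 1, 0] ⟨ld4, W4, 1230⟩ _ lvl4 (by decide) fix4 ?_
  refine levelsOK_cons Fi23Fi22.mdata [1230, 203, 1, 0] ⟨ld5, W5, 2⟩ _ lvl5 (by decide) fix5 ?_
  exact levelsOK_nil _ _

end Cfsg.Agent.Helper4.TC.Fi23S
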