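import Cfsg.Agent.Lib.Helper4.TC.HeS44Data

set_option autoImplicit false
set_option maxRecDepth 100000
set_option linter.unusedVariables false
set_option Elab.async false

namespace Cfsg.Agent.Helper4.TC.HeS44

open Cfsg.Agent.Helper4.TC

theorem cnt0 : countFinal data 5558 0 0 = 2058 := by decide +kernel
theorem rows0 : rowsRange data 5558 3038 0 = true := by decide +kernel
theorem rows1 : rowsRange data 5558 2520 3038 = true := by decide +kernel

end Cfsg.Agent.Helper4.TC.HeS44
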