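import Cfsg.Agent.Lib.Helper4.TC.HeS44Model
import Cfsg.Agent.Lib.Helper4.TC.HeS44Data

set_option autoImplicit false
set_option maxRecDepth 100000
set_option linter.unusedVariables false
set_option Elab.async false

namespace Cfsg.Agent.Helper4.TC.HeS44

open Cfsg.Agent.Helper4.TC

theorem inv0 : invRange mdata 1904 0 = true := by decide +kernel
theorem inv1 : invRange mdata 154 1904 = true := by decide +kernel
theorem tree0 : treeRange mdata 2057 1 = true := by decide +kernel
theorem closed1_0 : closedRange mdata subsL 1 1361 1081 1 = true := by decide +kernel
theorem closed1_1 : closedRange mdata subsL 1 1361 279 1082 = true := by decide +kernel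
theorem reach1_0 : reachRange mdata subsL 1 1359 2 = true := by decide +kernel
theorem closed2_0 : closedRange mdata subsL 1361 1786 425 1361 = true := by decide +kernel
theorem reach2_0 : reachRange mdata subsL 1361 424 1362 = true := by decide +kernel

end Cfsg.Agent.Helper4.TC.HeS44
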