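import Cfsg.Agent.Lib.Helper4.TC.HeS44Model
import Cfsg.Agent.Lib.Helper4.TC.HeS44Data

set_option autoImplicit false
set_option maxRecDepth 100000
set_option linter.unusedVariables false
set_option Elab.async false

namespace Cfsg.Agent.Helper4.TC.HeS44

open Cfsg.Agent.Helper4.TC

theorem closed3_0 : closedRange mdata subsL 1786 1922 136 1786 = true := by decide +kernel
theorem reach3_0 : reachRange mdata subsL 1786 135 1787 = true := by decide +kernel
theorem closed4_0 : closedRange mdata subsL 1922 2058 136 1922 = true := by decide +kernel
theorem reach4_0 : reachRange mdata subsL 1922 135 1923 = true := by decide +kernel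
theorem sub0_ok : sub0OK mdata subsL = true := by decide +kernel
theorem relc_ok : wordsLettersOK 14 bases = true := by decide +kernel
theorem subc_ok : wordsLettersOK 14 subsL = true := by decide +kernel

end Cfsg.Agent.Helper4.TC.HeS44
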