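import Cfsg.Agent.Lib.Helper4.TC.ONL37Data
import Cfsg.Agent.Lib.Helper4.TC.Strict

set_option autoImplicit false
set_option maxRecDepth 100000
set_option linter.unusedVariables false
set_option Elab.async false

namespace Cfsg.Agent.Helper4.TC.ONL37

open Cfsg.Agent.Helper4.TC

theorem e0_c0 : edgeRange data 0 14624 0 = true := edgeRange_strict data 0 14624 0 (by decide +kernel)
theorem e0_c1 : edgeRange data 0 14211 14624 = true := edgeRange_strict data 0 14211 14624 (by decide +kernel)
theorem e0_c2 : edgeRange data 0 14386 28835 = true := edgeRange_strict data 0 14386 28835 (by decide +kernel)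
theorem e0_c3 : edgeRange data 0 14039 43221 = true := edgeRange_strict data 0 14039 43221 (by decide +kernel)
theorem e0_c4 : edgeRange data 0 14467 57260 = true := edgeRange_strict data 0 14467 57260 (by decide +kernel)
theorem e0_c5 : edgeRange data 0 14044 71727 = true := edgeRange_strict data 0 14044 71727 (by decide +kernel)
theorem e0_c6 : edgeRange data 0 12969 85771 = true := edgeRange_strict data 0 12969 85771 (by decide +kernel)
theorem e0_c7 : edgeRange data 0 12618 98740 = true := edgeRange_strict data 0 12618 98740 (by decide +kernel)
theorem e0_c8 : edgeRange data 0 12132 111358 = true := edgeRange_strict data 0 12132 111358 (by decide +kernel)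
theorem e0_c9 : edgeRange data 0 12589 123490 = true := edgeRange_strict data 0 12589 123490 (by decide +kernel)
theorem e0_c10 : edgeRange data 0 13537 136079 = true := edgeRange_strict data 0 13537 136079 (by decide +kernel)
theorem e0_c11 : edgeRange data 0 12667 149616 = true := edgeRange_strict data 0 12667 149616 (by decide +kernel)
theorem e0_c12 : edgeRange data 0 8425 162283 = true := edgeRange_strict data 0 8425 162283 (by decide +kernel)
theorem e0_c13 : edgeRange data 0 7995 170708 = true := edgeRange_strict data 0 7995 170708 (by decide +kernel)
theorem e0_c14 : edgeRange data 0 7876 178703 = true := edgeRange_strict data 0 7876 178703 (by decide +kernel)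
theorem e0_c15 : edgeRange data 0 8135 186579 = true := edgeRange_strict data 0 8135 186579 (by decide +kernel)
theorem e0_c16 : edgeRange data 0 26950 194714 = true := edgeRange_strict data 0 26950 194714 (by decide +kernel)
theorem e0_c17 : edgeRange data 0 40480 221664 = true := edgeRange_strict data 0 40480 221664 (by decide +kernel)

end Cfsg.Agent.Helper4.TC.ONL37
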