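import Cfsg.Agent.Lib.Helper4.TC.ONL37Data
import Cfsg.Agent.Lib.Helper4.TC.Strict

set_option autoImplicit false
set_option maxRecDepth 100000
set_option linter.unusedVariables false
set_option Elab.async false

namespace Cfsg.Agent.Helper4.TC.ONL37

open Cfsg.Agent.Helper4.TC

theorem e1_c0 : edgeRange data 1 14391 0 = true := edgeRange_strict data 1 14391 0 (by decide +kernel)
theorem e1_c1 : edgeRange data 1 14146 14391 = true := edgeRange_strict data 1 14146 14391 (by decide +kernel)
theorem e1_c2 : edgeRange data 1 14284 28537 = true := edgeRange_strict data 1 14284 28537 (by decide +kernel)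
theorem e1_c3 : edgeRange data 1 14268 42821 = true := edgeRange_strict data 1 14268 42821 (by decide +kernel)
theorem e1_c4 : edgeRange data 1 14828 57089 = true := edgeRange_strict data 1 14828 57089 (by decide +kernel)
theorem e1_c5 : edgeRange data 1 14525 71917 = true := edgeRange_strict data 1 14525 71917 (by decide +kernel)
theorem e1_c6 : edgeRange data 1 14177 86442 = true := edgeRange_strict data 1 14177 86442 (by decide +kernel)
theorem e1_c7 : edgeRange data 1 13741 100619 = true := edgeRange_strict data 1 13741 100619 (by decide +kernel)
theorem e1_c8 : edgeRange data 1 13566 114360 = true := edgeRange_strict data 1 13566 114360 (by decide +kernel)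
theorem e1_c9 : edgeRange data 1 14454 127926 = true := edgeRange_strict data 1 14454 127926 (by decide +kernel)
theorem e1_c10 : edgeRange data 1 15577 142380 = true := edgeRange_strict data 1 15577 142380 (by decide +kernel)
theorem e1_c11 : edgeRange data 1 11598 157957 = true := edgeRange_strict data 1 11598 157957 (by decide +kernel)
theorem e1_c12 : edgeRange data 1 10813 169555 = true := edgeRange_strict data 1 10813 169555 (by decide +kernel)
theorem e1_c13 : edgeRange data 1 10929 180368 = true := edgeRange_strict data 1 10929 180368 (by decide +kernel)
theorem e1_c14 : edgeRange data 1 23041 191297 = true := edgeRange_strict data 1 23041 191297 (by decide +kernel)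
theorem e1_c15 : edgeRange data 1 47806 214338 = true := edgeRange_strict data 1 47806 214338 (by decide +kernel)

end Cfsg.Agent.Helper4.TC.ONL37
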