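import Cfsg.Agent.Lib.Helper4.TC.ONL37Data
import Cfsg.Agent.Lib.Helper4.TC.Strict

set_option autoImplicit false
set_option maxRecDepth 100000
set_option linter.unusedVariables false
set_option Elab.async false

namespace Cfsg.Agent.Helper4.TC.ONL37

open Cfsg.Agent.Helper4.TC

theorem e10_c0 : edgeRange data 10 17144 0 = true := edgeRange_strict data 10 17144 0 (by decide +kernel)
theorem e10_c1 : edgeRange data 10 16927 17144 = true := edgeRange_strict data 10 16927 17144 (by decide +kernel)
theorem e10_c2 : edgeRange data 10 16921 34071 = true := edgeRange_strict data 10 16921 34071 (by decide +kernel)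
theorem e10_c3 : edgeRange data 10 17179 50992 = true := edgeRange_strict data 10 17179 50992 (by decide +kernel)
theorem e10_c4 : edgeRange data 10 17072 68171 = true := edgeRange_strict data 10 17072 68171 (by decide +kernel)
theorem e10_c5 : edgeRange data 10 15531 85243 = true := edgeRange_strict data 10 15531 85243 (by decide +kernel)
theorem e10_c6 : edgeRange data 10 14703 100774 = true := edgeRange_strict data 10 14703 100774 (by decide +kernel)
theorem e10_c7 : edgeRange data 10 14511 115477 = true := edgeRange_strict data 10 14511 115477 (by decide +kernel)
theorem e10_c8 : edgeRange data 10 14784 129988 = true := edgeRange_strict data 10 14784 129988 (by decide +kernel)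
theorem e10_c9 : edgeRange data 10 15617 144772 = true := edgeRange_strict data 10 15617 144772 (by decide +kernel)
theorem e10_c10 : edgeRange data 10 10922 160389 = true := edgeRange_strict data 10 10922 160389 (by decide +kernel)
theorem e10_c11 : edgeRange data 10 10165 171311 = true := edgeRange_strict data 10 10165 171311 (by decide +kernel)
theorem e10_c12 : edgeRange data 10 9705 181476 = true := edgeRange_strict data 10 9705 181476 (by decide +kernel)
theorem e10_c13 : edgeRange data 10 13223 191181 = true := edgeRange_strict data 10 13223 191181 (by decide +kernel)
theorem e10_c14 : edgeRange data 10 50000 204404 = true := edgeRange_strict data 10 50000 204404 (by decide +kernel)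
theorem e10_c15 : edgeRange data 10 7740 254404 = true := edgeRange_strict data 10 7740 254404 (by decide +kernel)

end Cfsg.Agent.Helper4.TC.ONL37
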