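import Cfsg.Agent.Lib.Helper4.TC.ONL37Data
import Cfsg.Agent.Lib.Helper4.TC.Strict

set_option autoImplicit false
set_option maxRecDepth 100000
set_option linter.unusedVariables false
set_option Elab.async false

namespace Cfsg.Agent.Helper4.TC.ONL37

open Cfsg.Agent.Helper4.TC

theorem e11_c0 : edgeRange data 11 18466 0 = true := edgeRange_strict data 11 18466 0 (by decide +kernel)
theorem e11_c1 : edgeRange data 11 18258 18466 = true := edgeRange_strict data 11 18258 18466 (by decide +kernel)
theorem e11_c2 : edgeRange data 11 18779 36724 = true := edgeRange_strict data 11 18779 36724 (by decide +kernel)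
theorem e11_c3 : edgeRange data 11 19023 55503 = true := edgeRange_strict data 11 19023 55503 (by decide +kernel)
theorem e11_c4 : edgeRange data 11 19628 74526 = true := edgeRange_strict data 11 19628 74526 (by decide +kernel)
theorem e11_c5 : edgeRange data 11 18880 94154 = true := edgeRange_strict data 11 18880 94154 (by decide +kernel)
theorem e11_c6 : edgeRange data 11 19019 113034 = true := edgeRange_strict data 11 19019 113034 (by decide +kernel)
theorem e11_c7 : edgeRange data 11 20133 132053 = true := edgeRange_strict data 11 20133 132053 (by decide +kernel)
theorem e11_c8 : edgeRange data 11 17501 152186 = true := edgeRange_strict data 11 17501 152186 (by decide +kernel)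
theorem e11_c9 : edgeRange data 11 15350 169687 = true := edgeRange_strict data 11 15350 169687 (by decide +kernel)
theorem e11_c10 : edgeRange data 11 16039 185037 = true := edgeRange_strict data 11 16039 185037 (by decide +kernel)
theorem e11_c11 : edgeRange data 11 50000 201076 = true := edgeRange_strict data 11 50000 201076 (by decide +kernel)
theorem e11_c12 : edgeRange data 11 11068 251076 = true := edgeRange_strict data 11 11068 251076 (by decide +kernel)

end Cfsg.Agent.Helper4.TC.ONL37
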