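import Cfsg.Agent.Lib.Helper4.TC.ONL37Data
import Cfsg.Agent.Lib.Helper4.TC.Strict

set_option autoImplicit false
set_option maxRecDepth 100000
set_option linter.unusedVariables false
set_option Elab.async false

namespace Cfsg.Agent.Helper4.TC.ONL37

open Cfsg.Agent.Helper4.TC

theorem e12_c0 : edgeRange data 12 15418 0 = true := edgeRange_strict data 12 15418 0 (by decide +kernel)
theorem e12_c1 : edgeRange data 12 15295 15418 = true := edgeRange_strict data 12 15295 15418 (by decide +kernel)
theorem e12_c2 : edgeRange data 12 15565 30713 = true := edgeRange_strict data 12 15565 30713 (by decide +kernel)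
theorem e12_c3 : edgeRange data 12 15429 46278 = true := edgeRange_strict data 12 15429 46278 (by decide +kernel)
theorem e12_c4 : edgeRange data 12 16158 61707 = true := edgeRange_strict data 12 16158 61707 (by decide +kernel)
theorem e12_c5 : edgeRange data 12 15536 77865 = true := edgeRange_strict data 12 15536 77865 (by decide +kernel)
theorem e12_c6 : edgeRange data 12 14883 93401 = true := edgeRange_strict data 12 14883 93401 (by decide +kernel)
theorem e12_c7 : edgeRange data 12 14893 108284 = true := edgeRange_strict data 12 14893 108284 (by decide +kernel)
theorem e12_c8 : edgeRange data 12 15666 123177 = true := edgeRange_strict data 12 15666 123177 (by decide +kernel)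
theorem e12_c9 : edgeRange data 12 16197 138843 = true := edgeRange_strict data 12 16197 138843 (by decide +kernel)
theorem e12_c10 : edgeRange data 12 13700 155040 = true := edgeRange_strict data 12 13700 155040 (by decide +kernel)
theorem e12_c11 : edgeRange data 12 11919 168740 = true := edgeRange_strict data 12 11919 168740 (by decide +kernel)
theorem e12_c12 : edgeRange data 12 11691 180659 = true := edgeRange_strict data 12 11691 180659 (by decide +kernel)
theorem e12_c13 : edgeRange data 12 26321 192350 = true := edgeRange_strict data 12 26321 192350 (by decide +kernel)
theorem e12_c14 : edgeRange data 12 43473 218671 = true := edgeRange_strict data 12 43473 218671 (by decide +kernel)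

end Cfsg.Agent.Helper4.TC.ONL37
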