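import Cfsg.Agent.Lib.Helper4.TC.ONL37Data
import Cfsg.Agent.Lib.Helper4.TC.Strict

set_option autoImplicit false
set_option maxRecDepth 100000
set_option linter.unusedVariables false
set_option Elab.async false

namespace Cfsg.Agent.Helper4.TC.ONL37

open Cfsg.Agent.Helper4.TC

theorem e13_c0 : edgeRange data 13 18147 0 = true := edgeRange_strict data 13 18147 0 (by decide +kernel)
theorem e13_c1 : edgeRange data 13 18009 18147 = true := edgeRange_strict data 13 18009 18147 (by decide +kernel)
theorem e13_c2 : edgeRange data 13 18225 36156 = true := edgeRange_strict data 13 18225 36156 (by decide +kernel)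
theorem e13_c3 : edgeRange data 13 18497 54381 = true := edgeRange_strict data 13 18497 54381 (by decide +kernel)
theorem e13_c4 : edgeRange data 13 18737 72878 = true := edgeRange_strict data 13 18737 72878 (by decide +kernel)
theorem e13_c5 : edgeRange data 13 18891 91615 = true := edgeRange_strict data 13 18891 91615 (by decide +kernel)
theorem e13_c6 : edgeRange data 13 19208 110506 = true := edgeRange_strict data 13 19208 110506 (by decide +kernel)
theorem e13_c7 : edgeRange data 13 20158 129714 = true := edgeRange_strict data 13 20158 129714 (by decide +kernel)
theorem e13_c8 : edgeRange data 13 19016 149872 = true := edgeRange_strict data 13 19016 149872 (by decide +kernel)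
theorem e13_c9 : edgeRange data 13 17182 168888 = true := edgeRange_strict data 13 17182 168888 (by decide +kernel)
theorem e13_c10 : edgeRange data 13 23743 186070 = true := edgeRange_strict data 13 23743 186070 (by decide +kernel)
theorem e13_c11 : edgeRange data 13 50000 209813 = true := edgeRange_strict data 13 50000 209813 (by decide +kernel)
theorem e13_c12 : edgeRange data 13 2331 259813 = true := edgeRange_strict data 13 2331 259813 (by decide +kernel)

end Cfsg.Agent.Helper4.TC.ONL37
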