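import Cfsg.Agent.Lib.Helper4.TC.ONL37Data
import Cfsg.Agent.Lib.Helper4.TC.Strict

set_option autoImplicit false
set_option maxRecDepth 100000
set_option linter.unusedVariables false
set_option Elab.async false

namespace Cfsg.Agent.Helper4.TC.ONL37

open Cfsg.Agent.Helper4.TC

theorem e2_c0 : edgeRange data 2 12427 0 = true := edgeRange_strict data 2 12427 0 (by decide +kernel)
theorem e2_c1 : edgeRange data 2 12266 12427 = true := edgeRange_strict data 2 12266 12427 (by decide +kernel)
theorem e2_c2 : edgeRange data 2 12146 24693 = true := edgeRange_strict data 2 12146 24693 (by decide +kernel)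
theorem e2_c3 : edgeRange data 2 12621 36839 = true := edgeRange_strict data 2 12621 36839 (by decide +kernel)
theorem e2_c4 : edgeRange data 2 12694 49460 = true := edgeRange_strict data 2 12694 49460 (by decide +kernel)
theorem e2_c5 : edgeRange data 2 13297 62154 = true := edgeRange_strict data 2 13297 62154 (by decide +kernel)
theorem e2_c6 : edgeRange data 2 13384 75451 = true := edgeRange_strict data 2 13384 75451 (by decide +kernel)
theorem e2_c7 : edgeRange data 2 12926 88835 = true := edgeRange_strict data 2 12926 88835 (by decide +kernel)
theorem e2_c8 : edgeRange data 2 13351 101761 = true := edgeRange_strict data 2 13351 101761 (by decide +kernel)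
theorem e2_c9 : edgeRange data 2 13139 115112 = true := edgeRange_strict data 2 13139 115112 (by decide +kernel)
theorem e2_c10 : edgeRange data 2 14070 128251 = true := edgeRange_strict data 2 14070 128251 (by decide +kernel)
theorem e2_c11 : edgeRange data 2 15371 142321 = true := edgeRange_strict data 2 15371 142321 (by decide +kernel)
theorem e2_c12 : edgeRange data 2 11019 157692 = true := edgeRange_strict data 2 11019 157692 (by decide +kernel)
theorem e2_c13 : edgeRange data 2 9885 168711 = true := edgeRange_strict data 2 9885 168711 (by decide +kernel)
theorem e2_c14 : edgeRange data 2 9686 178596 = true := edgeRange_strict data 2 9686 178596 (by decide +kernel)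
theorem e2_c15 : edgeRange data 2 9690 188282 = true := edgeRange_strict data 2 9690 188282 (by decide +kernel)
theorem e2_c16 : edgeRange data 2 42510 197972 = true := edgeRange_strict data 2 42510 197972 (by decide +kernel)
theorem e2_c17 : edgeRange data 2 21662 240482 = true := edgeRange_strict data 2 21662 240482 (by decide +kernel)

end Cfsg.Agent.Helper4.TC.ONL37
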