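import Cfsg.Agent.Lib.Helper4.TC.ONL37Data
import Cfsg.Agent.Lib.Helper4.TC.Strict

set_option autoImplicit false
set_option maxRecDepth 100000
set_option linter.unusedVariables false
set_option Elab.async false

namespace Cfsg.Agent.Helper4.TC.ONL37

open Cfsg.Agent.Helper4.TC

theorem e3_c0 : edgeRange data 3 17886 0 = true := edgeRange_strict data 3 17886 0 (by decide +kernel)
theorem e3_c1 : edgeRange data 3 17831 17886 = true := edgeRange_strict data 3 17831 17886 (by decide +kernel)
theorem e3_c2 : edgeRange data 3 18185 35717 = true := edgeRange_strict data 3 18185 35717 (by decide +kernel)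
theorem e3_c3 : edgeRange data 3 18524 53902 = true := edgeRange_strict data 3 18524 53902 (by decide +kernel)
theorem e3_c4 : edgeRange data 3 18943 72426 = true := edgeRange_strict data 3 18943 72426 (by decide +kernel)
theorem e3_c5 : edgeRange data 3 18696 91369 = true := edgeRange_strict data 3 18696 91369 (by decide +kernel)
theorem e3_c6 : edgeRange data 3 19106 110065 = true := edgeRange_strict data 3 19106 110065 (by decide +kernel)
theorem e3_c7 : edgeRange data 3 20064 129171 = true := edgeRange_strict data 3 20064 129171 (by decide +kernel)
theorem e3_c8 : edgeRange data 3 18882 149235 = true := edgeRange_strict data 3 18882 149235 (by decide +kernel)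
theorem e3_c9 : edgeRange data 3 16946 168117 = true := edgeRange_strict data 3 16946 168117 (by decide +kernel)
theorem e3_c10 : edgeRange data 3 21129 185063 = true := edgeRange_strict data 3 21129 185063 (by decide +kernel)
theorem e3_c11 : edgeRange data 3 50000 206192 = true := edgeRange_strict data 3 50000 206192 (by decide +kernel)
theorem e3_c12 : edgeRange data 3 5952 256192 = true := edgeRange_strict data 3 5952 256192 (by decide +kernel)

end Cfsg.Agent.Helper4.TC.ONL37
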