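import Cfsg.Agent.Lib.Helper4.TC.ONL37Data
import Cfsg.Agent.Lib.Helper4.TC.Strict

set_option autoImplicit false
set_option maxRecDepth 100000
set_option linter.unusedVariables false
set_option Elab.async false

namespace Cfsg.Agent.Helper4.TC.ONL37

open Cfsg.Agent.Helper4.TC

theorem e4_c0 : edgeRange data 4 13664 0 = true := edgeRange_strict data 4 13664 0 (by decide +kernel)
theorem e4_c1 : edgeRange data 4 13756 13664 = true := edgeRange_strict data 4 13756 13664 (by decide +kernel)
theorem e4_c2 : edgeRange data 4 14240 27420 = true := edgeRange_strict data 4 14240 27420 (by decide +kernel)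
theorem e4_c3 : edgeRange data 4 13900 41660 = true := edgeRange_strict data 4 13900 41660 (by decide +kernel)
theorem e4_c4 : edgeRange data 4 14279 55560 = true := edgeRange_strict data 4 14279 55560 (by decide +kernel)
theorem e4_c5 : edgeRange data 4 15063 69839 = true := edgeRange_strict data 4 15063 69839 (by decide +kernel)
theorem e4_c6 : edgeRange data 4 13790 84902 = true := edgeRange_strict data 4 13790 84902 (by decide +kernel)
theorem e4_c7 : edgeRange data 4 13625 98692 = true := edgeRange_strict data 4 13625 98692 (by decide +kernel)
theorem e4_c8 : edgeRange data 4 13003 112317 = true := edgeRange_strict data 4 13003 112317 (by decide +kernel)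
theorem e4_c9 : edgeRange data 4 14093 125320 = true := edgeRange_strict data 4 14093 125320 (by decide +kernel)
theorem e4_c10 : edgeRange data 4 15076 139413 = true := edgeRange_strict data 4 15076 139413 (by decide +kernel)
theorem e4_c11 : edgeRange data 4 11571 154489 = true := edgeRange_strict data 4 11571 154489 (by decide +kernel)
theorem e4_c12 : edgeRange data 4 9426 166060 = true := edgeRange_strict data 4 9426 166060 (by decide +kernel)
theorem e4_c13 : edgeRange data 4 9150 175486 = true := edgeRange_strict data 4 9150 175486 (by decide +kernel)
theorem e4_c14 : edgeRange data 4 9202 184636 = true := edgeRange_strict data 4 9202 184636 (by decide +kernel)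
theorem e4_c15 : edgeRange data 4 25100 193838 = true := edgeRange_strict data 4 25100 193838 (by decide +kernel)
theorem e4_c16 : edgeRange data 4 43206 218938 = true := edgeRange_strict data 4 43206 218938 (by decide +kernel)

end Cfsg.Agent.Helper4.TC.ONL37
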