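import Cfsg.Agent.Lib.Helper4.TC.ONL37Data
import Cfsg.Agent.Lib.Helper4.TC.Strict

set_option autoImplicit false
set_option maxRecDepth 100000
set_option linter.unusedVariables false
set_option Elab.async false

namespace Cfsg.Agent.Helper4.TC.ONL37

open Cfsg.Agent.Helper4.TC

theorem e5_c0 : edgeRange data 5 18016 0 = true := edgeRange_strict data 5 18016 0 (by decide +kernel)
theorem e5_c1 : edgeRange data 5 18001 18016 = true := edgeRange_strict data 5 18001 18016 (by decide +kernel)
theorem e5_c2 : edgeRange data 5 18348 36017 = true := edgeRange_strict data 5 18348 36017 (by decide +kernel)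
theorem e5_c3 : edgeRange data 5 18743 54365 = true := edgeRange_strict data 5 18743 54365 (by decide +kernel)
theorem e5_c4 : edgeRange data 5 18906 73108 = true := edgeRange_strict data 5 18906 73108 (by decide +kernel)
theorem e5_c5 : edgeRange data 5 18060 92014 = true := edgeRange_strict data 5 18060 92014 (by decide +kernel)
theorem e5_c6 : edgeRange data 5 18119 110074 = true := edgeRange_strict data 5 18119 110074 (by decide +kernel)
theorem e5_c7 : edgeRange data 5 18829 128193 = true := edgeRange_strict data 5 18829 128193 (by decide +kernel)
theorem e5_c8 : edgeRange data 5 18090 147022 = true := edgeRange_strict data 5 18090 147022 (by decide +kernel)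
theorem e5_c9 : edgeRange data 5 14079 165112 = true := edgeRange_strict data 5 14079 165112 (by decide +kernel)
theorem e5_c10 : edgeRange data 5 13491 179191 = true := edgeRange_strict data 5 13491 179191 (by decide +kernel)
theorem e5_c11 : edgeRange data 5 31457 192682 = true := edgeRange_strict data 5 31457 192682 (by decide +kernel)
theorem e5_c12 : edgeRange data 5 38005 224139 = true := edgeRange_strict data 5 38005 224139 (by decide +kernel)

end Cfsg.Agent.Helper4.TC.ONL37
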