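import Cfsg.Agent.Lib.Helper4.TC.ONL37Data
import Cfsg.Agent.Lib.Helper4.TC.Strict

set_option autoImplicit false
set_option maxRecDepth 100000
set_option linter.unusedVariables false
set_option Elab.async false

namespace Cfsg.Agent.Helper4.TC.ONL37

open Cfsg.Agent.Helper4.TC

theorem e6_c0 : edgeRange data 6 14037 0 = true := edgeRange_strict data 6 14037 0 (by decide +kernel)
theorem e6_c1 : edgeRange data 6 13857 14037 = true := edgeRange_strict data 6 13857 14037 (by decide +kernel)
theorem e6_c2 : edgeRange data 6 13948 27894 = true := edgeRange_strict data 6 13948 27894 (by decide +kernel)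
theorem e6_c3 : edgeRange data 6 13550 41842 = true := edgeRange_strict data 6 13550 41842 (by decide +kernel)
theorem e6_c4 : edgeRange data 6 14093 55392 = true := edgeRange_strict data 6 14093 55392 (by decide +kernel)
theorem e6_c5 : edgeRange data 6 14407 69485 = true := edgeRange_strict data 6 14407 69485 (by decide +kernel)
theorem e6_c6 : edgeRange data 6 13536 83892 = true := edgeRange_strict data 6 13536 83892 (by decide +kernel)
theorem e6_c7 : edgeRange data 6 13335 97428 = true := edgeRange_strict data 6 13335 97428 (by decide +kernel)
theorem e6_c8 : edgeRange data 6 13271 110763 = true := edgeRange_strict data 6 13271 110763 (by decide +kernel)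
theorem e6_c9 : edgeRange data 6 13921 124034 = true := edgeRange_strict data 6 13921 124034 (by decide +kernel)
theorem e6_c10 : edgeRange data 6 14587 137955 = true := edgeRange_strict data 6 14587 137955 (by decide +kernel)
theorem e6_c11 : edgeRange data 6 12720 152542 = true := edgeRange_strict data 6 12720 152542 (by decide +kernel)
theorem e6_c12 : edgeRange data 6 10105 165262 = true := edgeRange_strict data 6 10105 165262 (by decide +kernel)
theorem e6_c13 : edgeRange data 6 10181 175367 = true := edgeRange_strict data 6 10181 175367 (by decide +kernel)
theorem e6_c14 : edgeRange data 6 10406 185548 = true := edgeRange_strict data 6 10406 185548 (by decide +kernel)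
theorem e6_c15 : edgeRange data 6 37377 195954 = true := edgeRange_strict data 6 37377 195954 (by decide +kernel)
theorem e6_c16 : edgeRange data 6 28813 233331 = true := edgeRange_strict data 6 28813 233331 (by decide +kernel)

end Cfsg.Agent.Helper4.TC.ONL37
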