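import Cfsg.Agent.Lib.Helper4.TC.ONL37Data
import Cfsg.Agent.Lib.Helper4.TC.Strict

set_option autoImplicit false
set_option maxRecDepth 100000
set_option linter.unusedVariables false
set_option Elab.async false

namespace Cfsg.Agent.Helper4.TC.ONL37

open Cfsg.Agent.Helper4.TC

theorem e7_c0 : edgeRange data 7 15878 0 = true := edgeRange_strict data 7 15878 0 (by decide +kernel)
theorem e7_c1 : edgeRange data 7 15231 15878 = true := edgeRange_strict data 7 15231 15878 (by decide +kernel)
theorem e7_c2 : edgeRange data 7 15297 31109 = true := edgeRange_strict data 7 15297 31109 (by decide +kernel)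
theorem e7_c3 : edgeRange data 7 15948 46406 = true := edgeRange_strict data 7 15948 46406 (by decide +kernel)
theorem e7_c4 : edgeRange data 7 16550 62354 = true := edgeRange_strict data 7 16550 62354 (by decide +kernel)
theorem e7_c5 : edgeRange data 7 16114 78904 = true := edgeRange_strict data 7 16114 78904 (by decide +kernel)
theorem e7_c6 : edgeRange data 7 15262 95018 = true := edgeRange_strict data 7 15262 95018 (by decide +kernel)
theorem e7_c7 : edgeRange data 7 14830 110280 = true := edgeRange_strict data 7 14830 110280 (by decide +kernel)
theorem e7_c8 : edgeRange data 7 15585 125110 = true := edgeRange_strict data 7 15585 125110 (by decide +kernel)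
theorem e7_c9 : edgeRange data 7 16821 140695 = true := edgeRange_strict data 7 16821 140695 (by decide +kernel)
theorem e7_c10 : edgeRange data 7 12073 157516 = true := edgeRange_strict data 7 12073 157516 (by decide +kernel)
theorem e7_c11 : edgeRange data 7 10645 169589 = true := edgeRange_strict data 7 10645 169589 (by decide +kernel)
theorem e7_c12 : edgeRange data 7 10645 180234 = true := edgeRange_strict data 7 10645 180234 (by decide +kernel)
theorem e7_c13 : edgeRange data 7 18602 190879 = true := edgeRange_strict data 7 18602 190879 (by decide +kernel)
theorem e7_c14 : edgeRange data 7 50000 209481 = true := edgeRange_strict data 7 50000 209481 (by decide +kernel)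
theorem e7_c15 : edgeRange data 7 2663 259481 = true := edgeRange_strict data 7 2663 259481 (by decide +kernel)

end Cfsg.Agent.Helper4.TC.ONL37
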