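import Cfsg.Agent.Lib.Helper4.TC.ONL37Data
import Cfsg.Agent.Lib.Helper4.TC.Strict

set_option autoImplicit false
set_option maxRecDepth 100000
set_option linter.unusedVariables false
set_option Elab.async false

namespace Cfsg.Agent.Helper4.TC.ONL37

open Cfsg.Agent.Helper4.TC

theorem e8_c0 : edgeRange data 8 15310 0 = true := edgeRange_strict data 8 15310 0 (by decide +kernel)
theorem e8_c1 : edgeRange data 8 14428 15310 = true := edgeRange_strict data 8 14428 15310 (by decide +kernel)
theorem e8_c2 : edgeRange data 8 14875 29738 = true := edgeRange_strict data 8 14875 29738 (by decide +kernel)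
theorem e8_c3 : edgeRange data 8 14501 44613 = true := edgeRange_strict data 8 14501 44613 (by decide +kernel)
theorem e8_c4 : edgeRange data 8 15279 59114 = true := edgeRange_strict data 8 15279 59114 (by decide +kernel)
theorem e8_c5 : edgeRange data 8 14814 74393 = true := edgeRange_strict data 8 14814 74393 (by decide +kernel)
theorem e8_c6 : edgeRange data 8 13633 89207 = true := edgeRange_strict data 8 13633 89207 (by decide +kernel)
theorem e8_c7 : edgeRange data 8 13846 102840 = true := edgeRange_strict data 8 13846 102840 (by decide +kernel)
theorem e8_c8 : edgeRange data 8 13691 116686 = true := edgeRange_strict data 8 13691 116686 (by decide +kernel)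
theorem e8_c9 : edgeRange data 8 13956 130377 = true := edgeRange_strict data 8 13956 130377 (by decide +kernel)
theorem e8_c10 : edgeRange data 8 14838 144333 = true := edgeRange_strict data 8 14838 144333 (by decide +kernel)
theorem e8_c11 : edgeRange data 8 10183 159171 = true := edgeRange_strict data 8 10183 159171 (by decide +kernel)
theorem e8_c12 : edgeRange data 8 9327 169354 = true := edgeRange_strict data 8 9327 169354 (by decide +kernel)
theorem e8_c13 : edgeRange data 8 9077 178681 = true := edgeRange_strict data 8 9077 178681 (by decide +kernel)
theorem e8_c14 : edgeRange data 8 9155 187758 = true := edgeRange_strict data 8 9155 187758 (by decide +kernel)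
theorem e8_c15 : edgeRange data 8 38918 196913 = true := edgeRange_strict data 8 38918 196913 (by decide +kernel)
theorem e8_c16 : edgeRange data 8 26313 235831 = true := edgeRange_strict data 8 26313 235831 (by decide +kernel)

end Cfsg.Agent.Helper4.TC.ONL37
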