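import Cfsg.Agent.Lib.Helper4.TC.ONL37Data
import Cfsg.Agent.Lib.Helper4.TC.Strict

set_option autoImplicit false
set_option maxRecDepth 100000
set_option linter.unusedVariables false
set_option Elab.async false

namespace Cfsg.Agent.Helper4.TC.ONL37

open Cfsg.Agent.Helper4.TC

theorem e9_c0 : edgeRange data 9 16168 0 = true := edgeRange_strict data 9 16168 0 (by decide +kernel)
theorem e9_c1 : edgeRange data 9 15540 16168 = true := edgeRange_strict data 9 15540 16168 (by decide +kernel)
theorem e9_c2 : edgeRange data 9 15828 31708 = true := edgeRange_strict data 9 15828 31708 (by decide +kernel)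
theorem e9_c3 : edgeRange data 9 16777 47536 = true := edgeRange_strict data 9 16777 47536 (by decide +kernel)
theorem e9_c4 : edgeRange data 9 16762 64313 = true := edgeRange_strict data 9 16762 64313 (by decide +kernel)
theorem e9_c5 : edgeRange data 9 15953 81075 = true := edgeRange_strict data 9 15953 81075 (by decide +kernel)
theorem e9_c6 : edgeRange data 9 15153 97028 = true := edgeRange_strict data 9 15153 97028 (by decide +kernel)
theorem e9_c7 : edgeRange data 9 14971 112181 = true := edgeRange_strict data 9 14971 112181 (by decide +kernel)
theorem e9_c8 : edgeRange data 9 15847 127152 = true := edgeRange_strict data 9 15847 127152 (by decide +kernel)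
theorem e9_c9 : edgeRange data 9 17040 142999 = true := edgeRange_strict data 9 17040 142999 (by decide +kernel)
theorem e9_c10 : edgeRange data 9 11501 160039 = true := edgeRange_strict data 9 11501 160039 (by decide +kernel)
theorem e9_c11 : edgeRange data 9 11017 171540 = true := edgeRange_strict data 9 11017 171540 (by decide +kernel)
theorem e9_c12 : edgeRange data 9 10994 182557 = true := edgeRange_strict data 9 10994 182557 (by decide +kernel)
theorem e9_c13 : edgeRange data 9 29680 193551 = true := edgeRange_strict data 9 29680 193551 (by decide +kernel)
theorem e9_c14 : edgeRange data 9 38913 223231 = true := edgeRange_strict data 9 38913 223231 (by decide +kernel)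

end Cfsg.Agent.Helper4.TC.ONL37
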