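import Cfsg.Agent.Lib.Helper4.TC.ONL37Data
import Cfsg.Agent.Lib.Helper4.TC.Strict

set_option autoImplicit false
set_option maxRecDepth 100000
set_option linter.unusedVariables false
set_option Elab.async false

namespace Cfsg.Agent.Helper4.TC.ONL37

open Cfsg.Agent.Helper4.TC

theorem rows4 : rowsRange data 199751 1616 6584 = true := rowsRange_strict data 199751 1616 6584 (by decide +kernel)
theorem rows5 : rowsRange data 199751 2190 8200 = true := rowsRange_strict data 199751 2190 8200 (by decide +kernel)
theorem rows6 : rowsRange data 199751 1515 10390 = true := rowsRange_strict data 199751 1515 10390 (by decide +kernel)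
theorem rows7 : rowsRange data 199751 1552 11905 = true := rowsRange_strict data 199751 1552 11905 (by decide +kernel)
theorem rows8 : rowsRange data 199751 1341 13457 = true := rowsRange_strict data 199751 1341 13457 (by decide +kernel)
theorem rows9 : rowsRange data 199751 1763 14798 = true := rowsRange_strict data 199751 1763 14798 (by decide +kernel)
theorem rows10 : rowsRange data 199751 1955 16561 = true := rowsRange_strict data 199751 1955 16561 (by decide +kernel)
theorem rows11 : rowsRange data 199751 2297 18516 = true := rowsRange_strict data 199751 2297 18516 (by decide +kernel)

end Cfsg.Agent.Helper4.TC.ONL37
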