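import Cfsg.Agent.Lib.Helper4.TC.ONL37Data
import Cfsg.Agent.Lib.Helper4.TC.Strict

set_option autoImplicit false
set_option maxRecDepth 100000
set_option linter.unusedVariables false
set_option Elab.async false

namespace Cfsg.Agent.Helper4.TC.ONL37

open Cfsg.Agent.Helper4.TC

theorem rows76 : rowsRange data 199751 1249 162993 = true := rowsRange_strict data 199751 1249 162993 (by decide +kernel)
theorem rows77 : rowsRange data 199751 1203 164242 = true := rowsRange_strict data 199751 1203 164242 (by decide +kernel)
theorem rows78 : rowsRange data 199751 1212 165445 = true := rowsRange_strict data 199751 1212 165445 (by decide +kernel)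
theorem rows79 : rowsRange data 199751 1224 166657 = true := rowsRange_strict data 199751 1224 166657 (by decide +kernel)
theorem rows80 : rowsRange data 199751 1200 167881 = true := rowsRange_strict data 199751 1200 167881 (by decide +kernel)
theorem rows81 : rowsRange data 199751 1197 169081 = true := rowsRange_strict data 199751 1197 169081 (by decide +kernel)
theorem rows82 : rowsRange data 199751 1196 170278 = true := rowsRange_strict data 199751 1196 170278 (by decide +kernel)
theorem rows83 : rowsRange data 199751 1220 171474 = true := rowsRange_strict data 199751 1220 171474 (by decide +kernel)

end Cfsg.Agent.Helper4.TC.ONL37
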