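import Cfsg.Agent.Lib.Helper4.TC.ONL37Data
import Cfsg.Agent.Lib.Helper4.TC.Strict

set_option autoImplicit false
set_option maxRecDepth 100000
set_option linter.unusedVariables false
set_option Elab.async false

namespace Cfsg.Agent.Helper4.TC.ONL37

open Cfsg.Agent.Helper4.TC

theorem rows84 : rowsRange data 199751 1179 172694 = true := rowsRange_strict data 199751 1179 172694 (by decide +kernel)
theorem rows85 : rowsRange data 199751 1193 173873 = true := rowsRange_strict data 199751 1193 173873 (by decide +kernel)
theorem rows86 : rowsRange data 199751 1193 175066 = true := rowsRange_strict data 199751 1193 175066 (by decide +kernel)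
theorem rows87 : rowsRange data 199751 1174 176259 = true := rowsRange_strict data 199751 1174 176259 (by decide +kernel)
theorem rows88 : rowsRange data 199751 1197 177433 = true := rowsRange_strict data 199751 1197 177433 (by decide +kernel)
theorem rows89 : rowsRange data 199751 1181 178630 = true := rowsRange_strict data 199751 1181 178630 (by decide +kernel)
theorem rows90 : rowsRange data 199751 1172 179811 = true := rowsRange_strict data 199751 1172 179811 (by decide +kernel)
theorem rows91 : rowsRange data 199751 1168 180983 = true := rowsRange_strict data 199751 1168 180983 (by decide +kernel)

end Cfsg.Agent.Helper4.TC.ONL37
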