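import Cfsg.Agent.Lib.Helper4.TC.ONL37Data
import Cfsg.Agent.Lib.Helper4.TC.Strict

set_option autoImplicit false
set_option maxRecDepth 100000
set_option linter.unusedVariables false
set_option Elab.async false

namespace Cfsg.Agent.Helper4.TC.ONL37

open Cfsg.Agent.Helper4.TC

theorem rows92 : rowsRange data 199751 1170 182151 = true := rowsRange_strict data 199751 1170 182151 (by decide +kernel)
theorem rows93 : rowsRange data 199751 1180 183321 = true := rowsRange_strict data 199751 1180 183321 (by decide +kernel)
theorem rows94 : rowsRange data 199751 1174 184501 = true := rowsRange_strict data 199751 1174 184501 (by decide +kernel)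
theorem rows95 : rowsRange data 199751 1167 185675 = true := rowsRange_strict data 199751 1167 185675 (by decide +kernel)
theorem rows96 : rowsRange data 199751 1176 186842 = true := rowsRange_strict data 199751 1176 186842 (by decide +kernel)
theorem rows97 : rowsRange data 199751 1167 188018 = true := rowsRange_strict data 199751 1167 188018 (by decide +kernel)
theorem rows98 : rowsRange data 199751 1172 189185 = true := rowsRange_strict data 199751 1172 189185 (by decide +kernel)
theorem rows99 : rowsRange data 199751 1167 190357 = true := rowsRange_strict data 199751 1167 190357 (by decide +kernel)

end Cfsg.Agent.Helper4.TC.ONL37
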