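import Cfsg.Agent.Lib.Helper4.TC.ONL37Data
import Cfsg.Agent.Lib.Helper4.TC.Strict

set_option autoImplicit false
set_option maxRecDepth 100000
set_option linter.unusedVariables false
set_option Elab.async false

namespace Cfsg.Agent.Helper4.TC.ONL37

open Cfsg.Agent.Helper4.TC

theorem rows100 : rowsRange data 199751 1165 191524 = true := rowsRange_strict data 199751 1165 191524 (by decide +kernel)
theorem rows101 : rowsRange data 199751 1163 192689 = true := rowsRange_strict data 199751 1163 192689 (by decide +kernel)
theorem rows102 : rowsRange data 199751 1163 193852 = true := rowsRange_strict data 199751 1163 193852 (by decide +kernel)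
theorem rows103 : rowsRange data 199751 1163 195015 = true := rowsRange_strict data 199751 1163 195015 (by decide +kernel)
theorem rows104 : rowsRange data 199751 1163 196178 = true := rowsRange_strict data 199751 1163 196178 (by decide +kernel)
theorem rows105 : rowsRange data 199751 1163 197341 = true := rowsRange_strict data 199751 1163 197341 (by decide +kernel)
theorem rows106 : rowsRange data 199751 1163 198504 = true := rowsRange_strict data 199751 1163 198504 (by decide +kernel)
theorem rows107 : rowsRange data 199751 84 199667 = true := rowsRange_strict data 199751 84 199667 (by decide +kernel)

end Cfsg.Agent.Helper4.TC.ONL37
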