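import Cfsg.Agent.Lib.Helper4.TC.ONL37Data
import Cfsg.Agent.Lib.Helper4.TC.Strict

set_option autoImplicit false
set_option maxRecDepth 100000
set_option linter.unusedVariables false
set_option Elab.async false

namespace Cfsg.Agent.Helper4.TC.ONL37

open Cfsg.Agent.Helper4.TC

theorem rows12 : rowsRange data 199751 2266 20813 = true := rowsRange_strict data 199751 2266 20813 (by decide +kernel)
theorem rows13 : rowsRange data 199751 1283 23079 = true := rowsRange_strict data 199751 1283 23079 (by decide +kernel)
theorem rows14 : rowsRange data 199751 1361 24362 = true := rowsRange_strict data 199751 1361 24362 (by decide +kernel)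
theorem rows15 : rowsRange data 199751 1816 25723 = true := rowsRange_strict data 199751 1816 25723 (by decide +kernel)
theorem rows16 : rowsRange data 199751 1418 27539 = true := rowsRange_strict data 199751 1418 27539 (by decide +kernel)
theorem rows17 : rowsRange data 199751 1427 28957 = true := rowsRange_strict data 199751 1427 28957 (by decide +kernel)
theorem rows18 : rowsRange data 199751 1644 30384 = true := rowsRange_strict data 199751 1644 30384 (by decide +kernel)
theorem rows19 : rowsRange data 199751 1751 32028 = true := rowsRange_strict data 199751 1751 32028 (by decide +kernel)

end Cfsg.Agent.Helper4.TC.ONL37
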