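import Cfsg.Agent.Lib.Helper4.TC.ONL37Data
import Cfsg.Agent.Lib.Helper4.TC.Strict

set_option autoImplicit false
set_option maxRecDepth 100000
set_option linter.unusedVariables false
set_option Elab.async false

namespace Cfsg.Agent.Helper4.TC.ONL37

open Cfsg.Agent.Helper4.TC

theorem rows20 : rowsRange data 199751 2059 33779 = true := rowsRange_strict data 199751 2059 33779 (by decide +kernel)
theorem rows21 : rowsRange data 199751 2805 35838 = true := rowsRange_strict data 199751 2805 35838 (by decide +kernel)
theorem rows22 : rowsRange data 199751 2180 38643 = true := rowsRange_strict data 199751 2180 38643 (by decide +kernel)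
theorem rows23 : rowsRange data 199751 2227 40823 = true := rowsRange_strict data 199751 2227 40823 (by decide +kernel)
theorem rows24 : rowsRange data 199751 2070 43050 = true := rowsRange_strict data 199751 2070 43050 (by decide +kernel)
theorem rows25 : rowsRange data 199751 1742 45120 = true := rowsRange_strict data 199751 1742 45120 (by decide +kernel)
theorem rows26 : rowsRange data 199751 1343 46862 = true := rowsRange_strict data 199751 1343 46862 (by decide +kernel)
theorem rows27 : rowsRange data 199751 1688 48205 = true := rowsRange_strict data 199751 1688 48205 (by decide +kernel)

end Cfsg.Agent.Helper4.TC.ONL37
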