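import Cfsg.Agent.Lib.Helper4.TC.ONL37Data
import Cfsg.Agent.Lib.Helper4.TC.Strict

set_option autoImplicit false
set_option maxRecDepth 100000
set_option linter.unusedVariables false
set_option Elab.async false

namespace Cfsg.Agent.Helper4.TC.ONL37

open Cfsg.Agent.Helper4.TC

theorem rows28 : rowsRange data 199751 1373 49893 = true := rowsRange_strict data 199751 1373 49893 (by decide +kernel)
theorem rows29 : rowsRange data 199751 1798 51266 = true := rowsRange_strict data 199751 1798 51266 (by decide +kernel)
theorem rows30 : rowsRange data 199751 3047 53064 = true := rowsRange_strict data 199751 3047 53064 (by decide +kernel)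
theorem rows31 : rowsRange data 199751 1665 56111 = true := rowsRange_strict data 199751 1665 56111 (by decide +kernel)
theorem rows32 : rowsRange data 199751 1598 57776 = true := rowsRange_strict data 199751 1598 57776 (by decide +kernel)
theorem rows33 : rowsRange data 199751 1652 59374 = true := rowsRange_strict data 199751 1652 59374 (by decide +kernel)
theorem rows34 : rowsRange data 199751 1704 61026 = true := rowsRange_strict data 199751 1704 61026 (by decide +kernel)
theorem rows35 : rowsRange data 199751 1990 62730 = true := rowsRange_strict data 199751 1990 62730 (by decide +kernel)

end Cfsg.Agent.Helper4.TC.ONL37
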