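import Cfsg.Agent.Lib.Helper4.TC.ONL37Data
import Cfsg.Agent.Lib.Helper4.TC.Strict

set_option autoImplicit false
set_option maxRecDepth 100000
set_option linter.unusedVariables false
set_option Elab.async false

namespace Cfsg.Agent.Helper4.TC.ONL37

open Cfsg.Agent.Helper4.TC

theorem rows36 : rowsRange data 199751 1888 64720 = true := rowsRange_strict data 199751 1888 64720 (by decide +kernel)
theorem rows37 : rowsRange data 199751 2609 66608 = true := rowsRange_strict data 199751 2609 66608 (by decide +kernel)
theorem rows38 : rowsRange data 199751 2498 69217 = true := rowsRange_strict data 199751 2498 69217 (by decide +kernel)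
theorem rows39 : rowsRange data 199751 2879 71715 = true := rowsRange_strict data 199751 2879 71715 (by decide +kernel)
theorem rows40 : rowsRange data 199751 3721 74594 = true := rowsRange_strict data 199751 3721 74594 (by decide +kernel)
theorem rows41 : rowsRange data 199751 2406 78315 = true := rowsRange_strict data 199751 2406 78315 (by decide +kernel)
theorem rows42 : rowsRange data 199751 2691 80721 = true := rowsRange_strict data 199751 2691 80721 (by decide +kernel)
theorem rows43 : rowsRange data 199751 2002 83412 = true := rowsRange_strict data 199751 2002 83412 (by decide +kernel)

end Cfsg.Agent.Helper4.TC.ONL37
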