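import Cfsg.Agent.Lib.Helper4.TC.ONL37Data
import Cfsg.Agent.Lib.Helper4.TC.Strict

set_option autoImplicit false
set_option maxRecDepth 100000
set_option linter.unusedVariables false
set_option Elab.async false

namespace Cfsg.Agent.Helper4.TC.ONL37

open Cfsg.Agent.Helper4.TC

theorem rows44 : rowsRange data 199751 2163 85414 = true := rowsRange_strict data 199751 2163 85414 (by decide +kernel)
theorem rows45 : rowsRange data 199751 2161 87577 = true := rowsRange_strict data 199751 2161 87577 (by decide +kernel)
theorem rows46 : rowsRange data 199751 2246 89738 = true := rowsRange_strict data 199751 2246 89738 (by decide +kernel)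
theorem rows47 : rowsRange data 199751 2201 91984 = true := rowsRange_strict data 199751 2201 91984 (by decide +kernel)
theorem rows48 : rowsRange data 199751 1883 94185 = true := rowsRange_strict data 199751 1883 94185 (by decide +kernel)
theorem rows49 : rowsRange data 199751 1664 96068 = true := rowsRange_strict data 199751 1664 96068 (by decide +kernel)
theorem rows50 : rowsRange data 199751 1709 97732 = true := rowsRange_strict data 199751 1709 97732 (by decide +kernel)
theorem rows51 : rowsRange data 199751 1925 99441 = true := rowsRange_strict data 199751 1925 99441 (by decide +kernel)

end Cfsg.Agent.Helper4.TC.ONL37
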