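import Cfsg.Agent.Lib.Helper4.TC.ONL37Data
import Cfsg.Agent.Lib.Helper4.TC.Strict

set_option autoImplicit false
set_option maxRecDepth 100000
set_option linter.unusedVariables false
set_option Elab.async false

namespace Cfsg.Agent.Helper4.TC.ONL37

open Cfsg.Agent.Helper4.TC

theorem rows52 : rowsRange data 199751 1716 101366 = true := rowsRange_strict data 199751 1716 101366 (by decide +kernel)
theorem rows53 : rowsRange data 199751 1748 103082 = true := rowsRange_strict data 199751 1748 103082 (by decide +kernel)
theorem rows54 : rowsRange data 199751 2119 104830 = true := rowsRange_strict data 199751 2119 104830 (by decide +kernel)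
theorem rows55 : rowsRange data 199751 3212 106949 = true := rowsRange_strict data 199751 3212 106949 (by decide +kernel)
theorem rows56 : rowsRange data 199751 2944 110161 = true := rowsRange_strict data 199751 2944 110161 (by decide +kernel)
theorem rows57 : rowsRange data 199751 1904 113105 = true := rowsRange_strict data 199751 1904 113105 (by decide +kernel)
theorem rows58 : rowsRange data 199751 2137 115009 = true := rowsRange_strict data 199751 2137 115009 (by decide +kernel)
theorem rows59 : rowsRange data 199751 2574 117146 = true := rowsRange_strict data 199751 2574 117146 (by decide +kernel)

end Cfsg.Agent.Helper4.TC.ONL37
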