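import Cfsg.Agent.Lib.Helper4.TC.ONL37Data
import Cfsg.Agent.Lib.Helper4.TC.Strict

set_option autoImplicit false
set_option maxRecDepth 100000
set_option linter.unusedVariables false
set_option Elab.async false

namespace Cfsg.Agent.Helper4.TC.ONL37

open Cfsg.Agent.Helper4.TC

theorem rows60 : rowsRange data 199751 2078 119720 = true := rowsRange_strict data 199751 2078 119720 (by decide +kernel)
theorem rows61 : rowsRange data 199751 1821 121798 = true := rowsRange_strict data 199751 1821 121798 (by decide +kernel)
theorem rows62 : rowsRange data 199751 1911 123619 = true := rowsRange_strict data 199751 1911 123619 (by decide +kernel)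
theorem rows63 : rowsRange data 199751 2329 125530 = true := rowsRange_strict data 199751 2329 125530 (by decide +kernel)
theorem rows64 : rowsRange data 199751 2546 127859 = true := rowsRange_strict data 199751 2546 127859 (by decide +kernel)
theorem rows65 : rowsRange data 199751 2720 130405 = true := rowsRange_strict data 199751 2720 130405 (by decide +kernel)
theorem rows66 : rowsRange data 199751 3296 133125 = true := rowsRange_strict data 199751 3296 133125 (by decide +kernel)
theorem rows67 : rowsRange data 199751 2648 136421 = true := rowsRange_strict data 199751 2648 136421 (by decide +kernel)

end Cfsg.Agent.Helper4.TC.ONL37
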