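import Cfsg.Agent.Lib.Helper4.TC.ONL37Data
import Cfsg.Agent.Lib.Helper4.TC.Strict

set_option autoImplicit false
set_option maxRecDepth 100000
set_option linter.unusedVariables false
set_option Elab.async false

namespace Cfsg.Agent.Helper4.TC.ONL37

open Cfsg.Agent.Helper4.TC

theorem rows68 : rowsRange data 199751 2948 139069 = true := rowsRange_strict data 199751 2948 139069 (by decide +kernel)
theorem rows69 : rowsRange data 199751 3674 142017 = true := rowsRange_strict data 199751 3674 142017 (by decide +kernel)
theorem rows70 : rowsRange data 199751 4731 145691 = true := rowsRange_strict data 199751 4731 145691 (by decide +kernel)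
theorem rows71 : rowsRange data 199751 3492 150422 = true := rowsRange_strict data 199751 3492 150422 (by decide +kernel)
theorem rows72 : rowsRange data 199751 3472 153914 = true := rowsRange_strict data 199751 3472 153914 (by decide +kernel)
theorem rows73 : rowsRange data 199751 2812 157386 = true := rowsRange_strict data 199751 2812 157386 (by decide +kernel)
theorem rows74 : rowsRange data 199751 1539 160198 = true := rowsRange_strict data 199751 1539 160198 (by decide +kernel)
theorem rows75 : rowsRange data 199751 1256 161737 = true := rowsRange_strict data 199751 1256 161737 (by decide +kernel)

end Cfsg.Agent.Helper4.TC.ONL37
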