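import Cfsg.Agent.Lib.Helper4.TC.ONL37Data
import Cfsg.Agent.Lib.Helper4.TC.Strict

set_option autoImplicit false
set_option maxRecDepth 100000
set_option linter.unusedVariables false
set_option Elab.async false

namespace Cfsg.Agent.Helper4.TC.ONL37

open Cfsg.Agent.Helper4.TC

theorem m_c0 : mergeRange data 26169 0 = true := mergeRange_strict data 26169 0 (by decide +kernel)
theorem m_c1 : mergeRange data 26378 26169 = true := mergeRange_strict data 26378 26169 (by decide +kernel)
theorem m_c2 : mergeRange data 22383 52547 = true := mergeRange_strict data 22383 52547 (by decide +kernel)
theorem m_c3 : mergeRange data 22497 74930 = true := mergeRange_strict data 22497 74930 (by decide +kernel)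
theorem m_c4 : mergeRange data 21163 97427 = true := mergeRange_strict data 21163 97427 (by decide +kernel)
theorem m_c5 : mergeRange data 18361 118590 = true := mergeRange_strict data 18361 118590 (by decide +kernel)
theorem m_c6 : mergeRange data 16352 136951 = true := mergeRange_strict data 16352 136951 (by decide +kernel)
theorem m_c7 : mergeRange data 28967 153303 = true := mergeRange_strict data 28967 153303 (by decide +kernel)
theorem m_c8 : mergeRange data 49420 182270 = true := mergeRange_strict data 49420 182270 (by decide +kernel)
theorem m_c9 : mergeRange data 30454 231690 = true := mergeRange_strict data 30454 231690 (by decide +kernel)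

end Cfsg.Agent.Helper4.TC.ONL37
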