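import Cfsg.Agent.Lib.Helper4.TC.ONL37Model
import Cfsg.Agent.Lib.Helper4.TC.ONL37Data
import Cfsg.Agent.Lib.Helper4.TC.Strict

set_option autoImplicit false
set_option maxRecDepth 100000
set_option linter.unusedVariables false
set_option Elab.async false

namespace Cfsg.Agent.Helper4.TC.ONL37

open Cfsg.Agent.Helper4.TC

theorem rel8 : relsRange mdata bases 322 2576 = true := relsRange_strict mdata bases 322 2576 (by decide +kernel)
theorem rel9 : relsRange mdata bases 322 2898 = true := relsRange_strict mdata bases 322 2898 (by decide +kernel)
theorem rel10 : relsRange mdata bases 322 3220 = true := relsRange_strict mdata bases 322 3220 (by decide +kernel)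
theorem rel11 : relsRange mdata bases 322 3542 = true := relsRange_strict mdata bases 322 3542 (by decide +kernel)
theorem rel12 : relsRange mdata bases 322 3864 = true := relsRange_strict mdata bases 322 3864 (by decide +kernel)
theorem rel13 : relsRange mdata bases 322 4186 = true := relsRange_strict mdata bases 322 4186 (by decide +kernel)
theorem rel14 : relsRange mdata bases 322 4508 = true := relsRange_strict mdata bases 322 4508 (by decide +kernel)
theorem rel15 : relsRange mdata bases 322 4830 = true := relsRange_strict mdata bases 322 4830 (by decide +kernel)

end Cfsg.Agent.Helper4.TC.ONL37
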