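import Cfsg.Agent.Lib.Helper4.TC.ONL37Model
import Cfsg.Agent.Lib.Helper4.TC.ONL37Data
import Cfsg.Agent.Lib.Helper4.TC.Strict

set_option autoImplicit false
set_option maxRecDepth 100000
set_option linter.unusedVariables false
set_option Elab.async false

namespace Cfsg.Agent.Helper4.TC.ONL37

open Cfsg.Agent.Helper4.TC

theorem rel80 : relsRange mdata bases 322 25760 = true := relsRange_strict mdata bases 322 25760 (by decide +kernel)
theorem rel81 : relsRange mdata bases 322 26082 = true := relsRange_strict mdata bases 322 26082 (by decide +kernel)
theorem rel82 : relsRange mdata bases 322 26404 = true := relsRange_strict mdata bases 322 26404 (by decide +kernel)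
theorem rel83 : relsRange mdata bases 322 26726 = true := relsRange_strict mdata bases 322 26726 (by decide +kernel)
theorem rel84 : relsRange mdata bases 322 27048 = true := relsRange_strict mdata bases 322 27048 (by decide +kernel)
theorem rel85 : relsRange mdata bases 322 27370 = true := relsRange_strict mdata bases 322 27370 (by decide +kernel)
theorem rel86 : relsRange mdata bases 322 27692 = true := relsRange_strict mdata bases 322 27692 (by decide +kernel)
theorem rel87 : relsRange mdata bases 322 28014 = true := relsRange_strict mdata bases 322 28014 (by decide +kernel)

end Cfsg.Agent.Helper4.TC.ONL37
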