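import Cfsg.Agent.Lib.Helper4.TC.ONL37Model
import Cfsg.Agent.Lib.Helper4.TC.ONL37Data
import Cfsg.Agent.Lib.Helper4.TC.Strict

set_option autoImplicit false
set_option maxRecDepth 100000
set_option linter.unusedVariables false
set_option Elab.async false

namespace Cfsg.Agent.Helper4.TC.ONL37

open Cfsg.Agent.Helper4.TC

theorem rel88 : relsRange mdata bases 322 28336 = true := relsRange_strict mdata bases 322 28336 (by decide +kernel)
theorem rel89 : relsRange mdata bases 322 28658 = true := relsRange_strict mdata bases 322 28658 (by decide +kernel)
theorem rel90 : relsRange mdata bases 322 28980 = true := relsRange_strict mdata bases 322 28980 (by decide +kernel)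
theorem rel91 : relsRange mdata bases 322 29302 = true := relsRange_strict mdata bases 322 29302 (by decide +kernel)
theorem rel92 : relsRange mdata bases 322 29624 = true := relsRange_strict mdata bases 322 29624 (by decide +kernel)
theorem rel93 : relsRange mdata bases 322 29946 = true := relsRange_strict mdata bases 322 29946 (by decide +kernel)
theorem rel94 : relsRange mdata bases 322 30268 = true := relsRange_strict mdata bases 322 30268 (by decide +kernel)
theorem rel95 : relsRange mdata bases 322 30590 = true := relsRange_strict mdata bases 322 30590 (by decide +kernel)

end Cfsg.Agent.Helper4.TC.ONL37
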