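import Cfsg.Agent.Lib.Helper4.TC.ONL37Model
import Cfsg.Agent.Lib.Helper4.TC.ONL37Data
import Cfsg.Agent.Lib.Helper4.TC.Strict

set_option autoImplicit false
set_option maxRecDepth 100000
set_option linter.unusedVariables false
set_option Elab.async false

namespace Cfsg.Agent.Helper4.TC.ONL37

open Cfsg.Agent.Helper4.TC

theorem rel96 : relsRange mdata bases 322 30912 = true := relsRange_strict mdata bases 322 30912 (by decide +kernel)
theorem rel97 : relsRange mdata bases 322 31234 = true := relsRange_strict mdata bases 322 31234 (by decide +kernel)
theorem rel98 : relsRange mdata bases 322 31556 = true := relsRange_strict mdata bases 322 31556 (by decide +kernel)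
theorem rel99 : relsRange mdata bases 322 31878 = true := relsRange_strict mdata bases 322 31878 (by decide +kernel)
theorem rel100 : relsRange mdata bases 322 32200 = true := relsRange_strict mdata bases 322 32200 (by decide +kernel)
theorem rel101 : relsRange mdata bases 322 32522 = true := relsRange_strict mdata bases 322 32522 (by decide +kernel)
theorem rel102 : relsRange mdata bases 322 32844 = true := relsRange_strict mdata bases 322 32844 (by decide +kernel)
theorem rel103 : relsRange mdata bases 322 33166 = true := relsRange_strict mdata bases 322 33166 (by decide +kernel)

end Cfsg.Agent.Helper4.TC.ONL37
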