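import Cfsg.Agent.Lib.Helper4.TC.ONL37Model
import Cfsg.Agent.Lib.Helper4.TC.ONL37Data
import Cfsg.Agent.Lib.Helper4.TC.Strict

set_option autoImplicit false
set_option maxRecDepth 100000
set_option linter.unusedVariables false
set_option Elab.async false

namespace Cfsg.Agent.Helper4.TC.ONL37

open Cfsg.Agent.Helper4.TC

theorem rel104 : relsRange mdata bases 322 33488 = true := relsRange_strict mdata bases 322 33488 (by decide +kernel)
theorem rel105 : relsRange mdata bases 322 33810 = true := relsRange_strict mdata bases 322 33810 (by decide +kernel)
theorem rel106 : relsRange mdata bases 322 34132 = true := relsRange_strict mdata bases 322 34132 (by decide +kernel)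
theorem rel107 : relsRange mdata bases 322 34454 = true := relsRange_strict mdata bases 322 34454 (by decide +kernel)
theorem rel108 : relsRange mdata bases 322 34776 = true := relsRange_strict mdata bases 322 34776 (by decide +kernel)
theorem rel109 : relsRange mdata bases 322 35098 = true := relsRange_strict mdata bases 322 35098 (by decide +kernel)
theorem rel110 : relsRange mdata bases 322 35420 = true := relsRange_strict mdata bases 322 35420 (by decide +kernel)
theorem rel111 : relsRange mdata bases 322 35742 = true := relsRange_strict mdata bases 322 35742 (by decide +kernel)

end Cfsg.Agent.Helper4.TC.ONL37
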