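import Cfsg.Agent.Lib.Helper4.TC.ONL37Model
import Cfsg.Agent.Lib.Helper4.TC.ONL37Data
import Cfsg.Agent.Lib.Helper4.TC.Strict

set_option autoImplicit false
set_option maxRecDepth 100000
set_option linter.unusedVariables false
set_option Elab.async false

namespace Cfsg.Agent.Helper4.TC.ONL37

open Cfsg.Agent.Helper4.TC

theorem rel112 : relsRange mdata bases 322 36064 = true := relsRange_strict mdata bases 322 36064 (by decide +kernel)
theorem rel113 : relsRange mdata bases 322 36386 = true := relsRange_strict mdata bases 322 36386 (by decide +kernel)
theorem rel114 : relsRange mdata bases 322 36708 = true := relsRange_strict mdata bases 322 36708 (by decide +kernel)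
theorem rel115 : relsRange mdata bases 322 37030 = true := relsRange_strict mdata bases 322 37030 (by decide +kernel)
theorem rel116 : relsRange mdata bases 322 37352 = true := relsRange_strict mdata bases 322 37352 (by decide +kernel)
theorem rel117 : relsRange mdata bases 322 37674 = true := relsRange_strict mdata bases 322 37674 (by decide +kernel)
theorem rel118 : relsRange mdata bases 322 37996 = true := relsRange_strict mdata bases 322 37996 (by decide +kernel)
theorem rel119 : relsRange mdata bases 322 38318 = true := relsRange_strict mdata bases 322 38318 (by decide +kernel)

end Cfsg.Agent.Helper4.TC.ONL37
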