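import Cfsg.Agent.Lib.Helper4.TC.ONL37Model
import Cfsg.Agent.Lib.Helper4.TC.ONL37Data
import Cfsg.Agent.Lib.Helper4.TC.Strict

set_option autoImplicit false
set_option maxRecDepth 100000
set_option linter.unusedVariables false
set_option Elab.async false

namespace Cfsg.Agent.Helper4.TC.ONL37

open Cfsg.Agent.Helper4.TC

theorem rel136 : relsRange mdata bases 322 43792 = true := relsRange_strict mdata bases 322 43792 (by decide +kernel)
theorem rel137 : relsRange mdata bases 322 44114 = true := relsRange_strict mdata bases 322 44114 (by decide +kernel)
theorem rel138 : relsRange mdata bases 322 44436 = true := relsRange_strict mdata bases 322 44436 (by decide +kernel)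
theorem rel139 : relsRange mdata bases 322 44758 = true := relsRange_strict mdata bases 322 44758 (by decide +kernel)
theorem rel140 : relsRange mdata bases 322 45080 = true := relsRange_strict mdata bases 322 45080 (by decide +kernel)
theorem rel141 : relsRange mdata bases 322 45402 = true := relsRange_strict mdata bases 322 45402 (by decide +kernel)
theorem rel142 : relsRange mdata bases 322 45724 = true := relsRange_strict mdata bases 322 45724 (by decide +kernel)
theorem rel143 : relsRange mdata bases 322 46046 = true := relsRange_strict mdata bases 322 46046 (by decide +kernel)

end Cfsg.Agent.Helper4.TC.ONL37
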