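import Cfsg.Agent.Lib.Helper4.TC.ONL37Model
import Cfsg.Agent.Lib.Helper4.TC.ONL37Data
import Cfsg.Agent.Lib.Helper4.TC.Strict

set_option autoImplicit false
set_option maxRecDepth 100000
set_option linter.unusedVariables false
set_option Elab.async false

namespace Cfsg.Agent.Helper4.TC.ONL37

open Cfsg.Agent.Helper4.TC

theorem rel152 : relsRange mdata bases 322 48944 = true := relsRange_strict mdata bases 322 48944 (by decide +kernel)
theorem rel153 : relsRange mdata bases 322 49266 = true := relsRange_strict mdata bases 322 49266 (by decide +kernel)
theorem rel154 : relsRange mdata bases 322 49588 = true := relsRange_strict mdata bases 322 49588 (by decide +kernel)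
theorem rel155 : relsRange mdata bases 322 49910 = true := relsRange_strict mdata bases 322 49910 (by decide +kernel)
theorem rel156 : relsRange mdata bases 322 50232 = true := relsRange_strict mdata bases 322 50232 (by decide +kernel)
theorem rel157 : relsRange mdata bases 322 50554 = true := relsRange_strict mdata bases 322 50554 (by decide +kernel)
theorem rel158 : relsRange mdata bases 322 50876 = true := relsRange_strict mdata bases 322 50876 (by decide +kernel)
theorem rel159 : relsRange mdata bases 322 51198 = true := relsRange_strict mdata bases 322 51198 (by decide +kernel)

end Cfsg.Agent.Helper4.TC.ONL37
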