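import Cfsg.Agent.Lib.Helper4.TC.ONL37Model
import Cfsg.Agent.Lib.Helper4.TC.ONL37Data
import Cfsg.Agent.Lib.Helper4.TC.Strict

set_option autoImplicit false
set_option maxRecDepth 100000
set_option linter.unusedVariables false
set_option Elab.async false

namespace Cfsg.Agent.Helper4.TC.ONL37

open Cfsg.Agent.Helper4.TC

theorem rel16 : relsRange mdata bases 322 5152 = true := relsRange_strict mdata bases 322 5152 (by decide +kernel)
theorem rel17 : relsRange mdata bases 322 5474 = true := relsRange_strict mdata bases 322 5474 (by decide +kernel)
theorem rel18 : relsRange mdata bases 322 5796 = true := relsRange_strict mdata bases 322 5796 (by decide +kernel)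
theorem rel19 : relsRange mdata bases 322 6118 = true := relsRange_strict mdata bases 322 6118 (by decide +kernel)
theorem rel20 : relsRange mdata bases 322 6440 = true := relsRange_strict mdata bases 322 6440 (by decide +kernel)
theorem rel21 : relsRange mdata bases 322 6762 = true := relsRange_strict mdata bases 322 6762 (by decide +kernel)
theorem rel22 : relsRange mdata bases 322 7084 = true := relsRange_strict mdata bases 322 7084 (by decide +kernel)
theorem rel23 : relsRange mdata bases 322 7406 = true := relsRange_strict mdata bases 322 7406 (by decide +kernel)

end Cfsg.Agent.Helper4.TC.ONL37
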