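import Cfsg.Agent.Lib.Helper4.TC.ONL37Model
import Cfsg.Agent.Lib.Helper4.TC.ONL37Data
import Cfsg.Agent.Lib.Helper4.TC.Strict

set_option autoImplicit false
set_option maxRecDepth 100000
set_option linter.unusedVariables false
set_option Elab.async false

namespace Cfsg.Agent.Helper4.TC.ONL37

open Cfsg.Agent.Helper4.TC

theorem rel160 : relsRange mdata bases 322 51520 = true := relsRange_strict mdata bases 322 51520 (by decide +kernel)
theorem rel161 : relsRange mdata bases 322 51842 = true := relsRange_strict mdata bases 322 51842 (by decide +kernel)
theorem rel162 : relsRange mdata bases 322 52164 = true := relsRange_strict mdata bases 322 52164 (by decide +kernel)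
theorem rel163 : relsRange mdata bases 322 52486 = true := relsRange_strict mdata bases 322 52486 (by decide +kernel)
theorem rel164 : relsRange mdata bases 322 52808 = true := relsRange_strict mdata bases 322 52808 (by decide +kernel)
theorem rel165 : relsRange mdata bases 322 53130 = true := relsRange_strict mdata bases 322 53130 (by decide +kernel)
theorem rel166 : relsRange mdata bases 322 53452 = true := relsRange_strict mdata bases 322 53452 (by decide +kernel)
theorem rel167 : relsRange mdata bases 322 53774 = true := relsRange_strict mdata bases 322 53774 (by decide +kernel)

end Cfsg.Agent.Helper4.TC.ONL37
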