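import Cfsg.Agent.Lib.Helper4.TC.ONL37Model
import Cfsg.Agent.Lib.Helper4.TC.ONL37Data
import Cfsg.Agent.Lib.Helper4.TC.Strict

set_option autoImplicit false
set_option maxRecDepth 100000
set_option linter.unusedVariables false
set_option Elab.async false

namespace Cfsg.Agent.Helper4.TC.ONL37

open Cfsg.Agent.Helper4.TC

theorem rel168 : relsRange mdata bases 322 54096 = true := relsRange_strict mdata bases 322 54096 (by decide +kernel)
theorem rel169 : relsRange mdata bases 322 54418 = true := relsRange_strict mdata bases 322 54418 (by decide +kernel)
theorem rel170 : relsRange mdata bases 322 54740 = true := relsRange_strict mdata bases 322 54740 (by decide +kernel)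
theorem rel171 : relsRange mdata bases 322 55062 = true := relsRange_strict mdata bases 322 55062 (by decide +kernel)
theorem rel172 : relsRange mdata bases 322 55384 = true := relsRange_strict mdata bases 322 55384 (by decide +kernel)
theorem rel173 : relsRange mdata bases 322 55706 = true := relsRange_strict mdata bases 322 55706 (by decide +kernel)
theorem rel174 : relsRange mdata bases 322 56028 = true := relsRange_strict mdata bases 322 56028 (by decide +kernel)
theorem rel175 : relsRange mdata bases 322 56350 = true := relsRange_strict mdata bases 322 56350 (by decide +kernel)

end Cfsg.Agent.Helper4.TC.ONL37
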