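import Cfsg.Agent.Lib.Helper4.TC.ONL37Model
import Cfsg.Agent.Lib.Helper4.TC.ONL37Data
import Cfsg.Agent.Lib.Helper4.TC.Strict

set_option autoImplicit false
set_option maxRecDepth 100000
set_option linter.unusedVariables false
set_option Elab.async false

namespace Cfsg.Agent.Helper4.TC.ONL37

open Cfsg.Agent.Helper4.TC

theorem rel184 : relsRange mdata bases 322 59248 = true := relsRange_strict mdata bases 322 59248 (by decide +kernel)
theorem rel185 : relsRange mdata bases 322 59570 = true := relsRange_strict mdata bases 322 59570 (by decide +kernel)
theorem rel186 : relsRange mdata bases 322 59892 = true := relsRange_strict mdata bases 322 59892 (by decide +kernel)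
theorem rel187 : relsRange mdata bases 322 60214 = true := relsRange_strict mdata bases 322 60214 (by decide +kernel)
theorem rel188 : relsRange mdata bases 322 60536 = true := relsRange_strict mdata bases 322 60536 (by decide +kernel)
theorem rel189 : relsRange mdata bases 322 60858 = true := relsRange_strict mdata bases 322 60858 (by decide +kernel)
theorem rel190 : relsRange mdata bases 322 61180 = true := relsRange_strict mdata bases 322 61180 (by decide +kernel)
theorem rel191 : relsRange mdata bases 322 61502 = true := relsRange_strict mdata bases 322 61502 (by decide +kernel)

end Cfsg.Agent.Helper4.TC.ONL37
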