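import Cfsg.Agent.Lib.Helper4.TC.ONL37Model
import Cfsg.Agent.Lib.Helper4.TC.ONL37Data
import Cfsg.Agent.Lib.Helper4.TC.Strict

set_option autoImplicit false
set_option maxRecDepth 100000
set_option linter.unusedVariables false
set_option Elab.async false

namespace Cfsg.Agent.Helper4.TC.ONL37

open Cfsg.Agent.Helper4.TC

theorem rel192 : relsRange mdata bases 322 61824 = true := relsRange_strict mdata bases 322 61824 (by decide +kernel)
theorem rel193 : relsRange mdata bases 322 62146 = true := relsRange_strict mdata bases 322 62146 (by decide +kernel)
theorem rel194 : relsRange mdata bases 322 62468 = true := relsRange_strict mdata bases 322 62468 (by decide +kernel)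
theorem rel195 : relsRange mdata bases 322 62790 = true := relsRange_strict mdata bases 322 62790 (by decide +kernel)
theorem rel196 : relsRange mdata bases 322 63112 = true := relsRange_strict mdata bases 322 63112 (by decide +kernel)
theorem rel197 : relsRange mdata bases 322 63434 = true := relsRange_strict mdata bases 322 63434 (by decide +kernel)
theorem rel198 : relsRange mdata bases 322 63756 = true := relsRange_strict mdata bases 322 63756 (by decide +kernel)
theorem rel199 : relsRange mdata bases 322 64078 = true := relsRange_strict mdata bases 322 64078 (by decide +kernel)

end Cfsg.Agent.Helper4.TC.ONL37
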