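import Cfsg.Agent.Lib.Helper4.TC.ONL37Model
import Cfsg.Agent.Lib.Helper4.TC.ONL37Data
import Cfsg.Agent.Lib.Helper4.TC.Strict

set_option autoImplicit false
set_option maxRecDepth 100000
set_option linter.unusedVariables false
set_option Elab.async false

namespace Cfsg.Agent.Helper4.TC.ONL37

open Cfsg.Agent.Helper4.TC

theorem rel200 : relsRange mdata bases 322 64400 = true := relsRange_strict mdata bases 322 64400 (by decide +kernel)
theorem rel201 : relsRange mdata bases 322 64722 = true := relsRange_strict mdata bases 322 64722 (by decide +kernel)
theorem rel202 : relsRange mdata bases 322 65044 = true := relsRange_strict mdata bases 322 65044 (by decide +kernel)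
theorem rel203 : relsRange mdata bases 322 65366 = true := relsRange_strict mdata bases 322 65366 (by decide +kernel)
theorem rel204 : relsRange mdata bases 322 65688 = true := relsRange_strict mdata bases 322 65688 (by decide +kernel)
theorem rel205 : relsRange mdata bases 322 66010 = true := relsRange_strict mdata bases 322 66010 (by decide +kernel)
theorem rel206 : relsRange mdata bases 322 66332 = true := relsRange_strict mdata bases 322 66332 (by decide +kernel)
theorem rel207 : relsRange mdata bases 322 66654 = true := relsRange_strict mdata bases 322 66654 (by decide +kernel)

end Cfsg.Agent.Helper4.TC.ONL37
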