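import Cfsg.Agent.Lib.Helper4.TC.ONL37Model
import Cfsg.Agent.Lib.Helper4.TC.ONL37Data
import Cfsg.Agent.Lib.Helper4.TC.Strict

set_option autoImplicit false
set_option maxRecDepth 100000
set_option linter.unusedVariables false
set_option Elab.async false

namespace Cfsg.Agent.Helper4.TC.ONL37

open Cfsg.Agent.Helper4.TC

theorem rel208 : relsRange mdata bases 322 66976 = true := relsRange_strict mdata bases 322 66976 (by decide +kernel)
theorem rel209 : relsRange mdata bases 322 67298 = true := relsRange_strict mdata bases 322 67298 (by decide +kernel)
theorem rel210 : relsRange mdata bases 322 67620 = true := relsRange_strict mdata bases 322 67620 (by decide +kernel)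
theorem rel211 : relsRange mdata bases 322 67942 = true := relsRange_strict mdata bases 322 67942 (by decide +kernel)
theorem rel212 : relsRange mdata bases 322 68264 = true := relsRange_strict mdata bases 322 68264 (by decide +kernel)
theorem rel213 : relsRange mdata bases 322 68586 = true := relsRange_strict mdata bases 322 68586 (by decide +kernel)
theorem rel214 : relsRange mdata bases 322 68908 = true := relsRange_strict mdata bases 322 68908 (by decide +kernel)
theorem rel215 : relsRange mdata bases 322 69230 = true := relsRange_strict mdata bases 322 69230 (by decide +kernel)

end Cfsg.Agent.Helper4.TC.ONL37
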