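import Cfsg.Agent.Lib.Helper4.TC.ONL37Model
import Cfsg.Agent.Lib.Helper4.TC.ONL37Data
import Cfsg.Agent.Lib.Helper4.TC.Strict

set_option autoImplicit false
set_option maxRecDepth 100000
set_option linter.unusedVariables false
set_option Elab.async false

namespace Cfsg.Agent.Helper4.TC.ONL37

open Cfsg.Agent.Helper4.TC

theorem rel216 : relsRange mdata bases 322 69552 = true := relsRange_strict mdata bases 322 69552 (by decide +kernel)
theorem rel217 : relsRange mdata bases 322 69874 = true := relsRange_strict mdata bases 322 69874 (by decide +kernel)
theorem rel218 : relsRange mdata bases 322 70196 = true := relsRange_strict mdata bases 322 70196 (by decide +kernel)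
theorem rel219 : relsRange mdata bases 322 70518 = true := relsRange_strict mdata bases 322 70518 (by decide +kernel)
theorem rel220 : relsRange mdata bases 322 70840 = true := relsRange_strict mdata bases 322 70840 (by decide +kernel)
theorem rel221 : relsRange mdata bases 322 71162 = true := relsRange_strict mdata bases 322 71162 (by decide +kernel)
theorem rel222 : relsRange mdata bases 322 71484 = true := relsRange_strict mdata bases 322 71484 (by decide +kernel)
theorem rel223 : relsRange mdata bases 322 71806 = true := relsRange_strict mdata bases 322 71806 (by decide +kernel)

end Cfsg.Agent.Helper4.TC.ONL37
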