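import Cfsg.Agent.Lib.Helper4.TC.ONL37Model
import Cfsg.Agent.Lib.Helper4.TC.ONL37Data
import Cfsg.Agent.Lib.Helper4.TC.Strict

set_option autoImplicit false
set_option maxRecDepth 100000
set_option linter.unusedVariables false
set_option Elab.async false

namespace Cfsg.Agent.Helper4.TC.ONL37

open Cfsg.Agent.Helper4.TC

theorem rel224 : relsRange mdata bases 322 72128 = true := relsRange_strict mdata bases 322 72128 (by decide +kernel)
theorem rel225 : relsRange mdata bases 322 72450 = true := relsRange_strict mdata bases 322 72450 (by decide +kernel)
theorem rel226 : relsRange mdata bases 322 72772 = true := relsRange_strict mdata bases 322 72772 (by decide +kernel)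
theorem rel227 : relsRange mdata bases 322 73094 = true := relsRange_strict mdata bases 322 73094 (by decide +kernel)
theorem rel228 : relsRange mdata bases 322 73416 = true := relsRange_strict mdata bases 322 73416 (by decide +kernel)
theorem rel229 : relsRange mdata bases 322 73738 = true := relsRange_strict mdata bases 322 73738 (by decide +kernel)
theorem rel230 : relsRange mdata bases 322 74060 = true := relsRange_strict mdata bases 322 74060 (by decide +kernel)
theorem rel231 : relsRange mdata bases 322 74382 = true := relsRange_strict mdata bases 322 74382 (by decide +kernel)

end Cfsg.Agent.Helper4.TC.ONL37
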