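import Cfsg.Agent.Lib.Helper4.TC.ONL37Model
import Cfsg.Agent.Lib.Helper4.TC.ONL37Data
import Cfsg.Agent.Lib.Helper4.TC.Strict

set_option autoImplicit false
set_option maxRecDepth 100000
set_option linter.unusedVariables false
set_option Elab.async false

namespace Cfsg.Agent.Helper4.TC.ONL37

open Cfsg.Agent.Helper4.TC

theorem rel232 : relsRange mdata bases 322 74704 = true := relsRange_strict mdata bases 322 74704 (by decide +kernel)
theorem rel233 : relsRange mdata bases 322 75026 = true := relsRange_strict mdata bases 322 75026 (by decide +kernel)
theorem rel234 : relsRange mdata bases 322 75348 = true := relsRange_strict mdata bases 322 75348 (by decide +kernel)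
theorem rel235 : relsRange mdata bases 322 75670 = true := relsRange_strict mdata bases 322 75670 (by decide +kernel)
theorem rel236 : relsRange mdata bases 322 75992 = true := relsRange_strict mdata bases 322 75992 (by decide +kernel)
theorem rel237 : relsRange mdata bases 322 76314 = true := relsRange_strict mdata bases 322 76314 (by decide +kernel)
theorem rel238 : relsRange mdata bases 322 76636 = true := relsRange_strict mdata bases 322 76636 (by decide +kernel)
theorem rel239 : relsRange mdata bases 322 76958 = true := relsRange_strict mdata bases 322 76958 (by decide +kernel)

end Cfsg.Agent.Helper4.TC.ONL37
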