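import Cfsg.Agent.Lib.Helper4.TC.ONL37Model
import Cfsg.Agent.Lib.Helper4.TC.ONL37Data
import Cfsg.Agent.Lib.Helper4.TC.Strict

set_option autoImplicit false
set_option maxRecDepth 100000
set_option linter.unusedVariables false
set_option Elab.async false

namespace Cfsg.Agent.Helper4.TC.ONL37

open Cfsg.Agent.Helper4.TC

theorem rel24 : relsRange mdata bases 322 7728 = true := relsRange_strict mdata bases 322 7728 (by decide +kernel)
theorem rel25 : relsRange mdata bases 322 8050 = true := relsRange_strict mdata bases 322 8050 (by decide +kernel)
theorem rel26 : relsRange mdata bases 322 8372 = true := relsRange_strict mdata bases 322 8372 (by decide +kernel)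
theorem rel27 : relsRange mdata bases 322 8694 = true := relsRange_strict mdata bases 322 8694 (by decide +kernel)
theorem rel28 : relsRange mdata bases 322 9016 = true := relsRange_strict mdata bases 322 9016 (by decide +kernel)
theorem rel29 : relsRange mdata bases 322 9338 = true := relsRange_strict mdata bases 322 9338 (by decide +kernel)
theorem rel30 : relsRange mdata bases 322 9660 = true := relsRange_strict mdata bases 322 9660 (by decide +kernel)
theorem rel31 : relsRange mdata bases 322 9982 = true := relsRange_strict mdata bases 322 9982 (by decide +kernel)

end Cfsg.Agent.Helper4.TC.ONL37
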