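import Cfsg.Agent.Lib.Helper4.TC.ONL37Model
import Cfsg.Agent.Lib.Helper4.TC.ONL37Data
import Cfsg.Agent.Lib.Helper4.TC.Strict

set_option autoImplicit false
set_option maxRecDepth 100000
set_option linter.unusedVariables false
set_option Elab.async false

namespace Cfsg.Agent.Helper4.TC.ONL37

open Cfsg.Agent.Helper4.TC

theorem rel240 : relsRange mdata bases 322 77280 = true := relsRange_strict mdata bases 322 77280 (by decide +kernel)
theorem rel241 : relsRange mdata bases 322 77602 = true := relsRange_strict mdata bases 322 77602 (by decide +kernel)
theorem rel242 : relsRange mdata bases 322 77924 = true := relsRange_strict mdata bases 322 77924 (by decide +kernel)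
theorem rel243 : relsRange mdata bases 322 78246 = true := relsRange_strict mdata bases 322 78246 (by decide +kernel)
theorem rel244 : relsRange mdata bases 322 78568 = true := relsRange_strict mdata bases 322 78568 (by decide +kernel)
theorem rel245 : relsRange mdata bases 322 78890 = true := relsRange_strict mdata bases 322 78890 (by decide +kernel)
theorem rel246 : relsRange mdata bases 322 79212 = true := relsRange_strict mdata bases 322 79212 (by decide +kernel)
theorem rel247 : relsRange mdata bases 322 79534 = true := relsRange_strict mdata bases 322 79534 (by decide +kernel)

end Cfsg.Agent.Helper4.TC.ONL37
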