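import Cfsg.Agent.Lib.Helper4.TC.ONL37Model
import Cfsg.Agent.Lib.Helper4.TC.ONL37Data
import Cfsg.Agent.Lib.Helper4.TC.Strict

set_option autoImplicit false
set_option maxRecDepth 100000
set_option linter.unusedVariables false
set_option Elab.async false

namespace Cfsg.Agent.Helper4.TC.ONL37

open Cfsg.Agent.Helper4.TC

theorem rel248 : relsRange mdata bases 322 79856 = true := relsRange_strict mdata bases 322 79856 (by decide +kernel)
theorem rel249 : relsRange mdata bases 322 80178 = true := relsRange_strict mdata bases 322 80178 (by decide +kernel)
theorem rel250 : relsRange mdata bases 322 80500 = true := relsRange_strict mdata bases 322 80500 (by decide +kernel)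
theorem rel251 : relsRange mdata bases 322 80822 = true := relsRange_strict mdata bases 322 80822 (by decide +kernel)
theorem rel252 : relsRange mdata bases 322 81144 = true := relsRange_strict mdata bases 322 81144 (by decide +kernel)
theorem rel253 : relsRange mdata bases 322 81466 = true := relsRange_strict mdata bases 322 81466 (by decide +kernel)
theorem rel254 : relsRange mdata bases 322 81788 = true := relsRange_strict mdata bases 322 81788 (by decide +kernel)
theorem rel255 : relsRange mdata bases 322 82110 = true := relsRange_strict mdata bases 322 82110 (by decide +kernel)

end Cfsg.Agent.Helper4.TC.ONL37
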