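import Cfsg.Agent.Lib.Helper4.TC.ONL37Model
import Cfsg.Agent.Lib.Helper4.TC.ONL37Data
import Cfsg.Agent.Lib.Helper4.TC.Strict

set_option autoImplicit false
set_option maxRecDepth 100000
set_option linter.unusedVariables false
set_option Elab.async false

namespace Cfsg.Agent.Helper4.TC.ONL37

open Cfsg.Agent.Helper4.TC

theorem rel256 : relsRange mdata bases 322 82432 = true := relsRange_strict mdata bases 322 82432 (by decide +kernel)
theorem rel257 : relsRange mdata bases 322 82754 = true := relsRange_strict mdata bases 322 82754 (by decide +kernel)
theorem rel258 : relsRange mdata bases 322 83076 = true := relsRange_strict mdata bases 322 83076 (by decide +kernel)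
theorem rel259 : relsRange mdata bases 322 83398 = true := relsRange_strict mdata bases 322 83398 (by decide +kernel)
theorem rel260 : relsRange mdata bases 322 83720 = true := relsRange_strict mdata bases 322 83720 (by decide +kernel)
theorem rel261 : relsRange mdata bases 322 84042 = true := relsRange_strict mdata bases 322 84042 (by decide +kernel)
theorem rel262 : relsRange mdata bases 322 84364 = true := relsRange_strict mdata bases 322 84364 (by decide +kernel)
theorem rel263 : relsRange mdata bases 322 84686 = true := relsRange_strict mdata bases 322 84686 (by decide +kernel)

end Cfsg.Agent.Helper4.TC.ONL37
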