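import Cfsg.Agent.Lib.Helper4.TC.ONL37Model
import Cfsg.Agent.Lib.Helper4.TC.ONL37Data
import Cfsg.Agent.Lib.Helper4.TC.Strict

set_option autoImplicit false
set_option maxRecDepth 100000
set_option linter.unusedVariables false
set_option Elab.async false

namespace Cfsg.Agent.Helper4.TC.ONL37

open Cfsg.Agent.Helper4.TC

theorem rel264 : relsRange mdata bases 322 85008 = true := relsRange_strict mdata bases 322 85008 (by decide +kernel)
theorem rel265 : relsRange mdata bases 322 85330 = true := relsRange_strict mdata bases 322 85330 (by decide +kernel)
theorem rel266 : relsRange mdata bases 322 85652 = true := relsRange_strict mdata bases 322 85652 (by decide +kernel)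
theorem rel267 : relsRange mdata bases 322 85974 = true := relsRange_strict mdata bases 322 85974 (by decide +kernel)
theorem rel268 : relsRange mdata bases 322 86296 = true := relsRange_strict mdata bases 322 86296 (by decide +kernel)
theorem rel269 : relsRange mdata bases 322 86618 = true := relsRange_strict mdata bases 322 86618 (by decide +kernel)
theorem rel270 : relsRange mdata bases 322 86940 = true := relsRange_strict mdata bases 322 86940 (by decide +kernel)
theorem rel271 : relsRange mdata bases 322 87262 = true := relsRange_strict mdata bases 322 87262 (by decide +kernel)

end Cfsg.Agent.Helper4.TC.ONL37
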