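import Cfsg.Agent.Lib.Helper4.TC.ONL37Model
import Cfsg.Agent.Lib.Helper4.TC.ONL37Data
import Cfsg.Agent.Lib.Helper4.TC.Strict

set_option autoImplicit false
set_option maxRecDepth 100000
set_option linter.unusedVariables false
set_option Elab.async false

namespace Cfsg.Agent.Helper4.TC.ONL37

open Cfsg.Agent.Helper4.TC

theorem rel272 : relsRange mdata bases 322 87584 = true := relsRange_strict mdata bases 322 87584 (by decide +kernel)
theorem rel273 : relsRange mdata bases 322 87906 = true := relsRange_strict mdata bases 322 87906 (by decide +kernel)
theorem rel274 : relsRange mdata bases 322 88228 = true := relsRange_strict mdata bases 322 88228 (by decide +kernel)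
theorem rel275 : relsRange mdata bases 322 88550 = true := relsRange_strict mdata bases 322 88550 (by decide +kernel)
theorem rel276 : relsRange mdata bases 322 88872 = true := relsRange_strict mdata bases 322 88872 (by decide +kernel)
theorem rel277 : relsRange mdata bases 322 89194 = true := relsRange_strict mdata bases 322 89194 (by decide +kernel)
theorem rel278 : relsRange mdata bases 322 89516 = true := relsRange_strict mdata bases 322 89516 (by decide +kernel)
theorem rel279 : relsRange mdata bases 322 89838 = true := relsRange_strict mdata bases 322 89838 (by decide +kernel)

end Cfsg.Agent.Helper4.TC.ONL37
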