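import Cfsg.Agent.Lib.Helper4.TC.ONL37Model
import Cfsg.Agent.Lib.Helper4.TC.ONL37Data
import Cfsg.Agent.Lib.Helper4.TC.Strict

set_option autoImplicit false
set_option maxRecDepth 100000
set_option linter.unusedVariables false
set_option Elab.async false

namespace Cfsg.Agent.Helper4.TC.ONL37

open Cfsg.Agent.Helper4.TC

theorem rel288 : relsRange mdata bases 322 92736 = true := relsRange_strict mdata bases 322 92736 (by decide +kernel)
theorem rel289 : relsRange mdata bases 322 93058 = true := relsRange_strict mdata bases 322 93058 (by decide +kernel)
theorem rel290 : relsRange mdata bases 322 93380 = true := relsRange_strict mdata bases 322 93380 (by decide +kernel)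
theorem rel291 : relsRange mdata bases 322 93702 = true := relsRange_strict mdata bases 322 93702 (by decide +kernel)
theorem rel292 : relsRange mdata bases 322 94024 = true := relsRange_strict mdata bases 322 94024 (by decide +kernel)
theorem rel293 : relsRange mdata bases 322 94346 = true := relsRange_strict mdata bases 322 94346 (by decide +kernel)
theorem rel294 : relsRange mdata bases 322 94668 = true := relsRange_strict mdata bases 322 94668 (by decide +kernel)
theorem rel295 : relsRange mdata bases 322 94990 = true := relsRange_strict mdata bases 322 94990 (by decide +kernel)

end Cfsg.Agent.Helper4.TC.ONL37
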