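import Cfsg.Agent.Lib.Helper4.TC.ONL37Model
import Cfsg.Agent.Lib.Helper4.TC.ONL37Data
import Cfsg.Agent.Lib.Helper4.TC.Strict

set_option autoImplicit false
set_option maxRecDepth 100000
set_option linter.unusedVariables false
set_option Elab.async false

namespace Cfsg.Agent.Helper4.TC.ONL37

open Cfsg.Agent.Helper4.TC

theorem rel296 : relsRange mdata bases 322 95312 = true := relsRange_strict mdata bases 322 95312 (by decide +kernel)
theorem rel297 : relsRange mdata bases 322 95634 = true := relsRange_strict mdata bases 322 95634 (by decide +kernel)
theorem rel298 : relsRange mdata bases 322 95956 = true := relsRange_strict mdata bases 322 95956 (by decide +kernel)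
theorem rel299 : relsRange mdata bases 322 96278 = true := relsRange_strict mdata bases 322 96278 (by decide +kernel)
theorem rel300 : relsRange mdata bases 322 96600 = true := relsRange_strict mdata bases 322 96600 (by decide +kernel)
theorem rel301 : relsRange mdata bases 322 96922 = true := relsRange_strict mdata bases 322 96922 (by decide +kernel)
theorem rel302 : relsRange mdata bases 322 97244 = true := relsRange_strict mdata bases 322 97244 (by decide +kernel)
theorem rel303 : relsRange mdata bases 322 97566 = true := relsRange_strict mdata bases 322 97566 (by decide +kernel)

end Cfsg.Agent.Helper4.TC.ONL37
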