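import Cfsg.Agent.Lib.Helper4.TC.ONL37Model
import Cfsg.Agent.Lib.Helper4.TC.ONL37Data
import Cfsg.Agent.Lib.Helper4.TC.Strict

set_option autoImplicit false
set_option maxRecDepth 100000
set_option linter.unusedVariables false
set_option Elab.async false

namespace Cfsg.Agent.Helper4.TC.ONL37

open Cfsg.Agent.Helper4.TC

theorem rel304 : relsRange mdata bases 322 97888 = true := relsRange_strict mdata bases 322 97888 (by decide +kernel)
theorem rel305 : relsRange mdata bases 322 98210 = true := relsRange_strict mdata bases 322 98210 (by decide +kernel)
theorem rel306 : relsRange mdata bases 322 98532 = true := relsRange_strict mdata bases 322 98532 (by decide +kernel)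
theorem rel307 : relsRange mdata bases 322 98854 = true := relsRange_strict mdata bases 322 98854 (by decide +kernel)
theorem rel308 : relsRange mdata bases 322 99176 = true := relsRange_strict mdata bases 322 99176 (by decide +kernel)
theorem rel309 : relsRange mdata bases 322 99498 = true := relsRange_strict mdata bases 322 99498 (by decide +kernel)
theorem rel310 : relsRange mdata bases 322 99820 = true := relsRange_strict mdata bases 322 99820 (by decide +kernel)
theorem rel311 : relsRange mdata bases 322 100142 = true := relsRange_strict mdata bases 322 100142 (by decide +kernel)

end Cfsg.Agent.Helper4.TC.ONL37
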