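import Cfsg.Agent.Lib.Helper4.TC.ONL37Model
import Cfsg.Agent.Lib.Helper4.TC.ONL37Data
import Cfsg.Agent.Lib.Helper4.TC.Strict

set_option autoImplicit false
set_option maxRecDepth 100000
set_option linter.unusedVariables false
set_option Elab.async false

namespace Cfsg.Agent.Helper4.TC.ONL37

open Cfsg.Agent.Helper4.TC

theorem rel312 : relsRange mdata bases 322 100464 = true := relsRange_strict mdata bases 322 100464 (by decide +kernel)
theorem rel313 : relsRange mdata bases 322 100786 = true := relsRange_strict mdata bases 322 100786 (by decide +kernel)
theorem rel314 : relsRange mdata bases 322 101108 = true := relsRange_strict mdata bases 322 101108 (by decide +kernel)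
theorem rel315 : relsRange mdata bases 322 101430 = true := relsRange_strict mdata bases 322 101430 (by decide +kernel)
theorem rel316 : relsRange mdata bases 322 101752 = true := relsRange_strict mdata bases 322 101752 (by decide +kernel)
theorem rel317 : relsRange mdata bases 322 102074 = true := relsRange_strict mdata bases 322 102074 (by decide +kernel)
theorem rel318 : relsRange mdata bases 322 102396 = true := relsRange_strict mdata bases 322 102396 (by decide +kernel)
theorem rel319 : relsRange mdata bases 322 102718 = true := relsRange_strict mdata bases 322 102718 (by decide +kernel)

end Cfsg.Agent.Helper4.TC.ONL37
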