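import Cfsg.Agent.Lib.Helper4.TC.ONL37Model
import Cfsg.Agent.Lib.Helper4.TC.ONL37Data
import Cfsg.Agent.Lib.Helper4.TC.Strict

set_option autoImplicit false
set_option maxRecDepth 100000
set_option linter.unusedVariables false
set_option Elab.async false

namespace Cfsg.Agent.Helper4.TC.ONL37

open Cfsg.Agent.Helper4.TC

theorem rel328 : relsRange mdata bases 322 105616 = true := relsRange_strict mdata bases 322 105616 (by decide +kernel)
theorem rel329 : relsRange mdata bases 322 105938 = true := relsRange_strict mdata bases 322 105938 (by decide +kernel)
theorem rel330 : relsRange mdata bases 322 106260 = true := relsRange_strict mdata bases 322 106260 (by decide +kernel)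
theorem rel331 : relsRange mdata bases 322 106582 = true := relsRange_strict mdata bases 322 106582 (by decide +kernel)
theorem rel332 : relsRange mdata bases 322 106904 = true := relsRange_strict mdata bases 322 106904 (by decide +kernel)
theorem rel333 : relsRange mdata bases 322 107226 = true := relsRange_strict mdata bases 322 107226 (by decide +kernel)
theorem rel334 : relsRange mdata bases 322 107548 = true := relsRange_strict mdata bases 322 107548 (by decide +kernel)
theorem rel335 : relsRange mdata bases 322 107870 = true := relsRange_strict mdata bases 322 107870 (by decide +kernel)

end Cfsg.Agent.Helper4.TC.ONL37
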