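import Cfsg.Agent.Lib.Helper4.TC.ONL37Model
import Cfsg.Agent.Lib.Helper4.TC.ONL37Data
import Cfsg.Agent.Lib.Helper4.TC.Strict

set_option autoImplicit false
set_option maxRecDepth 100000
set_option linter.unusedVariables false
set_option Elab.async false

namespace Cfsg.Agent.Helper4.TC.ONL37

open Cfsg.Agent.Helper4.TC

theorem rel336 : relsRange mdata bases 322 108192 = true := relsRange_strict mdata bases 322 108192 (by decide +kernel)
theorem rel337 : relsRange mdata bases 322 108514 = true := relsRange_strict mdata bases 322 108514 (by decide +kernel)
theorem rel338 : relsRange mdata bases 322 108836 = true := relsRange_strict mdata bases 322 108836 (by decide +kernel)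
theorem rel339 : relsRange mdata bases 322 109158 = true := relsRange_strict mdata bases 322 109158 (by decide +kernel)
theorem rel340 : relsRange mdata bases 322 109480 = true := relsRange_strict mdata bases 322 109480 (by decide +kernel)
theorem rel341 : relsRange mdata bases 322 109802 = true := relsRange_strict mdata bases 322 109802 (by decide +kernel)
theorem rel342 : relsRange mdata bases 322 110124 = true := relsRange_strict mdata bases 322 110124 (by decide +kernel)
theorem rel343 : relsRange mdata bases 322 110446 = true := relsRange_strict mdata bases 322 110446 (by decide +kernel)

end Cfsg.Agent.Helper4.TC.ONL37
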