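import Cfsg.Agent.Lib.Helper4.TC.ONL37Model
import Cfsg.Agent.Lib.Helper4.TC.ONL37Data
import Cfsg.Agent.Lib.Helper4.TC.Strict

set_option autoImplicit false
set_option maxRecDepth 100000
set_option linter.unusedVariables false
set_option Elab.async false

namespace Cfsg.Agent.Helper4.TC.ONL37

open Cfsg.Agent.Helper4.TC

theorem rel344 : relsRange mdata bases 322 110768 = true := relsRange_strict mdata bases 322 110768 (by decide +kernel)
theorem rel345 : relsRange mdata bases 322 111090 = true := relsRange_strict mdata bases 322 111090 (by decide +kernel)
theorem rel346 : relsRange mdata bases 322 111412 = true := relsRange_strict mdata bases 322 111412 (by decide +kernel)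
theorem rel347 : relsRange mdata bases 322 111734 = true := relsRange_strict mdata bases 322 111734 (by decide +kernel)
theorem rel348 : relsRange mdata bases 322 112056 = true := relsRange_strict mdata bases 322 112056 (by decide +kernel)
theorem rel349 : relsRange mdata bases 322 112378 = true := relsRange_strict mdata bases 322 112378 (by decide +kernel)
theorem rel350 : relsRange mdata bases 322 112700 = true := relsRange_strict mdata bases 322 112700 (by decide +kernel)
theorem rel351 : relsRange mdata bases 322 113022 = true := relsRange_strict mdata bases 322 113022 (by decide +kernel)

end Cfsg.Agent.Helper4.TC.ONL37
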