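import Cfsg.Agent.Lib.Helper4.TC.ONL37Model
import Cfsg.Agent.Lib.Helper4.TC.ONL37Data
import Cfsg.Agent.Lib.Helper4.TC.Strict

set_option autoImplicit false
set_option maxRecDepth 100000
set_option linter.unusedVariables false
set_option Elab.async false

namespace Cfsg.Agent.Helper4.TC.ONL37

open Cfsg.Agent.Helper4.TC

theorem rel352 : relsRange mdata bases 322 113344 = true := relsRange_strict mdata bases 322 113344 (by decide +kernel)
theorem rel353 : relsRange mdata bases 322 113666 = true := relsRange_strict mdata bases 322 113666 (by decide +kernel)
theorem rel354 : relsRange mdata bases 322 113988 = true := relsRange_strict mdata bases 322 113988 (by decide +kernel)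
theorem rel355 : relsRange mdata bases 322 114310 = true := relsRange_strict mdata bases 322 114310 (by decide +kernel)
theorem rel356 : relsRange mdata bases 322 114632 = true := relsRange_strict mdata bases 322 114632 (by decide +kernel)
theorem rel357 : relsRange mdata bases 322 114954 = true := relsRange_strict mdata bases 322 114954 (by decide +kernel)
theorem rel358 : relsRange mdata bases 322 115276 = true := relsRange_strict mdata bases 322 115276 (by decide +kernel)
theorem rel359 : relsRange mdata bases 322 115598 = true := relsRange_strict mdata bases 322 115598 (by decide +kernel)

end Cfsg.Agent.Helper4.TC.ONL37
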