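import Cfsg.Agent.Lib.Helper4.TC.ONL37Model
import Cfsg.Agent.Lib.Helper4.TC.ONL37Data
import Cfsg.Agent.Lib.Helper4.TC.Strict

set_option autoImplicit false
set_option maxRecDepth 100000
set_option linter.unusedVariables false
set_option Elab.async false

namespace Cfsg.Agent.Helper4.TC.ONL37

open Cfsg.Agent.Helper4.TC

theorem rel360 : relsRange mdata bases 322 115920 = true := relsRange_strict mdata bases 322 115920 (by decide +kernel)
theorem rel361 : relsRange mdata bases 322 116242 = true := relsRange_strict mdata bases 322 116242 (by decide +kernel)
theorem rel362 : relsRange mdata bases 322 116564 = true := relsRange_strict mdata bases 322 116564 (by decide +kernel)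
theorem rel363 : relsRange mdata bases 322 116886 = true := relsRange_strict mdata bases 322 116886 (by decide +kernel)
theorem rel364 : relsRange mdata bases 322 117208 = true := relsRange_strict mdata bases 322 117208 (by decide +kernel)
theorem rel365 : relsRange mdata bases 322 117530 = true := relsRange_strict mdata bases 322 117530 (by decide +kernel)
theorem rel366 : relsRange mdata bases 322 117852 = true := relsRange_strict mdata bases 322 117852 (by decide +kernel)
theorem rel367 : relsRange mdata bases 322 118174 = true := relsRange_strict mdata bases 322 118174 (by decide +kernel)

end Cfsg.Agent.Helper4.TC.ONL37
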