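import Cfsg.Agent.Lib.Helper4.TC.ONL37Model
import Cfsg.Agent.Lib.Helper4.TC.ONL37Data
import Cfsg.Agent.Lib.Helper4.TC.Strict

set_option autoImplicit false
set_option maxRecDepth 100000
set_option linter.unusedVariables false
set_option Elab.async false

namespace Cfsg.Agent.Helper4.TC.ONL37

open Cfsg.Agent.Helper4.TC

theorem rel368 : relsRange mdata bases 322 118496 = true := relsRange_strict mdata bases 322 118496 (by decide +kernel)
theorem rel369 : relsRange mdata bases 322 118818 = true := relsRange_strict mdata bases 322 118818 (by decide +kernel)
theorem rel370 : relsRange mdata bases 322 119140 = true := relsRange_strict mdata bases 322 119140 (by decide +kernel)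
theorem rel371 : relsRange mdata bases 322 119462 = true := relsRange_strict mdata bases 322 119462 (by decide +kernel)
theorem rel372 : relsRange mdata bases 322 119784 = true := relsRange_strict mdata bases 322 119784 (by decide +kernel)
theorem rel373 : relsRange mdata bases 322 120106 = true := relsRange_strict mdata bases 322 120106 (by decide +kernel)
theorem rel374 : relsRange mdata bases 322 120428 = true := relsRange_strict mdata bases 322 120428 (by decide +kernel)
theorem rel375 : relsRange mdata bases 322 120750 = true := relsRange_strict mdata bases 322 120750 (by decide +kernel)

end Cfsg.Agent.Helper4.TC.ONL37
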