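import Cfsg.Agent.Lib.Helper4.TC.ONL37Model
import Cfsg.Agent.Lib.Helper4.TC.ONL37Data
import Cfsg.Agent.Lib.Helper4.TC.Strict

set_option autoImplicit false
set_option maxRecDepth 100000
set_option linter.unusedVariables false
set_option Elab.async false

namespace Cfsg.Agent.Helper4.TC.ONL37

open Cfsg.Agent.Helper4.TC

theorem rel376 : relsRange mdata bases 322 121072 = true := relsRange_strict mdata bases 322 121072 (by decide +kernel)
theorem rel377 : relsRange mdata bases 322 121394 = true := relsRange_strict mdata bases 322 121394 (by decide +kernel)
theorem rel378 : relsRange mdata bases 322 121716 = true := relsRange_strict mdata bases 322 121716 (by decide +kernel)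
theorem rel379 : relsRange mdata bases 322 122038 = true := relsRange_strict mdata bases 322 122038 (by decide +kernel)
theorem rel380 : relsRange mdata bases 322 122360 = true := relsRange_strict mdata bases 322 122360 (by decide +kernel)
theorem rel381 : relsRange mdata bases 78 122682 = true := relsRange_strict mdata bases 78 122682 (by decide +kernel)
theorem inv0 : invRange mdata 1904 0 = true := invRange_strict mdata 1904 0 (by decide +kernel)
theorem inv1 : invRange mdata 1904 1904 = true := invRange_strict mdata 1904 1904 (by decide +kernel)

end Cfsg.Agent.Helper4.TC.ONL37
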