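import Cfsg.Agent.Lib.Helper4.TC.ONL37Model
import Cfsg.Agent.Lib.Helper4.TC.ONL37Data
import Cfsg.Agent.Lib.Helper4.TC.Strict

set_option autoImplicit false
set_option maxRecDepth 100000
set_option linter.unusedVariables false
set_option Elab.async false

namespace Cfsg.Agent.Helper4.TC.ONL37

open Cfsg.Agent.Helper4.TC

theorem rel40 : relsRange mdata bases 322 12880 = true := relsRange_strict mdata bases 322 12880 (by decide +kernel)
theorem rel41 : relsRange mdata bases 322 13202 = true := relsRange_strict mdata bases 322 13202 (by decide +kernel)
theorem rel42 : relsRange mdata bases 322 13524 = true := relsRange_strict mdata bases 322 13524 (by decide +kernel)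
theorem rel43 : relsRange mdata bases 322 13846 = true := relsRange_strict mdata bases 322 13846 (by decide +kernel)
theorem rel44 : relsRange mdata bases 322 14168 = true := relsRange_strict mdata bases 322 14168 (by decide +kernel)
theorem rel45 : relsRange mdata bases 322 14490 = true := relsRange_strict mdata bases 322 14490 (by decide +kernel)
theorem rel46 : relsRange mdata bases 322 14812 = true := relsRange_strict mdata bases 322 14812 (by decide +kernel)
theorem rel47 : relsRange mdata bases 322 15134 = true := relsRange_strict mdata bases 322 15134 (by decide +kernel)

end Cfsg.Agent.Helper4.TC.ONL37
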