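import Cfsg.Agent.Lib.Helper4.TC.ONL37Model
import Cfsg.Agent.Lib.Helper4.TC.ONL37Data
import Cfsg.Agent.Lib.Helper4.TC.Strict

set_option autoImplicit false
set_option maxRecDepth 100000
set_option linter.unusedVariables false
set_option Elab.async false

namespace Cfsg.Agent.Helper4.TC.ONL37

open Cfsg.Agent.Helper4.TC

theorem inv18 : invRange mdata 1904 34272 = true := invRange_strict mdata 1904 34272 (by decide +kernel)
theorem inv19 : invRange mdata 1904 36176 = true := invRange_strict mdata 1904 36176 (by decide +kernel)
theorem inv20 : invRange mdata 1904 38080 = true := invRange_strict mdata 1904 38080 (by decide +kernel)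
theorem inv21 : invRange mdata 1904 39984 = true := invRange_strict mdata 1904 39984 (by decide +kernel)
theorem inv22 : invRange mdata 1904 41888 = true := invRange_strict mdata 1904 41888 (by decide +kernel)
theorem inv23 : invRange mdata 1904 43792 = true := invRange_strict mdata 1904 43792 (by decide +kernel)
theorem inv24 : invRange mdata 1904 45696 = true := invRange_strict mdata 1904 45696 (by decide +kernel)
theorem inv25 : invRange mdata 1904 47600 = true := invRange_strict mdata 1904 47600 (by decide +kernel)

end Cfsg.Agent.Helper4.TC.ONL37
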