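import Cfsg.Agent.Lib.Helper4.TC.ONL37Model
import Cfsg.Agent.Lib.Helper4.TC.ONL37Data
import Cfsg.Agent.Lib.Helper4.TC.Strict

set_option autoImplicit false
set_option maxRecDepth 100000
set_option linter.unusedVariables false
set_option Elab.async false

namespace Cfsg.Agent.Helper4.TC.ONL37

open Cfsg.Agent.Helper4.TC

theorem inv26 : invRange mdata 1904 49504 = true := invRange_strict mdata 1904 49504 (by decide +kernel)
theorem inv27 : invRange mdata 1904 51408 = true := invRange_strict mdata 1904 51408 (by decide +kernel)
theorem inv28 : invRange mdata 1904 53312 = true := invRange_strict mdata 1904 53312 (by decide +kernel)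
theorem inv29 : invRange mdata 1904 55216 = true := invRange_strict mdata 1904 55216 (by decide +kernel)
theorem inv30 : invRange mdata 1904 57120 = true := invRange_strict mdata 1904 57120 (by decide +kernel)
theorem inv31 : invRange mdata 1904 59024 = true := invRange_strict mdata 1904 59024 (by decide +kernel)
theorem inv32 : invRange mdata 1904 60928 = true := invRange_strict mdata 1904 60928 (by decide +kernel)
theorem inv33 : invRange mdata 1904 62832 = true := invRange_strict mdata 1904 62832 (by decide +kernel)

end Cfsg.Agent.Helper4.TC.ONL37
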