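import Cfsg.Agent.Lib.Helper4.TC.ONL37Model
import Cfsg.Agent.Lib.Helper4.TC.ONL37Data
import Cfsg.Agent.Lib.Helper4.TC.Strict

set_option autoImplicit false
set_option maxRecDepth 100000
set_option linter.unusedVariables false
set_option Elab.async false

namespace Cfsg.Agent.Helper4.TC.ONL37

open Cfsg.Agent.Helper4.TC

theorem inv34 : invRange mdata 1904 64736 = true := invRange_strict mdata 1904 64736 (by decide +kernel)
theorem inv35 : invRange mdata 1904 66640 = true := invRange_strict mdata 1904 66640 (by decide +kernel)
theorem inv36 : invRange mdata 1904 68544 = true := invRange_strict mdata 1904 68544 (by decide +kernel)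
theorem inv37 : invRange mdata 1904 70448 = true := invRange_strict mdata 1904 70448 (by decide +kernel)
theorem inv38 : invRange mdata 1904 72352 = true := invRange_strict mdata 1904 72352 (by decide +kernel)
theorem inv39 : invRange mdata 1904 74256 = true := invRange_strict mdata 1904 74256 (by decide +kernel)
theorem inv40 : invRange mdata 1904 76160 = true := invRange_strict mdata 1904 76160 (by decide +kernel)
theorem inv41 : invRange mdata 1904 78064 = true := invRange_strict mdata 1904 78064 (by decide +kernel)

end Cfsg.Agent.Helper4.TC.ONL37
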