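import Cfsg.Agent.Lib.Helper4.TC.ONL37Model
import Cfsg.Agent.Lib.Helper4.TC.ONL37Data
import Cfsg.Agent.Lib.Helper4.TC.Strict

set_option autoImplicit false
set_option maxRecDepth 100000
set_option linter.unusedVariables false
set_option Elab.async false

namespace Cfsg.Agent.Helper4.TC.ONL37

open Cfsg.Agent.Helper4.TC

theorem inv42 : invRange mdata 1904 79968 = true := invRange_strict mdata 1904 79968 (by decide +kernel)
theorem inv43 : invRange mdata 1904 81872 = true := invRange_strict mdata 1904 81872 (by decide +kernel)
theorem inv44 : invRange mdata 1904 83776 = true := invRange_strict mdata 1904 83776 (by decide +kernel)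
theorem inv45 : invRange mdata 1904 85680 = true := invRange_strict mdata 1904 85680 (by decide +kernel)
theorem inv46 : invRange mdata 1904 87584 = true := invRange_strict mdata 1904 87584 (by decide +kernel)
theorem inv47 : invRange mdata 1904 89488 = true := invRange_strict mdata 1904 89488 (by decide +kernel)
theorem inv48 : invRange mdata 1904 91392 = true := invRange_strict mdata 1904 91392 (by decide +kernel)
theorem inv49 : invRange mdata 1904 93296 = true := invRange_strict mdata 1904 93296 (by decide +kernel)

end Cfsg.Agent.Helper4.TC.ONL37
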