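import Cfsg.Agent.Lib.Helper4.TC.ONL37Model
import Cfsg.Agent.Lib.Helper4.TC.ONL37Data
import Cfsg.Agent.Lib.Helper4.TC.Strict

set_option autoImplicit false
set_option maxRecDepth 100000
set_option linter.unusedVariables false
set_option Elab.async false

namespace Cfsg.Agent.Helper4.TC.ONL37

open Cfsg.Agent.Helper4.TC

theorem inv50 : invRange mdata 1904 95200 = true := invRange_strict mdata 1904 95200 (by decide +kernel)
theorem inv51 : invRange mdata 1904 97104 = true := invRange_strict mdata 1904 97104 (by decide +kernel)
theorem inv52 : invRange mdata 1904 99008 = true := invRange_strict mdata 1904 99008 (by decide +kernel)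
theorem inv53 : invRange mdata 1904 100912 = true := invRange_strict mdata 1904 100912 (by decide +kernel)
theorem inv54 : invRange mdata 1904 102816 = true := invRange_strict mdata 1904 102816 (by decide +kernel)
theorem inv55 : invRange mdata 1904 104720 = true := invRange_strict mdata 1904 104720 (by decide +kernel)
theorem inv56 : invRange mdata 1904 106624 = true := invRange_strict mdata 1904 106624 (by decide +kernel)
theorem inv57 : invRange mdata 1904 108528 = true := invRange_strict mdata 1904 108528 (by decide +kernel)

end Cfsg.Agent.Helper4.TC.ONL37
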