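import Cfsg.Agent.Lib.Helper4.TC.ONL37Model
import Cfsg.Agent.Lib.Helper4.TC.ONL37Data
import Cfsg.Agent.Lib.Helper4.TC.Strict

set_option autoImplicit false
set_option maxRecDepth 100000
set_option linter.unusedVariables false
set_option Elab.async false

namespace Cfsg.Agent.Helper4.TC.ONL37

open Cfsg.Agent.Helper4.TC

theorem inv58 : invRange mdata 1904 110432 = true := invRange_strict mdata 1904 110432 (by decide +kernel)
theorem inv59 : invRange mdata 1904 112336 = true := invRange_strict mdata 1904 112336 (by decide +kernel)
theorem inv60 : invRange mdata 1904 114240 = true := invRange_strict mdata 1904 114240 (by decide +kernel)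
theorem inv61 : invRange mdata 1904 116144 = true := invRange_strict mdata 1904 116144 (by decide +kernel)
theorem inv62 : invRange mdata 1904 118048 = true := invRange_strict mdata 1904 118048 (by decide +kernel)
theorem inv63 : invRange mdata 1904 119952 = true := invRange_strict mdata 1904 119952 (by decide +kernel)
theorem inv64 : invRange mdata 904 121856 = true := invRange_strict mdata 904 121856 (by decide +kernel)
theorem tree0 : treeRange mdata 13333 1 = true := treeRange_strict mdata 13333 1 (by decide +kernel)

end Cfsg.Agent.Helper4.TC.ONL37
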