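import Cfsg.Agent.Lib.Helper4.TC.ONL37Model
import Cfsg.Agent.Lib.Helper4.TC.ONL37Data
import Cfsg.Agent.Lib.Helper4.TC.Strict

set_option autoImplicit false
set_option maxRecDepth 100000
set_option linter.unusedVariables false
set_option Elab.async false

namespace Cfsg.Agent.Helper4.TC.ONL37

open Cfsg.Agent.Helper4.TC

theorem tree1 : treeRange mdata 13333 13334 = true := treeRange_strict mdata 13333 13334 (by decide +kernel)
theorem tree2 : treeRange mdata 13333 26667 = true := treeRange_strict mdata 13333 26667 (by decide +kernel)
theorem tree3 : treeRange mdata 13333 40000 = true := treeRange_strict mdata 13333 40000 (by decide +kernel)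
theorem tree4 : treeRange mdata 13333 53333 = true := treeRange_strict mdata 13333 53333 (by decide +kernel)
theorem tree5 : treeRange mdata 13333 66666 = true := treeRange_strict mdata 13333 66666 (by decide +kernel)
theorem tree6 : treeRange mdata 13333 79999 = true := treeRange_strict mdata 13333 79999 (by decide +kernel)
theorem tree7 : treeRange mdata 13333 93332 = true := treeRange_strict mdata 13333 93332 (by decide +kernel)
theorem tree8 : treeRange mdata 13333 106665 = true := treeRange_strict mdata 13333 106665 (by decide +kernel)

end Cfsg.Agent.Helper4.TC.ONL37
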