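import Cfsg.Agent.Lib.Helper4.TC.ONL37Model
import Cfsg.Agent.Lib.Helper4.TC.ONL37Data
import Cfsg.Agent.Lib.Helper4.TC.Strict

set_option autoImplicit false
set_option maxRecDepth 100000
set_option linter.unusedVariables false
set_option Elab.async false

namespace Cfsg.Agent.Helper4.TC.ONL37

open Cfsg.Agent.Helper4.TC

theorem tree9 : treeRange mdata 2762 119998 = true := treeRange_strict mdata 2762 119998 (by decide +kernel)
theorem closed1_0 : closedRange mdata subsL 1 58654 6666 1 = true := closedRange_strict mdata subsL 1 58654 6666 1 (by decide +kernel)
theorem closed1_1 : closedRange mdata subsL 1 58654 6666 6667 = true := closedRange_strict mdata subsL 1 58654 6666 6667 (by decide +kernel)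
theorem closed1_2 : closedRange mdata subsL 1 58654 6666 13333 = true := closedRange_strict mdata subsL 1 58654 6666 13333 (by decide +kernel)
theorem closed1_3 : closedRange mdata subsL 1 58654 6666 19999 = true := closedRange_strict mdata subsL 1 58654 6666 19999 (by decide +kernel)
theorem closed1_4 : closedRange mdata subsL 1 58654 6666 26665 = true := closedRange_strict mdata subsL 1 58654 6666 26665 (by decide +kernel)
theorem closed1_5 : closedRange mdata subsL 1 58654 6666 33331 = true := closedRange_strict mdata subsL 1 58654 6666 33331 (by decide +kernel)
theorem closed1_6 : closedRange mdata subsL 1 58654 6666 39997 = true := closedRange_strict mdata subsL 1 58654 6666 39997 (by decide +kernel)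

end Cfsg.Agent.Helper4.TC.ONL37
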