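import Cfsg.Agent.Lib.Helper4.TC.ONL37Model
import Cfsg.Agent.Lib.Helper4.TC.ONL37Data
import Cfsg.Agent.Lib.Helper4.TC.Strict

set_option autoImplicit false
set_option maxRecDepth 100000
set_option linter.unusedVariables false
set_option Elab.async false

namespace Cfsg.Agent.Helper4.TC.ONL37

open Cfsg.Agent.Helper4.TC

theorem closed2_2 : closedRange mdata subsL 58654 110790 6666 71986 = true := closedRange_strict mdata subsL 58654 110790 6666 71986 (by decide +kernel)
theorem closed2_3 : closedRange mdata subsL 58654 110790 6666 78652 = true := closedRange_strict mdata subsL 58654 110790 6666 78652 (by decide +kernel)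
theorem closed2_4 : closedRange mdata subsL 58654 110790 6666 85318 = true := closedRange_strict mdata subsL 58654 110790 6666 85318 (by decide +kernel)
theorem closed2_5 : closedRange mdata subsL 58654 110790 6666 91984 = true := closedRange_strict mdata subsL 58654 110790 6666 91984 (by decide +kernel)
theorem closed2_6 : closedRange mdata subsL 58654 110790 6666 98650 = true := closedRange_strict mdata subsL 58654 110790 6666 98650 (by decide +kernel)
theorem closed2_7 : closedRange mdata subsL 58654 110790 5474 105316 = true := closedRange_strict mdata subsL 58654 110790 5474 105316 (by decide +kernel)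
theorem reach2_0 : reachRange mdata subsL 58654 16000 58655 = true := reachRange_strict mdata subsL 58654 16000 58655 (by decide +kernel)
theorem reach2_1 : reachRange mdata subsL 58654 16000 74655 = true := reachRange_strict mdata subsL 58654 16000 74655 (by decide +kernel)

end Cfsg.Agent.Helper4.TC.ONL37
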