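import Cfsg.Agent.Lib.Helper4.TC.ONL37Model
import Cfsg.Agent.Lib.Helper4.TC.ONL37Data
import Cfsg.Agent.Lib.Helper4.TC.Strict

set_option autoImplicit false
set_option maxRecDepth 100000
set_option linter.unusedVariables false
set_option Elab.async false

namespace Cfsg.Agent.Helper4.TC.ONL37

open Cfsg.Agent.Helper4.TC

theorem reach2_2 : reachRange mdata subsL 58654 16000 90655 = true := reachRange_strict mdata subsL 58654 16000 90655 (by decide +kernel)
theorem reach2_3 : reachRange mdata subsL 58654 4135 106655 = true := reachRange_strict mdata subsL 58654 4135 106655 (by decide +kernel)
theorem closed3_0 : closedRange mdata subsL 110790 116376 5586 110790 = true := closedRange_strict mdata subsL 110790 116376 5586 110790 (by decide +kernel)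
theorem reach3_0 : reachRange mdata subsL 110790 5585 110791 = true := reachRange_strict mdata subsL 110790 5585 110791 (by decide +kernel)
theorem closed4_0 : closedRange mdata subsL 116376 122760 6384 116376 = true := closedRange_strict mdata subsL 116376 122760 6384 116376 (by decide +kernel)
theorem reach4_0 : reachRange mdata subsL 116376 6383 116377 = true := reachRange_strict mdata subsL 116376 6383 116377 (by decide +kernel)
theorem sub0_ok : sub0OK mdata subsL = true := by decide +kernel
theorem relc_ok : wordsLettersOK 14 bases = true := by decide +kernel

end Cfsg.Agent.Helper4.TC.ONL37
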