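import Cfsg.Agent.Lib.Helper4.TC.ONL37Model
import Cfsg.Agent.Lib.Helper4.TC.ONL37Data
import Cfsg.Agent.Lib.Helper4.TC.Strict

set_option autoImplicit false
set_option maxRecDepth 100000
set_option linter.unusedVariables false
set_option Elab.async false

namespace Cfsg.Agent.Helper4.TC.ONL37

open Cfsg.Agent.Helper4.TC

theorem rel64 : relsRange mdata bases 322 20608 = true := relsRange_strict mdata bases 322 20608 (by decide +kernel)
theorem rel65 : relsRange mdata bases 322 20930 = true := relsRange_strict mdata bases 322 20930 (by decide +kernel)
theorem rel66 : relsRange mdata bases 322 21252 = true := relsRange_strict mdata bases 322 21252 (by decide +kernel)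
theorem rel67 : relsRange mdata bases 322 21574 = true := relsRange_strict mdata bases 322 21574 (by decide +kernel)
theorem rel68 : relsRange mdata bases 322 21896 = true := relsRange_strict mdata bases 322 21896 (by decide +kernel)
theorem rel69 : relsRange mdata bases 322 22218 = true := relsRange_strict mdata bases 322 22218 (by decide +kernel)
theorem rel70 : relsRange mdata bases 322 22540 = true := relsRange_strict mdata bases 322 22540 (by decide +kernel)
theorem rel71 : relsRange mdata bases 322 22862 = true := relsRange_strict mdata bases 322 22862 (by decide +kernel)

end Cfsg.Agent.Helper4.TC.ONL37
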