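import Cfsg.Agent.Lib.Helper4.TC.ONL37Model
import Cfsg.Agent.Lib.Helper4.TC.ONL37Data
import Cfsg.Agent.Lib.Helper4.TC.Strict

set_option autoImplicit false
set_option maxRecDepth 100000
set_option linter.unusedVariables false
set_option Elab.async false

namespace Cfsg.Agent.Helper4.TC.ONL37

open Cfsg.Agent.Helper4.TC

theorem rel72 : relsRange mdata bases 322 23184 = true := relsRange_strict mdata bases 322 23184 (by decide +kernel)
theorem rel73 : relsRange mdata bases 322 23506 = true := relsRange_strict mdata bases 322 23506 (by decide +kernel)
theorem rel74 : relsRange mdata bases 322 23828 = true := relsRange_strict mdata bases 322 23828 (by decide +kernel)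
theorem rel75 : relsRange mdata bases 322 24150 = true := relsRange_strict mdata bases 322 24150 (by decide +kernel)
theorem rel76 : relsRange mdata bases 322 24472 = true := relsRange_strict mdata bases 322 24472 (by decide +kernel)
theorem rel77 : relsRange mdata bases 322 24794 = true := relsRange_strict mdata bases 322 24794 (by decide +kernel)
theorem rel78 : relsRange mdata bases 322 25116 = true := relsRange_strict mdata bases 322 25116 (by decide +kernel)
theorem rel79 : relsRange mdata bases 322 25438 = true := relsRange_strict mdata bases 322 25438 (by decide +kernel)

end Cfsg.Agent.Helper4.TC.ONL37
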