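import Cfsg.Agent.Lib.Helper4.TC.Std
import Cfsg.Agent.Lib.Helper4.TC.ONL37Fin
import Cfsg.Agent.Lib.Helper4.TC.ONL37CM
import Cfsg.Agent.Lib.Helper4.TC.ONL37CE0
import Cfsg.Agent.Lib.Helper4.TC.ONL37CE1
import Cfsg.Agent.Lib.Helper4.TC.ONL37CE2
import Cfsg.Agent.Lib.Helper4.TC.ONL37CE3
import Cfsg.Agent.Lib.Helper4.TC.ONL37CE4
import Cfsg.Agent.Lib.Helper4.TC.ONL37CE5
import Cfsg.Agent.Lib.Helper4.TC.ONL37CE6
import Cfsg.Agent.Lib.Helper4.TC.ONL37CE7
import Cfsg.Agent.Lib.Helper4.TC.ONL37CE8
import Cfsg.Agent.Lib.Helper4.TC.ONL37CE9
import Cfsg.Agent.Lib.Helper4.TC.ONL37CE10
import Cfsg.Agent.Lib.Helper4.TC.ONL37CE11
import Cfsg.Agent.Lib.Helper4.TC.ONL37CE12
import Cfsg.Agent.Lib.Helper4.TC.ONL37CE13
import Cfsg.Agent.Lib.Helper4.TC.ONL37CF0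
import Cfsg.Agent.Lib.Helper4.TC.ONL37CF1
import Cfsg.Agent.Lib.Helper4.TC.ONL37CF2
import Cfsg.Agent.Lib.Helper4.TC.ONL37CF3
import Cfsg.Agent.Lib.Helper4.TC.ONL37CF4
import Cfsg.Agent.Lib.Helper4.TC.ONL37CF5
import Cfsg.Agent.Lib.Helper4.TC.ONL37CF6
import Cfsg.Agent.Lib.Helper4.TC.ONL37CF7
import Cfsg.Agent.Lib.Helper4.TC.ONL37CF8
import Cfsg.Agent.Lib.Helper4.TC.ONL37CF9
import Cfsg.Agent.Lib.Helper4.TC.ONL37CF10
import Cfsg.Agent.Lib.Helper4.TC.ONL37CF11
import Cfsg.Agent.Lib.Helper4.TC.ONL37CF12
import Cfsg.Agent.Lib.Helper4.TC.ONL37CF13
import Cfsg.Agent.Lib.Helper4.TC.ONL37MC0
import Cfsg.Agent.Lib.Helper4.TC.ONL37MC1
import Cfsg.Agent.Lib.Helper4.TC.ONL37MC2
import Cfsg.Agent.Lib.Helper4.TC.ONL37MC3
import Cfsg.Agent.Lib.Helper4.TC.ONL37MC4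
import Cfsg.Agent.Lib.Helper4.TC.ONL37MC5
import Cfsg.Agent.Lib.Helper4.TC.ONL37MC6
import Cfsg.Agent.Lib.Helper4.TC.ONL37MC7
import Cfsg.Agent.Lib.Helper4.TC.ONL37MC8
import Cfsg.Agent.Lib.Helper4.TC.ONL37MC9
import Cfsg.Agent.Lib.Helper4.TC.ONL37MC10
import Cfsg.Agent.Lib.Helper4.TC.ONL37MC11
import Cfsg.Agent.Lib.Helper4.TC.ONL37MC12
import Cfsg.Agent.Lib.Helper4.TC.ONL37MC13
import Cfsg.Agent.Lib.Helper4.TC.ONL37MC14
import Cfsg.Agent.Lib.Helper4.TC.ONL37MC15
import Cfsg.Agent.Lib.Helper4.TC.ONL37MC16
import Cfsg.Agent.Lib.Helper4.TC.ONL37MC17
import Cfsg.Agent.Lib.Helper4.TC.ONL37MC18
import Cfsg.Agent.Lib.Helper4.TC.ONL37MC19
import Cfsg.Agent.Lib.Helper4.TC.ONL37MC20
import Cfsg.Agent.Lib.Helper4.TC.ONL37MC21
import Cfsg.Agent.Lib.Helper4.TC.ONL37MC22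
import Cfsg.Agent.Lib.Helper4.TC.ONL37MC23
import Cfsg.Agent.Lib.Helper4.TC.ONL37MC24
import Cfsg.Agent.Lib.Helper4.TC.ONL37MC25
import Cfsg.Agent.Lib.Helper4.TC.ONL37MC26
import Cfsg.Agent.Lib.Helper4.TC.ONL37MC27
import Cfsg.Agent.Lib.Helper4.TC.ONL37MC28
import Cfsg.Agent.Lib.Helper4.TC.ONL37MC29
import Cfsg.Agent.Lib.Helper4.TC.ONL37MC30
import Cfsg.Agent.Lib.Helper4.TC.ONL37MC31
import Cfsg.Agent.Lib.Helper4.TC.ONL37MC32
import Cfsg.Agent.Lib.Helper4.TC.ONL37MC33
import Cfsg.Agent.Lib.Helper4.TC.ONL37MC34
import Cfsg.Agent.Lib.Helper4.TC.ONL37MC35
import Cfsg.Agent.Lib.Helper4.TC.ONL37MC36
import Cfsg.Agent.Lib.Helper4.TC.ONL37MC37
import Cfsg.Agent.Lib.Helper4.TC.ONL37MC38
import Cfsg.Agent.Lib.Helper4.TC.ONL37MC39
import Cfsg.Agent.Lib.Helper4.TC.ONL37MC40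
import Cfsg.Agent.Lib.Helper4.TC.ONL37MC41
import Cfsg.Agent.Lib.Helper4.TC.ONL37MC42
import Cfsg.Agent.Lib.Helper4.TC.ONL37MC43
import Cfsg.Agent.Lib.Helper4.TC.ONL37MC44
import Cfsg.Agent.Lib.Helper4.TC.ONL37MC45
import Cfsg.Agent.Lib.Helper4.TC.ONL37MC46
import Cfsg.Agent.Lib.Helper4.TC.ONL37MC47
import Cfsg.Agent.Lib.Helper4.TC.ONL37MC48
import Cfsg.Agent.Lib.Helper4.TC.ONL37MC49
import Cfsg.Agent.Lib.Helper4.TC.ONL37MC50
import Cfsg.Agent.Lib.Helper4.TC.ONL37MC51
import Cfsg.Agent.Lib.Helper4.TC.ONL37MC52
import Cfsg.Agent.Lib.Helper4.TC.ONL37MC53
import Cfsg.Agent.Lib.Helper4.TC.ONL37MC54
import Cfsg.Agent.Lib.Helper4.TC.ONL37MC55
import Cfsg.Agent.Lib.Helper4.TC.ONL37MC56
import Cfsg.Agent.Lib.Helper4.TC.ONL37MC57
import Cfsg.Agent.Lib.Helper4.TC.ONL37MC58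
import Cfsg.Agent.Lib.Helper4.TC.ONL37MC59
import Cfsg.Agent.Lib.Helper4.TC.ONL37MC60
import Cfsg.Agent.Lib.Helper4.TC.ONL37MC61
import Cfsg.Prelude.Def_Spor_ON

set_option autoImplicit false
set_option maxRecDepth 100000
set_option linter.unusedVariables false

namespace Cfsg.Agent.Helper4.TC.ONL37

open Cfsg.Agent.Helper4.TC

def gens : List Cfsg.Spor.ON.Gen := [.g, .a, .b, .c, .d, .e, .f]

abbrev dec : ℕ → Letter Cfsg.Spor.ON.Gen := stdDec gens .g
abbrev enc : Cfsg.Spor.ON.Gen → ℕ := stdEnc gens

theorem coding : Coding dec enc 14 :=
  std_coding gens .g (by decide) (by intro x; cases x <;> decide) 14 (by decide)

theorem allE0 : ∀ k, k < 262144 → justE data 0 k = true := by
  intro k hk
  by_cases hh1 : k < 123490
  · skip
    by_cases hh2 : k < 57260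
    · skip
      by_cases hh3 : k < 28835
      · skip
        by_cases hh4 : k < 14624
        · skip
          exact edgeRange_sound data 0 14624 0 e0_c0 k (by omega) (by omega)
        · skip
          exact edgeRange_sound data 0 14211 14624 e0_c1 k (by omega) (by omega)
      · skip
        by_cases hh5 : k < 43221
        · skip
          exact edgeRange_sound data 0 14386 28835 e0_c2 k (by omega) (by omega)
        · skip
          exact edgeRange_sound data 0 14039 43221 e0_c3 k (by omega) (by omega)
    · skip
      by_cases hh6 : k < 85771
      · skip
        by_cases hh7 : k < 71727
        · skip
          exact edgeRange_sound data 0 14467 57260 e0_c4 k (by omega) (by omega)
        · skip
          exact edgeRange_sound data 0 14044 71727 e0_c5 k (by omega) (by omega)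
      · skip
        by_cases hh8 : k < 98740
        · skip
          exact edgeRange_sound data 0 12969 85771 e0_c6 k (by omega) (by omega)
        · skip
          by_cases hh9 : k < 111358
          · skip
            exact edgeRange_sound data 0 12618 98740 e0_c7 k (by omega) (by omega)
          · skip
            exact edgeRange_sound data 0 12132 111358 e0_c8 k (by omega) (by omega)
  · skip
    by_cases hh10 : k < 170708
    · skip
      by_cases hh11 : k < 149616
      · skip
        by_cases hh12 : k < 136079
        · skip
          exact edgeRange_sound data 0 12589 123490 e0_c9 k (by omega) (by omega)
        · skip
          exact edgeRange_sound data 0 13537 136079 e0_c10 k (by omega) (by omega)
      · skip
        by_cases hh13 : k < 162283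
        · skip
          exact edgeRange_sound data 0 12667 149616 e0_c11 k (by omega) (by omega)
        · skip
          exact edgeRange_sound data 0 8425 162283 e0_c12 k (by omega) (by omega)
    · skip
      by_cases hh14 : k < 186579
      · skip
        by_cases hh15 : k < 178703
        · skip
          exact edgeRange_sound data 0 7995 170708 e0_c13 k (by omega) (by omega)
        · skip
          exact edgeRange_sound data 0 7876 178703 e0_c14 k (by omega) (by omega)
      · skip
        by_cases hh16 : k < 194714
        · skip
          exact edgeRange_sound data 0 8135 186579 e0_c15 k (by omega) (by omega)
        · skip
          by_cases hh17 : k < 221664
          · skip
            exact edgeRange_sound data 0 26950 194714 e0_c16 k (by omega) (by omega)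
          · skip
            exact edgeRange_sound data 0 40480 221664 e0_c17 k (by omega) (by omega)

theorem allE1 : ∀ k, k < 262144 → justE data 1 k = true := by
  intro k hk
  by_cases hh1 : k < 114360
  · skip
    by_cases hh2 : k < 57089
    · skip
      by_cases hh3 : k < 28537
      · skip
        by_cases hh4 : k < 14391
        · skip
          exact edgeRange_sound data 1 14391 0 e1_c0 k (by omega) (by omega)
        · skip
          exact edgeRange_sound data 1 14146 14391 e1_c1 k (by omega) (by omega)
      · skip
        by_cases hh5 : k < 42821
        · skip
          exact edgeRange_sound data 1 14284 28537 e1_c2 k (by omega) (by omega)
        · skip
          exact edgeRange_sound data 1 14268 42821 e1_c3 k (by omega) (by omega)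
    · skip
      by_cases hh6 : k < 86442
      · skip
        by_cases hh7 : k < 71917
        · skip
          exact edgeRange_sound data 1 14828 57089 e1_c4 k (by omega) (by omega)
        · skip
          exact edgeRange_sound data 1 14525 71917 e1_c5 k (by omega) (by omega)
      · skip
        by_cases hh8 : k < 100619
        · skip
          exact edgeRange_sound data 1 14177 86442 e1_c6 k (by omega) (by omega)
        · skip
          exact edgeRange_sound data 1 13741 100619 e1_c7 k (by omega) (by omega)
  · skip
    by_cases hh9 : k < 169555
    · skip
      by_cases hh10 : k < 142380
      · skip
        by_cases hh11 : k < 127926
        · skip
          exact edgeRange_sound data 1 13566 114360 e1_c8 k (by omega) (by omega)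
        · skip
          exact edgeRange_sound data 1 14454 127926 e1_c9 k (by omega) (by omega)
      · skip
        by_cases hh12 : k < 157957
        · skip
          exact edgeRange_sound data 1 15577 142380 e1_c10 k (by omega) (by omega)
        · skip
          exact edgeRange_sound data 1 11598 157957 e1_c11 k (by omega) (by omega)
    · skip
      by_cases hh13 : k < 191297
      · skip
        by_cases hh14 : k < 180368
        · skip
          exact edgeRange_sound data 1 10813 169555 e1_c12 k (by omega) (by omega)
        · skip
          exact edgeRange_sound data 1 10929 180368 e1_c13 k (by omega) (by omega)
      · skip
        by_cases hh15 : k < 214338
        · skip
          exact edgeRange_sound data 1 23041 191297 e1_c14 k (by omega) (by omega)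
        · skip
          exact edgeRange_sound data 1 47806 214338 e1_c15 k (by omega) (by omega)

theorem allE2 : ∀ k, k < 262144 → justE data 2 k = true := by
  intro k hk
  by_cases hh1 : k < 115112
  · skip
    by_cases hh2 : k < 49460
    · skip
      by_cases hh3 : k < 24693
      · skip
        by_cases hh4 : k < 12427
        · skip
          exact edgeRange_sound data 2 12427 0 e2_c0 k (by omega) (by omega)
        · skip
          exact edgeRange_sound data 2 12266 12427 e2_c1 k (by omega) (by omega)
      · skip
        by_cases hh5 : k < 36839
        · skip
          exact edgeRange_sound data 2 12146 24693 e2_c2 k (by omega) (by omega)
        · skip
          exact edgeRange_sound data 2 12621 36839 e2_c3 k (by omega) (by omega)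
    · skip
      by_cases hh6 : k < 75451
      · skip
        by_cases hh7 : k < 62154
        · skip
          exact edgeRange_sound data 2 12694 49460 e2_c4 k (by omega) (by omega)
        · skip
          exact edgeRange_sound data 2 13297 62154 e2_c5 k (by omega) (by omega)
      · skip
        by_cases hh8 : k < 88835
        · skip
          exact edgeRange_sound data 2 13384 75451 e2_c6 k (by omega) (by omega)
        · skip
          by_cases hh9 : k < 101761
          · skip
            exact edgeRange_sound data 2 12926 88835 e2_c7 k (by omega) (by omega)
          · skip
            exact edgeRange_sound data 2 13351 101761 e2_c8 k (by omega) (by omega)
  · skip
    by_cases hh10 : k < 168711
    · skip
      by_cases hh11 : k < 142321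
      · skip
        by_cases hh12 : k < 128251
        · skip
          exact edgeRange_sound data 2 13139 115112 e2_c9 k (by omega) (by omega)
        · skip
          exact edgeRange_sound data 2 14070 128251 e2_c10 k (by omega) (by omega)
      · skip
        by_cases hh13 : k < 157692
        · skip
          exact edgeRange_sound data 2 15371 142321 e2_c11 k (by omega) (by omega)
        · skip
          exact edgeRange_sound data 2 11019 157692 e2_c12 k (by omega) (by omega)
    · skip
      by_cases hh14 : k < 188282
      · skip
        by_cases hh15 : k < 178596
        · skip
          exact edgeRange_sound data 2 9885 168711 e2_c13 k (by omega) (by omega)
        · skip
          exact edgeRange_sound data 2 9686 178596 e2_c14 k (by omega) (by omega)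
      · skip
        by_cases hh16 : k < 197972
        · skip
          exact edgeRange_sound data 2 9690 188282 e2_c15 k (by omega) (by omega)
        · skip
          by_cases hh17 : k < 240482
          · skip
            exact edgeRange_sound data 2 42510 197972 e2_c16 k (by omega) (by omega)
          · skip
            exact edgeRange_sound data 2 21662 240482 e2_c17 k (by omega) (by omega)

theorem allE3 : ∀ k, k < 262144 → justE data 3 k = true := by
  intro k hk
  by_cases hh1 : k < 110065
  · skip
    by_cases hh2 : k < 53902
    · skip
      by_cases hh3 : k < 17886
      · skip
        exact edgeRange_sound data 3 17886 0 e3_c0 k (by omega) (by omega)
      · skip
        by_cases hh4 : k < 35717
        · skip
          exact edgeRange_sound data 3 17831 17886 e3_c1 k (by omega) (by omega)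
        · skip
          exact edgeRange_sound data 3 18185 35717 e3_c2 k (by omega) (by omega)
    · skip
      by_cases hh5 : k < 72426
      · skip
        exact edgeRange_sound data 3 18524 53902 e3_c3 k (by omega) (by omega)
      · skip
        by_cases hh6 : k < 91369
        · skip
          exact edgeRange_sound data 3 18943 72426 e3_c4 k (by omega) (by omega)
        · skip
          exact edgeRange_sound data 3 18696 91369 e3_c5 k (by omega) (by omega)
  · skip
    by_cases hh7 : k < 168117
    · skip
      by_cases hh8 : k < 129171
      · skip
        exact edgeRange_sound data 3 19106 110065 e3_c6 k (by omega) (by omega)
      · skip
        by_cases hh9 : k < 149235
        · skip
          exact edgeRange_sound data 3 20064 129171 e3_c7 k (by omega) (by omega)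
        · skip
          exact edgeRange_sound data 3 18882 149235 e3_c8 k (by omega) (by omega)
    · skip
      by_cases hh10 : k < 206192
      · skip
        by_cases hh11 : k < 185063
        · skip
          exact edgeRange_sound data 3 16946 168117 e3_c9 k (by omega) (by omega)
        · skip
          exact edgeRange_sound data 3 21129 185063 e3_c10 k (by omega) (by omega)
      · skip
        by_cases hh12 : k < 256192
        · skip
          exact edgeRange_sound data 3 50000 206192 e3_c11 k (by omega) (by omega)
        · skip
          exact edgeRange_sound data 3 5952 256192 e3_c12 k (by omega) (by omega)

theorem allE4 : ∀ k, k < 262144 → justE data 4 k = true := by
  intro k hk
  by_cases hh1 : k < 112317
  · skip
    by_cases hh2 : k < 55560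
    · skip
      by_cases hh3 : k < 27420
      · skip
        by_cases hh4 : k < 13664
        · skip
          exact edgeRange_sound data 4 13664 0 e4_c0 k (by omega) (by omega)
        · skip
          exact edgeRange_sound data 4 13756 13664 e4_c1 k (by omega) (by omega)
      · skip
        by_cases hh5 : k < 41660
        · skip
          exact edgeRange_sound data 4 14240 27420 e4_c2 k (by omega) (by omega)
        · skip
          exact edgeRange_sound data 4 13900 41660 e4_c3 k (by omega) (by omega)
    · skip
      by_cases hh6 : k < 84902
      · skip
        by_cases hh7 : k < 69839
        · skip
          exact edgeRange_sound data 4 14279 55560 e4_c4 k (by omega) (by omega)
        · skip
          exact edgeRange_sound data 4 15063 69839 e4_c5 k (by omega) (by omega)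
      · skip
        by_cases hh8 : k < 98692
        · skip
          exact edgeRange_sound data 4 13790 84902 e4_c6 k (by omega) (by omega)
        · skip
          exact edgeRange_sound data 4 13625 98692 e4_c7 k (by omega) (by omega)
  · skip
    by_cases hh9 : k < 166060
    · skip
      by_cases hh10 : k < 139413
      · skip
        by_cases hh11 : k < 125320
        · skip
          exact edgeRange_sound data 4 13003 112317 e4_c8 k (by omega) (by omega)
        · skip
          exact edgeRange_sound data 4 14093 125320 e4_c9 k (by omega) (by omega)
      · skip
        by_cases hh12 : k < 154489
        · skip
          exact edgeRange_sound data 4 15076 139413 e4_c10 k (by omega) (by omega)
        · skip
          exact edgeRange_sound data 4 11571 154489 e4_c11 k (by omega) (by omega)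
    · skip
      by_cases hh13 : k < 184636
      · skip
        by_cases hh14 : k < 175486
        · skip
          exact edgeRange_sound data 4 9426 166060 e4_c12 k (by omega) (by omega)
        · skip
          exact edgeRange_sound data 4 9150 175486 e4_c13 k (by omega) (by omega)
      · skip
        by_cases hh15 : k < 193838
        · skip
          exact edgeRange_sound data 4 9202 184636 e4_c14 k (by omega) (by omega)
        · skip
          by_cases hh16 : k < 218938
          · skip
            exact edgeRange_sound data 4 25100 193838 e4_c15 k (by omega) (by omega)
          · skip
            exact edgeRange_sound data 4 43206 218938 e4_c16 k (by omega) (by omega)

theorem allE5 : ∀ k, k < 262144 → justE data 5 k = true := by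
  intro k hk
  by_cases hh1 : k < 110074
  · skip
    by_cases hh2 : k < 54365
    · skip
      by_cases hh3 : k < 18016
      · skip
        exact edgeRange_sound data 5 18016 0 e5_c0 k (by omega) (by omega)
      · skip
        by_cases hh4 : k < 36017
        · skip
          exact edgeRange_sound data 5 18001 18016 e5_c1 k (by omega) (by omega)
        · skip
          exact edgeRange_sound data 5 18348 36017 e5_c2 k (by omega) (by omega)
    · skip
      by_cases hh5 : k < 73108
      · skip
        exact edgeRange_sound data 5 18743 54365 e5_c3 k (by omega) (by omega)
      · skip
        by_cases hh6 : k < 92014
        · skip
          exact edgeRange_sound data 5 18906 73108 e5_c4 k (by omega) (by omega)
        · skip
          exact edgeRange_sound data 5 18060 92014 e5_c5 k (by omega) (by omega)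
  · skip
    by_cases hh7 : k < 165112
    · skip
      by_cases hh8 : k < 128193
      · skip
        exact edgeRange_sound data 5 18119 110074 e5_c6 k (by omega) (by omega)
      · skip
        by_cases hh9 : k < 147022
        · skip
          exact edgeRange_sound data 5 18829 128193 e5_c7 k (by omega) (by omega)
        · skip
          exact edgeRange_sound data 5 18090 147022 e5_c8 k (by omega) (by omega)
    · skip
      by_cases hh10 : k < 192682
      · skip
        by_cases hh11 : k < 179191
        · skip
          exact edgeRange_sound data 5 14079 165112 e5_c9 k (by omega) (by omega)
        · skip
          exact edgeRange_sound data 5 13491 179191 e5_c10 k (by omega) (by omega)
      · skip
        by_cases hh12 : k < 224139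
        · skip
          exact edgeRange_sound data 5 31457 192682 e5_c11 k (by omega) (by omega)
        · skip
          exact edgeRange_sound data 5 38005 224139 e5_c12 k (by omega) (by omega)

theorem allE6 : ∀ k, k < 262144 → justE data 6 k = true := by
  intro k hk
  by_cases hh1 : k < 110763
  · skip
    by_cases hh2 : k < 55392
    · skip
      by_cases hh3 : k < 27894
      · skip
        by_cases hh4 : k < 14037
        · skip
          exact edgeRange_sound data 6 14037 0 e6_c0 k (by omega) (by omega)
        · skip
          exact edgeRange_sound data 6 13857 14037 e6_c1 k (by omega) (by omega)
      · skip
        by_cases hh5 : k < 41842
        · skip
          exact edgeRange_sound data 6 13948 27894 e6_c2 k (by omega) (by omega)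
        · skip
          exact edgeRange_sound data 6 13550 41842 e6_c3 k (by omega) (by omega)
    · skip
      by_cases hh6 : k < 83892
      · skip
        by_cases hh7 : k < 69485
        · skip
          exact edgeRange_sound data 6 14093 55392 e6_c4 k (by omega) (by omega)
        · skip
          exact edgeRange_sound data 6 14407 69485 e6_c5 k (by omega) (by omega)
      · skip
        by_cases hh8 : k < 97428
        · skip
          exact edgeRange_sound data 6 13536 83892 e6_c6 k (by omega) (by omega)
        · skip
          exact edgeRange_sound data 6 13335 97428 e6_c7 k (by omega) (by omega)
  · skip
    by_cases hh9 : k < 165262
    · skip
      by_cases hh10 : k < 137955
      · skip
        by_cases hh11 : k < 124034
        · skip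
          exact edgeRange_sound data 6 13271 110763 e6_c8 k (by omega) (by omega)
        · skip
          exact edgeRange_sound data 6 13921 124034 e6_c9 k (by omega) (by omega)
      · skip
        by_cases hh12 : k < 152542
        · skip
          exact edgeRange_sound data 6 14587 137955 e6_c10 k (by omega) (by omega)
        · skip
          exact edgeRange_sound data 6 12720 152542 e6_c11 k (by omega) (by omega)
    · skip
      by_cases hh13 : k < 185548
      · skip
        by_cases hh14 : k < 175367
        · skip
          exact edgeRange_sound data 6 10105 165262 e6_c12 k (by omega) (by omega)
        · skip
          exact edgeRange_sound data 6 10181 175367 e6_c13 k (by omega) (by omega)
      · skip
        by_cases hh15 : k < 195954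
        · skip
          exact edgeRange_sound data 6 10406 185548 e6_c14 k (by omega) (by omega)
        · skip
          by_cases hh16 : k < 233331
          · skip
            exact edgeRange_sound data 6 37377 195954 e6_c15 k (by omega) (by omega)
          · skip
            exact edgeRange_sound data 6 28813 233331 e6_c16 k (by omega) (by omega)

theorem allE7 : ∀ k, k < 262144 → justE data 7 k = true := by
  intro k hk
  by_cases hh1 : k < 125110
  · skip
    by_cases hh2 : k < 62354
    · skip
      by_cases hh3 : k < 31109
      · skip
        by_cases hh4 : k < 15878
        · skip
          exact edgeRange_sound data 7 15878 0 e7_c0 k (by omega) (by omega)
        · skip
          exact edgeRange_sound data 7 15231 15878 e7_c1 k (by omega) (by omega)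
      · skip
        by_cases hh5 : k < 46406
        · skip
          exact edgeRange_sound data 7 15297 31109 e7_c2 k (by omega) (by omega)
        · skip
          exact edgeRange_sound data 7 15948 46406 e7_c3 k (by omega) (by omega)
    · skip
      by_cases hh6 : k < 95018
      · skip
        by_cases hh7 : k < 78904
        · skip
          exact edgeRange_sound data 7 16550 62354 e7_c4 k (by omega) (by omega)
        · skip
          exact edgeRange_sound data 7 16114 78904 e7_c5 k (by omega) (by omega)
      · skip
        by_cases hh8 : k < 110280
        · skip
          exact edgeRange_sound data 7 15262 95018 e7_c6 k (by omega) (by omega)
        · skip
          exact edgeRange_sound data 7 14830 110280 e7_c7 k (by omega) (by omega)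
  · skip
    by_cases hh9 : k < 180234
    · skip
      by_cases hh10 : k < 157516
      · skip
        by_cases hh11 : k < 140695
        · skip
          exact edgeRange_sound data 7 15585 125110 e7_c8 k (by omega) (by omega)
        · skip
          exact edgeRange_sound data 7 16821 140695 e7_c9 k (by omega) (by omega)
      · skip
        by_cases hh12 : k < 169589
        · skip
          exact edgeRange_sound data 7 12073 157516 e7_c10 k (by omega) (by omega)
        · skip
          exact edgeRange_sound data 7 10645 169589 e7_c11 k (by omega) (by omega)
    · skip
      by_cases hh13 : k < 209481
      · skip
        by_cases hh14 : k < 190879
        · skip
          exact edgeRange_sound data 7 10645 180234 e7_c12 k (by omega) (by omega)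
        · skip
          exact edgeRange_sound data 7 18602 190879 e7_c13 k (by omega) (by omega)
      · skip
        by_cases hh15 : k < 259481
        · skip
          exact edgeRange_sound data 7 50000 209481 e7_c14 k (by omega) (by omega)
        · skip
          exact edgeRange_sound data 7 2663 259481 e7_c15 k (by omega) (by omega)

theorem allE8 : ∀ k, k < 262144 → justE data 8 k = true := by
  intro k hk
  by_cases hh1 : k < 116686
  · skip
    by_cases hh2 : k < 59114
    · skip
      by_cases hh3 : k < 29738
      · skip
        by_cases hh4 : k < 15310
        · skip
          exact edgeRange_sound data 8 15310 0 e8_c0 k (by omega) (by omega)
        · skip
          exact edgeRange_sound data 8 14428 15310 e8_c1 k (by omega) (by omega)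
      · skip
        by_cases hh5 : k < 44613
        · skip
          exact edgeRange_sound data 8 14875 29738 e8_c2 k (by omega) (by omega)
        · skip
          exact edgeRange_sound data 8 14501 44613 e8_c3 k (by omega) (by omega)
    · skip
      by_cases hh6 : k < 89207
      · skip
        by_cases hh7 : k < 74393
        · skip
          exact edgeRange_sound data 8 15279 59114 e8_c4 k (by omega) (by omega)
        · skip
          exact edgeRange_sound data 8 14814 74393 e8_c5 k (by omega) (by omega)
      · skip
        by_cases hh8 : k < 102840
        · skip
          exact edgeRange_sound data 8 13633 89207 e8_c6 k (by omega) (by omega)
        · skip
          exact edgeRange_sound data 8 13846 102840 e8_c7 k (by omega) (by omega)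
  · skip
    by_cases hh9 : k < 169354
    · skip
      by_cases hh10 : k < 144333
      · skip
        by_cases hh11 : k < 130377
        · skip
          exact edgeRange_sound data 8 13691 116686 e8_c8 k (by omega) (by omega)
        · skip
          exact edgeRange_sound data 8 13956 130377 e8_c9 k (by omega) (by omega)
      · skip
        by_cases hh12 : k < 159171
        · skip
          exact edgeRange_sound data 8 14838 144333 e8_c10 k (by omega) (by omega)
        · skip
          exact edgeRange_sound data 8 10183 159171 e8_c11 k (by omega) (by omega)
    · skip
      by_cases hh13 : k < 187758
      · skip
        by_cases hh14 : k < 178681
        · skip
          exact edgeRange_sound data 8 9327 169354 e8_c12 k (by omega) (by omega)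
        · skip
          exact edgeRange_sound data 8 9077 178681 e8_c13 k (by omega) (by omega)
      · skip
        by_cases hh15 : k < 196913
        · skip
          exact edgeRange_sound data 8 9155 187758 e8_c14 k (by omega) (by omega)
        · skip
          by_cases hh16 : k < 235831
          · skip
            exact edgeRange_sound data 8 38918 196913 e8_c15 k (by omega) (by omega)
          · skip
            exact edgeRange_sound data 8 26313 235831 e8_c16 k (by omega) (by omega)

theorem allE9 : ∀ k, k < 262144 → justE data 9 k = true := by
  intro k hk
  by_cases hh1 : k < 112181
  · skip
    by_cases hh2 : k < 47536
    · skip
      by_cases hh3 : k < 16168
      · skip
        exact edgeRange_sound data 9 16168 0 e9_c0 k (by omega) (by omega)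
      · skip
        by_cases hh4 : k < 31708
        · skip
          exact edgeRange_sound data 9 15540 16168 e9_c1 k (by omega) (by omega)
        · skip
          exact edgeRange_sound data 9 15828 31708 e9_c2 k (by omega) (by omega)
    · skip
      by_cases hh5 : k < 81075
      · skip
        by_cases hh6 : k < 64313
        · skip
          exact edgeRange_sound data 9 16777 47536 e9_c3 k (by omega) (by omega)
        · skip
          exact edgeRange_sound data 9 16762 64313 e9_c4 k (by omega) (by omega)
      · skip
        by_cases hh7 : k < 97028
        · skip
          exact edgeRange_sound data 9 15953 81075 e9_c5 k (by omega) (by omega)
        · skip
          exact edgeRange_sound data 9 15153 97028 e9_c6 k (by omega) (by omega)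
  · skip
    by_cases hh8 : k < 171540
    · skip
      by_cases hh9 : k < 142999
      · skip
        by_cases hh10 : k < 127152
        · skip
          exact edgeRange_sound data 9 14971 112181 e9_c7 k (by omega) (by omega)
        · skip
          exact edgeRange_sound data 9 15847 127152 e9_c8 k (by omega) (by omega)
      · skip
        by_cases hh11 : k < 160039
        · skip
          exact edgeRange_sound data 9 17040 142999 e9_c9 k (by omega) (by omega)
        · skip
          exact edgeRange_sound data 9 11501 160039 e9_c10 k (by omega) (by omega)
    · skip
      by_cases hh12 : k < 193551
      · skip
        by_cases hh13 : k < 182557
        · skip
          exact edgeRange_sound data 9 11017 171540 e9_c11 k (by omega) (by omega)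
        · skip
          exact edgeRange_sound data 9 10994 182557 e9_c12 k (by omega) (by omega)
      · skip
        by_cases hh14 : k < 223231
        · skip
          exact edgeRange_sound data 9 29680 193551 e9_c13 k (by omega) (by omega)
        · skip
          exact edgeRange_sound data 9 38913 223231 e9_c14 k (by omega) (by omega)

theorem allE10 : ∀ k, k < 262144 → justE data 10 k = true := by
  intro k hk
  by_cases hh1 : k < 129988
  · skip
    by_cases hh2 : k < 68171
    · skip
      by_cases hh3 : k < 34071
      · skip
        by_cases hh4 : k < 17144
        · skip
          exact edgeRange_sound data 10 17144 0 e10_c0 k (by omega) (by omega)
        · skip
          exact edgeRange_sound data 10 16927 17144 e10_c1 k (by omega) (by omega)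
      · skip
        by_cases hh5 : k < 50992
        · skip
          exact edgeRange_sound data 10 16921 34071 e10_c2 k (by omega) (by omega)
        · skip
          exact edgeRange_sound data 10 17179 50992 e10_c3 k (by omega) (by omega)
    · skip
      by_cases hh6 : k < 100774
      · skip
        by_cases hh7 : k < 85243
        · skip
          exact edgeRange_sound data 10 17072 68171 e10_c4 k (by omega) (by omega)
        · skip
          exact edgeRange_sound data 10 15531 85243 e10_c5 k (by omega) (by omega)
      · skip
        by_cases hh8 : k < 115477
        · skip
          exact edgeRange_sound data 10 14703 100774 e10_c6 k (by omega) (by omega)
        · skip
          exact edgeRange_sound data 10 14511 115477 e10_c7 k (by omega) (by omega)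
  · skip
    by_cases hh9 : k < 181476
    · skip
      by_cases hh10 : k < 160389
      · skip
        by_cases hh11 : k < 144772
        · skip
          exact edgeRange_sound data 10 14784 129988 e10_c8 k (by omega) (by omega)
        · skip
          exact edgeRange_sound data 10 15617 144772 e10_c9 k (by omega) (by omega)
      · skip
        by_cases hh12 : k < 171311
        · skip
          exact edgeRange_sound data 10 10922 160389 e10_c10 k (by omega) (by omega)
        · skip
          exact edgeRange_sound data 10 10165 171311 e10_c11 k (by omega) (by omega)
    · skip
      by_cases hh13 : k < 204404
      · skip
        by_cases hh14 : k < 191181
        · skip
          exact edgeRange_sound data 10 9705 181476 e10_c12 k (by omega) (by omega)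
        · skip
          exact edgeRange_sound data 10 13223 191181 e10_c13 k (by omega) (by omega)
      · skip
        by_cases hh15 : k < 254404
        · skip
          exact edgeRange_sound data 10 50000 204404 e10_c14 k (by omega) (by omega)
        · skip
          exact edgeRange_sound data 10 7740 254404 e10_c15 k (by omega) (by omega)

theorem allE11 : ∀ k, k < 262144 → justE data 11 k = true := by
  intro k hk
  by_cases hh1 : k < 113034
  · skip
    by_cases hh2 : k < 55503
    · skip
      by_cases hh3 : k < 18466
      · skip
        exact edgeRange_sound data 11 18466 0 e11_c0 k (by omega) (by omega)
      · skip
        by_cases hh4 : k < 36724
        · skip
          exact edgeRange_sound data 11 18258 18466 e11_c1 k (by omega) (by omega)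
        · skip
          exact edgeRange_sound data 11 18779 36724 e11_c2 k (by omega) (by omega)
    · skip
      by_cases hh5 : k < 74526
      · skip
        exact edgeRange_sound data 11 19023 55503 e11_c3 k (by omega) (by omega)
      · skip
        by_cases hh6 : k < 94154
        · skip
          exact edgeRange_sound data 11 19628 74526 e11_c4 k (by omega) (by omega)
        · skip
          exact edgeRange_sound data 11 18880 94154 e11_c5 k (by omega) (by omega)
  · skip
    by_cases hh7 : k < 169687
    · skip
      by_cases hh8 : k < 132053
      · skip
        exact edgeRange_sound data 11 19019 113034 e11_c6 k (by omega) (by omega)
      · skip
        by_cases hh9 : k < 152186
        · skip
          exact edgeRange_sound data 11 20133 132053 e11_c7 k (by omega) (by omega)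
        · skip
          exact edgeRange_sound data 11 17501 152186 e11_c8 k (by omega) (by omega)
    · skip
      by_cases hh10 : k < 201076
      · skip
        by_cases hh11 : k < 185037
        · skip
          exact edgeRange_sound data 11 15350 169687 e11_c9 k (by omega) (by omega)
        · skip
          exact edgeRange_sound data 11 16039 185037 e11_c10 k (by omega) (by omega)
      · skip
        by_cases hh12 : k < 251076
        · skip
          exact edgeRange_sound data 11 50000 201076 e11_c11 k (by omega) (by omega)
        · skip
          exact edgeRange_sound data 11 11068 251076 e11_c12 k (by omega) (by omega)

theorem allE12 : ∀ k, k < 262144 → justE data 12 k = true := by
  intro k hk
  by_cases hh1 : k < 108284
  · skip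
    by_cases hh2 : k < 46278
    · skip
      by_cases hh3 : k < 15418
      · skip
        exact edgeRange_sound data 12 15418 0 e12_c0 k (by omega) (by omega)
      · skip
        by_cases hh4 : k < 30713
        · skip
          exact edgeRange_sound data 12 15295 15418 e12_c1 k (by omega) (by omega)
        · skip
          exact edgeRange_sound data 12 15565 30713 e12_c2 k (by omega) (by omega)
    · skip
      by_cases hh5 : k < 77865
      · skip
        by_cases hh6 : k < 61707
        · skip
          exact edgeRange_sound data 12 15429 46278 e12_c3 k (by omega) (by omega)
        · skip
          exact edgeRange_sound data 12 16158 61707 e12_c4 k (by omega) (by omega)
      · skip
        by_cases hh7 : k < 93401
        · skip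
          exact edgeRange_sound data 12 15536 77865 e12_c5 k (by omega) (by omega)
        · skip
          exact edgeRange_sound data 12 14883 93401 e12_c6 k (by omega) (by omega)
  · skip
    by_cases hh8 : k < 168740
    · skip
      by_cases hh9 : k < 138843
      · skip
        by_cases hh10 : k < 123177
        · skip
          exact edgeRange_sound data 12 14893 108284 e12_c7 k (by omega) (by omega)
        · skip
          exact edgeRange_sound data 12 15666 123177 e12_c8 k (by omega) (by omega)
      · skip
        by_cases hh11 : k < 155040
        · skip
          exact edgeRange_sound data 12 16197 138843 e12_c9 k (by omega) (by omega)
        · skip
          exact edgeRange_sound data 12 13700 155040 e12_c10 k (by omega) (by omega)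
    · skip
      by_cases hh12 : k < 192350
      · skip
        by_cases hh13 : k < 180659
        · skip
          exact edgeRange_sound data 12 11919 168740 e12_c11 k (by omega) (by omega)
        · skip
          exact edgeRange_sound data 12 11691 180659 e12_c12 k (by omega) (by omega)
      · skip
        by_cases hh14 : k < 218671
        · skip
          exact edgeRange_sound data 12 26321 192350 e12_c13 k (by omega) (by omega)
        · skip
          exact edgeRange_sound data 12 43473 218671 e12_c14 k (by omega) (by omega)

theorem allE13 : ∀ k, k < 262144 → justE data 13 k = true := by
  intro k hk
  by_cases hh1 : k < 110506
  · skip
    by_cases hh2 : k < 54381
    · skip
      by_cases hh3 : k < 18147
      · skip
        exact edgeRange_sound data 13 18147 0 e13_c0 k (by omega) (by omega)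
      · skip
        by_cases hh4 : k < 36156
        · skip
          exact edgeRange_sound data 13 18009 18147 e13_c1 k (by omega) (by omega)
        · skip
          exact edgeRange_sound data 13 18225 36156 e13_c2 k (by omega) (by omega)
    · skip
      by_cases hh5 : k < 72878
      · skip
        exact edgeRange_sound data 13 18497 54381 e13_c3 k (by omega) (by omega)
      · skip
        by_cases hh6 : k < 91615
        · skip
          exact edgeRange_sound data 13 18737 72878 e13_c4 k (by omega) (by omega)
        · skip
          exact edgeRange_sound data 13 18891 91615 e13_c5 k (by omega) (by omega)
  · skip
    by_cases hh7 : k < 168888
    · skip
      by_cases hh8 : k < 129714
      · skip
        exact edgeRange_sound data 13 19208 110506 e13_c6 k (by omega) (by omega)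
      · skip
        by_cases hh9 : k < 149872
        · skip
          exact edgeRange_sound data 13 20158 129714 e13_c7 k (by omega) (by omega)
        · skip
          exact edgeRange_sound data 13 19016 149872 e13_c8 k (by omega) (by omega)
    · skip
      by_cases hh10 : k < 209813
      · skip
        by_cases hh11 : k < 186070
        · skip
          exact edgeRange_sound data 13 17182 168888 e13_c9 k (by omega) (by omega)
        · skip
          exact edgeRange_sound data 13 23743 186070 e13_c10 k (by omega) (by omega)
      · skip
        by_cases hh12 : k < 259813
        · skip
          exact edgeRange_sound data 13 50000 209813 e13_c11 k (by omega) (by omega)
        · skip
          exact edgeRange_sound data 13 2331 259813 e13_c12 k (by omega) (by omega)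

theorem allE : ∀ c k, c < data.nc → k ≤ data.mask → justE data c k = true := by
  intro c k hc hk
  have hc' : c < 14 := hc
  have hk' : k < 262144 := Nat.lt_succ_of_le hk
  interval_cases c
  · exact allE0 k hk'
  · exact allE1 k hk'
  · exact allE2 k hk'
  · exact allE3 k hk'
  · exact allE4 k hk'
  · exact allE5 k hk'
  · exact allE6 k hk'
  · exact allE7 k hk'
  · exact allE8 k hk'
  · exact allE9 k hk'
  · exact allE10 k hk'
  · exact allE11 k hk'
  · exact allE12 k hk'
  · exact allE13 k hk'

theorem allM : ∀ k, k ≤ data.mask → justM data k = true := by
  intro k hk
  have hk' : k < 262144 := Nat.lt_succ_of_le hk
  by_cases hh1 : k < 118590
  · skip
    by_cases hh2 : k < 52547
    · skip
      by_cases hh3 : k < 26169
      · skip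
        exact mergeRange_sound data 26169 0 m_c0 k (by omega) (by omega)
      · skip
        exact mergeRange_sound data 26378 26169 m_c1 k (by omega) (by omega)
    · skip
      by_cases hh4 : k < 74930
      · skip
        exact mergeRange_sound data 22383 52547 m_c2 k (by omega) (by omega)
      · skip
        by_cases hh5 : k < 97427
        · skip
          exact mergeRange_sound data 22497 74930 m_c3 k (by omega) (by omega)
        · skip
          exact mergeRange_sound data 21163 97427 m_c4 k (by omega) (by omega)
  · skip
    by_cases hh6 : k < 153303
    · skip
      by_cases hh7 : k < 136951
      · skip
        exact mergeRange_sound data 18361 118590 m_c5 k (by omega) (by omega)
      · skip
        exact mergeRange_sound data 16352 136951 m_c6 k (by omega) (by omega)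
    · skip
      by_cases hh8 : k < 182270
      · skip
        exact mergeRange_sound data 28967 153303 m_c7 k (by omega) (by omega)
      · skip
        by_cases hh9 : k < 231690
        · skip
          exact mergeRange_sound data 49420 182270 m_c8 k (by omega) (by omega)
        · skip
          exact mergeRange_sound data 30454 231690 m_c9 k (by omega) (by omega)

theorem rows_all : ∀ k, k < M → isFinal data k = true → rowOK data M k data.nc = true := by
  intro k hk
  have hk' : k < 199751 := hk
  by_cases hh1 : k < 104830
  · skip
    by_cases hh2 : k < 48205
    · skip
      by_cases hh3 : k < 23079
      · skip
        by_cases hh4 : k < 10390
        · skip
          by_cases hh5 : k < 4980
          · skip
            by_cases hh6 : k < 1528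
            · skip
              exact rowsRange_sound data M 1528 0 rows0 k (by omega) (by omega)
            · skip
              by_cases hh7 : k < 3160
              · skip
                exact rowsRange_sound data M 1632 1528 rows1 k (by omega) (by omega)
              · skip
                exact rowsRange_sound data M 1820 3160 rows2 k (by omega) (by omega)
          · skip
            by_cases hh8 : k < 6584
            · skip
              exact rowsRange_sound data M 1604 4980 rows3 k (by omega) (by omega)
            · skip
              by_cases hh9 : k < 8200
              · skip
                exact rowsRange_sound data M 1616 6584 rows4 k (by omega) (by omega)
              · skip
                exact rowsRange_sound data M 2190 8200 rows5 k (by omega) (by omega)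
        · skip
          by_cases hh10 : k < 14798
          · skip
            by_cases hh11 : k < 11905
            · skip
              exact rowsRange_sound data M 1515 10390 rows6 k (by omega) (by omega)
            · skip
              by_cases hh12 : k < 13457
              · skip
                exact rowsRange_sound data M 1552 11905 rows7 k (by omega) (by omega)
              · skip
                exact rowsRange_sound data M 1341 13457 rows8 k (by omega) (by omega)
          · skip
            by_cases hh13 : k < 18516
            · skip
              by_cases hh14 : k < 16561
              · skip
                exact rowsRange_sound data M 1763 14798 rows9 k (by omega) (by omega)
              · skip
                exact rowsRange_sound data M 1955 16561 rows10 k (by omega) (by omega)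
            · skip
              by_cases hh15 : k < 20813
              · skip
                exact rowsRange_sound data M 2297 18516 rows11 k (by omega) (by omega)
              · skip
                exact rowsRange_sound data M 2266 20813 rows12 k (by omega) (by omega)
      · skip
        by_cases hh16 : k < 33779
        · skip
          by_cases hh17 : k < 27539
          · skip
            by_cases hh18 : k < 24362
            · skip
              exact rowsRange_sound data M 1283 23079 rows13 k (by omega) (by omega)
            · skip
              by_cases hh19 : k < 25723
              · skip
                exact rowsRange_sound data M 1361 24362 rows14 k (by omega) (by omega)
              · skip
                exact rowsRange_sound data M 1816 25723 rows15 k (by omega) (by omega)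
          · skip
            by_cases hh20 : k < 30384
            · skip
              by_cases hh21 : k < 28957
              · skip
                exact rowsRange_sound data M 1418 27539 rows16 k (by omega) (by omega)
              · skip
                exact rowsRange_sound data M 1427 28957 rows17 k (by omega) (by omega)
            · skip
              by_cases hh22 : k < 32028
              · skip
                exact rowsRange_sound data M 1644 30384 rows18 k (by omega) (by omega)
              · skip
                exact rowsRange_sound data M 1751 32028 rows19 k (by omega) (by omega)
        · skip
          by_cases hh23 : k < 40823
          · skip
            by_cases hh24 : k < 35838
            · skip
              exact rowsRange_sound data M 2059 33779 rows20 k (by omega) (by omega)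
            · skip
              by_cases hh25 : k < 38643
              · skip
                exact rowsRange_sound data M 2805 35838 rows21 k (by omega) (by omega)
              · skip
                exact rowsRange_sound data M 2180 38643 rows22 k (by omega) (by omega)
          · skip
            by_cases hh26 : k < 45120
            · skip
              by_cases hh27 : k < 43050
              · skip
                exact rowsRange_sound data M 2227 40823 rows23 k (by omega) (by omega)
              · skip
                exact rowsRange_sound data M 2070 43050 rows24 k (by omega) (by omega)
            · skip
              by_cases hh28 : k < 46862
              · skip
                exact rowsRange_sound data M 1742 45120 rows25 k (by omega) (by omega)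
              · skip
                exact rowsRange_sound data M 1343 46862 rows26 k (by omega) (by omega)
    · skip
      by_cases hh29 : k < 74594
      · skip
        by_cases hh30 : k < 59374
        · skip
          by_cases hh31 : k < 53064
          · skip
            by_cases hh32 : k < 49893
            · skip
              exact rowsRange_sound data M 1688 48205 rows27 k (by omega) (by omega)
            · skip
              by_cases hh33 : k < 51266
              · skip
                exact rowsRange_sound data M 1373 49893 rows28 k (by omega) (by omega)
              · skip
                exact rowsRange_sound data M 1798 51266 rows29 k (by omega) (by omega)
          · skip
            by_cases hh34 : k < 56111
            · skip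
              exact rowsRange_sound data M 3047 53064 rows30 k (by omega) (by omega)
            · skip
              by_cases hh35 : k < 57776
              · skip
                exact rowsRange_sound data M 1665 56111 rows31 k (by omega) (by omega)
              · skip
                exact rowsRange_sound data M 1598 57776 rows32 k (by omega) (by omega)
        · skip
          by_cases hh36 : k < 64720
          · skip
            by_cases hh37 : k < 61026
            · skip
              exact rowsRange_sound data M 1652 59374 rows33 k (by omega) (by omega)
            · skip
              by_cases hh38 : k < 62730
              · skip
                exact rowsRange_sound data M 1704 61026 rows34 k (by omega) (by omega)
              · skip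
                exact rowsRange_sound data M 1990 62730 rows35 k (by omega) (by omega)
          · skip
            by_cases hh39 : k < 69217
            · skip
              by_cases hh40 : k < 66608
              · skip
                exact rowsRange_sound data M 1888 64720 rows36 k (by omega) (by omega)
              · skip
                exact rowsRange_sound data M 2609 66608 rows37 k (by omega) (by omega)
            · skip
              by_cases hh41 : k < 71715
              · skip
                exact rowsRange_sound data M 2498 69217 rows38 k (by omega) (by omega)
              · skip
                exact rowsRange_sound data M 2879 71715 rows39 k (by omega) (by omega)
      · skip
        by_cases hh42 : k < 91984
        · skip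
          by_cases hh43 : k < 83412
          · skip
            by_cases hh44 : k < 78315
            · skip
              exact rowsRange_sound data M 3721 74594 rows40 k (by omega) (by omega)
            · skip
              by_cases hh45 : k < 80721
              · skip
                exact rowsRange_sound data M 2406 78315 rows41 k (by omega) (by omega)
              · skip
                exact rowsRange_sound data M 2691 80721 rows42 k (by omega) (by omega)
          · skip
            by_cases hh46 : k < 87577
            · skip
              by_cases hh47 : k < 85414
              · skip
                exact rowsRange_sound data M 2002 83412 rows43 k (by omega) (by omega)
              · skip
                exact rowsRange_sound data M 2163 85414 rows44 k (by omega) (by omega)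
            · skip
              by_cases hh48 : k < 89738
              · skip
                exact rowsRange_sound data M 2161 87577 rows45 k (by omega) (by omega)
              · skip
                exact rowsRange_sound data M 2246 89738 rows46 k (by omega) (by omega)
        · skip
          by_cases hh49 : k < 97732
          · skip
            by_cases hh50 : k < 94185
            · skip
              exact rowsRange_sound data M 2201 91984 rows47 k (by omega) (by omega)
            · skip
              by_cases hh51 : k < 96068
              · skip
                exact rowsRange_sound data M 1883 94185 rows48 k (by omega) (by omega)
              · skip
                exact rowsRange_sound data M 1664 96068 rows49 k (by omega) (by omega)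
          · skip
            by_cases hh52 : k < 101366
            · skip
              by_cases hh53 : k < 99441
              · skip
                exact rowsRange_sound data M 1709 97732 rows50 k (by omega) (by omega)
              · skip
                exact rowsRange_sound data M 1925 99441 rows51 k (by omega) (by omega)
            · skip
              by_cases hh54 : k < 103082
              · skip
                exact rowsRange_sound data M 1716 101366 rows52 k (by omega) (by omega)
              · skip
                exact rowsRange_sound data M 1748 103082 rows53 k (by omega) (by omega)
  · skip
    by_cases hh55 : k < 169081
    · skip
      by_cases hh56 : k < 136421
      · skip
        by_cases hh57 : k < 119720
        · skip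
          by_cases hh58 : k < 113105
          · skip
            by_cases hh59 : k < 106949
            · skip
              exact rowsRange_sound data M 2119 104830 rows54 k (by omega) (by omega)
            · skip
              by_cases hh60 : k < 110161
              · skip
                exact rowsRange_sound data M 3212 106949 rows55 k (by omega) (by omega)
              · skip
                exact rowsRange_sound data M 2944 110161 rows56 k (by omega) (by omega)
          · skip
            by_cases hh61 : k < 115009
            · skip
              exact rowsRange_sound data M 1904 113105 rows57 k (by omega) (by omega)
            · skip
              by_cases hh62 : k < 117146
              · skip
                exact rowsRange_sound data M 2137 115009 rows58 k (by omega) (by omega)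
              · skip
                exact rowsRange_sound data M 2574 117146 rows59 k (by omega) (by omega)
        · skip
          by_cases hh63 : k < 125530
          · skip
            by_cases hh64 : k < 121798
            · skip
              exact rowsRange_sound data M 2078 119720 rows60 k (by omega) (by omega)
            · skip
              by_cases hh65 : k < 123619
              · skip
                exact rowsRange_sound data M 1821 121798 rows61 k (by omega) (by omega)
              · skip
                exact rowsRange_sound data M 1911 123619 rows62 k (by omega) (by omega)
          · skip
            by_cases hh66 : k < 130405
            · skip
              by_cases hh67 : k < 127859
              · skip
                exact rowsRange_sound data M 2329 125530 rows63 k (by omega) (by omega)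
              · skip
                exact rowsRange_sound data M 2546 127859 rows64 k (by omega) (by omega)
            · skip
              by_cases hh68 : k < 133125
              · skip
                exact rowsRange_sound data M 2720 130405 rows65 k (by omega) (by omega)
              · skip
                exact rowsRange_sound data M 3296 133125 rows66 k (by omega) (by omega)
      · skip
        by_cases hh69 : k < 160198
        · skip
          by_cases hh70 : k < 145691
          · skip
            by_cases hh71 : k < 139069
            · skip
              exact rowsRange_sound data M 2648 136421 rows67 k (by omega) (by omega)
            · skip
              by_cases hh72 : k < 142017
              · skip
                exact rowsRange_sound data M 2948 139069 rows68 k (by omega) (by omega)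
              · skip
                exact rowsRange_sound data M 3674 142017 rows69 k (by omega) (by omega)
          · skip
            by_cases hh73 : k < 153914
            · skip
              by_cases hh74 : k < 150422
              · skip
                exact rowsRange_sound data M 4731 145691 rows70 k (by omega) (by omega)
              · skip
                exact rowsRange_sound data M 3492 150422 rows71 k (by omega) (by omega)
            · skip
              by_cases hh75 : k < 157386
              · skip
                exact rowsRange_sound data M 3472 153914 rows72 k (by omega) (by omega)
              · skip
                exact rowsRange_sound data M 2812 157386 rows73 k (by omega) (by omega)
        · skip
          by_cases hh76 : k < 164242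
          · skip
            by_cases hh77 : k < 161737
            · skip
              exact rowsRange_sound data M 1539 160198 rows74 k (by omega) (by omega)
            · skip
              by_cases hh78 : k < 162993
              · skip
                exact rowsRange_sound data M 1256 161737 rows75 k (by omega) (by omega)
              · skip
                exact rowsRange_sound data M 1249 162993 rows76 k (by omega) (by omega)
          · skip
            by_cases hh79 : k < 166657
            · skip
              by_cases hh80 : k < 165445
              · skip
                exact rowsRange_sound data M 1203 164242 rows77 k (by omega) (by omega)
              · skip
                exact rowsRange_sound data M 1212 165445 rows78 k (by omega) (by omega)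
            · skip
              by_cases hh81 : k < 167881
              · skip
                exact rowsRange_sound data M 1224 166657 rows79 k (by omega) (by omega)
              · skip
                exact rowsRange_sound data M 1200 167881 rows80 k (by omega) (by omega)
    · skip
      by_cases hh82 : k < 184501
      · skip
        by_cases hh83 : k < 176259
        · skip
          by_cases hh84 : k < 172694
          · skip
            by_cases hh85 : k < 170278
            · skip
              exact rowsRange_sound data M 1197 169081 rows81 k (by omega) (by omega)
            · skip
              by_cases hh86 : k < 171474
              · skip
                exact rowsRange_sound data M 1196 170278 rows82 k (by omega) (by omega)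
              · skip
                exact rowsRange_sound data M 1220 171474 rows83 k (by omega) (by omega)
          · skip
            by_cases hh87 : k < 173873
            · skip
              exact rowsRange_sound data M 1179 172694 rows84 k (by omega) (by omega)
            · skip
              by_cases hh88 : k < 175066
              · skip
                exact rowsRange_sound data M 1193 173873 rows85 k (by omega) (by omega)
              · skip
                exact rowsRange_sound data M 1193 175066 rows86 k (by omega) (by omega)
        · skip
          by_cases hh89 : k < 179811
          · skip
            by_cases hh90 : k < 177433
            · skip
              exact rowsRange_sound data M 1174 176259 rows87 k (by omega) (by omega)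
            · skip
              by_cases hh91 : k < 178630
              · skip
                exact rowsRange_sound data M 1197 177433 rows88 k (by omega) (by omega)
              · skip
                exact rowsRange_sound data M 1181 178630 rows89 k (by omega) (by omega)
          · skip
            by_cases hh92 : k < 182151
            · skip
              by_cases hh93 : k < 180983
              · skip
                exact rowsRange_sound data M 1172 179811 rows90 k (by omega) (by omega)
              · skip
                exact rowsRange_sound data M 1168 180983 rows91 k (by omega) (by omega)
            · skip
              by_cases hh94 : k < 183321
              · skip
                exact rowsRange_sound data M 1170 182151 rows92 k (by omega) (by omega)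
              · skip
                exact rowsRange_sound data M 1180 183321 rows93 k (by omega) (by omega)
      · skip
        by_cases hh95 : k < 192689
        · skip
          by_cases hh96 : k < 188018
          · skip
            by_cases hh97 : k < 185675
            · skip
              exact rowsRange_sound data M 1174 184501 rows94 k (by omega) (by omega)
            · skip
              by_cases hh98 : k < 186842
              · skip
                exact rowsRange_sound data M 1167 185675 rows95 k (by omega) (by omega)
              · skip
                exact rowsRange_sound data M 1176 186842 rows96 k (by omega) (by omega)
          · skip
            by_cases hh99 : k < 190357
            · skip
              by_cases hh100 : k < 189185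
              · skip
                exact rowsRange_sound data M 1167 188018 rows97 k (by omega) (by omega)
              · skip
                exact rowsRange_sound data M 1172 189185 rows98 k (by omega) (by omega)
            · skip
              by_cases hh101 : k < 191524
              · skip
                exact rowsRange_sound data M 1167 190357 rows99 k (by omega) (by omega)
              · skip
                exact rowsRange_sound data M 1165 191524 rows100 k (by omega) (by omega)
        · skip
          by_cases hh102 : k < 196178
          · skip
            by_cases hh103 : k < 193852
            · skip
              exact rowsRange_sound data M 1163 192689 rows101 k (by omega) (by omega)
            · skip
              by_cases hh104 : k < 195015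
              · skip
                exact rowsRange_sound data M 1163 193852 rows102 k (by omega) (by omega)
              · skip
                exact rowsRange_sound data M 1163 195015 rows103 k (by omega) (by omega)
          · skip
            by_cases hh105 : k < 198504
            · skip
              by_cases hh106 : k < 197341
              · skip
                exact rowsRange_sound data M 1163 196178 rows104 k (by omega) (by omega)
              · skip
                exact rowsRange_sound data M 1163 197341 rows105 k (by omega) (by omega)
            · skip
              by_cases hh107 : k < 199667
              · skip
                exact rowsRange_sound data M 1163 198504 rows106 k (by omega) (by omega)
              · skip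
                exact rowsRange_sound data M 84 199667 rows107 k (by omega) (by omega)

theorem cnt_ok : countFinal data M 0 0 = n := by
  have c0 : countFinal data 50000 0 0 = 32263 := cnt0
  have c1 : countFinal data (50000 + 50000) 0 0 = 32263 + 26405 :=
    countFinal_split data (50000) 50000 0 50000 (32263) 26405 (by norm_num) c0 cnt1
  have c2 : countFinal data (50000 + 50000 + 50000) 0 0 = 32263 + 26405 + 22212 :=
    countFinal_split data (50000 + 50000) 50000 0 100000 (32263 + 26405) 22212 (by norm_num) c1 cnt2
  have c3 : countFinal data (50000 + 50000 + 50000 + 49751) 0 0 = 32263 + 26405 + 22212 + 41880 :=
    countFinal_split data (50000 + 50000 + 50000) 49751 0 150000 (32263 + 26405 + 22212) 41880 (by norm_num) c2 cnt3
  have e1 : 50000 + 50000 + 50000 + 49751 = M := by norm_num [M]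
  have e2 : 32263 + 26405 + 22212 + 41880 = n := by norm_num [n]
  rw [← e1, ← e2]
  exact c3

abbrev Rset : Set (FreeGroup Cfsg.Spor.ON.Gen) := Cfsg.Spor.coxRelators Cfsg.Spor.ON.edges ∪ {r | r ∈ Cfsg.Spor.ON.extra}
abbrev Sset : Set (FreeGroup Cfsg.Spor.ON.Gen) := {Cfsg.Spor.ON.a, Cfsg.Spor.ON.b, Cfsg.Spor.ON.c, Cfsg.Spor.ON.d, Cfsg.Spor.ON.e, Cfsg.Spor.ON.f}
def SL : List (FreeGroup Cfsg.Spor.ON.Gen) := [Cfsg.Spor.ON.a, Cfsg.Spor.ON.b, Cfsg.Spor.ON.c, Cfsg.Spor.ON.d, Cfsg.Spor.ON.e, Cfsg.Spor.ON.f]

theorem mem_S (s : FreeGroup Cfsg.Spor.ON.Gen) : s ∈ Sset ↔ s ∈ SL := by
  simp only [Sset, SL, Set.mem_insert_iff, Set.mem_singleton_iff, List.mem_cons, List.not_mem_nil, or_false]

theorem hR1 : ∀ r ∈ Rset, ∃ b ∈ bases, r = wordF dec b := by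
  intro r hr
  rw [mem_rels_iff] at hr
  revert r
  decide +kernel

theorem hR2 : ∀ b ∈ bases, wordF dec b ∈ Rset := by
  intro b hb
  rw [mem_rels_iff]
  revert b
  decide +kernel

theorem hS1 : ∀ s ∈ Sset, ∃ b ∈ subsL, s = wordF dec b := by
  intro s hs
  rw [mem_S] at hs
  revert s
  decide +kernel

theorem hS2 : ∀ b ∈ subsL, wordF dec b ∈ Sset := by
  intro b hb
  rw [mem_S]
  revert b
  decide +kernel

theorem bound : Finite (PresentedGroup Rset ⧸ (Subgroup.closure Sset).map (PresentedGroup.mk Rset)) ∧
    Nat.card (PresentedGroup Rset ⧸ (Subgroup.closure Sset).map (PresentedGroup.mk Rset)) ≤ n :=
  tc_bound data bases subsL rots coding hR2 hS2 words_ok allE allM M n fin0_ok (by decide) (by decide) cnt_ok rows_all

theorem model_ok : ModelOK mdata bases subsL := by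
  refine ⟨by decide, ?_, ?_, wordsLettersOK_sound _ _ relc_ok, wordsLettersOK_sound _ _ subc_ok,
    sub0OK_sound _ _ sub0_ok, ?_⟩
  · intro k hk
    have hk' : k < 122760 := hk
    by_cases hh1 : k < 60928
    · skip
      by_cases hh2 : k < 30464
      · skip
        by_cases hh3 : k < 15232
        · skip
          by_cases hh4 : k < 7616
          · skip
            by_cases hh5 : k < 3808
            · skip
              by_cases hh6 : k < 1904
              · skip
                exact invRange_sound mdata 1904 0 inv0 k (by omega) (by omega)
              · skip
                exact invRange_sound mdata 1904 1904 inv1 k (by omega) (by omega)
            · skip
              by_cases hh7 : k < 5712
              · skip
                exact invRange_sound mdata 1904 3808 inv2 k (by omega) (by omega)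
              · skip
                exact invRange_sound mdata 1904 5712 inv3 k (by omega) (by omega)
          · skip
            by_cases hh8 : k < 11424
            · skip
              by_cases hh9 : k < 9520
              · skip
                exact invRange_sound mdata 1904 7616 inv4 k (by omega) (by omega)
              · skip
                exact invRange_sound mdata 1904 9520 inv5 k (by omega) (by omega)
            · skip
              by_cases hh10 : k < 13328
              · skip
                exact invRange_sound mdata 1904 11424 inv6 k (by omega) (by omega)
              · skip
                exact invRange_sound mdata 1904 13328 inv7 k (by omega) (by omega)
        · skip
          by_cases hh11 : k < 22848
          · skip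
            by_cases hh12 : k < 19040
            · skip
              by_cases hh13 : k < 17136
              · skip
                exact invRange_sound mdata 1904 15232 inv8 k (by omega) (by omega)
              · skip
                exact invRange_sound mdata 1904 17136 inv9 k (by omega) (by omega)
            · skip
              by_cases hh14 : k < 20944
              · skip
                exact invRange_sound mdata 1904 19040 inv10 k (by omega) (by omega)
              · skip
                exact invRange_sound mdata 1904 20944 inv11 k (by omega) (by omega)
          · skip
            by_cases hh15 : k < 26656
            · skip
              by_cases hh16 : k < 24752
              · skip
                exact invRange_sound mdata 1904 22848 inv12 k (by omega) (by omega)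
              · skip
                exact invRange_sound mdata 1904 24752 inv13 k (by omega) (by omega)
            · skip
              by_cases hh17 : k < 28560
              · skip
                exact invRange_sound mdata 1904 26656 inv14 k (by omega) (by omega)
              · skip
                exact invRange_sound mdata 1904 28560 inv15 k (by omega) (by omega)
      · skip
        by_cases hh18 : k < 45696
        · skip
          by_cases hh19 : k < 38080
          · skip
            by_cases hh20 : k < 34272
            · skip
              by_cases hh21 : k < 32368
              · skip
                exact invRange_sound mdata 1904 30464 inv16 k (by omega) (by omega)
              · skip
                exact invRange_sound mdata 1904 32368 inv17 k (by omega) (by omega)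
            · skip
              by_cases hh22 : k < 36176
              · skip
                exact invRange_sound mdata 1904 34272 inv18 k (by omega) (by omega)
              · skip
                exact invRange_sound mdata 1904 36176 inv19 k (by omega) (by omega)
          · skip
            by_cases hh23 : k < 41888
            · skip
              by_cases hh24 : k < 39984
              · skip
                exact invRange_sound mdata 1904 38080 inv20 k (by omega) (by omega)
              · skip
                exact invRange_sound mdata 1904 39984 inv21 k (by omega) (by omega)
            · skip
              by_cases hh25 : k < 43792
              · skip
                exact invRange_sound mdata 1904 41888 inv22 k (by omega) (by omega)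
              · skip
                exact invRange_sound mdata 1904 43792 inv23 k (by omega) (by omega)
        · skip
          by_cases hh26 : k < 53312
          · skip
            by_cases hh27 : k < 49504
            · skip
              by_cases hh28 : k < 47600
              · skip
                exact invRange_sound mdata 1904 45696 inv24 k (by omega) (by omega)
              · skip
                exact invRange_sound mdata 1904 47600 inv25 k (by omega) (by omega)
            · skip
              by_cases hh29 : k < 51408
              · skip
                exact invRange_sound mdata 1904 49504 inv26 k (by omega) (by omega)
              · skip
                exact invRange_sound mdata 1904 51408 inv27 k (by omega) (by omega)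
          · skip
            by_cases hh30 : k < 57120
            · skip
              by_cases hh31 : k < 55216
              · skip
                exact invRange_sound mdata 1904 53312 inv28 k (by omega) (by omega)
              · skip
                exact invRange_sound mdata 1904 55216 inv29 k (by omega) (by omega)
            · skip
              by_cases hh32 : k < 59024
              · skip
                exact invRange_sound mdata 1904 57120 inv30 k (by omega) (by omega)
              · skip
                exact invRange_sound mdata 1904 59024 inv31 k (by omega) (by omega)
    · skip
      by_cases hh33 : k < 91392
      · skip
        by_cases hh34 : k < 76160
        · skip
          by_cases hh35 : k < 68544
          · skip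
            by_cases hh36 : k < 64736
            · skip
              by_cases hh37 : k < 62832
              · skip
                exact invRange_sound mdata 1904 60928 inv32 k (by omega) (by omega)
              · skip
                exact invRange_sound mdata 1904 62832 inv33 k (by omega) (by omega)
            · skip
              by_cases hh38 : k < 66640
              · skip
                exact invRange_sound mdata 1904 64736 inv34 k (by omega) (by omega)
              · skip
                exact invRange_sound mdata 1904 66640 inv35 k (by omega) (by omega)
          · skip
            by_cases hh39 : k < 72352
            · skip
              by_cases hh40 : k < 70448
              · skip
                exact invRange_sound mdata 1904 68544 inv36 k (by omega) (by omega)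
              · skip
                exact invRange_sound mdata 1904 70448 inv37 k (by omega) (by omega)
            · skip
              by_cases hh41 : k < 74256
              · skip
                exact invRange_sound mdata 1904 72352 inv38 k (by omega) (by omega)
              · skip
                exact invRange_sound mdata 1904 74256 inv39 k (by omega) (by omega)
        · skip
          by_cases hh42 : k < 83776
          · skip
            by_cases hh43 : k < 79968
            · skip
              by_cases hh44 : k < 78064
              · skip
                exact invRange_sound mdata 1904 76160 inv40 k (by omega) (by omega)
              · skip
                exact invRange_sound mdata 1904 78064 inv41 k (by omega) (by omega)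
            · skip
              by_cases hh45 : k < 81872
              · skip
                exact invRange_sound mdata 1904 79968 inv42 k (by omega) (by omega)
              · skip
                exact invRange_sound mdata 1904 81872 inv43 k (by omega) (by omega)
          · skip
            by_cases hh46 : k < 87584
            · skip
              by_cases hh47 : k < 85680
              · skip
                exact invRange_sound mdata 1904 83776 inv44 k (by omega) (by omega)
              · skip
                exact invRange_sound mdata 1904 85680 inv45 k (by omega) (by omega)
            · skip
              by_cases hh48 : k < 89488
              · skip
                exact invRange_sound mdata 1904 87584 inv46 k (by omega) (by omega)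
              · skip
                exact invRange_sound mdata 1904 89488 inv47 k (by omega) (by omega)
      · skip
        by_cases hh49 : k < 106624
        · skip
          by_cases hh50 : k < 99008
          · skip
            by_cases hh51 : k < 95200
            · skip
              by_cases hh52 : k < 93296
              · skip
                exact invRange_sound mdata 1904 91392 inv48 k (by omega) (by omega)
              · skip
                exact invRange_sound mdata 1904 93296 inv49 k (by omega) (by omega)
            · skip
              by_cases hh53 : k < 97104
              · skip
                exact invRange_sound mdata 1904 95200 inv50 k (by omega) (by omega)
              · skip
                exact invRange_sound mdata 1904 97104 inv51 k (by omega) (by omega)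
          · skip
            by_cases hh54 : k < 102816
            · skip
              by_cases hh55 : k < 100912
              · skip
                exact invRange_sound mdata 1904 99008 inv52 k (by omega) (by omega)
              · skip
                exact invRange_sound mdata 1904 100912 inv53 k (by omega) (by omega)
            · skip
              by_cases hh56 : k < 104720
              · skip
                exact invRange_sound mdata 1904 102816 inv54 k (by omega) (by omega)
              · skip
                exact invRange_sound mdata 1904 104720 inv55 k (by omega) (by omega)
        · skip
          by_cases hh57 : k < 114240
          · skip
            by_cases hh58 : k < 110432
            · skip
              by_cases hh59 : k < 108528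
              · skip
                exact invRange_sound mdata 1904 106624 inv56 k (by omega) (by omega)
              · skip
                exact invRange_sound mdata 1904 108528 inv57 k (by omega) (by omega)
            · skip
              by_cases hh60 : k < 112336
              · skip
                exact invRange_sound mdata 1904 110432 inv58 k (by omega) (by omega)
              · skip
                exact invRange_sound mdata 1904 112336 inv59 k (by omega) (by omega)
          · skip
            by_cases hh61 : k < 118048
            · skip
              by_cases hh62 : k < 116144
              · skip
                exact invRange_sound mdata 1904 114240 inv60 k (by omega) (by omega)
              · skip
                exact invRange_sound mdata 1904 116144 inv61 k (by omega) (by omega)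
            · skip
              by_cases hh63 : k < 119952
              · skip
                exact invRange_sound mdata 1904 118048 inv62 k (by omega) (by omega)
              · skip
                by_cases hh64 : k < 121856
                · skip
                  exact invRange_sound mdata 1904 119952 inv63 k (by omega) (by omega)
                · skip
                  exact invRange_sound mdata 904 121856 inv64 k (by omega) (by omega)
  · intro k hk
    have hk' : k < 122760 := hk
    by_cases hh1 : k < 61502
    · skip
      by_cases hh2 : k < 30590
      · skip
        by_cases hh3 : k < 15134
        · skip
          by_cases hh4 : k < 7406
          · skip
            by_cases hh5 : k < 3542
            · skip
              by_cases hh6 : k < 1610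
              · skip
                by_cases hh7 : k < 644
                · skip
                  by_cases hh8 : k < 322
                  · skip
                    exact relsRange_sound mdata bases 322 0 rel0 k (by omega) (by omega)
                  · skip
                    exact relsRange_sound mdata bases 322 322 rel1 k (by omega) (by omega)
                · skip
                  by_cases hh9 : k < 966
                  · skip
                    exact relsRange_sound mdata bases 322 644 rel2 k (by omega) (by omega)
                  · skip
                    by_cases hh10 : k < 1288
                    · skip
                      exact relsRange_sound mdata bases 322 966 rel3 k (by omega) (by omega)
                    · skip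
                      exact relsRange_sound mdata bases 322 1288 rel4 k (by omega) (by omega)
              · skip
                by_cases hh11 : k < 2576
                · skip
                  by_cases hh12 : k < 1932
                  · skip
                    exact relsRange_sound mdata bases 322 1610 rel5 k (by omega) (by omega)
                  · skip
                    by_cases hh13 : k < 2254
                    · skip
                      exact relsRange_sound mdata bases 322 1932 rel6 k (by omega) (by omega)
                    · skip
                      exact relsRange_sound mdata bases 322 2254 rel7 k (by omega) (by omega)
                · skip
                  by_cases hh14 : k < 2898
                  · skip
                    exact relsRange_sound mdata bases 322 2576 rel8 k (by omega) (by omega)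
                  · skip
                    by_cases hh15 : k < 3220
                    · skip
                      exact relsRange_sound mdata bases 322 2898 rel9 k (by omega) (by omega)
                    · skip
                      exact relsRange_sound mdata bases 322 3220 rel10 k (by omega) (by omega)
            · skip
              by_cases hh16 : k < 5474
              · skip
                by_cases hh17 : k < 4508
                · skip
                  by_cases hh18 : k < 3864
                  · skip
                    exact relsRange_sound mdata bases 322 3542 rel11 k (by omega) (by omega)
                  · skip
                    by_cases hh19 : k < 4186
                    · skip
                      exact relsRange_sound mdata bases 322 3864 rel12 k (by omega) (by omega)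
                    · skip
                      exact relsRange_sound mdata bases 322 4186 rel13 k (by omega) (by omega)
                · skip
                  by_cases hh20 : k < 4830
                  · skip
                    exact relsRange_sound mdata bases 322 4508 rel14 k (by omega) (by omega)
                  · skip
                    by_cases hh21 : k < 5152
                    · skip
                      exact relsRange_sound mdata bases 322 4830 rel15 k (by omega) (by omega)
                    · skip
                      exact relsRange_sound mdata bases 322 5152 rel16 k (by omega) (by omega)
              · skip
                by_cases hh22 : k < 6440
                · skip
                  by_cases hh23 : k < 5796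
                  · skip
                    exact relsRange_sound mdata bases 322 5474 rel17 k (by omega) (by omega)
                  · skip
                    by_cases hh24 : k < 6118
                    · skip
                      exact relsRange_sound mdata bases 322 5796 rel18 k (by omega) (by omega)
                    · skip
                      exact relsRange_sound mdata bases 322 6118 rel19 k (by omega) (by omega)
                · skip
                  by_cases hh25 : k < 6762
                  · skip
                    exact relsRange_sound mdata bases 322 6440 rel20 k (by omega) (by omega)
                  · skip
                    by_cases hh26 : k < 7084
                    · skip
                      exact relsRange_sound mdata bases 322 6762 rel21 k (by omega) (by omega)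
                    · skip
                      exact relsRange_sound mdata bases 322 7084 rel22 k (by omega) (by omega)
          · skip
            by_cases hh27 : k < 11270
            · skip
              by_cases hh28 : k < 9338
              · skip
                by_cases hh29 : k < 8372
                · skip
                  by_cases hh30 : k < 7728
                  · skip
                    exact relsRange_sound mdata bases 322 7406 rel23 k (by omega) (by omega)
                  · skip
                    by_cases hh31 : k < 8050
                    · skip
                      exact relsRange_sound mdata bases 322 7728 rel24 k (by omega) (by omega)
                    · skip
                      exact relsRange_sound mdata bases 322 8050 rel25 k (by omega) (by omega)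
                · skip
                  by_cases hh32 : k < 8694
                  · skip
                    exact relsRange_sound mdata bases 322 8372 rel26 k (by omega) (by omega)
                  · skip
                    by_cases hh33 : k < 9016
                    · skip
                      exact relsRange_sound mdata bases 322 8694 rel27 k (by omega) (by omega)
                    · skip
                      exact relsRange_sound mdata bases 322 9016 rel28 k (by omega) (by omega)
              · skip
                by_cases hh34 : k < 10304
                · skip
                  by_cases hh35 : k < 9660
                  · skip
                    exact relsRange_sound mdata bases 322 9338 rel29 k (by omega) (by omega)
                  · skip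
                    by_cases hh36 : k < 9982
                    · skip
                      exact relsRange_sound mdata bases 322 9660 rel30 k (by omega) (by omega)
                    · skip
                      exact relsRange_sound mdata bases 322 9982 rel31 k (by omega) (by omega)
                · skip
                  by_cases hh37 : k < 10626
                  · skip
                    exact relsRange_sound mdata bases 322 10304 rel32 k (by omega) (by omega)
                  · skip
                    by_cases hh38 : k < 10948
                    · skip
                      exact relsRange_sound mdata bases 322 10626 rel33 k (by omega) (by omega)
                    · skip
                      exact relsRange_sound mdata bases 322 10948 rel34 k (by omega) (by omega)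
            · skip
              by_cases hh39 : k < 13202
              · skip
                by_cases hh40 : k < 12236
                · skip
                  by_cases hh41 : k < 11592
                  · skip
                    exact relsRange_sound mdata bases 322 11270 rel35 k (by omega) (by omega)
                  · skip
                    by_cases hh42 : k < 11914
                    · skip
                      exact relsRange_sound mdata bases 322 11592 rel36 k (by omega) (by omega)
                    · skip
                      exact relsRange_sound mdata bases 322 11914 rel37 k (by omega) (by omega)
                · skip
                  by_cases hh43 : k < 12558
                  · skip
                    exact relsRange_sound mdata bases 322 12236 rel38 k (by omega) (by omega)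
                  · skip
                    by_cases hh44 : k < 12880
                    · skip
                      exact relsRange_sound mdata bases 322 12558 rel39 k (by omega) (by omega)
                    · skip
                      exact relsRange_sound mdata bases 322 12880 rel40 k (by omega) (by omega)
              · skip
                by_cases hh45 : k < 14168
                · skip
                  by_cases hh46 : k < 13524
                  · skip
                    exact relsRange_sound mdata bases 322 13202 rel41 k (by omega) (by omega)
                  · skip
                    by_cases hh47 : k < 13846
                    · skip
                      exact relsRange_sound mdata bases 322 13524 rel42 k (by omega) (by omega)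
                    · skip
                      exact relsRange_sound mdata bases 322 13846 rel43 k (by omega) (by omega)
                · skip
                  by_cases hh48 : k < 14490
                  · skip
                    exact relsRange_sound mdata bases 322 14168 rel44 k (by omega) (by omega)
                  · skip
                    by_cases hh49 : k < 14812
                    · skip
                      exact relsRange_sound mdata bases 322 14490 rel45 k (by omega) (by omega)
                    · skip
                      exact relsRange_sound mdata bases 322 14812 rel46 k (by omega) (by omega)
        · skip
          by_cases hh50 : k < 22862
          · skip
            by_cases hh51 : k < 18998
            · skip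
              by_cases hh52 : k < 17066
              · skip
                by_cases hh53 : k < 16100
                · skip
                  by_cases hh54 : k < 15456
                  · skip
                    exact relsRange_sound mdata bases 322 15134 rel47 k (by omega) (by omega)
                  · skip
                    by_cases hh55 : k < 15778
                    · skip
                      exact relsRange_sound mdata bases 322 15456 rel48 k (by omega) (by omega)
                    · skip
                      exact relsRange_sound mdata bases 322 15778 rel49 k (by omega) (by omega)
                · skip
                  by_cases hh56 : k < 16422
                  · skip
                    exact relsRange_sound mdata bases 322 16100 rel50 k (by omega) (by omega)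
                  · skip
                    by_cases hh57 : k < 16744
                    · skip
                      exact relsRange_sound mdata bases 322 16422 rel51 k (by omega) (by omega)
                    · skip
                      exact relsRange_sound mdata bases 322 16744 rel52 k (by omega) (by omega)
              · skip
                by_cases hh58 : k < 18032
                · skip
                  by_cases hh59 : k < 17388
                  · skip
                    exact relsRange_sound mdata bases 322 17066 rel53 k (by omega) (by omega)
                  · skip
                    by_cases hh60 : k < 17710
                    · skip
                      exact relsRange_sound mdata bases 322 17388 rel54 k (by omega) (by omega)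
                    · skip
                      exact relsRange_sound mdata bases 322 17710 rel55 k (by omega) (by omega)
                · skip
                  by_cases hh61 : k < 18354
                  · skip
                    exact relsRange_sound mdata bases 322 18032 rel56 k (by omega) (by omega)
                  · skip
                    by_cases hh62 : k < 18676
                    · skip
                      exact relsRange_sound mdata bases 322 18354 rel57 k (by omega) (by omega)
                    · skip
                      exact relsRange_sound mdata bases 322 18676 rel58 k (by omega) (by omega)
            · skip
              by_cases hh63 : k < 20930
              · skip
                by_cases hh64 : k < 19964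
                · skip
                  by_cases hh65 : k < 19320
                  · skip
                    exact relsRange_sound mdata bases 322 18998 rel59 k (by omega) (by omega)
                  · skip
                    by_cases hh66 : k < 19642
                    · skip
                      exact relsRange_sound mdata bases 322 19320 rel60 k (by omega) (by omega)
                    · skip
                      exact relsRange_sound mdata bases 322 19642 rel61 k (by omega) (by omega)
                · skip
                  by_cases hh67 : k < 20286
                  · skip
                    exact relsRange_sound mdata bases 322 19964 rel62 k (by omega) (by omega)
                  · skip
                    by_cases hh68 : k < 20608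
                    · skip
                      exact relsRange_sound mdata bases 322 20286 rel63 k (by omega) (by omega)
                    · skip
                      exact relsRange_sound mdata bases 322 20608 rel64 k (by omega) (by omega)
              · skip
                by_cases hh69 : k < 21896
                · skip
                  by_cases hh70 : k < 21252
                  · skip
                    exact relsRange_sound mdata bases 322 20930 rel65 k (by omega) (by omega)
                  · skip
                    by_cases hh71 : k < 21574
                    · skip
                      exact relsRange_sound mdata bases 322 21252 rel66 k (by omega) (by omega)
                    · skip
                      exact relsRange_sound mdata bases 322 21574 rel67 k (by omega) (by omega)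
                · skip
                  by_cases hh72 : k < 22218
                  · skip
                    exact relsRange_sound mdata bases 322 21896 rel68 k (by omega) (by omega)
                  · skip
                    by_cases hh73 : k < 22540
                    · skip
                      exact relsRange_sound mdata bases 322 22218 rel69 k (by omega) (by omega)
                    · skip
                      exact relsRange_sound mdata bases 322 22540 rel70 k (by omega) (by omega)
          · skip
            by_cases hh74 : k < 26726
            · skip
              by_cases hh75 : k < 24794
              · skip
                by_cases hh76 : k < 23828
                · skip
                  by_cases hh77 : k < 23184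
                  · skip
                    exact relsRange_sound mdata bases 322 22862 rel71 k (by omega) (by omega)
                  · skip
                    by_cases hh78 : k < 23506
                    · skip
                      exact relsRange_sound mdata bases 322 23184 rel72 k (by omega) (by omega)
                    · skip
                      exact relsRange_sound mdata bases 322 23506 rel73 k (by omega) (by omega)
                · skip
                  by_cases hh79 : k < 24150
                  · skip
                    exact relsRange_sound mdata bases 322 23828 rel74 k (by omega) (by omega)
                  · skip
                    by_cases hh80 : k < 24472
                    · skip
                      exact relsRange_sound mdata bases 322 24150 rel75 k (by omega) (by omega)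
                    · skip
                      exact relsRange_sound mdata bases 322 24472 rel76 k (by omega) (by omega)
              · skip
                by_cases hh81 : k < 25760
                · skip
                  by_cases hh82 : k < 25116
                  · skip
                    exact relsRange_sound mdata bases 322 24794 rel77 k (by omega) (by omega)
                  · skip
                    by_cases hh83 : k < 25438
                    · skip
                      exact relsRange_sound mdata bases 322 25116 rel78 k (by omega) (by omega)
                    · skip
                      exact relsRange_sound mdata bases 322 25438 rel79 k (by omega) (by omega)
                · skip
                  by_cases hh84 : k < 26082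
                  · skip
                    exact relsRange_sound mdata bases 322 25760 rel80 k (by omega) (by omega)
                  · skip
                    by_cases hh85 : k < 26404
                    · skip
                      exact relsRange_sound mdata bases 322 26082 rel81 k (by omega) (by omega)
                    · skip
                      exact relsRange_sound mdata bases 322 26404 rel82 k (by omega) (by omega)
            · skip
              by_cases hh86 : k < 28658
              · skip
                by_cases hh87 : k < 27692
                · skip
                  by_cases hh88 : k < 27048
                  · skip
                    exact relsRange_sound mdata bases 322 26726 rel83 k (by omega) (by omega)
                  · skip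
                    by_cases hh89 : k < 27370
                    · skip
                      exact relsRange_sound mdata bases 322 27048 rel84 k (by omega) (by omega)
                    · skip
                      exact relsRange_sound mdata bases 322 27370 rel85 k (by omega) (by omega)
                · skip
                  by_cases hh90 : k < 28014
                  · skip
                    exact relsRange_sound mdata bases 322 27692 rel86 k (by omega) (by omega)
                  · skip
                    by_cases hh91 : k < 28336
                    · skip
                      exact relsRange_sound mdata bases 322 28014 rel87 k (by omega) (by omega)
                    · skip
                      exact relsRange_sound mdata bases 322 28336 rel88 k (by omega) (by omega)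
              · skip
                by_cases hh92 : k < 29624
                · skip
                  by_cases hh93 : k < 28980
                  · skip
                    exact relsRange_sound mdata bases 322 28658 rel89 k (by omega) (by omega)
                  · skip
                    by_cases hh94 : k < 29302
                    · skip
                      exact relsRange_sound mdata bases 322 28980 rel90 k (by omega) (by omega)
                    · skip
                      exact relsRange_sound mdata bases 322 29302 rel91 k (by omega) (by omega)
                · skip
                  by_cases hh95 : k < 29946
                  · skip
                    exact relsRange_sound mdata bases 322 29624 rel92 k (by omega) (by omega)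
                  · skip
                    by_cases hh96 : k < 30268
                    · skip
                      exact relsRange_sound mdata bases 322 29946 rel93 k (by omega) (by omega)
                    · skip
                      exact relsRange_sound mdata bases 322 30268 rel94 k (by omega) (by omega)
      · skip
        by_cases hh97 : k < 46046
        · skip
          by_cases hh98 : k < 38318
          · skip
            by_cases hh99 : k < 34454
            · skip
              by_cases hh100 : k < 32522
              · skip
                by_cases hh101 : k < 31556
                · skip
                  by_cases hh102 : k < 30912
                  · skip
                    exact relsRange_sound mdata bases 322 30590 rel95 k (by omega) (by omega)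
                  · skip
                    by_cases hh103 : k < 31234
                    · skip
                      exact relsRange_sound mdata bases 322 30912 rel96 k (by omega) (by omega)
                    · skip
                      exact relsRange_sound mdata bases 322 31234 rel97 k (by omega) (by omega)
                · skip
                  by_cases hh104 : k < 31878
                  · skip
                    exact relsRange_sound mdata bases 322 31556 rel98 k (by omega) (by omega)
                  · skip
                    by_cases hh105 : k < 32200
                    · skip
                      exact relsRange_sound mdata bases 322 31878 rel99 k (by omega) (by omega)
                    · skip
                      exact relsRange_sound mdata bases 322 32200 rel100 k (by omega) (by omega)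
              · skip
                by_cases hh106 : k < 33488
                · skip
                  by_cases hh107 : k < 32844
                  · skip
                    exact relsRange_sound mdata bases 322 32522 rel101 k (by omega) (by omega)
                  · skip
                    by_cases hh108 : k < 33166
                    · skip
                      exact relsRange_sound mdata bases 322 32844 rel102 k (by omega) (by omega)
                    · skip
                      exact relsRange_sound mdata bases 322 33166 rel103 k (by omega) (by omega)
                · skip
                  by_cases hh109 : k < 33810
                  · skip
                    exact relsRange_sound mdata bases 322 33488 rel104 k (by omega) (by omega)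
                  · skip
                    by_cases hh110 : k < 34132
                    · skip
                      exact relsRange_sound mdata bases 322 33810 rel105 k (by omega) (by omega)
                    · skip
                      exact relsRange_sound mdata bases 322 34132 rel106 k (by omega) (by omega)
            · skip
              by_cases hh111 : k < 36386
              · skip
                by_cases hh112 : k < 35420
                · skip
                  by_cases hh113 : k < 34776
                  · skip
                    exact relsRange_sound mdata bases 322 34454 rel107 k (by omega) (by omega)
                  · skip
                    by_cases hh114 : k < 35098
                    · skip
                      exact relsRange_sound mdata bases 322 34776 rel108 k (by omega) (by omega)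
                    · skip
                      exact relsRange_sound mdata bases 322 35098 rel109 k (by omega) (by omega)
                · skip
                  by_cases hh115 : k < 35742
                  · skip
                    exact relsRange_sound mdata bases 322 35420 rel110 k (by omega) (by omega)
                  · skip
                    by_cases hh116 : k < 36064
                    · skip
                      exact relsRange_sound mdata bases 322 35742 rel111 k (by omega) (by omega)
                    · skip
                      exact relsRange_sound mdata bases 322 36064 rel112 k (by omega) (by omega)
              · skip
                by_cases hh117 : k < 37352
                · skip
                  by_cases hh118 : k < 36708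
                  · skip
                    exact relsRange_sound mdata bases 322 36386 rel113 k (by omega) (by omega)
                  · skip
                    by_cases hh119 : k < 37030
                    · skip
                      exact relsRange_sound mdata bases 322 36708 rel114 k (by omega) (by omega)
                    · skip
                      exact relsRange_sound mdata bases 322 37030 rel115 k (by omega) (by omega)
                · skip
                  by_cases hh120 : k < 37674
                  · skip
                    exact relsRange_sound mdata bases 322 37352 rel116 k (by omega) (by omega)
                  · skip
                    by_cases hh121 : k < 37996
                    · skip
                      exact relsRange_sound mdata bases 322 37674 rel117 k (by omega) (by omega)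
                    · skip
                      exact relsRange_sound mdata bases 322 37996 rel118 k (by omega) (by omega)
          · skip
            by_cases hh122 : k < 42182
            · skip
              by_cases hh123 : k < 40250
              · skip
                by_cases hh124 : k < 39284
                · skip
                  by_cases hh125 : k < 38640
                  · skip
                    exact relsRange_sound mdata bases 322 38318 rel119 k (by omega) (by omega)
                  · skip
                    by_cases hh126 : k < 38962
                    · skip
                      exact relsRange_sound mdata bases 322 38640 rel120 k (by omega) (by omega)
                    · skip
                      exact relsRange_sound mdata bases 322 38962 rel121 k (by omega) (by omega)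
                · skip
                  by_cases hh127 : k < 39606
                  · skip
                    exact relsRange_sound mdata bases 322 39284 rel122 k (by omega) (by omega)
                  · skip
                    by_cases hh128 : k < 39928
                    · skip
                      exact relsRange_sound mdata bases 322 39606 rel123 k (by omega) (by omega)
                    · skip
                      exact relsRange_sound mdata bases 322 39928 rel124 k (by omega) (by omega)
              · skip
                by_cases hh129 : k < 41216
                · skip
                  by_cases hh130 : k < 40572
                  · skip
                    exact relsRange_sound mdata bases 322 40250 rel125 k (by omega) (by omega)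
                  · skip
                    by_cases hh131 : k < 40894
                    · skip
                      exact relsRange_sound mdata bases 322 40572 rel126 k (by omega) (by omega)
                    · skip
                      exact relsRange_sound mdata bases 322 40894 rel127 k (by omega) (by omega)
                · skip
                  by_cases hh132 : k < 41538
                  · skip
                    exact relsRange_sound mdata bases 322 41216 rel128 k (by omega) (by omega)
                  · skip
                    by_cases hh133 : k < 41860
                    · skip
                      exact relsRange_sound mdata bases 322 41538 rel129 k (by omega) (by omega)
                    · skip
                      exact relsRange_sound mdata bases 322 41860 rel130 k (by omega) (by omega)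
            · skip
              by_cases hh134 : k < 44114
              · skip
                by_cases hh135 : k < 43148
                · skip
                  by_cases hh136 : k < 42504
                  · skip
                    exact relsRange_sound mdata bases 322 42182 rel131 k (by omega) (by omega)
                  · skip
                    by_cases hh137 : k < 42826
                    · skip
                      exact relsRange_sound mdata bases 322 42504 rel132 k (by omega) (by omega)
                    · skip
                      exact relsRange_sound mdata bases 322 42826 rel133 k (by omega) (by omega)
                · skip
                  by_cases hh138 : k < 43470
                  · skip
                    exact relsRange_sound mdata bases 322 43148 rel134 k (by omega) (by omega)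
                  · skip
                    by_cases hh139 : k < 43792
                    · skip
                      exact relsRange_sound mdata bases 322 43470 rel135 k (by omega) (by omega)
                    · skip
                      exact relsRange_sound mdata bases 322 43792 rel136 k (by omega) (by omega)
              · skip
                by_cases hh140 : k < 45080
                · skip
                  by_cases hh141 : k < 44436
                  · skip
                    exact relsRange_sound mdata bases 322 44114 rel137 k (by omega) (by omega)
                  · skip
                    by_cases hh142 : k < 44758
                    · skip
                      exact relsRange_sound mdata bases 322 44436 rel138 k (by omega) (by omega)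
                    · skip
                      exact relsRange_sound mdata bases 322 44758 rel139 k (by omega) (by omega)
                · skip
                  by_cases hh143 : k < 45402
                  · skip
                    exact relsRange_sound mdata bases 322 45080 rel140 k (by omega) (by omega)
                  · skip
                    by_cases hh144 : k < 45724
                    · skip
                      exact relsRange_sound mdata bases 322 45402 rel141 k (by omega) (by omega)
                    · skip
                      exact relsRange_sound mdata bases 322 45724 rel142 k (by omega) (by omega)
        · skip
          by_cases hh145 : k < 53774
          · skip
            by_cases hh146 : k < 49910
            · skip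
              by_cases hh147 : k < 47978
              · skip
                by_cases hh148 : k < 47012
                · skip
                  by_cases hh149 : k < 46368
                  · skip
                    exact relsRange_sound mdata bases 322 46046 rel143 k (by omega) (by omega)
                  · skip
                    by_cases hh150 : k < 46690
                    · skip
                      exact relsRange_sound mdata bases 322 46368 rel144 k (by omega) (by omega)
                    · skip
                      exact relsRange_sound mdata bases 322 46690 rel145 k (by omega) (by omega)
                · skip
                  by_cases hh151 : k < 47334
                  · skip
                    exact relsRange_sound mdata bases 322 47012 rel146 k (by omega) (by omega)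
                  · skip
                    by_cases hh152 : k < 47656
                    · skip
                      exact relsRange_sound mdata bases 322 47334 rel147 k (by omega) (by omega)
                    · skip
                      exact relsRange_sound mdata bases 322 47656 rel148 k (by omega) (by omega)
              · skip
                by_cases hh153 : k < 48944
                · skip
                  by_cases hh154 : k < 48300
                  · skip
                    exact relsRange_sound mdata bases 322 47978 rel149 k (by omega) (by omega)
                  · skip
                    by_cases hh155 : k < 48622
                    · skip
                      exact relsRange_sound mdata bases 322 48300 rel150 k (by omega) (by omega)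
                    · skip
                      exact relsRange_sound mdata bases 322 48622 rel151 k (by omega) (by omega)
                · skip
                  by_cases hh156 : k < 49266
                  · skip
                    exact relsRange_sound mdata bases 322 48944 rel152 k (by omega) (by omega)
                  · skip
                    by_cases hh157 : k < 49588
                    · skip
                      exact relsRange_sound mdata bases 322 49266 rel153 k (by omega) (by omega)
                    · skip
                      exact relsRange_sound mdata bases 322 49588 rel154 k (by omega) (by omega)
            · skip
              by_cases hh158 : k < 51842
              · skip
                by_cases hh159 : k < 50876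
                · skip
                  by_cases hh160 : k < 50232
                  · skip
                    exact relsRange_sound mdata bases 322 49910 rel155 k (by omega) (by omega)
                  · skip
                    by_cases hh161 : k < 50554
                    · skip
                      exact relsRange_sound mdata bases 322 50232 rel156 k (by omega) (by omega)
                    · skip
                      exact relsRange_sound mdata bases 322 50554 rel157 k (by omega) (by omega)
                · skip
                  by_cases hh162 : k < 51198
                  · skip
                    exact relsRange_sound mdata bases 322 50876 rel158 k (by omega) (by omega)
                  · skip
                    by_cases hh163 : k < 51520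
                    · skip
                      exact relsRange_sound mdata bases 322 51198 rel159 k (by omega) (by omega)
                    · skip
                      exact relsRange_sound mdata bases 322 51520 rel160 k (by omega) (by omega)
              · skip
                by_cases hh164 : k < 52808
                · skip
                  by_cases hh165 : k < 52164
                  · skip
                    exact relsRange_sound mdata bases 322 51842 rel161 k (by omega) (by omega)
                  · skip
                    by_cases hh166 : k < 52486
                    · skip
                      exact relsRange_sound mdata bases 322 52164 rel162 k (by omega) (by omega)
                    · skip
                      exact relsRange_sound mdata bases 322 52486 rel163 k (by omega) (by omega)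
                · skip
                  by_cases hh167 : k < 53130
                  · skip
                    exact relsRange_sound mdata bases 322 52808 rel164 k (by omega) (by omega)
                  · skip
                    by_cases hh168 : k < 53452
                    · skip
                      exact relsRange_sound mdata bases 322 53130 rel165 k (by omega) (by omega)
                    · skip
                      exact relsRange_sound mdata bases 322 53452 rel166 k (by omega) (by omega)
          · skip
            by_cases hh169 : k < 57638
            · skip
              by_cases hh170 : k < 55706
              · skip
                by_cases hh171 : k < 54740
                · skip
                  by_cases hh172 : k < 54096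
                  · skip
                    exact relsRange_sound mdata bases 322 53774 rel167 k (by omega) (by omega)
                  · skip
                    by_cases hh173 : k < 54418
                    · skip
                      exact relsRange_sound mdata bases 322 54096 rel168 k (by omega) (by omega)
                    · skip
                      exact relsRange_sound mdata bases 322 54418 rel169 k (by omega) (by omega)
                · skip
                  by_cases hh174 : k < 55062
                  · skip
                    exact relsRange_sound mdata bases 322 54740 rel170 k (by omega) (by omega)
                  · skip
                    by_cases hh175 : k < 55384
                    · skip
                      exact relsRange_sound mdata bases 322 55062 rel171 k (by omega) (by omega)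
                    · skip
                      exact relsRange_sound mdata bases 322 55384 rel172 k (by omega) (by omega)
              · skip
                by_cases hh176 : k < 56672
                · skip
                  by_cases hh177 : k < 56028
                  · skip
                    exact relsRange_sound mdata bases 322 55706 rel173 k (by omega) (by omega)
                  · skip
                    by_cases hh178 : k < 56350
                    · skip
                      exact relsRange_sound mdata bases 322 56028 rel174 k (by omega) (by omega)
                    · skip
                      exact relsRange_sound mdata bases 322 56350 rel175 k (by omega) (by omega)
                · skip
                  by_cases hh179 : k < 56994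
                  · skip
                    exact relsRange_sound mdata bases 322 56672 rel176 k (by omega) (by omega)
                  · skip
                    by_cases hh180 : k < 57316
                    · skip
                      exact relsRange_sound mdata bases 322 56994 rel177 k (by omega) (by omega)
                    · skip
                      exact relsRange_sound mdata bases 322 57316 rel178 k (by omega) (by omega)
            · skip
              by_cases hh181 : k < 59570
              · skip
                by_cases hh182 : k < 58604
                · skip
                  by_cases hh183 : k < 57960
                  · skip
                    exact relsRange_sound mdata bases 322 57638 rel179 k (by omega) (by omega)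
                  · skip
                    by_cases hh184 : k < 58282
                    · skip
                      exact relsRange_sound mdata bases 322 57960 rel180 k (by omega) (by omega)
                    · skip
                      exact relsRange_sound mdata bases 322 58282 rel181 k (by omega) (by omega)
                · skip
                  by_cases hh185 : k < 58926
                  · skip
                    exact relsRange_sound mdata bases 322 58604 rel182 k (by omega) (by omega)
                  · skip
                    by_cases hh186 : k < 59248
                    · skip
                      exact relsRange_sound mdata bases 322 58926 rel183 k (by omega) (by omega)
                    · skip
                      exact relsRange_sound mdata bases 322 59248 rel184 k (by omega) (by omega)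
              · skip
                by_cases hh187 : k < 60536
                · skip
                  by_cases hh188 : k < 59892
                  · skip
                    exact relsRange_sound mdata bases 322 59570 rel185 k (by omega) (by omega)
                  · skip
                    by_cases hh189 : k < 60214
                    · skip
                      exact relsRange_sound mdata bases 322 59892 rel186 k (by omega) (by omega)
                    · skip
                      exact relsRange_sound mdata bases 322 60214 rel187 k (by omega) (by omega)
                · skip
                  by_cases hh190 : k < 60858
                  · skip
                    exact relsRange_sound mdata bases 322 60536 rel188 k (by omega) (by omega)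
                  · skip
                    by_cases hh191 : k < 61180
                    · skip
                      exact relsRange_sound mdata bases 322 60858 rel189 k (by omega) (by omega)
                    · skip
                      exact relsRange_sound mdata bases 322 61180 rel190 k (by omega) (by omega)
    · skip
      by_cases hh192 : k < 92092
      · skip
        by_cases hh193 : k < 76636
        · skip
          by_cases hh194 : k < 68908
          · skip
            by_cases hh195 : k < 65044
            · skip
              by_cases hh196 : k < 63112
              · skip
                by_cases hh197 : k < 62146
                · skip
                  by_cases hh198 : k < 61824
                  · skip
                    exact relsRange_sound mdata bases 322 61502 rel191 k (by omega) (by omega)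
                  · skip
                    exact relsRange_sound mdata bases 322 61824 rel192 k (by omega) (by omega)
                · skip
                  by_cases hh199 : k < 62468
                  · skip
                    exact relsRange_sound mdata bases 322 62146 rel193 k (by omega) (by omega)
                  · skip
                    by_cases hh200 : k < 62790
                    · skip
                      exact relsRange_sound mdata bases 322 62468 rel194 k (by omega) (by omega)
                    · skip
                      exact relsRange_sound mdata bases 322 62790 rel195 k (by omega) (by omega)
              · skip
                by_cases hh201 : k < 64078
                · skip
                  by_cases hh202 : k < 63434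
                  · skip
                    exact relsRange_sound mdata bases 322 63112 rel196 k (by omega) (by omega)
                  · skip
                    by_cases hh203 : k < 63756
                    · skip
                      exact relsRange_sound mdata bases 322 63434 rel197 k (by omega) (by omega)
                    · skip
                      exact relsRange_sound mdata bases 322 63756 rel198 k (by omega) (by omega)
                · skip
                  by_cases hh204 : k < 64400
                  · skip
                    exact relsRange_sound mdata bases 322 64078 rel199 k (by omega) (by omega)
                  · skip
                    by_cases hh205 : k < 64722
                    · skip
                      exact relsRange_sound mdata bases 322 64400 rel200 k (by omega) (by omega)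
                    · skip
                      exact relsRange_sound mdata bases 322 64722 rel201 k (by omega) (by omega)
            · skip
              by_cases hh206 : k < 66976
              · skip
                by_cases hh207 : k < 66010
                · skip
                  by_cases hh208 : k < 65366
                  · skip
                    exact relsRange_sound mdata bases 322 65044 rel202 k (by omega) (by omega)
                  · skip
                    by_cases hh209 : k < 65688
                    · skip
                      exact relsRange_sound mdata bases 322 65366 rel203 k (by omega) (by omega)
                    · skip
                      exact relsRange_sound mdata bases 322 65688 rel204 k (by omega) (by omega)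
                · skip
                  by_cases hh210 : k < 66332
                  · skip
                    exact relsRange_sound mdata bases 322 66010 rel205 k (by omega) (by omega)
                  · skip
                    by_cases hh211 : k < 66654
                    · skip
                      exact relsRange_sound mdata bases 322 66332 rel206 k (by omega) (by omega)
                    · skip
                      exact relsRange_sound mdata bases 322 66654 rel207 k (by omega) (by omega)
              · skip
                by_cases hh212 : k < 67942
                · skip
                  by_cases hh213 : k < 67298
                  · skip
                    exact relsRange_sound mdata bases 322 66976 rel208 k (by omega) (by omega)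
                  · skip
                    by_cases hh214 : k < 67620
                    · skip
                      exact relsRange_sound mdata bases 322 67298 rel209 k (by omega) (by omega)
                    · skip
                      exact relsRange_sound mdata bases 322 67620 rel210 k (by omega) (by omega)
                · skip
                  by_cases hh215 : k < 68264
                  · skip
                    exact relsRange_sound mdata bases 322 67942 rel211 k (by omega) (by omega)
                  · skip
                    by_cases hh216 : k < 68586
                    · skip
                      exact relsRange_sound mdata bases 322 68264 rel212 k (by omega) (by omega)
                    · skip
                      exact relsRange_sound mdata bases 322 68586 rel213 k (by omega) (by omega)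
          · skip
            by_cases hh217 : k < 72772
            · skip
              by_cases hh218 : k < 70840
              · skip
                by_cases hh219 : k < 69874
                · skip
                  by_cases hh220 : k < 69230
                  · skip
                    exact relsRange_sound mdata bases 322 68908 rel214 k (by omega) (by omega)
                  · skip
                    by_cases hh221 : k < 69552
                    · skip
                      exact relsRange_sound mdata bases 322 69230 rel215 k (by omega) (by omega)
                    · skip
                      exact relsRange_sound mdata bases 322 69552 rel216 k (by omega) (by omega)
                · skip
                  by_cases hh222 : k < 70196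
                  · skip
                    exact relsRange_sound mdata bases 322 69874 rel217 k (by omega) (by omega)
                  · skip
                    by_cases hh223 : k < 70518
                    · skip
                      exact relsRange_sound mdata bases 322 70196 rel218 k (by omega) (by omega)
                    · skip
                      exact relsRange_sound mdata bases 322 70518 rel219 k (by omega) (by omega)
              · skip
                by_cases hh224 : k < 71806
                · skip
                  by_cases hh225 : k < 71162
                  · skip
                    exact relsRange_sound mdata bases 322 70840 rel220 k (by omega) (by omega)
                  · skip
                    by_cases hh226 : k < 71484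
                    · skip
                      exact relsRange_sound mdata bases 322 71162 rel221 k (by omega) (by omega)
                    · skip
                      exact relsRange_sound mdata bases 322 71484 rel222 k (by omega) (by omega)
                · skip
                  by_cases hh227 : k < 72128
                  · skip
                    exact relsRange_sound mdata bases 322 71806 rel223 k (by omega) (by omega)
                  · skip
                    by_cases hh228 : k < 72450
                    · skip
                      exact relsRange_sound mdata bases 322 72128 rel224 k (by omega) (by omega)
                    · skip
                      exact relsRange_sound mdata bases 322 72450 rel225 k (by omega) (by omega)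
            · skip
              by_cases hh229 : k < 74704
              · skip
                by_cases hh230 : k < 73738
                · skip
                  by_cases hh231 : k < 73094
                  · skip
                    exact relsRange_sound mdata bases 322 72772 rel226 k (by omega) (by omega)
                  · skip
                    by_cases hh232 : k < 73416
                    · skip
                      exact relsRange_sound mdata bases 322 73094 rel227 k (by omega) (by omega)
                    · skip
                      exact relsRange_sound mdata bases 322 73416 rel228 k (by omega) (by omega)
                · skip
                  by_cases hh233 : k < 74060
                  · skip
                    exact relsRange_sound mdata bases 322 73738 rel229 k (by omega) (by omega)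
                  · skip
                    by_cases hh234 : k < 74382
                    · skip
                      exact relsRange_sound mdata bases 322 74060 rel230 k (by omega) (by omega)
                    · skip
                      exact relsRange_sound mdata bases 322 74382 rel231 k (by omega) (by omega)
              · skip
                by_cases hh235 : k < 75670
                · skip
                  by_cases hh236 : k < 75026
                  · skip
                    exact relsRange_sound mdata bases 322 74704 rel232 k (by omega) (by omega)
                  · skip
                    by_cases hh237 : k < 75348
                    · skip
                      exact relsRange_sound mdata bases 322 75026 rel233 k (by omega) (by omega)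
                    · skip
                      exact relsRange_sound mdata bases 322 75348 rel234 k (by omega) (by omega)
                · skip
                  by_cases hh238 : k < 75992
                  · skip
                    exact relsRange_sound mdata bases 322 75670 rel235 k (by omega) (by omega)
                  · skip
                    by_cases hh239 : k < 76314
                    · skip
                      exact relsRange_sound mdata bases 322 75992 rel236 k (by omega) (by omega)
                    · skip
                      exact relsRange_sound mdata bases 322 76314 rel237 k (by omega) (by omega)
        · skip
          by_cases hh240 : k < 84364
          · skip
            by_cases hh241 : k < 80500
            · skip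
              by_cases hh242 : k < 78568
              · skip
                by_cases hh243 : k < 77602
                · skip
                  by_cases hh244 : k < 76958
                  · skip
                    exact relsRange_sound mdata bases 322 76636 rel238 k (by omega) (by omega)
                  · skip
                    by_cases hh245 : k < 77280
                    · skip
                      exact relsRange_sound mdata bases 322 76958 rel239 k (by omega) (by omega)
                    · skip
                      exact relsRange_sound mdata bases 322 77280 rel240 k (by omega) (by omega)
                · skip
                  by_cases hh246 : k < 77924
                  · skip
                    exact relsRange_sound mdata bases 322 77602 rel241 k (by omega) (by omega)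
                  · skip
                    by_cases hh247 : k < 78246
                    · skip
                      exact relsRange_sound mdata bases 322 77924 rel242 k (by omega) (by omega)
                    · skip
                      exact relsRange_sound mdata bases 322 78246 rel243 k (by omega) (by omega)
              · skip
                by_cases hh248 : k < 79534
                · skip
                  by_cases hh249 : k < 78890
                  · skip
                    exact relsRange_sound mdata bases 322 78568 rel244 k (by omega) (by omega)
                  · skip
                    by_cases hh250 : k < 79212
                    · skip
                      exact relsRange_sound mdata bases 322 78890 rel245 k (by omega) (by omega)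
                    · skip
                      exact relsRange_sound mdata bases 322 79212 rel246 k (by omega) (by omega)
                · skip
                  by_cases hh251 : k < 79856
                  · skip
                    exact relsRange_sound mdata bases 322 79534 rel247 k (by omega) (by omega)
                  · skip
                    by_cases hh252 : k < 80178
                    · skip
                      exact relsRange_sound mdata bases 322 79856 rel248 k (by omega) (by omega)
                    · skip
                      exact relsRange_sound mdata bases 322 80178 rel249 k (by omega) (by omega)
            · skip
              by_cases hh253 : k < 82432
              · skip
                by_cases hh254 : k < 81466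
                · skip
                  by_cases hh255 : k < 80822
                  · skip
                    exact relsRange_sound mdata bases 322 80500 rel250 k (by omega) (by omega)
                  · skip
                    by_cases hh256 : k < 81144
                    · skip
                      exact relsRange_sound mdata bases 322 80822 rel251 k (by omega) (by omega)
                    · skip
                      exact relsRange_sound mdata bases 322 81144 rel252 k (by omega) (by omega)
                · skip
                  by_cases hh257 : k < 81788
                  · skip
                    exact relsRange_sound mdata bases 322 81466 rel253 k (by omega) (by omega)
                  · skip
                    by_cases hh258 : k < 82110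
                    · skip
                      exact relsRange_sound mdata bases 322 81788 rel254 k (by omega) (by omega)
                    · skip
                      exact relsRange_sound mdata bases 322 82110 rel255 k (by omega) (by omega)
              · skip
                by_cases hh259 : k < 83398
                · skip
                  by_cases hh260 : k < 82754
                  · skip
                    exact relsRange_sound mdata bases 322 82432 rel256 k (by omega) (by omega)
                  · skip
                    by_cases hh261 : k < 83076
                    · skip
                      exact relsRange_sound mdata bases 322 82754 rel257 k (by omega) (by omega)
                    · skip
                      exact relsRange_sound mdata bases 322 83076 rel258 k (by omega) (by omega)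
                · skip
                  by_cases hh262 : k < 83720
                  · skip
                    exact relsRange_sound mdata bases 322 83398 rel259 k (by omega) (by omega)
                  · skip
                    by_cases hh263 : k < 84042
                    · skip
                      exact relsRange_sound mdata bases 322 83720 rel260 k (by omega) (by omega)
                    · skip
                      exact relsRange_sound mdata bases 322 84042 rel261 k (by omega) (by omega)
          · skip
            by_cases hh264 : k < 88228
            · skip
              by_cases hh265 : k < 86296
              · skip
                by_cases hh266 : k < 85330
                · skip
                  by_cases hh267 : k < 84686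
                  · skip
                    exact relsRange_sound mdata bases 322 84364 rel262 k (by omega) (by omega)
                  · skip
                    by_cases hh268 : k < 85008
                    · skip
                      exact relsRange_sound mdata bases 322 84686 rel263 k (by omega) (by omega)
                    · skip
                      exact relsRange_sound mdata bases 322 85008 rel264 k (by omega) (by omega)
                · skip
                  by_cases hh269 : k < 85652
                  · skip
                    exact relsRange_sound mdata bases 322 85330 rel265 k (by omega) (by omega)
                  · skip
                    by_cases hh270 : k < 85974
                    · skip
                      exact relsRange_sound mdata bases 322 85652 rel266 k (by omega) (by omega)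
                    · skip
                      exact relsRange_sound mdata bases 322 85974 rel267 k (by omega) (by omega)
              · skip
                by_cases hh271 : k < 87262
                · skip
                  by_cases hh272 : k < 86618
                  · skip
                    exact relsRange_sound mdata bases 322 86296 rel268 k (by omega) (by omega)
                  · skip
                    by_cases hh273 : k < 86940
                    · skip
                      exact relsRange_sound mdata bases 322 86618 rel269 k (by omega) (by omega)
                    · skip
                      exact relsRange_sound mdata bases 322 86940 rel270 k (by omega) (by omega)
                · skip
                  by_cases hh274 : k < 87584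
                  · skip
                    exact relsRange_sound mdata bases 322 87262 rel271 k (by omega) (by omega)
                  · skip
                    by_cases hh275 : k < 87906
                    · skip
                      exact relsRange_sound mdata bases 322 87584 rel272 k (by omega) (by omega)
                    · skip
                      exact relsRange_sound mdata bases 322 87906 rel273 k (by omega) (by omega)
            · skip
              by_cases hh276 : k < 90160
              · skip
                by_cases hh277 : k < 89194
                · skip
                  by_cases hh278 : k < 88550
                  · skip
                    exact relsRange_sound mdata bases 322 88228 rel274 k (by omega) (by omega)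
                  · skip
                    by_cases hh279 : k < 88872
                    · skip
                      exact relsRange_sound mdata bases 322 88550 rel275 k (by omega) (by omega)
                    · skip
                      exact relsRange_sound mdata bases 322 88872 rel276 k (by omega) (by omega)
                · skip
                  by_cases hh280 : k < 89516
                  · skip
                    exact relsRange_sound mdata bases 322 89194 rel277 k (by omega) (by omega)
                  · skip
                    by_cases hh281 : k < 89838
                    · skip
                      exact relsRange_sound mdata bases 322 89516 rel278 k (by omega) (by omega)
                    · skip
                      exact relsRange_sound mdata bases 322 89838 rel279 k (by omega) (by omega)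
              · skip
                by_cases hh282 : k < 91126
                · skip
                  by_cases hh283 : k < 90482
                  · skip
                    exact relsRange_sound mdata bases 322 90160 rel280 k (by omega) (by omega)
                  · skip
                    by_cases hh284 : k < 90804
                    · skip
                      exact relsRange_sound mdata bases 322 90482 rel281 k (by omega) (by omega)
                    · skip
                      exact relsRange_sound mdata bases 322 90804 rel282 k (by omega) (by omega)
                · skip
                  by_cases hh285 : k < 91448
                  · skip
                    exact relsRange_sound mdata bases 322 91126 rel283 k (by omega) (by omega)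
                  · skip
                    by_cases hh286 : k < 91770
                    · skip
                      exact relsRange_sound mdata bases 322 91448 rel284 k (by omega) (by omega)
                    · skip
                      exact relsRange_sound mdata bases 322 91770 rel285 k (by omega) (by omega)
      · skip
        by_cases hh287 : k < 107548
        · skip
          by_cases hh288 : k < 99820
          · skip
            by_cases hh289 : k < 95956
            · skip
              by_cases hh290 : k < 94024
              · skip
                by_cases hh291 : k < 93058
                · skip
                  by_cases hh292 : k < 92414
                  · skip
                    exact relsRange_sound mdata bases 322 92092 rel286 k (by omega) (by omega)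
                  · skip
                    by_cases hh293 : k < 92736
                    · skip
                      exact relsRange_sound mdata bases 322 92414 rel287 k (by omega) (by omega)
                    · skip
                      exact relsRange_sound mdata bases 322 92736 rel288 k (by omega) (by omega)
                · skip
                  by_cases hh294 : k < 93380
                  · skip
                    exact relsRange_sound mdata bases 322 93058 rel289 k (by omega) (by omega)
                  · skip
                    by_cases hh295 : k < 93702
                    · skip
                      exact relsRange_sound mdata bases 322 93380 rel290 k (by omega) (by omega)
                    · skip
                      exact relsRange_sound mdata bases 322 93702 rel291 k (by omega) (by omega)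
              · skip
                by_cases hh296 : k < 94990
                · skip
                  by_cases hh297 : k < 94346
                  · skip
                    exact relsRange_sound mdata bases 322 94024 rel292 k (by omega) (by omega)
                  · skip
                    by_cases hh298 : k < 94668
                    · skip
                      exact relsRange_sound mdata bases 322 94346 rel293 k (by omega) (by omega)
                    · skip
                      exact relsRange_sound mdata bases 322 94668 rel294 k (by omega) (by omega)
                · skip
                  by_cases hh299 : k < 95312
                  · skip
                    exact relsRange_sound mdata bases 322 94990 rel295 k (by omega) (by omega)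
                  · skip
                    by_cases hh300 : k < 95634
                    · skip
                      exact relsRange_sound mdata bases 322 95312 rel296 k (by omega) (by omega)
                    · skip
                      exact relsRange_sound mdata bases 322 95634 rel297 k (by omega) (by omega)
            · skip
              by_cases hh301 : k < 97888
              · skip
                by_cases hh302 : k < 96922
                · skip
                  by_cases hh303 : k < 96278
                  · skip
                    exact relsRange_sound mdata bases 322 95956 rel298 k (by omega) (by omega)
                  · skip
                    by_cases hh304 : k < 96600
                    · skip
                      exact relsRange_sound mdata bases 322 96278 rel299 k (by omega) (by omega)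
                    · skip
                      exact relsRange_sound mdata bases 322 96600 rel300 k (by omega) (by omega)
                · skip
                  by_cases hh305 : k < 97244
                  · skip
                    exact relsRange_sound mdata bases 322 96922 rel301 k (by omega) (by omega)
                  · skip
                    by_cases hh306 : k < 97566
                    · skip
                      exact relsRange_sound mdata bases 322 97244 rel302 k (by omega) (by omega)
                    · skip
                      exact relsRange_sound mdata bases 322 97566 rel303 k (by omega) (by omega)
              · skip
                by_cases hh307 : k < 98854
                · skip
                  by_cases hh308 : k < 98210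
                  · skip
                    exact relsRange_sound mdata bases 322 97888 rel304 k (by omega) (by omega)
                  · skip
                    by_cases hh309 : k < 98532
                    · skip
                      exact relsRange_sound mdata bases 322 98210 rel305 k (by omega) (by omega)
                    · skip
                      exact relsRange_sound mdata bases 322 98532 rel306 k (by omega) (by omega)
                · skip
                  by_cases hh310 : k < 99176
                  · skip
                    exact relsRange_sound mdata bases 322 98854 rel307 k (by omega) (by omega)
                  · skip
                    by_cases hh311 : k < 99498
                    · skip
                      exact relsRange_sound mdata bases 322 99176 rel308 k (by omega) (by omega)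
                    · skip
                      exact relsRange_sound mdata bases 322 99498 rel309 k (by omega) (by omega)
          · skip
            by_cases hh312 : k < 103684
            · skip
              by_cases hh313 : k < 101752
              · skip
                by_cases hh314 : k < 100786
                · skip
                  by_cases hh315 : k < 100142
                  · skip
                    exact relsRange_sound mdata bases 322 99820 rel310 k (by omega) (by omega)
                  · skip
                    by_cases hh316 : k < 100464
                    · skip
                      exact relsRange_sound mdata bases 322 100142 rel311 k (by omega) (by omega)
                    · skip
                      exact relsRange_sound mdata bases 322 100464 rel312 k (by omega) (by omega)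
                · skip
                  by_cases hh317 : k < 101108
                  · skip
                    exact relsRange_sound mdata bases 322 100786 rel313 k (by omega) (by omega)
                  · skip
                    by_cases hh318 : k < 101430
                    · skip
                      exact relsRange_sound mdata bases 322 101108 rel314 k (by omega) (by omega)
                    · skip
                      exact relsRange_sound mdata bases 322 101430 rel315 k (by omega) (by omega)
              · skip
                by_cases hh319 : k < 102718
                · skip
                  by_cases hh320 : k < 102074
                  · skip
                    exact relsRange_sound mdata bases 322 101752 rel316 k (by omega) (by omega)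
                  · skip
                    by_cases hh321 : k < 102396
                    · skip
                      exact relsRange_sound mdata bases 322 102074 rel317 k (by omega) (by omega)
                    · skip
                      exact relsRange_sound mdata bases 322 102396 rel318 k (by omega) (by omega)
                · skip
                  by_cases hh322 : k < 103040
                  · skip
                    exact relsRange_sound mdata bases 322 102718 rel319 k (by omega) (by omega)
                  · skip
                    by_cases hh323 : k < 103362
                    · skip
                      exact relsRange_sound mdata bases 322 103040 rel320 k (by omega) (by omega)
                    · skip
                      exact relsRange_sound mdata bases 322 103362 rel321 k (by omega) (by omega)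
            · skip
              by_cases hh324 : k < 105616
              · skip
                by_cases hh325 : k < 104650
                · skip
                  by_cases hh326 : k < 104006
                  · skip
                    exact relsRange_sound mdata bases 322 103684 rel322 k (by omega) (by omega)
                  · skip
                    by_cases hh327 : k < 104328
                    · skip
                      exact relsRange_sound mdata bases 322 104006 rel323 k (by omega) (by omega)
                    · skip
                      exact relsRange_sound mdata bases 322 104328 rel324 k (by omega) (by omega)
                · skip
                  by_cases hh328 : k < 104972
                  · skip
                    exact relsRange_sound mdata bases 322 104650 rel325 k (by omega) (by omega)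
                  · skip
                    by_cases hh329 : k < 105294
                    · skip
                      exact relsRange_sound mdata bases 322 104972 rel326 k (by omega) (by omega)
                    · skip
                      exact relsRange_sound mdata bases 322 105294 rel327 k (by omega) (by omega)
              · skip
                by_cases hh330 : k < 106582
                · skip
                  by_cases hh331 : k < 105938
                  · skip
                    exact relsRange_sound mdata bases 322 105616 rel328 k (by omega) (by omega)
                  · skip
                    by_cases hh332 : k < 106260
                    · skip
                      exact relsRange_sound mdata bases 322 105938 rel329 k (by omega) (by omega)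
                    · skip
                      exact relsRange_sound mdata bases 322 106260 rel330 k (by omega) (by omega)
                · skip
                  by_cases hh333 : k < 106904
                  · skip
                    exact relsRange_sound mdata bases 322 106582 rel331 k (by omega) (by omega)
                  · skip
                    by_cases hh334 : k < 107226
                    · skip
                      exact relsRange_sound mdata bases 322 106904 rel332 k (by omega) (by omega)
                    · skip
                      exact relsRange_sound mdata bases 322 107226 rel333 k (by omega) (by omega)
        · skip
          by_cases hh335 : k < 115276
          · skip
            by_cases hh336 : k < 111412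
            · skip
              by_cases hh337 : k < 109480
              · skip
                by_cases hh338 : k < 108514
                · skip
                  by_cases hh339 : k < 107870
                  · skip
                    exact relsRange_sound mdata bases 322 107548 rel334 k (by omega) (by omega)
                  · skip
                    by_cases hh340 : k < 108192
                    · skip
                      exact relsRange_sound mdata bases 322 107870 rel335 k (by omega) (by omega)
                    · skip
                      exact relsRange_sound mdata bases 322 108192 rel336 k (by omega) (by omega)
                · skip
                  by_cases hh341 : k < 108836
                  · skip
                    exact relsRange_sound mdata bases 322 108514 rel337 k (by omega) (by omega)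
                  · skip
                    by_cases hh342 : k < 109158
                    · skip
                      exact relsRange_sound mdata bases 322 108836 rel338 k (by omega) (by omega)
                    · skip
                      exact relsRange_sound mdata bases 322 109158 rel339 k (by omega) (by omega)
              · skip
                by_cases hh343 : k < 110446
                · skip
                  by_cases hh344 : k < 109802
                  · skip
                    exact relsRange_sound mdata bases 322 109480 rel340 k (by omega) (by omega)
                  · skip
                    by_cases hh345 : k < 110124
                    · skip
                      exact relsRange_sound mdata bases 322 109802 rel341 k (by omega) (by omega)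
                    · skip
                      exact relsRange_sound mdata bases 322 110124 rel342 k (by omega) (by omega)
                · skip
                  by_cases hh346 : k < 110768
                  · skip
                    exact relsRange_sound mdata bases 322 110446 rel343 k (by omega) (by omega)
                  · skip
                    by_cases hh347 : k < 111090
                    · skip
                      exact relsRange_sound mdata bases 322 110768 rel344 k (by omega) (by omega)
                    · skip
                      exact relsRange_sound mdata bases 322 111090 rel345 k (by omega) (by omega)
            · skip
              by_cases hh348 : k < 113344
              · skip
                by_cases hh349 : k < 112378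
                · skip
                  by_cases hh350 : k < 111734
                  · skip
                    exact relsRange_sound mdata bases 322 111412 rel346 k (by omega) (by omega)
                  · skip
                    by_cases hh351 : k < 112056
                    · skip
                      exact relsRange_sound mdata bases 322 111734 rel347 k (by omega) (by omega)
                    · skip
                      exact relsRange_sound mdata bases 322 112056 rel348 k (by omega) (by omega)
                · skip
                  by_cases hh352 : k < 112700
                  · skip
                    exact relsRange_sound mdata bases 322 112378 rel349 k (by omega) (by omega)
                  · skip
                    by_cases hh353 : k < 113022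
                    · skip
                      exact relsRange_sound mdata bases 322 112700 rel350 k (by omega) (by omega)
                    · skip
                      exact relsRange_sound mdata bases 322 113022 rel351 k (by omega) (by omega)
              · skip
                by_cases hh354 : k < 114310
                · skip
                  by_cases hh355 : k < 113666
                  · skip
                    exact relsRange_sound mdata bases 322 113344 rel352 k (by omega) (by omega)
                  · skip
                    by_cases hh356 : k < 113988
                    · skip
                      exact relsRange_sound mdata bases 322 113666 rel353 k (by omega) (by omega)
                    · skip
                      exact relsRange_sound mdata bases 322 113988 rel354 k (by omega) (by omega)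
                · skip
                  by_cases hh357 : k < 114632
                  · skip
                    exact relsRange_sound mdata bases 322 114310 rel355 k (by omega) (by omega)
                  · skip
                    by_cases hh358 : k < 114954
                    · skip
                      exact relsRange_sound mdata bases 322 114632 rel356 k (by omega) (by omega)
                    · skip
                      exact relsRange_sound mdata bases 322 114954 rel357 k (by omega) (by omega)
          · skip
            by_cases hh359 : k < 119140
            · skip
              by_cases hh360 : k < 117208
              · skip
                by_cases hh361 : k < 116242
                · skip
                  by_cases hh362 : k < 115598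
                  · skip
                    exact relsRange_sound mdata bases 322 115276 rel358 k (by omega) (by omega)
                  · skip
                    by_cases hh363 : k < 115920
                    · skip
                      exact relsRange_sound mdata bases 322 115598 rel359 k (by omega) (by omega)
                    · skip
                      exact relsRange_sound mdata bases 322 115920 rel360 k (by omega) (by omega)
                · skip
                  by_cases hh364 : k < 116564
                  · skip
                    exact relsRange_sound mdata bases 322 116242 rel361 k (by omega) (by omega)
                  · skip
                    by_cases hh365 : k < 116886
                    · skip
                      exact relsRange_sound mdata bases 322 116564 rel362 k (by omega) (by omega)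
                    · skip
                      exact relsRange_sound mdata bases 322 116886 rel363 k (by omega) (by omega)
              · skip
                by_cases hh366 : k < 118174
                · skip
                  by_cases hh367 : k < 117530
                  · skip
                    exact relsRange_sound mdata bases 322 117208 rel364 k (by omega) (by omega)
                  · skip
                    by_cases hh368 : k < 117852
                    · skip
                      exact relsRange_sound mdata bases 322 117530 rel365 k (by omega) (by omega)
                    · skip
                      exact relsRange_sound mdata bases 322 117852 rel366 k (by omega) (by omega)
                · skip
                  by_cases hh369 : k < 118496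
                  · skip
                    exact relsRange_sound mdata bases 322 118174 rel367 k (by omega) (by omega)
                  · skip
                    by_cases hh370 : k < 118818
                    · skip
                      exact relsRange_sound mdata bases 322 118496 rel368 k (by omega) (by omega)
                    · skip
                      exact relsRange_sound mdata bases 322 118818 rel369 k (by omega) (by omega)
            · skip
              by_cases hh371 : k < 121072
              · skip
                by_cases hh372 : k < 120106
                · skip
                  by_cases hh373 : k < 119462
                  · skip
                    exact relsRange_sound mdata bases 322 119140 rel370 k (by omega) (by omega)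
                  · skip
                    by_cases hh374 : k < 119784
                    · skip
                      exact relsRange_sound mdata bases 322 119462 rel371 k (by omega) (by omega)
                    · skip
                      exact relsRange_sound mdata bases 322 119784 rel372 k (by omega) (by omega)
                · skip
                  by_cases hh375 : k < 120428
                  · skip
                    exact relsRange_sound mdata bases 322 120106 rel373 k (by omega) (by omega)
                  · skip
                    by_cases hh376 : k < 120750
                    · skip
                      exact relsRange_sound mdata bases 322 120428 rel374 k (by omega) (by omega)
                    · skip
                      exact relsRange_sound mdata bases 322 120750 rel375 k (by omega) (by omega)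
              · skip
                by_cases hh377 : k < 122038
                · skip
                  by_cases hh378 : k < 121394
                  · skip
                    exact relsRange_sound mdata bases 322 121072 rel376 k (by omega) (by omega)
                  · skip
                    by_cases hh379 : k < 121716
                    · skip
                      exact relsRange_sound mdata bases 322 121394 rel377 k (by omega) (by omega)
                    · skip
                      exact relsRange_sound mdata bases 322 121716 rel378 k (by omega) (by omega)
                · skip
                  by_cases hh380 : k < 122360
                  · skip
                    exact relsRange_sound mdata bases 322 122038 rel379 k (by omega) (by omega)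
                  · skip
                    by_cases hh381 : k < 122682
                    · skip
                      exact relsRange_sound mdata bases 322 122360 rel380 k (by omega) (by omega)
                    · skip
                      exact relsRange_sound mdata bases 78 122682 rel381 k (by omega) (by omega)
  · intro k h1 h2
    have h2' : k < 1 + (122760 - 1) := h2
    by_cases hh1 : k < 66666
    · skip
      by_cases hh2 : k < 26667
      · skip
        by_cases hh3 : k < 13334
        · skip
          exact treeRange_sound mdata 13333 1 tree0 k (by omega) (by omega)
        · skip
          exact treeRange_sound mdata 13333 13334 tree1 k (by omega) (by omega)
      · skip
        by_cases hh4 : k < 40000
        · skip
          exact treeRange_sound mdata 13333 26667 tree2 k (by omega) (by omega)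
        · skip
          by_cases hh5 : k < 53333
          · skip
            exact treeRange_sound mdata 13333 40000 tree3 k (by omega) (by omega)
          · skip
            exact treeRange_sound mdata 13333 53333 tree4 k (by omega) (by omega)
    · skip
      by_cases hh6 : k < 93332
      · skip
        by_cases hh7 : k < 79999
        · skip
          exact treeRange_sound mdata 13333 66666 tree5 k (by omega) (by omega)
        · skip
          exact treeRange_sound mdata 13333 79999 tree6 k (by omega) (by omega)
      · skip
        by_cases hh8 : k < 106665
        · skip
          exact treeRange_sound mdata 13333 93332 tree7 k (by omega) (by omega)
        · skip
          by_cases hh9 : k < 119998
          · skip
            exact treeRange_sound mdata 13333 106665 tree8 k (by omega) (by omega)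
          · skip
            exact treeRange_sound mdata 2762 119998 tree9 k (by omega) (by omega)

theorem orb1 : OrbOK mdata subsL 1 58654 := by
  refine ⟨by decide, by decide, ?_, ?_⟩
  · intro k h1 h2
    by_cases hh1 : k < 26665
    · skip
      by_cases hh2 : k < 13333
      · skip
        by_cases hh3 : k < 6667
        · skip
          exact closedRange_sound mdata subsL 1 58654 6666 1 closed1_0 k (by omega) (by omega)
        · skip
          exact closedRange_sound mdata subsL 1 58654 6666 6667 closed1_1 k (by omega) (by omega)
      · skip
        by_cases hh4 : k < 19999
        · skip
          exact closedRange_sound mdata subsL 1 58654 6666 13333 closed1_2 k (by omega) (by omega)
        · skip
          exact closedRange_sound mdata subsL 1 58654 6666 19999 closed1_3 k (by omega) (by omega)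
    · skip
      by_cases hh5 : k < 39997
      · skip
        by_cases hh6 : k < 33331
        · skip
          exact closedRange_sound mdata subsL 1 58654 6666 26665 closed1_4 k (by omega) (by omega)
        · skip
          exact closedRange_sound mdata subsL 1 58654 6666 33331 closed1_5 k (by omega) (by omega)
      · skip
        by_cases hh7 : k < 46663
        · skip
          exact closedRange_sound mdata subsL 1 58654 6666 39997 closed1_6 k (by omega) (by omega)
        · skip
          by_cases hh8 : k < 53329
          · skip
            exact closedRange_sound mdata subsL 1 58654 6666 46663 closed1_7 k (by omega) (by omega)
          · skip
            exact closedRange_sound mdata subsL 1 58654 5325 53329 closed1_8 k (by omega) (by omega)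
  · intro k h1 h2
    by_cases hh1 : k < 32002
    · skip
      by_cases hh2 : k < 16002
      · skip
        exact reachRange_sound mdata subsL 1 16000 2 reach1_0 k (by omega) (by omega)
      · skip
        exact reachRange_sound mdata subsL 1 16000 16002 reach1_1 k (by omega) (by omega)
    · skip
      by_cases hh3 : k < 48002
      · skip
        exact reachRange_sound mdata subsL 1 16000 32002 reach1_2 k (by omega) (by omega)
      · skip
        exact reachRange_sound mdata subsL 1 10652 48002 reach1_3 k (by omega) (by omega)

theorem orb2 : OrbOK mdata subsL 58654 110790 := by
  refine ⟨by decide, by decide, ?_, ?_⟩
  · intro k h1 h2
    by_cases hh1 : k < 85318
    · skip
      by_cases hh2 : k < 71986
      · skip
        by_cases hh3 : k < 65320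
        · skip
          exact closedRange_sound mdata subsL 58654 110790 6666 58654 closed2_0 k (by omega) (by omega)
        · skip
          exact closedRange_sound mdata subsL 58654 110790 6666 65320 closed2_1 k (by omega) (by omega)
      · skip
        by_cases hh4 : k < 78652
        · skip
          exact closedRange_sound mdata subsL 58654 110790 6666 71986 closed2_2 k (by omega) (by omega)
        · skip
          exact closedRange_sound mdata subsL 58654 110790 6666 78652 closed2_3 k (by omega) (by omega)
    · skip
      by_cases hh5 : k < 98650
      · skip
        by_cases hh6 : k < 91984
        · skip
          exact closedRange_sound mdata subsL 58654 110790 6666 85318 closed2_4 k (by omega) (by omega)
        · skip
          exact closedRange_sound mdata subsL 58654 110790 6666 91984 closed2_5 k (by omega) (by omega)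
      · skip
        by_cases hh7 : k < 105316
        · skip
          exact closedRange_sound mdata subsL 58654 110790 6666 98650 closed2_6 k (by omega) (by omega)
        · skip
          exact closedRange_sound mdata subsL 58654 110790 5474 105316 closed2_7 k (by omega) (by omega)
  · intro k h1 h2
    by_cases hh1 : k < 90655
    · skip
      by_cases hh2 : k < 74655
      · skip
        exact reachRange_sound mdata subsL 58654 16000 58655 reach2_0 k (by omega) (by omega)
      · skip
        exact reachRange_sound mdata subsL 58654 16000 74655 reach2_1 k (by omega) (by omega)
    · skip
      by_cases hh3 : k < 106655
      · skip
        exact reachRange_sound mdata subsL 58654 16000 90655 reach2_2 k (by omega) (by omega)
      · skip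
        exact reachRange_sound mdata subsL 58654 4135 106655 reach2_3 k (by omega) (by omega)

theorem orb3 : OrbOK mdata subsL 110790 116376 := by
  refine ⟨by decide, by decide, ?_, ?_⟩
  · intro k h1 h2
    exact closedRange_sound mdata subsL 110790 116376 5586 110790 closed3_0 k (by omega) (by omega)
  · intro k h1 h2
    exact reachRange_sound mdata subsL 110790 5585 110791 reach3_0 k (by omega) (by omega)

theorem orb4 : OrbOK mdata subsL 116376 122760 := by
  refine ⟨by decide, by decide, ?_, ?_⟩
  · intro k h1 h2
    exact closedRange_sound mdata subsL 116376 122760 6384 116376 closed4_0 k (by omega) (by omega)
  · intro k h1 h2
    exact reachRange_sound mdata subsL 116376 6383 116377 reach4_0 k (by omega) (by omega)

theorem main : ((Subgroup.closure Sset).map (PresentedGroup.mk Rset)).index = 122760 ∧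
    ∃ e : (PresentedGroup Rset ⧸ (Subgroup.closure Sset).map (PresentedGroup.mk Rset)) ≃ Fin 122760,
      ∀ lo hi, OrbOK mdata subsL lo hi → ∀ q, (e q).val = lo →
        e '' (MulAction.orbit ((Subgroup.closure Sset).map (PresentedGroup.mk Rset)) q) =
          {x : Fin 122760 | lo ≤ x.val ∧ x.val < hi} :=
  model_main mdata bases subsL coding hR1 hS1 hS2 model_ok bound

end Cfsg.Agent.Helper4.TC.ONL37
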