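import Cfsg.Agent.Lib.Helper4.TC.ONSL
import Cfsg.Agent.Lib.Helper4.TC.ONL37Glue
import Cfsg.Agent.Lib.Helper4.TC.Strict

set_option autoImplicit false
set_option maxRecDepth 100000
set_option linter.unusedVariables false
set_option Elab.async false

namespace Cfsg.Agent.Helper4.TC.ONS

open Cfsg.Agent.Helper4.TC

theorem lvl2_c0 : lvlRange ONL37.mdata ld2 W2 1 20001 0 = true := lvlRange_strict ONL37.mdata ld2 W2 1 20001 0 (by decide +kernel)
theorem lvl2_c1 : lvlRange ONL37.mdata ld2 W2 1 20000 20001 = true := lvlRange_strict ONL37.mdata ld2 W2 1 20000 20001 (by decide +kernel)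
theorem lvl2_c2 : lvlRange ONL37.mdata ld2 W2 1 18652 40001 = true := lvlRange_strict ONL37.mdata ld2 W2 1 18652 40001 (by decide +kernel)
theorem srt2_c0 : srtRange ld2 40000 0 = true := srtRange_strict ld2 40000 0 (by decide +kernel)
theorem srt2_c1 : srtRange ld2 18652 40000 = true := srtRange_strict ld2 18652 40000 (by decide +kernel)
theorem fix2 : ∀ w ∈ W2, (∀ c ∈ w, c < ONL37.mdata.nc) ∧ ∀ q ∈ [0], mtrace ONL37.mdata w q = q := by decide +kernel

theorem lvl3_c0 : lvlRange ONL37.mdata ld3 W3 9 16 0 = true := lvlRange_strict ONL37.mdata ld3 W3 9 16 0 (by decide +kernel)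
theorem srt3_c0 : srtRange ld3 15 0 = true := srtRange_strict ld3 15 0 (by decide +kernel)
theorem fix3 : ∀ w ∈ W3, (∀ c ∈ w, c < ONL37.mdata.nc) ∧ ∀ q ∈ [1, 0], mtrace ONL37.mdata w q = q := by decide +kernel

theorem lvl4_c0 : lvlRange ONL37.mdata ld4 W4 2 4 0 = true := lvlRange_strict ONL37.mdata ld4 W4 2 4 0 (by decide +kernel)
theorem srt4_c0 : srtRange ld4 3 0 = true := srtRange_strict ld4 3 0 (by decide +kernel)
theorem fix4 : ∀ w ∈ W4, (∀ c ∈ w, c < ONL37.mdata.nc) ∧ ∀ q ∈ [9, 1, 0], mtrace ONL37.mdata w q = q := by decide +kernel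

theorem lvl2 : LevelOK ONL37.mdata ld2 W2 1 := by
  refine ⟨?_, ?_⟩
  · intro k hk
    have hk' : k < 58653 := hk
    by_cases hh1 : k < 20001
    · skip
      exact lvlRange_sound ONL37.mdata ld2 W2 1 20001 0 lvl2_c0 k (by omega) (by omega)
    · skip
      by_cases hh2 : k < 40001
      · skip
        exact lvlRange_sound ONL37.mdata ld2 W2 1 20000 20001 lvl2_c1 k (by omega) (by omega)
      · skip
        exact lvlRange_sound ONL37.mdata ld2 W2 1 18652 40001 lvl2_c2 k (by omega) (by omega)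
  · intro k hk
    have hk' : k + 1 < 58653 := hk
    by_cases hh1 : k < 40000
    · skip
      exact srtRange_sound ld2 40000 0 srt2_c0 k (by omega) (by omega)
    · skip
      exact srtRange_sound ld2 18652 40000 srt2_c1 k (by omega) (by omega)

theorem lvl3 : LevelOK ONL37.mdata ld3 W3 9 := by
  refine ⟨?_, ?_⟩
  · intro k hk
    have hk' : k < 16 := hk
    exact lvlRange_sound ONL37.mdata ld3 W3 9 16 0 lvl3_c0 k (by omega) (by omega)
  · intro k hk
    have hk' : k + 1 < 16 := hk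
    exact srtRange_sound ld3 15 0 srt3_c0 k (by omega) (by omega)

theorem lvl4 : LevelOK ONL37.mdata ld4 W4 2 := by
  refine ⟨?_, ?_⟩
  · intro k hk
    have hk' : k < 4 := hk
    exact lvlRange_sound ONL37.mdata ld4 W4 2 4 0 lvl4_c0 k (by omega) (by omega)
  · intro k hk
    have hk' : k + 1 < 4 := hk
    exact srtRange_sound ld4 3 0 srt4_c0 k (by omega) (by omega)

noncomputable def specs : List LSpec := [⟨ld2, W2, 1⟩, ⟨ld3, W3, 9⟩, ⟨ld4, W4, 2⟩]

theorem levels_ok : LevelsOK ONL37.mdata [0] specs := by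
  refine levelsOK_cons ONL37.mdata [0] ⟨ld2, W2, 1⟩ _ lvl2 (by decide) fix2 ?_
  refine levelsOK_cons ONL37.mdata [1, 0] ⟨ld3, W3, 9⟩ _ lvl3 (by decide) fix3 ?_
  refine levelsOK_cons ONL37.mdata [9, 1, 0] ⟨ld4, W4, 2⟩ _ lvl4 (by decide) fix4 ?_
  exact levelsOK_nil _ _

end Cfsg.Agent.Helper4.TC.ONS
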