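import Mathlib

set_option autoImplicit false
set_option linter.unusedVariables false
set_option linter.style.haveILetI false

/-! The field with 25 elements, as `F₅[√2]`. -/

namespace Cfsg.Agent.Helper4.TC

instance factPrime5 : Fact (Nat.Prime 5) := ⟨by norm_num⟩

instance factIrred25 : Fact (∀ r : ZMod 5, r ^ 2 ≠ 2 + 0 * r) := ⟨by decide⟩

/-- the field with 25 elements, as `F₅[√2]` -/
abbrev K25 := QuadraticAlgebra (ZMod 5) 2 0

instance : Fintype K25 := Fintype.ofEquiv _ (QuadraticAlgebra.equivProd (2 : ZMod 5) 0).symm

theorem card_K25 : Fintype.card K25 = 25 := by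
  rw [Fintype.card_congr (QuadraticAlgebra.equivProd (2 : ZMod 5) 0), Fintype.card_prod, ZMod.card]

theorem k25_card : Fintype.card K25 = 5 ^ 2 := by rw [card_K25]; norm_num

example : Field K25 := inferInstance

example : DecidableEq K25 := inferInstance

end Cfsg.Agent.Helper4.TC
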