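import Cfsg.Agent.Lib.Helper4.TC.MatSUQ
import Cfsg.Agent.Lib.Helper4.TC.K25
import Cfsg.Agent.Lib.Helper4.TC.MatChain
import Cfsg.Agent.Lib.Helper4.TC.U35PSMain
import Cfsg.Agent.Lib.Helper6.SUTransport
import Cfsg.Agent.S0280

set_option autoImplicit false
set_option maxRecDepth 100000
set_option maxHeartbeats 0
set_option linter.unusedVariables false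
set_option linter.style.haveILetI false

/-! The presented group `Pres.U35` is isomorphic to `PSU₃(5)`. -/

namespace Cfsg.Agent.Helper4.TC.U35Iso

open Cfsg.Agent.Helper4.TC Matrix

abbrev Gen := Cfsg.Agent.Helper4.Pres.U35.Gen

def uA : MatD 3 K25 := ⟨[⟨1, 0⟩, ⟨3, 2⟩, ⟨4, 4⟩, ⟨3, 3⟩, ⟨2, 0⟩, ⟨3, 2⟩, ⟨4, 1⟩, ⟨3, 3⟩, ⟨1, 0⟩]⟩
def uB : MatD 3 K25 := ⟨[⟨2, 4⟩, ⟨4, 2⟩, ⟨3, 2⟩, ⟨3, 4⟩, ⟨2, 3⟩, ⟨4, 3⟩, ⟨0, 3⟩, ⟨3, 4⟩, ⟨0, 3⟩]⟩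
def uA' : MatD 3 K25 := ⟨[⟨1, 0⟩, ⟨3, 2⟩, ⟨4, 4⟩, ⟨3, 3⟩, ⟨2, 0⟩, ⟨3, 2⟩, ⟨4, 1⟩, ⟨3, 3⟩, ⟨1, 0⟩]⟩
def uB' : MatD 3 K25 := ⟨[⟨2, 1⟩, ⟨3, 1⟩, ⟨0, 2⟩, ⟨4, 3⟩, ⟨2, 2⟩, ⟨3, 1⟩, ⟨3, 3⟩, ⟨4, 2⟩, ⟨0, 2⟩]⟩

def DU : Gen → MatD 3 K25
  | .a => uA
  | .b => uB

def DU' : Gen → MatD 3 K25
  | .a => uA'
  | .b => uB'

theorem hinvU : ∀ x, (DU x).mul (DU' x) = MatD.one := by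
  intro x; cases x <;> decide +kernel

theorem hunitU : ∀ x, (DU x).tr.mul ((DU x).mapE fun y => y ^ 5) = MatD.one := by
  intro x; cases x <;> decide +kernel

theorem hdet_aux : ∀ x : Gen,
    (DU x).entry 0 0 * (DU x).entry 1 1 * (DU x).entry 2 2 - (DU x).entry 0 0 * (DU x).entry 1 2 * (DU x).entry 2 1
      - (DU x).entry 0 1 * (DU x).entry 1 0 * (DU x).entry 2 2 + (DU x).entry 0 1 * (DU x).entry 1 2 * (DU x).entry 2 0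
      + (DU x).entry 0 2 * (DU x).entry 1 0 * (DU x).entry 2 1 - (DU x).entry 0 2 * (DU x).entry 1 1 * (DU x).entry 2 0
      = 1 := by
  intro x; cases x <;> decide +kernel

theorem hdetU : ∀ x, ((DU x).toMatE (Equiv.refl (Fin 3))).det = 1 := by
  intro x
  rw [Matrix.det_fin_three]
  exact hdet_aux x

def q0_1 : MatD 3 K25 := ⟨[⟨1, 0⟩, ⟨3, 2⟩, ⟨4, 4⟩, ⟨3, 3⟩, ⟨2, 0⟩, ⟨3, 2⟩, ⟨4, 1⟩, ⟨3, 3⟩, ⟨1, 0⟩]⟩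
def q0_2 : MatD 3 K25 := ⟨[⟨1, 0⟩, ⟨0, 0⟩, ⟨0, 0⟩, ⟨0, 0⟩, ⟨1, 0⟩, ⟨0, 0⟩, ⟨0, 0⟩, ⟨0, 0⟩, ⟨1, 0⟩]⟩
theorem s0_1 : (MatD.one : MatD 3 K25).mul (dlM DU DU' (U35PB126.dec 2)) = q0_1 := by decide +kernel
theorem s0_2 : (q0_1 : MatD 3 K25).mul (dlM DU DU' (U35PB126.dec 2)) = q0_2 := by decide +kernel
theorem r0 : MatD.evM (dlM DU DU') (([2, 2] : List ℕ).map U35PB126.dec) = q0_2 := by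
  refine evM_step s0_2 ?_
  refine evM_step s0_1 ?_
  rfl
theorem c0 : isScalQ (MatD.evM (dlM DU DU') (([2, 2] : List ℕ).map U35PB126.dec)) = true := by
  rw [r0]; decide +kernel

def q1_1 : MatD 3 K25 := ⟨[⟨2, 4⟩, ⟨4, 2⟩, ⟨3, 2⟩, ⟨3, 4⟩, ⟨2, 3⟩, ⟨4, 3⟩, ⟨0, 3⟩, ⟨3, 4⟩, ⟨0, 3⟩]⟩
def q1_2 : MatD 3 K25 := ⟨[⟨1, 2⟩, ⟨4, 4⟩, ⟨2, 0⟩, ⟨1, 4⟩, ⟨1, 4⟩, ⟨4, 3⟩, ⟨3, 0⟩, ⟨1, 3⟩, ⟨1, 4⟩]⟩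
def q1_3 : MatD 3 K25 := ⟨[⟨2, 2⟩, ⟨0, 3⟩, ⟨1, 2⟩, ⟨2, 0⟩, ⟨2, 4⟩, ⟨0, 0⟩, ⟨2, 3⟩, ⟨2, 1⟩, ⟨0, 4⟩]⟩
def q1_4 : MatD 3 K25 := ⟨[⟨1, 4⟩, ⟨3, 3⟩, ⟨4, 0⟩, ⟨2, 3⟩, ⟨1, 3⟩, ⟨3, 1⟩, ⟨1, 0⟩, ⟨2, 1⟩, ⟨1, 3⟩]⟩
def q1_5 : MatD 3 K25 := ⟨[⟨2, 0⟩, ⟨1, 4⟩, ⟨4, 2⟩, ⟨1, 1⟩, ⟨2, 0⟩, ⟨1, 2⟩, ⟨4, 3⟩, ⟨1, 3⟩, ⟨0, 0⟩]⟩
def q1_6 : MatD 3 K25 := ⟨[⟨1, 1⟩, ⟨2, 2⟩, ⟨1, 0⟩, ⟨3, 2⟩, ⟨1, 2⟩, ⟨2, 4⟩, ⟨4, 0⟩, ⟨3, 4⟩, ⟨1, 2⟩]⟩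
def q1_7 : MatD 3 K25 := ⟨[⟨2, 3⟩, ⟨2, 0⟩, ⟨2, 2⟩, ⟨0, 2⟩, ⟨2, 1⟩, ⟨2, 4⟩, ⟨1, 3⟩, ⟨0, 0⟩, ⟨0, 1⟩]⟩
def q1_8 : MatD 3 K25 := ⟨[⟨1, 3⟩, ⟨1, 1⟩, ⟨3, 0⟩, ⟨4, 1⟩, ⟨1, 1⟩, ⟨1, 2⟩, ⟨2, 0⟩, ⟨4, 2⟩, ⟨1, 1⟩]⟩
def q1_9 : MatD 3 K25 := ⟨[⟨2, 1⟩, ⟨3, 1⟩, ⟨0, 2⟩, ⟨4, 3⟩, ⟨2, 2⟩, ⟨3, 1⟩, ⟨3, 3⟩, ⟨4, 2⟩, ⟨0, 2⟩]⟩
def q1_10 : MatD 3 K25 := ⟨[⟨1, 0⟩, ⟨0, 0⟩, ⟨0, 0⟩, ⟨0, 0⟩, ⟨1, 0⟩, ⟨0, 0⟩, ⟨0, 0⟩, ⟨0, 0⟩, ⟨1, 0⟩]⟩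
theorem s1_1 : (MatD.one : MatD 3 K25).mul (dlM DU DU' (U35PB126.dec 0)) = q1_1 := by decide +kernel
theorem s1_2 : (q1_1 : MatD 3 K25).mul (dlM DU DU' (U35PB126.dec 0)) = q1_2 := by decide +kernel
theorem s1_3 : (q1_2 : MatD 3 K25).mul (dlM DU DU' (U35PB126.dec 0)) = q1_3 := by decide +kernel
theorem s1_4 : (q1_3 : MatD 3 K25).mul (dlM DU DU' (U35PB126.dec 0)) = q1_4 := by decide +kernel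
theorem s1_5 : (q1_4 : MatD 3 K25).mul (dlM DU DU' (U35PB126.dec 0)) = q1_5 := by decide +kernel
theorem s1_6 : (q1_5 : MatD 3 K25).mul (dlM DU DU' (U35PB126.dec 0)) = q1_6 := by decide +kernel
theorem s1_7 : (q1_6 : MatD 3 K25).mul (dlM DU DU' (U35PB126.dec 0)) = q1_7 := by decide +kernel
theorem s1_8 : (q1_7 : MatD 3 K25).mul (dlM DU DU' (U35PB126.dec 0)) = q1_8 := by decide +kernel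
theorem s1_9 : (q1_8 : MatD 3 K25).mul (dlM DU DU' (U35PB126.dec 0)) = q1_9 := by decide +kernel
theorem s1_10 : (q1_9 : MatD 3 K25).mul (dlM DU DU' (U35PB126.dec 0)) = q1_10 := by decide +kernel
theorem r1 : MatD.evM (dlM DU DU') (([0, 0, 0, 0, 0, 0, 0, 0, 0, 0] : List ℕ).map U35PB126.dec) = q1_10 := by
  refine evM_step s1_10 ?_
  refine evM_step s1_9 ?_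
  refine evM_step s1_8 ?_
  refine evM_step s1_7 ?_
  refine evM_step s1_6 ?_
  refine evM_step s1_5 ?_
  refine evM_step s1_4 ?_
  refine evM_step s1_3 ?_
  refine evM_step s1_2 ?_
  refine evM_step s1_1 ?_
  rfl
theorem c1 : isScalQ (MatD.evM (dlM DU DU') (([0, 0, 0, 0, 0, 0, 0, 0, 0, 0] : List ℕ).map U35PB126.dec)) = true := by
  rw [r1]; decide +kernel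

def q2_1 : MatD 3 K25 := ⟨[⟨1, 0⟩, ⟨3, 2⟩, ⟨4, 4⟩, ⟨3, 3⟩, ⟨2, 0⟩, ⟨3, 2⟩, ⟨4, 1⟩, ⟨3, 3⟩, ⟨1, 0⟩]⟩
def q2_2 : MatD 3 K25 := ⟨[⟨1, 4⟩, ⟨1, 3⟩, ⟨1, 1⟩, ⟨3, 0⟩, ⟨3, 2⟩, ⟨1, 0⟩, ⟨4, 2⟩, ⟨2, 1⟩, ⟨1, 0⟩]⟩
def q2_3 : MatD 3 K25 := ⟨[⟨2, 3⟩, ⟨1, 4⟩, ⟨2, 2⟩, ⟨1, 3⟩, ⟨3, 3⟩, ⟨3, 1⟩, ⟨3, 4⟩, ⟨2, 3⟩, ⟨4, 2⟩]⟩
def q2_4 : MatD 3 K25 := ⟨[⟨0, 1⟩, ⟨3, 1⟩, ⟨3, 3⟩, ⟨0, 0⟩, ⟨2, 4⟩, ⟨1, 1⟩, ⟨0, 4⟩, ⟨3, 1⟩, ⟨3, 3⟩]⟩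
def q2_5 : MatD 3 K25 := ⟨[⟨3, 3⟩, ⟨2, 3⟩, ⟨4, 1⟩, ⟨1, 3⟩, ⟨3, 4⟩, ⟨3, 2⟩, ⟨3, 1⟩, ⟨4, 2⟩, ⟨3, 3⟩]⟩
def q2_6 : MatD 3 K25 := ⟨[⟨1, 2⟩, ⟨1, 4⟩, ⟨3, 0⟩, ⟨4, 3⟩, ⟨1, 4⟩, ⟨3, 0⟩, ⟨0, 0⟩, ⟨4, 2⟩, ⟨4, 3⟩]⟩
def q2_7 : MatD 3 K25 := ⟨[⟨3, 3⟩, ⟨2, 3⟩, ⟨4, 1⟩, ⟨2, 2⟩, ⟨3, 3⟩, ⟨2, 0⟩, ⟨1, 4⟩, ⟨1, 1⟩, ⟨1, 2⟩]⟩
def q2_8 : MatD 3 K25 := ⟨[⟨1, 2⟩, ⟨1, 4⟩, ⟨3, 0⟩, ⟨3, 4⟩, ⟨1, 0⟩, ⟨4, 2⟩, ⟨2, 2⟩, ⟨2, 3⟩, ⟨1, 4⟩]⟩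
def q2_9 : MatD 3 K25 := ⟨[⟨0, 0⟩, ⟨2, 0⟩, ⟨2, 1⟩, ⟨1, 4⟩, ⟨1, 1⟩, ⟨1, 2⟩, ⟨3, 4⟩, ⟨0, 1⟩, ⟨3, 3⟩]⟩
def q2_10 : MatD 3 K25 := ⟨[⟨2, 4⟩, ⟨3, 2⟩, ⟨4, 2⟩, ⟨2, 2⟩, ⟨2, 3⟩, ⟨1, 4⟩, ⟨4, 2⟩, ⟨2, 0⟩, ⟨4, 1⟩]⟩
def q2_11 : MatD 3 K25 := ⟨[⟨3, 1⟩, ⟨0, 0⟩, ⟨3, 0⟩, ⟨4, 2⟩, ⟨3, 0⟩, ⟨4, 1⟩, ⟨1, 0⟩, ⟨3, 1⟩, ⟨4, 2⟩]⟩
def q2_12 : MatD 3 K25 := ⟨[⟨4, 3⟩, ⟨0, 2⟩, ⟨3, 3⟩, ⟨4, 4⟩, ⟨0, 4⟩, ⟨3, 0⟩, ⟨1, 1⟩, ⟨4, 0⟩, ⟨3, 2⟩]⟩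
def q2_13 : MatD 3 K25 := ⟨[⟨4, 4⟩, ⟨1, 4⟩, ⟨1, 2⟩, ⟨0, 4⟩, ⟨2, 2⟩, ⟨2, 4⟩, ⟨4, 4⟩, ⟨1, 0⟩, ⟨2, 3⟩]⟩
def q2_14 : MatD 3 K25 := ⟨[⟨2, 3⟩, ⟨2, 0⟩, ⟨3, 2⟩, ⟨3, 3⟩, ⟨0, 1⟩, ⟨0, 2⟩, ⟨1, 4⟩, ⟨4, 4⟩, ⟨0, 4⟩]⟩
def q2_15 : MatD 3 K25 := ⟨[⟨1, 1⟩, ⟨4, 0⟩, ⟨3, 3⟩, ⟨0, 1⟩, ⟨1, 1⟩, ⟨4, 4⟩, ⟨2, 0⟩, ⟨4, 0⟩, ⟨3, 2⟩]⟩
def q2_16 : MatD 3 K25 := ⟨[⟨0, 1⟩, ⟨4, 4⟩, ⟨1, 1⟩, ⟨3, 1⟩, ⟨1, 2⟩, ⟨3, 2⟩, ⟨3, 3⟩, ⟨1, 4⟩, ⟨4, 0⟩]⟩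
def q2_17 : MatD 3 K25 := ⟨[⟨2, 0⟩, ⟨1, 2⟩, ⟨2, 0⟩, ⟨4, 1⟩, ⟨1, 3⟩, ⟨4, 1⟩, ⟨1, 2⟩, ⟨0, 0⟩, ⟨4, 3⟩]⟩
def q2_18 : MatD 3 K25 := ⟨[⟨3, 4⟩, ⟨3, 4⟩, ⟨2, 1⟩, ⟨4, 3⟩, ⟨0, 0⟩, ⟨4, 3⟩, ⟨1, 0⟩, ⟨3, 0⟩, ⟨4, 0⟩]⟩
def q2_19 : MatD 3 K25 := ⟨[⟨0, 0⟩, ⟨2, 0⟩, ⟨2, 4⟩, ⟨0, 4⟩, ⟨4, 0⟩, ⟨2, 4⟩, ⟨1, 3⟩, ⟨2, 2⟩, ⟨0, 3⟩]⟩
def q2_20 : MatD 3 K25 := ⟨[⟨0, 4⟩, ⟨2, 1⟩, ⟨2, 2⟩, ⟨3, 0⟩, ⟨2, 3⟩, ⟨1, 0⟩, ⟨1, 4⟩, ⟨1, 3⟩, ⟨3, 0⟩]⟩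
def q2_21 : MatD 3 K25 := ⟨[⟨4, 3⟩, ⟨3, 1⟩, ⟨4, 0⟩, ⟨1, 1⟩, ⟨1, 0⟩, ⟨1, 0⟩, ⟨4, 4⟩, ⟨0, 4⟩, ⟨4, 1⟩]⟩
def q2_22 : MatD 3 K25 := ⟨[⟨4, 4⟩, ⟨2, 2⟩, ⟨2, 2⟩, ⟨3, 3⟩, ⟨3, 3⟩, ⟨1, 1⟩, ⟨3, 3⟩, ⟨1, 1⟩, ⟨3, 3⟩]⟩
def q2_23 : MatD 3 K25 := ⟨[⟨4, 4⟩, ⟨0, 3⟩, ⟨0, 0⟩, ⟨4, 2⟩, ⟨4, 0⟩, ⟨2, 4⟩, ⟨4, 4⟩, ⟨0, 4⟩, ⟨4, 1⟩]⟩
def q2_24 : MatD 3 K25 := ⟨[⟨4, 3⟩, ⟨0, 0⟩, ⟨1, 2⟩, ⟨0, 2⟩, ⟨0, 3⟩, ⟨0, 2⟩, ⟨3, 3⟩, ⟨1, 1⟩, ⟨3, 3⟩]⟩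
def q2_25 : MatD 3 K25 := ⟨[⟨2, 2⟩, ⟨4, 1⟩, ⟨1, 0⟩, ⟨2, 4⟩, ⟨0, 3⟩, ⟨3, 4⟩, ⟨0, 4⟩, ⟨0, 0⟩, ⟨1, 2⟩]⟩
def q2_26 : MatD 3 K25 := ⟨[⟨0, 4⟩, ⟨3, 0⟩, ⟨1, 4⟩, ⟨4, 4⟩, ⟨3, 0⟩, ⟨4, 2⟩, ⟨4, 1⟩, ⟨0, 1⟩, ⟨3, 0⟩]⟩
def q2_27 : MatD 3 K25 := ⟨[⟨0, 3⟩, ⟨2, 1⟩, ⟨2, 4⟩, ⟨1, 3⟩, ⟨1, 0⟩, ⟨2, 1⟩, ⟨4, 0⟩, ⟨0, 1⟩, ⟨2, 4⟩]⟩
def q2_28 : MatD 3 K25 := ⟨[⟨2, 3⟩, ⟨0, 0⟩, ⟨0, 0⟩, ⟨0, 0⟩, ⟨2, 3⟩, ⟨0, 0⟩, ⟨0, 0⟩, ⟨0, 0⟩, ⟨2, 3⟩]⟩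
theorem s2_1 : (MatD.one : MatD 3 K25).mul (dlM DU DU' (U35PB126.dec 2)) = q2_1 := by decide +kernel
theorem s2_2 : (q2_1 : MatD 3 K25).mul (dlM DU DU' (U35PB126.dec 0)) = q2_2 := by decide +kernel
theorem s2_3 : (q2_2 : MatD 3 K25).mul (dlM DU DU' (U35PB126.dec 0)) = q2_3 := by decide +kernel
theorem s2_4 : (q2_3 : MatD 3 K25).mul (dlM DU DU' (U35PB126.dec 0)) = q2_4 := by decide +kernel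
theorem s2_5 : (q2_4 : MatD 3 K25).mul (dlM DU DU' (U35PB126.dec 2)) = q2_5 := by decide +kernel
theorem s2_6 : (q2_5 : MatD 3 K25).mul (dlM DU DU' (U35PB126.dec 0)) = q2_6 := by decide +kernel
theorem s2_7 : (q2_6 : MatD 3 K25).mul (dlM DU DU' (U35PB126.dec 0)) = q2_7 := by decide +kernel
theorem s2_8 : (q2_7 : MatD 3 K25).mul (dlM DU DU' (U35PB126.dec 0)) = q2_8 := by decide +kernel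
theorem s2_9 : (q2_8 : MatD 3 K25).mul (dlM DU DU' (U35PB126.dec 2)) = q2_9 := by decide +kernel
theorem s2_10 : (q2_9 : MatD 3 K25).mul (dlM DU DU' (U35PB126.dec 0)) = q2_10 := by decide +kernel
theorem s2_11 : (q2_10 : MatD 3 K25).mul (dlM DU DU' (U35PB126.dec 0)) = q2_11 := by decide +kernel
theorem s2_12 : (q2_11 : MatD 3 K25).mul (dlM DU DU' (U35PB126.dec 0)) = q2_12 := by decide +kernel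
theorem s2_13 : (q2_12 : MatD 3 K25).mul (dlM DU DU' (U35PB126.dec 2)) = q2_13 := by decide +kernel
theorem s2_14 : (q2_13 : MatD 3 K25).mul (dlM DU DU' (U35PB126.dec 0)) = q2_14 := by decide +kernel
theorem s2_15 : (q2_14 : MatD 3 K25).mul (dlM DU DU' (U35PB126.dec 0)) = q2_15 := by decide +kernel
theorem s2_16 : (q2_15 : MatD 3 K25).mul (dlM DU DU' (U35PB126.dec 0)) = q2_16 := by decide +kernel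
theorem s2_17 : (q2_16 : MatD 3 K25).mul (dlM DU DU' (U35PB126.dec 2)) = q2_17 := by decide +kernel
theorem s2_18 : (q2_17 : MatD 3 K25).mul (dlM DU DU' (U35PB126.dec 0)) = q2_18 := by decide +kernel
theorem s2_19 : (q2_18 : MatD 3 K25).mul (dlM DU DU' (U35PB126.dec 0)) = q2_19 := by decide +kernel
theorem s2_20 : (q2_19 : MatD 3 K25).mul (dlM DU DU' (U35PB126.dec 0)) = q2_20 := by decide +kernel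
theorem s2_21 : (q2_20 : MatD 3 K25).mul (dlM DU DU' (U35PB126.dec 2)) = q2_21 := by decide +kernel
theorem s2_22 : (q2_21 : MatD 3 K25).mul (dlM DU DU' (U35PB126.dec 0)) = q2_22 := by decide +kernel
theorem s2_23 : (q2_22 : MatD 3 K25).mul (dlM DU DU' (U35PB126.dec 0)) = q2_23 := by decide +kernel
theorem s2_24 : (q2_23 : MatD 3 K25).mul (dlM DU DU' (U35PB126.dec 0)) = q2_24 := by decide +kernel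
theorem s2_25 : (q2_24 : MatD 3 K25).mul (dlM DU DU' (U35PB126.dec 2)) = q2_25 := by decide +kernel
theorem s2_26 : (q2_25 : MatD 3 K25).mul (dlM DU DU' (U35PB126.dec 0)) = q2_26 := by decide +kernel
theorem s2_27 : (q2_26 : MatD 3 K25).mul (dlM DU DU' (U35PB126.dec 0)) = q2_27 := by decide +kernel
theorem s2_28 : (q2_27 : MatD 3 K25).mul (dlM DU DU' (U35PB126.dec 0)) = q2_28 := by decide +kernel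
theorem r2 : MatD.evM (dlM DU DU') (([0, 0, 0, 2, 0, 0, 0, 2, 0, 0, 0, 2, 0, 0, 0, 2, 0, 0, 0, 2, 0, 0, 0, 2, 0, 0, 0, 2] : List ℕ).map U35PB126.dec) = q2_28 := by
  refine evM_step s2_28 ?_
  refine evM_step s2_27 ?_
  refine evM_step s2_26 ?_
  refine evM_step s2_25 ?_
  refine evM_step s2_24 ?_
  refine evM_step s2_23 ?_
  refine evM_step s2_22 ?_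
  refine evM_step s2_21 ?_
  refine evM_step s2_20 ?_
  refine evM_step s2_19 ?_
  refine evM_step s2_18 ?_
  refine evM_step s2_17 ?_
  refine evM_step s2_16 ?_
  refine evM_step s2_15 ?_
  refine evM_step s2_14 ?_
  refine evM_step s2_13 ?_
  refine evM_step s2_12 ?_
  refine evM_step s2_11 ?_
  refine evM_step s2_10 ?_
  refine evM_step s2_9 ?_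
  refine evM_step s2_8 ?_
  refine evM_step s2_7 ?_
  refine evM_step s2_6 ?_
  refine evM_step s2_5 ?_
  refine evM_step s2_4 ?_
  refine evM_step s2_3 ?_
  refine evM_step s2_2 ?_
  refine evM_step s2_1 ?_
  rfl
theorem c2 : isScalQ (MatD.evM (dlM DU DU') (([0, 0, 0, 2, 0, 0, 0, 2, 0, 0, 0, 2, 0, 0, 0, 2, 0, 0, 0, 2, 0, 0, 0, 2, 0, 0, 0, 2] : List ℕ).map U35PB126.dec)) = true := by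
  rw [r2]; decide +kernel

def q3_1 : MatD 3 K25 := ⟨[⟨1, 0⟩, ⟨3, 2⟩, ⟨4, 4⟩, ⟨3, 3⟩, ⟨2, 0⟩, ⟨3, 2⟩, ⟨4, 1⟩, ⟨3, 3⟩, ⟨1, 0⟩]⟩
def q3_2 : MatD 3 K25 := ⟨[⟨1, 4⟩, ⟨1, 3⟩, ⟨1, 1⟩, ⟨3, 0⟩, ⟨3, 2⟩, ⟨1, 0⟩, ⟨4, 2⟩, ⟨2, 1⟩, ⟨1, 0⟩]⟩
def q3_3 : MatD 3 K25 := ⟨[⟨3, 1⟩, ⟨0, 1⟩, ⟨2, 2⟩, ⟨3, 1⟩, ⟨3, 3⟩, ⟨0, 4⟩, ⟨0, 2⟩, ⟨2, 4⟩, ⟨3, 1⟩]⟩
def q3_4 : MatD 3 K25 := ⟨[⟨4, 3⟩, ⟨4, 1⟩, ⟨1, 4⟩, ⟨1, 0⟩, ⟨2, 2⟩, ⟨2, 0⟩, ⟨0, 3⟩, ⟨3, 2⟩, ⟨1, 2⟩]⟩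
def q3_5 : MatD 3 K25 := ⟨[⟨4, 0⟩, ⟨4, 4⟩, ⟨2, 3⟩, ⟨2, 4⟩, ⟨3, 2⟩, ⟨0, 4⟩, ⟨4, 2⟩, ⟨3, 2⟩, ⟨2, 1⟩]⟩
def q3_6 : MatD 3 K25 := ⟨[⟨0, 0⟩, ⟨3, 0⟩, ⟨0, 2⟩, ⟨0, 4⟩, ⟨4, 0⟩, ⟨0, 3⟩, ⟨0, 4⟩, ⟨1, 0⟩, ⟨0, 2⟩]⟩
def q3_7 : MatD 3 K25 := ⟨[⟨3, 2⟩, ⟨3, 1⟩, ⟨4, 3⟩, ⟨3, 3⟩, ⟨2, 1⟩, ⟨4, 2⟩, ⟨2, 0⟩, ⟨0, 3⟩, ⟨0, 0⟩]⟩
def q3_8 : MatD 3 K25 := ⟨[⟨2, 3⟩, ⟨3, 0⟩, ⟨3, 2⟩, ⟨1, 1⟩, ⟨2, 3⟩, ⟨2, 2⟩, ⟨3, 2⟩, ⟨1, 0⟩, ⟨4, 1⟩]⟩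
def q3_9 : MatD 3 K25 := ⟨[⟨2, 3⟩, ⟨0, 3⟩, ⟨4, 3⟩, ⟨2, 1⟩, ⟨4, 3⟩, ⟨2, 3⟩, ⟨4, 3⟩, ⟨2, 2⟩, ⟨0, 3⟩]⟩
def q3_10 : MatD 3 K25 := ⟨[⟨0, 0⟩, ⟨4, 2⟩, ⟨4, 2⟩, ⟨1, 1⟩, ⟨3, 3⟩, ⟨2, 2⟩, ⟨2, 1⟩, ⟨3, 4⟩, ⟨2, 1⟩]⟩
def q3_11 : MatD 3 K25 := ⟨[⟨4, 0⟩, ⟨2, 2⟩, ⟨4, 1⟩, ⟨0, 4⟩, ⟨1, 3⟩, ⟨0, 0⟩, ⟨0, 3⟩, ⟨3, 4⟩, ⟨3, 1⟩]⟩
def q3_12 : MatD 3 K25 := ⟨[⟨1, 2⟩, ⟨2, 2⟩, ⟨3, 4⟩, ⟨4, 1⟩, ⟨1, 0⟩, ⟨3, 2⟩, ⟨1, 4⟩, ⟨4, 4⟩, ⟨4, 3⟩]⟩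
def q3_13 : MatD 3 K25 := ⟨[⟨4, 3⟩, ⟨3, 3⟩, ⟨2, 1⟩, ⟨3, 0⟩, ⟨4, 1⟩, ⟨0, 4⟩, ⟨4, 4⟩, ⟨2, 3⟩, ⟨3, 3⟩]⟩
def q3_14 : MatD 3 K25 := ⟨[⟨1, 4⟩, ⟨1, 1⟩, ⟨0, 4⟩, ⟨0, 1⟩, ⟨3, 2⟩, ⟨0, 2⟩, ⟨3, 0⟩, ⟨2, 2⟩, ⟨2, 2⟩]⟩
def q3_15 : MatD 3 K25 := ⟨[⟨3, 1⟩, ⟨0, 3⟩, ⟨3, 4⟩, ⟨0, 4⟩, ⟨2, 3⟩, ⟨0, 3⟩, ⟨3, 2⟩, ⟨1, 2⟩, ⟨3, 4⟩]⟩
def q3_16 : MatD 3 K25 := ⟨[⟨2, 2⟩, ⟨0, 0⟩, ⟨0, 0⟩, ⟨0, 0⟩, ⟨2, 2⟩, ⟨0, 0⟩, ⟨0, 0⟩, ⟨0, 0⟩, ⟨2, 2⟩]⟩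
theorem s3_1 : (MatD.one : MatD 3 K25).mul (dlM DU DU' (U35PB126.dec 2)) = q3_1 := by decide +kernel
theorem s3_2 : (q3_1 : MatD 3 K25).mul (dlM DU DU' (U35PB126.dec 0)) = q3_2 := by decide +kernel
theorem s3_3 : (q3_2 : MatD 3 K25).mul (dlM DU DU' (U35PB126.dec 2)) = q3_3 := by decide +kernel
theorem s3_4 : (q3_3 : MatD 3 K25).mul (dlM DU DU' (U35PB126.dec 0)) = q3_4 := by decide +kernel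
theorem s3_5 : (q3_4 : MatD 3 K25).mul (dlM DU DU' (U35PB126.dec 2)) = q3_5 := by decide +kernel
theorem s3_6 : (q3_5 : MatD 3 K25).mul (dlM DU DU' (U35PB126.dec 0)) = q3_6 := by decide +kernel
theorem s3_7 : (q3_6 : MatD 3 K25).mul (dlM DU DU' (U35PB126.dec 2)) = q3_7 := by decide +kernel
theorem s3_8 : (q3_7 : MatD 3 K25).mul (dlM DU DU' (U35PB126.dec 0)) = q3_8 := by decide +kernel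
theorem s3_9 : (q3_8 : MatD 3 K25).mul (dlM DU DU' (U35PB126.dec 2)) = q3_9 := by decide +kernel
theorem s3_10 : (q3_9 : MatD 3 K25).mul (dlM DU DU' (U35PB126.dec 0)) = q3_10 := by decide +kernel
theorem s3_11 : (q3_10 : MatD 3 K25).mul (dlM DU DU' (U35PB126.dec 2)) = q3_11 := by decide +kernel
theorem s3_12 : (q3_11 : MatD 3 K25).mul (dlM DU DU' (U35PB126.dec 0)) = q3_12 := by decide +kernel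
theorem s3_13 : (q3_12 : MatD 3 K25).mul (dlM DU DU' (U35PB126.dec 2)) = q3_13 := by decide +kernel
theorem s3_14 : (q3_13 : MatD 3 K25).mul (dlM DU DU' (U35PB126.dec 0)) = q3_14 := by decide +kernel
theorem s3_15 : (q3_14 : MatD 3 K25).mul (dlM DU DU' (U35PB126.dec 2)) = q3_15 := by decide +kernel
theorem s3_16 : (q3_15 : MatD 3 K25).mul (dlM DU DU' (U35PB126.dec 0)) = q3_16 := by decide +kernel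
theorem r3 : MatD.evM (dlM DU DU') (([0, 2, 0, 2, 0, 2, 0, 2, 0, 2, 0, 2, 0, 2, 0, 2] : List ℕ).map U35PB126.dec) = q3_16 := by
  refine evM_step s3_16 ?_
  refine evM_step s3_15 ?_
  refine evM_step s3_14 ?_
  refine evM_step s3_13 ?_
  refine evM_step s3_12 ?_
  refine evM_step s3_11 ?_
  refine evM_step s3_10 ?_
  refine evM_step s3_9 ?_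
  refine evM_step s3_8 ?_
  refine evM_step s3_7 ?_
  refine evM_step s3_6 ?_
  refine evM_step s3_5 ?_
  refine evM_step s3_4 ?_
  refine evM_step s3_3 ?_
  refine evM_step s3_2 ?_
  refine evM_step s3_1 ?_
  rfl
theorem c3 : isScalQ (MatD.evM (dlM DU DU') (([0, 2, 0, 2, 0, 2, 0, 2, 0, 2, 0, 2, 0, 2, 0, 2] : List ℕ).map U35PB126.dec)) = true := by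
  rw [r3]; decide +kernel

def q4_1 : MatD 3 K25 := ⟨[⟨1, 0⟩, ⟨3, 2⟩, ⟨4, 4⟩, ⟨3, 3⟩, ⟨2, 0⟩, ⟨3, 2⟩, ⟨4, 1⟩, ⟨3, 3⟩, ⟨1, 0⟩]⟩
def q4_2 : MatD 3 K25 := ⟨[⟨1, 4⟩, ⟨1, 3⟩, ⟨1, 1⟩, ⟨3, 0⟩, ⟨3, 2⟩, ⟨1, 0⟩, ⟨4, 2⟩, ⟨2, 1⟩, ⟨1, 0⟩]⟩
def q4_3 : MatD 3 K25 := ⟨[⟨2, 3⟩, ⟨1, 4⟩, ⟨2, 2⟩, ⟨1, 3⟩, ⟨3, 3⟩, ⟨3, 1⟩, ⟨3, 4⟩, ⟨2, 3⟩, ⟨4, 2⟩]⟩
def q4_4 : MatD 3 K25 := ⟨[⟨0, 1⟩, ⟨3, 1⟩, ⟨3, 3⟩, ⟨0, 0⟩, ⟨2, 4⟩, ⟨1, 1⟩, ⟨0, 4⟩, ⟨3, 1⟩, ⟨3, 3⟩]⟩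
def q4_5 : MatD 3 K25 := ⟨[⟨3, 1⟩, ⟨4, 1⟩, ⟨0, 0⟩, ⟨4, 3⟩, ⟨4, 1⟩, ⟨3, 0⟩, ⟨2, 2⟩, ⟨1, 3⟩, ⟨2, 4⟩]⟩
def q4_6 : MatD 3 K25 := ⟨[⟨4, 3⟩, ⟨0, 4⟩, ⟨0, 0⟩, ⟨2, 0⟩, ⟨1, 1⟩, ⟨1, 2⟩, ⟨1, 1⟩, ⟨4, 1⟩, ⟨0, 1⟩]⟩
def q4_7 : MatD 3 K25 := ⟨[⟨3, 0⟩, ⟨4, 0⟩, ⟨1, 0⟩, ⟨4, 0⟩, ⟨3, 0⟩, ⟨1, 0⟩, ⟨1, 0⟩, ⟨1, 0⟩, ⟨3, 0⟩]⟩
def q4_8 : MatD 3 K25 := ⟨[⟨3, 1⟩, ⟨3, 2⟩, ⟨0, 1⟩, ⟨2, 1⟩, ⟨0, 1⟩, ⟨4, 0⟩, ⟨0, 2⟩, ⟨0, 2⟩, ⟨2, 4⟩]⟩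
def q4_9 : MatD 3 K25 := ⟨[⟨0, 2⟩, ⟨2, 1⟩, ⟨3, 1⟩, ⟨0, 0⟩, ⟨0, 1⟩, ⟨1, 3⟩, ⟨1, 1⟩, ⟨3, 2⟩, ⟨4, 0⟩]⟩
def q4_10 : MatD 3 K25 := ⟨[⟨1, 4⟩, ⟨0, 1⟩, ⟨3, 0⟩, ⟨1, 1⟩, ⟨3, 0⟩, ⟨4, 2⟩, ⟨0, 1⟩, ⟨3, 0⟩, ⟨1, 4⟩]⟩
def q4_11 : MatD 3 K25 := ⟨[⟨2, 4⟩, ⟨0, 2⟩, ⟨0, 2⟩, ⟨1, 0⟩, ⟨2, 2⟩, ⟨1, 1⟩, ⟨1, 2⟩, ⟨0, 4⟩, ⟨0, 0⟩]⟩
def q4_12 : MatD 3 K25 := ⟨[⟨4, 2⟩, ⟨2, 0⟩, ⟨1, 4⟩, ⟨0, 1⟩, ⟨1, 4⟩, ⟨4, 4⟩, ⟨0, 0⟩, ⟨1, 3⟩, ⟨0, 4⟩]⟩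
def q4_13 : MatD 3 K25 := ⟨[⟨2, 0⟩, ⟨1, 4⟩, ⟨4, 2⟩, ⟨1, 1⟩, ⟨2, 0⟩, ⟨1, 2⟩, ⟨4, 3⟩, ⟨1, 3⟩, ⟨0, 0⟩]⟩
def q4_14 : MatD 3 K25 := ⟨[⟨1, 1⟩, ⟨2, 2⟩, ⟨1, 0⟩, ⟨3, 2⟩, ⟨1, 2⟩, ⟨2, 4⟩, ⟨4, 0⟩, ⟨3, 4⟩, ⟨1, 2⟩]⟩
def q4_15 : MatD 3 K25 := ⟨[⟨2, 3⟩, ⟨2, 0⟩, ⟨2, 2⟩, ⟨0, 2⟩, ⟨2, 1⟩, ⟨2, 4⟩, ⟨1, 3⟩, ⟨0, 0⟩, ⟨0, 1⟩]⟩
def q4_16 : MatD 3 K25 := ⟨[⟨1, 3⟩, ⟨1, 1⟩, ⟨3, 0⟩, ⟨4, 1⟩, ⟨1, 1⟩, ⟨1, 2⟩, ⟨2, 0⟩, ⟨4, 2⟩, ⟨1, 1⟩]⟩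
def q4_17 : MatD 3 K25 := ⟨[⟨2, 1⟩, ⟨3, 1⟩, ⟨0, 2⟩, ⟨4, 3⟩, ⟨2, 2⟩, ⟨3, 1⟩, ⟨3, 3⟩, ⟨4, 2⟩, ⟨0, 2⟩]⟩
def q4_18 : MatD 3 K25 := ⟨[⟨1, 0⟩, ⟨0, 0⟩, ⟨0, 0⟩, ⟨0, 0⟩, ⟨1, 0⟩, ⟨0, 0⟩, ⟨0, 0⟩, ⟨0, 0⟩, ⟨1, 0⟩]⟩
theorem s4_1 : (MatD.one : MatD 3 K25).mul (dlM DU DU' (U35PB126.dec 2)) = q4_1 := by decide +kernel
theorem s4_2 : (q4_1 : MatD 3 K25).mul (dlM DU DU' (U35PB126.dec 0)) = q4_2 := by decide +kernel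
theorem s4_3 : (q4_2 : MatD 3 K25).mul (dlM DU DU' (U35PB126.dec 0)) = q4_3 := by decide +kernel
theorem s4_4 : (q4_3 : MatD 3 K25).mul (dlM DU DU' (U35PB126.dec 0)) = q4_4 := by decide +kernel
theorem s4_5 : (q4_4 : MatD 3 K25).mul (dlM DU DU' (U35PB126.dec 0)) = q4_5 := by decide +kernel
theorem s4_6 : (q4_5 : MatD 3 K25).mul (dlM DU DU' (U35PB126.dec 0)) = q4_6 := by decide +kernel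
theorem s4_7 : (q4_6 : MatD 3 K25).mul (dlM DU DU' (U35PB126.dec 2)) = q4_7 := by decide +kernel
theorem s4_8 : (q4_7 : MatD 3 K25).mul (dlM DU DU' (U35PB126.dec 0)) = q4_8 := by decide +kernel
theorem s4_9 : (q4_8 : MatD 3 K25).mul (dlM DU DU' (U35PB126.dec 0)) = q4_9 := by decide +kernel
theorem s4_10 : (q4_9 : MatD 3 K25).mul (dlM DU DU' (U35PB126.dec 0)) = q4_10 := by decide +kernel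
theorem s4_11 : (q4_10 : MatD 3 K25).mul (dlM DU DU' (U35PB126.dec 0)) = q4_11 := by decide +kernel
theorem s4_12 : (q4_11 : MatD 3 K25).mul (dlM DU DU' (U35PB126.dec 0)) = q4_12 := by decide +kernel
theorem s4_13 : (q4_12 : MatD 3 K25).mul (dlM DU DU' (U35PB126.dec 2)) = q4_13 := by decide +kernel
theorem s4_14 : (q4_13 : MatD 3 K25).mul (dlM DU DU' (U35PB126.dec 0)) = q4_14 := by decide +kernel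
theorem s4_15 : (q4_14 : MatD 3 K25).mul (dlM DU DU' (U35PB126.dec 0)) = q4_15 := by decide +kernel
theorem s4_16 : (q4_15 : MatD 3 K25).mul (dlM DU DU' (U35PB126.dec 0)) = q4_16 := by decide +kernel
theorem s4_17 : (q4_16 : MatD 3 K25).mul (dlM DU DU' (U35PB126.dec 0)) = q4_17 := by decide +kernel
theorem s4_18 : (q4_17 : MatD 3 K25).mul (dlM DU DU' (U35PB126.dec 0)) = q4_18 := by decide +kernel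
theorem r4 : MatD.evM (dlM DU DU') (([0, 0, 0, 0, 0, 2, 0, 0, 0, 0, 0, 2, 0, 0, 0, 0, 0, 2] : List ℕ).map U35PB126.dec) = q4_18 := by
  refine evM_step s4_18 ?_
  refine evM_step s4_17 ?_
  refine evM_step s4_16 ?_
  refine evM_step s4_15 ?_
  refine evM_step s4_14 ?_
  refine evM_step s4_13 ?_
  refine evM_step s4_12 ?_
  refine evM_step s4_11 ?_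
  refine evM_step s4_10 ?_
  refine evM_step s4_9 ?_
  refine evM_step s4_8 ?_
  refine evM_step s4_7 ?_
  refine evM_step s4_6 ?_
  refine evM_step s4_5 ?_
  refine evM_step s4_4 ?_
  refine evM_step s4_3 ?_
  refine evM_step s4_2 ?_
  refine evM_step s4_1 ?_
  rfl
theorem c4 : isScalQ (MatD.evM (dlM DU DU') (([0, 0, 0, 0, 0, 2, 0, 0, 0, 0, 0, 2, 0, 0, 0, 0, 0, 2] : List ℕ).map U35PB126.dec)) = true := by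
  rw [r4]; decide +kernel

def q5_1 : MatD 3 K25 := ⟨[⟨1, 0⟩, ⟨3, 2⟩, ⟨4, 4⟩, ⟨3, 3⟩, ⟨2, 0⟩, ⟨3, 2⟩, ⟨4, 1⟩, ⟨3, 3⟩, ⟨1, 0⟩]⟩
def q5_2 : MatD 3 K25 := ⟨[⟨2, 2⟩, ⟨4, 0⟩, ⟨4, 4⟩, ⟨1, 0⟩, ⟨4, 0⟩, ⟨1, 4⟩, ⟨3, 0⟩, ⟨1, 1⟩, ⟨4, 2⟩]⟩
def q5_3 : MatD 3 K25 := ⟨[⟨3, 4⟩, ⟨3, 4⟩, ⟨0, 3⟩, ⟨0, 4⟩, ⟨3, 2⟩, ⟨2, 1⟩, ⟨2, 3⟩, ⟨0, 1⟩, ⟨3, 4⟩]⟩
def q5_4 : MatD 3 K25 := ⟨[⟨2, 4⟩, ⟨2, 3⟩, ⟨4, 3⟩, ⟨3, 2⟩, ⟨3, 0⟩, ⟨1, 0⟩, ⟨0, 1⟩, ⟨2, 2⟩, ⟨3, 1⟩]⟩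
def q5_5 : MatD 3 K25 := ⟨[⟨4, 0⟩, ⟨2, 2⟩, ⟨1, 1⟩, ⟨1, 1⟩, ⟨4, 2⟩, ⟨4, 4⟩, ⟨1, 0⟩, ⟨2, 4⟩, ⟨0, 1⟩]⟩
def q5_6 : MatD 3 K25 := ⟨[⟨3, 2⟩, ⟨0, 3⟩, ⟨1, 2⟩, ⟨4, 4⟩, ⟨1, 3⟩, ⟨1, 1⟩, ⟨3, 2⟩, ⟨3, 3⟩, ⟨1, 1⟩]⟩
def q5_7 : MatD 3 K25 := ⟨[⟨3, 3⟩, ⟨2, 0⟩, ⟨2, 2⟩, ⟨2, 3⟩, ⟨2, 0⟩, ⟨4, 0⟩, ⟨4, 4⟩, ⟨4, 2⟩, ⟨2, 0⟩]⟩
def q5_8 : MatD 3 K25 := ⟨[⟨1, 4⟩, ⟨3, 2⟩, ⟨4, 0⟩, ⟨4, 3⟩, ⟨4, 0⟩, ⟨2, 4⟩, ⟨1, 4⟩, ⟨2, 0⟩, ⟨0, 1⟩]⟩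
def q5_9 : MatD 3 K25 := ⟨[⟨1, 3⟩, ⟨1, 1⟩, ⟨4, 4⟩, ⟨0, 0⟩, ⟨0, 1⟩, ⟨0, 1⟩, ⟨4, 3⟩, ⟨4, 1⟩, ⟨1, 4⟩]⟩
def q5_10 : MatD 3 K25 := ⟨[⟨4, 4⟩, ⟨3, 2⟩, ⟨4, 0⟩, ⟨3, 2⟩, ⟨1, 0⟩, ⟨4, 4⟩, ⟨4, 0⟩, ⟨4, 4⟩, ⟨2, 3⟩]⟩
def q5_11 : MatD 3 K25 := ⟨[⟨2, 1⟩, ⟨0, 4⟩, ⟨4, 0⟩, ⟨0, 4⟩, ⟨2, 0⟩, ⟨2, 0⟩, ⟨2, 2⟩, ⟨1, 1⟩, ⟨2, 3⟩]⟩
def q5_12 : MatD 3 K25 := ⟨[⟨2, 2⟩, ⟨2, 2⟩, ⟨1, 4⟩, ⟨4, 2⟩, ⟨1, 3⟩, ⟨0, 0⟩, ⟨0, 2⟩, ⟨0, 2⟩, ⟨3, 4⟩]⟩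
def q5_13 : MatD 3 K25 := ⟨[⟨1, 4⟩, ⟨2, 3⟩, ⟨3, 2⟩, ⟨1, 3⟩, ⟨4, 0⟩, ⟨2, 4⟩, ⟨1, 4⟩, ⟨1, 1⟩, ⟨4, 3⟩]⟩
def q5_14 : MatD 3 K25 := ⟨[⟨1, 3⟩, ⟨2, 3⟩, ⟨2, 1⟩, ⟨2, 2⟩, ⟨2, 1⟩, ⟨0, 4⟩, ⟨3, 1⟩, ⟨4, 3⟩, ⟨2, 3⟩]⟩
def q5_15 : MatD 3 K25 := ⟨[⟨0, 4⟩, ⟨1, 1⟩, ⟨3, 0⟩, ⟨2, 2⟩, ⟨2, 4⟩, ⟨4, 2⟩, ⟨2, 1⟩, ⟨0, 0⟩, ⟨1, 1⟩]⟩
def q5_16 : MatD 3 K25 := ⟨[⟨2, 4⟩, ⟨1, 2⟩, ⟨1, 0⟩, ⟨4, 1⟩, ⟨4, 1⟩, ⟨0, 1⟩, ⟨0, 0⟩, ⟨1, 1⟩, ⟨3, 1⟩]⟩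
def q5_17 : MatD 3 K25 := ⟨[⟨1, 4⟩, ⟨2, 3⟩, ⟨2, 2⟩, ⟨4, 0⟩, ⟨0, 1⟩, ⟨0, 2⟩, ⟨3, 3⟩, ⟨2, 4⟩, ⟨0, 1⟩]⟩
def q5_18 : MatD 3 K25 := ⟨[⟨1, 0⟩, ⟨4, 4⟩, ⟨2, 3⟩, ⟨3, 4⟩, ⟨3, 1⟩, ⟨0, 2⟩, ⟨4, 3⟩, ⟨0, 0⟩, ⟨4, 2⟩]⟩
def q5_19 : MatD 3 K25 := ⟨[⟨4, 3⟩, ⟨1, 4⟩, ⟨1, 1⟩, ⟨2, 0⟩, ⟨1, 4⟩, ⟨0, 1⟩, ⟨4, 4⟩, ⟨1, 2⟩, ⟨1, 4⟩]⟩
def q5_20 : MatD 3 K25 := ⟨[⟨3, 1⟩, ⟨0, 3⟩, ⟨3, 4⟩, ⟨0, 4⟩, ⟨2, 3⟩, ⟨0, 3⟩, ⟨3, 2⟩, ⟨1, 2⟩, ⟨3, 4⟩]⟩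
def q5_21 : MatD 3 K25 := ⟨[⟨2, 2⟩, ⟨0, 0⟩, ⟨0, 0⟩, ⟨0, 0⟩, ⟨2, 2⟩, ⟨0, 0⟩, ⟨0, 0⟩, ⟨0, 0⟩, ⟨2, 2⟩]⟩
theorem s5_1 : (MatD.one : MatD 3 K25).mul (dlM DU DU' (U35PB126.dec 2)) = q5_1 := by decide +kernel
theorem s5_2 : (q5_1 : MatD 3 K25).mul (dlM DU DU' (U35PB126.dec 1)) = q5_2 := by decide +kernel
theorem s5_3 : (q5_2 : MatD 3 K25).mul (dlM DU DU' (U35PB126.dec 2)) = q5_3 := by decide +kernel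
theorem s5_4 : (q5_3 : MatD 3 K25).mul (dlM DU DU' (U35PB126.dec 0)) = q5_4 := by decide +kernel
theorem s5_5 : (q5_4 : MatD 3 K25).mul (dlM DU DU' (U35PB126.dec 0)) = q5_5 := by decide +kernel
theorem s5_6 : (q5_5 : MatD 3 K25).mul (dlM DU DU' (U35PB126.dec 2)) = q5_6 := by decide +kernel
theorem s5_7 : (q5_6 : MatD 3 K25).mul (dlM DU DU' (U35PB126.dec 1)) = q5_7 := by decide +kernel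
theorem s5_8 : (q5_7 : MatD 3 K25).mul (dlM DU DU' (U35PB126.dec 2)) = q5_8 := by decide +kernel
theorem s5_9 : (q5_8 : MatD 3 K25).mul (dlM DU DU' (U35PB126.dec 1)) = q5_9 := by decide +kernel
theorem s5_10 : (q5_9 : MatD 3 K25).mul (dlM DU DU' (U35PB126.dec 2)) = q5_10 := by decide +kernel
theorem s5_11 : (q5_10 : MatD 3 K25).mul (dlM DU DU' (U35PB126.dec 1)) = q5_11 := by decide +kernel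
theorem s5_12 : (q5_11 : MatD 3 K25).mul (dlM DU DU' (U35PB126.dec 2)) = q5_12 := by decide +kernel
theorem s5_13 : (q5_12 : MatD 3 K25).mul (dlM DU DU' (U35PB126.dec 0)) = q5_13 := by decide +kernel
theorem s5_14 : (q5_13 : MatD 3 K25).mul (dlM DU DU' (U35PB126.dec 0)) = q5_14 := by decide +kernel
theorem s5_15 : (q5_14 : MatD 3 K25).mul (dlM DU DU' (U35PB126.dec 2)) = q5_15 := by decide +kernel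
theorem s5_16 : (q5_15 : MatD 3 K25).mul (dlM DU DU' (U35PB126.dec 1)) = q5_16 := by decide +kernel
theorem s5_17 : (q5_16 : MatD 3 K25).mul (dlM DU DU' (U35PB126.dec 2)) = q5_17 := by decide +kernel
theorem s5_18 : (q5_17 : MatD 3 K25).mul (dlM DU DU' (U35PB126.dec 0)) = q5_18 := by decide +kernel
theorem s5_19 : (q5_18 : MatD 3 K25).mul (dlM DU DU' (U35PB126.dec 0)) = q5_19 := by decide +kernel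
theorem s5_20 : (q5_19 : MatD 3 K25).mul (dlM DU DU' (U35PB126.dec 0)) = q5_20 := by decide +kernel
theorem s5_21 : (q5_20 : MatD 3 K25).mul (dlM DU DU' (U35PB126.dec 0)) = q5_21 := by decide +kernel
theorem r5 : MatD.evM (dlM DU DU') (([0, 0, 0, 0, 2, 1, 2, 0, 0, 2, 1, 2, 1, 2, 1, 2, 0, 0, 2, 1, 2] : List ℕ).map U35PB126.dec) = q5_21 := by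
  refine evM_step s5_21 ?_
  refine evM_step s5_20 ?_
  refine evM_step s5_19 ?_
  refine evM_step s5_18 ?_
  refine evM_step s5_17 ?_
  refine evM_step s5_16 ?_
  refine evM_step s5_15 ?_
  refine evM_step s5_14 ?_
  refine evM_step s5_13 ?_
  refine evM_step s5_12 ?_
  refine evM_step s5_11 ?_
  refine evM_step s5_10 ?_
  refine evM_step s5_9 ?_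
  refine evM_step s5_8 ?_
  refine evM_step s5_7 ?_
  refine evM_step s5_6 ?_
  refine evM_step s5_5 ?_
  refine evM_step s5_4 ?_
  refine evM_step s5_3 ?_
  refine evM_step s5_2 ?_
  refine evM_step s5_1 ?_
  rfl
theorem c5 : isScalQ (MatD.evM (dlM DU DU') (([0, 0, 0, 0, 2, 1, 2, 0, 0, 2, 1, 2, 1, 2, 1, 2, 0, 0, 2, 1, 2] : List ℕ).map U35PB126.dec)) = true := by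
  rw [r5]; decide +kernel

theorem hchkU : ∀ b ∈ U35PB126.bases, isScalQ (MatD.evM (dlM DU DU') (b.map U35PB126.dec)) = true := by
  unfold U35PB126.bases
  refine List.forall_mem_cons.2 ⟨c0, ?_⟩
  refine List.forall_mem_cons.2 ⟨c1, ?_⟩
  refine List.forall_mem_cons.2 ⟨c2, ?_⟩
  refine List.forall_mem_cons.2 ⟨c3, ?_⟩
  refine List.forall_mem_cons.2 ⟨c4, ?_⟩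
  refine List.forall_mem_cons.2 ⟨c5, ?_⟩
  exact fun _ h => absurd h List.not_mem_nil

theorem hncU : ((DU .a).mul (DU .b)).entry 0 0 ≠ ((DU .b).mul (DU .a)).entry 0 0 := by
  decide +kernel

abbrev PSU3 : Type := Cfsg.PSU 3 K25 5

theorem card_psu : Nat.card PSU3 = 126000 := by
  have h := Cfsg.Agent.S0280.result (F := K25) (q := 5) k25_card 3 (by norm_num)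
  have e2 : 5 ^ (3 * (3 - 1) / 2) * ∏ i ∈ Finset.range 3,
      (if Even i then 5 ^ (i + 1) + 1 else 5 ^ (i + 1) - 1) = 2268000 := by
    decide
  rw [e2] at h
  have h' : 3 * (6 * Nat.card PSU3) = 2268000 := h
  omega

theorem iso_su : Nonempty (PresentedGroup U35PS.Rset ≃* PSU3) := by
  haveI : IsSimpleGroup (PresentedGroup U35PS.Rset) := U35PS.main.1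
  haveI : Finite (PresentedGroup U35PS.Rset) := U35PS.card_top.1
  obtain ⟨φ, hφ⟩ := exists_hom_psuQ k25_card DU DU' hinvU hdetU hunitU U35PS.Rset U35PB126.dec U35PB126.bases
    U35PB126.hR1 hchkU
  have hne : φ (PresentedGroup.of .a) ≠ 1 := by
    intro h
    rw [hφ] at h
    exact suOfQ_not_mem_center k25_card DU hdetU hunitU .a .b 0 0 hncU ((QuotientGroup.eq_one_iff _).mp h)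
  have hinj : Function.Injective φ := by
    rw [← MonoidHom.ker_eq_bot_iff]
    rcases IsSimpleGroup.eq_bot_or_eq_top_of_normal φ.ker inferInstance with h | h
    · exact h
    · exfalso
      apply hne
      have : PresentedGroup.of .a ∈ φ.ker := by rw [h]; trivial
      exact this
  haveI : Finite PSU3 := Nat.finite_of_card_ne_zero (by rw [card_psu]; norm_num)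
  have hb : Function.Bijective φ := by
    rw [Nat.bijective_iff_injective_and_card]
    exact ⟨hinj, U35PS.main.2.trans card_psu.symm⟩
  exact ⟨MulEquiv.ofBijective φ hb⟩

/-- over an arbitrary field with 25 elements -/
theorem iso_su_field {K : Type*} [Field K] [Fintype K] (hK : Fintype.card K = 25) :
    Nonempty (PresentedGroup U35PS.Rset ≃* Cfsg.PSU 3 K 5) := by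
  obtain ⟨e⟩ := iso_su
  have eK : K25 ≃+* K := FiniteField.ringEquivOfCardEq (by rw [card_K25, hK])
  exact ⟨e.trans (Cfsg.Agent.Lib.Helper6.SUTransport.psuEquiv eK)⟩

end Cfsg.Agent.Helper4.TC.U35Iso
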