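import Cfsg.Agent.Lib.Helper4.TC.Std
import Cfsg.Agent.Lib.Helper4.TC.U35PB126Fin
import Cfsg.Agent.Lib.Helper4.TC.U35PB126CM
import Cfsg.Agent.Lib.Helper4.TC.U35PB126CE0
import Cfsg.Agent.Lib.Helper4.TC.U35PB126CE1
import Cfsg.Agent.Lib.Helper4.TC.U35PB126CE2
import Cfsg.Agent.Lib.Helper4.TC.U35PB126CE3
import Cfsg.Agent.Lib.Helper4.TC.U35PB126CF0
import Cfsg.Agent.Lib.Helper4.TC.U35PB126MC0
import Cfsg.Agent.Lib.Helper4.TC.PresU35

set_option autoImplicit false
set_option maxRecDepth 100000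
set_option linter.unusedVariables false

namespace Cfsg.Agent.Helper4.TC.U35PB126

open Cfsg.Agent.Helper4.TC

def gens : List Cfsg.Agent.Helper4.Pres.U35.Gen := [.b, .a]

abbrev dec : ℕ → Letter Cfsg.Agent.Helper4.Pres.U35.Gen := stdDec gens .b
abbrev enc : Cfsg.Agent.Helper4.Pres.U35.Gen → ℕ := stdEnc gens

theorem coding : Coding dec enc 4 :=
  std_coding gens .b (by decide) (by intro x; cases x <;> decide) 4 (by decide)

theorem allE0 : ∀ k, k < 2048 → justE data 0 k = true := by
  intro k hk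
  exact edgeRange_sound data 0 2048 0 e0_c0 k (by omega) (by omega)

theorem allE1 : ∀ k, k < 2048 → justE data 1 k = true := by
  intro k hk
  exact edgeRange_sound data 1 2048 0 e1_c0 k (by omega) (by omega)

theorem allE2 : ∀ k, k < 2048 → justE data 2 k = true := by
  intro k hk
  exact edgeRange_sound data 2 2048 0 e2_c0 k (by omega) (by omega)

theorem allE3 : ∀ k, k < 2048 → justE data 3 k = true := by
  intro k hk
  exact edgeRange_sound data 3 2048 0 e3_c0 k (by omega) (by omega)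

theorem allE : ∀ c k, c < data.nc → k ≤ data.mask → justE data c k = true := by
  intro c k hc hk
  have hc' : c < 4 := hc
  have hk' : k < 2048 := Nat.lt_succ_of_le hk
  interval_cases c
  · exact allE0 k hk'
  · exact allE1 k hk'
  · exact allE2 k hk'
  · exact allE3 k hk'

theorem allM : ∀ k, k ≤ data.mask → justM data k = true := by
  intro k hk
  have hk' : k < 2048 := Nat.lt_succ_of_le hk
  exact mergeRange_sound data 2048 0 m_c0 k (by omega) (by omega)

theorem rows_all : ∀ k, k < M → isFinal data k = true → rowOK data M k data.nc = true := by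
  intro k hk
  have hk' : k < 175 := hk
  exact rowsRange_sound data M 175 0 rows0 k (by omega) (by omega)

theorem cnt_ok : countFinal data M 0 0 = n := by
  exact cnt0

abbrev Rset : Set (FreeGroup Cfsg.Agent.Helper4.Pres.U35.Gen) := Cfsg.Spor.coxRelators Cfsg.Agent.Helper4.Pres.U35.edges ∪ {r | r ∈ Cfsg.Agent.Helper4.Pres.U35.extra}
abbrev Sset : Set (FreeGroup Cfsg.Agent.Helper4.Pres.U35.Gen) := {Cfsg.Agent.Helper4.Pres.U35.b, Cfsg.Agent.Helper4.Pres.U35.a * Cfsg.Agent.Helper4.Pres.U35.b⁻¹ * Cfsg.Agent.Helper4.Pres.U35.b⁻¹ * Cfsg.Agent.Helper4.Pres.U35.a * Cfsg.Agent.Helper4.Pres.U35.b * Cfsg.Agent.Helper4.Pres.U35.b * Cfsg.Agent.Helper4.Pres.U35.b * Cfsg.Agent.Helper4.Pres.U35.b * Cfsg.Agent.Helper4.Pres.U35.a}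
def SL : List (FreeGroup Cfsg.Agent.Helper4.Pres.U35.Gen) := [Cfsg.Agent.Helper4.Pres.U35.b, Cfsg.Agent.Helper4.Pres.U35.a * Cfsg.Agent.Helper4.Pres.U35.b⁻¹ * Cfsg.Agent.Helper4.Pres.U35.b⁻¹ * Cfsg.Agent.Helper4.Pres.U35.a * Cfsg.Agent.Helper4.Pres.U35.b * Cfsg.Agent.Helper4.Pres.U35.b * Cfsg.Agent.Helper4.Pres.U35.b * Cfsg.Agent.Helper4.Pres.U35.b * Cfsg.Agent.Helper4.Pres.U35.a]

theorem mem_S (s : FreeGroup Cfsg.Agent.Helper4.Pres.U35.Gen) : s ∈ Sset ↔ s ∈ SL := by
  simp only [Sset, SL, Set.mem_insert_iff, Set.mem_singleton_iff, List.mem_cons, List.not_mem_nil, or_false]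

theorem hR1 : ∀ r ∈ Rset, ∃ b ∈ bases, r = wordF dec b := by
  intro r hr
  rw [mem_rels_iff] at hr
  revert r
  decide +kernel

theorem hR2 : ∀ b ∈ bases, wordF dec b ∈ Rset := by
  intro b hb
  rw [mem_rels_iff]
  revert b
  decide +kernel

theorem hS1 : ∀ s ∈ Sset, ∃ b ∈ subsL, s = wordF dec b := by
  intro s hs
  rw [mem_S] at hs
  revert s
  decide +kernel

theorem hS2 : ∀ b ∈ subsL, wordF dec b ∈ Sset := by
  intro b hb
  rw [mem_S]
  revert b
  decide +kernel

theorem bound : Finite (PresentedGroup Rset ⧸ (Subgroup.closure Sset).map (PresentedGroup.mk Rset)) ∧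
    Nat.card (PresentedGroup Rset ⧸ (Subgroup.closure Sset).map (PresentedGroup.mk Rset)) ≤ n :=
  tc_bound data bases subsL rots coding hR2 hS2 words_ok allE allM M n fin0_ok (by decide) (by decide) cnt_ok rows_all

theorem model_ok : ModelOK mdata bases subsL := by
  refine ⟨by decide, ?_, ?_, wordsLettersOK_sound _ _ relc_ok, wordsLettersOK_sound _ _ subc_ok,
    sub0OK_sound _ _ sub0_ok, ?_⟩
  · intro k hk
    have hk' : k < 126 := hk
    exact invRange_sound mdata 126 0 inv0 k (by omega) (by omega)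
  · intro k hk
    have hk' : k < 126 := hk
    exact relsRange_sound mdata bases 126 0 rel0 k (by omega) (by omega)
  · intro k h1 h2
    have h2' : k < 1 + (126 - 1) := h2
    exact treeRange_sound mdata 125 1 tree0 k (by omega) (by omega)

theorem orb1 : OrbOK mdata subsL 1 126 := by
  refine ⟨by decide, by decide, ?_, ?_⟩
  · intro k h1 h2
    exact closedRange_sound mdata subsL 1 126 125 1 closed1_0 k (by omega) (by omega)
  · intro k h1 h2
    exact reachRange_sound mdata subsL 1 124 2 reach1_0 k (by omega) (by omega)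

theorem main : ((Subgroup.closure Sset).map (PresentedGroup.mk Rset)).index = 126 ∧
    ∃ e : (PresentedGroup Rset ⧸ (Subgroup.closure Sset).map (PresentedGroup.mk Rset)) ≃ Fin 126,
      ∀ lo hi, OrbOK mdata subsL lo hi → ∀ q, (e q).val = lo →
        e '' (MulAction.orbit ((Subgroup.closure Sset).map (PresentedGroup.mk Rset)) q) =
          {x : Fin 126 | lo ≤ x.val ∧ x.val < hi} :=
  model_main mdata bases subsL coding hR1 hS1 hS2 model_ok bound

end Cfsg.Agent.Helper4.TC.U35PB126
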