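import Cfsg.Prelude.Def_SporCoxeter

set_option autoImplicit false

/-! A presentation of a simple group of order 3265920 on three generators. -/

namespace Cfsg.Agent.Helper4.Pres

namespace U43

inductive Gen
  | a
  | b
  | c
  deriving DecidableEq

abbrev a : FreeGroup Gen := FreeGroup.of Gen.a
abbrev b : FreeGroup Gen := FreeGroup.of Gen.b
abbrev c : FreeGroup Gen := FreeGroup.of Gen.c

def edges : List (Gen × ℕ × Gen) := []

def extra : List (FreeGroup Gen) := [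
  a * a,
  b * b * b * b * b,
  a * b * a * b * a * b * a * b * a * b * a * b * a * b * a * b * a * b,
  a⁻¹ * b⁻¹ * a * b * a⁻¹ * b⁻¹ * a * b * a⁻¹ * b⁻¹ * a * b,
  a⁻¹ * b⁻¹ * a⁻¹ * b⁻¹ * a * b * a * b * a⁻¹ * b⁻¹ * a⁻¹ * b⁻¹ * a * b * a * b,
  c * c * c * c * c * c * c,
  a * b * b * c⁻¹ * a * b * b * c⁻¹,
  a * c * c * a * b * a * c * c * a * b,
  a * c * a * c * a * c * a * c * a * c,
  a * c⁻¹ * b * b * a * c⁻¹ * b * b * a * c⁻¹ * b * b,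
  b * c * b * c * b * c * b * c * b * c * b * c,
  c * c * b * c * c * b⁻¹ * b⁻¹ * a * c⁻¹ * b⁻¹ * a * b * a,
  c⁻¹ * b⁻¹ * c * a * c⁻¹ * b * b * c⁻¹ * b * a * b * b * a,
  c * a * c⁻¹ * a * c * b⁻¹ * c * a * b⁻¹ * b⁻¹ * a * b⁻¹ * a,
  a * c * b * a * b⁻¹ * c⁻¹ * a * c * b * a * b⁻¹ * c * a * b ]

end U43

end Cfsg.Agent.Helper4.Pres
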