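import Cfsg.Agent.Lib.Helper4.TC.U43PSX
import Cfsg.Agent.Lib.Helper4.TC.U43PXB
import Cfsg.Agent.Lib.Helper4.TC.U43PZ1B
import Cfsg.Agent.Lib.Helper4.TC.U43PZ2B
import Cfsg.Agent.Lib.Helper4.TC.Blocks

set_option autoImplicit false
set_option maxRecDepth 100000
set_option linter.unusedVariables false

namespace Cfsg.Agent.Helper4.TC.U43PS

open Cfsg.Agent.Helper4.TC

abbrev dec := U43PCod.dec
abbrev Rset : Set (FreeGroup Cfsg.Agent.Helper4.Pres.U43.Gen) := Cfsg.Spor.coxRelators Cfsg.Agent.Helper4.Pres.U43.edges ∪ {r | r ∈ Cfsg.Agent.Helper4.Pres.U43.extra}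

theorem card1 : Finite (PresentedGroup (relSet dec U43PZ2.bases)) ∧ Nat.card (PresentedGroup (relSet dec U43PZ2.bases)) ≤ 5 := by
  refine stage_bot _ _ ?_ _ U43PZ2.bound
  rintro s ⟨b, hb, _⟩
  simp [U43PZ2.subsL] at hb

theorem card0 : Finite (PresentedGroup (relSet dec U43PZ1.bases)) ∧ Nat.card (PresentedGroup (relSet dec U43PZ1.bases)) ≤ 25920 := by
  have h := stage_bound (relSet dec U43PZ1.bases) (relSet dec U43PZ2.bases) (relSet dec U43PZ1.subsL) U43PZ1.bases U43PZ2.bases U43PZ1.subsL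
    (fun x : Cfsg.Agent.Helper4.Pres.U43.Gen => decide (x ∈ ([.b] : List Cfsg.Agent.Helper4.Pres.U43.Gen))) (mem_relSet _) (fun r hr => hr) (fun s hs => hs) (by decide +kernel) (by decide +kernel) U43PZ1.n 5 U43PZ1.bound card1
  exact ⟨h.1, h.2.trans (by decide)⟩

theorem card_top : Finite (PresentedGroup Rset) ∧ Nat.card (PresentedGroup Rset) ≤ 3265920 := by
  have h := stage_bound Rset (relSet dec U43PZ1.bases) U43PK126.Sset U43PK126.bases U43PZ1.bases U43PK126.subsL
    (fun x : Cfsg.Agent.Helper4.Pres.U43.Gen => decide (x ∈ ([.a, .b] : List Cfsg.Agent.Helper4.Pres.U43.Gen))) U43PK126.hR2 (fun r hr => hr) U43PK126.hS1 (by decide +kernel) (by decide +kernel) U43PK126.n 25920 U43PK126.bound card0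
  exact ⟨h.1, h.2.trans (by decide)⟩

theorem cardX : Finite (PresentedGroup (relSet dec U43PX.bases)) ∧ Nat.card (PresentedGroup (relSet dec U43PX.bases)) ≤ 1 := by
  refine stage_bot _ _ ?_ _ U43PX.bound
  rintro s ⟨b, hb, _⟩
  simp [U43PX.subsL] at hb

theorem hnc : Subgroup.normalClosure {PresentedGroup.mk Rset (wordF dec xw)} = ⊤ := by
  refine normalClosure_eq_top_of_trivial Rset (relSet dec U43PX.bases) (wordF dec xw) ?_ cardX
  rintro r ⟨b, hb, rfl⟩
  have hb' : b ∈ U43PK126.bases ++ [xw] := (by decide : U43PX.bases = U43PK126.bases ++ [xw]) ▸ hb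
  rcases List.mem_append.mp hb' with h | h
  · exact Or.inl (U43PK126.hR2 b h)
  · right
    rw [List.mem_singleton.mp h]

theorem hx : (PresentedGroup.mk Rset (wordF dec xw)) ^ 7 ^ 1 = 1 :=
  pow_eq_one_of_mem xw (7 ^ 1) (U43PK126.hR2 _ (by decide))

instance : Fact (Nat.Prime 7) := ⟨by norm_num⟩

theorem main : IsSimpleGroup (PresentedGroup Rset) ∧ Nat.card (PresentedGroup Rset) = 3265920 := by
  refine simple_card_blocks U43PK126.coding U43PK126.hR1 U43PK126.model_ok 3265920 card_top specs levels_ok ?_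
    [(1, 81), (81, 126)] (by decide) ?_ (by decide) 7 1 ?_ (by decide) xw 1 hx hnc
  · decide
  · intro r hr
    simp only [List.mem_cons, List.not_mem_nil, or_false] at hr
    rcases hr with rfl | rfl
    · exact U43PK126.orb1
    · exact U43PK126.orb2
  · exact factorization_of_eq _ 7 1 466560 (by norm_num) (by norm_num) (by norm_num)

end Cfsg.Agent.Helper4.TC.U43PS
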