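import Cfsg.Agent.Lib.Helper4.TC.MatPSU9
import Cfsg.Agent.Lib.Helper4.TC.MatChain
import Cfsg.Agent.Lib.Helper4.TC.U43PSMain
import Cfsg.Agent.Lib.Helper6.SUTransport
import Cfsg.Agent.S0280

set_option autoImplicit false
set_option maxRecDepth 100000
set_option maxHeartbeats 0
set_option linter.unusedVariables false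
set_option linter.style.haveILetI false

/-! The presented group `Pres.U43` is isomorphic to `PSU₄(3)`. -/

namespace Cfsg.Agent.Helper4.TC.U43Iso

open Cfsg.Agent.Helper4.TC Cfsg.Agent.Lib.Helper16.G168 Matrix

abbrev Gen := Cfsg.Agent.Helper4.Pres.U43.Gen

def uA : MatD 4 K9 := ⟨[⟨2, 0⟩, ⟨0, 2⟩, ⟨0, 0⟩, ⟨1, 1⟩, ⟨0, 1⟩, ⟨1, 0⟩, ⟨2, 2⟩, ⟨0, 0⟩, ⟨0, 0⟩, ⟨2, 1⟩, ⟨2, 0⟩, ⟨0, 1⟩, ⟨1, 2⟩, ⟨0, 0⟩, ⟨0, 2⟩, ⟨1, 0⟩]⟩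
def uA' : MatD 4 K9 := ⟨[⟨2, 0⟩, ⟨0, 2⟩, ⟨0, 0⟩, ⟨1, 1⟩, ⟨0, 1⟩, ⟨1, 0⟩, ⟨2, 2⟩, ⟨0, 0⟩, ⟨0, 0⟩, ⟨2, 1⟩, ⟨2, 0⟩, ⟨0, 1⟩, ⟨1, 2⟩, ⟨0, 0⟩, ⟨0, 2⟩, ⟨1, 0⟩]⟩
def uB : MatD 4 K9 := ⟨[⟨0, 0⟩, ⟨0, 0⟩, ⟨0, 0⟩, ⟨2, 0⟩, ⟨2, 2⟩, ⟨0, 0⟩, ⟨2, 1⟩, ⟨0, 0⟩, ⟨0, 1⟩, ⟨1, 1⟩, ⟨2, 0⟩, ⟨0, 0⟩, ⟨2, 0⟩, ⟨1, 2⟩, ⟨0, 2⟩, ⟨0, 0⟩]⟩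
def uB' : MatD 4 K9 := ⟨[⟨0, 0⟩, ⟨2, 1⟩, ⟨0, 2⟩, ⟨2, 0⟩, ⟨0, 0⟩, ⟨0, 0⟩, ⟨1, 2⟩, ⟨1, 1⟩, ⟨0, 0⟩, ⟨2, 2⟩, ⟨2, 0⟩, ⟨0, 1⟩, ⟨2, 0⟩, ⟨0, 0⟩, ⟨0, 0⟩, ⟨0, 0⟩]⟩
def uC : MatD 4 K9 := ⟨[⟨2, 0⟩, ⟨0, 0⟩, ⟨0, 0⟩, ⟨0, 0⟩, ⟨0, 0⟩, ⟨2, 1⟩, ⟨0, 1⟩, ⟨1, 0⟩, ⟨0, 0⟩, ⟨1, 0⟩, ⟨2, 2⟩, ⟨2, 0⟩, ⟨0, 0⟩, ⟨2, 0⟩, ⟨0, 1⟩, ⟨1, 2⟩]⟩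
def uC' : MatD 4 K9 := ⟨[⟨2, 0⟩, ⟨0, 0⟩, ⟨0, 0⟩, ⟨0, 0⟩, ⟨0, 0⟩, ⟨2, 2⟩, ⟨1, 0⟩, ⟨2, 0⟩, ⟨0, 0⟩, ⟨0, 2⟩, ⟨2, 1⟩, ⟨0, 2⟩, ⟨0, 0⟩, ⟨1, 0⟩, ⟨2, 0⟩, ⟨1, 1⟩]⟩

def DU : Gen → MatD 4 K9
  | .a => uA
  | .b => uB
  | .c => uC

def DU' : Gen → MatD 4 K9
  | .a => uA'
  | .b => uB'
  | .c => uC'

theorem hinvU : ∀ x, (DU x).mul (DU' x) = MatD.one := by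
  intro x; cases x <;> decide +kernel

theorem hunitU : ∀ x, (DU x).tr.mul ((DU x).mapE fun y => y ^ 3) = MatD.one := by
  intro x; cases x <;> decide +kernel

theorem hdet_aux : ∀ x : Gen,
    (DU x).entry 0 0 * ((DU x).entry 1 1 * (DU x).entry 2 2 * (DU x).entry 3 3 - (DU x).entry 1 1 * (DU x).entry 2 3 * (DU x).entry 3 2 - (DU x).entry 1 2 * (DU x).entry 2 1 * (DU x).entry 3 3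
        + (DU x).entry 1 2 * (DU x).entry 2 3 * (DU x).entry 3 1 + (DU x).entry 1 3 * (DU x).entry 2 1 * (DU x).entry 3 2 - (DU x).entry 1 3 * (DU x).entry 2 2 * (DU x).entry 3 1)
      - (DU x).entry 0 1 * ((DU x).entry 1 0 * (DU x).entry 2 2 * (DU x).entry 3 3 - (DU x).entry 1 0 * (DU x).entry 2 3 * (DU x).entry 3 2 - (DU x).entry 1 2 * (DU x).entry 2 0 * (DU x).entry 3 3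
        + (DU x).entry 1 2 * (DU x).entry 2 3 * (DU x).entry 3 0 + (DU x).entry 1 3 * (DU x).entry 2 0 * (DU x).entry 3 2 - (DU x).entry 1 3 * (DU x).entry 2 2 * (DU x).entry 3 0)
      + (DU x).entry 0 2 * ((DU x).entry 1 0 * (DU x).entry 2 1 * (DU x).entry 3 3 - (DU x).entry 1 0 * (DU x).entry 2 3 * (DU x).entry 3 1 - (DU x).entry 1 1 * (DU x).entry 2 0 * (DU x).entry 3 3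
        + (DU x).entry 1 1 * (DU x).entry 2 3 * (DU x).entry 3 0 + (DU x).entry 1 3 * (DU x).entry 2 0 * (DU x).entry 3 1 - (DU x).entry 1 3 * (DU x).entry 2 1 * (DU x).entry 3 0)
      - (DU x).entry 0 3 * ((DU x).entry 1 0 * (DU x).entry 2 1 * (DU x).entry 3 2 - (DU x).entry 1 0 * (DU x).entry 2 2 * (DU x).entry 3 1 - (DU x).entry 1 1 * (DU x).entry 2 0 * (DU x).entry 3 2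
        + (DU x).entry 1 1 * (DU x).entry 2 2 * (DU x).entry 3 0 + (DU x).entry 1 2 * (DU x).entry 2 0 * (DU x).entry 3 1 - (DU x).entry 1 2 * (DU x).entry 2 1 * (DU x).entry 3 0)
      = 1 := by
  intro x; cases x <;> decide +kernel

theorem hdetU : ∀ x, ((DU x).toMatE (Equiv.refl (Fin 4))).det = 1 := by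
  intro x
  rw [det_fin_four_h4]
  exact hdet_aux x

def q0_1 : MatD 4 K9 := ⟨[⟨2, 0⟩, ⟨0, 2⟩, ⟨0, 0⟩, ⟨1, 1⟩, ⟨0, 1⟩, ⟨1, 0⟩, ⟨2, 2⟩, ⟨0, 0⟩, ⟨0, 0⟩, ⟨2, 1⟩, ⟨2, 0⟩, ⟨0, 1⟩, ⟨1, 2⟩, ⟨0, 0⟩, ⟨0, 2⟩, ⟨1, 0⟩]⟩
def q0_2 : MatD 4 K9 := ⟨[⟨1, 0⟩, ⟨0, 0⟩, ⟨0, 0⟩, ⟨0, 0⟩, ⟨0, 0⟩, ⟨1, 0⟩, ⟨0, 0⟩, ⟨0, 0⟩, ⟨0, 0⟩, ⟨0, 0⟩, ⟨1, 0⟩, ⟨0, 0⟩, ⟨0, 0⟩, ⟨0, 0⟩, ⟨0, 0⟩, ⟨1, 0⟩]⟩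
theorem s0_1 : (MatD.one : MatD 4 K9).mul (dlM DU DU' (U43PK126.dec 0)) = q0_1 := by decide +kernel
theorem s0_2 : (q0_1 : MatD 4 K9).mul (dlM DU DU' (U43PK126.dec 0)) = q0_2 := by decide +kernel
theorem r0 : MatD.evM (dlM DU DU') (([0, 0] : List ℕ).map U43PK126.dec) = q0_2 := by
  refine evM_step s0_2 ?_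
  refine evM_step s0_1 ?_
  rfl
theorem c0 : isScal9 (MatD.evM (dlM DU DU') (([0, 0] : List ℕ).map U43PK126.dec)) = true := by
  rw [r0]; decide +kernel

def q1_1 : MatD 4 K9 := ⟨[⟨0, 0⟩, ⟨0, 0⟩, ⟨0, 0⟩, ⟨2, 0⟩, ⟨2, 2⟩, ⟨0, 0⟩, ⟨2, 1⟩, ⟨0, 0⟩, ⟨0, 1⟩, ⟨1, 1⟩, ⟨2, 0⟩, ⟨0, 0⟩, ⟨2, 0⟩, ⟨1, 2⟩, ⟨0, 2⟩, ⟨0, 0⟩]⟩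
def q1_2 : MatD 4 K9 := ⟨[⟨1, 0⟩, ⟨2, 1⟩, ⟨0, 1⟩, ⟨0, 0⟩, ⟨2, 2⟩, ⟨1, 0⟩, ⟨1, 2⟩, ⟨1, 1⟩, ⟨0, 0⟩, ⟨2, 2⟩, ⟨2, 0⟩, ⟨0, 2⟩, ⟨2, 0⟩, ⟨1, 2⟩, ⟨0, 0⟩, ⟨1, 0⟩]⟩
def q1_3 : MatD 4 K9 := ⟨[⟨1, 0⟩, ⟨2, 1⟩, ⟨0, 0⟩, ⟨2, 0⟩, ⟨2, 2⟩, ⟨1, 0⟩, ⟨2, 1⟩, ⟨1, 1⟩, ⟨0, 2⟩, ⟨1, 1⟩, ⟨2, 0⟩, ⟨0, 0⟩, ⟨0, 0⟩, ⟨1, 2⟩, ⟨0, 1⟩, ⟨1, 0⟩]⟩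
def q1_4 : MatD 4 K9 := ⟨[⟨0, 0⟩, ⟨2, 1⟩, ⟨0, 2⟩, ⟨2, 0⟩, ⟨0, 0⟩, ⟨0, 0⟩, ⟨1, 2⟩, ⟨1, 1⟩, ⟨0, 0⟩, ⟨2, 2⟩, ⟨2, 0⟩, ⟨0, 1⟩, ⟨2, 0⟩, ⟨0, 0⟩, ⟨0, 0⟩, ⟨0, 0⟩]⟩
def q1_5 : MatD 4 K9 := ⟨[⟨1, 0⟩, ⟨0, 0⟩, ⟨0, 0⟩, ⟨0, 0⟩, ⟨0, 0⟩, ⟨1, 0⟩, ⟨0, 0⟩, ⟨0, 0⟩, ⟨0, 0⟩, ⟨0, 0⟩, ⟨1, 0⟩, ⟨0, 0⟩, ⟨0, 0⟩, ⟨0, 0⟩, ⟨0, 0⟩, ⟨1, 0⟩]⟩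
theorem s1_1 : (MatD.one : MatD 4 K9).mul (dlM DU DU' (U43PK126.dec 2)) = q1_1 := by decide +kernel
theorem s1_2 : (q1_1 : MatD 4 K9).mul (dlM DU DU' (U43PK126.dec 2)) = q1_2 := by decide +kernel
theorem s1_3 : (q1_2 : MatD 4 K9).mul (dlM DU DU' (U43PK126.dec 2)) = q1_3 := by decide +kernel
theorem s1_4 : (q1_3 : MatD 4 K9).mul (dlM DU DU' (U43PK126.dec 2)) = q1_4 := by decide +kernel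
theorem s1_5 : (q1_4 : MatD 4 K9).mul (dlM DU DU' (U43PK126.dec 2)) = q1_5 := by decide +kernel
theorem r1 : MatD.evM (dlM DU DU') (([2, 2, 2, 2, 2] : List ℕ).map U43PK126.dec) = q1_5 := by
  refine evM_step s1_5 ?_
  refine evM_step s1_4 ?_
  refine evM_step s1_3 ?_
  refine evM_step s1_2 ?_
  refine evM_step s1_1 ?_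
  rfl
theorem c1 : isScal9 (MatD.evM (dlM DU DU') (([2, 2, 2, 2, 2] : List ℕ).map U43PK126.dec)) = true := by
  rw [r1]; decide +kernel

def q2_1 : MatD 4 K9 := ⟨[⟨2, 0⟩, ⟨0, 2⟩, ⟨0, 0⟩, ⟨1, 1⟩, ⟨0, 1⟩, ⟨1, 0⟩, ⟨2, 2⟩, ⟨0, 0⟩, ⟨0, 0⟩, ⟨2, 1⟩, ⟨2, 0⟩, ⟨0, 1⟩, ⟨1, 2⟩, ⟨0, 0⟩, ⟨0, 2⟩, ⟨1, 0⟩]⟩
def q2_2 : MatD 4 K9 := ⟨[⟨1, 0⟩, ⟨2, 0⟩, ⟨2, 0⟩, ⟨1, 0⟩, ⟨0, 1⟩, ⟨0, 1⟩, ⟨0, 2⟩, ⟨0, 2⟩, ⟨2, 1⟩, ⟨0, 0⟩, ⟨2, 1⟩, ⟨0, 0⟩, ⟨0, 0⟩, ⟨2, 1⟩, ⟨0, 0⟩, ⟨2, 1⟩]⟩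
def q2_3 : MatD 4 K9 := ⟨[⟨0, 1⟩, ⟨0, 1⟩, ⟨2, 0⟩, ⟨2, 0⟩, ⟨1, 1⟩, ⟨2, 2⟩, ⟨0, 0⟩, ⟨0, 0⟩, ⟨1, 2⟩, ⟨1, 2⟩, ⟨1, 2⟩, ⟨0, 2⟩, ⟨2, 1⟩, ⟨2, 1⟩, ⟨0, 1⟩, ⟨2, 1⟩]⟩
def q2_4 : MatD 4 K9 := ⟨[⟨2, 1⟩, ⟨1, 0⟩, ⟨0, 0⟩, ⟨0, 2⟩, ⟨0, 2⟩, ⟨0, 0⟩, ⟨2, 0⟩, ⟨2, 2⟩, ⟨2, 2⟩, ⟨1, 2⟩, ⟨1, 0⟩, ⟨2, 1⟩, ⟨2, 2⟩, ⟨2, 0⟩, ⟨1, 1⟩, ⟨1, 2⟩]⟩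
def q2_5 : MatD 4 K9 := ⟨[⟨0, 2⟩, ⟨2, 1⟩, ⟨1, 2⟩, ⟨1, 2⟩, ⟨1, 1⟩, ⟨0, 2⟩, ⟨0, 1⟩, ⟨0, 0⟩, ⟨2, 1⟩, ⟨2, 1⟩, ⟨1, 1⟩, ⟨2, 0⟩, ⟨1, 1⟩, ⟨2, 1⟩, ⟨2, 2⟩, ⟨0, 1⟩]⟩
def q2_6 : MatD 4 K9 := ⟨[⟨2, 2⟩, ⟨2, 1⟩, ⟨1, 1⟩, ⟨0, 1⟩, ⟨1, 1⟩, ⟨2, 1⟩, ⟨1, 0⟩, ⟨2, 2⟩, ⟨2, 1⟩, ⟨2, 0⟩, ⟨2, 1⟩, ⟨1, 2⟩, ⟨0, 1⟩, ⟨1, 2⟩, ⟨2, 2⟩, ⟨2, 2⟩]⟩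
def q2_7 : MatD 4 K9 := ⟨[⟨1, 1⟩, ⟨2, 2⟩, ⟨2, 2⟩, ⟨2, 0⟩, ⟨2, 1⟩, ⟨2, 1⟩, ⟨0, 1⟩, ⟨2, 2⟩, ⟨1, 2⟩, ⟨0, 2⟩, ⟨1, 2⟩, ⟨1, 1⟩, ⟨2, 0⟩, ⟨1, 2⟩, ⟨1, 2⟩, ⟨2, 2⟩]⟩
def q2_8 : MatD 4 K9 := ⟨[⟨2, 1⟩, ⟨2, 2⟩, ⟨0, 2⟩, ⟨2, 2⟩, ⟨2, 1⟩, ⟨0, 1⟩, ⟨2, 1⟩, ⟨1, 2⟩, ⟨2, 1⟩, ⟨1, 0⟩, ⟨1, 1⟩, ⟨2, 1⟩, ⟨0, 2⟩, ⟨0, 0⟩, ⟨1, 1⟩, ⟨1, 0⟩]⟩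
def q2_9 : MatD 4 K9 := ⟨[⟨0, 1⟩, ⟨1, 1⟩, ⟨2, 1⟩, ⟨1, 2⟩, ⟨0, 0⟩, ⟨1, 0⟩, ⟨1, 0⟩, ⟨1, 1⟩, ⟨1, 2⟩, ⟨0, 1⟩, ⟨2, 2⟩, ⟨2, 2⟩, ⟨1, 0⟩, ⟨0, 0⟩, ⟨2, 1⟩, ⟨1, 0⟩]⟩
def q2_10 : MatD 4 K9 := ⟨[⟨1, 1⟩, ⟨1, 1⟩, ⟨1, 1⟩, ⟨0, 2⟩, ⟨1, 2⟩, ⟨0, 1⟩, ⟨2, 0⟩, ⟨0, 0⟩, ⟨0, 2⟩, ⟨1, 1⟩, ⟨2, 1⟩, ⟨2, 1⟩, ⟨1, 2⟩, ⟨2, 2⟩, ⟨1, 1⟩, ⟨2, 0⟩]⟩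
def q2_11 : MatD 4 K9 := ⟨[⟨0, 2⟩, ⟨0, 0⟩, ⟨1, 0⟩, ⟨2, 2⟩, ⟨1, 1⟩, ⟨0, 2⟩, ⟨2, 2⟩, ⟨2, 2⟩, ⟨2, 1⟩, ⟨0, 2⟩, ⟨2, 1⟩, ⟨2, 2⟩, ⟨2, 1⟩, ⟨2, 1⟩, ⟨2, 2⟩, ⟨0, 1⟩]⟩
def q2_12 : MatD 4 K9 := ⟨[⟨1, 2⟩, ⟨2, 1⟩, ⟨1, 1⟩, ⟨0, 1⟩, ⟨1, 1⟩, ⟨1, 1⟩, ⟨1, 0⟩, ⟨2, 2⟩, ⟨2, 1⟩, ⟨2, 0⟩, ⟨1, 1⟩, ⟨1, 2⟩, ⟨0, 1⟩, ⟨1, 2⟩, ⟨2, 2⟩, ⟨1, 2⟩]⟩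
def q2_13 : MatD 4 K9 := ⟨[⟨2, 1⟩, ⟨2, 0⟩, ⟨2, 2⟩, ⟨1, 2⟩, ⟨2, 0⟩, ⟨1, 1⟩, ⟨1, 2⟩, ⟨2, 2⟩, ⟨1, 2⟩, ⟨1, 1⟩, ⟨2, 2⟩, ⟨1, 0⟩, ⟨1, 1⟩, ⟨1, 2⟩, ⟨1, 0⟩, ⟨1, 2⟩]⟩
def q2_14 : MatD 4 K9 := ⟨[⟨1, 1⟩, ⟨0, 2⟩, ⟨1, 2⟩, ⟨1, 2⟩, ⟨2, 0⟩, ⟨0, 0⟩, ⟨2, 2⟩, ⟨1, 0⟩, ⟨0, 0⟩, ⟨1, 0⟩, ⟨2, 0⟩, ⟨2, 1⟩, ⟨0, 2⟩, ⟨1, 2⟩, ⟨1, 1⟩, ⟨2, 2⟩]⟩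
def q2_15 : MatD 4 K9 := ⟨[⟨0, 0⟩, ⟨1, 0⟩, ⟨0, 1⟩, ⟨2, 2⟩, ⟨2, 2⟩, ⟨2, 1⟩, ⟨1, 0⟩, ⟨1, 1⟩, ⟨0, 0⟩, ⟨2, 2⟩, ⟨1, 0⟩, ⟨2, 0⟩, ⟨2, 2⟩, ⟨1, 2⟩, ⟨2, 0⟩, ⟨2, 2⟩]⟩
def q2_16 : MatD 4 K9 := ⟨[⟨2, 0⟩, ⟨0, 1⟩, ⟨1, 1⟩, ⟨0, 0⟩, ⟨1, 0⟩, ⟨0, 1⟩, ⟨0, 0⟩, ⟨1, 1⟩, ⟨1, 0⟩, ⟨0, 2⟩, ⟨1, 1⟩, ⟨0, 0⟩, ⟨2, 0⟩, ⟨0, 2⟩, ⟨0, 0⟩, ⟨1, 1⟩]⟩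
def q2_17 : MatD 4 K9 := ⟨[⟨0, 0⟩, ⟨1, 2⟩, ⟨0, 1⟩, ⟨1, 0⟩, ⟨0, 0⟩, ⟨0, 0⟩, ⟨2, 1⟩, ⟨2, 2⟩, ⟨0, 0⟩, ⟨1, 1⟩, ⟨1, 0⟩, ⟨0, 2⟩, ⟨1, 0⟩, ⟨0, 0⟩, ⟨0, 0⟩, ⟨0, 0⟩]⟩
def q2_18 : MatD 4 K9 := ⟨[⟨2, 0⟩, ⟨0, 0⟩, ⟨0, 0⟩, ⟨0, 0⟩, ⟨0, 0⟩, ⟨2, 0⟩, ⟨0, 0⟩, ⟨0, 0⟩, ⟨0, 0⟩, ⟨0, 0⟩, ⟨2, 0⟩, ⟨0, 0⟩, ⟨0, 0⟩, ⟨0, 0⟩, ⟨0, 0⟩, ⟨2, 0⟩]⟩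
theorem s2_1 : (MatD.one : MatD 4 K9).mul (dlM DU DU' (U43PK126.dec 0)) = q2_1 := by decide +kernel
theorem s2_2 : (q2_1 : MatD 4 K9).mul (dlM DU DU' (U43PK126.dec 2)) = q2_2 := by decide +kernel
theorem s2_3 : (q2_2 : MatD 4 K9).mul (dlM DU DU' (U43PK126.dec 0)) = q2_3 := by decide +kernel
theorem s2_4 : (q2_3 : MatD 4 K9).mul (dlM DU DU' (U43PK126.dec 2)) = q2_4 := by decide +kernel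
theorem s2_5 : (q2_4 : MatD 4 K9).mul (dlM DU DU' (U43PK126.dec 0)) = q2_5 := by decide +kernel
theorem s2_6 : (q2_5 : MatD 4 K9).mul (dlM DU DU' (U43PK126.dec 2)) = q2_6 := by decide +kernel
theorem s2_7 : (q2_6 : MatD 4 K9).mul (dlM DU DU' (U43PK126.dec 0)) = q2_7 := by decide +kernel
theorem s2_8 : (q2_7 : MatD 4 K9).mul (dlM DU DU' (U43PK126.dec 2)) = q2_8 := by decide +kernel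
theorem s2_9 : (q2_8 : MatD 4 K9).mul (dlM DU DU' (U43PK126.dec 0)) = q2_9 := by decide +kernel
theorem s2_10 : (q2_9 : MatD 4 K9).mul (dlM DU DU' (U43PK126.dec 2)) = q2_10 := by decide +kernel
theorem s2_11 : (q2_10 : MatD 4 K9).mul (dlM DU DU' (U43PK126.dec 0)) = q2_11 := by decide +kernel
theorem s2_12 : (q2_11 : MatD 4 K9).mul (dlM DU DU' (U43PK126.dec 2)) = q2_12 := by decide +kernel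
theorem s2_13 : (q2_12 : MatD 4 K9).mul (dlM DU DU' (U43PK126.dec 0)) = q2_13 := by decide +kernel
theorem s2_14 : (q2_13 : MatD 4 K9).mul (dlM DU DU' (U43PK126.dec 2)) = q2_14 := by decide +kernel
theorem s2_15 : (q2_14 : MatD 4 K9).mul (dlM DU DU' (U43PK126.dec 0)) = q2_15 := by decide +kernel
theorem s2_16 : (q2_15 : MatD 4 K9).mul (dlM DU DU' (U43PK126.dec 2)) = q2_16 := by decide +kernel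
theorem s2_17 : (q2_16 : MatD 4 K9).mul (dlM DU DU' (U43PK126.dec 0)) = q2_17 := by decide +kernel
theorem s2_18 : (q2_17 : MatD 4 K9).mul (dlM DU DU' (U43PK126.dec 2)) = q2_18 := by decide +kernel
theorem r2 : MatD.evM (dlM DU DU') (([2, 0, 2, 0, 2, 0, 2, 0, 2, 0, 2, 0, 2, 0, 2, 0, 2, 0] : List ℕ).map U43PK126.dec) = q2_18 := by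
  refine evM_step s2_18 ?_
  refine evM_step s2_17 ?_
  refine evM_step s2_16 ?_
  refine evM_step s2_15 ?_
  refine evM_step s2_14 ?_
  refine evM_step s2_13 ?_
  refine evM_step s2_12 ?_
  refine evM_step s2_11 ?_
  refine evM_step s2_10 ?_
  refine evM_step s2_9 ?_
  refine evM_step s2_8 ?_
  refine evM_step s2_7 ?_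
  refine evM_step s2_6 ?_
  refine evM_step s2_5 ?_
  refine evM_step s2_4 ?_
  refine evM_step s2_3 ?_
  refine evM_step s2_2 ?_
  refine evM_step s2_1 ?_
  rfl
theorem c2 : isScal9 (MatD.evM (dlM DU DU') (([2, 0, 2, 0, 2, 0, 2, 0, 2, 0, 2, 0, 2, 0, 2, 0, 2, 0] : List ℕ).map U43PK126.dec)) = true := by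
  rw [r2]; decide +kernel

def q3_1 : MatD 4 K9 := ⟨[⟨2, 0⟩, ⟨0, 2⟩, ⟨0, 0⟩, ⟨1, 1⟩, ⟨0, 1⟩, ⟨1, 0⟩, ⟨2, 2⟩, ⟨0, 0⟩, ⟨0, 0⟩, ⟨2, 1⟩, ⟨2, 0⟩, ⟨0, 1⟩, ⟨1, 2⟩, ⟨0, 0⟩, ⟨0, 2⟩, ⟨1, 0⟩]⟩
def q3_2 : MatD 4 K9 := ⟨[⟨2, 2⟩, ⟨1, 2⟩, ⟨2, 0⟩, ⟨2, 2⟩, ⟨0, 0⟩, ⟨2, 1⟩, ⟨0, 0⟩, ⟨2, 2⟩, ⟨0, 2⟩, ⟨1, 1⟩, ⟨1, 2⟩, ⟨1, 2⟩, ⟨2, 0⟩, ⟨2, 0⟩, ⟨2, 0⟩, ⟨0, 1⟩]⟩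
def q3_3 : MatD 4 K9 := ⟨[⟨0, 2⟩, ⟨1, 2⟩, ⟨1, 1⟩, ⟨2, 2⟩, ⟨0, 2⟩, ⟨2, 1⟩, ⟨1, 1⟩, ⟨2, 2⟩, ⟨2, 0⟩, ⟨0, 0⟩, ⟨1, 1⟩, ⟨0, 2⟩, ⟨2, 0⟩, ⟨0, 0⟩, ⟨0, 1⟩, ⟨2, 2⟩]⟩
def q3_4 : MatD 4 K9 := ⟨[⟨1, 2⟩, ⟨1, 2⟩, ⟨1, 2⟩, ⟨0, 1⟩, ⟨2, 2⟩, ⟨1, 2⟩, ⟨1, 1⟩, ⟨0, 1⟩, ⟨2, 2⟩, ⟨2, 1⟩, ⟨1, 2⟩, ⟨1, 0⟩, ⟨0, 1⟩, ⟨0, 1⟩, ⟨2, 0⟩, ⟨1, 0⟩]⟩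
def q3_5 : MatD 4 K9 := ⟨[⟨1, 0⟩, ⟨0, 0⟩, ⟨1, 1⟩, ⟨0, 2⟩, ⟨0, 0⟩, ⟨1, 0⟩, ⟨1, 2⟩, ⟨2, 0⟩, ⟨1, 2⟩, ⟨1, 1⟩, ⟨1, 0⟩, ⟨2, 2⟩, ⟨0, 1⟩, ⟨2, 0⟩, ⟨2, 1⟩, ⟨0, 0⟩]⟩
def q3_6 : MatD 4 K9 := ⟨[⟨0, 1⟩, ⟨2, 2⟩, ⟨2, 1⟩, ⟨1, 1⟩, ⟨1, 0⟩, ⟨1, 0⟩, ⟨0, 0⟩, ⟨2, 2⟩, ⟨1, 1⟩, ⟨2, 1⟩, ⟨0, 2⟩, ⟨2, 1⟩, ⟨0, 0⟩, ⟨1, 2⟩, ⟨1, 0⟩, ⟨1, 0⟩]⟩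
def q3_7 : MatD 4 K9 := ⟨[⟨0, 1⟩, ⟨0, 0⟩, ⟨2, 0⟩, ⟨2, 1⟩, ⟨0, 1⟩, ⟨1, 2⟩, ⟨1, 0⟩, ⟨0, 0⟩, ⟨1, 0⟩, ⟨1, 1⟩, ⟨0, 2⟩, ⟨0, 0⟩, ⟨2, 0⟩, ⟨0, 0⟩, ⟨0, 2⟩, ⟨1, 1⟩]⟩
def q3_8 : MatD 4 K9 := ⟨[⟨1, 1⟩, ⟨2, 1⟩, ⟨2, 1⟩, ⟨0, 2⟩, ⟨1, 1⟩, ⟨1, 1⟩, ⟨2, 2⟩, ⟨0, 2⟩, ⟨1, 1⟩, ⟨1, 2⟩, ⟨1, 1⟩, ⟨2, 0⟩, ⟨0, 2⟩, ⟨0, 2⟩, ⟨1, 0⟩, ⟨1, 0⟩]⟩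
def q3_9 : MatD 4 K9 := ⟨[⟨0, 0⟩, ⟨0, 1⟩, ⟨2, 2⟩, ⟨2, 0⟩, ⟨0, 2⟩, ⟨1, 0⟩, ⟨0, 2⟩, ⟨1, 0⟩, ⟨2, 1⟩, ⟨0, 1⟩, ⟨0, 0⟩, ⟨1, 0⟩, ⟨2, 0⟩, ⟨1, 0⟩, ⟨1, 0⟩, ⟨2, 0⟩]⟩
def q3_10 : MatD 4 K9 := ⟨[⟨1, 0⟩, ⟨0, 2⟩, ⟨2, 2⟩, ⟨0, 0⟩, ⟨2, 0⟩, ⟨0, 2⟩, ⟨0, 0⟩, ⟨2, 2⟩, ⟨2, 0⟩, ⟨0, 1⟩, ⟨2, 2⟩, ⟨0, 0⟩, ⟨1, 0⟩, ⟨0, 1⟩, ⟨0, 0⟩, ⟨2, 2⟩]⟩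
def q3_11 : MatD 4 K9 := ⟨[⟨0, 0⟩, ⟨2, 1⟩, ⟨0, 2⟩, ⟨2, 0⟩, ⟨0, 0⟩, ⟨0, 0⟩, ⟨1, 2⟩, ⟨1, 1⟩, ⟨0, 0⟩, ⟨2, 2⟩, ⟨2, 0⟩, ⟨0, 1⟩, ⟨2, 0⟩, ⟨0, 0⟩, ⟨0, 0⟩, ⟨0, 0⟩]⟩
def q3_12 : MatD 4 K9 := ⟨[⟨1, 0⟩, ⟨0, 0⟩, ⟨0, 0⟩, ⟨0, 0⟩, ⟨0, 0⟩, ⟨1, 0⟩, ⟨0, 0⟩, ⟨0, 0⟩, ⟨0, 0⟩, ⟨0, 0⟩, ⟨1, 0⟩, ⟨0, 0⟩, ⟨0, 0⟩, ⟨0, 0⟩, ⟨0, 0⟩, ⟨1, 0⟩]⟩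
theorem s3_1 : (MatD.one : MatD 4 K9).mul (dlM DU DU' (U43PK126.dec 1)) = q3_1 := by decide +kernel
theorem s3_2 : (q3_1 : MatD 4 K9).mul (dlM DU DU' (U43PK126.dec 3)) = q3_2 := by decide +kernel
theorem s3_3 : (q3_2 : MatD 4 K9).mul (dlM DU DU' (U43PK126.dec 0)) = q3_3 := by decide +kernel
theorem s3_4 : (q3_3 : MatD 4 K9).mul (dlM DU DU' (U43PK126.dec 2)) = q3_4 := by decide +kernel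
theorem s3_5 : (q3_4 : MatD 4 K9).mul (dlM DU DU' (U43PK126.dec 1)) = q3_5 := by decide +kernel
theorem s3_6 : (q3_5 : MatD 4 K9).mul (dlM DU DU' (U43PK126.dec 3)) = q3_6 := by decide +kernel
theorem s3_7 : (q3_6 : MatD 4 K9).mul (dlM DU DU' (U43PK126.dec 0)) = q3_7 := by decide +kernel
theorem s3_8 : (q3_7 : MatD 4 K9).mul (dlM DU DU' (U43PK126.dec 2)) = q3_8 := by decide +kernel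
theorem s3_9 : (q3_8 : MatD 4 K9).mul (dlM DU DU' (U43PK126.dec 1)) = q3_9 := by decide +kernel
theorem s3_10 : (q3_9 : MatD 4 K9).mul (dlM DU DU' (U43PK126.dec 3)) = q3_10 := by decide +kernel
theorem s3_11 : (q3_10 : MatD 4 K9).mul (dlM DU DU' (U43PK126.dec 0)) = q3_11 := by decide +kernel
theorem s3_12 : (q3_11 : MatD 4 K9).mul (dlM DU DU' (U43PK126.dec 2)) = q3_12 := by decide +kernel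
theorem r3 : MatD.evM (dlM DU DU') (([2, 0, 3, 1, 2, 0, 3, 1, 2, 0, 3, 1] : List ℕ).map U43PK126.dec) = q3_12 := by
  refine evM_step s3_12 ?_
  refine evM_step s3_11 ?_
  refine evM_step s3_10 ?_
  refine evM_step s3_9 ?_
  refine evM_step s3_8 ?_
  refine evM_step s3_7 ?_
  refine evM_step s3_6 ?_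
  refine evM_step s3_5 ?_
  refine evM_step s3_4 ?_
  refine evM_step s3_3 ?_
  refine evM_step s3_2 ?_
  refine evM_step s3_1 ?_
  rfl
theorem c3 : isScal9 (MatD.evM (dlM DU DU') (([2, 0, 3, 1, 2, 0, 3, 1, 2, 0, 3, 1] : List ℕ).map U43PK126.dec)) = true := by
  rw [r3]; decide +kernel

def q4_1 : MatD 4 K9 := ⟨[⟨2, 0⟩, ⟨0, 2⟩, ⟨0, 0⟩, ⟨1, 1⟩, ⟨0, 1⟩, ⟨1, 0⟩, ⟨2, 2⟩, ⟨0, 0⟩, ⟨0, 0⟩, ⟨2, 1⟩, ⟨2, 0⟩, ⟨0, 1⟩, ⟨1, 2⟩, ⟨0, 0⟩, ⟨0, 2⟩, ⟨1, 0⟩]⟩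
def q4_2 : MatD 4 K9 := ⟨[⟨2, 2⟩, ⟨1, 2⟩, ⟨2, 0⟩, ⟨2, 2⟩, ⟨0, 0⟩, ⟨2, 1⟩, ⟨0, 0⟩, ⟨2, 2⟩, ⟨0, 2⟩, ⟨1, 1⟩, ⟨1, 2⟩, ⟨1, 2⟩, ⟨2, 0⟩, ⟨2, 0⟩, ⟨2, 0⟩, ⟨0, 1⟩]⟩
def q4_3 : MatD 4 K9 := ⟨[⟨0, 2⟩, ⟨1, 2⟩, ⟨1, 1⟩, ⟨2, 2⟩, ⟨0, 2⟩, ⟨2, 1⟩, ⟨1, 1⟩, ⟨2, 2⟩, ⟨2, 0⟩, ⟨0, 0⟩, ⟨1, 1⟩, ⟨0, 2⟩, ⟨2, 0⟩, ⟨0, 0⟩, ⟨0, 1⟩, ⟨2, 2⟩]⟩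
def q4_4 : MatD 4 K9 := ⟨[⟨1, 1⟩, ⟨1, 2⟩, ⟨1, 0⟩, ⟨1, 2⟩, ⟨1, 1⟩, ⟨1, 2⟩, ⟨1, 1⟩, ⟨0, 2⟩, ⟨0, 1⟩, ⟨1, 0⟩, ⟨2, 0⟩, ⟨0, 1⟩, ⟨1, 1⟩, ⟨2, 1⟩, ⟨0, 0⟩, ⟨0, 0⟩]⟩
def q4_5 : MatD 4 K9 := ⟨[⟨0, 1⟩, ⟨1, 2⟩, ⟨2, 2⟩, ⟨1, 2⟩, ⟨2, 2⟩, ⟨0, 1⟩, ⟨2, 2⟩, ⟨2, 2⟩, ⟨1, 1⟩, ⟨0, 2⟩, ⟨1, 2⟩, ⟨2, 1⟩, ⟨1, 1⟩, ⟨0, 0⟩, ⟨2, 0⟩, ⟨0, 2⟩]⟩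
def q4_6 : MatD 4 K9 := ⟨[⟨1, 0⟩, ⟨0, 2⟩, ⟨0, 2⟩, ⟨0, 2⟩, ⟨0, 2⟩, ⟨1, 1⟩, ⟨2, 1⟩, ⟨1, 1⟩, ⟨1, 1⟩, ⟨2, 2⟩, ⟨1, 0⟩, ⟨2, 2⟩, ⟨0, 0⟩, ⟨1, 1⟩, ⟨0, 0⟩, ⟨2, 2⟩]⟩
def q4_7 : MatD 4 K9 := ⟨[⟨2, 2⟩, ⟨1, 2⟩, ⟨1, 2⟩, ⟨2, 0⟩, ⟨1, 2⟩, ⟨0, 2⟩, ⟨2, 2⟩, ⟨1, 2⟩, ⟨1, 1⟩, ⟨2, 2⟩, ⟨1, 0⟩, ⟨2, 2⟩, ⟨0, 1⟩, ⟨1, 1⟩, ⟨2, 2⟩, ⟨2, 2⟩]⟩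
def q4_8 : MatD 4 K9 := ⟨[⟨0, 1⟩, ⟨1, 1⟩, ⟨2, 1⟩, ⟨1, 1⟩, ⟨2, 1⟩, ⟨0, 2⟩, ⟨1, 1⟩, ⟨2, 1⟩, ⟨1, 1⟩, ⟨2, 1⟩, ⟨0, 1⟩, ⟨2, 2⟩, ⟨2, 1⟩, ⟨1, 1⟩, ⟨1, 2⟩, ⟨0, 2⟩]⟩
def q4_9 : MatD 4 K9 := ⟨[⟨1, 0⟩, ⟨2, 2⟩, ⟨2, 2⟩, ⟨2, 1⟩, ⟨2, 1⟩, ⟨2, 0⟩, ⟨2, 1⟩, ⟨2, 2⟩, ⟨2, 1⟩, ⟨2, 2⟩, ⟨1, 0⟩, ⟨1, 1⟩, ⟨2, 2⟩, ⟨2, 1⟩, ⟨1, 2⟩, ⟨2, 0⟩]⟩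
def q4_10 : MatD 4 K9 := ⟨[⟨1, 2⟩, ⟨2, 0⟩, ⟨2, 0⟩, ⟨0, 0⟩, ⟨1, 1⟩, ⟨2, 1⟩, ⟨1, 1⟩, ⟨2, 0⟩, ⟨2, 2⟩, ⟨2, 0⟩, ⟨1, 1⟩, ⟨1, 1⟩, ⟨1, 0⟩, ⟨0, 0⟩, ⟨1, 1⟩, ⟨0, 2⟩]⟩
def q4_11 : MatD 4 K9 := ⟨[⟨2, 0⟩, ⟨2, 1⟩, ⟨2, 1⟩, ⟨2, 2⟩, ⟨0, 2⟩, ⟨1, 0⟩, ⟨1, 0⟩, ⟨1, 0⟩, ⟨0, 0⟩, ⟨2, 1⟩, ⟨1, 2⟩, ⟨0, 0⟩, ⟨1, 2⟩, ⟨1, 2⟩, ⟨1, 2⟩, ⟨0, 1⟩]⟩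
def q4_12 : MatD 4 K9 := ⟨[⟨1, 1⟩, ⟨0, 2⟩, ⟨1, 2⟩, ⟨1, 2⟩, ⟨2, 0⟩, ⟨0, 0⟩, ⟨2, 2⟩, ⟨1, 0⟩, ⟨0, 0⟩, ⟨1, 0⟩, ⟨2, 0⟩, ⟨2, 1⟩, ⟨0, 2⟩, ⟨1, 2⟩, ⟨1, 1⟩, ⟨2, 2⟩]⟩
def q4_13 : MatD 4 K9 := ⟨[⟨0, 0⟩, ⟨1, 0⟩, ⟨0, 1⟩, ⟨2, 2⟩, ⟨2, 2⟩, ⟨2, 1⟩, ⟨1, 0⟩, ⟨1, 1⟩, ⟨0, 0⟩, ⟨2, 2⟩, ⟨1, 0⟩, ⟨2, 0⟩, ⟨2, 2⟩, ⟨1, 2⟩, ⟨2, 0⟩, ⟨2, 2⟩]⟩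
def q4_14 : MatD 4 K9 := ⟨[⟨2, 0⟩, ⟨0, 1⟩, ⟨1, 1⟩, ⟨0, 0⟩, ⟨1, 0⟩, ⟨0, 1⟩, ⟨0, 0⟩, ⟨1, 1⟩, ⟨1, 0⟩, ⟨0, 2⟩, ⟨1, 1⟩, ⟨0, 0⟩, ⟨2, 0⟩, ⟨0, 2⟩, ⟨0, 0⟩, ⟨1, 1⟩]⟩
def q4_15 : MatD 4 K9 := ⟨[⟨0, 0⟩, ⟨1, 2⟩, ⟨0, 1⟩, ⟨1, 0⟩, ⟨0, 0⟩, ⟨0, 0⟩, ⟨2, 1⟩, ⟨2, 2⟩, ⟨0, 0⟩, ⟨1, 1⟩, ⟨1, 0⟩, ⟨0, 2⟩, ⟨1, 0⟩, ⟨0, 0⟩, ⟨0, 0⟩, ⟨0, 0⟩]⟩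
def q4_16 : MatD 4 K9 := ⟨[⟨2, 0⟩, ⟨0, 0⟩, ⟨0, 0⟩, ⟨0, 0⟩, ⟨0, 0⟩, ⟨2, 0⟩, ⟨0, 0⟩, ⟨0, 0⟩, ⟨0, 0⟩, ⟨0, 0⟩, ⟨2, 0⟩, ⟨0, 0⟩, ⟨0, 0⟩, ⟨0, 0⟩, ⟨0, 0⟩, ⟨2, 0⟩]⟩
theorem s4_1 : (MatD.one : MatD 4 K9).mul (dlM DU DU' (U43PK126.dec 1)) = q4_1 := by decide +kernel
theorem s4_2 : (q4_1 : MatD 4 K9).mul (dlM DU DU' (U43PK126.dec 3)) = q4_2 := by decide +kernel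
theorem s4_3 : (q4_2 : MatD 4 K9).mul (dlM DU DU' (U43PK126.dec 1)) = q4_3 := by decide +kernel
theorem s4_4 : (q4_3 : MatD 4 K9).mul (dlM DU DU' (U43PK126.dec 3)) = q4_4 := by decide +kernel
theorem s4_5 : (q4_4 : MatD 4 K9).mul (dlM DU DU' (U43PK126.dec 0)) = q4_5 := by decide +kernel
theorem s4_6 : (q4_5 : MatD 4 K9).mul (dlM DU DU' (U43PK126.dec 2)) = q4_6 := by decide +kernel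
theorem s4_7 : (q4_6 : MatD 4 K9).mul (dlM DU DU' (U43PK126.dec 0)) = q4_7 := by decide +kernel
theorem s4_8 : (q4_7 : MatD 4 K9).mul (dlM DU DU' (U43PK126.dec 2)) = q4_8 := by decide +kernel
theorem s4_9 : (q4_8 : MatD 4 K9).mul (dlM DU DU' (U43PK126.dec 1)) = q4_9 := by decide +kernel
theorem s4_10 : (q4_9 : MatD 4 K9).mul (dlM DU DU' (U43PK126.dec 3)) = q4_10 := by decide +kernel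
theorem s4_11 : (q4_10 : MatD 4 K9).mul (dlM DU DU' (U43PK126.dec 1)) = q4_11 := by decide +kernel
theorem s4_12 : (q4_11 : MatD 4 K9).mul (dlM DU DU' (U43PK126.dec 3)) = q4_12 := by decide +kernel
theorem s4_13 : (q4_12 : MatD 4 K9).mul (dlM DU DU' (U43PK126.dec 0)) = q4_13 := by decide +kernel
theorem s4_14 : (q4_13 : MatD 4 K9).mul (dlM DU DU' (U43PK126.dec 2)) = q4_14 := by decide +kernel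
theorem s4_15 : (q4_14 : MatD 4 K9).mul (dlM DU DU' (U43PK126.dec 0)) = q4_15 := by decide +kernel
theorem s4_16 : (q4_15 : MatD 4 K9).mul (dlM DU DU' (U43PK126.dec 2)) = q4_16 := by decide +kernel
theorem r4 : MatD.evM (dlM DU DU') (([2, 0, 2, 0, 3, 1, 3, 1, 2, 0, 2, 0, 3, 1, 3, 1] : List ℕ).map U43PK126.dec) = q4_16 := by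
  refine evM_step s4_16 ?_
  refine evM_step s4_15 ?_
  refine evM_step s4_14 ?_
  refine evM_step s4_13 ?_
  refine evM_step s4_12 ?_
  refine evM_step s4_11 ?_
  refine evM_step s4_10 ?_
  refine evM_step s4_9 ?_
  refine evM_step s4_8 ?_
  refine evM_step s4_7 ?_
  refine evM_step s4_6 ?_
  refine evM_step s4_5 ?_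
  refine evM_step s4_4 ?_
  refine evM_step s4_3 ?_
  refine evM_step s4_2 ?_
  refine evM_step s4_1 ?_
  rfl
theorem c4 : isScal9 (MatD.evM (dlM DU DU') (([2, 0, 2, 0, 3, 1, 3, 1, 2, 0, 2, 0, 3, 1, 3, 1] : List ℕ).map U43PK126.dec)) = true := by
  rw [r4]; decide +kernel

def q5_1 : MatD 4 K9 := ⟨[⟨2, 0⟩, ⟨0, 0⟩, ⟨0, 0⟩, ⟨0, 0⟩, ⟨0, 0⟩, ⟨2, 1⟩, ⟨0, 1⟩, ⟨1, 0⟩, ⟨0, 0⟩, ⟨1, 0⟩, ⟨2, 2⟩, ⟨2, 0⟩, ⟨0, 0⟩, ⟨2, 0⟩, ⟨0, 1⟩, ⟨1, 2⟩]⟩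
def q5_2 : MatD 4 K9 := ⟨[⟨1, 0⟩, ⟨0, 0⟩, ⟨0, 0⟩, ⟨0, 0⟩, ⟨0, 0⟩, ⟨2, 2⟩, ⟨0, 2⟩, ⟨0, 2⟩, ⟨0, 0⟩, ⟨2, 0⟩, ⟨0, 2⟩, ⟨1, 2⟩, ⟨0, 0⟩, ⟨0, 1⟩, ⟨2, 2⟩, ⟨2, 0⟩]⟩
def q5_3 : MatD 4 K9 := ⟨[⟨2, 0⟩, ⟨0, 0⟩, ⟨0, 0⟩, ⟨0, 0⟩, ⟨0, 0⟩, ⟨2, 0⟩, ⟨1, 0⟩, ⟨1, 2⟩, ⟨0, 0⟩, ⟨0, 2⟩, ⟨0, 1⟩, ⟨2, 2⟩, ⟨0, 0⟩, ⟨2, 1⟩, ⟨2, 1⟩, ⟨0, 0⟩]⟩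
def q5_4 : MatD 4 K9 := ⟨[⟨1, 0⟩, ⟨0, 0⟩, ⟨0, 0⟩, ⟨0, 0⟩, ⟨0, 0⟩, ⟨1, 0⟩, ⟨0, 2⟩, ⟨1, 1⟩, ⟨0, 0⟩, ⟨2, 0⟩, ⟨0, 1⟩, ⟨1, 1⟩, ⟨0, 0⟩, ⟨2, 2⟩, ⟨1, 2⟩, ⟨0, 0⟩]⟩
def q5_5 : MatD 4 K9 := ⟨[⟨2, 0⟩, ⟨0, 0⟩, ⟨0, 0⟩, ⟨0, 0⟩, ⟨0, 0⟩, ⟨1, 2⟩, ⟨1, 0⟩, ⟨0, 1⟩, ⟨0, 0⟩, ⟨0, 2⟩, ⟨0, 2⟩, ⟨1, 2⟩, ⟨0, 0⟩, ⟨0, 2⟩, ⟨2, 2⟩, ⟨1, 0⟩]⟩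
def q5_6 : MatD 4 K9 := ⟨[⟨1, 0⟩, ⟨0, 0⟩, ⟨0, 0⟩, ⟨0, 0⟩, ⟨0, 0⟩, ⟨1, 1⟩, ⟨2, 0⟩, ⟨1, 0⟩, ⟨0, 0⟩, ⟨0, 1⟩, ⟨1, 2⟩, ⟨0, 1⟩, ⟨0, 0⟩, ⟨2, 0⟩, ⟨1, 0⟩, ⟨2, 2⟩]⟩
def q5_7 : MatD 4 K9 := ⟨[⟨2, 0⟩, ⟨0, 0⟩, ⟨0, 0⟩, ⟨0, 0⟩, ⟨0, 0⟩, ⟨2, 0⟩, ⟨0, 0⟩, ⟨0, 0⟩, ⟨0, 0⟩, ⟨0, 0⟩, ⟨2, 0⟩, ⟨0, 0⟩, ⟨0, 0⟩, ⟨0, 0⟩, ⟨0, 0⟩, ⟨2, 0⟩]⟩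
theorem s5_1 : (MatD.one : MatD 4 K9).mul (dlM DU DU' (U43PK126.dec 4)) = q5_1 := by decide +kernel
theorem s5_2 : (q5_1 : MatD 4 K9).mul (dlM DU DU' (U43PK126.dec 4)) = q5_2 := by decide +kernel
theorem s5_3 : (q5_2 : MatD 4 K9).mul (dlM DU DU' (U43PK126.dec 4)) = q5_3 := by decide +kernel
theorem s5_4 : (q5_3 : MatD 4 K9).mul (dlM DU DU' (U43PK126.dec 4)) = q5_4 := by decide +kernel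
theorem s5_5 : (q5_4 : MatD 4 K9).mul (dlM DU DU' (U43PK126.dec 4)) = q5_5 := by decide +kernel
theorem s5_6 : (q5_5 : MatD 4 K9).mul (dlM DU DU' (U43PK126.dec 4)) = q5_6 := by decide +kernel
theorem s5_7 : (q5_6 : MatD 4 K9).mul (dlM DU DU' (U43PK126.dec 4)) = q5_7 := by decide +kernel
theorem r5 : MatD.evM (dlM DU DU') (([4, 4, 4, 4, 4, 4, 4] : List ℕ).map U43PK126.dec) = q5_7 := by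
  refine evM_step s5_7 ?_
  refine evM_step s5_6 ?_
  refine evM_step s5_5 ?_
  refine evM_step s5_4 ?_
  refine evM_step s5_3 ?_
  refine evM_step s5_2 ?_
  refine evM_step s5_1 ?_
  rfl
theorem c5 : isScal9 (MatD.evM (dlM DU DU') (([4, 4, 4, 4, 4, 4, 4] : List ℕ).map U43PK126.dec)) = true := by
  rw [r5]; decide +kernel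

def q6_1 : MatD 4 K9 := ⟨[⟨2, 0⟩, ⟨0, 2⟩, ⟨0, 0⟩, ⟨1, 1⟩, ⟨0, 1⟩, ⟨1, 0⟩, ⟨2, 2⟩, ⟨0, 0⟩, ⟨0, 0⟩, ⟨2, 1⟩, ⟨2, 0⟩, ⟨0, 1⟩, ⟨1, 2⟩, ⟨0, 0⟩, ⟨0, 2⟩, ⟨1, 0⟩]⟩
def q6_2 : MatD 4 K9 := ⟨[⟨1, 0⟩, ⟨2, 0⟩, ⟨2, 0⟩, ⟨1, 0⟩, ⟨0, 1⟩, ⟨0, 1⟩, ⟨0, 2⟩, ⟨0, 2⟩, ⟨2, 1⟩, ⟨0, 0⟩, ⟨2, 1⟩, ⟨0, 0⟩, ⟨0, 0⟩, ⟨2, 1⟩, ⟨0, 0⟩, ⟨2, 1⟩]⟩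
def q6_3 : MatD 4 K9 := ⟨[⟨0, 0⟩, ⟨0, 1⟩, ⟨2, 1⟩, ⟨2, 0⟩, ⟨2, 0⟩, ⟨0, 1⟩, ⟨1, 0⟩, ⟨0, 2⟩, ⟨2, 2⟩, ⟨1, 0⟩, ⟨1, 2⟩, ⟨1, 2⟩, ⟨0, 2⟩, ⟨0, 2⟩, ⟨1, 2⟩, ⟨0, 0⟩]⟩
def q6_4 : MatD 4 K9 := ⟨[⟨0, 0⟩, ⟨1, 0⟩, ⟨1, 2⟩, ⟨0, 2⟩, ⟨1, 0⟩, ⟨1, 0⟩, ⟨2, 0⟩, ⟨1, 0⟩, ⟨1, 1⟩, ⟨2, 0⟩, ⟨0, 0⟩, ⟨0, 2⟩, ⟨0, 1⟩, ⟨1, 0⟩, ⟨0, 1⟩, ⟨2, 0⟩]⟩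
def q6_5 : MatD 4 K9 := ⟨[⟨2, 0⟩, ⟨1, 2⟩, ⟨0, 0⟩, ⟨1, 0⟩, ⟨0, 0⟩, ⟨2, 1⟩, ⟨0, 1⟩, ⟨2, 0⟩, ⟨1, 0⟩, ⟨0, 2⟩, ⟨0, 1⟩, ⟨0, 1⟩, ⟨2, 1⟩, ⟨1, 2⟩, ⟨2, 2⟩, ⟨0, 1⟩]⟩
def q6_6 : MatD 4 K9 := ⟨[⟨0, 0⟩, ⟨1, 2⟩, ⟨0, 1⟩, ⟨1, 0⟩, ⟨2, 0⟩, ⟨1, 2⟩, ⟨0, 1⟩, ⟨0, 0⟩, ⟨1, 0⟩, ⟨0, 2⟩, ⟨2, 0⟩, ⟨2, 0⟩, ⟨2, 1⟩, ⟨1, 2⟩, ⟨2, 0⟩, ⟨1, 2⟩]⟩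
def q6_7 : MatD 4 K9 := ⟨[⟨2, 0⟩, ⟨0, 0⟩, ⟨0, 0⟩, ⟨0, 0⟩, ⟨0, 0⟩, ⟨2, 1⟩, ⟨0, 1⟩, ⟨1, 0⟩, ⟨0, 0⟩, ⟨1, 0⟩, ⟨2, 2⟩, ⟨2, 0⟩, ⟨0, 0⟩, ⟨2, 0⟩, ⟨0, 1⟩, ⟨1, 2⟩]⟩
def q6_8 : MatD 4 K9 := ⟨[⟨1, 0⟩, ⟨0, 0⟩, ⟨0, 0⟩, ⟨0, 0⟩, ⟨0, 0⟩, ⟨1, 0⟩, ⟨0, 0⟩, ⟨0, 0⟩, ⟨0, 0⟩, ⟨0, 0⟩, ⟨1, 0⟩, ⟨0, 0⟩, ⟨0, 0⟩, ⟨0, 0⟩, ⟨0, 0⟩, ⟨1, 0⟩]⟩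
theorem s6_1 : (MatD.one : MatD 4 K9).mul (dlM DU DU' (U43PK126.dec 0)) = q6_1 := by decide +kernel
theorem s6_2 : (q6_1 : MatD 4 K9).mul (dlM DU DU' (U43PK126.dec 2)) = q6_2 := by decide +kernel
theorem s6_3 : (q6_2 : MatD 4 K9).mul (dlM DU DU' (U43PK126.dec 2)) = q6_3 := by decide +kernel
theorem s6_4 : (q6_3 : MatD 4 K9).mul (dlM DU DU' (U43PK126.dec 5)) = q6_4 := by decide +kernel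
theorem s6_5 : (q6_4 : MatD 4 K9).mul (dlM DU DU' (U43PK126.dec 0)) = q6_5 := by decide +kernel
theorem s6_6 : (q6_5 : MatD 4 K9).mul (dlM DU DU' (U43PK126.dec 2)) = q6_6 := by decide +kernel
theorem s6_7 : (q6_6 : MatD 4 K9).mul (dlM DU DU' (U43PK126.dec 2)) = q6_7 := by decide +kernel
theorem s6_8 : (q6_7 : MatD 4 K9).mul (dlM DU DU' (U43PK126.dec 5)) = q6_8 := by decide +kernel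
theorem r6 : MatD.evM (dlM DU DU') (([5, 2, 2, 0, 5, 2, 2, 0] : List ℕ).map U43PK126.dec) = q6_8 := by
  refine evM_step s6_8 ?_
  refine evM_step s6_7 ?_
  refine evM_step s6_6 ?_
  refine evM_step s6_5 ?_
  refine evM_step s6_4 ?_
  refine evM_step s6_3 ?_
  refine evM_step s6_2 ?_
  refine evM_step s6_1 ?_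
  rfl
theorem c6 : isScal9 (MatD.evM (dlM DU DU') (([5, 2, 2, 0, 5, 2, 2, 0] : List ℕ).map U43PK126.dec)) = true := by
  rw [r6]; decide +kernel

def q7_1 : MatD 4 K9 := ⟨[⟨2, 0⟩, ⟨0, 2⟩, ⟨0, 0⟩, ⟨1, 1⟩, ⟨0, 1⟩, ⟨1, 0⟩, ⟨2, 2⟩, ⟨0, 0⟩, ⟨0, 0⟩, ⟨2, 1⟩, ⟨2, 0⟩, ⟨0, 1⟩, ⟨1, 2⟩, ⟨0, 0⟩, ⟨0, 2⟩, ⟨1, 0⟩]⟩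
def q7_2 : MatD 4 K9 := ⟨[⟨1, 0⟩, ⟨0, 0⟩, ⟨0, 1⟩, ⟨2, 2⟩, ⟨0, 2⟩, ⟨1, 0⟩, ⟨0, 0⟩, ⟨2, 1⟩, ⟨0, 0⟩, ⟨2, 0⟩, ⟨2, 0⟩, ⟨1, 2⟩, ⟨2, 1⟩, ⟨2, 2⟩, ⟨2, 2⟩, ⟨1, 0⟩]⟩
def q7_3 : MatD 4 K9 := ⟨[⟨2, 0⟩, ⟨1, 2⟩, ⟨2, 1⟩, ⟨1, 2⟩, ⟨0, 1⟩, ⟨0, 0⟩, ⟨2, 0⟩, ⟨1, 2⟩, ⟨0, 0⟩, ⟨2, 0⟩, ⟨2, 1⟩, ⟨0, 1⟩, ⟨1, 2⟩, ⟨0, 2⟩, ⟨1, 2⟩, ⟨1, 2⟩]⟩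
def q7_4 : MatD 4 K9 := ⟨[⟨2, 2⟩, ⟨1, 1⟩, ⟨1, 1⟩, ⟨2, 0⟩, ⟨0, 0⟩, ⟨2, 2⟩, ⟨0, 2⟩, ⟨0, 2⟩, ⟨1, 0⟩, ⟨2, 1⟩, ⟨0, 0⟩, ⟨2, 0⟩, ⟨0, 2⟩, ⟨2, 0⟩, ⟨0, 1⟩, ⟨1, 0⟩]⟩
def q7_5 : MatD 4 K9 := ⟨[⟨0, 2⟩, ⟨2, 0⟩, ⟨0, 0⟩, ⟨1, 1⟩, ⟨1, 0⟩, ⟨0, 1⟩, ⟨1, 1⟩, ⟨0, 0⟩, ⟨0, 0⟩, ⟨2, 1⟩, ⟨0, 2⟩, ⟨2, 0⟩, ⟨2, 1⟩, ⟨0, 0⟩, ⟨1, 0⟩, ⟨0, 1⟩]⟩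
def q7_6 : MatD 4 K9 := ⟨[⟨2, 0⟩, ⟨1, 0⟩, ⟨2, 0⟩, ⟨2, 0⟩, ⟨1, 0⟩, ⟨1, 0⟩, ⟨0, 1⟩, ⟨0, 2⟩, ⟨1, 0⟩, ⟨0, 2⟩, ⟨2, 2⟩, ⟨0, 0⟩, ⟨2, 0⟩, ⟨0, 2⟩, ⟨0, 0⟩, ⟨1, 2⟩]⟩
def q7_7 : MatD 4 K9 := ⟨[⟨1, 0⟩, ⟨2, 1⟩, ⟨1, 1⟩, ⟨1, 1⟩, ⟨2, 0⟩, ⟨2, 0⟩, ⟨2, 0⟩, ⟨0, 1⟩, ⟨2, 0⟩, ⟨0, 0⟩, ⟨1, 2⟩, ⟨1, 0⟩, ⟨1, 0⟩, ⟨0, 2⟩, ⟨2, 1⟩, ⟨0, 0⟩]⟩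
def q7_8 : MatD 4 K9 := ⟨[⟨2, 0⟩, ⟨0, 1⟩, ⟨1, 1⟩, ⟨0, 0⟩, ⟨1, 0⟩, ⟨0, 1⟩, ⟨0, 0⟩, ⟨1, 1⟩, ⟨1, 0⟩, ⟨0, 2⟩, ⟨1, 1⟩, ⟨0, 0⟩, ⟨2, 0⟩, ⟨0, 2⟩, ⟨0, 0⟩, ⟨1, 1⟩]⟩
def q7_9 : MatD 4 K9 := ⟨[⟨0, 0⟩, ⟨1, 2⟩, ⟨0, 1⟩, ⟨1, 0⟩, ⟨0, 0⟩, ⟨0, 0⟩, ⟨2, 1⟩, ⟨2, 2⟩, ⟨0, 0⟩, ⟨1, 1⟩, ⟨1, 0⟩, ⟨0, 2⟩, ⟨1, 0⟩, ⟨0, 0⟩, ⟨0, 0⟩, ⟨0, 0⟩]⟩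
def q7_10 : MatD 4 K9 := ⟨[⟨2, 0⟩, ⟨0, 0⟩, ⟨0, 0⟩, ⟨0, 0⟩, ⟨0, 0⟩, ⟨2, 0⟩, ⟨0, 0⟩, ⟨0, 0⟩, ⟨0, 0⟩, ⟨0, 0⟩, ⟨2, 0⟩, ⟨0, 0⟩, ⟨0, 0⟩, ⟨0, 0⟩, ⟨0, 0⟩, ⟨2, 0⟩]⟩
theorem s7_1 : (MatD.one : MatD 4 K9).mul (dlM DU DU' (U43PK126.dec 0)) = q7_1 := by decide +kernel
theorem s7_2 : (q7_1 : MatD 4 K9).mul (dlM DU DU' (U43PK126.dec 4)) = q7_2 := by decide +kernel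
theorem s7_3 : (q7_2 : MatD 4 K9).mul (dlM DU DU' (U43PK126.dec 4)) = q7_3 := by decide +kernel
theorem s7_4 : (q7_3 : MatD 4 K9).mul (dlM DU DU' (U43PK126.dec 0)) = q7_4 := by decide +kernel
theorem s7_5 : (q7_4 : MatD 4 K9).mul (dlM DU DU' (U43PK126.dec 2)) = q7_5 := by decide +kernel
theorem s7_6 : (q7_5 : MatD 4 K9).mul (dlM DU DU' (U43PK126.dec 0)) = q7_6 := by decide +kernel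
theorem s7_7 : (q7_6 : MatD 4 K9).mul (dlM DU DU' (U43PK126.dec 4)) = q7_7 := by decide +kernel
theorem s7_8 : (q7_7 : MatD 4 K9).mul (dlM DU DU' (U43PK126.dec 4)) = q7_8 := by decide +kernel
theorem s7_9 : (q7_8 : MatD 4 K9).mul (dlM DU DU' (U43PK126.dec 0)) = q7_9 := by decide +kernel
theorem s7_10 : (q7_9 : MatD 4 K9).mul (dlM DU DU' (U43PK126.dec 2)) = q7_10 := by decide +kernel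
theorem r7 : MatD.evM (dlM DU DU') (([2, 0, 4, 4, 0, 2, 0, 4, 4, 0] : List ℕ).map U43PK126.dec) = q7_10 := by
  refine evM_step s7_10 ?_
  refine evM_step s7_9 ?_
  refine evM_step s7_8 ?_
  refine evM_step s7_7 ?_
  refine evM_step s7_6 ?_
  refine evM_step s7_5 ?_
  refine evM_step s7_4 ?_
  refine evM_step s7_3 ?_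
  refine evM_step s7_2 ?_
  refine evM_step s7_1 ?_
  rfl
theorem c7 : isScal9 (MatD.evM (dlM DU DU') (([2, 0, 4, 4, 0, 2, 0, 4, 4, 0] : List ℕ).map U43PK126.dec)) = true := by
  rw [r7]; decide +kernel

def q8_1 : MatD 4 K9 := ⟨[⟨2, 0⟩, ⟨0, 2⟩, ⟨0, 0⟩, ⟨1, 1⟩, ⟨0, 1⟩, ⟨1, 0⟩, ⟨2, 2⟩, ⟨0, 0⟩, ⟨0, 0⟩, ⟨2, 1⟩, ⟨2, 0⟩, ⟨0, 1⟩, ⟨1, 2⟩, ⟨0, 0⟩, ⟨0, 2⟩, ⟨1, 0⟩]⟩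
def q8_2 : MatD 4 K9 := ⟨[⟨1, 0⟩, ⟨0, 0⟩, ⟨0, 1⟩, ⟨2, 2⟩, ⟨0, 2⟩, ⟨1, 0⟩, ⟨0, 0⟩, ⟨2, 1⟩, ⟨0, 0⟩, ⟨2, 0⟩, ⟨2, 0⟩, ⟨1, 2⟩, ⟨2, 1⟩, ⟨2, 2⟩, ⟨2, 2⟩, ⟨1, 0⟩]⟩
def q8_3 : MatD 4 K9 := ⟨[⟨0, 0⟩, ⟨2, 1⟩, ⟨2, 0⟩, ⟨2, 0⟩, ⟨0, 1⟩, ⟨0, 0⟩, ⟨0, 0⟩, ⟨0, 0⟩, ⟨0, 0⟩, ⟨0, 2⟩, ⟨1, 0⟩, ⟨1, 1⟩, ⟨0, 0⟩, ⟨2, 0⟩, ⟨1, 2⟩, ⟨0, 2⟩]⟩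
def q8_4 : MatD 4 K9 := ⟨[⟨0, 0⟩, ⟨0, 1⟩, ⟨0, 2⟩, ⟨2, 2⟩, ⟨0, 2⟩, ⟨0, 0⟩, ⟨0, 0⟩, ⟨0, 0⟩, ⟨0, 0⟩, ⟨1, 0⟩, ⟨2, 0⟩, ⟨1, 2⟩, ⟨0, 0⟩, ⟨2, 2⟩, ⟨2, 2⟩, ⟨0, 0⟩]⟩
def q8_5 : MatD 4 K9 := ⟨[⟨0, 0⟩, ⟨1, 2⟩, ⟨0, 1⟩, ⟨0, 2⟩, ⟨0, 1⟩, ⟨2, 0⟩, ⟨0, 0⟩, ⟨1, 2⟩, ⟨0, 2⟩, ⟨2, 2⟩, ⟨2, 1⟩, ⟨1, 1⟩, ⟨1, 2⟩, ⟨1, 2⟩, ⟨1, 0⟩, ⟨1, 2⟩]⟩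
def q8_6 : MatD 4 K9 := ⟨[⟨0, 0⟩, ⟨0, 1⟩, ⟨0, 0⟩, ⟨0, 0⟩, ⟨0, 2⟩, ⟨0, 0⟩, ⟨1, 0⟩, ⟨2, 1⟩, ⟨0, 1⟩, ⟨0, 0⟩, ⟨2, 0⟩, ⟨2, 1⟩, ⟨2, 1⟩, ⟨0, 0⟩, ⟨1, 1⟩, ⟨0, 0⟩]⟩
def q8_7 : MatD 4 K9 := ⟨[⟨2, 0⟩, ⟨0, 1⟩, ⟨1, 2⟩, ⟨0, 0⟩, ⟨0, 0⟩, ⟨1, 1⟩, ⟨0, 1⟩, ⟨0, 1⟩, ⟨0, 1⟩, ⟨2, 2⟩, ⟨2, 1⟩, ⟨1, 1⟩, ⟨1, 2⟩, ⟨2, 1⟩, ⟨2, 2⟩, ⟨0, 1⟩]⟩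
def q8_8 : MatD 4 K9 := ⟨[⟨1, 0⟩, ⟨0, 1⟩, ⟨0, 0⟩, ⟨2, 2⟩, ⟨0, 0⟩, ⟨1, 0⟩, ⟨2, 0⟩, ⟨2, 1⟩, ⟨0, 2⟩, ⟨0, 0⟩, ⟨2, 0⟩, ⟨2, 1⟩, ⟨2, 1⟩, ⟨2, 2⟩, ⟨1, 1⟩, ⟨1, 0⟩]⟩
def q8_9 : MatD 4 K9 := ⟨[⟨2, 0⟩, ⟨0, 0⟩, ⟨0, 0⟩, ⟨0, 0⟩, ⟨0, 0⟩, ⟨2, 2⟩, ⟨1, 0⟩, ⟨2, 0⟩, ⟨0, 0⟩, ⟨0, 2⟩, ⟨2, 1⟩, ⟨0, 2⟩, ⟨0, 0⟩, ⟨1, 0⟩, ⟨2, 0⟩, ⟨1, 1⟩]⟩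
def q8_10 : MatD 4 K9 := ⟨[⟨1, 0⟩, ⟨0, 0⟩, ⟨0, 0⟩, ⟨0, 0⟩, ⟨0, 0⟩, ⟨1, 0⟩, ⟨0, 0⟩, ⟨0, 0⟩, ⟨0, 0⟩, ⟨0, 0⟩, ⟨1, 0⟩, ⟨0, 0⟩, ⟨0, 0⟩, ⟨0, 0⟩, ⟨0, 0⟩, ⟨1, 0⟩]⟩
theorem s8_1 : (MatD.one : MatD 4 K9).mul (dlM DU DU' (U43PK126.dec 0)) = q8_1 := by decide +kernel
theorem s8_2 : (q8_1 : MatD 4 K9).mul (dlM DU DU' (U43PK126.dec 4)) = q8_2 := by decide +kernel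
theorem s8_3 : (q8_2 : MatD 4 K9).mul (dlM DU DU' (U43PK126.dec 0)) = q8_3 := by decide +kernel
theorem s8_4 : (q8_3 : MatD 4 K9).mul (dlM DU DU' (U43PK126.dec 4)) = q8_4 := by decide +kernel
theorem s8_5 : (q8_4 : MatD 4 K9).mul (dlM DU DU' (U43PK126.dec 0)) = q8_5 := by decide +kernel
theorem s8_6 : (q8_5 : MatD 4 K9).mul (dlM DU DU' (U43PK126.dec 4)) = q8_6 := by decide +kernel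
theorem s8_7 : (q8_6 : MatD 4 K9).mul (dlM DU DU' (U43PK126.dec 0)) = q8_7 := by decide +kernel
theorem s8_8 : (q8_7 : MatD 4 K9).mul (dlM DU DU' (U43PK126.dec 4)) = q8_8 := by decide +kernel
theorem s8_9 : (q8_8 : MatD 4 K9).mul (dlM DU DU' (U43PK126.dec 0)) = q8_9 := by decide +kernel
theorem s8_10 : (q8_9 : MatD 4 K9).mul (dlM DU DU' (U43PK126.dec 4)) = q8_10 := by decide +kernel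
theorem r8 : MatD.evM (dlM DU DU') (([4, 0, 4, 0, 4, 0, 4, 0, 4, 0] : List ℕ).map U43PK126.dec) = q8_10 := by
  refine evM_step s8_10 ?_
  refine evM_step s8_9 ?_
  refine evM_step s8_8 ?_
  refine evM_step s8_7 ?_
  refine evM_step s8_6 ?_
  refine evM_step s8_5 ?_
  refine evM_step s8_4 ?_
  refine evM_step s8_3 ?_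
  refine evM_step s8_2 ?_
  refine evM_step s8_1 ?_
  rfl
theorem c8 : isScal9 (MatD.evM (dlM DU DU') (([4, 0, 4, 0, 4, 0, 4, 0, 4, 0] : List ℕ).map U43PK126.dec)) = true := by
  rw [r8]; decide +kernel

def q9_1 : MatD 4 K9 := ⟨[⟨2, 0⟩, ⟨0, 2⟩, ⟨0, 0⟩, ⟨1, 1⟩, ⟨0, 1⟩, ⟨1, 0⟩, ⟨2, 2⟩, ⟨0, 0⟩, ⟨0, 0⟩, ⟨2, 1⟩, ⟨2, 0⟩, ⟨0, 1⟩, ⟨1, 2⟩, ⟨0, 0⟩, ⟨0, 2⟩, ⟨1, 0⟩]⟩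
def q9_2 : MatD 4 K9 := ⟨[⟨1, 0⟩, ⟨0, 2⟩, ⟨2, 1⟩, ⟨0, 0⟩, ⟨0, 2⟩, ⟨1, 0⟩, ⟨0, 0⟩, ⟨1, 1⟩, ⟨0, 0⟩, ⟨2, 2⟩, ⟨0, 2⟩, ⟨0, 1⟩, ⟨2, 1⟩, ⟨0, 0⟩, ⟨0, 1⟩, ⟨0, 1⟩]⟩
def q9_3 : MatD 4 K9 := ⟨[⟨1, 0⟩, ⟨1, 0⟩, ⟨2, 0⟩, ⟨2, 0⟩, ⟨1, 1⟩, ⟨2, 0⟩, ⟨0, 0⟩, ⟨0, 1⟩, ⟨1, 1⟩, ⟨2, 0⟩, ⟨0, 1⟩, ⟨0, 0⟩, ⟨2, 2⟩, ⟨0, 2⟩, ⟨1, 2⟩, ⟨1, 2⟩]⟩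
def q9_4 : MatD 4 K9 := ⟨[⟨0, 1⟩, ⟨1, 0⟩, ⟨0, 2⟩, ⟨2, 0⟩, ⟨1, 0⟩, ⟨1, 1⟩, ⟨2, 2⟩, ⟨2, 2⟩, ⟨0, 1⟩, ⟨2, 1⟩, ⟨1, 1⟩, ⟨2, 2⟩, ⟨2, 0⟩, ⟨2, 1⟩, ⟨2, 1⟩, ⟨1, 1⟩]⟩
def q9_5 : MatD 4 K9 := ⟨[⟨2, 1⟩, ⟨0, 1⟩, ⟨2, 1⟩, ⟨2, 1⟩, ⟨2, 1⟩, ⟨0, 0⟩, ⟨0, 0⟩, ⟨1, 2⟩, ⟨0, 1⟩, ⟨1, 1⟩, ⟨0, 0⟩, ⟨0, 1⟩, ⟨2, 2⟩, ⟨2, 0⟩, ⟨1, 1⟩, ⟨2, 2⟩]⟩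
def q9_6 : MatD 4 K9 := ⟨[⟨1, 2⟩, ⟨1, 1⟩, ⟨1, 1⟩, ⟨2, 0⟩, ⟨1, 2⟩, ⟨1, 2⟩, ⟨2, 1⟩, ⟨2, 0⟩, ⟨0, 2⟩, ⟨0, 2⟩, ⟨1, 0⟩, ⟨1, 0⟩, ⟨1, 1⟩, ⟨1, 2⟩, ⟨1, 1⟩, ⟨2, 0⟩]⟩
def q9_7 : MatD 4 K9 := ⟨[⟨0, 2⟩, ⟨2, 0⟩, ⟨0, 0⟩, ⟨2, 1⟩, ⟨1, 2⟩, ⟨0, 1⟩, ⟨1, 2⟩, ⟨2, 1⟩, ⟨1, 2⟩, ⟨2, 0⟩, ⟨0, 0⟩, ⟨0, 1⟩, ⟨1, 1⟩, ⟨2, 0⟩, ⟨2, 2⟩, ⟨2, 2⟩]⟩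
def q9_8 : MatD 4 K9 := ⟨[⟨2, 0⟩, ⟨0, 2⟩, ⟨2, 0⟩, ⟨0, 1⟩, ⟨0, 2⟩, ⟨2, 2⟩, ⟨2, 1⟩, ⟨2, 1⟩, ⟨1, 0⟩, ⟨1, 1⟩, ⟨2, 2⟩, ⟨2, 1⟩, ⟨0, 1⟩, ⟨1, 1⟩, ⟨1, 1⟩, ⟨2, 2⟩]⟩
def q9_9 : MatD 4 K9 := ⟨[⟨0, 1⟩, ⟨1, 2⟩, ⟨1, 1⟩, ⟨2, 2⟩, ⟨1, 2⟩, ⟨1, 0⟩, ⟨2, 2⟩, ⟨2, 2⟩, ⟨1, 0⟩, ⟨0, 0⟩, ⟨2, 0⟩, ⟨1, 1⟩, ⟨0, 0⟩, ⟨0, 1⟩, ⟨1, 1⟩, ⟨0, 1⟩]⟩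
def q9_10 : MatD 4 K9 := ⟨[⟨0, 2⟩, ⟨1, 1⟩, ⟨0, 0⟩, ⟨0, 1⟩, ⟨2, 1⟩, ⟨0, 2⟩, ⟨1, 1⟩, ⟨1, 2⟩, ⟨2, 0⟩, ⟨1, 2⟩, ⟨0, 1⟩, ⟨0, 0⟩, ⟨0, 0⟩, ⟨2, 2⟩, ⟨1, 0⟩, ⟨0, 2⟩]⟩
def q9_11 : MatD 4 K9 := ⟨[⟨0, 0⟩, ⟨1, 1⟩, ⟨2, 0⟩, ⟨0, 1⟩, ⟨0, 0⟩, ⟨0, 0⟩, ⟨2, 2⟩, ⟨1, 2⟩, ⟨0, 0⟩, ⟨2, 1⟩, ⟨0, 1⟩, ⟨1, 0⟩, ⟨0, 1⟩, ⟨0, 0⟩, ⟨0, 0⟩, ⟨0, 0⟩]⟩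
def q9_12 : MatD 4 K9 := ⟨[⟨0, 2⟩, ⟨0, 0⟩, ⟨0, 0⟩, ⟨0, 0⟩, ⟨0, 0⟩, ⟨0, 2⟩, ⟨0, 0⟩, ⟨0, 0⟩, ⟨0, 0⟩, ⟨0, 0⟩, ⟨0, 2⟩, ⟨0, 0⟩, ⟨0, 0⟩, ⟨0, 0⟩, ⟨0, 0⟩, ⟨0, 2⟩]⟩
theorem s9_1 : (MatD.one : MatD 4 K9).mul (dlM DU DU' (U43PK126.dec 0)) = q9_1 := by decide +kernel
theorem s9_2 : (q9_1 : MatD 4 K9).mul (dlM DU DU' (U43PK126.dec 5)) = q9_2 := by decide +kernel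
theorem s9_3 : (q9_2 : MatD 4 K9).mul (dlM DU DU' (U43PK126.dec 2)) = q9_3 := by decide +kernel
theorem s9_4 : (q9_3 : MatD 4 K9).mul (dlM DU DU' (U43PK126.dec 2)) = q9_4 := by decide +kernel
theorem s9_5 : (q9_4 : MatD 4 K9).mul (dlM DU DU' (U43PK126.dec 0)) = q9_5 := by decide +kernel
theorem s9_6 : (q9_5 : MatD 4 K9).mul (dlM DU DU' (U43PK126.dec 5)) = q9_6 := by decide +kernel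
theorem s9_7 : (q9_6 : MatD 4 K9).mul (dlM DU DU' (U43PK126.dec 2)) = q9_7 := by decide +kernel
theorem s9_8 : (q9_7 : MatD 4 K9).mul (dlM DU DU' (U43PK126.dec 2)) = q9_8 := by decide +kernel
theorem s9_9 : (q9_8 : MatD 4 K9).mul (dlM DU DU' (U43PK126.dec 0)) = q9_9 := by decide +kernel
theorem s9_10 : (q9_9 : MatD 4 K9).mul (dlM DU DU' (U43PK126.dec 5)) = q9_10 := by decide +kernel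
theorem s9_11 : (q9_10 : MatD 4 K9).mul (dlM DU DU' (U43PK126.dec 2)) = q9_11 := by decide +kernel
theorem s9_12 : (q9_11 : MatD 4 K9).mul (dlM DU DU' (U43PK126.dec 2)) = q9_12 := by decide +kernel
theorem r9 : MatD.evM (dlM DU DU') (([2, 2, 5, 0, 2, 2, 5, 0, 2, 2, 5, 0] : List ℕ).map U43PK126.dec) = q9_12 := by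
  refine evM_step s9_12 ?_
  refine evM_step s9_11 ?_
  refine evM_step s9_10 ?_
  refine evM_step s9_9 ?_
  refine evM_step s9_8 ?_
  refine evM_step s9_7 ?_
  refine evM_step s9_6 ?_
  refine evM_step s9_5 ?_
  refine evM_step s9_4 ?_
  refine evM_step s9_3 ?_
  refine evM_step s9_2 ?_
  refine evM_step s9_1 ?_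
  rfl
theorem c9 : isScal9 (MatD.evM (dlM DU DU') (([2, 2, 5, 0, 2, 2, 5, 0, 2, 2, 5, 0] : List ℕ).map U43PK126.dec)) = true := by
  rw [r9]; decide +kernel

def q10_1 : MatD 4 K9 := ⟨[⟨0, 0⟩, ⟨0, 0⟩, ⟨0, 0⟩, ⟨2, 0⟩, ⟨2, 2⟩, ⟨0, 0⟩, ⟨2, 1⟩, ⟨0, 0⟩, ⟨0, 1⟩, ⟨1, 1⟩, ⟨2, 0⟩, ⟨0, 0⟩, ⟨2, 0⟩, ⟨1, 2⟩, ⟨0, 2⟩, ⟨0, 0⟩]⟩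
def q10_2 : MatD 4 K9 := ⟨[⟨0, 0⟩, ⟨1, 0⟩, ⟨0, 2⟩, ⟨2, 1⟩, ⟨1, 1⟩, ⟨2, 1⟩, ⟨2, 0⟩, ⟨1, 2⟩, ⟨0, 2⟩, ⟨0, 0⟩, ⟨0, 2⟩, ⟨2, 1⟩, ⟨1, 0⟩, ⟨0, 1⟩, ⟨0, 2⟩, ⟨1, 0⟩]⟩
def q10_3 : MatD 4 K9 := ⟨[⟨1, 1⟩, ⟨1, 1⟩, ⟨0, 0⟩, ⟨0, 0⟩, ⟨1, 0⟩, ⟨2, 0⟩, ⟨0, 0⟩, ⟨2, 2⟩, ⟨2, 2⟩, ⟨1, 1⟩, ⟨1, 2⟩, ⟨0, 1⟩, ⟨1, 2⟩, ⟨2, 1⟩, ⟨2, 2⟩, ⟨2, 0⟩]⟩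
def q10_4 : MatD 4 K9 := ⟨[⟨2, 2⟩, ⟨1, 0⟩, ⟨2, 1⟩, ⟨1, 1⟩, ⟨2, 0⟩, ⟨2, 0⟩, ⟨1, 1⟩, ⟨0, 0⟩, ⟨1, 1⟩, ⟨2, 1⟩, ⟨2, 1⟩, ⟨1, 0⟩, ⟨2, 1⟩, ⟨0, 0⟩, ⟨2, 0⟩, ⟨2, 0⟩]⟩
def q10_5 : MatD 4 K9 := ⟨[⟨0, 0⟩, ⟨0, 0⟩, ⟨1, 2⟩, ⟨1, 1⟩, ⟨0, 2⟩, ⟨0, 2⟩, ⟨0, 1⟩, ⟨1, 0⟩, ⟨0, 2⟩, ⟨2, 2⟩, ⟨1, 2⟩, ⟨2, 2⟩, ⟨1, 2⟩, ⟨1, 0⟩, ⟨1, 1⟩, ⟨1, 2⟩]⟩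
def q10_6 : MatD 4 K9 := ⟨[⟨0, 0⟩, ⟨0, 1⟩, ⟨0, 1⟩, ⟨1, 1⟩, ⟨0, 1⟩, ⟨0, 2⟩, ⟨2, 0⟩, ⟨1, 0⟩, ⟨0, 1⟩, ⟨1, 0⟩, ⟨0, 1⟩, ⟨2, 0⟩, ⟨2, 1⟩, ⟨2, 0⟩, ⟨1, 0⟩, ⟨0, 0⟩]⟩
def q10_7 : MatD 4 K9 := ⟨[⟨2, 1⟩, ⟨1, 1⟩, ⟨0, 0⟩, ⟨0, 0⟩, ⟨1, 0⟩, ⟨0, 1⟩, ⟨2, 0⟩, ⟨0, 2⟩, ⟨2, 2⟩, ⟨1, 2⟩, ⟨2, 1⟩, ⟨0, 2⟩, ⟨1, 2⟩, ⟨1, 1⟩, ⟨0, 2⟩, ⟨1, 2⟩]⟩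
def q10_8 : MatD 4 K9 := ⟨[⟨1, 2⟩, ⟨1, 0⟩, ⟨2, 1⟩, ⟨1, 1⟩, ⟨2, 0⟩, ⟨1, 0⟩, ⟨1, 1⟩, ⟨0, 0⟩, ⟨1, 1⟩, ⟨2, 1⟩, ⟨1, 1⟩, ⟨1, 0⟩, ⟨2, 1⟩, ⟨0, 0⟩, ⟨2, 0⟩, ⟨1, 0⟩]⟩
def q10_9 : MatD 4 K9 := ⟨[⟨0, 0⟩, ⟨0, 0⟩, ⟨1, 2⟩, ⟨2, 1⟩, ⟨1, 0⟩, ⟨0, 2⟩, ⟨1, 0⟩, ⟨1, 0⟩, ⟨0, 1⟩, ⟨1, 1⟩, ⟨2, 2⟩, ⟨2, 2⟩, ⟨2, 2⟩, ⟨0, 1⟩, ⟨1, 2⟩, ⟨1, 2⟩]⟩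
def q10_10 : MatD 4 K9 := ⟨[⟨0, 0⟩, ⟨2, 1⟩, ⟨0, 2⟩, ⟨2, 0⟩, ⟨2, 0⟩, ⟨1, 1⟩, ⟨0, 0⟩, ⟨0, 1⟩, ⟨0, 2⟩, ⟨1, 0⟩, ⟨0, 2⟩, ⟨0, 2⟩, ⟨1, 1⟩, ⟨2, 2⟩, ⟨1, 1⟩, ⟨2, 0⟩]⟩
def q10_11 : MatD 4 K9 := ⟨[⟨1, 0⟩, ⟨0, 0⟩, ⟨0, 0⟩, ⟨0, 0⟩, ⟨0, 0⟩, ⟨1, 1⟩, ⟨2, 0⟩, ⟨1, 0⟩, ⟨0, 0⟩, ⟨0, 1⟩, ⟨1, 2⟩, ⟨0, 1⟩, ⟨0, 0⟩, ⟨2, 0⟩, ⟨1, 0⟩, ⟨2, 2⟩]⟩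
def q10_12 : MatD 4 K9 := ⟨[⟨2, 0⟩, ⟨0, 0⟩, ⟨0, 0⟩, ⟨0, 0⟩, ⟨0, 0⟩, ⟨2, 0⟩, ⟨0, 0⟩, ⟨0, 0⟩, ⟨0, 0⟩, ⟨0, 0⟩, ⟨2, 0⟩, ⟨0, 0⟩, ⟨0, 0⟩, ⟨0, 0⟩, ⟨0, 0⟩, ⟨2, 0⟩]⟩
theorem s10_1 : (MatD.one : MatD 4 K9).mul (dlM DU DU' (U43PK126.dec 2)) = q10_1 := by decide +kernel
theorem s10_2 : (q10_1 : MatD 4 K9).mul (dlM DU DU' (U43PK126.dec 4)) = q10_2 := by decide +kernel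
theorem s10_3 : (q10_2 : MatD 4 K9).mul (dlM DU DU' (U43PK126.dec 2)) = q10_3 := by decide +kernel
theorem s10_4 : (q10_3 : MatD 4 K9).mul (dlM DU DU' (U43PK126.dec 4)) = q10_4 := by decide +kernel
theorem s10_5 : (q10_4 : MatD 4 K9).mul (dlM DU DU' (U43PK126.dec 2)) = q10_5 := by decide +kernel
theorem s10_6 : (q10_5 : MatD 4 K9).mul (dlM DU DU' (U43PK126.dec 4)) = q10_6 := by decide +kernel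
theorem s10_7 : (q10_6 : MatD 4 K9).mul (dlM DU DU' (U43PK126.dec 2)) = q10_7 := by decide +kernel
theorem s10_8 : (q10_7 : MatD 4 K9).mul (dlM DU DU' (U43PK126.dec 4)) = q10_8 := by decide +kernel
theorem s10_9 : (q10_8 : MatD 4 K9).mul (dlM DU DU' (U43PK126.dec 2)) = q10_9 := by decide +kernel
theorem s10_10 : (q10_9 : MatD 4 K9).mul (dlM DU DU' (U43PK126.dec 4)) = q10_10 := by decide +kernel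
theorem s10_11 : (q10_10 : MatD 4 K9).mul (dlM DU DU' (U43PK126.dec 2)) = q10_11 := by decide +kernel
theorem s10_12 : (q10_11 : MatD 4 K9).mul (dlM DU DU' (U43PK126.dec 4)) = q10_12 := by decide +kernel
theorem r10 : MatD.evM (dlM DU DU') (([4, 2, 4, 2, 4, 2, 4, 2, 4, 2, 4, 2] : List ℕ).map U43PK126.dec) = q10_12 := by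
  refine evM_step s10_12 ?_
  refine evM_step s10_11 ?_
  refine evM_step s10_10 ?_
  refine evM_step s10_9 ?_
  refine evM_step s10_8 ?_
  refine evM_step s10_7 ?_
  refine evM_step s10_6 ?_
  refine evM_step s10_5 ?_
  refine evM_step s10_4 ?_
  refine evM_step s10_3 ?_
  refine evM_step s10_2 ?_
  refine evM_step s10_1 ?_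
  rfl
theorem c10 : isScal9 (MatD.evM (dlM DU DU') (([4, 2, 4, 2, 4, 2, 4, 2, 4, 2, 4, 2] : List ℕ).map U43PK126.dec)) = true := by
  rw [r10]; decide +kernel

def q11_1 : MatD 4 K9 := ⟨[⟨2, 0⟩, ⟨0, 0⟩, ⟨0, 0⟩, ⟨0, 0⟩, ⟨0, 0⟩, ⟨2, 1⟩, ⟨0, 1⟩, ⟨1, 0⟩, ⟨0, 0⟩, ⟨1, 0⟩, ⟨2, 2⟩, ⟨2, 0⟩, ⟨0, 0⟩, ⟨2, 0⟩, ⟨0, 1⟩, ⟨1, 2⟩]⟩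
def q11_2 : MatD 4 K9 := ⟨[⟨1, 0⟩, ⟨0, 0⟩, ⟨0, 0⟩, ⟨0, 0⟩, ⟨0, 0⟩, ⟨2, 2⟩, ⟨0, 2⟩, ⟨0, 2⟩, ⟨0, 0⟩, ⟨2, 0⟩, ⟨0, 2⟩, ⟨1, 2⟩, ⟨0, 0⟩, ⟨0, 1⟩, ⟨2, 2⟩, ⟨2, 0⟩]⟩
def q11_3 : MatD 4 K9 := ⟨[⟨0, 0⟩, ⟨0, 0⟩, ⟨0, 0⟩, ⟨2, 0⟩, ⟨1, 0⟩, ⟨0, 1⟩, ⟨1, 1⟩, ⟨0, 0⟩, ⟨1, 2⟩, ⟨1, 0⟩, ⟨0, 2⟩, ⟨0, 0⟩, ⟨0, 1⟩, ⟨2, 2⟩, ⟨0, 1⟩, ⟨0, 0⟩]⟩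
def q11_4 : MatD 4 K9 := ⟨[⟨0, 0⟩, ⟨1, 0⟩, ⟨0, 2⟩, ⟨2, 1⟩, ⟨2, 0⟩, ⟨0, 0⟩, ⟨2, 1⟩, ⟨2, 0⟩, ⟨2, 1⟩, ⟨2, 0⟩, ⟨2, 2⟩, ⟨1, 1⟩, ⟨0, 2⟩, ⟨2, 1⟩, ⟨2, 1⟩, ⟨2, 1⟩]⟩
def q11_5 : MatD 4 K9 := ⟨[⟨0, 0⟩, ⟨0, 2⟩, ⟨1, 1⟩, ⟨1, 0⟩, ⟨1, 0⟩, ⟨0, 1⟩, ⟨2, 2⟩, ⟨0, 0⟩, ⟨1, 2⟩, ⟨2, 0⟩, ⟨2, 2⟩, ⟨2, 1⟩, ⟨0, 1⟩, ⟨0, 1⟩, ⟨0, 1⟩, ⟨0, 2⟩]⟩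
def q11_6 : MatD 4 K9 := ⟨[⟨2, 0⟩, ⟨0, 1⟩, ⟨1, 1⟩, ⟨0, 0⟩, ⟨0, 0⟩, ⟨2, 0⟩, ⟨2, 1⟩, ⟨2, 0⟩, ⟨1, 2⟩, ⟨0, 1⟩, ⟨2, 1⟩, ⟨2, 2⟩, ⟨0, 1⟩, ⟨0, 1⟩, ⟨2, 0⟩, ⟨1, 0⟩]⟩
def q11_7 : MatD 4 K9 := ⟨[⟨0, 0⟩, ⟨1, 0⟩, ⟨0, 1⟩, ⟨2, 2⟩, ⟨1, 0⟩, ⟨2, 0⟩, ⟨0, 0⟩, ⟨1, 1⟩, ⟨1, 1⟩, ⟨2, 2⟩, ⟨1, 2⟩, ⟨0, 1⟩, ⟨2, 0⟩, ⟨0, 0⟩, ⟨0, 1⟩, ⟨2, 2⟩]⟩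
def q11_8 : MatD 4 K9 := ⟨[⟨1, 1⟩, ⟨0, 2⟩, ⟨1, 2⟩, ⟨1, 2⟩, ⟨1, 2⟩, ⟨2, 2⟩, ⟨2, 0⟩, ⟨2, 2⟩, ⟨1, 2⟩, ⟨0, 0⟩, ⟨0, 0⟩, ⟨1, 1⟩, ⟨2, 0⟩, ⟨2, 0⟩, ⟨2, 0⟩, ⟨0, 1⟩]⟩
def q11_9 : MatD 4 K9 := ⟨[⟨2, 2⟩, ⟨2, 2⟩, ⟨2, 2⟩, ⟨1, 0⟩, ⟨2, 1⟩, ⟨2, 2⟩, ⟨1, 2⟩, ⟨1, 0⟩, ⟨2, 1⟩, ⟨1, 1⟩, ⟨2, 2⟩, ⟨0, 2⟩, ⟨1, 0⟩, ⟨1, 0⟩, ⟨0, 1⟩, ⟨0, 2⟩]⟩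
def q11_10 : MatD 4 K9 := ⟨[⟨2, 0⟩, ⟨2, 2⟩, ⟨1, 2⟩, ⟨2, 1⟩, ⟨2, 0⟩, ⟨1, 1⟩, ⟨1, 2⟩, ⟨2, 1⟩, ⟨0, 1⟩, ⟨0, 0⟩, ⟨1, 2⟩, ⟨2, 0⟩, ⟨0, 1⟩, ⟨0, 0⟩, ⟨1, 0⟩, ⟨2, 1⟩]⟩
def q11_11 : MatD 4 K9 := ⟨[⟨2, 1⟩, ⟨2, 2⟩, ⟨0, 1⟩, ⟨2, 1⟩, ⟨0, 0⟩, ⟨1, 1⟩, ⟨0, 0⟩, ⟨2, 1⟩, ⟨2, 0⟩, ⟨1, 2⟩, ⟨2, 2⟩, ⟨2, 2⟩, ⟨0, 1⟩, ⟨0, 1⟩, ⟨0, 1⟩, ⟨1, 0⟩]⟩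
def q11_12 : MatD 4 K9 := ⟨[⟨0, 1⟩, ⟨2, 0⟩, ⟨0, 0⟩, ⟨1, 2⟩, ⟨1, 0⟩, ⟨0, 2⟩, ⟨2, 1⟩, ⟨0, 0⟩, ⟨0, 0⟩, ⟨1, 1⟩, ⟨0, 1⟩, ⟨1, 0⟩, ⟨2, 2⟩, ⟨0, 0⟩, ⟨2, 0⟩, ⟨0, 2⟩]⟩
def q11_13 : MatD 4 K9 := ⟨[⟨0, 2⟩, ⟨0, 0⟩, ⟨0, 0⟩, ⟨0, 0⟩, ⟨0, 0⟩, ⟨0, 2⟩, ⟨0, 0⟩, ⟨0, 0⟩, ⟨0, 0⟩, ⟨0, 0⟩, ⟨0, 2⟩, ⟨0, 0⟩, ⟨0, 0⟩, ⟨0, 0⟩, ⟨0, 0⟩, ⟨0, 2⟩]⟩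
theorem s11_1 : (MatD.one : MatD 4 K9).mul (dlM DU DU' (U43PK126.dec 4)) = q11_1 := by decide +kernel
theorem s11_2 : (q11_1 : MatD 4 K9).mul (dlM DU DU' (U43PK126.dec 4)) = q11_2 := by decide +kernel
theorem s11_3 : (q11_2 : MatD 4 K9).mul (dlM DU DU' (U43PK126.dec 2)) = q11_3 := by decide +kernel
theorem s11_4 : (q11_3 : MatD 4 K9).mul (dlM DU DU' (U43PK126.dec 4)) = q11_4 := by decide +kernel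
theorem s11_5 : (q11_4 : MatD 4 K9).mul (dlM DU DU' (U43PK126.dec 4)) = q11_5 := by decide +kernel
theorem s11_6 : (q11_5 : MatD 4 K9).mul (dlM DU DU' (U43PK126.dec 3)) = q11_6 := by decide +kernel
theorem s11_7 : (q11_6 : MatD 4 K9).mul (dlM DU DU' (U43PK126.dec 3)) = q11_7 := by decide +kernel
theorem s11_8 : (q11_7 : MatD 4 K9).mul (dlM DU DU' (U43PK126.dec 0)) = q11_8 := by decide +kernel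
theorem s11_9 : (q11_8 : MatD 4 K9).mul (dlM DU DU' (U43PK126.dec 5)) = q11_9 := by decide +kernel
theorem s11_10 : (q11_9 : MatD 4 K9).mul (dlM DU DU' (U43PK126.dec 3)) = q11_10 := by decide +kernel
theorem s11_11 : (q11_10 : MatD 4 K9).mul (dlM DU DU' (U43PK126.dec 0)) = q11_11 := by decide +kernel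
theorem s11_12 : (q11_11 : MatD 4 K9).mul (dlM DU DU' (U43PK126.dec 2)) = q11_12 := by decide +kernel
theorem s11_13 : (q11_12 : MatD 4 K9).mul (dlM DU DU' (U43PK126.dec 0)) = q11_13 := by decide +kernel
theorem r11 : MatD.evM (dlM DU DU') (([0, 2, 0, 3, 5, 0, 3, 3, 4, 4, 2, 4, 4] : List ℕ).map U43PK126.dec) = q11_13 := by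
  refine evM_step s11_13 ?_
  refine evM_step s11_12 ?_
  refine evM_step s11_11 ?_
  refine evM_step s11_10 ?_
  refine evM_step s11_9 ?_
  refine evM_step s11_8 ?_
  refine evM_step s11_7 ?_
  refine evM_step s11_6 ?_
  refine evM_step s11_5 ?_
  refine evM_step s11_4 ?_
  refine evM_step s11_3 ?_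
  refine evM_step s11_2 ?_
  refine evM_step s11_1 ?_
  rfl
theorem c11 : isScal9 (MatD.evM (dlM DU DU') (([0, 2, 0, 3, 5, 0, 3, 3, 4, 4, 2, 4, 4] : List ℕ).map U43PK126.dec)) = true := by
  rw [r11]; decide +kernel

def q12_1 : MatD 4 K9 := ⟨[⟨2, 0⟩, ⟨0, 0⟩, ⟨0, 0⟩, ⟨0, 0⟩, ⟨0, 0⟩, ⟨2, 2⟩, ⟨1, 0⟩, ⟨2, 0⟩, ⟨0, 0⟩, ⟨0, 2⟩, ⟨2, 1⟩, ⟨0, 2⟩, ⟨0, 0⟩, ⟨1, 0⟩, ⟨2, 0⟩, ⟨1, 1⟩]⟩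
def q12_2 : MatD 4 K9 := ⟨[⟨0, 0⟩, ⟨1, 2⟩, ⟨0, 1⟩, ⟨1, 0⟩, ⟨1, 0⟩, ⟨2, 2⟩, ⟨0, 0⟩, ⟨0, 2⟩, ⟨0, 1⟩, ⟨2, 0⟩, ⟨0, 1⟩, ⟨0, 1⟩, ⟨2, 2⟩, ⟨1, 1⟩, ⟨2, 2⟩, ⟨1, 0⟩]⟩
def q12_3 : MatD 4 K9 := ⟨[⟨0, 0⟩, ⟨2, 0⟩, ⟨2, 1⟩, ⟨2, 0⟩, ⟨2, 0⟩, ⟨2, 1⟩, ⟨2, 2⟩, ⟨1, 1⟩, ⟨0, 2⟩, ⟨1, 2⟩, ⟨0, 1⟩, ⟨0, 0⟩, ⟨1, 1⟩, ⟨2, 2⟩, ⟨2, 1⟩, ⟨0, 1⟩]⟩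
def q12_4 : MatD 4 K9 := ⟨[⟨2, 0⟩, ⟨2, 1⟩, ⟨2, 1⟩, ⟨1, 2⟩, ⟨2, 2⟩, ⟨1, 2⟩, ⟨1, 0⟩, ⟨1, 2⟩, ⟨1, 2⟩, ⟨2, 1⟩, ⟨1, 2⟩, ⟨0, 2⟩, ⟨1, 2⟩, ⟨0, 2⟩, ⟨2, 1⟩, ⟨2, 2⟩]⟩
def q12_5 : MatD 4 K9 := ⟨[⟨1, 0⟩, ⟨1, 0⟩, ⟨1, 0⟩, ⟨1, 0⟩, ⟨1, 1⟩, ⟨2, 1⟩, ⟨2, 1⟩, ⟨1, 0⟩, ⟨2, 1⟩, ⟨1, 1⟩, ⟨2, 1⟩, ⟨1, 0⟩, ⟨2, 1⟩, ⟨2, 1⟩, ⟨1, 1⟩, ⟨1, 0⟩]⟩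
def q12_6 : MatD 4 K9 := ⟨[⟨1, 0⟩, ⟨2, 0⟩, ⟨1, 0⟩, ⟨2, 0⟩, ⟨0, 2⟩, ⟨2, 2⟩, ⟨1, 2⟩, ⟨2, 2⟩, ⟨1, 0⟩, ⟨2, 2⟩, ⟨2, 1⟩, ⟨1, 2⟩, ⟨0, 1⟩, ⟨1, 1⟩, ⟨2, 2⟩, ⟨1, 2⟩]⟩
def q12_7 : MatD 4 K9 := ⟨[⟨2, 2⟩, ⟨0, 2⟩, ⟨0, 0⟩, ⟨2, 0⟩, ⟨2, 1⟩, ⟨0, 0⟩, ⟨0, 2⟩, ⟨0, 1⟩, ⟨1, 2⟩, ⟨1, 1⟩, ⟨2, 1⟩, ⟨2, 0⟩, ⟨0, 1⟩, ⟨0, 2⟩, ⟨1, 0⟩, ⟨0, 2⟩]⟩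
def q12_8 : MatD 4 K9 := ⟨[⟨1, 1⟩, ⟨1, 1⟩, ⟨1, 2⟩, ⟨2, 0⟩, ⟨1, 2⟩, ⟨2, 1⟩, ⟨1, 0⟩, ⟨1, 1⟩, ⟨2, 1⟩, ⟨0, 2⟩, ⟨2, 2⟩, ⟨2, 2⟩, ⟨0, 2⟩, ⟨2, 2⟩, ⟨2, 1⟩, ⟨1, 2⟩]⟩
def q12_9 : MatD 4 K9 := ⟨[⟨2, 2⟩, ⟨1, 1⟩, ⟨0, 2⟩, ⟨2, 2⟩, ⟨1, 0⟩, ⟨0, 1⟩, ⟨0, 0⟩, ⟨2, 1⟩, ⟨1, 1⟩, ⟨1, 1⟩, ⟨1, 0⟩, ⟨1, 2⟩, ⟨1, 2⟩, ⟨1, 1⟩, ⟨2, 1⟩, ⟨0, 1⟩]⟩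
def q12_10 : MatD 4 K9 := ⟨[⟨1, 2⟩, ⟨1, 0⟩, ⟨2, 0⟩, ⟨0, 0⟩, ⟨1, 2⟩, ⟨0, 0⟩, ⟨2, 0⟩, ⟨0, 2⟩, ⟨1, 1⟩, ⟨1, 1⟩, ⟨1, 0⟩, ⟨1, 2⟩, ⟨2, 0⟩, ⟨0, 1⟩, ⟨2, 0⟩, ⟨1, 0⟩]⟩
def q12_11 : MatD 4 K9 := ⟨[⟨2, 1⟩, ⟨2, 2⟩, ⟨0, 1⟩, ⟨2, 1⟩, ⟨0, 0⟩, ⟨1, 1⟩, ⟨0, 0⟩, ⟨2, 1⟩, ⟨2, 0⟩, ⟨1, 2⟩, ⟨2, 2⟩, ⟨2, 2⟩, ⟨0, 1⟩, ⟨0, 1⟩, ⟨0, 1⟩, ⟨1, 0⟩]⟩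
def q12_12 : MatD 4 K9 := ⟨[⟨0, 1⟩, ⟨2, 0⟩, ⟨0, 0⟩, ⟨1, 2⟩, ⟨1, 0⟩, ⟨0, 2⟩, ⟨2, 1⟩, ⟨0, 0⟩, ⟨0, 0⟩, ⟨1, 1⟩, ⟨0, 1⟩, ⟨1, 0⟩, ⟨2, 2⟩, ⟨0, 0⟩, ⟨2, 0⟩, ⟨0, 2⟩]⟩
def q12_13 : MatD 4 K9 := ⟨[⟨0, 2⟩, ⟨0, 0⟩, ⟨0, 0⟩, ⟨0, 0⟩, ⟨0, 0⟩, ⟨0, 2⟩, ⟨0, 0⟩, ⟨0, 0⟩, ⟨0, 0⟩, ⟨0, 0⟩, ⟨0, 2⟩, ⟨0, 0⟩, ⟨0, 0⟩, ⟨0, 0⟩, ⟨0, 0⟩, ⟨0, 2⟩]⟩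
theorem s12_1 : (MatD.one : MatD 4 K9).mul (dlM DU DU' (U43PK126.dec 5)) = q12_1 := by decide +kernel
theorem s12_2 : (q12_1 : MatD 4 K9).mul (dlM DU DU' (U43PK126.dec 3)) = q12_2 := by decide +kernel
theorem s12_3 : (q12_2 : MatD 4 K9).mul (dlM DU DU' (U43PK126.dec 4)) = q12_3 := by decide +kernel
theorem s12_4 : (q12_3 : MatD 4 K9).mul (dlM DU DU' (U43PK126.dec 0)) = q12_4 := by decide +kernel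
theorem s12_5 : (q12_4 : MatD 4 K9).mul (dlM DU DU' (U43PK126.dec 5)) = q12_5 := by decide +kernel
theorem s12_6 : (q12_5 : MatD 4 K9).mul (dlM DU DU' (U43PK126.dec 2)) = q12_6 := by decide +kernel
theorem s12_7 : (q12_6 : MatD 4 K9).mul (dlM DU DU' (U43PK126.dec 2)) = q12_7 := by decide +kernel
theorem s12_8 : (q12_7 : MatD 4 K9).mul (dlM DU DU' (U43PK126.dec 5)) = q12_8 := by decide +kernel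
theorem s12_9 : (q12_8 : MatD 4 K9).mul (dlM DU DU' (U43PK126.dec 2)) = q12_9 := by decide +kernel
theorem s12_10 : (q12_9 : MatD 4 K9).mul (dlM DU DU' (U43PK126.dec 0)) = q12_10 := by decide +kernel
theorem s12_11 : (q12_10 : MatD 4 K9).mul (dlM DU DU' (U43PK126.dec 2)) = q12_11 := by decide +kernel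
theorem s12_12 : (q12_11 : MatD 4 K9).mul (dlM DU DU' (U43PK126.dec 2)) = q12_12 := by decide +kernel
theorem s12_13 : (q12_12 : MatD 4 K9).mul (dlM DU DU' (U43PK126.dec 0)) = q12_13 := by decide +kernel
theorem r12 : MatD.evM (dlM DU DU') (([0, 2, 2, 0, 2, 5, 2, 2, 5, 0, 4, 3, 5] : List ℕ).map U43PK126.dec) = q12_13 := by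
  refine evM_step s12_13 ?_
  refine evM_step s12_12 ?_
  refine evM_step s12_11 ?_
  refine evM_step s12_10 ?_
  refine evM_step s12_9 ?_
  refine evM_step s12_8 ?_
  refine evM_step s12_7 ?_
  refine evM_step s12_6 ?_
  refine evM_step s12_5 ?_
  refine evM_step s12_4 ?_
  refine evM_step s12_3 ?_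
  refine evM_step s12_2 ?_
  refine evM_step s12_1 ?_
  rfl
theorem c12 : isScal9 (MatD.evM (dlM DU DU') (([0, 2, 2, 0, 2, 5, 2, 2, 5, 0, 4, 3, 5] : List ℕ).map U43PK126.dec)) = true := by
  rw [r12]; decide +kernel

def q13_1 : MatD 4 K9 := ⟨[⟨2, 0⟩, ⟨0, 0⟩, ⟨0, 0⟩, ⟨0, 0⟩, ⟨0, 0⟩, ⟨2, 1⟩, ⟨0, 1⟩, ⟨1, 0⟩, ⟨0, 0⟩, ⟨1, 0⟩, ⟨2, 2⟩, ⟨2, 0⟩, ⟨0, 0⟩, ⟨2, 0⟩, ⟨0, 1⟩, ⟨1, 2⟩]⟩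
def q13_2 : MatD 4 K9 := ⟨[⟨1, 0⟩, ⟨0, 1⟩, ⟨0, 0⟩, ⟨2, 2⟩, ⟨0, 1⟩, ⟨1, 0⟩, ⟨2, 1⟩, ⟨0, 0⟩, ⟨2, 2⟩, ⟨0, 0⟩, ⟨0, 1⟩, ⟨0, 2⟩, ⟨0, 0⟩, ⟨1, 2⟩, ⟨0, 2⟩, ⟨0, 2⟩]⟩
def q13_3 : MatD 4 K9 := ⟨[⟨2, 0⟩, ⟨0, 1⟩, ⟨1, 2⟩, ⟨0, 0⟩, ⟨0, 2⟩, ⟨0, 0⟩, ⟨1, 1⟩, ⟨0, 1⟩, ⟨1, 1⟩, ⟨1, 2⟩, ⟨2, 0⟩, ⟨2, 2⟩, ⟨0, 0⟩, ⟨0, 2⟩, ⟨2, 1⟩, ⟨2, 0⟩]⟩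
def q13_4 : MatD 4 K9 := ⟨[⟨0, 0⟩, ⟨0, 1⟩, ⟨0, 0⟩, ⟨0, 0⟩, ⟨1, 2⟩, ⟨0, 0⟩, ⟨0, 2⟩, ⟨0, 1⟩, ⟨1, 0⟩, ⟨0, 0⟩, ⟨1, 1⟩, ⟨2, 0⟩, ⟨0, 1⟩, ⟨0, 0⟩, ⟨0, 1⟩, ⟨1, 2⟩]⟩
def q13_5 : MatD 4 K9 := ⟨[⟨0, 0⟩, ⟨2, 2⟩, ⟨2, 0⟩, ⟨0, 1⟩, ⟨2, 1⟩, ⟨0, 1⟩, ⟨1, 1⟩, ⟨1, 2⟩, ⟨2, 0⟩, ⟨2, 1⟩, ⟨0, 0⟩, ⟨1, 0⟩, ⟨0, 2⟩, ⟨2, 2⟩, ⟨2, 0⟩, ⟨0, 0⟩]⟩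
def q13_6 : MatD 4 K9 := ⟨[⟨0, 2⟩, ⟨1, 1⟩, ⟨2, 0⟩, ⟨0, 0⟩, ⟨2, 1⟩, ⟨0, 2⟩, ⟨1, 1⟩, ⟨2, 1⟩, ⟨2, 0⟩, ⟨1, 2⟩, ⟨0, 0⟩, ⟨2, 0⟩, ⟨0, 0⟩, ⟨2, 2⟩, ⟨1, 0⟩, ⟨0, 1⟩]⟩
def q13_7 : MatD 4 K9 := ⟨[⟨0, 1⟩, ⟨0, 0⟩, ⟨0, 2⟩, ⟨2, 1⟩, ⟨1, 2⟩, ⟨0, 1⟩, ⟨0, 0⟩, ⟨2, 0⟩, ⟨1, 0⟩, ⟨1, 2⟩, ⟨1, 0⟩, ⟨0, 0⟩, ⟨0, 0⟩, ⟨0, 2⟩, ⟨2, 1⟩, ⟨2, 0⟩]⟩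
def q13_8 : MatD 4 K9 := ⟨[⟨0, 1⟩, ⟨2, 1⟩, ⟨1, 2⟩, ⟨2, 2⟩, ⟨0, 2⟩, ⟨2, 0⟩, ⟨1, 0⟩, ⟨1, 0⟩, ⟨0, 1⟩, ⟨0, 2⟩, ⟨0, 0⟩, ⟨1, 2⟩, ⟨0, 1⟩, ⟨0, 0⟩, ⟨0, 1⟩, ⟨1, 2⟩]⟩
def q13_9 : MatD 4 K9 := ⟨[⟨1, 1⟩, ⟨0, 2⟩, ⟨0, 0⟩, ⟨2, 0⟩, ⟨2, 0⟩, ⟨0, 0⟩, ⟨0, 1⟩, ⟨2, 1⟩, ⟨2, 1⟩, ⟨2, 2⟩, ⟨0, 2⟩, ⟨1, 1⟩, ⟨2, 1⟩, ⟨0, 1⟩, ⟨1, 2⟩, ⟨2, 2⟩]⟩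
def q13_10 : MatD 4 K9 := ⟨[⟨1, 0⟩, ⟨1, 0⟩, ⟨0, 1⟩, ⟨0, 1⟩, ⟨1, 2⟩, ⟨2, 1⟩, ⟨0, 0⟩, ⟨0, 0⟩, ⟨2, 2⟩, ⟨2, 2⟩, ⟨2, 2⟩, ⟨2, 0⟩, ⟨1, 1⟩, ⟨1, 1⟩, ⟨1, 0⟩, ⟨1, 1⟩]⟩
def q13_11 : MatD 4 K9 := ⟨[⟨0, 2⟩, ⟨0, 1⟩, ⟨0, 1⟩, ⟨0, 2⟩, ⟨1, 0⟩, ⟨1, 0⟩, ⟨2, 0⟩, ⟨2, 0⟩, ⟨1, 1⟩, ⟨0, 0⟩, ⟨1, 1⟩, ⟨0, 0⟩, ⟨0, 0⟩, ⟨1, 1⟩, ⟨0, 0⟩, ⟨1, 1⟩]⟩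
def q13_12 : MatD 4 K9 := ⟨[⟨0, 1⟩, ⟨2, 0⟩, ⟨0, 0⟩, ⟨1, 2⟩, ⟨1, 0⟩, ⟨0, 2⟩, ⟨2, 1⟩, ⟨0, 0⟩, ⟨0, 0⟩, ⟨1, 1⟩, ⟨0, 1⟩, ⟨1, 0⟩, ⟨2, 2⟩, ⟨0, 0⟩, ⟨2, 0⟩, ⟨0, 2⟩]⟩
def q13_13 : MatD 4 K9 := ⟨[⟨0, 2⟩, ⟨0, 0⟩, ⟨0, 0⟩, ⟨0, 0⟩, ⟨0, 0⟩, ⟨0, 2⟩, ⟨0, 0⟩, ⟨0, 0⟩, ⟨0, 0⟩, ⟨0, 0⟩, ⟨0, 2⟩, ⟨0, 0⟩, ⟨0, 0⟩, ⟨0, 0⟩, ⟨0, 0⟩, ⟨0, 2⟩]⟩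
theorem s13_1 : (MatD.one : MatD 4 K9).mul (dlM DU DU' (U43PK126.dec 4)) = q13_1 := by decide +kernel
theorem s13_2 : (q13_1 : MatD 4 K9).mul (dlM DU DU' (U43PK126.dec 0)) = q13_2 := by decide +kernel
theorem s13_3 : (q13_2 : MatD 4 K9).mul (dlM DU DU' (U43PK126.dec 5)) = q13_3 := by decide +kernel
theorem s13_4 : (q13_3 : MatD 4 K9).mul (dlM DU DU' (U43PK126.dec 0)) = q13_4 := by decide +kernel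
theorem s13_5 : (q13_4 : MatD 4 K9).mul (dlM DU DU' (U43PK126.dec 4)) = q13_5 := by decide +kernel
theorem s13_6 : (q13_5 : MatD 4 K9).mul (dlM DU DU' (U43PK126.dec 3)) = q13_6 := by decide +kernel
theorem s13_7 : (q13_6 : MatD 4 K9).mul (dlM DU DU' (U43PK126.dec 4)) = q13_7 := by decide +kernel
theorem s13_8 : (q13_7 : MatD 4 K9).mul (dlM DU DU' (U43PK126.dec 0)) = q13_8 := by decide +kernel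
theorem s13_9 : (q13_8 : MatD 4 K9).mul (dlM DU DU' (U43PK126.dec 3)) = q13_9 := by decide +kernel
theorem s13_10 : (q13_9 : MatD 4 K9).mul (dlM DU DU' (U43PK126.dec 3)) = q13_10 := by decide +kernel
theorem s13_11 : (q13_10 : MatD 4 K9).mul (dlM DU DU' (U43PK126.dec 0)) = q13_11 := by decide +kernel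
theorem s13_12 : (q13_11 : MatD 4 K9).mul (dlM DU DU' (U43PK126.dec 3)) = q13_12 := by decide +kernel
theorem s13_13 : (q13_12 : MatD 4 K9).mul (dlM DU DU' (U43PK126.dec 0)) = q13_13 := by decide +kernel
theorem r13 : MatD.evM (dlM DU DU') (([0, 3, 0, 3, 3, 0, 4, 3, 4, 0, 5, 0, 4] : List ℕ).map U43PK126.dec) = q13_13 := by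
  refine evM_step s13_13 ?_
  refine evM_step s13_12 ?_
  refine evM_step s13_11 ?_
  refine evM_step s13_10 ?_
  refine evM_step s13_9 ?_
  refine evM_step s13_8 ?_
  refine evM_step s13_7 ?_
  refine evM_step s13_6 ?_
  refine evM_step s13_5 ?_
  refine evM_step s13_4 ?_
  refine evM_step s13_3 ?_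
  refine evM_step s13_2 ?_
  refine evM_step s13_1 ?_
  rfl
theorem c13 : isScal9 (MatD.evM (dlM DU DU') (([0, 3, 0, 3, 3, 0, 4, 3, 4, 0, 5, 0, 4] : List ℕ).map U43PK126.dec)) = true := by
  rw [r13]; decide +kernel

def q14_1 : MatD 4 K9 := ⟨[⟨2, 0⟩, ⟨0, 2⟩, ⟨0, 0⟩, ⟨1, 1⟩, ⟨0, 1⟩, ⟨1, 0⟩, ⟨2, 2⟩, ⟨0, 0⟩, ⟨0, 0⟩, ⟨2, 1⟩, ⟨2, 0⟩, ⟨0, 1⟩, ⟨1, 2⟩, ⟨0, 0⟩, ⟨0, 2⟩, ⟨1, 0⟩]⟩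
def q14_2 : MatD 4 K9 := ⟨[⟨1, 0⟩, ⟨0, 0⟩, ⟨0, 1⟩, ⟨2, 2⟩, ⟨0, 2⟩, ⟨1, 0⟩, ⟨0, 0⟩, ⟨2, 1⟩, ⟨0, 0⟩, ⟨2, 0⟩, ⟨2, 0⟩, ⟨1, 2⟩, ⟨2, 1⟩, ⟨2, 2⟩, ⟨2, 2⟩, ⟨1, 0⟩]⟩
def q14_3 : MatD 4 K9 := ⟨[⟨0, 1⟩, ⟨0, 1⟩, ⟨2, 0⟩, ⟨2, 0⟩, ⟨0, 1⟩, ⟨0, 2⟩, ⟨0, 2⟩, ⟨0, 1⟩, ⟨0, 1⟩, ⟨2, 0⟩, ⟨1, 1⟩, ⟨0, 0⟩, ⟨0, 1⟩, ⟨1, 0⟩, ⟨0, 0⟩, ⟨1, 2⟩]⟩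
def q14_4 : MatD 4 K9 := ⟨[⟨1, 0⟩, ⟨2, 0⟩, ⟨2, 0⟩, ⟨1, 0⟩, ⟨2, 0⟩, ⟨2, 0⟩, ⟨0, 2⟩, ⟨0, 2⟩, ⟨0, 1⟩, ⟨1, 0⟩, ⟨0, 0⟩, ⟨1, 2⟩, ⟨0, 1⟩, ⟨2, 0⟩, ⟨1, 1⟩, ⟨0, 0⟩]⟩
def q14_5 : MatD 4 K9 := ⟨[⟨2, 0⟩, ⟨0, 2⟩, ⟨0, 0⟩, ⟨1, 1⟩, ⟨0, 1⟩, ⟨0, 0⟩, ⟨2, 0⟩, ⟨1, 2⟩, ⟨2, 1⟩, ⟨2, 2⟩, ⟨2, 2⟩, ⟨1, 0⟩, ⟨0, 0⟩, ⟨2, 0⟩, ⟨2, 0⟩, ⟨1, 2⟩]⟩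
def q14_6 : MatD 4 K9 := ⟨[⟨1, 0⟩, ⟨0, 2⟩, ⟨2, 1⟩, ⟨0, 0⟩, ⟨0, 2⟩, ⟨1, 0⟩, ⟨0, 0⟩, ⟨2, 1⟩, ⟨1, 2⟩, ⟨0, 0⟩, ⟨0, 2⟩, ⟨1, 0⟩, ⟨0, 0⟩, ⟨2, 1⟩, ⟨2, 0⟩, ⟨0, 1⟩]⟩
def q14_7 : MatD 4 K9 := ⟨[⟨0, 0⟩, ⟨0, 2⟩, ⟨0, 0⟩, ⟨0, 0⟩, ⟨0, 1⟩, ⟨0, 0⟩, ⟨0, 0⟩, ⟨0, 0⟩, ⟨0, 0⟩, ⟨0, 0⟩, ⟨0, 0⟩, ⟨1, 0⟩, ⟨0, 0⟩, ⟨0, 0⟩, ⟨1, 0⟩, ⟨0, 0⟩]⟩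
def q14_8 : MatD 4 K9 := ⟨[⟨0, 0⟩, ⟨1, 1⟩, ⟨1, 0⟩, ⟨0, 2⟩, ⟨0, 2⟩, ⟨0, 0⟩, ⟨0, 0⟩, ⟨0, 0⟩, ⟨0, 0⟩, ⟨2, 0⟩, ⟨0, 1⟩, ⟨1, 2⟩, ⟨0, 0⟩, ⟨1, 0⟩, ⟨2, 2⟩, ⟨2, 0⟩]⟩
def q14_9 : MatD 4 K9 := ⟨[⟨0, 0⟩, ⟨0, 0⟩, ⟨2, 0⟩, ⟨0, 0⟩, ⟨0, 0⟩, ⟨0, 0⟩, ⟨0, 0⟩, ⟨0, 1⟩, ⟨2, 2⟩, ⟨2, 2⟩, ⟨0, 0⟩, ⟨0, 0⟩, ⟨1, 1⟩, ⟨2, 2⟩, ⟨0, 0⟩, ⟨0, 0⟩]⟩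
def q14_10 : MatD 4 K9 := ⟨[⟨0, 0⟩, ⟨1, 2⟩, ⟨1, 0⟩, ⟨0, 2⟩, ⟨1, 1⟩, ⟨0, 0⟩, ⟨1, 0⟩, ⟨0, 1⟩, ⟨2, 0⟩, ⟨1, 0⟩, ⟨0, 2⟩, ⟨0, 1⟩, ⟨0, 1⟩, ⟨0, 1⟩, ⟨0, 2⟩, ⟨0, 2⟩]⟩
def q14_11 : MatD 4 K9 := ⟨[⟨0, 1⟩, ⟨2, 2⟩, ⟨2, 1⟩, ⟨2, 1⟩, ⟨0, 2⟩, ⟨0, 2⟩, ⟨0, 2⟩, ⟨2, 0⟩, ⟨0, 2⟩, ⟨0, 0⟩, ⟨1, 1⟩, ⟨0, 1⟩, ⟨0, 1⟩, ⟨1, 0⟩, ⟨2, 2⟩, ⟨0, 0⟩]⟩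
def q14_12 : MatD 4 K9 := ⟨[⟨0, 2⟩, ⟨2, 0⟩, ⟨2, 1⟩, ⟨0, 0⟩, ⟨0, 1⟩, ⟨2, 0⟩, ⟨0, 0⟩, ⟨2, 1⟩, ⟨0, 1⟩, ⟨1, 0⟩, ⟨2, 1⟩, ⟨0, 0⟩, ⟨0, 2⟩, ⟨1, 0⟩, ⟨0, 0⟩, ⟨2, 1⟩]⟩
def q14_13 : MatD 4 K9 := ⟨[⟨0, 0⟩, ⟨1, 1⟩, ⟨2, 0⟩, ⟨0, 1⟩, ⟨0, 0⟩, ⟨0, 0⟩, ⟨2, 2⟩, ⟨1, 2⟩, ⟨0, 0⟩, ⟨2, 1⟩, ⟨0, 1⟩, ⟨1, 0⟩, ⟨0, 1⟩, ⟨0, 0⟩, ⟨0, 0⟩, ⟨0, 0⟩]⟩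
def q14_14 : MatD 4 K9 := ⟨[⟨0, 2⟩, ⟨0, 0⟩, ⟨0, 0⟩, ⟨0, 0⟩, ⟨0, 0⟩, ⟨0, 2⟩, ⟨0, 0⟩, ⟨0, 0⟩, ⟨0, 0⟩, ⟨0, 0⟩, ⟨0, 2⟩, ⟨0, 0⟩, ⟨0, 0⟩, ⟨0, 0⟩, ⟨0, 0⟩, ⟨0, 2⟩]⟩
theorem s14_1 : (MatD.one : MatD 4 K9).mul (dlM DU DU' (U43PK126.dec 0)) = q14_1 := by decide +kernel
theorem s14_2 : (q14_1 : MatD 4 K9).mul (dlM DU DU' (U43PK126.dec 4)) = q14_2 := by decide +kernel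
theorem s14_3 : (q14_2 : MatD 4 K9).mul (dlM DU DU' (U43PK126.dec 2)) = q14_3 := by decide +kernel
theorem s14_4 : (q14_3 : MatD 4 K9).mul (dlM DU DU' (U43PK126.dec 0)) = q14_4 := by decide +kernel
theorem s14_5 : (q14_4 : MatD 4 K9).mul (dlM DU DU' (U43PK126.dec 3)) = q14_5 := by decide +kernel
theorem s14_6 : (q14_5 : MatD 4 K9).mul (dlM DU DU' (U43PK126.dec 5)) = q14_6 := by decide +kernel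
theorem s14_7 : (q14_6 : MatD 4 K9).mul (dlM DU DU' (U43PK126.dec 0)) = q14_7 := by decide +kernel
theorem s14_8 : (q14_7 : MatD 4 K9).mul (dlM DU DU' (U43PK126.dec 4)) = q14_8 := by decide +kernel
theorem s14_9 : (q14_8 : MatD 4 K9).mul (dlM DU DU' (U43PK126.dec 2)) = q14_9 := by decide +kernel
theorem s14_10 : (q14_9 : MatD 4 K9).mul (dlM DU DU' (U43PK126.dec 0)) = q14_10 := by decide +kernel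
theorem s14_11 : (q14_10 : MatD 4 K9).mul (dlM DU DU' (U43PK126.dec 3)) = q14_11 := by decide +kernel
theorem s14_12 : (q14_11 : MatD 4 K9).mul (dlM DU DU' (U43PK126.dec 4)) = q14_12 := by decide +kernel
theorem s14_13 : (q14_12 : MatD 4 K9).mul (dlM DU DU' (U43PK126.dec 0)) = q14_13 := by decide +kernel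
theorem s14_14 : (q14_13 : MatD 4 K9).mul (dlM DU DU' (U43PK126.dec 2)) = q14_14 := by decide +kernel
theorem r14 : MatD.evM (dlM DU DU') (([2, 0, 4, 3, 0, 2, 4, 0, 5, 3, 0, 2, 4, 0] : List ℕ).map U43PK126.dec) = q14_14 := by
  refine evM_step s14_14 ?_
  refine evM_step s14_13 ?_
  refine evM_step s14_12 ?_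
  refine evM_step s14_11 ?_
  refine evM_step s14_10 ?_
  refine evM_step s14_9 ?_
  refine evM_step s14_8 ?_
  refine evM_step s14_7 ?_
  refine evM_step s14_6 ?_
  refine evM_step s14_5 ?_
  refine evM_step s14_4 ?_
  refine evM_step s14_3 ?_
  refine evM_step s14_2 ?_
  refine evM_step s14_1 ?_
  rfl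
theorem c14 : isScal9 (MatD.evM (dlM DU DU') (([2, 0, 4, 3, 0, 2, 4, 0, 5, 3, 0, 2, 4, 0] : List ℕ).map U43PK126.dec)) = true := by
  rw [r14]; decide +kernel

theorem hchkU : ∀ b ∈ U43PK126.bases, isScal9 (MatD.evM (dlM DU DU') (b.map U43PK126.dec)) = true := by
  unfold U43PK126.bases
  refine List.forall_mem_cons.2 ⟨c0, ?_⟩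
  refine List.forall_mem_cons.2 ⟨c1, ?_⟩
  refine List.forall_mem_cons.2 ⟨c2, ?_⟩
  refine List.forall_mem_cons.2 ⟨c3, ?_⟩
  refine List.forall_mem_cons.2 ⟨c4, ?_⟩
  refine List.forall_mem_cons.2 ⟨c5, ?_⟩
  refine List.forall_mem_cons.2 ⟨c6, ?_⟩
  refine List.forall_mem_cons.2 ⟨c7, ?_⟩
  refine List.forall_mem_cons.2 ⟨c8, ?_⟩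
  refine List.forall_mem_cons.2 ⟨c9, ?_⟩
  refine List.forall_mem_cons.2 ⟨c10, ?_⟩
  refine List.forall_mem_cons.2 ⟨c11, ?_⟩
  refine List.forall_mem_cons.2 ⟨c12, ?_⟩
  refine List.forall_mem_cons.2 ⟨c13, ?_⟩
  refine List.forall_mem_cons.2 ⟨c14, ?_⟩
  exact fun _ h => absurd h List.not_mem_nil

theorem hncU : ((DU .a).mul (DU .b)).entry 0 0 ≠ ((DU .b).mul (DU .a)).entry 0 0 := by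
  decide +kernel

abbrev PSU4 : Type := Cfsg.PSU 4 K9 3

theorem card_psu : Nat.card PSU4 = 3265920 := by
  have h := Cfsg.Agent.S0280.result (F := K9) (q := 3) k9_card 4 (by norm_num)
  have e2 : 3 ^ (4 * (4 - 1) / 2) * ∏ i ∈ Finset.range 4,
      (if Even i then 3 ^ (i + 1) + 1 else 3 ^ (i + 1) - 1) = 52254720 := by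
    decide
  rw [e2] at h
  have h' : 4 * (4 * Nat.card PSU4) = 52254720 := h
  omega

theorem iso_su : Nonempty (PresentedGroup U43PS.Rset ≃* PSU4) := by
  haveI : IsSimpleGroup (PresentedGroup U43PS.Rset) := U43PS.main.1
  haveI : Finite (PresentedGroup U43PS.Rset) := U43PS.card_top.1
  obtain ⟨φ, hφ⟩ := exists_hom_psu9 DU DU' hinvU hdetU hunitU U43PS.Rset U43PK126.dec U43PK126.bases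
    U43PK126.hR1 hchkU
  have hne : φ (PresentedGroup.of .a) ≠ 1 := by
    intro h
    rw [hφ] at h
    exact suOf9_not_mem_center DU hdetU hunitU .a .b 0 0 hncU ((QuotientGroup.eq_one_iff _).mp h)
  have hinj : Function.Injective φ := by
    rw [← MonoidHom.ker_eq_bot_iff]
    rcases IsSimpleGroup.eq_bot_or_eq_top_of_normal φ.ker inferInstance with h | h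
    · exact h
    · exfalso
      apply hne
      have : PresentedGroup.of .a ∈ φ.ker := by rw [h]; trivial
      exact this
  haveI : Finite PSU4 := Nat.finite_of_card_ne_zero (by rw [card_psu]; norm_num)
  have hb : Function.Bijective φ := by
    rw [Nat.bijective_iff_injective_and_card]
    exact ⟨hinj, U43PS.main.2.trans card_psu.symm⟩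
  exact ⟨MulEquiv.ofBijective φ hb⟩

/-- over an arbitrary field with nine elements -/
theorem iso_su_field {K : Type*} [Field K] [Fintype K] (hK : Fintype.card K = 9) :
    Nonempty (PresentedGroup U43PS.Rset ≃* Cfsg.PSU 4 K 3) := by
  obtain ⟨e⟩ := iso_su
  have eK : K9 ≃+* K := FiniteField.ringEquivOfCardEq (by rw [card_K9, hK])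
  exact ⟨e.trans (Cfsg.Agent.Lib.Helper6.SUTransport.psuEquiv eK)⟩

end Cfsg.Agent.Helper4.TC.U43Iso
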