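import Cfsg.Agent.Lib.Helper4.TC.U43PK126T0
import Cfsg.Agent.Lib.Helper4.TC.U43PK126T1
import Cfsg.Agent.Lib.Helper4.TC.U43PK126T2
import Cfsg.Agent.Lib.Helper4.TC.U43PK126T3
import Cfsg.Agent.Lib.Helper4.TC.U43PK126T4
import Cfsg.Agent.Lib.Helper4.TC.U43PK126T5

set_option autoImplicit false
set_option maxRecDepth 100000
set_option linter.unusedVariables false

namespace Cfsg.Agent.Helper4.TC.U43PK126

open Cfsg.Agent.Helper4.TC

def m_0 : ℕ := 0x2178001220010e00121020f800120020e80011f000e60011e000e40011d040e20011c000dc0011b030d00011a020d02f907030cef98b6000cf0e888050ccc388b040ccc187d000cce68a8030cb13814000c723835030c31c863040c038878030c00010f020c06f8fd000c06c860050babc855030ba0010b020babd823000babe830040b89f890030b800107020b800106000b83085c050b4338ff040b4fd828030b49b8bb020b4e88d6050b2b981e040b2000ff030b283848000b2000fd050b06b872040b0000fb020b0818dc000b0788a6050ae69887040ae7e8dc030ae7a824020ae7b877050aca1890030ac000f3020a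c5d81e000acac89e040aaca879030ab3f887020ab02899000ab4687c040a6cc8550309f4a8c30409d338d20309cc68c00009cb28ca0509a000e70409a568830009a9c82705098d789b03098738a802098d087d00098000e105094f4829040948b874000948c83d04090d882d03090000dc020908285900090dc8970508d1082b0008d1181d05087058bb03086e38950208699871000870782a03085438100507eb08cc0307e8e81e0207e428cc0007e958740307cb68100507aaf8160407a000cc0207b168b30007a8d84a040793684e030793b84d000793780605076b483404076c58a203076c784e000773283b050754081204074cb88702074b181100075418a20406eed8310306f0489d0206e000bc0006e000bb0506d3c8770406cde8950306c000b80206c918740506a000b60306b6e8320006b2286304068b783b030691a835020691781c000691883505067768070306771863020656d83505062ef83703062e984a02062ea81800062ec81005060000a804060000a703060000a600061508790505e000a40405e000a30205e000a20005ebb82f0405cf080f0305d0a8900205ca78980005c0009d0505ad68480405ad48960305a0009a0005a000990505800098040580009702058000960005800095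0505600094030572180e020571d835030546486f020546586e000550684304052f584a030520008d020520008c000520008b05050fc85a0405151823030500008802050000870004e9d84d0504c5b87f0404c3a8730304c000830004cfe8260504a848190404a8580a0204a0007f0004a8784d050480007d040480007c020487c857050474f82803046bf85d020460007800046000770504352861020435580705040000740304000073020400007200040000710403e6380b0303e0006f0203e0006e0003e678430503c478090403cb88590303c5c8560203c9083f0503a000680303a000670203a000660003b12846040391b81b0303919834020397280e050371e81c040360006003037708460003753809050340005d040340005c0203573814000340005a0303200059020320005800032000570503000056040300005503031a983900030c98180402fac8440202f6484a0002f658490502d358100402cb583d0302c0004d0502a0004c0302b638060202a0004a0002b348150402800048030297581a02028000460402766842000276f8050502400043040254283a030256780f0202568805050220003f03022b383a020220003d0402138816030200003b020200003a00020eb8310501eee82e0401e0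00370001e000360501c000350401c000340301d7481c0201d1f82b0501a000310301a000300201a0002f040180002e030180002d020180002c000180002b050166681f0401600029000160002805014868250301400026020140002500014000240501200023040124681e000135481b0501000020040100001f000100001e0500e0001d0400e0001c0300e0001b0200e0001a0400c000190300c000180200d698150000c000160500a000150400a000140300b6a8120000a0001205008000110400800010020080000f000080000e050060000d040060000c020060000b050040000a0300400009020040000800004000070400200006030020000502002000040000200003050000000204000000010000000000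
def jm_0 : ℕ := 0x1051b000000b9000001e9000002b10000006100000129000001d9000001c90000611b000000610000000000000291000003310000792b000000000000791300007903000000610000000000000000000003e1000000d900000221000000b90000018100000121000000000000017100000000000002d9000000000000fe1b0000017900000349000002a100007b1b00007b13000001f90000000000000351000002a90000ec23000001890000021100000131000000b1000001590000c9230000c41b00004e030000000000000379000086030000dd23000002b9000002910000000000008e2b0000ca230000ca03000002a1000000000000fe13000002610000652b0000650300008f2b000002790001021b000001010000017100004e230000691b000003c1000000390000b31300004e2b0000000000006323000002b100003c230000ba1300003c030000b32b000001910000011100004f1b0000422b0000ec1b00004e1b000042030000ac23000002090000000000000000000000a100000231000000000000011100000000000062130001120300000061000111030000631300006303000001210000331b0000ae1b0000a0230000391b00003913000002610000000000000000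000000000000891b000000000000000000000000000002010000004100000019000002d1000000000000dd2b0000023100000000000000000000000000000000000000000000000000000000000112230000321300002a1b00002a130000d403000002310000000000000000000000000001032b00005e2b0000000000000000000002e1000003490000011900000000000000510000272b0000272300000000000002f10000000000000000000000d10000892b000000c100000000000000000000212b000001410000000000000000000000000000000000002a2300000000000000000000026100000091000100230000f21b0000b70b00000000000000000000000000011313000061230000b213000033130000931b0000000000005b1300002103000000000000000000004713000000000000000000000000000000000000000000000000000000a10000ec2b00000091000017130000170300003c2b0000b31b00000000000000000000171b000000000000c713000000000000af13000000000000132300005b2b000000000000d3130000131b00001313000000000000ce13000000000000c81300000000000000000000a9030000a02b000000000000000000000000000000000000af23000093130000000000000000000000000000000000000000000000000000000000006d03000000000000000000007e030000000000000000000000000000000000006c230000751b0000000000000000000000000000000000000000000000000000000000000000000000000000442b0000000000000000000000000000440300000000000000000000000000000000000000000000000000000000000000000000000000000000000000000000000000000000000000000000000000000000000000000000000000000000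

noncomputable def mgT (b : ℕ) : ℕ := m_0
noncomputable def jmT (b : ℕ) : ℕ := jm_0
noncomputable def eT (c b : ℕ) : ℕ := Bool.rec (motive := fun _ => ℕ) (Bool.rec (motive := fun _ => ℕ) (ecol0 b) (Bool.rec (motive := fun _ => ℕ) (ecol1 b) (ecol2 b) (Nat.ble 2 c)) (Nat.ble 1 c)) (Bool.rec (motive := fun _ => ℕ) (ecol3 b) (Bool.rec (motive := fun _ => ℕ) (ecol4 b) (ecol5 b) (Nat.ble 5 c)) (Nat.ble 4 c)) (Nat.ble 3 c)
noncomputable def jT (c b : ℕ) : ℕ := Bool.rec (motive := fun _ => ℕ) (Bool.rec (motive := fun _ => ℕ) (jcol0 b) (Bool.rec (motive := fun _ => ℕ) (jcol1 b) (jcol2 b) (Nat.ble 2 c)) (Nat.ble 1 c)) (Bool.rec (motive := fun _ => ℕ) (jcol3 b) (Bool.rec (motive := fun _ => ℕ) (jcol4 b) (jcol5 b) (Nat.ble 5 c)) (Nat.ble 4 c)) (Nat.ble 3 c)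

def rw0 : List ℕ := [0, 0]
def rw1 : List ℕ := [2, 0, 5, 2, 2, 0, 5, 2]
def rw2 : List ℕ := [2, 2, 2, 2, 2]
def rw3 : List ℕ := [0, 4, 3, 5, 0, 2, 2, 0, 2, 5, 2, 2, 5]
def rw4 : List ℕ := [0, 5, 0, 4, 0, 3, 0, 3, 3, 0, 4, 3, 4]
def rw5 : List ℕ := [2, 0, 4, 4, 0, 2, 0, 4, 4, 0]
def rw6 : List ℕ := [4, 4, 4, 4, 4, 4, 4]
def rw7 : List ℕ := [0, 3, 3, 0, 4, 3, 4, 0, 5, 0, 4, 0, 3]
def rw8 : List ℕ := [4, 0, 2, 0, 3, 5, 0, 3, 3, 4, 4, 2, 4]
def rw9 : List ℕ := [0, 2, 2, 5, 0, 2, 2, 5, 0, 2, 2, 5]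
def rw10 : List ℕ := [0, 5, 2, 2, 0, 5, 2, 2]
def rw11 : List ℕ := [2, 2, 0, 5, 2, 2, 0, 5]
def rw12 : List ℕ := [4, 0, 4, 0, 4, 0, 4, 0, 4, 0]
def rw13 : List ℕ := [4, 4, 2, 4, 4, 0, 2, 0, 3, 5, 0, 3, 3]
def rw14 : List ℕ := [4, 0, 2, 0, 4, 4, 0, 2, 0, 4]
def rw15 : List ℕ := [2, 4, 0, 2, 0, 4, 3, 0, 2, 4, 0, 5, 3, 0]
def rw16 : List ℕ := [2, 2, 5, 0, 2, 2, 5, 0, 2, 2, 5, 0]
def rw17 : List ℕ := [5, 0, 2, 2, 5, 0, 2, 2, 5, 0, 2, 2]
def rw18 : List ℕ := [0, 2, 2, 0, 2, 5, 2, 2, 5, 0, 4, 3, 5]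
def rw19 : List ℕ := [5, 0, 4, 0, 3, 0, 3, 3, 0, 4, 3, 4, 0]
def rw20 : List ℕ := [5, 2, 2, 5, 0, 4, 3, 5, 0, 2, 2, 0, 2]
def rw21 : List ℕ := [2, 4, 0, 5, 3, 0, 2, 4, 0, 2, 0, 4, 3, 0]
def rw22 : List ℕ := [2, 4, 2, 4, 2, 4, 2, 4, 2, 4, 2, 4]
def rw23 : List ℕ := [0, 2, 4, 0, 5, 3, 0, 2, 4, 0, 2, 0, 4, 3]
def rw24 : List ℕ := [2, 5, 0, 4, 3, 5, 0, 2, 2, 0, 2, 5, 2]
def rw25 : List ℕ := [4, 2, 4, 4, 0, 2, 0, 3, 5, 0, 3, 3, 4]
def rw26 : List ℕ := [2, 2, 0, 2, 5, 2, 2, 5, 0, 4, 3, 5, 0]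
def rw27 : List ℕ := [4, 3, 4, 0, 5, 0, 4, 0, 3, 0, 3, 3, 0]
def rw28 : List ℕ := [0, 2, 5, 2, 2, 5, 0, 4, 3, 5, 0, 2, 2]
def rw29 : List ℕ := [2, 0, 4, 3, 0, 2, 4, 0, 5, 3, 0, 2, 4, 0]
def rw30 : List ℕ := [1, 2, 0, 3, 1, 2, 0, 3, 1, 2, 0, 3]
def rw31 : List ℕ := [4, 0, 5, 0, 4, 0, 3, 0, 3, 3, 0, 4, 3]
def rw32 : List ℕ := [2, 5, 2, 2, 5, 0, 4, 3, 5, 0, 2, 2, 0]
def rw33 : List ℕ := [1, 2, 0, 2, 0, 3, 1, 3, 1, 2, 0, 2, 0, 3, 1, 3]
def rw34 : List ℕ := [3, 0, 2, 4, 0, 5, 3, 0, 2, 4, 0, 2, 0, 4]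
def rw35 : List ℕ := [3, 4, 0, 5, 0, 4, 0, 3, 0, 3, 3, 0, 4]
def rw36 : List ℕ := [4, 0, 2, 0, 4, 3, 0, 2, 4, 0, 5, 3, 0, 2]
def rw37 : List ℕ := [4, 3, 5, 0, 2, 2, 0, 2, 5, 2, 2, 5, 0]
def rw38 : List ℕ := [5, 3, 0, 2, 4, 0, 2, 0, 4, 3, 0, 2, 4, 0]
def rw39 : List ℕ := [3, 1, 2, 0, 3, 1, 2, 0, 3, 1, 2, 0]
def rw40 : List ℕ := [0, 3, 1, 3, 1, 2, 0, 2, 0, 3, 1, 3, 1, 2, 0, 2]
def rw41 : List ℕ := [4, 4, 0, 2, 0, 3, 5, 0, 3, 3, 4, 4, 2]
def rw42 : List ℕ := [0, 4, 0, 4, 0, 4, 0, 4, 0, 4]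
def rw43 : List ℕ := [2, 2, 5, 0, 4, 3, 5, 0, 2, 2, 0, 2, 5]
def rw44 : List ℕ := [0, 2, 4, 0, 2, 0, 4, 3, 0, 2, 4, 0, 5, 3]
def rw45 : List ℕ := [4, 0, 5, 3, 0, 2, 4, 0, 2, 0, 4, 3, 0, 2]
def rw46 : List ℕ := [2, 0, 3, 5, 0, 3, 3, 4, 4, 2, 4, 4, 0]
def rw47 : List ℕ := [3, 5, 0, 3, 3, 4, 4, 2, 4, 4, 0, 2, 0]
def rw48 : List ℕ := [5, 0, 3, 3, 4, 4, 2, 4, 4, 0, 2, 0, 3]
def rw49 : List ℕ := [0, 3, 5, 0, 3, 3, 4, 4, 2, 4, 4, 0, 2]
def rw50 : List ℕ := [0, 2, 0, 4, 4, 0, 2, 0, 4, 4]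
def rw51 : List ℕ := [2, 0, 3, 1, 2, 0, 3, 1, 2, 0, 3, 1]
def rw52 : List ℕ := [4, 2, 4, 2, 4, 2, 4, 2, 4, 2, 4, 2]
def rw53 : List ℕ := [0, 3, 1, 2, 0, 3, 1, 2, 0, 3, 1, 2]
def rw54 : List ℕ := [2, 5, 0, 2, 2, 5, 0, 2, 2, 5, 0, 2]
def rw55 : List ℕ := [5, 2, 2, 0, 5, 2, 2, 0]
def rw56 : List ℕ := [4, 4, 0, 2, 0, 4, 4, 0, 2, 0]
def rw57 : List ℕ := [3, 4, 4, 2, 4, 4, 0, 2, 0, 3, 5, 0, 3]
def rw58 : List ℕ := [3, 0, 3, 3, 0, 4, 3, 4, 0, 5, 0, 4, 0]
def rw59 : List ℕ := [3, 3, 4, 4, 2, 4, 4, 0, 2, 0, 3, 5, 0]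
def rw60 : List ℕ := [5, 0, 2, 2, 0, 2, 5, 2, 2, 5, 0, 4, 3]
def rw61 : List ℕ := [0, 2, 0, 4, 3, 0, 2, 4, 0, 5, 3, 0, 2, 4]
def rw62 : List ℕ := [5, 0, 4, 3, 5, 0, 2, 2, 0, 2, 5, 2, 2]
def rw63 : List ℕ := [2, 0, 2, 0, 2, 0, 2, 0, 2, 0, 2, 0, 2, 0, 2, 0, 2, 0]
def rw64 : List ℕ := [3, 5, 0, 2, 2, 0, 2, 5, 2, 2, 5, 0, 4]
def rw65 : List ℕ := [2, 0, 3, 1, 3, 1, 2, 0, 2, 0, 3, 1, 3, 1, 2, 0]
def rw66 : List ℕ := [3, 1, 2, 0, 2, 0, 3, 1, 3, 1, 2, 0, 2, 0, 3, 1]
def rw67 : List ℕ := [3, 3, 0, 4, 3, 4, 0, 5, 0, 4, 0, 3, 0]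
def rw68 : List ℕ := [1, 3, 1, 2, 0, 2, 0, 3, 1, 3, 1, 2, 0, 2, 0, 3]
noncomputable def relW (i : ℕ) : List ℕ := Bool.rec (motive := fun _ => List ℕ) (Bool.rec (motive := fun _ => List ℕ) (Bool.rec (motive := fun _ => List ℕ) (Bool.rec (motive := fun _ => List ℕ) (Bool.rec (motive := fun _ => List ℕ) (Bool.rec (motive := fun _ => List ℕ) (rw0) (rw1) (Nat.ble 1 i)) (Bool.rec (motive := fun _ => List ℕ) (rw2) (rw3) (Nat.ble 3 i)) (Nat.ble 2 i)) (Bool.rec (motive := fun _ => List ℕ) (Bool.rec (motive := fun _ => List ℕ) (rw4) (rw5) (Nat.ble 5 i)) (Bool.rec (motive := fun _ => List ℕ) (rw6) (rw7) (Nat.ble 7 i)) (Nat.ble 6 i)) (Nat.ble 4 i)) (Bool.rec (motive := fun _ => List ℕ) (Bool.rec (motive := fun _ => List ℕ) (Bool.rec (motive := fun _ => List ℕ) (rw8) (rw9) (Nat.ble 9 i)) (Bool.rec (motive := fun _ => List ℕ) (rw10) (rw11) (Nat.ble 11 i)) (Nat.ble 10 i)) (Bool.rec (motive := fun _ => List ℕ) (Bool.rec (motive := fun _ =>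 List ℕ) (rw12) (rw13) (Nat.ble 13 i)) (Bool.rec (motive := fun _ => List ℕ) (rw14) (Bool.rec (motive := fun _ => List ℕ) (rw15) (rw16) (Nat.ble 16 i)) (Nat.ble 15 i)) (Nat.ble 14 i)) (Nat.ble 12 i)) (Nat.ble 8 i)) (Bool.rec (motive := fun _ => List ℕ) (Bool.rec (motive := fun _ => List ℕ) (Bool.rec (motive := fun _ => List ℕ) (Bool.rec (motive := fun _ => List ℕ) (rw17) (rw18) (Nat.ble 18 i)) (Bool.rec (motive := fun _ => List ℕ) (rw19) (rw20) (Nat.ble 20 i)) (Nat.ble 19 i)) (Bool.rec (motive := fun _ => List ℕ) (Bool.rec (motive := fun _ => List ℕ) (rw21) (rw22) (Nat.ble 22 i)) (Bool.rec (motive := fun _ => List ℕ) (rw23) (rw24) (Nat.ble 24 i)) (Nat.ble 23 i)) (Nat.ble 21 i)) (Bool.rec (motive := fun _ => List ℕ) (Bool.rec (motive := fun _ => List ℕ) (Bool.rec (motive := fun _ => List ℕ) (rw25) (rw26) (Nat.ble 26 i)) (Bool.rec (motive := fun _ => List ℕ) (rw27) (rw28) (Nat.ble 28 i)) (Nat.ble 27 i)) (Bool.rec (motive := fun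 _ => List ℕ) (Bool.rec (motive := fun _ => List ℕ) (rw29) (rw30) (Nat.ble 30 i)) (Bool.rec (motive := fun _ => List ℕ) (rw31) (Bool.rec (motive := fun _ => List ℕ) (rw32) (rw33) (Nat.ble 33 i)) (Nat.ble 32 i)) (Nat.ble 31 i)) (Nat.ble 29 i)) (Nat.ble 25 i)) (Nat.ble 17 i)) (Bool.rec (motive := fun _ => List ℕ) (Bool.rec (motive := fun _ => List ℕ) (Bool.rec (motive := fun _ => List ℕ) (Bool.rec (motive := fun _ => List ℕ) (Bool.rec (motive := fun _ => List ℕ) (rw34) (rw35) (Nat.ble 35 i)) (Bool.rec (motive := fun _ => List ℕ) (rw36) (rw37) (Nat.ble 37 i)) (Nat.ble 36 i)) (Bool.rec (motive := fun _ => List ℕ) (Bool.rec (motive := fun _ => List ℕ) (rw38) (rw39) (Nat.ble 39 i)) (Bool.rec (motive := fun _ => List ℕ) (rw40) (rw41) (Nat.ble 41 i)) (Nat.ble 40 i)) (Nat.ble 38 i)) (Bool.rec (motive := fun _ => List ℕ) (Bool.rec (motive := fun _ => List ℕ) (Bool.rec (motive := fun _ => List ℕ) (rw42) (rw43) (Nat.ble 43 i)) (Bool.rec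 (motive := fun _ => List ℕ) (rw44) (rw45) (Nat.ble 45 i)) (Nat.ble 44 i)) (Bool.rec (motive := fun _ => List ℕ) (Bool.rec (motive := fun _ => List ℕ) (rw46) (rw47) (Nat.ble 47 i)) (Bool.rec (motive := fun _ => List ℕ) (rw48) (Bool.rec (motive := fun _ => List ℕ) (rw49) (rw50) (Nat.ble 50 i)) (Nat.ble 49 i)) (Nat.ble 48 i)) (Nat.ble 46 i)) (Nat.ble 42 i)) (Bool.rec (motive := fun _ => List ℕ) (Bool.rec (motive := fun _ => List ℕ) (Bool.rec (motive := fun _ => List ℕ) (Bool.rec (motive := fun _ => List ℕ) (rw51) (rw52) (Nat.ble 52 i)) (Bool.rec (motive := fun _ => List ℕ) (rw53) (rw54) (Nat.ble 54 i)) (Nat.ble 53 i)) (Bool.rec (motive := fun _ => List ℕ) (Bool.rec (motive := fun _ => List ℕ) (rw55) (rw56) (Nat.ble 56 i)) (Bool.rec (motive := fun _ => List ℕ) (rw57) (Bool.rec (motive := fun _ => List ℕ) (rw58) (rw59) (Nat.ble 59 i)) (Nat.ble 58 i)) (Nat.ble 57 i)) (Nat.ble 55 i)) (Bool.rec (motive := fun _ => List ℕ) (Bool.rec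 (motive := fun _ => List ℕ) (Bool.rec (motive := fun _ => List ℕ) (rw60) (rw61) (Nat.ble 61 i)) (Bool.rec (motive := fun _ => List ℕ) (rw62) (rw63) (Nat.ble 63 i)) (Nat.ble 62 i)) (Bool.rec (motive := fun _ => List ℕ) (Bool.rec (motive := fun _ => List ℕ) (rw64) (rw65) (Nat.ble 65 i)) (Bool.rec (motive := fun _ => List ℕ) (rw66) (Bool.rec (motive := fun _ => List ℕ) (rw67) (rw68) (Nat.ble 68 i)) (Nat.ble 67 i)) (Nat.ble 66 i)) (Nat.ble 64 i)) (Nat.ble 60 i)) (Nat.ble 51 i)) (Nat.ble 34 i)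
def sw0 : List ℕ := [0]
def sw1 : List ℕ := [2]
noncomputable def subW (i : ℕ) : List ℕ := Bool.rec (motive := fun _ => List ℕ) (sw0) (sw1) (Nat.ble 1 i)

noncomputable def data : Data where
  w := 11
  mask := 2047
  tw := 10
  tmask := 1023
  hsh := 21
  lsh := 32
  ew := 31
  emask := 2147483647
  mw := 40
  mmask := 1099511627775
  jw := 32
  jmask := 4294967295
  bsh := 11
  bmask := 2047
  nc := 6
  fuel := 4
  E := eT
  J := jT
  Mg := mgT
  JM := jmT
  relW := relW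
  nrot := 69
  subW := subW
  nsub := 2

def M : ℕ := 291
def n : ℕ := 126

/-- the relators, as lists of letter codes in application order -/
def bases : List (List ℕ) := [
  [0, 0],
  [2, 2, 2, 2, 2],
  [2, 0, 2, 0, 2, 0, 2, 0, 2, 0, 2, 0, 2, 0, 2, 0, 2, 0],
  [2, 0, 3, 1, 2, 0, 3, 1, 2, 0, 3, 1],
  [2, 0, 2, 0, 3, 1, 3, 1, 2, 0, 2, 0, 3, 1, 3, 1],
  [4, 4, 4, 4, 4, 4, 4],
  [5, 2, 2, 0, 5, 2, 2, 0],
  [2, 0, 4, 4, 0, 2, 0, 4, 4, 0],
  [4, 0, 4, 0, 4, 0, 4, 0, 4, 0],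
  [2, 2, 5, 0, 2, 2, 5, 0, 2, 2, 5, 0],
  [4, 2, 4, 2, 4, 2, 4, 2, 4, 2, 4, 2],
  [0, 2, 0, 3, 5, 0, 3, 3, 4, 4, 2, 4, 4],
  [0, 2, 2, 0, 2, 5, 2, 2, 5, 0, 4, 3, 5],
  [0, 3, 0, 3, 3, 0, 4, 3, 4, 0, 5, 0, 4],
  [2, 0, 4, 3, 0, 2, 4, 0, 5, 3, 0, 2, 4, 0]
]

/-- the rotations used: (relator, amount) -/
def rots : List (ℕ × ℕ) := [(0, 0), (6, 2), (1, 0), (12, 9), (13, 9), (7, 0), (5, 0), (13, 2), (11, 12), (9, 3), (6, 3), (6, 1), (8, 0), (11, 8), (7, 3), (14, 11), (9, 0), (9, 2), (12, 0), (13, 10), (12, 5), (14, 5), (10, 1), (14, 4), (12, 7), (11, 9), (12, 1), (13, 6), (12, 3), (14, 0), (3, 3), (13, 8), (12, 4), (4, 7), (14, 3), (13, 7), (14, 12), (12, 10), (14, 8), (3, 2), (4, 3), (11, 11), (8, 1), (12, 6), (14, 10), (14, 6), (11, 1), (11, 3), (11, 4), (11, 2), (7, 4), (3, 0), (10, 0), (3, 1), (9, 1), (6, 0), (7, 2), (11, 7), (13, 1), (11, 6), (12, 12), (14, 13), (12, 8), (2, 0), (12, 11), (4, 2), (4, 6), (13, 3), (4, 5)]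

/-- the subgroup generators, as lists of letter codes in application order -/
def subsL : List (List ℕ) := [
  [0],
  [2]
]

end Cfsg.Agent.Helper4.TC.U43PK126
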