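import Cfsg.Agent.Lib.Helper4.TC.MatSU

set_option autoImplicit false
set_option linter.unusedVariables false
set_option linter.unusedSectionVars false
set_option linter.style.haveILetI false

/-! Homomorphisms from presented groups into the projective special unitary groups over the
field with four elements, given by explicit unitary matrices (not necessarily involutions)
whose relators evaluate to scalar matrices. -/

namespace Cfsg.Agent.Helper4.TC

open Cfsg.Agent.Lib.Helper6.FFour Matrix

section SUHom2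

variable {n : ℕ} {α : Type} (D D' : α → MatD n K4)
  (hinv : ∀ x, (D x).mul (D' x) = MatD.one)
  (hdet : ∀ x, (matOf D x).det = 1)
  (hunit : ∀ x, (D x).tr.mul ((D x).mapE fun y => y * y) = MatD.one)

/-- the unitary matrix of a generator -/
def suOf2 (x : α) : ↥(Cfsg.SU n K4 2) :=
  emb k4_card (RingHom.id K4) (matOf D x) (hdet x) (matOf_unit D hunit x)

theorem mat_suOf2 (x : α) : mat (suOf2 D hdet hunit x) = matOf D x := by
  unfold suOf2
  rw [mat_emb]
  ext i j
  rfl

include hinv in
theorem mat_gl_su2 (l : Letter α) :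
    mat (gl (suOf2 D hdet hunit) l) = (dlM D D' l).toMatE (Equiv.refl (Fin n)) := by
  rcases l with ⟨x, s⟩
  cases s
  · show mat ((suOf2 D hdet hunit x)⁻¹) = (D' x).toMatE (Equiv.refl (Fin n))
    have h1 : mat ((suOf2 D hdet hunit x)⁻¹) * mat (suOf2 D hdet hunit x) = 1 := by
      rw [← mat_mul, inv_mul_cancel, mat_one]
    have h2 : mat (suOf2 D hdet hunit x) * (D' x).toMatE (Equiv.refl (Fin n)) = 1 := by
      rw [mat_suOf2]
      unfold matOf
      rw [← MatD.toMatE_mul, hinv, MatD.toMatE_one]
    calc mat ((suOf2 D hdet hunit x)⁻¹)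
        = mat ((suOf2 D hdet hunit x)⁻¹) *
            (mat (suOf2 D hdet hunit x) * (D' x).toMatE (Equiv.refl (Fin n))) := by
          rw [h2, Matrix.mul_one]
      _ = (D' x).toMatE (Equiv.refl (Fin n)) := by
          rw [← Matrix.mul_assoc, h1, Matrix.one_mul]
  · show mat (suOf2 D hdet hunit x) = _
    rw [mat_suOf2]
    rfl

include hinv in
theorem mat_ev_su2 (ls : List (Letter α)) :
    mat (ev (suOf2 D hdet hunit) ls) =
      (MatD.evM (dlM D D') ls).toMatE (Equiv.refl (Fin n)) := by
  induction ls with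
  | nil =>
    show mat (1 : ↥(Cfsg.SU n K4 2)) = _
    rw [mat_one]
    exact (MatD.toMatE_one _).symm
  | cons l ls ih =>
    show mat (ev (suOf2 D hdet hunit) ls * gl (suOf2 D hdet hunit) l) =
      ((MatD.evM (dlM D D') ls).mul (dlM D D' l)).toMatE (Equiv.refl (Fin n))
    rw [mat_mul, ih, mat_gl_su2 D D' hinv, MatD.toMatE_mul]

include hinv in
theorem ev_su2_mem_center (ls : List (Letter α))
    (h : isScal (MatD.evM (dlM D D') ls) = true) :
    ev (suOf2 D hdet hunit) ls ∈ Subgroup.center ↥(Cfsg.SU n K4 2) := by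
  refine mem_center_of_scalar _ ((MatD.evM (dlM D D') ls).entry 0 0) ?_
  rw [mat_ev_su2 D D' hinv, ← toMatE_scalD]
  exact congrArg _ (of_decide_eq_true h)

include hinv in
/-- the homomorphism to the projective special unitary group -/
theorem exists_hom_psu2 (Rs : Set (FreeGroup α)) (dec : ℕ → Letter α) (bases : List (List ℕ))
    (hR1 : ∀ r ∈ Rs, ∃ b ∈ bases, r = wordF dec b)
    (hchk : ∀ b ∈ bases, isScal (MatD.evM (dlM D D') (b.map dec)) = true) :
    ∃ φ : PresentedGroup Rs →* Cfsg.PSU n K4 2,
      ∀ x, φ (PresentedGroup.of x) = QuotientGroup.mk (suOf2 D hdet hunit x) := by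
  let f : α → Cfsg.PSU n K4 2 := fun x => QuotientGroup.mk (suOf2 D hdet hunit x)
  have hf : ∀ r ∈ Rs, FreeGroup.lift f r = 1 := by
    intro r hr
    obtain ⟨b, hb, rfl⟩ := hR1 r hr
    have h1 : FreeGroup.lift f = (QuotientGroup.mk' (Subgroup.center ↥(Cfsg.SU n K4 2))).comp
        (FreeGroup.lift (suOf2 D hdet hunit)) := by
      ext x
      simp [f]
    rw [h1, MonoidHom.comp_apply, lift_wordF]
    exact (QuotientGroup.eq_one_iff _).mpr (ev_su2_mem_center D D' hinv hdet hunit _ (hchk b hb))
  exact ⟨PresentedGroup.toGroup hf, fun x => PresentedGroup.toGroup.of hf⟩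

/-- a generator is not central as soon as two of the matrices do not commute -/
theorem suOf2_not_mem_center (x y : α) (i j : Fin n)
    (h : ((D x).mul (D y)).entry i j ≠ ((D y).mul (D x)).entry i j) :
    suOf2 D hdet hunit x ∉ Subgroup.center ↥(Cfsg.SU n K4 2) := by
  intro hc
  rw [Subgroup.mem_center_iff] at hc
  have h1 := congrArg mat (hc (suOf2 D hdet hunit y))
  rw [mat_mul, mat_mul, mat_suOf2, mat_suOf2] at h1
  unfold matOf at h1
  rw [← MatD.toMatE_mul, ← MatD.toMatE_mul] at h1
  exact h (congrFun (congrFun h1 i) j).symm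

/-- determinant one from a power relation -/
theorem det_eq_one_of_sq (D : α → MatD n K4) (x : α) (h : (D x).mul (D x) = MatD.one) :
    (matOf D x).det = 1 := by
  unfold matOf
  generalize D x = X at h ⊢
  have h1 : X.toMatE (Equiv.refl (Fin n)) * X.toMatE (Equiv.refl (Fin n)) = 1 := by
    rw [← MatD.toMatE_mul, h, MatD.toMatE_one]
  have h2 := congrArg Matrix.det h1
  rw [Matrix.det_mul, Matrix.det_one] at h2
  exact k4_sq_one _ h2

theorem k4_pow5_one : ∀ y : K4, y * y * y * y * y = 1 → y = 1 := by decide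

theorem det_eq_one_of_pow5 (D : α → MatD n K4) (x : α)
    (h : (((((D x).mul (D x)).mul (D x)).mul (D x)).mul (D x)) = MatD.one) :
    (matOf D x).det = 1 := by
  unfold matOf
  generalize D x = X at h ⊢
  have h1 : X.toMatE (Equiv.refl (Fin n)) * X.toMatE (Equiv.refl (Fin n)) *
      X.toMatE (Equiv.refl (Fin n)) * X.toMatE (Equiv.refl (Fin n)) *
      X.toMatE (Equiv.refl (Fin n)) = 1 := by
    rw [← MatD.toMatE_mul, ← MatD.toMatE_mul, ← MatD.toMatE_mul, ← MatD.toMatE_mul, h,
      MatD.toMatE_one]
  have h2 := congrArg Matrix.det h1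
  rw [Matrix.det_mul, Matrix.det_mul, Matrix.det_mul, Matrix.det_mul, Matrix.det_one] at h2
  exact k4_pow5_one _ h2

end SUHom2

end Cfsg.Agent.Helper4.TC
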