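import Cfsg.Agent.Lib.Helper4.TC.U42PZ0D
import Cfsg.Agent.Lib.Helper4.TC.Perm
import Cfsg.Agent.Lib.Helper4.TC.U42PCod
import Cfsg.Agent.Lib.Helper4.TC.Strict

set_option autoImplicit false
set_option maxRecDepth 100000
set_option linter.unusedVariables false
set_option Elab.async false

namespace Cfsg.Agent.Helper4.TC.U42PZ0

open Cfsg.Agent.Helper4.TC

theorem e0_c0 : edgeRange data 0 8192 0 = true := edgeRange_strict data 0 8192 0 (by decide +kernel)
theorem e1_c0 : edgeRange data 1 8192 0 = true := edgeRange_strict data 1 8192 0 (by decide +kernel)
theorem e2_c0 : edgeRange data 2 8192 0 = true := edgeRange_strict data 2 8192 0 (by decide +kernel)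
theorem e3_c0 : edgeRange data 3 8192 0 = true := edgeRange_strict data 3 8192 0 (by decide +kernel)
theorem m_c0 : mergeRange data 8192 0 = true := mergeRange_strict data 8192 0 (by decide +kernel)
theorem cnt0 : countFinal data 5315 0 0 = 5184 := countFinal_strict data 5315 0 0 5184 (by decide +kernel)
theorem rows0 : rowsRange data 5315 3938 0 = true := rowsRange_strict data 5315 3938 0 (by decide +kernel)
theorem rows1 : rowsRange data 5315 1377 3938 = true := rowsRange_strict data 5315 1377 3938 (by decide +kernel)
theorem words_ok : wordsCheck data bases subsL rots = true := by decide +kernel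
theorem fin0_ok : isFinal data 0 = true := by decide +kernel

theorem allE0 : ∀ k, k < 8192 → justE data 0 k = true := by
  intro k hk
  exact edgeRange_sound data 0 8192 0 e0_c0 k (by omega) (by omega)

theorem allE1 : ∀ k, k < 8192 → justE data 1 k = true := by
  intro k hk
  exact edgeRange_sound data 1 8192 0 e1_c0 k (by omega) (by omega)

theorem allE2 : ∀ k, k < 8192 → justE data 2 k = true := by
  intro k hk
  exact edgeRange_sound data 2 8192 0 e2_c0 k (by omega) (by omega)

theorem allE3 : ∀ k, k < 8192 → justE data 3 k = true := by
  intro k hk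
  exact edgeRange_sound data 3 8192 0 e3_c0 k (by omega) (by omega)

theorem allE : ∀ c k, c < data.nc → k ≤ data.mask → justE data c k = true := by
  intro c k hc hk
  have hc' : c < 4 := hc
  have hk' : k < 8192 := Nat.lt_succ_of_le hk
  interval_cases c
  · exact allE0 k hk'
  · exact allE1 k hk'
  · exact allE2 k hk'
  · exact allE3 k hk'

theorem allM : ∀ k, k ≤ data.mask → justM data k = true := by
  intro k hk
  have hk' : k < 8192 := Nat.lt_succ_of_le hk
  exact mergeRange_sound data 8192 0 m_c0 k (by omega) (by omega)

theorem rows_all : ∀ k, k < M → isFinal data k = true → rowOK data M k data.nc = true := by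
  intro k hk
  have hk' : k < 5315 := hk
  by_cases hh1 : k < 3938
  · skip
    exact rowsRange_sound data M 3938 0 rows0 k (by omega) (by omega)
  · skip
    exact rowsRange_sound data M 1377 3938 rows1 k (by omega) (by omega)

theorem cnt_ok : countFinal data M 0 0 = n := by
  exact cnt0

/-- the index of the subgroup generated by `subsL` in the group with relators `bases` -/
theorem bound : Finite (PresentedGroup (relSet U42PCod.dec bases) ⧸ (Subgroup.closure (relSet U42PCod.dec subsL)).map (PresentedGroup.mk (relSet U42PCod.dec bases))) ∧
    Nat.card (PresentedGroup (relSet U42PCod.dec bases) ⧸ (Subgroup.closure (relSet U42PCod.dec subsL)).map (PresentedGroup.mk (relSet U42PCod.dec bases))) ≤ n :=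
  tc_bound data bases subsL rots U42PCod.coding (mem_relSet bases) (mem_relSet subsL) words_ok allE allM M n fin0_ok (by decide) (by decide) cnt_ok rows_all

end Cfsg.Agent.Helper4.TC.U42PZ0
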