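import Cfsg.Agent.Lib.Helper4.TC.MatSp
import Cfsg.Agent.Lib.Helper4.TC.MatSU2
import Cfsg.Agent.Lib.Helper4.TC.U42PSMain
import Cfsg.Agent.Lib.Helper6.SUTransport
import Cfsg.Agent.Lib.Helper2.Sp4Two
import Cfsg.Agent.S0245
import Cfsg.Agent.S0246
import Cfsg.Agent.S0280

set_option autoImplicit false
set_option maxRecDepth 100000
set_option linter.unusedVariables false
set_option linter.style.haveILetI false

/-! The presented group `Pres.U42` is isomorphic both to `PSU₄(2)` and to `PSp₄(3)`. -/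

namespace Cfsg.Agent.Helper4.TC.U42Iso

open Cfsg.Agent.Helper4.TC Cfsg.Agent.Lib.Helper6.FFour

abbrev Gen := Cfsg.Agent.Helper4.Pres.U42.Gen

/-! ### the unitary side -/

def uA : MatD 4 K4 := ⟨[.i, .o, .o, .o, .o, .i, .o, .o, .o, .o, .o, .i, .o, .o, .i, .o]⟩
def uB : MatD 4 K4 := ⟨[.v, .i, .w, .o, .o, .i, .w, .w, .w, .o, .i, .i, .v, .i, .o, .w]⟩
def uB' : MatD 4 K4 := ⟨[.w, .o, .v, .w, .i, .i, .o, .i, .v, .v, .i, .o, .o, .v, .i, .v]⟩

def DU : Gen → MatD 4 K4
  | .a => uA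
  | .b => uB

def DU' : Gen → MatD 4 K4
  | .a => uA
  | .b => uB'

theorem hinvU : ∀ x, (DU x).mul (DU' x) = MatD.one := by
  intro x; cases x <;> decide +kernel

theorem hunitU : ∀ x, (DU x).tr.mul ((DU x).mapE fun y => y * y) = MatD.one := by
  intro x; cases x <;> decide +kernel

theorem hdetU : ∀ x, (matOf DU x).det = 1 := by
  intro x
  cases x
  · exact det_eq_one_of_sq DU .a (by decide +kernel)
  · exact det_eq_one_of_pow5 DU .b (by decide +kernel)

theorem hchkU : ∀ b ∈ U42PP40.bases, isScal (MatD.evM (dlM DU DU') (b.map U42PP40.dec)) = true := by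
  decide +kernel

theorem hncU : ((DU .a).mul (DU .b)).entry 0 2 ≠ ((DU .b).mul (DU .a)).entry 0 2 := by
  decide +kernel

abbrev PSU4 : Type := Cfsg.PSU 4 K4 2

theorem card_psu : Nat.card PSU4 = 25920 := by
  have h := Cfsg.Agent.S0280.result (F := K4) (q := 2) k4_card 4 (by norm_num)
  have e2 : 2 ^ (4 * (4 - 1) / 2) * ∏ i ∈ Finset.range 4,
      (if Even i then 2 ^ (i + 1) + 1 else 2 ^ (i + 1) - 1) = 77760 := by
    decide
  rw [e2] at h
  have h' : 1 * (3 * Nat.card PSU4) = 77760 := h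
  omega

theorem iso_su : Nonempty (PresentedGroup U42PS.Rset ≃* PSU4) := by
  haveI : IsSimpleGroup (PresentedGroup U42PS.Rset) := U42PS.main.1
  haveI : Finite (PresentedGroup U42PS.Rset) := U42PS.card_top.1
  obtain ⟨φ, hφ⟩ := exists_hom_psu2 DU DU' hinvU hdetU hunitU U42PS.Rset U42PP40.dec U42PP40.bases
    U42PP40.hR1 hchkU
  have hne : φ (PresentedGroup.of .a) ≠ 1 := by
    rw [hφ]
    intro h
    exact suOf2_not_mem_center DU hdetU hunitU .a .b 0 2 hncU ((QuotientGroup.eq_one_iff _).mp h)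
  have hinj : Function.Injective φ := by
    rw [← MonoidHom.ker_eq_bot_iff]
    rcases IsSimpleGroup.eq_bot_or_eq_top_of_normal φ.ker inferInstance with h | h
    · exact h
    · exfalso
      apply hne
      have : PresentedGroup.of .a ∈ φ.ker := by rw [h]; trivial
      exact this
  haveI : Finite PSU4 := Nat.finite_of_card_ne_zero (by rw [card_psu]; norm_num)
  have hb : Function.Bijective φ := by
    rw [Nat.bijective_iff_injective_and_card]
    exact ⟨hinj, U42PS.main.2.trans card_psu.symm⟩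
  exact ⟨MulEquiv.ofBijective φ hb⟩

/-! ### the symplectic side -/

def sA : MatD (2 + 2) (ZMod 3) := ⟨[1, 1, 0, 2, 0, 2, 1, 0, 0, 0, 1, 0, 0, 0, 1, 2]⟩
def sB : MatD (2 + 2) (ZMod 3) := ⟨[2, 0, 1, 2, 2, 2, 0, 2, 0, 2, 1, 1, 1, 2, 1, 0]⟩
def sA' : MatD (2 + 2) (ZMod 3) := ⟨[1, 1, 0, 2, 0, 2, 1, 0, 0, 0, 1, 0, 0, 0, 1, 2]⟩
def sB' : MatD (2 + 2) (ZMod 3) := ⟨[1, 1, 2, 0, 1, 0, 1, 1, 0, 2, 2, 2, 1, 1, 0, 2]⟩

def DS : Gen → MatD (2 + 2) (ZMod 3)
  | .a => sA
  | .b => sB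

def DS' : Gen → MatD (2 + 2) (ZMod 3)
  | .a => sA'
  | .b => sB'

theorem hsympS : ∀ x, ((DS x).mul (spJ 2 (ZMod 3))).mul (DS x).tr = spJ 2 (ZMod 3) := by
  intro x; cases x <;> decide +kernel

theorem hinvS : ∀ x, (DS x).mul (DS' x) = MatD.one := by
  intro x; cases x <;> decide +kernel

theorem hchkS : ∀ b ∈ U42PP40.bases, decide (MatD.evM (dlM DS DS') (b.map U42PP40.dec) =
    scalDR (2 + 2) ((MatD.evM (dlM DS DS') (b.map U42PP40.dec)).entry 0 0)) = true := by
  decide +kernel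

theorem hncS : ((DS .a).mul (DS .b)).entry (spEps 2 (Sum.inl 0)) (spEps 2 (Sum.inl 0)) ≠
    ((DS .b).mul (DS .a)).entry (spEps 2 (Sum.inl 0)) (spEps 2 (Sum.inl 0)) := by
  decide +kernel

abbrev PSp4 : Type := Cfsg.PSp 2 (ZMod 3)

theorem card_psp : Nat.card PSp4 = 25920 := by
  have hSp : Nat.card (Matrix.symplecticGroup (Fin 2) (ZMod 3)) = 51840 := by
    rw [Cfsg.Agent.S0245.result (ZMod.card 3) 2]
    decide
  have hZ : Nat.card (Subgroup.center (Matrix.symplecticGroup (Fin 2) (ZMod 3))) = 2 := by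
    rw [Cfsg.Agent.S0246.result (ZMod.card 3) 2 (by norm_num)]
    decide
  have h := Subgroup.card_eq_card_quotient_mul_card_subgroup
    (Subgroup.center (Matrix.symplecticGroup (Fin 2) (ZMod 3)))
  rw [hSp, hZ] at h
  show Nat.card (Matrix.symplecticGroup (Fin 2) (ZMod 3) ⧸
    Subgroup.center (Matrix.symplecticGroup (Fin 2) (ZMod 3))) = _
  omega

theorem iso_sp : Nonempty (PresentedGroup U42PS.Rset ≃* PSp4) := by
  haveI : IsSimpleGroup (PresentedGroup U42PS.Rset) := U42PS.main.1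
  haveI : Finite (PresentedGroup U42PS.Rset) := U42PS.card_top.1
  obtain ⟨φ, hφ⟩ := exists_hom_psp (m := 2) DS DS' hsympS hinvS U42PS.Rset U42PP40.dec U42PP40.bases
    U42PP40.hR1 hchkS
  have hne : φ (PresentedGroup.of .a) ≠ 1 := by
    rw [hφ]
    intro h
    exact spOfD_not_mem_center (m := 2) DS hsympS .a .b (Sum.inl 0) (Sum.inl 0) hncS
      ((QuotientGroup.eq_one_iff _).mp h)
  have hinj : Function.Injective φ := by
    rw [← MonoidHom.ker_eq_bot_iff]
    rcases IsSimpleGroup.eq_bot_or_eq_top_of_normal φ.ker inferInstance with h | h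
    · exact h
    · exfalso
      apply hne
      have : PresentedGroup.of .a ∈ φ.ker := by rw [h]; trivial
      exact this
  haveI : Finite PSp4 := Nat.finite_of_card_ne_zero (by rw [card_psp]; norm_num)
  have hb : Function.Bijective φ := by
    rw [Nat.bijective_iff_injective_and_card]
    exact ⟨hinj, U42PS.main.2.trans card_psp.symm⟩
  exact ⟨MulEquiv.ofBijective φ hb⟩

/-! ### arbitrary fields -/

theorem exists_ringEquiv_k4 {F : Type*} [Field F] [Fintype F] (hF : Fintype.card F = 4) :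
    Nonempty (F ≃+* K4) := by
  obtain ⟨ω, hω⟩ := exists_omega hF
  have h2 := two_eq_zero hF
  have hinj := toF_injective ω hω h2
  have hbij : Function.Bijective (toF ω hω h2) := by
    rw [Fintype.bijective_iff_injective_and_card]
    exact ⟨hinj, by rw [hF]; decide⟩
  exact ⟨(RingEquiv.ofBijective (toF ω hω h2) hbij).symm⟩

theorem main {F K : Type*} [Field F] [Fintype F] [Field K] [Fintype K]
    (hF : Fintype.card F = 4) (hK : Fintype.card K = 3) :
    Nonempty (Cfsg.PSU 4 F 2 ≃* Cfsg.PSp 2 K) := by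
  obtain ⟨eF⟩ := exists_ringEquiv_k4 hF
  have eK : K ≃+* ZMod 3 := (ZMod.ringEquivOfPrime K (by norm_num) hK).symm
  obtain ⟨e1⟩ := iso_su
  obtain ⟨e2⟩ := iso_sp
  have f1 : Cfsg.PSU 4 F 2 ≃* PSU4 := Cfsg.Agent.Lib.Helper6.SUTransport.psuEquiv eF
  have f2 : Cfsg.PSp 2 K ≃* PSp4 :=
    Cfsg.Agent.Lib.Helper3.SLTransport.quotientCenterEquiv (Cfsg.Agent.Lib.Helper2.sympCongr eK)
  exact ⟨(f1.trans e1.symm).trans (e2.trans f2.symm)⟩

end Cfsg.Agent.Helper4.TC.U42Iso
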