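import Cfsg.Agent.Lib.Helper4.TC.U62QPcModel
import Cfsg.Agent.Lib.Helper4.TC.U62QPcData
import Cfsg.Agent.Lib.Helper4.TC.Strict

set_option autoImplicit false
set_option maxRecDepth 100000
set_option linter.unusedVariables false
set_option Elab.async false

namespace Cfsg.Agent.Helper4.TC.U62QPc

open Cfsg.Agent.Helper4.TC

theorem rel8 : relsRange mdata bases 8 1400 = true := relsRange_strict mdata bases 8 1400 (by decide +kernel)
theorem inv0 : invRange mdata 1408 0 = true := invRange_strict mdata 1408 0 (by decide +kernel)
theorem tree0 : treeRange mdata 1407 1 = true := treeRange_strict mdata 1407 1 (by decide +kernel)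
theorem closed1_0 : closedRange mdata subsL 1 568 567 1 = true := closedRange_strict mdata subsL 1 568 567 1 (by decide +kernel)
theorem reach1_0 : reachRange mdata subsL 1 566 2 = true := reachRange_strict mdata subsL 1 566 2 (by decide +kernel)
theorem closed2_0 : closedRange mdata subsL 568 1408 840 568 = true := closedRange_strict mdata subsL 568 1408 840 568 (by decide +kernel)
theorem reach2_0 : reachRange mdata subsL 568 839 569 = true := reachRange_strict mdata subsL 568 839 569 (by decide +kernel)
theorem sub0_ok : sub0OK mdata subsL = true := by decide +kernel

end Cfsg.Agent.Helper4.TC.U62QPc
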