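import Mathlib

set_option autoImplicit false
set_option linter.unusedVariables false
set_option linter.unusedSectionVars false

/-! Transitive permutation models of a group with a subgroup of bounded index. -/

namespace Cfsg.Agent.Helper4.TC

section Abs

variable {G X : Type*} [Group G]

/-- a transitive action in which `H` fixes a point, on at least as many points as `H` has cosets,
is the action on the cosets of `H` -/
theorem exists_equiv_of_transitive [Finite X] (H : Subgroup G) (φ : G →* Equiv.Perm X) (x0 : X)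
    (hH : ∀ h ∈ H, φ h x0 = x0) (htr : ∀ x, ∃ g, φ g x0 = x)
    (hfin : Finite (G ⧸ H)) (hcard : Nat.card (G ⧸ H) ≤ Nat.card X) :
    ∃ e : G ⧸ H ≃ X, (∀ g q, e (g • q) = φ g (e q)) ∧ e ((1 : G) : G ⧸ H) = x0 := by
  let e0 : G ⧸ H → X := Quotient.lift (fun g => φ g x0) (by
    intro a b hab
    have h1 : a⁻¹ * b ∈ H := QuotientGroup.leftRel_apply.mp hab
    have h2 := hH _ h1
    rw [map_mul, map_inv, Equiv.Perm.mul_apply, Equiv.Perm.inv_eq_iff_eq] at h2
    exact h2.symm)
  have he0 : ∀ g : G, e0 (g : G ⧸ H) = φ g x0 := fun g => rfl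
  have hsurj : Function.Surjective e0 := by
    intro x
    obtain ⟨g, hg⟩ := htr x
    exact ⟨(g : G ⧸ H), hg⟩
  have hbij : Function.Bijective e0 := hsurj.bijective_of_nat_card_le hcard
  refine ⟨Equiv.ofBijective e0 hbij, ?_, ?_⟩
  · intro g q
    induction q using QuotientGroup.induction_on with
    | H a =>
      show e0 (g • (a : G ⧸ H)) = φ g (e0 (a : G ⧸ H))
      rw [MulAction.Quotient.smul_coe, he0, he0, smul_eq_mul, map_mul, Equiv.Perm.mul_apply]
  · show e0 ((1 : G) : G ⧸ H) = x0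
    rw [he0, map_one, Equiv.Perm.one_apply]

theorem index_eq_of_equiv (H : Subgroup G) (e : G ⧸ H ≃ X) : H.index = Nat.card X := by
  rw [Subgroup.index_eq_card]
  exact Nat.card_congr e

theorem image_orbit (H : Subgroup G) (φ : G →* Equiv.Perm X) (e : G ⧸ H ≃ X)
    (he : ∀ g q, e (g • q) = φ g (e q)) (q : G ⧸ H) :
    e '' (MulAction.orbit H q) = {x | ∃ h ∈ H, φ h (e q) = x} := by
  ext x
  constructor
  · rintro ⟨q', ⟨h, rfl⟩, rfl⟩
    refine ⟨h.1, h.2, ?_⟩
    rw [← he]
    rfl
  · rintro ⟨h, hh, rfl⟩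
    refine ⟨(⟨h, hh⟩ : H) • q, ⟨⟨h, hh⟩, rfl⟩, ?_⟩
    rw [← he]
    rfl

/-- a finite set closed under the generators, all of whose points can be reached, is an orbit -/
theorem orbit_eq_of_closed (φ : G →* Equiv.Perm X) (T : Set G) (Y : Set X) (hY : Y.Finite)
    (p : X) (hp : p ∈ Y) (hcl : ∀ t ∈ T, ∀ y ∈ Y, φ t y ∈ Y)
    (hre : ∀ y ∈ Y, ∃ h ∈ Subgroup.closure T, φ h p = y) :
    {x | ∃ h ∈ Subgroup.closure T, φ h p = x} = Y := by
  have hall : ∀ h ∈ Subgroup.closure T, (∀ y ∈ Y, φ h y ∈ Y) ∧ (∀ y ∈ Y, φ h⁻¹ y ∈ Y) := by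
    intro h hh
    induction hh using Subgroup.closure_induction with
    | mem t ht =>
      refine ⟨hcl t ht, ?_⟩
      intro y hy
      have hm : Set.MapsTo (φ t) Y Y := fun y hy => hcl t ht y hy
      have hb := (hY.injOn_iff_bijOn_of_mapsTo hm).mp (φ t).injective.injOn
      obtain ⟨y', hy', rfl⟩ := hb.surjOn hy
      rw [map_inv]
      have : (φ t)⁻¹ (φ t y') = y' := Equiv.Perm.inv_eq_iff_eq.mpr rfl
      rw [this]
      exact hy'
    | one => simp
    | mul a b _ _ ha hb =>
      constructor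
      · intro y hy
        rw [map_mul, Equiv.Perm.mul_apply]
        exact ha.1 _ (hb.1 _ hy)
      · intro y hy
        rw [mul_inv_rev, map_mul, Equiv.Perm.mul_apply]
        exact hb.2 _ (ha.2 _ hy)
    | inv a _ ha =>
      constructor
      · exact ha.2
      · intro y hy
        rw [inv_inv]
        exact ha.1 y hy
  ext x
  constructor
  · rintro ⟨h, hh, rfl⟩
    exact (hall h hh).1 p hp
  · intro hx
    exact hre x hx

/-- the points of `Fin n` in a range -/
theorem ncard_range_fin (n lo hi : ℕ) (h : hi ≤ n) :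
    ({x : Fin n | lo ≤ x.val ∧ x.val < hi} : Set (Fin n)).ncard = hi - lo := by
  have h1 : Fin.val '' ({x : Fin n | lo ≤ x.val ∧ x.val < hi} : Set (Fin n)) = Set.Ico lo hi := by
    ext k
    constructor
    · rintro ⟨x, hx, rfl⟩
      exact hx
    · rintro ⟨h1, h2⟩
      exact ⟨⟨k, by omega⟩, ⟨h1, h2⟩, rfl⟩
  rw [← Set.ncard_image_of_injective _ Fin.val_injective, h1, ← Finset.coe_Ico,
    Set.ncard_coe_finset, Nat.card_Ico]

theorem ncard_of_equiv_range {Q : Type*} {n : ℕ} (e : Q ≃ Fin n) (O : Set Q) (lo hi : ℕ) (h : hi ≤ n)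
    (hO : e '' O = {x : Fin n | lo ≤ x.val ∧ x.val < hi}) : O.ncard = hi - lo := by
  rw [← Set.ncard_image_of_injective O e.injective, hO, ncard_range_fin n lo hi h]

end Abs

end Cfsg.Agent.Helper4.TC
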