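import Cfsg.Agent.Lib.Helper4.TC.C2BPZ0B
import Cfsg.Agent.Lib.Helper4.TC.Perm

set_option autoImplicit false
set_option maxRecDepth 100000
set_option linter.unusedVariables false

namespace Cfsg.Agent.Helper4.TC.C2BPC

open Cfsg.Agent.Helper4.TC

abbrev dec := C2BPCod.dec
abbrev Rset : Set (FreeGroup Cfsg.Agent.Helper4.Pres.C2B.Gen) := Cfsg.Spor.coxRelators Cfsg.Agent.Helper4.Pres.C2B.edges ∪ {r | r ∈ Cfsg.Agent.Helper4.Pres.C2B.extra}

theorem hR1 : ∀ r ∈ Rset, ∃ b ∈ C2BPZ0.bases, r = wordF dec b := by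
  intro r hr
  rw [mem_rels_iff] at hr
  revert r
  decide +kernel

theorem hR2 : ∀ b ∈ C2BPZ0.bases, wordF dec b ∈ Rset := by
  intro b hb
  rw [mem_rels_iff]
  revert b
  decide +kernel

theorem hRset : Rset = relSet dec C2BPZ0.bases := by
  ext r
  constructor
  · intro h
    obtain ⟨b, hb', e⟩ := hR1 r h
    exact ⟨b, hb', e⟩
  · rintro ⟨b, hb', rfl⟩
    exact hR2 b hb'

theorem card_top : Finite (PresentedGroup Rset) ∧ Nat.card (PresentedGroup Rset) ≤ 21504 := by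
  rw [hRset]
  refine stage_bot _ _ ?_ _ C2BPZ0.bound
  rintro s ⟨b, hb, _⟩
  simp [C2BPZ0.subsL] at hb

end Cfsg.Agent.Helper4.TC.C2BPC
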