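import Mathlib

set_option autoImplicit false
set_option linter.unusedVariables false
set_option linter.unusedSectionVars false
set_option linter.style.haveILetI false

/-! The centraliser of a transvection in `SL(5, 2)` has at most `2 ^ 7 * 168` elements. -/

namespace Cfsg.Agent.Helper4.TC.TransvC

open Matrix

abbrev F2 : Type := ZMod 2
abbrev M5 : Type := Matrix (Fin 5) (Fin 5) (ZMod 2)
abbrev M3 : Type := Matrix (Fin 3) (Fin 3) (ZMod 2)
abbrev SL5 : Type := Matrix.SpecialLinearGroup (Fin 5) (ZMod 2)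

/-- the matrices commuting with the transvection -/
def Comm (M : M5) : Prop := transvection 0 1 (1 : ZMod 2) * M = M * transvection 0 1 (1 : ZMod 2)

theorem Comm.row {M : M5} (h : Comm M) (j : Fin 5) (hj : j ≠ 1) : M 1 j = 0 := by
  have h' : transvection 0 1 (1 : ZMod 2) * M = M * transvection 0 1 (1 : ZMod 2) := h
  have h1 := Matrix.ext_iff.mpr h' 0 j
  rw [transvection_mul_apply_same, mul_transvection_apply_of_ne _ _ _ _ hj, one_mul] at h1
  exact add_eq_left.mp h1

theorem Comm.col {M : M5} (h : Comm M) (i : Fin 5) (hi : i ≠ 0) : M i 0 = 0 := by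
  have h' : transvection 0 1 (1 : ZMod 2) * M = M * transvection 0 1 (1 : ZMod 2) := h
  have h1 := Matrix.ext_iff.mpr h' i 1
  rw [mul_transvection_apply_same, transvection_mul_apply_of_ne _ _ _ _ hi, one_mul] at h1
  exact (add_eq_left.mp h1.symm)

theorem zmod2_eq_one {d : ZMod 2} (h : d ≠ 0) : d = 1 := by
  revert d
  decide

/-- the diagonal entries at `0` and `1` -/
theorem Comm.diag {M N : M5} (hM : Comm M) (hN : Comm N) (h1 : M * N = 1) (h2 : N * M = 1) :
    M 0 0 = 1 ∧ M 1 1 = 1 := by
  constructor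
  · have e := Matrix.ext_iff.mpr h1 0 0
    rw [Matrix.mul_apply, Fin.sum_univ_five, hN.col 1 (by decide), hN.col 2 (by decide),
      hN.col 3 (by decide), hN.col 4 (by decide), Matrix.one_apply_eq] at e
    simp only [mul_zero, add_zero] at e
    apply zmod2_eq_one
    intro h0
    rw [h0, zero_mul] at e
    exact zero_ne_one e
  · have e := Matrix.ext_iff.mpr h2 1 1
    rw [Matrix.mul_apply, Fin.sum_univ_five, hN.row 0 (by decide), hN.row 2 (by decide),
      hN.row 3 (by decide), hN.row 4 (by decide), Matrix.one_apply_eq] at e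
    simp only [zero_mul, add_zero, zero_add] at e
    apply zmod2_eq_one
    intro h0
    rw [h0, mul_zero] at e
    exact zero_ne_one e

/-- the indices of the block -/
def e3 : Fin 3 → Fin 5 := ![2, 3, 4]

/-- the block -/
def blk (M : M5) : M3 := fun i j => M (e3 i) (e3 j)

/-- the remaining entries -/
def bits (M : M5) : Fin 7 → ZMod 2 := ![M 0 1, M 0 2, M 0 3, M 0 4, M 2 1, M 3 1, M 4 1]

theorem e3_ne0 (i : Fin 3) : e3 i ≠ 0 := by revert i; decide
theorem e3_ne1 (i : Fin 3) : e3 i ≠ 1 := by revert i; decide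

theorem blk_mul {M N : M5} (hM : Comm M) (hN : Comm N) : blk (M * N) = blk M * blk N := by
  ext i j
  show (M * N) (e3 i) (e3 j) = (blk M * blk N) i j
  rw [Matrix.mul_apply, Matrix.mul_apply, Fin.sum_univ_five, Fin.sum_univ_three,
    hM.col (e3 i) (e3_ne0 i), hN.row (e3 j) (e3_ne1 j)]
  simp only [zero_mul, mul_zero, zero_add]
  rfl

theorem blk_one : blk (1 : M5) = 1 := by
  ext i j
  fin_cases i <;> fin_cases j <;> rfl

theorem eq_of_bits_blk {M N : M5} (hM : Comm M) (hN : Comm N) (dM : M 0 0 = 1 ∧ M 1 1 = 1)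
    (dN : N 0 0 = 1 ∧ N 1 1 = 1) (hb : bits M = bits N) (hk : blk M = blk N) : M = N := by
  have b0 : M 0 1 = N 0 1 := congrFun hb 0
  have b1 : M 0 2 = N 0 2 := congrFun hb 1
  have b2 : M 0 3 = N 0 3 := congrFun hb 2
  have b3 : M 0 4 = N 0 4 := congrFun hb 3
  have b4 : M 2 1 = N 2 1 := congrFun hb 4
  have b5 : M 3 1 = N 3 1 := congrFun hb 5
  have b6 : M 4 1 = N 4 1 := congrFun hb 6
  have k (i j : Fin 3) : M (e3 i) (e3 j) = N (e3 i) (e3 j) := Matrix.ext_iff.mpr hk i j
  have r (j : Fin 5) (hj : j ≠ 1) : M 1 j = N 1 j := by rw [hM.row j hj, hN.row j hj]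
  have c (i : Fin 5) (hi : i ≠ 0) : M i 0 = N i 0 := by rw [hM.col i hi, hN.col i hi]
  have d0 : M 0 0 = N 0 0 := by rw [dM.1, dN.1]
  have d1 : M 1 1 = N 1 1 := by rw [dM.2, dN.2]
  ext i j
  fin_cases i <;> fin_cases j
  · exact d0
  · exact b0
  · exact b1
  · exact b2
  · exact b3
  · exact c 1 (by decide)
  · exact d1
  · exact r 2 (by decide)
  · exact r 3 (by decide)
  · exact r 4 (by decide)
  · exact c 2 (by decide)
  · exact b4
  · exact k 0 0
  · exact k 0 1
  · exact k 0 2
  · exact c 3 (by decide)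
  · exact b5
  · exact k 1 0
  · exact k 1 1
  · exact k 1 2
  · exact c 4 (by decide)
  · exact b6
  · exact k 2 0
  · exact k 2 1
  · exact k 2 2

variable (s : SL5) (hs : (s : M5) = transvection 0 1 1)

include hs in
theorem comm_of_mem {g : SL5} (hg : g ∈ Subgroup.centralizer {s}) : Comm (g : M5) := by
  have h : s * g = g * s := Subgroup.mem_centralizer_iff.mp hg s rfl
  have hm : (s : M5) * (g : M5) = (g : M5) * (s : M5) := congrArg Subtype.val h
  rw [hs] at hm
  exact hm

include hs in
theorem card_centralizer_le : Nat.card (Subgroup.centralizer {s}) ≤ 21504 := by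
  have hinv : ∀ g : SL5, (g : M5) * ((g⁻¹ : SL5) : M5) = 1 ∧ ((g⁻¹ : SL5) : M5) * (g : M5) = 1 := by
    intro g
    constructor
    · have := congrArg Subtype.val (mul_inv_cancel g)
      exact this
    · have := congrArg Subtype.val (inv_mul_cancel g)
      exact this
  let f : Subgroup.centralizer {s} → (Fin 7 → ZMod 2) × (GL (Fin 3) (ZMod 2)) := fun g =>
    (bits (g.1 : M5),
      ⟨blk (g.1 : M5), blk ((g.1⁻¹ : SL5) : M5),
        by rw [← blk_mul (comm_of_mem s hs g.2) (comm_of_mem s hs (Subgroup.inv_mem _ g.2)),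
          (hinv g.1).1, blk_one],
        by rw [← blk_mul (comm_of_mem s hs (Subgroup.inv_mem _ g.2)) (comm_of_mem s hs g.2),
          (hinv g.1).2, blk_one]⟩)
  have hf : Function.Injective f := by
    intro g h hgh
    have h1 : bits (g.1 : M5) = bits (h.1 : M5) := congrArg Prod.fst hgh
    have h2 : blk (g.1 : M5) = blk (h.1 : M5) := congrArg (fun p => (p.2 : M3)) hgh
    have cg := comm_of_mem s hs g.2
    have ch := comm_of_mem s hs h.2
    have cgi := comm_of_mem s hs (Subgroup.inv_mem _ g.2)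
    have chi := comm_of_mem s hs (Subgroup.inv_mem _ h.2)
    have dg := cg.diag cgi (hinv g.1).1 (hinv g.1).2
    have dh := ch.diag chi (hinv h.1).1 (hinv h.1).2
    exact Subtype.ext (Subtype.ext (eq_of_bits_blk cg ch dg dh h1 h2))
  have h1 := Nat.card_le_card_of_injective f hf
  have h2 : Nat.card ((Fin 7 → ZMod 2) × (GL (Fin 3) (ZMod 2))) = 21504 := by
    rw [Nat.card_prod, Matrix.card_GL_field, Nat.card_eq_fintype_card, Fintype.card_fun, ZMod.card,
      Fintype.card_fin, Fin.prod_univ_three]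
    norm_num
  rw [h2] at h1
  exact h1

end Cfsg.Agent.Helper4.TC.TransvC
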