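import Cfsg.Agent.Lib.Helper4.TC.MatGL
import Cfsg.Agent.Lib.Helper4.TC.C2BPCMain
import Cfsg.Agent.Lib.Helper4.TC.Simple
import Cfsg.Agent.Lib.Helper4.TC.TransvCentr

set_option autoImplicit false
set_option maxRecDepth 100000
set_option maxHeartbeats 0
set_option linter.unusedVariables false
set_option linter.unusedSectionVars false
set_option linter.style.haveILetI false

/-! The presented group of order 21504 on four involutions is isomorphic to the centraliser of a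
transvection in `SL(5, 2)`. -/

namespace Cfsg.Agent.Helper4.TC.C2BMat

open Cfsg.Agent.Helper4.TC Matrix

abbrev Gen := Cfsg.Agent.Helper4.Pres.C2B.Gen
abbrev PR : Set (FreeGroup Gen) := C2BPC.Rset
abbrev SL5 : Type := Matrix.SpecialLinearGroup (Fin 5) (ZMod 2)
abbrev dec := C2BPCod.dec

def mA : MatD 5 (ZMod 2) := ⟨[1, 0, 1, 1, 0, 0, 1, 0, 0, 0, 0, 0, 1, 0, 0, 0, 0, 0, 1, 0, 0, 1, 0, 0, 1]⟩
def mB : MatD 5 (ZMod 2) := ⟨[1, 0, 0, 0, 1, 0, 1, 0, 0, 0, 0, 0, 1, 0, 0, 0, 1, 0, 1, 1, 0, 0, 0, 0, 1]⟩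
def mP : MatD 5 (ZMod 2) := ⟨[1, 0, 0, 1, 0, 0, 1, 0, 0, 0, 0, 0, 1, 0, 0, 0, 0, 0, 1, 0, 0, 1, 0, 1, 1]⟩
def mQ : MatD 5 (ZMod 2) := ⟨[1, 0, 1, 1, 0, 0, 1, 0, 0, 0, 0, 1, 0, 1, 0, 0, 1, 1, 0, 0, 0, 1, 1, 1, 1]⟩
def sD : MatD 5 (ZMod 2) := ⟨[1, 1, 0, 0, 0, 0, 1, 0, 0, 0, 0, 0, 1, 0, 0, 0, 0, 0, 1, 0, 0, 0, 0, 0, 1]⟩

def D : Gen → MatD 5 (ZMod 2)
  | .a => mA
  | .b => mB
  | .p => mP
  | .q => mQ

def W1 : List (List ℕ) := [[], [0], [2], [2, 0, 2], [0, 6, 2], [0, 6, 2, 4], [0, 6], [6], [0, 2, 0], [0, 2], [2, 4], [2, 0], [0, 2, 6, 2], [0, 6, 2, 0], [0, 2, 6], [6, 2]]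
def W2 : List (List ℕ) := [[2, 4, 6, 2], [2, 6, 4, 2], [2, 0, 6, 2, 0, 2], [], [0, 2, 4, 6, 4, 6], [0, 6, 4, 6, 2, 4], [2, 4, 6, 4, 6, 2], [0, 2, 4, 2, 6, 2], [0, 4, 2, 6, 4, 2], [0, 4, 2, 0, 6, 2, 0, 2], [0, 4], [6, 4, 2, 6], [4, 6, 4, 6, 2, 4], [0, 6, 4, 6, 2, 0]]
def W3 : List (List ℕ) := [[0, 2, 0, 2, 4, 2], [], [2, 0, 4, 2, 0, 2], [4, 2, 6, 2, 0, 4, 2, 6, 4], [0, 2, 6, 2, 0, 4, 2, 0, 6], [2, 0, 2, 4, 2, 6, 2, 4, 2, 0, 6, 2], [4, 6, 2, 0, 4, 2, 6, 2, 4], [2, 4, 6, 2, 0, 4, 2, 6, 4, 2], [2, 4, 6, 2, 0, 4, 2, 0, 6, 2, 0, 2], [2, 4, 2, 6, 2, 4, 2, 6], [0, 2, 0, 6, 2, 4, 2, 6], [2, 6, 2, 0, 4, 2, 0, 6, 4, 2, 0, 2]]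
def W4 : List (List ℕ) := [[], [2, 4, 6, 4, 6, 2, 0, 2, 4, 6, 4, 6], [0, 2, 6, 2, 4, 6, 4, 2, 0, 6], [0, 2, 4, 6, 2, 4, 2, 0, 6, 4], [4, 2, 0, 6, 2, 0, 2, 4, 2, 0, 2, 4, 6, 2, 4], [0, 4, 6, 2, 0, 2, 6, 4, 2, 6, 4, 2, 0, 2, 4, 6], [0, 2, 0, 6, 2, 4, 2, 0, 2, 6, 2, 0, 2, 4, 2, 6], [0, 2, 4, 2, 0, 2, 6, 2, 4, 2, 0, 6, 2, 0, 2, 4]]

/-- the matrix of a word, as data -/
def XW (w : List ℕ) : MatD 5 (ZMod 2) := MatD.evM (dlM D D) (w.map dec)

/-- a column of a matrix given as data -/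
def colD (X : MatD 5 (ZMod 2)) (j : Fin 5) : Fin 5 → ZMod 2 := fun i => X.entry i.val j.val

/-- a basis vector -/
def eV (j : Fin 5) : Fin 5 → ZMod 2 := Pi.single j 1

theorem hinvD : ∀ x, (D x).mul (D x) = MatD.one := by
  intro x; cases x <;> decide +kernel

theorem hchk : ∀ b ∈ C2BPZ0.bases, MatD.evM (dlM D D) (b.map dec) = MatD.one := by
  decide +kernel

theorem ext_e {X Y : MatD 5 (ZMod 2)} (h : X.e = Y.e) : X = Y := by
  cases X; cases Y; cases h; rfl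

theorem hcommS : ∀ x, sD.mul (D x) = (D x).mul sD := by
  intro x
  apply ext_e
  cases x <;> decide +kernel

theorem hXW : ∀ x, XW [C2BPCod.enc x] = D x := by
  intro x
  apply ext_e
  cases x <;> decide +kernel

theorem sD_eq : sD.toMatE (Equiv.refl (Fin 5)) = transvection 0 1 (1 : ZMod 2) := by
  decide +kernel

theorem lvl1 : ((W1.map fun w => colD (XW w) 1).Nodup ∧ W1.length = 16) := by decide +kernel
theorem lvl2 : ((W2.map fun w => colD (XW w) 2).Nodup ∧ W2.length = 14) ∧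
    ∀ w ∈ W2, colD (XW w) 1 = eV 1 := by decide +kernel
theorem lvl3 : ((W3.map fun w => colD (XW w) 3).Nodup ∧ W3.length = 12) ∧
    ∀ w ∈ W3, colD (XW w) 1 = eV 1 ∧ colD (XW w) 2 = eV 2 := by decide +kernel
theorem lvl4 : ((W4.map fun w => colD (XW w) 4).Nodup ∧ W4.length = 8) ∧
    ∀ w ∈ W4, colD (XW w) 1 = eV 1 ∧ colD (XW w) 2 = eV 2 ∧ colD (XW w) 3 = eV 3 := by decide +kernel

/-- invertible matrices over the field with two elements have determinant one -/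
theorem det_gl (g : GL (Fin 5) (ZMod 2)) : (g : Matrix (Fin 5) (Fin 5) (ZMod 2)).det = 1 :=
  TransvC.zmod2_eq_one (IsUnit.ne_zero (Matrix.isUnits_det_units g))

/-- the general linear group over the field with two elements is the special linear group -/
def toSL : GL (Fin 5) (ZMod 2) →* SL5 where
  toFun g := ⟨(g : Matrix (Fin 5) (Fin 5) (ZMod 2)), det_gl g⟩
  map_one' := Subtype.ext rfl
  map_mul' a b := Subtype.ext rfl

theorem exists_theta : ∃ θ : PresentedGroup PR →* SL5, ∀ w : List ℕ,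
    ((θ (PresentedGroup.mk PR (wordF dec w)) : SL5) : Matrix (Fin 5) (Fin 5) (ZMod 2)) =
      (XW w).toMatE (Equiv.refl (Fin 5)) := by
  obtain ⟨φ, hφ⟩ := exists_hom_gl (Equiv.refl (Fin 5)) D D hinvD hinvD PR dec C2BPZ0.bases C2BPC.hR1 hchk
  refine ⟨toSL.comp φ, fun w => ?_⟩
  have h1 : φ (PresentedGroup.mk PR (wordF dec w)) =
      evc (glOf (Equiv.refl (Fin 5)) D D hinvD hinvD) dec w := by
    rw [← evc_of, evc, map_ev]
    have : (fun x => φ (PresentedGroup.of x)) = glOf (Equiv.refl (Fin 5)) D D hinvD hinvD := funext hφ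
    rw [this]
    rfl
  show ((φ (PresentedGroup.mk PR (wordF dec w)) : GL (Fin 5) (ZMod 2)) : Matrix (Fin 5) (Fin 5) (ZMod 2)) = _
  rw [h1]
  exact coe_ev_gl (Equiv.refl (Fin 5)) D D hinvD hinvD _

theorem smul_eV (g : SL5) (X : MatD 5 (ZMod 2))
    (h : (g : Matrix (Fin 5) (Fin 5) (ZMod 2)) = X.toMatE (Equiv.refl (Fin 5))) (j : Fin 5) :
    g • eV j = colD X j := by
  rw [Matrix.SpecialLinearGroup.smul_def, Matrix.smul_eq_mulVec, eV, Matrix.mulVec_single_one, h]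
  rfl

theorem level_of_list {A X : Type*} [Group A] [MulAction A X] [DecidableEq X] (K : Subgroup A) (b : X)
    (ys : List X) (hnd : ys.Nodup) (h : ∀ y ∈ ys, ∃ g ∈ K, g • b = y) :
    ∃ O : Set X, O.ncard = ys.length ∧ ∀ y ∈ O, ∃ g ∈ K, g • b = y := by
  refine ⟨{y | y ∈ ys}, ?_, fun y hy => h y hy⟩
  have : {y | y ∈ ys} = (↑ys.toFinset : Set X) := by
    ext y
    simp
  rw [this, Set.ncard_coe_finset, List.toFinset_card_of_nodup hnd]

variable (s : SL5) (hs : (s : Matrix (Fin 5) (Fin 5) (ZMod 2)) = transvection 0 1 1)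

include hs in
theorem iso : ∀ (hP : Nat.card (PresentedGroup PR) = 21504),
    Nonempty (PresentedGroup PR ≃* Subgroup.centralizer {s}) := by
  intro hP
  obtain ⟨θ, hθ⟩ := exists_theta
  have hgen : ∀ x : Gen, θ (PresentedGroup.of x) = θ (PresentedGroup.mk PR (wordF dec [C2BPCod.enc x])) := by
    intro x
    congr 1
    cases x <;> rfl
  -- the range lies in the centraliser
  have hle : θ.range ≤ Subgroup.centralizer {s} := by
    refine range_le_of_gens θ _ fun x => ?_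
    rw [Subgroup.mem_centralizer_iff]
    intro t ht
    rw [Set.mem_singleton_iff.mp ht]
    apply Subtype.ext
    show (s : Matrix (Fin 5) (Fin 5) (ZMod 2)) * _ = _ * (s : Matrix (Fin 5) (Fin 5) (ZMod 2))
    rw [hgen x, hθ, hs, ← sD_eq, ← MatD.toMatE_mul, ← MatD.toMatE_mul, hXW x, hcommS x]
  -- the chain
  have hmem : ∀ w : List ℕ, θ (PresentedGroup.mk PR (wordF dec w)) ∈ θ.range := fun w => ⟨_, rfl⟩
  have hact : ∀ (w : List ℕ) (j : Fin 5), θ (PresentedGroup.mk PR (wordF dec w)) • eV j = colD (XW w) j :=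
    fun w j => smul_eV _ _ (hθ w) j
  have hst : ∀ (w : List ℕ) (j : Fin 5), colD (XW w) j = eV j →
      θ (PresentedGroup.mk PR (wordF dec w)) ∈ MulAction.stabilizer SL5 (eV j) :=
    fun w j h => MulAction.mem_stabilizer_iff.mpr ((hact w j).trans h)
  have hchain : ChainOK θ.range [(eV 1, 16), (eV 2, 14), (eV 3, 12), (eV 4, 8)] := by
    refine ⟨?_, ?_, ?_, ?_, trivial⟩
    · have := level_of_list θ.range (eV 1) (W1.map fun w => colD (XW w) 1) lvl1.1 ?_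
      · rw [List.length_map, lvl1.2] at this
        exact this
      · intro y hy
        obtain ⟨w, hw, rfl⟩ := List.mem_map.mp hy
        exact ⟨_, hmem w, hact w 1⟩
    · have := level_of_list (θ.range ⊓ MulAction.stabilizer SL5 (eV 1)) (eV 2)
        (W2.map fun w => colD (XW w) 2) lvl2.1.1 ?_
      · rw [List.length_map, lvl2.1.2] at this
        exact this
      · intro y hy
        obtain ⟨w, hw, rfl⟩ := List.mem_map.mp hy
        exact ⟨_, Subgroup.mem_inf.mpr ⟨hmem w, hst w 1 (lvl2.2 w hw)⟩, hact w 2⟩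
    · have := level_of_list ((θ.range ⊓ MulAction.stabilizer SL5 (eV 1)) ⊓ MulAction.stabilizer SL5 (eV 2)) (eV 3)
        (W3.map fun w => colD (XW w) 3) lvl3.1.1 ?_
      · rw [List.length_map, lvl3.1.2] at this
        exact this
      · intro y hy
        obtain ⟨w, hw, rfl⟩ := List.mem_map.mp hy
        exact ⟨_, Subgroup.mem_inf.mpr ⟨Subgroup.mem_inf.mpr ⟨hmem w, hst w 1 (lvl3.2 w hw).1⟩,
          hst w 2 (lvl3.2 w hw).2⟩, hact w 3⟩
    · have := level_of_list (((θ.range ⊓ MulAction.stabilizer SL5 (eV 1)) ⊓ MulAction.stabilizer SL5 (eV 2)) ⊓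
          MulAction.stabilizer SL5 (eV 3)) (eV 4)
        (W4.map fun w => colD (XW w) 4) lvl4.1.1 ?_
      · rw [List.length_map, lvl4.1.2] at this
        exact this
      · intro y hy
        obtain ⟨w, hw, rfl⟩ := List.mem_map.mp hy
        exact ⟨_, Subgroup.mem_inf.mpr ⟨Subgroup.mem_inf.mpr ⟨Subgroup.mem_inf.mpr ⟨hmem w,
          hst w 1 (lvl4.2 w hw).1⟩, hst w 2 (lvl4.2 w hw).2.1⟩, hst w 3 (lvl4.2 w hw).2.2⟩, hact w 4⟩
  haveI : Finite SL5 := inferInstance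
  haveI : Finite θ.range := inferInstance
  have hge : 21504 ≤ Nat.card θ.range := by
    have := card_ge_of_chain _ θ.range hchain
    simpa using this
  have hC := TransvC.card_centralizer_le s hs
  haveI : Finite (PresentedGroup PR) := Nat.finite_of_card_ne_zero (by rw [hP]; norm_num)
  -- the range is the centraliser
  have heq : θ.range = Subgroup.centralizer {s} := by
    refine Subgroup.eq_of_le_of_card_ge hle ?_
    exact hC.trans hge
  let θ' : PresentedGroup PR →* Subgroup.centralizer {s} :=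
    θ.codRestrict _ fun p => hle ⟨p, rfl⟩
  have hsurj : Function.Surjective θ' := by
    rintro ⟨y, hy⟩
    rw [← heq] at hy
    obtain ⟨p, rfl⟩ := hy
    exact ⟨p, rfl⟩
  have hcard : Nat.card (Subgroup.centralizer {s}) = 21504 := by
    rw [← heq]
    refine le_antisymm ?_ hge
    rw [heq]
    exact hC
  have hbij : Function.Bijective θ' := by
    rw [Nat.bijective_iff_surjective_and_card]
    exact ⟨hsurj, hP.trans hcard.symm⟩
  exact ⟨MulEquiv.ofBijective θ' hbij⟩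

end Cfsg.Agent.Helper4.TC.C2BMat
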