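import Cfsg.Prelude.Def_SporCoxeter

set_option autoImplicit false

/-! A presentation of a group of order 21504 on four involutions. -/

namespace Cfsg.Agent.Helper4.Pres

namespace C2B

inductive Gen
  | a
  | b
  | p
  | q
  deriving DecidableEq

abbrev a : FreeGroup Gen := FreeGroup.of Gen.a
abbrev b : FreeGroup Gen := FreeGroup.of Gen.b
abbrev p : FreeGroup Gen := FreeGroup.of Gen.p
abbrev q : FreeGroup Gen := FreeGroup.of Gen.q

def edges : List (Gen × ℕ × Gen) := [(.a, 4, .b), (.b, 3, .p), (.b, 3, .q), (.p, 4, .q)]

def extra : List (FreeGroup Gen) := [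
  p * q * p * b * q * a * p * q * b * p * b * q * p * a * b * q * b * a,
  p * q * b * a * b * p * q * b * a * b * q * p * b * a * b * q * p * b * a * b * a ]

end C2B

end Cfsg.Agent.Helper4.Pres
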