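import Cfsg.Agent.Lib.Helper4.TC.C2BPZ0D
import Cfsg.Agent.Lib.Helper4.TC.Perm
import Cfsg.Agent.Lib.Helper4.TC.C2BPCod
import Cfsg.Agent.Lib.Helper4.TC.Strict

set_option autoImplicit false
set_option maxRecDepth 100000
set_option linter.unusedVariables false
set_option Elab.async false

namespace Cfsg.Agent.Helper4.TC.C2BPZ0

open Cfsg.Agent.Helper4.TC

theorem e0_c0 : edgeRange data 0 11103 0 = true := edgeRange_strict data 0 11103 0 (by decide +kernel)
theorem e0_c1 : edgeRange data 0 9280 11103 = true := edgeRange_strict data 0 9280 11103 (by decide +kernel)
theorem e0_c2 : edgeRange data 0 12385 20383 = true := edgeRange_strict data 0 12385 20383 (by decide +kernel)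
theorem e1_c0 : edgeRange data 1 17726 0 = true := edgeRange_strict data 1 17726 0 (by decide +kernel)
theorem e1_c1 : edgeRange data 1 15042 17726 = true := edgeRange_strict data 1 15042 17726 (by decide +kernel)
theorem e2_c0 : edgeRange data 2 13900 0 = true := edgeRange_strict data 2 13900 0 (by decide +kernel)
theorem e2_c1 : edgeRange data 2 9360 13900 = true := edgeRange_strict data 2 9360 13900 (by decide +kernel)
theorem e2_c2 : edgeRange data 2 9508 23260 = true := edgeRange_strict data 2 9508 23260 (by decide +kernel)
theorem e3_c0 : edgeRange data 3 18893 0 = true := edgeRange_strict data 3 18893 0 (by decide +kernel)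
theorem e3_c1 : edgeRange data 3 13875 18893 = true := edgeRange_strict data 3 13875 18893 (by decide +kernel)
theorem e4_c0 : edgeRange data 4 13209 0 = true := edgeRange_strict data 4 13209 0 (by decide +kernel)
theorem e4_c1 : edgeRange data 4 8739 13209 = true := edgeRange_strict data 4 8739 13209 (by decide +kernel)
theorem e4_c2 : edgeRange data 4 10820 21948 = true := edgeRange_strict data 4 10820 21948 (by decide +kernel)
theorem e5_c0 : edgeRange data 5 18509 0 = true := edgeRange_strict data 5 18509 0 (by decide +kernel)
theorem e5_c1 : edgeRange data 5 14259 18509 = true := edgeRange_strict data 5 14259 18509 (by decide +kernel)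
theorem e6_c0 : edgeRange data 6 14475 0 = true := edgeRange_strict data 6 14475 0 (by decide +kernel)
theorem e6_c1 : edgeRange data 6 16257 14475 = true := edgeRange_strict data 6 16257 14475 (by decide +kernel)
theorem e6_c2 : edgeRange data 6 2036 30732 = true := edgeRange_strict data 6 2036 30732 (by decide +kernel)
theorem e7_c0 : edgeRange data 7 18532 0 = true := edgeRange_strict data 7 18532 0 (by decide +kernel)
theorem e7_c1 : edgeRange data 7 14236 18532 = true := edgeRange_strict data 7 14236 18532 (by decide +kernel)
theorem m_c0 : mergeRange data 32768 0 = true := mergeRange_strict data 32768 0 (by decide +kernel)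
theorem cnt0 : countFinal data 22488 0 0 = 21504 := countFinal_strict data 22488 0 0 21504 (by decide +kernel)
theorem rows0 : rowsRange data 22488 2037 0 = true := rowsRange_strict data 22488 2037 0 (by decide +kernel)
theorem rows1 : rowsRange data 22488 2217 2037 = true := rowsRange_strict data 22488 2217 2037 (by decide +kernel)
theorem rows2 : rowsRange data 22488 2301 4254 = true := rowsRange_strict data 22488 2301 4254 (by decide +kernel)
theorem rows3 : rowsRange data 22488 2127 6555 = true := rowsRange_strict data 22488 2127 6555 (by decide +kernel)
theorem rows4 : rowsRange data 22488 2079 8682 = true := rowsRange_strict data 22488 2079 8682 (by decide +kernel)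
theorem rows5 : rowsRange data 22488 2070 10761 = true := rowsRange_strict data 22488 2070 10761 (by decide +kernel)
theorem rows6 : rowsRange data 22488 2067 12831 = true := rowsRange_strict data 22488 2067 12831 (by decide +kernel)
theorem rows7 : rowsRange data 22488 2038 14898 = true := rowsRange_strict data 22488 2038 14898 (by decide +kernel)
theorem rows8 : rowsRange data 22488 2008 16936 = true := rowsRange_strict data 22488 2008 16936 (by decide +kernel)
theorem rows9 : rowsRange data 22488 2005 18944 = true := rowsRange_strict data 22488 2005 18944 (by decide +kernel)
theorem rows10 : rowsRange data 22488 1539 20949 = true := rowsRange_strict data 22488 1539 20949 (by decide +kernel)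
theorem words_ok : wordsCheck data bases subsL rots = true := by decide +kernel
theorem fin0_ok : isFinal data 0 = true := by decide +kernel

theorem allE0 : ∀ k, k < 32768 → justE data 0 k = true := by
  intro k hk
  by_cases hh1 : k < 11103
  · skip
    exact edgeRange_sound data 0 11103 0 e0_c0 k (by omega) (by omega)
  · skip
    by_cases hh2 : k < 20383
    · skip
      exact edgeRange_sound data 0 9280 11103 e0_c1 k (by omega) (by omega)
    · skip
      exact edgeRange_sound data 0 12385 20383 e0_c2 k (by omega) (by omega)

theorem allE1 : ∀ k, k < 32768 → justE data 1 k = true := by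
  intro k hk
  by_cases hh1 : k < 17726
  · skip
    exact edgeRange_sound data 1 17726 0 e1_c0 k (by omega) (by omega)
  · skip
    exact edgeRange_sound data 1 15042 17726 e1_c1 k (by omega) (by omega)

theorem allE2 : ∀ k, k < 32768 → justE data 2 k = true := by
  intro k hk
  by_cases hh1 : k < 13900
  · skip
    exact edgeRange_sound data 2 13900 0 e2_c0 k (by omega) (by omega)
  · skip
    by_cases hh2 : k < 23260
    · skip
      exact edgeRange_sound data 2 9360 13900 e2_c1 k (by omega) (by omega)
    · skip
      exact edgeRange_sound data 2 9508 23260 e2_c2 k (by omega) (by omega)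

theorem allE3 : ∀ k, k < 32768 → justE data 3 k = true := by
  intro k hk
  by_cases hh1 : k < 18893
  · skip
    exact edgeRange_sound data 3 18893 0 e3_c0 k (by omega) (by omega)
  · skip
    exact edgeRange_sound data 3 13875 18893 e3_c1 k (by omega) (by omega)

theorem allE4 : ∀ k, k < 32768 → justE data 4 k = true := by
  intro k hk
  by_cases hh1 : k < 13209
  · skip
    exact edgeRange_sound data 4 13209 0 e4_c0 k (by omega) (by omega)
  · skip
    by_cases hh2 : k < 21948
    · skip
      exact edgeRange_sound data 4 8739 13209 e4_c1 k (by omega) (by omega)
    · skip
      exact edgeRange_sound data 4 10820 21948 e4_c2 k (by omega) (by omega)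

theorem allE5 : ∀ k, k < 32768 → justE data 5 k = true := by
  intro k hk
  by_cases hh1 : k < 18509
  · skip
    exact edgeRange_sound data 5 18509 0 e5_c0 k (by omega) (by omega)
  · skip
    exact edgeRange_sound data 5 14259 18509 e5_c1 k (by omega) (by omega)

theorem allE6 : ∀ k, k < 32768 → justE data 6 k = true := by
  intro k hk
  by_cases hh1 : k < 14475
  · skip
    exact edgeRange_sound data 6 14475 0 e6_c0 k (by omega) (by omega)
  · skip
    by_cases hh2 : k < 30732
    · skip
      exact edgeRange_sound data 6 16257 14475 e6_c1 k (by omega) (by omega)
    · skip
      exact edgeRange_sound data 6 2036 30732 e6_c2 k (by omega) (by omega)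

theorem allE7 : ∀ k, k < 32768 → justE data 7 k = true := by
  intro k hk
  by_cases hh1 : k < 18532
  · skip
    exact edgeRange_sound data 7 18532 0 e7_c0 k (by omega) (by omega)
  · skip
    exact edgeRange_sound data 7 14236 18532 e7_c1 k (by omega) (by omega)

theorem allE : ∀ c k, c < data.nc → k ≤ data.mask → justE data c k = true := by
  intro c k hc hk
  have hc' : c < 8 := hc
  have hk' : k < 32768 := Nat.lt_succ_of_le hk
  interval_cases c
  · exact allE0 k hk'
  · exact allE1 k hk'
  · exact allE2 k hk'
  · exact allE3 k hk'
  · exact allE4 k hk'
  · exact allE5 k hk'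
  · exact allE6 k hk'
  · exact allE7 k hk'

theorem allM : ∀ k, k ≤ data.mask → justM data k = true := by
  intro k hk
  have hk' : k < 32768 := Nat.lt_succ_of_le hk
  exact mergeRange_sound data 32768 0 m_c0 k (by omega) (by omega)

theorem rows_all : ∀ k, k < M → isFinal data k = true → rowOK data M k data.nc = true := by
  intro k hk
  have hk' : k < 22488 := hk
  by_cases hh1 : k < 10761
  · skip
    by_cases hh2 : k < 4254
    · skip
      by_cases hh3 : k < 2037
      · skip
        exact rowsRange_sound data M 2037 0 rows0 k (by omega) (by omega)
      · skip
        exact rowsRange_sound data M 2217 2037 rows1 k (by omega) (by omega)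
    · skip
      by_cases hh4 : k < 6555
      · skip
        exact rowsRange_sound data M 2301 4254 rows2 k (by omega) (by omega)
      · skip
        by_cases hh5 : k < 8682
        · skip
          exact rowsRange_sound data M 2127 6555 rows3 k (by omega) (by omega)
        · skip
          exact rowsRange_sound data M 2079 8682 rows4 k (by omega) (by omega)
  · skip
    by_cases hh6 : k < 16936
    · skip
      by_cases hh7 : k < 12831
      · skip
        exact rowsRange_sound data M 2070 10761 rows5 k (by omega) (by omega)
      · skip
        by_cases hh8 : k < 14898
        · skip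
          exact rowsRange_sound data M 2067 12831 rows6 k (by omega) (by omega)
        · skip
          exact rowsRange_sound data M 2038 14898 rows7 k (by omega) (by omega)
    · skip
      by_cases hh9 : k < 18944
      · skip
        exact rowsRange_sound data M 2008 16936 rows8 k (by omega) (by omega)
      · skip
        by_cases hh10 : k < 20949
        · skip
          exact rowsRange_sound data M 2005 18944 rows9 k (by omega) (by omega)
        · skip
          exact rowsRange_sound data M 1539 20949 rows10 k (by omega) (by omega)

theorem cnt_ok : countFinal data M 0 0 = n := by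
  exact cnt0

/-- the index of the subgroup generated by `subsL` in the group with relators `bases` -/
theorem bound : Finite (PresentedGroup (relSet C2BPCod.dec bases) ⧸ (Subgroup.closure (relSet C2BPCod.dec subsL)).map (PresentedGroup.mk (relSet C2BPCod.dec bases))) ∧
    Nat.card (PresentedGroup (relSet C2BPCod.dec bases) ⧸ (Subgroup.closure (relSet C2BPCod.dec subsL)).map (PresentedGroup.mk (relSet C2BPCod.dec bases))) ≤ n :=
  tc_bound data bases subsL rots C2BPCod.coding (mem_relSet bases) (mem_relSet subsL) words_ok allE allM M n fin0_ok (by decide) (by decide) cnt_ok rows_all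

end Cfsg.Agent.Helper4.TC.C2BPZ0
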