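import Cfsg.Agent.Lib.Helper4.TC.Trans

set_option autoImplicit false
set_option linter.unusedVariables false
set_option linter.unusedSectionVars false
set_option linter.style.haveILetI false

/-! The centraliser of an element centralised by the point stabiliser of a transitive permutation
representation, when no representative of a further orbit of the stabiliser commutes with it. -/

namespace Cfsg.Agent.Helper4.TC

section Centr

variable {G : Type*} [Group G]

theorem centralizer_eq_stab {n : ℕ} (φ : G →* Equiv.Perm (Fin n)) (x0 : Fin n)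
    (Hgen : Set G) (hHgen : Subgroup.closure Hgen = stabOf φ x0)
    (z : G) (hcomm : ∀ s ∈ Hgen, s * z = z * s)
    (reps : List G)
    (hreps : ∀ y : Fin n, y ≠ x0 → ∃ r ∈ reps, ∃ h ∈ stabOf φ x0, φ (h * r) x0 = y)
    (hP : ∀ r ∈ reps, r * z ≠ z * r) :
    Subgroup.centralizer {z} = stabOf φ x0 := by
  have hle : stabOf φ x0 ≤ Subgroup.centralizer {z} := by
    rw [← hHgen, Subgroup.closure_le]
    intro s hs
    rw [SetLike.mem_coe, Subgroup.mem_centralizer_iff]
    intro w hw
    rw [Set.mem_singleton_iff.mp hw]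
    exact (hcomm s hs).symm
  have hcz : ∀ h ∈ stabOf φ x0, h * z = z * h := by
    intro h hh
    have := hle hh
    exact (Subgroup.mem_centralizer_iff.mp this z rfl).symm
  refine le_antisymm ?_ hle
  intro g hg
  have hgz : g * z = z * g := (Subgroup.mem_centralizer_iff.mp hg z rfl).symm
  by_contra hns
  have hy : φ g x0 ≠ x0 := fun h => hns ((mem_stabOf φ x0 g).mpr h)
  obtain ⟨r, hr, h, hh, hy'⟩ := hreps _ hy
  have hh' : (h * r)⁻¹ * g ∈ stabOf φ x0 := by
    rw [mem_stabOf, map_mul, Equiv.Perm.mul_apply, ← hy', map_inv, Equiv.Perm.inv_eq_iff_eq]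
  set h' := (h * r)⁻¹ * g with hh'def
  have hr' : r = h⁻¹ * g * h'⁻¹ := by rw [hh'def]; group
  apply hP r hr
  have e1 : h'⁻¹ * z = z * h'⁻¹ := by
    have := hcz h' hh'
    calc h'⁻¹ * z = h'⁻¹ * (z * h') * h'⁻¹ := by group
      _ = h'⁻¹ * (h' * z) * h'⁻¹ := by rw [this]
      _ = z * h'⁻¹ := by group
  have e2 : h⁻¹ * z = z * h⁻¹ := by
    have := hcz h hh
    calc h⁻¹ * z = h⁻¹ * (z * h) * h⁻¹ := by group
      _ = h⁻¹ * (h * z) * h⁻¹ := by rw [this]
      _ = z * h⁻¹ := by group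
  rw [hr']
  calc h⁻¹ * g * h'⁻¹ * z = h⁻¹ * g * (h'⁻¹ * z) := by group
    _ = h⁻¹ * g * (z * h'⁻¹) := by rw [e1]
    _ = h⁻¹ * (g * z) * h'⁻¹ := by group
    _ = h⁻¹ * (z * g) * h'⁻¹ := by rw [hgz]
    _ = (h⁻¹ * z) * g * h'⁻¹ := by group
    _ = (z * h⁻¹) * g * h'⁻¹ := by rw [e2]
    _ = z * (h⁻¹ * g * h'⁻¹) := by group

end Centr

section CentrModel

variable {α : Type} {R : Set (FreeGroup α)} {dec : ℕ → Letter α} {enc : α → ℕ}
variable {m : MData} {bases subsL : List (List ℕ)}

/-- the word `w` does not commute with the word `zw`: the two products differ at the point `k` -/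
noncomputable def noncommB (m : MData) (zw : List ℕ) (wk : List ℕ × ℕ) : Bool :=
  (wk.1.all fun c => Nat.blt c m.nc) && Nat.blt wk.2 m.n &&
    !(Nat.beq (mtrace m (wk.1 ++ zw) wk.2) (mtrace m (zw ++ wk.1) wk.2))

theorem noncommB_sound {zw : List ℕ} {wk : List ℕ × ℕ} (h : noncommB m zw wk = true) :
    (∀ c ∈ wk.1, c < m.nc) ∧ wk.2 < m.n ∧
      mtrace m (wk.1 ++ zw) wk.2 ≠ mtrace m (zw ++ wk.1) wk.2 := by
  unfold noncommB at h
  rw [Bool.and_eq_true, Bool.and_eq_true, List.all_eq_true] at h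
  refine ⟨fun c hc => ?_, ?_, ?_⟩
  · have := h.1.1 c hc
    rw [Nat.blt_eq] at this
    exact this
  · have := h.1.2
    rw [Nat.blt_eq] at this
    exact this
  · intro he
    have h2 := h.2
    rw [he] at h2
    simp at h2

theorem centralizer_model (hcod : Coding dec enc m.nc)
    (hR1 : ∀ r ∈ R, ∃ b ∈ bases, r = wordF dec b) (hm : ModelOK m bases subsL)
    [Finite (PresentedGroup R)]
    (S : Set (FreeGroup α)) (hS1 : ∀ s ∈ S, ∃ b ∈ subsL, s = wordF dec b)
    (hidx : ((Subgroup.closure S).map (PresentedGroup.mk R)).index = m.n)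
    (rs : List (ℕ × ℕ)) (hcon : Consec rs 1 m.n) (horb : ∀ r ∈ rs, OrbOK m subsL r.1 r.2)
    (zw : List ℕ) (hzw : ∀ c ∈ zw, c < m.nc)
    (hcomm : ∀ b ∈ subsL, PresentedGroup.mk R (wordF dec b) * PresentedGroup.mk R (wordF dec zw) =
      PresentedGroup.mk R (wordF dec zw) * PresentedGroup.mk R (wordF dec b))
    (ws : List (List ℕ × ℕ)) (hws : ∀ r ∈ rs, ∃ wk ∈ ws, mtrace m wk.1 0 = r.1)
    (hP : ∀ wk ∈ ws, noncommB m zw wk = true) :
    Subgroup.centralizer {PresentedGroup.mk R (wordF dec zw)} =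
      (Subgroup.closure S).map (PresentedGroup.mk R) := by
  set φ := modelHom hcod hR1 hm with hφ
  set x0 : Fin m.n := ⟨0, hm.npos⟩ with hx0
  set z := PresentedGroup.mk R (wordF dec zw) with hz
  have htr := modelHom_trans hcod hR1 hm
  have hmap : (Subgroup.closure S).map (PresentedGroup.mk R) =
      Subgroup.closure (PresentedGroup.mk R '' S) := MonoidHom.map_closure _ _
  have hle : Subgroup.closure (PresentedGroup.mk R '' S) ≤ stabOf φ x0 := by
    rw [Subgroup.closure_le]
    rintro _ ⟨s, hs, rfl⟩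
    obtain ⟨b, hb, rfl⟩ := hS1 s hs
    rw [SetLike.mem_coe, mem_stabOf]
    apply Fin.ext
    rw [modelHom_word hcod hR1 hm b (hm.subc b hb)]
    exact hm.sub0 b hb
  have hHgen : Subgroup.closure (PresentedGroup.mk R '' S) = stabOf φ x0 := by
    refine Subgroup.eq_of_le_of_card_ge hle ?_
    have h1 := (Subgroup.closure (PresentedGroup.mk R '' S)).card_mul_index
    have h2 := (stabOf φ x0).card_mul_index
    rw [← hmap, hidx] at h1
    rw [index_stabOf φ x0 htr] at h2
    have h3 : Nat.card (stabOf φ x0) * m.n =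
        Nat.card ((Subgroup.closure S).map (PresentedGroup.mk R)) * m.n := by rw [h1, h2]
    rw [← hmap]
    exact le_of_eq (Nat.eq_of_mul_eq_mul_right hm.npos h3)
  have hcomm' : ∀ s ∈ PresentedGroup.mk R '' S, s * z = z * s := by
    rintro _ ⟨s, hs, rfl⟩
    obtain ⟨b, hb, rfl⟩ := hS1 s hs
    exact hcomm b hb
  have hreps : ∀ y : Fin m.n, y ≠ x0 → ∃ r ∈ ws.map (fun wk => PresentedGroup.mk R (wordF dec wk.1)),
      ∃ h ∈ stabOf φ x0, φ (h * r) x0 = y := by
    intro y hy
    have hy0 : y.val ≠ 0 := fun h => hy (Fin.ext h)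
    obtain ⟨i, hi1, hi2⟩ := hcon.cover y.val (by omega) y.2
    have hmem := List.get_mem rs i
    have ho := horb _ hmem
    obtain ⟨wk, hwk, hw0⟩ := hws _ hmem
    obtain ⟨g, hg, hgy⟩ := orb_reach hcod hR1 hm _ _ ho y.val hi1 hi2
    refine ⟨_, List.mem_map_of_mem hwk, g, hg, ?_⟩
    rw [map_mul, Equiv.Perm.mul_apply]
    have hwc := (noncommB_sound (hP wk hwk)).1
    have h2 : φ (PresentedGroup.mk R (wordF dec wk.1)) x0 =
        ⟨(rs.get i).1, by have := ho.le; have := ho.lt; omega⟩ := by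
      apply Fin.ext
      rw [modelHom_word hcod hR1 hm wk.1 hwc]
      exact hw0
    rw [h2]
    exact hgy
  have hP' : ∀ r ∈ ws.map (fun wk => PresentedGroup.mk R (wordF dec wk.1)), r * z ≠ z * r := by
    intro r hr
    obtain ⟨wk, hwk, rfl⟩ := List.mem_map.mp hr
    obtain ⟨hwc, hk, hne⟩ := noncommB_sound (hP wk hwk)
    intro he
    apply hne
    have hl1 : ∀ c ∈ wk.1 ++ zw, c < m.nc := by
      intro c hc
      rcases List.mem_append.mp hc with h | h
      · exact hwc c h
      · exact hzw c h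
    have hl2 : ∀ c ∈ zw ++ wk.1, c < m.nc := by
      intro c hc
      rcases List.mem_append.mp hc with h | h
      · exact hzw c h
      · exact hwc c h
    have e1 := modelHom_word hcod hR1 hm (wk.1 ++ zw) hl1 ⟨wk.2, hk⟩
    have e2 := modelHom_word hcod hR1 hm (zw ++ wk.1) hl2 ⟨wk.2, hk⟩
    rw [← e1, ← e2]
    -- the two words give `z * r` and `r * z`
    rw [← evc_of (b := wk.1 ++ zw), ← evc_of (b := zw ++ wk.1), evc_append, evc_append, evc_of,
      evc_of, ← hz, he]
  have h3 := centralizer_eq_stab φ x0 (PresentedGroup.mk R '' S) hHgen z hcomm' _ hreps hP'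
  rw [h3, hmap, hHgen]

end CentrModel

end Cfsg.Agent.Helper4.TC
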