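import Cfsg.Agent.Lib.Helper4.TC.Fi22SMain
import Cfsg.Agent.Lib.Helper4.TC.Fi22O73Glue
import Cfsg.Agent.Lib.Helper4.TC.O73Iso
import Cfsg.Agent.Lib.Helper4.TC.Embed2

set_option autoImplicit false
set_option maxRecDepth 100000
set_option linter.unusedVariables false

namespace Cfsg.Agent.Helper4.TC.Fi22O7

open Cfsg.Agent.Helper4.TC

abbrev Rset : Set (FreeGroup Cfsg.Spor.Fi22.Gen) := Cfsg.Spor.coxRelators Cfsg.Spor.Fi22.edges ∪ {r | r ∈ Cfsg.Spor.Fi22.extra}
def pts : List ℕ := [0, 1, 651, 8, 11]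

def sig : Cfsg.Agent.Helper4.Pres.O73.Gen → List ℕ
  | .b => [2]
  | .c => [4]
  | .d => [6]
  | .e => [8]
  | .f => [10]
  | .g => [12]
  | .h => [14]
  | .i => [16]

theorem chk : ∀ b ∈ O73PE6a.bases, fixesB Fi22U62.mdata pts (substW sig O73PE6a.dec b) = true := by decide +kernel
def gensL : List Cfsg.Agent.Helper4.Pres.O73.Gen := [.b, .c, .d, .e, .f, .g, .h, .i]
theorem hsubs' : ∀ b ∈ Fi22O73.subsL, b ∈ gensL.map sig := by decide
theorem hsubs (b : List ℕ) (hb : b ∈ Fi22O73.subsL) : ∃ x, sig x = b := by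
  obtain ⟨x, _, hx⟩ := List.mem_map.mp (hsubs' b hb)
  exact ⟨x, hx⟩

/-- the homomorphism from the presented orthogonal group into the presented Fi22 -/
theorem exists_psi : ∃ ψ : PresentedGroup O73PS.Rset →* PresentedGroup Rset,
    ∀ x, ψ (PresentedGroup.of x) = PresentedGroup.mk Rset (wordF Fi22U62.dec (sig x)) :=
  exists_hom_of_subst Fi22U62.coding Fi22U62.hR1 Fi22U62.model_ok 64561751654400 (by norm_num) Fi22S.card_top
    Fi22S.specs Fi22S.levels_ok (by decide) O73PS.Rset O73PE6a.bases O73PE6a.hR1 sig pts rfl chk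

theorem s1686 : Nonempty (((Subgroup.closure Fi22O73.Sset).map (PresentedGroup.mk Rset)) ≃* Cfsg.POmega (ZMod 3) (Cfsg.quadFormOdd 3 (ZMod 3))) := by
  haveI : IsSimpleGroup (PresentedGroup O73PS.Rset) := O73PS.main.1
  haveI : Finite (PresentedGroup O73PS.Rset) := O73PS.card_top.1
  haveI : Finite (PresentedGroup Rset) := Fi22S.card_top.1
  obtain ⟨ψ, hψ⟩ := exists_psi
  have hle : ((Subgroup.closure Fi22O73.Sset).map (PresentedGroup.mk Rset)) ≤ ψ.range := by
    rw [Subgroup.map_le_iff_le_comap, Subgroup.closure_le]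
    intro s hs
    obtain ⟨b, hb, rfl⟩ := Fi22O73.hS1 s hs
    obtain ⟨x, hx⟩ := hsubs b hb
    refine ⟨PresentedGroup.of x, ?_⟩
    rw [hψ, hx]
    rfl
  have hcard : Nat.card ((Subgroup.closure Fi22O73.Sset).map (PresentedGroup.mk Rset)) = Nat.card (PresentedGroup O73PS.Rset) := by
    have h1 := ((Subgroup.closure Fi22O73.Sset).map (PresentedGroup.mk Rset)).card_mul_index
    rw [Fi22O73.main.1, Fi22S.main.2] at h1
    rw [O73PS.main.2]
    omega
  obtain ⟨e⟩ := equiv_of_le_range ψ _ hle hcard (by rw [O73PS.main.2]; norm_num)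
  obtain ⟨e2⟩ := O73Iso.iso
  exact ⟨e.trans e2⟩

end Cfsg.Agent.Helper4.TC.Fi22O7
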