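import Cfsg.Agent.Lib.Helper4.TC.Fi22SL
import Cfsg.Agent.Lib.Helper4.TC.Fi22U62Glue

set_option autoImplicit false
set_option maxRecDepth 100000
set_option linter.unusedVariables false
set_option Elab.async false

namespace Cfsg.Agent.Helper4.TC.Fi22S

open Cfsg.Agent.Helper4.TC

theorem lvl2_c0 : lvlRange Fi22U62.mdata ld2 W2 1 2816 0 = true := by decide +kernel
theorem srt2_c0 : srtRange ld2 2815 0 = true := by decide +kernel
theorem fix2 : ∀ w ∈ W2, (∀ c ∈ w, c < Fi22U62.mdata.nc) ∧ ∀ q ∈ [0], mtrace Fi22U62.mdata w q = q := by decide +kernel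

theorem lvl3_c0 : lvlRange Fi22U62.mdata ld3 W3 651 1680 0 = true := by decide +kernel
theorem srt3_c0 : srtRange ld3 1679 0 = true := by decide +kernel
theorem fix3 : ∀ w ∈ W3, (∀ c ∈ w, c < Fi22U62.mdata.nc) ∧ ∀ q ∈ [1, 0], mtrace Fi22U62.mdata w q = q := by decide +kernel

theorem lvl4_c0 : lvlRange Fi22U62.mdata ld4 W4 8 243 0 = true := by decide +kernel
theorem srt4_c0 : srtRange ld4 242 0 = true := by decide +kernel
theorem fix4 : ∀ w ∈ W4, (∀ c ∈ w, c < Fi22U62.mdata.nc) ∧ ∀ q ∈ [651, 1, 0], mtrace Fi22U62.mdata w q = q := by decide +kernel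

theorem lvl5_c0 : lvlRange Fi22U62.mdata ld5 W5 11 16 0 = true := by decide +kernel
theorem srt5_c0 : srtRange ld5 15 0 = true := by decide +kernel
theorem fix5 : ∀ w ∈ W5, (∀ c ∈ w, c < Fi22U62.mdata.nc) ∧ ∀ q ∈ [8, 651, 1, 0], mtrace Fi22U62.mdata w q = q := by decide +kernel

theorem lvl2 : LevelOK Fi22U62.mdata ld2 W2 1 := by
  refine ⟨?_, ?_⟩
  · intro k hk
    have hk' : k < 2816 := hk
    exact lvlRange_sound Fi22U62.mdata ld2 W2 1 2816 0 lvl2_c0 k (by omega) (by omega)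
  · intro k hk
    have hk' : k + 1 < 2816 := hk
    exact srtRange_sound ld2 2815 0 srt2_c0 k (by omega) (by omega)

theorem lvl3 : LevelOK Fi22U62.mdata ld3 W3 651 := by
  refine ⟨?_, ?_⟩
  · intro k hk
    have hk' : k < 1680 := hk
    exact lvlRange_sound Fi22U62.mdata ld3 W3 651 1680 0 lvl3_c0 k (by omega) (by omega)
  · intro k hk
    have hk' : k + 1 < 1680 := hk
    exact srtRange_sound ld3 1679 0 srt3_c0 k (by omega) (by omega)

theorem lvl4 : LevelOK Fi22U62.mdata ld4 W4 8 := by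
  refine ⟨?_, ?_⟩
  · intro k hk
    have hk' : k < 243 := hk
    exact lvlRange_sound Fi22U62.mdata ld4 W4 8 243 0 lvl4_c0 k (by omega) (by omega)
  · intro k hk
    have hk' : k + 1 < 243 := hk
    exact srtRange_sound ld4 242 0 srt4_c0 k (by omega) (by omega)

theorem lvl5 : LevelOK Fi22U62.mdata ld5 W5 11 := by
  refine ⟨?_, ?_⟩
  · intro k hk
    have hk' : k < 16 := hk
    exact lvlRange_sound Fi22U62.mdata ld5 W5 11 16 0 lvl5_c0 k (by omega) (by omega)
  · intro k hk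
    have hk' : k + 1 < 16 := hk
    exact srtRange_sound ld5 15 0 srt5_c0 k (by omega) (by omega)

noncomputable def specs : List LSpec := [⟨ld2, W2, 1⟩, ⟨ld3, W3, 651⟩, ⟨ld4, W4, 8⟩, ⟨ld5, W5, 11⟩]

theorem levels_ok : LevelsOK Fi22U62.mdata [0] specs := by
  refine levelsOK_cons Fi22U62.mdata [0] ⟨ld2, W2, 1⟩ _ lvl2 (by decide) fix2 ?_
  refine levelsOK_cons Fi22U62.mdata [1, 0] ⟨ld3, W3, 651⟩ _ lvl3 (by decide) fix3 ?_
  refine levelsOK_cons Fi22U62.mdata [651, 1, 0] ⟨ld4, W4, 8⟩ _ lvl4 (by decide) fix4 ?_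
  refine levelsOK_cons Fi22U62.mdata [8, 651, 1, 0] ⟨ld5, W5, 11⟩ _ lvl5 (by decide) fix5 ?_
  exact levelsOK_nil _ _

end Cfsg.Agent.Helper4.TC.Fi22S
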