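import Cfsg.Agent.Lib.Helper4.TC.Fi22SLC

set_option autoImplicit false
set_option maxRecDepth 100000
set_option linter.unusedVariables false
set_option Elab.async false

namespace Cfsg.Agent.Helper4.TC.Fi22S

open Cfsg.Agent.Helper4.TC

def xw : List ℕ := [14, 6, 10, 16, 0, 2, 0, 8, 0, 4]
def xpw : List ℕ := [14, 6, 10, 16, 0, 2, 0, 8, 0, 4, 14, 6, 10, 16, 0, 2, 0, 8, 0, 4, 14, 6, 10, 16, 0, 2, 0, 8, 0, 4, 14, 6, 10, 16, 0, 2, 0, 8, 0, 4, 14, 6, 10, 16, 0, 2, 0, 8, 0, 4, 14, 6, 10, 16, 0, 2, 0, 8, 0, 4, 14, 6, 10, 16, 0, 2, 0, 8, 0, 4, 14, 6, 10, 16, 0, 2, 0, 8, 0, 4, 14, 6, 10, 16, 0, 2, 0, 8, 0, 4, 14, 6, 10, 16, 0, 2, 0, 8, 0, 4, 14, 6, 10, 16, 0, 2, 0, 8, 0, 4, 14, 6, 10, 16, 0, 2, 0, 8, 0, 4, 14, 6, 10, 16, 0, 2, 0, 8, 0, 4]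
theorem xp_c0 : relsRange Fi22U62.mdata [xpw] 615 0 = true := by decide +kernel
theorem xp_c1 : relsRange Fi22U62.mdata [xpw] 615 615 = true := by decide +kernel
theorem xp_c2 : relsRange Fi22U62.mdata [xpw] 615 1230 = true := by decide +kernel
theorem xp_c3 : relsRange Fi22U62.mdata [xpw] 615 1845 = true := by decide +kernel
theorem xp_c4 : relsRange Fi22U62.mdata [xpw] 615 2460 = true := by decide +kernel
theorem xp_c5 : relsRange Fi22U62.mdata [xpw] 435 3075 = true := by decide +kernel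

end Cfsg.Agent.Helper4.TC.Fi22S
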