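import Cfsg.Agent.Lib.Helper4.TC.Fi22U62Model
import Cfsg.Agent.Lib.Helper4.TC.Fi22U62Data

set_option autoImplicit false
set_option maxRecDepth 100000
set_option linter.unusedVariables false
set_option Elab.async false

namespace Cfsg.Agent.Helper4.TC.Fi22U62

open Cfsg.Agent.Helper4.TC

theorem rel24 : relsRange mdata bases 54 3456 = true := by decide +kernel
theorem inv0 : invRange mdata 1481 0 = true := by decide +kernel
theorem inv1 : invRange mdata 1481 1481 = true := by decide +kernel
theorem inv2 : invRange mdata 548 2962 = true := by decide +kernel
theorem tree0 : treeRange mdata 3509 1 = true := by decide +kernel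
theorem closed1_0 : closedRange mdata subsL 1 2817 1052 1 = true := by decide +kernel
theorem closed1_1 : closedRange mdata subsL 1 2817 1052 1053 = true := by decide +kernel
theorem closed1_2 : closedRange mdata subsL 1 2817 712 2105 = true := by decide +kernel

end Cfsg.Agent.Helper4.TC.Fi22U62
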