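import Cfsg.Agent.Lib.Helper4.TC.Timed

set_option autoImplicit false
set_option maxRecDepth 100000
set_option linter.unusedVariables false

namespace Cfsg.Agent.Helper4.TC.Fi23AB

open Cfsg.Agent.Helper4.TC

def e0_0 : ℕ := 0x7000485980126d000746a0032b600159b8008ee000387180100000006800220000000000000000000000000000000000000450002c05d00026f001
def j0_0 : ℕ := 0x4d0000003d000000350000002d000000250000001d000000150000000000000000000000000000000000000000000000000000000000000000000000000000000300000001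
noncomputable def ecol0 (b : ℕ) : ℕ := e0_0
noncomputable def jcol0 (b : ℕ) : ℕ := j0_0

def e1_0 : ℕ := 0x700048580012000000000000000000000000000000086000105000286990220000003a8408255203d6b101cd5c80d7b0406458e02c05e00026e001
def j1_0 : ℕ := 0xdb00000000000000c3000000ab000000930000007b0000006300000053000000020000000d
noncomputable def ecol1 (b : ℕ) : ℕ := e1_0
noncomputable def jcol1 (b : ℕ) : ℕ := j1_0

def e2_0 : ℕ := 0x7000485800126c00074600032b00015980008edf003000000000000068002200000000000000000000000000000007a000600b60022de0170ef002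
def j2_0 : ℕ := 0x1d0000000000000000000000000000000000000000000000000000000000000000000000000000000b0000000100000001
noncomputable def ecol2 (b : ℕ) : ℕ := e2_0
noncomputable def jcol2 (b : ℕ) : ℕ := j2_0

def e3_0 : ℕ := 0x7000485800120000000000000000000000000ec000313780085000286800220000003a0008250003d68001cd4000d7afc0600bc0000000010ed002
def j3_0 : ℕ := 0x2000000000000000000000000000000000000000000000000000000000000006b000000020000000000000015
noncomputable def ecol3 (b : ℕ) : ℕ := e3_0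
noncomputable def jcol3 (b : ℕ) : ℕ := j3_0

def e4_0 : ℕ := 0x7000485800126c00074600032b000159b600800000000000000000006800220000000000000000000000000d4000d0164000000001ede018eef003
def j4_0 : ℕ := 0x2500000000000000000000000000000000000000000000000000000000000000000000000000000013000000000000000100000001
noncomputable def ecol4 (b : ℕ) : ℕ := e4_0
noncomputable def jcol4 (b : ℕ) : ℕ := j4_0

def e5_0 : ℕ := 0x700048580012000000000000000000198000826f00100000005000286800220000003a0008250003d68001cd5b80d0178000000000000000eec003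
def j5_0 : ℕ := 0x200000000000000000000000000000000000000000000000000000000000000830000000200000000000000000000001d
noncomputable def ecol5 (b : ℕ) : ℕ := e5_0
noncomputable def jcol5 (b : ℕ) : ℕ := j5_0

def e6_0 : ℕ := 0x7000485960126c00074600032b5c0140000000000000000000000000691022000000000000000000168001c02b8000000000000001ade01acef004
def j6_0 : ℕ := 0x4d00000000000000000000002d00000000000000000000000000000000000000f3000000000000000000000000000000000000001b00000000000000000000000100000001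
noncomputable def ecol6 (b : ℕ) : ℕ := e6_0
noncomputable def jcol6 (b : ℕ) : ℕ := j6_0

def e7_0 : ℕ := 0x7000485900120000000000002b000144de00200000000000005000286970220000003a0008250003d6af01c02f0000000000000000000000ceb004
def j7_0 : ℕ := 0x4d00000000000000000000000000000002000000000000000000000000000000e30000000000000000000000000000009b0000000200000000000000000000000000000025
noncomputable def ecol7 (b : ℕ) : ℕ := e7_0
noncomputable def jcol7 (b : ℕ) : ℕ := j7_0

def e8_0 : ℕ := 0x7000485800126c000746980300000000000000000000000000000000680022000000000000250003c05500000000000000000000016de01caef005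
def j8_0 : ℕ := 0x35000000000000000000000000000000000000000000000000000000000000000000000000000000230000000000000000000000000000000100000001
noncomputable def ecol8 (b : ℕ) : ℕ := e8_0
noncomputable def jcol8 (b : ℕ) : ℕ := j8_0

def e9_0 : ℕ := 0x70004858001200000046000309bc00400000000000000000005000286800220000003a0008254e03c05e0000000000000000000000000000aea005
def j9_0 : ℕ := 0x200000000000000000000000000000000000000000000000000000000000000b300000002000000000000000000000000000000000000002d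
noncomputable def ecol9 (b : ℕ) : ℕ := e9_0
noncomputable def jcol9 (b : ℕ) : ℕ := j9_0

def e10_0 : ℕ := 0x7000485800126cf007000000000000000000000000000000000000006800220000003a000800a600000000000000000000000000012de01e8ef006
def j10_0 : ℕ := 0x3d0000000000000000000000000000000000000000000000000000000000000000000000000000002b000000000000000000000000000000000000000100000001
noncomputable def ecol10 (b : ℕ) : ℕ := e10_0
noncomputable def jcol10 (b : ℕ) : ℕ := j10_0

def e11_0 : ℕ := 0x7000485800126c0007137800800000000000000000000000005000286800220000003a7c0800bc00000000000000000000000000000000008e9006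
def j11_0 : ℕ := 0x200000000000000000000000000000000000000000000000000000000000000cb00000002000000000000000000000000000000000000000000000035
noncomputable def ecol11 (b : ℕ) : ℕ := e11_0
noncomputable def jcol11 (b : ℕ) : ℕ := j11_0

def e12_0 : ℕ := 0x7000485940120000000000000000000000000000000000000000000069302200000001440000000000000000000000000000000000ede0206ef007
def j12_0 : ℕ := 0x4d0000000000000000000000000000000000000000000000000000000000000033000000000000003300000000000000000000000000000000000000000000000100000001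
noncomputable def ecol12 (b : ℕ) : ℕ := e12_0
noncomputable def jcol12 (b : ℕ) : ℕ := j12_0

def e13_0 : ℕ := 0x70004859201226f00100000000000000000000000000000000500028695022000000017800000000000000000000000000000000000000006e8007
def j13_0 : ℕ := 0x4d00000002000000000000000000000000000000000000000000000000000000eb00000000000000020000000000000000000000000000000000000000000000000000003d
noncomputable def ecol13 (b : ℕ) : ℕ := e13_0
noncomputable def jcol13 (b : ℕ) : ℕ := j13_0

def e14_0 : ℕ := 0x7000486800227400104a0007ad00039a8001af4000c8a00058500028580012000000360003a30001958000acc0004760001c3000084800033ef008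
def j14_0 : ℕ := 0x1
noncomputable def ecol14 (b : ℕ) : ℕ := e14_0
noncomputable def jcol14 (b : ℕ) : ℕ := j14_0

def e15_0 : ℕ := 0x7000486800227400104a0007ad00039a8001af4000c8a0005850002858001202f000360003a30001958000acc0004760001c300008480002026800
def j15_0 : ℕ := 0x20000000000000000000000000000000000000000000000000000000000000046
noncomputable def ecol15 (b : ℕ) : ℕ := e15_0
noncomputable def jcol15 (b : ℕ) : ℕ := j15_0

def e16_0 : ℕ := 0x48e002000000000000000000000000000000000000007bc04804b000000000000000000000000000000000000000000000006de0222ef009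
def j16_0 : ℕ := 0xd0000000000000000000000000000000000000000000000000000000100000043000000000000000000000000000000000000000000000000000000000000000100000001
noncomputable def ecol16 (b : ℕ) : ℕ := e16_0
noncomputable def jcol16 (b : ℕ) : ℕ := j16_0

def e17_0 : ℕ := 0x5bc0284de0020000000000000000000000000000000000000050002805e0000000000000000000000000000000000000000000000068f0222e5009
def j17_0 : ℕ := 0x200000002000000000000000000000000000000000000000000000000000000000000000200000000000000000000000000000000000000000000000000000000000000fb0000004d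
noncomputable def ecol17 (b : ℕ) : ℕ := e17_0
noncomputable def jcol17 (b : ℕ) : ℕ := j17_0

def e18_0 : ℕ := 0x920000000000000000000000000000000000000000000000000000000000016f00a
def j18_0 : ℕ := 0x4b00000000000000000000000000000000000000000000000000000000000000000000000000000001
noncomputable def ecol18 (b : ℕ) : ℕ := e18_0
noncomputable def jcol18 (b : ℕ) : ℕ := j18_0

def e19_0 : ℕ := 0xbc0000000000000000000000000000000000000000000000000000000000016400a
def j19_0 : ℕ := 0x200000000000000000000000000000000000000000000000000000000000000000000000000000055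
noncomputable def ecol19 (b : ℕ) : ℕ := e19_0
noncomputable def jcol19 (b : ℕ) : ℕ := j19_0

def m_0 : ℕ := 0x800a0e02840008d00018004e8000a0029400040015a0001800b500008005e800020031400090000a00040000b0021c00278000c0006c00850004600420002b0020c001980104000ec008100086004000009000000000000
def jm_0 : ℕ := 0x22900000209000001a9000001790000014900000119000000e9000000b90000023900001103000000710000100300000f0300000e0300000d0300000c0300000b030000021900000000

noncomputable def mgT (b : ℕ) : ℕ := m_0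
noncomputable def jmT (b : ℕ) : ℕ := jm_0
noncomputable def eT (c b : ℕ) : ℕ := Bool.rec (motive := fun _ => ℕ) (Bool.rec (motive := fun _ => ℕ) (Bool.rec (motive := fun _ => ℕ) (Bool.rec (motive := fun _ => ℕ) (ecol0 b) (ecol1 b) (Nat.ble 1 c)) (Bool.rec (motive := fun _ => ℕ) (ecol2 b) (Bool.rec (motive := fun _ => ℕ) (ecol3 b) (ecol4 b) (Nat.ble 4 c)) (Nat.ble 3 c)) (Nat.ble 2 c)) (Bool.rec (motive := fun _ => ℕ) (Bool.rec (motive := fun _ => ℕ) (ecol5 b) (ecol6 b) (Nat.ble 6 c)) (Bool.rec (motive := fun _ => ℕ) (ecol7 b) (Bool.rec (motive := fun _ => ℕ) (ecol8 b) (ecol9 b) (Nat.ble 9 c)) (Nat.ble 8 c)) (Nat.ble 7 c)) (Nat.ble 5 c)) (Bool.rec (motive := fun _ => ℕ) (Bool.rec (motive := fun _ => ℕ) (Bool.rec (motive := fun _ => ℕ) (ecol10 b) (ecol11 b) (Nat.ble 11 c)) (Bool.rec (motive := fun _ => ℕ) (ecol12 b) (Bool.rec (motive := fun _ => ℕ) (ecol13 b) (ecol14 b) (Nat.ble 14 c)) (Nat.ble 13 c)) (Nat.ble 12 c)) (Bool.rec (motive := fun _ => ℕ) (Bool.rec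 (motive := fun _ => ℕ) (ecol15 b) (ecol16 b) (Nat.ble 16 c)) (Bool.rec (motive := fun _ => ℕ) (ecol17 b) (Bool.rec (motive := fun _ => ℕ) (ecol18 b) (ecol19 b) (Nat.ble 19 c)) (Nat.ble 18 c)) (Nat.ble 17 c)) (Nat.ble 15 c)) (Nat.ble 10 c)
noncomputable def jT (c b : ℕ) : ℕ := Bool.rec (motive := fun _ => ℕ) (Bool.rec (motive := fun _ => ℕ) (Bool.rec (motive := fun _ => ℕ) (Bool.rec (motive := fun _ => ℕ) (jcol0 b) (jcol1 b) (Nat.ble 1 c)) (Bool.rec (motive := fun _ => ℕ) (jcol2 b) (Bool.rec (motive := fun _ => ℕ) (jcol3 b) (jcol4 b) (Nat.ble 4 c)) (Nat.ble 3 c)) (Nat.ble 2 c)) (Bool.rec (motive := fun _ => ℕ) (Bool.rec (motive := fun _ => ℕ) (jcol5 b) (jcol6 b) (Nat.ble 6 c)) (Bool.rec (motive := fun _ => ℕ) (jcol7 b) (Bool.rec (motive := fun _ => ℕ) (jcol8 b) (jcol9 b) (Nat.ble 9 c)) (Nat.ble 8 c)) (Nat.ble 7 c)) (Nat.ble 5 c)) (Bool.rec (motive := fun _ => ℕ) (Bool.rec (motive := fun _ => ℕ) (Bool.rec (motive := fun _ => ℕ) (jcol10 b) (jcol11 b) (Nat.ble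 11 c)) (Bool.rec (motive := fun _ => ℕ) (jcol12 b) (Bool.rec (motive := fun _ => ℕ) (jcol13 b) (jcol14 b) (Nat.ble 14 c)) (Nat.ble 13 c)) (Nat.ble 12 c)) (Bool.rec (motive := fun _ => ℕ) (Bool.rec (motive := fun _ => ℕ) (jcol15 b) (jcol16 b) (Nat.ble 16 c)) (Bool.rec (motive := fun _ => ℕ) (jcol17 b) (Bool.rec (motive := fun _ => ℕ) (jcol18 b) (jcol19 b) (Nat.ble 19 c)) (Nat.ble 18 c)) (Nat.ble 17 c)) (Nat.ble 15 c)) (Nat.ble 10 c)

def rw0 : List ℕ := [0, 0]
def rw1 : List ℕ := [2, 2]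
def rw2 : List ℕ := [4, 4]
def rw3 : List ℕ := [6, 6]
def rw4 : List ℕ := [8, 8]
def rw5 : List ℕ := [10, 10]
def rw6 : List ℕ := [12, 12]
def rw7 : List ℕ := [14]
def rw8 : List ℕ := [16, 16]
def rw9 : List ℕ := [18, 18]
def rw10 : List ℕ := [1, 3, 0, 2]
def rw11 : List ℕ := [0, 2, 0, 2, 0, 2]
def rw12 : List ℕ := [1, 5, 0, 4]
def rw13 : List ℕ := [3, 5, 2, 4]
def rw14 : List ℕ := [2, 4, 2, 4, 2, 4]
def rw15 : List ℕ := [1, 7, 0, 6]
def rw16 : List ℕ := [5, 7, 4, 6]
def rw17 : List ℕ := [4, 6, 4, 6, 4, 6]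
def rw18 : List ℕ := [1, 9, 0, 8]
def rw19 : List ℕ := [7, 9, 6, 8]
def rw20 : List ℕ := [6, 8, 6, 8, 6, 8]
def rw21 : List ℕ := [1, 11, 0, 10]
def rw22 : List ℕ := [9, 11, 8, 10]
def rw23 : List ℕ := [8, 10, 8, 10, 8, 10]
def rw24 : List ℕ := [1, 13, 0, 12]
def rw25 : List ℕ := [11, 13, 10, 12]
def rw26 : List ℕ := [10, 12, 10, 12, 10, 12]
def rw27 : List ℕ := [1, 17, 0, 16]
def rw28 : List ℕ := [7, 17, 6, 16]
def rw29 : List ℕ := [13, 17, 12, 16]
def rw30 : List ℕ := [6, 12, 7, 13]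
def rw31 : List ℕ := [17, 12, 16, 13]
def rw32 : List ℕ := [16, 6, 16, 6, 16, 6]
def rw33 : List ℕ := [16, 10, 8, 6, 4, 2, 0, 16, 10, 8, 6, 4, 2, 0, 16, 10, 8, 6, 4, 2, 0, 16, 10, 8, 6, 4, 2, 0, 16, 10, 8, 6, 4, 2, 0, 16, 10, 8, 6, 4, 2, 0, 16, 10, 8, 6, 4, 2, 0, 16, 10, 8, 6, 4, 2, 0, 16, 10, 8, 6, 4, 2, 0]
def rw34 : List ℕ := [17, 19, 16, 18]
def rw35 : List ℕ := [16, 18, 16, 18, 16, 18]
noncomputable def relW (i : ℕ) : List ℕ := Bool.rec (motive := fun _ => List ℕ) (Bool.rec (motive := fun _ => List ℕ) (Bool.rec (motive := fun _ => List ℕ) (Bool.rec (motive := fun _ => List ℕ) (Bool.rec (motive := fun _ => List ℕ) (rw0) (rw1) (Nat.ble 1 i)) (Bool.rec (motive := fun _ => List ℕ) (rw2) (rw3) (Nat.ble 3 i)) (Nat.ble 2 i)) (Bool.rec (motive := fun _ => List ℕ) (Bool.rec (motive := fun _ => List ℕ) (rw4) (rw5) (Nat.ble 5 i)) (Bool.rec (motive := fun _ => List ℕ) (rw6) (Bool.rec (motive := fun _ => List ℕ) (rw7) (rw8) (Nat.ble 8 i)) (Nat.ble 7 i)) (Nat.ble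 6 i)) (Nat.ble 4 i)) (Bool.rec (motive := fun _ => List ℕ) (Bool.rec (motive := fun _ => List ℕ) (Bool.rec (motive := fun _ => List ℕ) (rw9) (rw10) (Nat.ble 10 i)) (Bool.rec (motive := fun _ => List ℕ) (rw11) (rw12) (Nat.ble 12 i)) (Nat.ble 11 i)) (Bool.rec (motive := fun _ => List ℕ) (Bool.rec (motive := fun _ => List ℕ) (rw13) (rw14) (Nat.ble 14 i)) (Bool.rec (motive := fun _ => List ℕ) (rw15) (Bool.rec (motive := fun _ => List ℕ) (rw16) (rw17) (Nat.ble 17 i)) (Nat.ble 16 i)) (Nat.ble 15 i)) (Nat.ble 13 i)) (Nat.ble 9 i)) (Bool.rec (motive := fun _ => List ℕ) (Bool.rec (motive := fun _ => List ℕ) (Bool.rec (motive := fun _ => List ℕ) (Bool.rec (motive := fun _ => List ℕ) (rw18) (rw19) (Nat.ble 19 i)) (Bool.rec (motive := fun _ => List ℕ) (rw20) (rw21) (Nat.ble 21 i)) (Nat.ble 20 i)) (Bool.rec (motive := fun _ => List ℕ) (Bool.rec (motive := fun _ => List ℕ) (rw22) (rw23) (Nat.ble 23 i)) (Bool.rec (motive := fun _ => List ℕ) (rw24) (Bool.rec (motive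 := fun _ => List ℕ) (rw25) (rw26) (Nat.ble 26 i)) (Nat.ble 25 i)) (Nat.ble 24 i)) (Nat.ble 22 i)) (Bool.rec (motive := fun _ => List ℕ) (Bool.rec (motive := fun _ => List ℕ) (Bool.rec (motive := fun _ => List ℕ) (rw27) (rw28) (Nat.ble 28 i)) (Bool.rec (motive := fun _ => List ℕ) (rw29) (rw30) (Nat.ble 30 i)) (Nat.ble 29 i)) (Bool.rec (motive := fun _ => List ℕ) (Bool.rec (motive := fun _ => List ℕ) (rw31) (rw32) (Nat.ble 32 i)) (Bool.rec (motive := fun _ => List ℕ) (rw33) (Bool.rec (motive := fun _ => List ℕ) (rw34) (rw35) (Nat.ble 35 i)) (Nat.ble 34 i)) (Nat.ble 33 i)) (Nat.ble 31 i)) (Nat.ble 27 i)) (Nat.ble 18 i)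
noncomputable def subW (i : ℕ) : List ℕ := []

noncomputable def data : Data where
  w := 11
  mask := 2047
  tw := 7
  tmask := 127
  hsh := 18
  lsh := 29
  ew := 25
  emask := 33554431
  mw := 37
  mmask := 137438953471
  jw := 32
  jmask := 4294967295
  bsh := 11
  bmask := 2047
  nc := 20
  fuel := 4
  E := eT
  J := jT
  Mg := mgT
  JM := jmT
  relW := relW
  nrot := 36
  subW := subW
  nsub := 0

def M : ℕ := 19
def n : ℕ := 1

def bases : List (List ℕ) := [
  [0, 0],
  [2, 0, 2, 0, 2, 0],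
  [4, 0, 4, 0],
  [6, 0, 6, 0],
  [8, 0, 8, 0],
  [10, 0, 10, 0],
  [12, 0, 12, 0],
  [16, 0, 16, 0],
  [18, 0, 18, 0],
  [0, 2, 0, 2, 0, 2],
  [2, 2],
  [4, 2, 4, 2, 4, 2],
  [6, 2, 6, 2],
  [8, 2, 8, 2],
  [10, 2, 10, 2],
  [12, 2, 12, 2],
  [16, 2, 16, 2],
  [18, 2, 18, 2],
  [0, 4, 0, 4],
  [2, 4, 2, 4, 2, 4],
  [4, 4],
  [6, 4, 6, 4, 6, 4],
  [8, 4, 8, 4],
  [10, 4, 10, 4],
  [12, 4, 12, 4],
  [16, 4, 16, 4],
  [18, 4, 18, 4],
  [0, 6, 0, 6],
  [2, 6, 2, 6],
  [4, 6, 4, 6, 4, 6],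
  [6, 6],
  [8, 6, 8, 6, 8, 6],
  [10, 6, 10, 6],
  [12, 6, 12, 6],
  [16, 6, 16, 6, 16, 6],
  [18, 6, 18, 6],
  [0, 8, 0, 8],
  [2, 8, 2, 8],
  [4, 8, 4, 8],
  [6, 8, 6, 8, 6, 8],
  [8, 8],
  [10, 8, 10, 8, 10, 8],
  [12, 8, 12, 8],
  [16, 8, 16, 8],
  [18, 8, 18, 8],
  [0, 10, 0, 10],
  [2, 10, 2, 10],
  [4, 10, 4, 10],
  [6, 10, 6, 10],
  [8, 10, 8, 10, 8, 10],
  [10, 10],
  [12, 10, 12, 10, 12, 10],
  [16, 10, 16, 10],
  [18, 10, 18, 10],
  [0, 12, 0, 12],
  [2, 12, 2, 12],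
  [4, 12, 4, 12],
  [6, 12, 6, 12],
  [8, 12, 8, 12],
  [10, 12, 10, 12, 10, 12],
  [12, 12],
  [16, 12, 16, 12],
  [18, 12, 18, 12],
  [0, 16, 0, 16],
  [2, 16, 2, 16],
  [4, 16, 4, 16],
  [6, 16, 6, 16, 6, 16],
  [8, 16, 8, 16],
  [10, 16, 10, 16],
  [12, 16, 12, 16],
  [16, 16],
  [18, 16, 18, 16, 18, 16],
  [0, 18, 0, 18],
  [2, 18, 2, 18],
  [4, 18, 4, 18],
  [6, 18, 6, 18],
  [8, 18, 8, 18],
  [10, 18, 10, 18],
  [12, 18, 12, 18],
  [16, 18, 16, 18, 16, 18],
  [18, 18],
  [18, 16, 6, 10, 8, 6, 2, 4, 6, 18, 16, 6, 10, 8, 6, 2, 4, 6, 18, 16, 6, 10, 8, 6, 2, 4, 6, 18, 16, 6, 10, 8, 6, 2, 4, 6, 18, 16, 6, 10, 8, 6, 2, 4, 6, 18, 16, 6, 10, 8, 6, 2, 4, 6, 18, 16, 6, 10, 8, 6, 2, 4, 6, 18, 16, 6, 10, 8, 6, 2, 4, 6, 18, 16, 6, 10, 8, 6, 2, 4, 6, 18, 16, 6, 10, 8, 6, 2, 4, 6],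
  [16, 10, 8, 6, 4, 2, 0, 16, 10, 8, 6, 4, 2, 0, 16, 10, 8, 6, 4, 2, 0, 16, 10, 8, 6, 4, 2, 0, 16, 10, 8, 6, 4, 2, 0, 16, 10, 8, 6, 4, 2, 0, 16, 10, 8, 6, 4, 2, 0, 16, 10, 8, 6, 4, 2, 0, 16, 10, 8, 6, 4, 2, 0],
  [14],
  [0, 2, 1, 3],
  [0, 4, 1, 5],
  [0, 6, 1, 7],
  [0, 8, 1, 9],
  [0, 10, 1, 11],
  [0, 12, 1, 13],
  [0, 14, 1, 15],
  [0, 16, 1, 17],
  [0, 18, 1, 19],
  [2, 4, 3, 5],
  [2, 6, 3, 7],
  [2, 8, 3, 9],
  [2, 10, 3, 11],
  [2, 12, 3, 13],
  [2, 14, 3, 15],
  [2, 16, 3, 17],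
  [2, 18, 3, 19],
  [4, 6, 5, 7],
  [4, 8, 5, 9],
  [4, 10, 5, 11],
  [4, 12, 5, 13],
  [4, 14, 5, 15],
  [4, 16, 5, 17],
  [4, 18, 5, 19],
  [6, 8, 7, 9],
  [6, 10, 7, 11],
  [6, 12, 7, 13],
  [6, 14, 7, 15],
  [6, 16, 7, 17],
  [6, 18, 7, 19],
  [8, 10, 9, 11],
  [8, 12, 9, 13],
  [8, 14, 9, 15],
  [8, 16, 9, 17],
  [8, 18, 9, 19],
  [10, 12, 11, 13],
  [10, 14, 11, 15],
  [10, 16, 11, 17],
  [10, 18, 11, 19],
  [12, 14, 13, 15],
  [12, 16, 13, 17],
  [12, 18, 13, 19],
  [14, 16, 15, 17],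
  [14, 18, 15, 19],
  [16, 18, 17, 19]
]

def rots : List (ℕ × ℕ) := [(0, 0), (10, 0), (20, 0), (30, 0), (40, 0), (50, 0), (60, 0), (83, 0), (70, 0), (80, 0), (84, 2), (1, 1), (85, 2), (93, 2), (11, 1), (86, 2), (101, 2), (21, 1), (87, 2), (108, 2), (31, 1), (88, 2), (114, 2), (41, 1), (89, 2), (119, 2), (51, 1), (91, 2), (112, 2), (124, 2), (110, 0), (124, 3), (34, 0), (82, 0), (128, 2), (71, 1)]

def subsL : List (List ℕ) := [

]

end Cfsg.Agent.Helper4.TC.Fi23AB
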