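import Cfsg.Agent.Lib.Helper4.TC.Fi23Fi22Model
import Cfsg.Agent.Lib.Helper4.TC.Fi23Fi22Data

set_option autoImplicit false
set_option maxRecDepth 100000
set_option linter.unusedVariables false
set_option Elab.async false

namespace Cfsg.Agent.Helper4.TC.Fi23Fi22

open Cfsg.Agent.Helper4.TC

theorem rel152 : relsRange mdata bases 140 21280 = true := by decide +kernel
theorem rel153 : relsRange mdata bases 140 21420 = true := by decide +kernel
theorem rel154 : relsRange mdata bases 140 21560 = true := by decide +kernel
theorem rel155 : relsRange mdata bases 140 21700 = true := by decide +kernel
theorem rel156 : relsRange mdata bases 140 21840 = true := by decide +kernel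
theorem rel157 : relsRange mdata bases 140 21980 = true := by decide +kernel
theorem rel158 : relsRange mdata bases 140 22120 = true := by decide +kernel
theorem rel159 : relsRange mdata bases 140 22260 = true := by decide +kernel

end Cfsg.Agent.Helper4.TC.Fi23Fi22
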