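import Cfsg.Agent.Lib.Helper4.TC.Fi23SLC
import Cfsg.Agent.Lib.Helper4.TC.Strict

set_option autoImplicit false
set_option maxRecDepth 100000
set_option linter.unusedVariables false
set_option Elab.async false

namespace Cfsg.Agent.Helper4.TC.Fi23S

open Cfsg.Agent.Helper4.TC

def xw : List ℕ := [6, 10, 16, 2, 8, 4, 12, 14, 0]
def xpw : List ℕ := [6, 10, 16, 2, 8, 4, 12, 14, 0, 6, 10, 16, 2, 8, 4, 12, 14, 0, 6, 10, 16, 2, 8, 4, 12, 14, 0, 6, 10, 16, 2, 8, 4, 12, 14, 0, 6, 10, 16, 2, 8, 4, 12, 14, 0, 6, 10, 16, 2, 8, 4, 12, 14, 0, 6, 10, 16, 2, 8, 4, 12, 14, 0, 6, 10, 16, 2, 8, 4, 12, 14, 0, 6, 10, 16, 2, 8, 4, 12, 14, 0, 6, 10, 16, 2, 8, 4, 12, 14, 0, 6, 10, 16, 2, 8, 4, 12, 14, 0, 6, 10, 16, 2, 8, 4, 12, 14, 0, 6, 10, 16, 2, 8, 4, 12, 14, 0, 6, 10, 16, 2, 8, 4, 12, 14, 0, 6, 10, 16, 2, 8, 4, 12, 14, 0, 6, 10, 16, 2, 8, 4, 12, 14, 0, 6, 10, 16, 2, 8, 4, 12, 14, 0]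
theorem xp_c0 : relsRange Fi23Fi22.mdata [xpw] 522 0 = true := relsRange_strict Fi23Fi22.mdata [xpw] 522 0 (by decide +kernel)
theorem xp_c1 : relsRange Fi23Fi22.mdata [xpw] 522 522 = true := relsRange_strict Fi23Fi22.mdata [xpw] 522 522 (by decide +kernel)
theorem xp_c2 : relsRange Fi23Fi22.mdata [xpw] 522 1044 = true := relsRange_strict Fi23Fi22.mdata [xpw] 522 1044 (by decide +kernel)
theorem xp_c3 : relsRange Fi23Fi22.mdata [xpw] 522 1566 = true := relsRange_strict Fi23Fi22.mdata [xpw] 522 1566 (by decide +kernel)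
theorem xp_c4 : relsRange Fi23Fi22.mdata [xpw] 522 2088 = true := relsRange_strict Fi23Fi22.mdata [xpw] 522 2088 (by decide +kernel)
theorem xp_c5 : relsRange Fi23Fi22.mdata [xpw] 522 2610 = true := relsRange_strict Fi23Fi22.mdata [xpw] 522 2610 (by decide +kernel)
theorem xp_c6 : relsRange Fi23Fi22.mdata [xpw] 522 3132 = true := relsRange_strict Fi23Fi22.mdata [xpw] 522 3132 (by decide +kernel)
theorem xp_c7 : relsRange Fi23Fi22.mdata [xpw] 522 3654 = true := relsRange_strict Fi23Fi22.mdata [xpw] 522 3654 (by decide +kernel)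
theorem xp_c8 : relsRange Fi23Fi22.mdata [xpw] 522 4176 = true := relsRange_strict Fi23Fi22.mdata [xpw] 522 4176 (by decide +kernel)
theorem xp_c9 : relsRange Fi23Fi22.mdata [xpw] 522 4698 = true := relsRange_strict Fi23Fi22.mdata [xpw] 522 4698 (by decide +kernel)
theorem xp_c10 : relsRange Fi23Fi22.mdata [xpw] 522 5220 = true := relsRange_strict Fi23Fi22.mdata [xpw] 522 5220 (by decide +kernel)
theorem xp_c11 : relsRange Fi23Fi22.mdata [xpw] 522 5742 = true := relsRange_strict Fi23Fi22.mdata [xpw] 522 5742 (by decide +kernel)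
theorem xp_c12 : relsRange Fi23Fi22.mdata [xpw] 522 6264 = true := relsRange_strict Fi23Fi22.mdata [xpw] 522 6264 (by decide +kernel)
theorem xp_c13 : relsRange Fi23Fi22.mdata [xpw] 522 6786 = true := relsRange_strict Fi23Fi22.mdata [xpw] 522 6786 (by decide +kernel)
theorem xp_c14 : relsRange Fi23Fi22.mdata [xpw] 522 7308 = true := relsRange_strict Fi23Fi22.mdata [xpw] 522 7308 (by decide +kernel)
theorem xp_c15 : relsRange Fi23Fi22.mdata [xpw] 522 7830 = true := relsRange_strict Fi23Fi22.mdata [xpw] 522 7830 (by decide +kernel)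
theorem xp_c16 : relsRange Fi23Fi22.mdata [xpw] 522 8352 = true := relsRange_strict Fi23Fi22.mdata [xpw] 522 8352 (by decide +kernel)
theorem xp_c17 : relsRange Fi23Fi22.mdata [xpw] 522 8874 = true := relsRange_strict Fi23Fi22.mdata [xpw] 522 8874 (by decide +kernel)
theorem xp_c18 : relsRange Fi23Fi22.mdata [xpw] 522 9396 = true := relsRange_strict Fi23Fi22.mdata [xpw] 522 9396 (by decide +kernel)
theorem xp_c19 : relsRange Fi23Fi22.mdata [xpw] 522 9918 = true := relsRange_strict Fi23Fi22.mdata [xpw] 522 9918 (by decide +kernel)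
theorem xp_c20 : relsRange Fi23Fi22.mdata [xpw] 522 10440 = true := relsRange_strict Fi23Fi22.mdata [xpw] 522 10440 (by decide +kernel)
theorem xp_c21 : relsRange Fi23Fi22.mdata [xpw] 522 10962 = true := relsRange_strict Fi23Fi22.mdata [xpw] 522 10962 (by decide +kernel)
theorem xp_c22 : relsRange Fi23Fi22.mdata [xpw] 522 11484 = true := relsRange_strict Fi23Fi22.mdata [xpw] 522 11484 (by decide +kernel)
theorem xp_c23 : relsRange Fi23Fi22.mdata [xpw] 522 12006 = true := relsRange_strict Fi23Fi22.mdata [xpw] 522 12006 (by decide +kernel)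
theorem xp_c24 : relsRange Fi23Fi22.mdata [xpw] 522 12528 = true := relsRange_strict Fi23Fi22.mdata [xpw] 522 12528 (by decide +kernel)
theorem xp_c25 : relsRange Fi23Fi22.mdata [xpw] 522 13050 = true := relsRange_strict Fi23Fi22.mdata [xpw] 522 13050 (by decide +kernel)
theorem xp_c26 : relsRange Fi23Fi22.mdata [xpw] 522 13572 = true := relsRange_strict Fi23Fi22.mdata [xpw] 522 13572 (by decide +kernel)
theorem xp_c27 : relsRange Fi23Fi22.mdata [xpw] 522 14094 = true := relsRange_strict Fi23Fi22.mdata [xpw] 522 14094 (by decide +kernel)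
theorem xp_c28 : relsRange Fi23Fi22.mdata [xpw] 522 14616 = true := relsRange_strict Fi23Fi22.mdata [xpw] 522 14616 (by decide +kernel)
theorem xp_c29 : relsRange Fi23Fi22.mdata [xpw] 522 15138 = true := relsRange_strict Fi23Fi22.mdata [xpw] 522 15138 (by decide +kernel)
theorem xp_c30 : relsRange Fi23Fi22.mdata [xpw] 522 15660 = true := relsRange_strict Fi23Fi22.mdata [xpw] 522 15660 (by decide +kernel)
theorem xp_c31 : relsRange Fi23Fi22.mdata [xpw] 522 16182 = true := relsRange_strict Fi23Fi22.mdata [xpw] 522 16182 (by decide +kernel)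
theorem xp_c32 : relsRange Fi23Fi22.mdata [xpw] 522 16704 = true := relsRange_strict Fi23Fi22.mdata [xpw] 522 16704 (by decide +kernel)
theorem xp_c33 : relsRange Fi23Fi22.mdata [xpw] 522 17226 = true := relsRange_strict Fi23Fi22.mdata [xpw] 522 17226 (by decide +kernel)
theorem xp_c34 : relsRange Fi23Fi22.mdata [xpw] 522 17748 = true := relsRange_strict Fi23Fi22.mdata [xpw] 522 17748 (by decide +kernel)
theorem xp_c35 : relsRange Fi23Fi22.mdata [xpw] 522 18270 = true := relsRange_strict Fi23Fi22.mdata [xpw] 522 18270 (by decide +kernel)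
theorem xp_c36 : relsRange Fi23Fi22.mdata [xpw] 522 18792 = true := relsRange_strict Fi23Fi22.mdata [xpw] 522 18792 (by decide +kernel)
theorem xp_c37 : relsRange Fi23Fi22.mdata [xpw] 522 19314 = true := relsRange_strict Fi23Fi22.mdata [xpw] 522 19314 (by decide +kernel)
theorem xp_c38 : relsRange Fi23Fi22.mdata [xpw] 522 19836 = true := relsRange_strict Fi23Fi22.mdata [xpw] 522 19836 (by decide +kernel)
theorem xp_c39 : relsRange Fi23Fi22.mdata [xpw] 522 20358 = true := relsRange_strict Fi23Fi22.mdata [xpw] 522 20358 (by decide +kernel)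
theorem xp_c40 : relsRange Fi23Fi22.mdata [xpw] 522 20880 = true := relsRange_strict Fi23Fi22.mdata [xpw] 522 20880 (by decide +kernel)
theorem xp_c41 : relsRange Fi23Fi22.mdata [xpw] 522 21402 = true := relsRange_strict Fi23Fi22.mdata [xpw] 522 21402 (by decide +kernel)
theorem xp_c42 : relsRange Fi23Fi22.mdata [xpw] 522 21924 = true := relsRange_strict Fi23Fi22.mdata [xpw] 522 21924 (by decide +kernel)
theorem xp_c43 : relsRange Fi23Fi22.mdata [xpw] 522 22446 = true := relsRange_strict Fi23Fi22.mdata [xpw] 522 22446 (by decide +kernel)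
theorem xp_c44 : relsRange Fi23Fi22.mdata [xpw] 522 22968 = true := relsRange_strict Fi23Fi22.mdata [xpw] 522 22968 (by decide +kernel)
theorem xp_c45 : relsRange Fi23Fi22.mdata [xpw] 522 23490 = true := relsRange_strict Fi23Fi22.mdata [xpw] 522 23490 (by decide +kernel)
theorem xp_c46 : relsRange Fi23Fi22.mdata [xpw] 522 24012 = true := relsRange_strict Fi23Fi22.mdata [xpw] 522 24012 (by decide +kernel)
theorem xp_c47 : relsRange Fi23Fi22.mdata [xpw] 522 24534 = true := relsRange_strict Fi23Fi22.mdata [xpw] 522 24534 (by decide +kernel)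
theorem xp_c48 : relsRange Fi23Fi22.mdata [xpw] 522 25056 = true := relsRange_strict Fi23Fi22.mdata [xpw] 522 25056 (by decide +kernel)
theorem xp_c49 : relsRange Fi23Fi22.mdata [xpw] 522 25578 = true := relsRange_strict Fi23Fi22.mdata [xpw] 522 25578 (by decide +kernel)
theorem xp_c50 : relsRange Fi23Fi22.mdata [xpw] 522 26100 = true := relsRange_strict Fi23Fi22.mdata [xpw] 522 26100 (by decide +kernel)
theorem xp_c51 : relsRange Fi23Fi22.mdata [xpw] 522 26622 = true := relsRange_strict Fi23Fi22.mdata [xpw] 522 26622 (by decide +kernel)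
theorem xp_c52 : relsRange Fi23Fi22.mdata [xpw] 522 27144 = true := relsRange_strict Fi23Fi22.mdata [xpw] 522 27144 (by decide +kernel)
theorem xp_c53 : relsRange Fi23Fi22.mdata [xpw] 522 27666 = true := relsRange_strict Fi23Fi22.mdata [xpw] 522 27666 (by decide +kernel)
theorem xp_c54 : relsRange Fi23Fi22.mdata [xpw] 522 28188 = true := relsRange_strict Fi23Fi22.mdata [xpw] 522 28188 (by decide +kernel)
theorem xp_c55 : relsRange Fi23Fi22.mdata [xpw] 522 28710 = true := relsRange_strict Fi23Fi22.mdata [xpw] 522 28710 (by decide +kernel)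
theorem xp_c56 : relsRange Fi23Fi22.mdata [xpw] 522 29232 = true := relsRange_strict Fi23Fi22.mdata [xpw] 522 29232 (by decide +kernel)
theorem xp_c57 : relsRange Fi23Fi22.mdata [xpw] 522 29754 = true := relsRange_strict Fi23Fi22.mdata [xpw] 522 29754 (by decide +kernel)
theorem xp_c58 : relsRange Fi23Fi22.mdata [xpw] 522 30276 = true := relsRange_strict Fi23Fi22.mdata [xpw] 522 30276 (by decide +kernel)
theorem xp_c59 : relsRange Fi23Fi22.mdata [xpw] 522 30798 = true := relsRange_strict Fi23Fi22.mdata [xpw] 522 30798 (by decide +kernel)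
theorem xp_c60 : relsRange Fi23Fi22.mdata [xpw] 351 31320 = true := relsRange_strict Fi23Fi22.mdata [xpw] 351 31320 (by decide +kernel)

end Cfsg.Agent.Helper4.TC.Fi23S
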