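import Cfsg.Prelude.Def_Sporadic
import Cfsg.Agent.Lib.Helper4.TC.Fi23CMain
import Cfsg.Agent.Lib.Helper4.TC.Trans

set_option autoImplicit false
set_option maxRecDepth 100000
set_option linter.unusedVariables false

namespace Cfsg.Agent.Helper4.TC.Fi23T

open Cfsg.Agent.Helper4.TC

abbrev Rset : Set (FreeGroup Cfsg.Spor.Fi23.Gen) := Cfsg.Spor.coxRelators Cfsg.Spor.Fi23.edges ∪ {r | r ∈ Cfsg.Spor.Fi23.extra}
abbrev Q : Set (FreeGroup Cfsg.Spor.Fi22.Gen) := Cfsg.Spor.coxRelators Cfsg.Spor.Fi22.edges ∪ {r | r ∈ Cfsg.Spor.Fi22.extra}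

def zw : List ℕ := [2, 4, 6, 8, 10, 12, 16, 2, 4, 6, 8, 10, 12, 16, 2, 4, 6, 8, 10, 12, 16, 2, 4, 6, 8, 10, 12, 16, 2, 4, 6, 8, 10, 12, 16, 2, 4, 6, 8, 10, 12, 16, 2, 4, 6, 8, 10, 12, 16, 2, 4, 6, 8, 10, 12, 16, 2, 4, 6, 8, 10, 12, 16]
def pts : List ℕ := [0, 1, 203, 1230, 2]
def ws : List (List ℕ) := [[14], [14, 12, 10, 8, 6, 4, 16, 6, 8, 10, 12, 14]]

theorem hz1 : mtrace Fi23Fi22.mdata zw 1 ≠ 1 := by decide +kernel
theorem hz2 : fixesB Fi23Fi22.mdata pts (zw ++ zw) = true := by decide +kernel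
theorem hcomm : ∀ b ∈ Fi23Fi22.subsL, fixesB Fi23Fi22.mdata pts (b ++ zw ++ invW b ++ invW zw) = true := by decide +kernel
theorem hws : ∀ r ∈ [(1, 28161), (28161, 31671)], ∃ w ∈ ws, mtrace Fi23Fi22.mdata w 0 = r.1 := by decide +kernel
theorem hP : ∀ w ∈ ws, fixesB Fi23Fi22.mdata pts (wpow (invW w ++ zw ++ w ++ zw) 2) = true ∨
    fixesB Fi23Fi22.mdata pts (wpow (invW w ++ zw ++ w ++ zw) 3) = true := by decide +kernel

theorem main : ∃ (G : Type) (_ : Group G) (_ : Finite G), Cfsg.IsFi23 G ∧ ∃ D : Set G, Cfsg.IsThreeTranspositionClass D ∧ Nat.card D = 31671 ∧ ∀ d ∈ D, ∃ (K : Type) (_ : Group K), Cfsg.IsFi22 K ∧ Cfsg.IsNonsplitDoubleCover (Subgroup.centralizer ({d} : Set G)) K := by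
  haveI : IsSimpleGroup (PresentedGroup Rset) := Fi23S.main.1
  have horb : ∀ r ∈ [(1, 28161), (28161, 31671)], OrbOK Fi23Fi22.mdata Fi23Fi22.subsL r.1 r.2 := by
    intro r hr
    simp only [List.mem_cons, List.not_mem_nil, or_false] at hr
    rcases hr with rfl | rfl
    · exact Fi23Fi22.orb1
    · exact Fi23Fi22.orb2
  obtain ⟨h3, hc, hcen⟩ := three_transposition_model Fi23Fi22.coding Fi23Fi22.hR1 Fi23Fi22.model_ok
    4089470473293004800 (by norm_num) Fi23S.card_top (by rw [Fi23S.main.2]; norm_num) Fi23S.specs Fi23S.levels_ok (by decide)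
    Fi23Fi22.Sset Fi23Fi22.hS1 Fi23Fi22.main.1
    [(1, 28161), (28161, 31671)] (by decide) horb (by decide)
    zw 1 (by decide) hz1 pts rfl hz2 hcomm ws hws hP
  refine ⟨PresentedGroup Rset, inferInstance, Fi23S.card_top.1, Fi23S.main, _, h3, hc, ?_⟩
  intro d hd
  obtain ⟨g, rfl⟩ := isConj_iff.mp (show IsConj _ d from hd)
  refine ⟨PresentedGroup Q, inferInstance, Fi22S.main, ?_⟩
  obtain ⟨e⟩ := conj_centralizer_equiv (PresentedGroup.mk Rset (wordF Fi23Fi22.dec zw)) g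
  exact Fi23C.main' ((MulEquiv.subgroupCongr hcen.symm).trans e)

end Cfsg.Agent.Helper4.TC.Fi23T
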