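import Cfsg.Agent.Lib.Helper4.TC.Fi23Z1D
import Cfsg.Agent.Lib.Helper4.TC.Strict

set_option autoImplicit false
set_option maxRecDepth 100000
set_option linter.unusedVariables false
set_option Elab.async false

namespace Cfsg.Agent.Helper4.TC.Fi23Z1

open Cfsg.Agent.Helper4.TC

theorem rows15 : rowsRange data 30388 1687 25763 = true := rowsRange_strict data 30388 1687 25763 (by decide +kernel)
theorem rows16 : rowsRange data 30388 1876 27450 = true := rowsRange_strict data 30388 1876 27450 (by decide +kernel)
theorem rows17 : rowsRange data 30388 1062 29326 = true := rowsRange_strict data 30388 1062 29326 (by decide +kernel)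

end Cfsg.Agent.Helper4.TC.Fi23Z1
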