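import Cfsg.Agent.Lib.Helper4.TC.Timed

set_option autoImplicit false
set_option maxRecDepth 100000
set_option linter.unusedVariables false

namespace Cfsg.Agent.Helper4.TC.Fi23Z9

open Cfsg.Agent.Helper4.TC

def e0_0 : ℕ := 0x13ce01600000000000000000000000000000000000000000000000001367001
def j0_0 : ℕ := 0x1000000000000000000000000000000000000000000000000000000000000000000000001
noncomputable def ecol0 (b : ℕ) : ℕ := e0_0
noncomputable def jcol0 (b : ℕ) : ℕ := j0_0

def e1_0 : ℕ := 0x1380480000000250120000000000000000000000000000000000000000000004e000025800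
def j1_0 : ℕ := 0x2000000000000005e00000000000000000000000000000000000000000000000000000000000000020000000e
noncomputable def ecol1 (b : ℕ) : ℕ := e1_0
noncomputable def jcol1 (b : ℕ) : ℕ := j1_0

def e2_0 : ℕ := 0x11ce01800000000000000000000000000000000000000000000000001267002
def j2_0 : ℕ := 0x1000000000000000000000000000000000000000000000000000000000000000000000001
noncomputable def ecol2 (b : ℕ) : ℕ := e2_0
noncomputable def jcol2 (b : ℕ) : ℕ := j2_0

def e3_0 : ℕ := 0x2700900000000000000210120000000000000000000000000000000000000009c000000000023800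
def j3_0 : ℕ := 0x2000000000000000000000066000000000000000000000000000000000000000000000000000000020000000000000016
noncomputable def ecol3 (b : ℕ) : ℕ := e3_0
noncomputable def jcol3 (b : ℕ) : ℕ := j3_0

def e4_0 : ℕ := 0xfce01a00000000000000000000000000000000000000000000000001167003
def j4_0 : ℕ := 0x1000000000000000000000000000000000000000000000000000000000000000000000001
noncomputable def ecol4 (b : ℕ) : ℕ := e4_0
noncomputable def jcol4 (b : ℕ) : ℕ := j4_0

def e5_0 : ℕ := 0x4e012000000000000000000001d01200000000000000000000000000000000138000000000000000021800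
def j5_0 : ℕ := 0x20000000000000000000000000000006e00000000000000000000000000000000000000000000000200000000000000000000001e
noncomputable def ecol5 (b : ℕ) : ℕ := e5_0
noncomputable def jcol5 (b : ℕ) : ℕ := j5_0

def e6_0 : ℕ := 0xdce01c00000000000000000000000000000000000000000000000001067004
def j6_0 : ℕ := 0x1000000000000000000000000000000000000000000000000000000000000000000000001
noncomputable def ecol6 (b : ℕ) : ℕ := e6_0
noncomputable def jcol6 (b : ℕ) : ℕ := j6_0

def e7_0 : ℕ := 0x9c02400000000000000000000000000190120000000000000000000000000027000000000000000000000001f800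
def j7_0 : ℕ := 0x20000000000000000000000000000000000000076000000000000000000000000000000000000000200000000000000000000000000000026
noncomputable def ecol7 (b : ℕ) : ℕ := e7_0
noncomputable def jcol7 (b : ℕ) : ℕ := j7_0

def e8_0 : ℕ := 0xbce01e00000000000000000000000000000000000000000000000000f67005
def j8_0 : ℕ := 0x1000000000000000000000000000000000000000000000000000000000000000000000001
noncomputable def ecol8 (b : ℕ) : ℕ := e8_0
noncomputable def jcol8 (b : ℕ) : ℕ := j8_0

def e9_0 : ℕ := 0x1380480000000000000000000000000000000015012000000000000000000004e000000000000000000000000000001d800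
def j9_0 : ℕ := 0x200000000000000000000000000000000000000000000007e00000000000000000000000000000002000000000000000000000000000000000000002e
noncomputable def ecol9 (b : ℕ) : ℕ := e9_0
noncomputable def jcol9 (b : ℕ) : ℕ := j9_0

def e10_0 : ℕ := 0x9ce02000000000000000000000000000000000000000000000000000e67006
def j10_0 : ℕ := 0x1000000000000000000000000000000000000000000000000000000000000000000000001
noncomputable def ecol10 (b : ℕ) : ℕ := e10_0
noncomputable def jcol10 (b : ℕ) : ℕ := j10_0

def e11_0 : ℕ := 0x2700900000000000000000000000000000000000000011012000000000000009c000000000000000000000000000000000001b800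
def j11_0 : ℕ := 0x200000000000000000000000000000000000000000000000000000086000000000000000000000002000000000000000000000000000000000000000000000036
noncomputable def ecol11 (b : ℕ) : ℕ := e11_0
noncomputable def jcol11 (b : ℕ) : ℕ := j11_0

def e12_0 : ℕ := 0x7ce02200000000000000000000000000000000000000000000000000d67007
def j12_0 : ℕ := 0x1000000000000000000000000000000000000000000000000000000000000000000000001
noncomputable def ecol12 (b : ℕ) : ℕ := e12_0
noncomputable def jcol12 (b : ℕ) : ℕ := j12_0

def e13_0 : ℕ := 0x4e0120000000000000000000000000000000000000000000000d01200000001380000000000000000000000000000000000000000019800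
def j13_0 : ℕ := 0x2000000000000000000000000000000000000000000000000000000000000008e00000000000000020000000000000000000000000000000000000000000000000000003e
noncomputable def ecol13 (b : ℕ) : ℕ := e13_0
noncomputable def jcol13 (b : ℕ) : ℕ := j13_0

def e14_0 : ℕ := 0x5ce02400000000000000000000000000000000000000000000000000c67008
def j14_0 : ℕ := 0x1000000000000000000000000000000000000000000000000000000000000000000000001
noncomputable def ecol14 (b : ℕ) : ℕ := e14_0
noncomputable def jcol14 (b : ℕ) : ℕ := j14_0

def e15_0 : ℕ := 0x9c0240000000000000000000000000000000000000000000000000000901202700000000000000000000000000000000000000000000000017800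
def j15_0 : ℕ := 0x2000000000000000000000000000000000000000000000000000000000000000000000096000000020000000000000000000000000000000000000000000000000000000000000046
noncomputable def ecol15 (b : ℕ) : ℕ := e15_0
noncomputable def jcol15 (b : ℕ) : ℕ := j15_0

def e16_0 : ℕ := 0x2d00000000000000000000000000000000000000000000000000000027009
def j16_0 : ℕ := 0x43000000000000000000000000000000000000000000000000000000000000000000000001
noncomputable def ecol16 (b : ℕ) : ℕ := e16_0
noncomputable def jcol16 (b : ℕ) : ℕ := j16_0

def e17_0 : ℕ := 0x4e00000000000000000000000000000000000000000000000000000016009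
def j17_0 : ℕ := 0x200000000000000000000000000000000000000000000000000000000000000000000004d
noncomputable def ecol17 (b : ℕ) : ℕ := e17_0
noncomputable def jcol17 (b : ℕ) : ℕ := j17_0

def e18_0 : ℕ := 0x3ce02600000000000000000000000000000000000000000000000000ae700a
def j18_0 : ℕ := 0x1000000000000000000000000000000000000000000000000000000000000000000000001
noncomputable def ecol18 (b : ℕ) : ℕ := e18_0
noncomputable def jcol18 (b : ℕ) : ℕ := j18_0

def e19_0 : ℕ := 0x1380480000000000000000000000000000000000000000000000000009c00000501200000000000000000000000000000000000000000000000000014800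
def j19_0 : ℕ := 0x20000000000000000000000000000000000000000000000000000000000000000000000020000009e000000000000000000000000000000000000000000000000000000000000000000000056
noncomputable def ecol19 (b : ℕ) : ℕ := e19_0
noncomputable def jcol19 (b : ℕ) : ℕ := j19_0

def m_0 : ℕ := 0x120121c04870091602430048f012140249809080125c04830093602410049f012040251809000129c0489000560004000000121c00188000c000d400050007200020003d0000c0020800040011400010009200000004d000000000000
def jm_0 : ℕ := 0x9100000071000000610000005100000041000000310000002100000011000000010000009100000000000000710000006100000051000000410000003100000021000000110000000100000000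

noncomputable def mgT (b : ℕ) : ℕ := m_0
noncomputable def jmT (b : ℕ) : ℕ := jm_0
noncomputable def eT (c b : ℕ) : ℕ := Bool.rec (motive := fun _ => ℕ) (Bool.rec (motive := fun _ => ℕ) (Bool.rec (motive := fun _ => ℕ) (Bool.rec (motive := fun _ => ℕ) (ecol0 b) (ecol1 b) (Nat.ble 1 c)) (Bool.rec (motive := fun _ => ℕ) (ecol2 b) (Bool.rec (motive := fun _ => ℕ) (ecol3 b) (ecol4 b) (Nat.ble 4 c)) (Nat.ble 3 c)) (Nat.ble 2 c)) (Bool.rec (motive := fun _ => ℕ) (Bool.rec (motive := fun _ => ℕ) (ecol5 b) (ecol6 b) (Nat.ble 6 c)) (Bool.rec (motive := fun _ => ℕ) (ecol7 b) (Bool.rec (motive := fun _ => ℕ) (ecol8 b) (ecol9 b) (Nat.ble 9 c)) (Nat.ble 8 c)) (Nat.ble 7 c)) (Nat.ble 5 c)) (Bool.rec (motive := fun _ => ℕ) (Bool.rec (motive := fun _ => ℕ) (Bool.rec (motive := fun _ => ℕ) (ecol10 b) (ecol11 b) (Nat.ble 11 c)) (Bool.rec (motive := fun _ => ℕ) (ecol12 b) (Bool.rec (motive := fun _ => ℕ) (ecol13 b) (ecol14 b) (Nat.ble 14 c)) (Nat.ble 13 c)) (Nat.ble 12 c)) (Bool.rec (motive := fun _ => ℕ) (Bool.rec (motive := fun _ => ℕ) (ecol15 b) (ecol16 b)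 (Nat.ble 16 c)) (Bool.rec (motive := fun _ => ℕ) (ecol17 b) (Bool.rec (motive := fun _ => ℕ) (ecol18 b) (ecol19 b) (Nat.ble 19 c)) (Nat.ble 18 c)) (Nat.ble 17 c)) (Nat.ble 15 c)) (Nat.ble 10 c)
noncomputable def jT (c b : ℕ) : ℕ := Bool.rec (motive := fun _ => ℕ) (Bool.rec (motive := fun _ => ℕ) (Bool.rec (motive := fun _ => ℕ) (Bool.rec (motive := fun _ => ℕ) (jcol0 b) (jcol1 b) (Nat.ble 1 c)) (Bool.rec (motive := fun _ => ℕ) (jcol2 b) (Bool.rec (motive := fun _ => ℕ) (jcol3 b) (jcol4 b) (Nat.ble 4 c)) (Nat.ble 3 c)) (Nat.ble 2 c)) (Bool.rec (motive := fun _ => ℕ) (Bool.rec (motive := fun _ => ℕ) (jcol5 b) (jcol6 b) (Nat.ble 6 c)) (Bool.rec (motive := fun _ => ℕ) (jcol7 b) (Bool.rec (motive := fun _ => ℕ) (jcol8 b) (jcol9 b) (Nat.ble 9 c)) (Nat.ble 8 c)) (Nat.ble 7 c)) (Nat.ble 5 c)) (Bool.rec (motive := fun _ => ℕ) (Bool.rec (motive := fun _ => ℕ) (Bool.rec (motive := fun _ => ℕ) (jcol10 b) (jcol11 b) (Nat.ble 11 c)) (Bool.rec (motive := fun _ => ℕ) (jcol12 b) (Bool.rec (motive := fun _ => ℕ) (jcol13 b) (jcol14 b) (Nat.ble 14 c)) (Nat.ble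 13 c)) (Nat.ble 12 c)) (Bool.rec (motive := fun _ => ℕ) (Bool.rec (motive := fun _ => ℕ) (jcol15 b) (jcol16 b) (Nat.ble 16 c)) (Bool.rec (motive := fun _ => ℕ) (jcol17 b) (Bool.rec (motive := fun _ => ℕ) (jcol18 b) (jcol19 b) (Nat.ble 19 c)) (Nat.ble 18 c)) (Nat.ble 17 c)) (Nat.ble 15 c)) (Nat.ble 10 c)

def rw0 : List ℕ := [0]
def rw1 : List ℕ := [2]
def rw2 : List ℕ := [4]
def rw3 : List ℕ := [6]
def rw4 : List ℕ := [8]
def rw5 : List ℕ := [10]
def rw6 : List ℕ := [12]
def rw7 : List ℕ := [14]
def rw8 : List ℕ := [16, 16]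
def rw9 : List ℕ := [18]
noncomputable def relW (i : ℕ) : List ℕ := Bool.rec (motive := fun _ => List ℕ) (Bool.rec (motive := fun _ => List ℕ) (Bool.rec (motive := fun _ => List ℕ) (rw0) (rw1) (Nat.ble 1 i)) (Bool.rec (motive := fun _ => List ℕ) (rw2) (Bool.rec (motive := fun _ => List ℕ) (rw3) (rw4) (Nat.ble 4 i)) (Nat.ble 3 i)) (Nat.ble 2 i)) (Bool.rec (motive := fun _ => List ℕ) (Bool.rec (motive := fun _ => List ℕ) (rw5) (rw6) (Nat.ble 6 i)) (Bool.rec (motive := fun _ => List ℕ) (rw7) (Bool.rec (motive := fun _ => List ℕ) (rw8) (rw9) (Nat.ble 9 i)) (Nat.ble 8 i)) (Nat.ble 7 i)) (Nat.ble 5 i)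
noncomputable def subW (i : ℕ) : List ℕ := []

noncomputable def data : Data where
  w := 11
  mask := 2047
  tw := 7
  tmask := 127
  hsh := 18
  lsh := 29
  ew := 25
  emask := 33554431
  mw := 37
  mmask := 137438953471
  jw := 32
  jmask := 4294967295
  bsh := 11
  bmask := 2047
  nc := 20
  fuel := 3
  E := eT
  J := jT
  Mg := mgT
  JM := jmT
  relW := relW
  nrot := 10
  subW := subW
  nsub := 0

def M : ℕ := 20
def n : ℕ := 2

def bases : List (List ℕ) := [
  [16, 16],
  [0],
  [2],
  [4],
  [6],
  [8],
  [10],
  [12],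
  [14],
  [18]
]

def rots : List (ℕ × ℕ) := [(1, 0), (2, 0), (3, 0), (4, 0), (5, 0), (6, 0), (7, 0), (8, 0), (0, 0), (9, 0)]

def subsL : List (List ℕ) := [

]

end Cfsg.Agent.Helper4.TC.Fi23Z9
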