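import Mathlib

set_option autoImplicit false

/-! A computable field with four elements and 4 × 4 matrices over it as plain data, so that
words in symplectic matrices can be evaluated by the kernel. -/

namespace Cfsg.Agent.Helper4.TC

/-- the field with four elements: `o = 0`, `i = 1`, `w = ω`, `v = ω² = ω + 1` -/
inductive F4 : Type
  | o | i | w | v
  deriving DecidableEq

namespace F4

instance : Fintype F4 := ⟨{F4.o, F4.i, F4.w, F4.v}, by intro x; cases x <;> decide⟩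

/-- addition table -/
def add : F4 → F4 → F4
  | o, x => x
  | x, o => x
  | i, i => o
  | i, w => v
  | i, v => w
  | w, i => v
  | w, w => o
  | w, v => i
  | v, i => w
  | v, w => i
  | v, v => o

/-- multiplication table -/
def mul : F4 → F4 → F4
  | o, _ => o
  | _, o => o
  | i, x => x
  | x, i => x
  | w, w => v
  | w, v => i
  | v, w => i
  | v, v => w

/-- inverse table -/
def inv : F4 → F4
  | o => o
  | i => i
  | w => v
  | v => w

instance : Add F4 := ⟨add⟩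
instance : Mul F4 := ⟨mul⟩
instance : Zero F4 := ⟨o⟩
instance : One F4 := ⟨i⟩
instance : Neg F4 := ⟨id⟩
instance : Inv F4 := ⟨inv⟩

instance : CommRing F4 where
  add_assoc := by decide
  zero_add := by decide
  add_zero := by decide
  add_comm := by decide
  neg_add_cancel := by decide
  left_distrib := by decide
  right_distrib := by decide
  zero_mul := by decide
  mul_zero := by decide
  mul_assoc := by decide
  one_mul := by decide
  mul_one := by decide
  mul_comm := by decide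
  nsmul := nsmulRec
  zsmul := zsmulRec

instance : Field F4 where
  exists_pair_ne := ⟨o, i, by decide⟩
  mul_inv_cancel := by decide
  inv_zero := rfl
  nnqsmul := _
  nnqsmul_def := fun _ _ => rfl
  qsmul := _
  qsmul_def := fun _ _ => rfl

theorem card_eq : Fintype.card F4 = 4 := rfl

theorem neg_eq (x : F4) : -x = x := rfl

end F4

/-- 4 × 4 matrices over `F4` as data -/
structure M4 where
  (a00 a01 a02 a03 a10 a11 a12 a13 a20 a21 a22 a23 a30 a31 a32 a33 : F4)
  deriving DecidableEq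

namespace M4

/-- the product -/
def mul (X Y : M4) : M4 :=
  ⟨X.a00 * Y.a00 + X.a01 * Y.a10 + X.a02 * Y.a20 + X.a03 * Y.a30,
    X.a00 * Y.a01 + X.a01 * Y.a11 + X.a02 * Y.a21 + X.a03 * Y.a31,
    X.a00 * Y.a02 + X.a01 * Y.a12 + X.a02 * Y.a22 + X.a03 * Y.a32,
    X.a00 * Y.a03 + X.a01 * Y.a13 + X.a02 * Y.a23 + X.a03 * Y.a33,
    X.a10 * Y.a00 + X.a11 * Y.a10 + X.a12 * Y.a20 + X.a13 * Y.a30,
    X.a10 * Y.a01 + X.a11 * Y.a11 + X.a12 * Y.a21 + X.a13 * Y.a31,
    X.a10 * Y.a02 + X.a11 * Y.a12 + X.a12 * Y.a22 + X.a13 * Y.a32,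
    X.a10 * Y.a03 + X.a11 * Y.a13 + X.a12 * Y.a23 + X.a13 * Y.a33,
    X.a20 * Y.a00 + X.a21 * Y.a10 + X.a22 * Y.a20 + X.a23 * Y.a30,
    X.a20 * Y.a01 + X.a21 * Y.a11 + X.a22 * Y.a21 + X.a23 * Y.a31,
    X.a20 * Y.a02 + X.a21 * Y.a12 + X.a22 * Y.a22 + X.a23 * Y.a32,
    X.a20 * Y.a03 + X.a21 * Y.a13 + X.a22 * Y.a23 + X.a23 * Y.a33,
    X.a30 * Y.a00 + X.a31 * Y.a10 + X.a32 * Y.a20 + X.a33 * Y.a30,
    X.a30 * Y.a01 + X.a31 * Y.a11 + X.a32 * Y.a21 + X.a33 * Y.a31,
    X.a30 * Y.a02 + X.a31 * Y.a12 + X.a32 * Y.a22 + X.a33 * Y.a32,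
    X.a30 * Y.a03 + X.a31 * Y.a13 + X.a32 * Y.a23 + X.a33 * Y.a33⟩

/-- the identity -/
def one : M4 := ⟨1, 0, 0, 0, 0, 1, 0, 0, 0, 0, 1, 0, 0, 0, 0, 1⟩

/-- the transpose -/
def tr (X : M4) : M4 := ⟨X.a00, X.a10, X.a20, X.a30, X.a01, X.a11, X.a21, X.a31, X.a02, X.a12, X.a22, X.a32, X.a03, X.a13, X.a23, X.a33⟩

/-- the matrix of the symplectic form -/
def jd : M4 := ⟨0, 0, 1, 0, 0, 0, 0, 1, 1, 0, 0, 0, 0, 1, 0, 0⟩

/-- the matrix in Mathlib's sense, on the index type `Fin 2 ⊕ Fin 2` -/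
def toMat (X : M4) : Matrix (Fin 2 ⊕ Fin 2) (Fin 2 ⊕ Fin 2) F4 :=
  Matrix.of (Sum.elim ![Sum.elim ![X.a00, X.a01] ![X.a02, X.a03], Sum.elim ![X.a10, X.a11] ![X.a12, X.a13]]
    ![Sum.elim ![X.a20, X.a21] ![X.a22, X.a23], Sum.elim ![X.a30, X.a31] ![X.a32, X.a33]])

theorem toMat_mul (X Y : M4) : (X.mul Y).toMat = X.toMat * Y.toMat := by
  ext i j
  rcases i with i | i <;> rcases j with j | j <;> fin_cases i <;> fin_cases j <;>
    simp [toMat, mul, Matrix.mul_apply, Fintype.sum_sum_type, Fin.sum_univ_two] <;> ring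

theorem toMat_one : one.toMat = 1 := by
  ext i j
  rcases i with i | i <;> rcases j with j | j <;> fin_cases i <;> fin_cases j <;>
    simp [toMat, one, Matrix.one_apply]

theorem toMat_tr (X : M4) : X.tr.toMat = X.toMat.transpose := by
  ext i j
  rcases i with i | i <;> rcases j with j | j <;> fin_cases i <;> fin_cases j <;>
    simp [toMat, tr, Matrix.transpose_apply]

theorem toMat_jd : jd.toMat = Matrix.J (Fin 2) F4 := by
  ext i j
  rcases i with i | i <;> rcases j with j | j <;> fin_cases i <;> fin_cases j <;>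
    simp [toMat, jd, Matrix.J, Matrix.fromBlocks, F4.neg_eq]

theorem mem_symplectic (X : M4) (h : (X.mul jd).mul X.tr = jd) :
    X.toMat ∈ Matrix.symplecticGroup (Fin 2) F4 := by
  rw [SymplecticGroup.mem_iff, ← toMat_jd, ← toMat_tr, ← toMat_mul, ← toMat_mul, h]

end M4

end Cfsg.Agent.Helper4.TC
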