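import Cfsg.Agent.Lib.Helper4.TC.Timed

set_option autoImplicit false
set_option maxRecDepth 100000
set_option linter.unusedVariables false

namespace Cfsg.Agent.Helper4.TC.U33PB28

open Cfsg.Agent.Helper4.TC

def e1_0 : ℕ := 0x210128000000003f0584b0808c2cf0188000000000000000000000210100011825000000001080784e100e939603500840360000000acbc198fa10321d8403001080c002100b9bc202e1b4e0520f080ac02100a80000000084028010809802101200420120f84044010807c0210080bc201c158403401080640210060042016000000000d402c019008804200300840040108038000000004200d00840100000001de100338c000900840080108004021000004200a
def j1_0 : ℕ := 0x20000000000000033000000020000018d00000000000000000000000000000002000001ae000000000000000200000002000001ad00000002000000000000004b00000195000000020000000100000002000000010000014d000000010000000200000000000000020000000100000001000000020000000100000001000000020000000100000001000000010000000200000001000000000000005d0000008d00000002000000020000000100000000000000010000000100000000000000010000004d00000001000000020000000200000001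

noncomputable def ecol1 (b : ℕ) : ℕ := e1_0
noncomputable def jcol1 (b : ℕ) : ℕ := j1_0

end Cfsg.Agent.Helper4.TC.U33PB28
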