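import Cfsg.Agent.Lib.Helper4.TC.Timed

set_option autoImplicit false
set_option maxRecDepth 100000
set_option linter.unusedVariables false

namespace Cfsg.Agent.Helper4.TC.U33PB28

open Cfsg.Agent.Helper4.TC

def e2_0 : ℕ := 0x84c416801a824254104600000003d14110023826394b04200000009ccc1a802681f00000000000000000000002881b005304e00920c001540c82c20342b8406617080c4ee1017802b816008405800b2054000000000000000840503a000600210128aad81a005d022010808002100f002f80e006101a00c603002100b803380b00690140108050461009804201200840201b0803c01fc0438c2009777d00ce70801c01ec008041800006d004010800de61002b9ba807
def j2_0 : ℕ := 0x300000003000000030000000000000003000000030000000300000000000000430000000300000000000000000000000000000003000000230000002b000000030000000100000001000000010000000100000003000000010000000300000000000000000000000100000000000000010000001b000000030000000100000001000000030000000300000003000000010000000300000003000000010000000100000001000000010000000100000003000000010000000300000001000000030000020400000003000000010000000100000036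

noncomputable def ecol2 (b : ℕ) : ℕ := e2_0
noncomputable def jcol2 (b : ℕ) : ℕ := j2_0

end Cfsg.Agent.Helper4.TC.U33PB28
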