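import Cfsg.Agent.Lib.Helper4.TC.Timed

set_option autoImplicit false
set_option maxRecDepth 100000
set_option linter.unusedVariables false

namespace Cfsg.Agent.Helper4.TC.U33PB28

open Cfsg.Agent.Helper4.TC

def e3_0 : ℕ := 0x84c8168042024258404600000003e10110024026398404200000009cc01a804201f00000000000000000000004201b005204e008c0c002100c829a0342b4006616880c4ed28178042016004c0580108054000000000000000500503ab40600150128a8001a008402200ac08001600f004200e008401a010803001700b804200b008401400bc050458009803101200660201ad003c02100438bf009778400ce6f801c0210008037800008400400d800de5e8028041004
def j3_0 : ℕ := 0x16d00000002000000020000000000000002000001350000000200000000000001ad00000002000000000000000000000000000000020000013d0000018500000002000001a50000019d0000018d0000017d000000020000016500000002000000000000000000000145000000c50000012d000000000000000200000105000000f5000000020000000200000002000000bd0000000200000002000000a50000009d00000095000000850000007d000000020000004d000000020000003d000000020000003e000000020000001d0000002d00000025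

noncomputable def ecol3 (b : ℕ) : ℕ := e3_0
noncomputable def jcol3 (b : ℕ) : ℕ := j3_0

end Cfsg.Agent.Helper4.TC.U33PB28
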