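import Cfsg.Agent.Lib.Helper4.TC.U33PB28T0
import Cfsg.Agent.Lib.Helper4.TC.U33PB28T1
import Cfsg.Agent.Lib.Helper4.TC.U33PB28T2
import Cfsg.Agent.Lib.Helper4.TC.U33PB28T3

set_option autoImplicit false
set_option maxRecDepth 100000
set_option linter.unusedVariables false

namespace Cfsg.Agent.Helper4.TC.U33PB28

open Cfsg.Agent.Helper4.TC

def m_0 : ℕ := 0x4a4e0b008120282402046560a000118f8270204416078041100010020427605804101b817000404207c080f8002c0103c0e078000f0481e0003a36080080d80028000360009c040d0000b0203200094040c80024000304a06c040b878150002e72080080b000200102c0007c080a8001e0002a2605c040a0b812000280006c04098a80e010240006400090e814020220005c04080001600020000540807000140201a220280806000120001800044080580010020141a03404050000e010100003400018000c000040002c04000000a02010e20200403800080200ce60100402bb80002002f2004040180004020040000c0000800020000000004000000000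
def jm_0 : ℕ := 0x330b000000a1000000a9000023030000221300000000000000110000210b00003513000000000000310b0000310300002d0b00000000000000000000000000000000000000000000331300001d0b00002f130000000000000000000000000000290b0000180b0000000000001813000000000000230b0000000000000000000000000000000000001a030000000000000000000000000000131300000000000000000000000000000000000000000000070b000000000000061b0000050b000000110000000000000000000000000000000000000000

noncomputable def mgT (b : ℕ) : ℕ := m_0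
noncomputable def jmT (b : ℕ) : ℕ := jm_0
noncomputable def eT (c b : ℕ) : ℕ := Bool.rec (motive := fun _ => ℕ) (Bool.rec (motive := fun _ => ℕ) (ecol0 b) (ecol1 b) (Nat.ble 1 c)) (Bool.rec (motive := fun _ => ℕ) (ecol2 b) (ecol3 b) (Nat.ble 3 c)) (Nat.ble 2 c)
noncomputable def jT (c b : ℕ) : ℕ := Bool.rec (motive := fun _ => ℕ) (Bool.rec (motive := fun _ => ℕ) (jcol0 b) (jcol1 b) (Nat.ble 1 c)) (Bool.rec (motive := fun _ => ℕ) (jcol2 b) (jcol3 b) (Nat.ble 3 c)) (Nat.ble 2 c)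

def rw0 : List ℕ := [2, 2]
def rw1 : List ℕ := [0, 2, 1, 2, 0, 0, 2, 1, 2, 0, 0, 2, 1, 2, 0, 0, 2, 1, 2, 0, 2]
def rw2 : List ℕ := [0, 0, 0, 0, 0, 0]
def rw3 : List ℕ := [2, 0, 2, 0, 2, 0, 2, 0, 2, 0, 2, 0, 2, 0]
def rw4 : List ℕ := [2, 1, 1, 2, 1, 1, 2, 1, 1, 2, 0, 0, 2, 0, 0, 2, 0, 0]
def rw5 : List ℕ := [2, 0, 0, 2, 0, 0, 2, 0, 0, 2, 1, 1, 2, 1, 1, 2, 1, 1]
def rw6 : List ℕ := [1, 2, 0, 0, 2, 1, 2, 0, 2, 0, 2, 1, 2, 0, 0, 2, 1, 2, 0, 0, 2]
def rw7 : List ℕ := [0, 2, 0, 2, 1, 2, 0, 0, 2, 1, 2, 0, 0, 2, 1, 2, 0, 0, 2, 1, 2]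
def rw8 : List ℕ := [2, 1, 2, 0, 0, 2, 1, 2, 0, 0, 2, 1, 2, 0, 2, 0, 2, 1, 2, 0, 0]
def rw9 : List ℕ := [1, 2, 1, 1, 2, 1, 1, 2, 0, 0, 2, 0, 0, 2, 0, 0, 2, 1]
def rw10 : List ℕ := [0, 2, 0, 2, 0, 2, 0, 2, 0, 2, 0, 2, 0, 2]
noncomputable def relW (i : ℕ) : List ℕ := Bool.rec (motive := fun _ => List ℕ) (Bool.rec (motive := fun _ => List ℕ) (Bool.rec (motive := fun _ => List ℕ) (rw0) (rw1) (Nat.ble 1 i)) (Bool.rec (motive := fun _ => List ℕ) (rw2) (Bool.rec (motive := fun _ => List ℕ) (rw3) (rw4) (Nat.ble 4 i)) (Nat.ble 3 i)) (Nat.ble 2 i)) (Bool.rec (motive := fun _ => List ℕ) (Bool.rec (motive := fun _ => List ℕ) (rw5) (Bool.rec (motive := fun _ => List ℕ) (rw6) (rw7) (Nat.ble 7 i)) (Nat.ble 6 i)) (Bool.rec (motive := fun _ => List ℕ) (rw8) (Bool.rec (motive := fun _ => List ℕ) (rw9) (rw10) (Nat.ble 10 i)) (Nat.ble 9 i)) (Nat.ble 8 i)) (Nat.ble 5 i)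
def sw0 : List ℕ := [0, 0, 2, 1, 2]
def sw1 : List ℕ := [0, 2, 1, 2, 1, 2, 0, 2]
noncomputable def subW (i : ℕ) : List ℕ := Bool.rec (motive := fun _ => List ℕ) (sw0) (sw1) (Nat.ble 1 i)

noncomputable def data : Data where
  w := 11
  mask := 2047
  tw := 8
  tmask := 255
  hsh := 19
  lsh := 30
  ew := 27
  emask := 134217727
  mw := 38
  mmask := 274877906943
  jw := 32
  jmask := 4294967295
  bsh := 11
  bmask := 2047
  nc := 4
  fuel := 3
  E := eT
  J := jT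
  Mg := mgT
  JM := jmT
  relW := relW
  nrot := 11
  subW := subW
  nsub := 2

def M : ℕ := 54
def n : ℕ := 28

/-- the relators, as lists of letter codes in application order -/
def bases : List (List ℕ) := [
  [2, 2],
  [0, 0, 0, 0, 0, 0],
  [0, 2, 0, 2, 0, 2, 0, 2, 0, 2, 0, 2, 0, 2],
  [0, 0, 2, 0, 0, 2, 0, 0, 2, 1, 1, 2, 1, 1, 2, 1, 1, 2],
  [0, 0, 2, 1, 2, 0, 0, 2, 1, 2, 0, 0, 2, 1, 2, 0, 2, 0, 2, 1, 2]
]

/-- the rotations used: (relator, amount) -/
def rots : List (ℕ × ℕ) := [(0, 0), (4, 17), (1, 0), (2, 1), (3, 8), (3, 17), (4, 8), (4, 15), (4, 2), (3, 10), (2, 0)]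

/-- the subgroup generators, as lists of letter codes in application order -/
def subsL : List (List ℕ) := [
  [0, 0, 2, 1, 2],
  [0, 2, 1, 2, 1, 2, 0, 2]
]

end Cfsg.Agent.Helper4.TC.U33PB28
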