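import Cfsg.Agent.Lib.Helper4.TC.G22Chk
import Cfsg.Agent.Lib.Helper4.TC.U33Iso
import Cfsg.Agent.Lib.Helper4.TC.IndexTwo
import Cfsg.Agent.Lib.Helper4.TC.Cover
import Cfsg.Agent.Lib.Helper8.ChevFld1
import Cfsg.Agent.S1059

set_option autoImplicit false
set_option maxRecDepth 100000
set_option maxHeartbeats 0
set_option linter.unusedVariables false
set_option linter.style.haveILetI false

/-! The commutator subgroup of the Chevalley group `G₂(2)` is isomorphic to `PSU₃(3)`. -/

namespace Cfsg.Agent.Helper4.TC.G22Main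

open Cfsg.Agent.Helper4.TC Cfsg.Agent.Helper4.TC.G22Mat Cfsg.Lie

abbrev G2 : Subgroup (GL Idx (ZMod 2)) := Cfsg.Lie.chevG2.group (ZMod 2)

theorem hneA : (D .a).toMatE eps ≠ 1 := by decide +kernel

theorem card_g2 : Nat.card G2 = 12096 := by
  have h := Cfsg.Agent.S1059.result (F := ZMod 2) (q := 2) (ZMod.card 2)
  exact h.trans (by norm_num)

/-- the embedding of the presented group -/
theorem exists_theta : ∃ θ : PresentedGroup U33PS.Rset →* G2, Function.Injective θ := by
  haveI : IsSimpleGroup (PresentedGroup U33PS.Rset) := U33PS.main.1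
  obtain ⟨φ, hφ⟩ := exists_hom_gl eps D D' hinvD hinvD' U33PS.Rset U33PB28.dec U33PB28.bases
    U33PB28.hR1 G22Chk.hchk
  have hmem : φ.range ≤ G2 := by
    refine range_le_of_gens φ G2 fun x => ?_
    rw [hφ]
    exact glG_mem x
  let θ : PresentedGroup U33PS.Rset →* G2 := φ.codRestrict G2 fun p => hmem ⟨p, rfl⟩
  have hθ : θ (PresentedGroup.of .a) ≠ 1 := by
    intro h
    apply hneA
    have h1 : φ (PresentedGroup.of .a) = 1 := congrArg Subtype.val h
    rw [hφ] at h1
    exact congrArg Units.val h1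
  refine ⟨θ, ?_⟩
  rw [← MonoidHom.ker_eq_bot_iff]
  rcases IsSimpleGroup.eq_bot_or_eq_top_of_normal θ.ker inferInstance with h | h
  · exact h
  · exfalso
    apply hθ
    have : PresentedGroup.of .a ∈ θ.ker := by rw [h]; trivial
    exact this

theorem iso_zmod2 : Nonempty (↥(commutator ↥G2) ≃* PresentedGroup U33PS.Rset) := by
  haveI : IsSimpleGroup (PresentedGroup U33PS.Rset) := U33PS.main.1
  haveI : Finite (PresentedGroup U33PS.Rset) := U33PS.card_top.1
  obtain ⟨θ, hθ⟩ := exists_theta
  haveI : Finite ↥G2 := Nat.finite_of_card_ne_zero (by rw [card_g2]; norm_num)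
  have hna : ∃ a b : PresentedGroup U33PS.Rset, a * b ≠ b * a :=
    not_comm_of_simple_of_not_prime (by rw [U33PS.main.2]; norm_num)
  have hperf : commutator (PresentedGroup U33PS.Rset) = ⊤ := commutator_eq_top_of_simple hna
  have hcr : Nat.card θ.range = 6048 := by
    rw [← U33PS.main.2]
    exact Nat.card_congr (MonoidHom.ofInjective hθ).symm.toEquiv
  have hidx : θ.range.index = 2 := by
    have h1 := θ.range.card_mul_index
    rw [hcr, card_g2] at h1
    omega
  have hc := commutator_eq_range_of_index_two θ hperf hidx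
  exact ⟨(MulEquiv.subgroupCongr hc).trans (MonoidHom.ofInjective hθ).symm⟩

/-- base change of the Chevalley group along an isomorphism of fields -/
theorem nonempty_group_equiv {F F' : Type*} [Field F] [Field F'] (e : F ≃+* F') :
    Nonempty (↥(chevG2.group F) ≃* ↥(chevG2.group F')) := by
  let f : ↥(chevG2.group F) →* ↥(chevG2.group F') :=
    ((Cfsg.Agent.Lib.Helper8.Chev.bc chevG2 e.toRingHom).comp (chevG2.group F).subtype).codRestrict
      (chevG2.group F') fun g => Cfsg.Agent.Lib.Helper8.Chev.bc_mem_group e.toRingHom g.2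
  let f' : ↥(chevG2.group F') →* ↥(chevG2.group F) :=
    ((Cfsg.Agent.Lib.Helper8.Chev.bc chevG2 e.symm.toRingHom).comp (chevG2.group F').subtype).codRestrict
      (chevG2.group F) fun g => Cfsg.Agent.Lib.Helper8.Chev.bc_mem_group e.symm.toRingHom g.2
  refine ⟨MulEquiv.ofBijective f ⟨?_, ?_⟩⟩
  · intro g g' h
    apply Subtype.ext
    apply Cfsg.Agent.Lib.Helper8.Chev.bc_injective (D := chevG2) e.toRingHom
    exact congrArg Subtype.val h
  · intro g
    refine ⟨f' g, ?_⟩
    apply Subtype.ext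
    apply Units.ext
    show ((((g : GL chevG2.Idx F') : Matrix chevG2.Idx chevG2.Idx F').map e.symm.toRingHom).map
      e.toRingHom) = ((g : GL chevG2.Idx F') : Matrix chevG2.Idx chevG2.Idx F')
    ext i j
    simp

theorem main {F K : Type*} [Field F] [Fintype F] [Field K] [Fintype K]
    (hF : Fintype.card F = 2) (hK : Fintype.card K = 9) :
    Nonempty (↥(commutator ↥(chevG2.group F)) ≃* Cfsg.PSU 3 K 3) := by
  have eF : F ≃+* ZMod 2 := (ZMod.ringEquivOfPrime F Nat.prime_two hF).symm
  obtain ⟨e0⟩ := nonempty_group_equiv eF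
  obtain ⟨e1⟩ := nonempty_commutator_equiv e0
  obtain ⟨e2⟩ := iso_zmod2
  obtain ⟨e3⟩ := U33Iso.iso_su_field hK
  exact ⟨(e1.trans e2).trans e3⟩

end Cfsg.Agent.Helper4.TC.G22Main
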