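import Cfsg.Agent.Lib.Helper4.TC.G24PJ2Model
import Cfsg.Agent.Lib.Helper4.TC.G24PJ2Data

set_option autoImplicit false
set_option maxRecDepth 100000
set_option linter.unusedVariables false
set_option Elab.async false

namespace Cfsg.Agent.Helper4.TC.G24PJ2

open Cfsg.Agent.Helper4.TC

theorem sub0_ok : sub0OK mdata subsL = true := by decide +kernel
theorem relc_ok : wordsLettersOK 12 bases = true := by decide +kernel
theorem subc_ok : wordsLettersOK 12 subsL = true := by decide +kernel

end Cfsg.Agent.Helper4.TC.G24PJ2
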