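import Cfsg.Prelude.Def_SporCoxeter

set_option autoImplicit false

/-! A presentation of a simple group of order 251596800 on six involutions (the relators of the
presented Suzuki group which do not involve its last generator). -/

namespace Cfsg.Agent.Helper4.Pres

namespace G24

inductive Gen
  | a
  | b
  | c
  | d
  | e
  | f
  deriving DecidableEq

abbrev a : FreeGroup Gen := FreeGroup.of Gen.a
abbrev b : FreeGroup Gen := FreeGroup.of Gen.b
abbrev c : FreeGroup Gen := FreeGroup.of Gen.c
abbrev d : FreeGroup Gen := FreeGroup.of Gen.d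
abbrev e : FreeGroup Gen := FreeGroup.of Gen.e
abbrev f : FreeGroup Gen := FreeGroup.of Gen.f

def edges : List (Gen × ℕ × Gen) :=
  [(.a, 5, .b), (.b, 3, .c), (.c, 8, .d), (.d, 3, .e), (.b, 3, .f)]

def extra : List (FreeGroup Gen) := [
  a * ((c * d) ^ 4)⁻¹,
  (a * b * c * f) ^ 5,
  ((b * c * d * c * d) ^ 5 * e) ^ 3 ]

end G24

end Cfsg.Agent.Helper4.Pres
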