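import Cfsg.Agent.Lib.Helper4.TC.G24Mat
import Cfsg.Agent.Lib.Helper4.TC.G24PJ2Glue
import Cfsg.Agent.Lib.Helper4.TC.MatChain

set_option autoImplicit false
set_option maxRecDepth 100000
set_option maxHeartbeats 0

namespace Cfsg.Agent.Helper4.TC.G24Chk

open Cfsg.Agent.Helper4.TC Cfsg.Agent.Helper4.TC.G24Mat Cfsg.Agent.Lib.Helper6.FFour

def q0_1 : MatD 14 K4 := ⟨[.i, .o, .i, .o, .o, .o, .o, .o, .o, .o, .o, .o, .o, .o, .o, .i, .o, .o, .o, .o, .o, .o, .o, .o, .o, .o, .o, .o, .o, .o, .i, .o, .o, .o, .o, .o, .o, .o, .o, .o, .o, .o, .o, .o, .o, .i, .o, .o, .o, .o, .o, .o, .o, .o, .o, .o, .o, .o, .o, .o, .i, .o, .o, .o, .o, .o, .o, .o, .o, .o, .o, .o, .o, .o, .o, .i, .o, .o, .o, .o, .o, .o, .o, .o, .o, .o, .o, .o, .o, .o, .i, .o, .o, .o, .o, .o, .o, .o, .o, .o, .o, .o, .o, .o, .o, .i, .o, .o, .o, .o, .o, .o, .o,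 .o, .o, .i, .o, .o, .o, .o, .i, .o, .o, .o, .o, .o, .o, .o, .o, .o, .o, .o, .o, .o, .o, .i, .o, .o, .o, .o, .o, .o, .o, .o, .i, .o, .o, .o, .o, .o, .i, .o, .o, .o, .o, .o, .o, .o, .o, .i, .o, .o, .o, .o, .o, .i, .o, .o, .o, .o, .o, .o, .o, .o, .o, .i, .o, .o, .o, .o, .i, .o, .o, .i, .i, .o, .o, .o, .o, .o, .o, .o, .o, .o, .o, .i]⟩
theorem s0_1 : (MatD.one : MatD 14 K4).mul (dlM D D (G24PJ2.dec 0)) = q0_1 := by decide +kernel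
theorem s0_2 : (q0_1 : MatD 14 K4).mul (dlM D D (G24PJ2.dec 0)) = MatD.one := by decide +kernel
theorem r0 : MatD.evM (dlM D D) (([0, 0] : List ℕ).map G24PJ2.dec) = MatD.one := by
  refine evM_step s0_2 ?_
  refine evM_step s0_1 ?_
  rfl

def q4_1 : MatD 14 K4 := ⟨[.i, .o, .i, .o, .o, .o, .o, .o, .o, .o, .o, .o, .o, .o, .o, .i, .o, .o, .o, .o, .o, .o, .o, .o, .o, .o, .o, .o, .o, .o, .i, .o, .o, .o, .o, .o, .o, .o, .o, .o, .o, .o, .o, .o, .o, .i, .o, .o, .o, .o, .o, .o, .o, .o, .o, .o, .o, .o, .o, .o, .i, .o, .o, .o, .o, .o, .o, .o, .o, .o, .o, .o, .o, .o, .o, .i, .o, .o, .o, .o, .o, .o, .o, .o, .o, .o, .o, .o, .o, .o, .i, .o, .o, .o, .o, .o, .o, .o, .o, .o, .o, .o, .o, .o, .o, .i, .o, .o, .o, .o, .o, .o, .o, .o, .o, .i, .o, .o, .o, .o, .i, .o, .o, .o, .o, .o, .o, .o, .o, .o, .o, .o, .o, .o, .o, .i, .o, .o,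 .o, .o, .o, .o, .o, .o, .i, .o, .o, .o, .o, .o, .i, .o, .o, .o, .o, .o, .o, .o, .o, .i, .o, .o, .o, .o, .o, .i, .o, .o, .o, .o, .o, .o, .o, .o, .o, .i, .o, .o, .o, .o, .i, .o, .o, .i, .i, .o, .o, .o, .o, .o, .o, .o, .o, .o, .o, .i]⟩
def q4_2 : MatD 14 K4 := ⟨[.i, .o, .o, .o, .o, .w, .v, .o, .o, .o, .o, .o, .o, .o, .o, .i, .w, .v, .i, .w, .o, .o, .o, .o, .o, .o, .o, .o, .o, .o, .i, .o, .o, .o, .o, .o, .o, .o, .o, .o, .o, .o, .o, .o, .o, .i, .o, .o, .o, .o, .o, .o, .o, .o, .o, .o, .o, .o, .w, .v, .i, .o, .o, .o, .o, .o, .o, .o, .o, .o, .o, .o, .i, .w, .o, .i, .o, .o, .o, .o, .o, .o, .o, .o, .o, .o, .v, .i, .o, .o, .i, .o, .o, .o, .o, .o, .o, .o, .o, .o, .v, .i, .w, .v, .o, .i, .o, .o, .o, .o, .o, .o, .o, .o, .i, .w, .v, .o, .w, .o, .i, .o, .o, .o, .o, .o, .o, .v, .o, .o, .o, .i, .w, .w, .o, .i, .o, .o, .o, .o,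 .w, .w, .o, .o, .o, .v, .i, .o, .v, .o, .i, .o, .o, .o, .i, .o, .o, .o, .o, .o, .o, .v, .w, .o, .o, .i, .o, .o, .v, .o, .o, .o, .o, .o, .o, .w, .i, .i, .w, .v, .i, .o, .w, .o, .o, .o, .o, .o, .o, .i, .v, .v, .i, .w, .o, .i]⟩
def q4_3 : MatD 14 K4 := ⟨[.i, .o, .i, .o, .o, .w, .v, .o, .o, .o, .o, .o, .o, .o, .o, .i, .w, .v, .i, .w, .o, .o, .o, .o, .o, .o, .o, .o, .o, .o, .i, .o, .o, .o, .o, .o, .o, .o, .o, .o, .o, .o, .o, .o, .o, .i, .o, .o, .o, .o, .o, .o, .o, .o, .o, .o, .o, .o, .w, .v, .i, .o, .o, .o, .o, .o, .o, .o, .o, .o, .o, .o, .i, .w, .o, .i, .o, .o, .o, .o, .o, .o, .o, .o, .o, .o, .v, .i, .o, .o, .i, .o, .o, .o, .o, .o, .o, .o, .o, .o, .v, .i, .w, .v, .o, .i, .o, .o, .o, .o, .o, .o, .o, .o, .i, .v, .v, .o, .w, .o, .i, .o, .o, .o, .o, .o, .o, .v, .o, .o, .o, .i, .w, .w, .o, .i, .o, .o, .o, .o, .w, .w,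 .w, .v, .i, .v, .i, .o, .v, .o, .i, .o, .o, .o, .i, .o, .i, .w, .o, .i, .o, .v, .w, .o, .o, .i, .o, .o, .v, .o, .v, .i, .w, .v, .o, .v, .i, .i, .w, .v, .i, .o, .w, .i, .v, .v, .i, .w, .o, .i, .v, .v, .i, .w, .o, .i]⟩
theorem s4_1 : (MatD.one : MatD 14 K4).mul (dlM D D (G24PJ2.dec 0)) = q4_1 := by decide +kernel
theorem s4_2 : (q4_1 : MatD 14 K4).mul (dlM D D (G24PJ2.dec 8)) = q4_2 := by decide +kernel
theorem s4_3 : (q4_2 : MatD 14 K4).mul (dlM D D (G24PJ2.dec 0)) = q4_3 := by decide +kernel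
theorem s4_4 : (q4_3 : MatD 14 K4).mul (dlM D D (G24PJ2.dec 8)) = MatD.one := by decide +kernel
theorem r4 : MatD.evM (dlM D D) (([8, 0, 8, 0] : List ℕ).map G24PJ2.dec) = MatD.one := by
  refine evM_step s4_4 ?_
  refine evM_step s4_3 ?_
  refine evM_step s4_2 ?_
  refine evM_step s4_1 ?_
  rfl

def q10_1 : MatD 14 K4 := ⟨[.i, .o, .w, .i, .o, .w, .v, .o, .o, .w, .i, .o, .w, .v, .v, .i, .v, .v, .i, .i, .i, .o, .i, .v, .v, .i, .i, .i, .i, .v, .w, .i, .o, .v, .w, .w, .i, .i, .v, .i, .i, .w, .i, .w, .v, .i, .i, .v, .v, .o, .o, .v, .w, .v, .v, .i, .i, .o, .i, .i, .w, .v, .i, .o, .v, .i, .i, .v, .v, .i, .v, .i, .o, .i, .w, .i, .i, .w, .w, .w, .i, .i, .w, .v, .v, .w, .v, .o, .v, .v, .w, .o, .w, .v, .w, .i, .v, .i, .i, .o, .w, .w, .v, .o, .i, .i, .v, .w, .w, .v, .o, .i, .o, .o, .o, .w, .o, .o, .w, .o, .i, .o, .w, .o,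 .o, .w, .i, .v, .i, .v, .o, .i, .w, .w, .i, .w, .i, .i, .v, .w, .i, .w, .v, .w, .i, .v, .i, .o, .o, .v, .i, .v, .v, .v, .i, .o, .v, .w, .v, .i, .o, .o, .v, .v, .w, .w, .i, .o, .v, .i, .w, .i, .w, .w, .v, .w, .w, .o, .i, .i, .i, .i, .v, .w, .v, .w, .v, .v, .i, .o, .w, .v, .o, .i, .v, .w]⟩
def q10_2 : MatD 14 K4 := ⟨[.v, .o, .w, .w, .i, .i, .w, .i, .v, .w, .i, .o, .w, .v, .w, .v, .v, .i, .v, .v, .v, .o, .v, .i, .o, .o, .i, .i, .i, .v, .w, .i, .o, .v, .w, .w, .i, .i, .v, .i, .i, .w, .i, .w, .v, .i, .i, .v, .v, .o, .o, .v, .w, .v, .v, .i, .o, .o, .o, .o, .i, .o, .o, .v, .i, .i, .i, .v, .v, .i, .o, .i, .v, .w, .o, .v, .w, .o, .v, .w, .i, .i, .w, .v, .i, .w, .i, .w, .w, .w, .o, .i, .i, .v, .w, .i, .v, .i, .v, .v, .w, .i, .o, .v, .w, .i, .o, .i, .v, .i, .o, .i, .o, .i, .w, .v, .v, .w, .w, .w, .i, .i, .o, .v, .o, .w,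 .v, .w, .i, .v, .i, .w, .i, .w, .w, .o, .w, .o, .v, .w, .v, .i, .w, .v, .o, .w, .w, .w, .v, .w, .v, .o, .v, .v, .v, .i, .v, .v, .i, .o, .i, .v, .o, .w, .o, .i, .i, .o, .i, .w, .o, .v, .v, .v, .v, .v, .i, .w, .w, .o, .i, .i, .v, .w, .w, .o, .v, .w, .i, .w, .w, .i, .v, .o, .v, .w]⟩
def q10_3 : MatD 14 K4 := ⟨[.i, .o, .i, .o, .o, .w, .v, .o, .o, .o, .o, .o, .o, .o, .o, .i, .w, .v, .i, .w, .o, .o, .o, .o, .o, .o, .o, .o, .o, .o, .i, .o, .o, .o, .o, .o, .o, .o, .o, .o, .o, .o, .o, .o, .o, .i, .o, .o, .o, .o, .o, .o, .o, .o, .o, .o, .o, .o, .w, .v, .i, .o, .o, .o, .o, .o, .o, .o, .o, .o, .o, .o, .i, .w, .o, .i, .o, .o, .o, .o, .o, .o, .o, .o, .o, .o, .v, .i, .o, .o, .i, .o, .o, .o, .o, .o, .o, .o, .o, .o, .v, .i, .w, .v, .o, .i, .o, .o, .o, .o, .o, .o, .o, .o, .i, .v, .v, .o, .w, .o, .i, .o, .o, .o, .o, .o, .o, .v,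 .o, .o, .o, .i, .w, .w, .o, .i, .o, .o, .o, .o, .w, .w, .w, .v, .i, .v, .i, .o, .v, .o, .i, .o, .o, .o, .i, .o, .i, .w, .o, .i, .o, .v, .w, .o, .o, .i, .o, .o, .v, .o, .v, .i, .w, .v, .o, .v, .i, .i, .w, .v, .i, .o, .w, .i, .v, .v, .i, .w, .o, .i, .v, .v, .i, .w, .o, .i]⟩
theorem s10_1 : (MatD.one : MatD 14 K4).mul (dlM D D (G24PJ2.dec 2)) = q10_1 := by decide +kernel
theorem s10_2 : (q10_1 : MatD 14 K4).mul (dlM D D (G24PJ2.dec 8)) = q10_2 := by decide +kernel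
theorem s10_3 : (q10_2 : MatD 14 K4).mul (dlM D D (G24PJ2.dec 2)) = q10_3 := by decide +kernel
theorem s10_4 : (q10_3 : MatD 14 K4).mul (dlM D D (G24PJ2.dec 8)) = MatD.one := by decide +kernel
theorem r10 : MatD.evM (dlM D D) (([8, 2, 8, 2] : List ℕ).map G24PJ2.dec) = MatD.one := by
  refine evM_step s10_4 ?_
  refine evM_step s10_3 ?_
  refine evM_step s10_2 ?_
  refine evM_step s10_1 ?_
  rfl

def q13_1 : MatD 14 K4 := ⟨[.i, .o, .i, .i, .o, .o, .o, .o, .o, .o, .o, .o, .o, .o, .o, .i, .o, .i, .o, .o, .o, .o, .o, .o, .o, .o, .o, .o, .o, .o, .i, .o, .o, .o, .o, .o, .o, .o, .o, .o, .o, .o, .o, .o, .o, .i, .o, .o, .o, .o, .o, .o, .o, .o, .o, .o, .o, .o, .o, .o, .i, .o, .o, .o, .o, .o, .o, .o, .o, .o, .o, .o, .o, .o, .o, .i, .o, .o, .o, .o, .o, .o, .o, .o, .o, .o, .o, .o, .o, .o, .i, .o, .o, .o, .o, .o, .o, .o,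 .o, .o, .i, .o, .o, .o, .o, .i, .o, .o, .o, .o, .o, .o, .o, .o, .o, .i, .o, .o, .o, .o, .i, .o, .o, .o, .o, .o, .o, .o, .o, .o, .i, .o, .o, .o, .o, .i, .o, .o, .o, .o, .o, .o, .o, .o, .i, .o, .o, .o, .o, .o, .i, .o, .o, .o, .o, .o, .o, .o, .o, .i, .i, .o, .o, .o, .o, .i, .o, .o, .i, .i, .i, .i, .o, .o, .o, .i, .o, .o, .o, .o, .i, .o, .o, .i, .i, .i, .o, .o, .o, .o, .i, .o, .o, .o, .o, .i]⟩
def q13_2 : MatD 14 K4 := ⟨[.i, .i, .v, .i, .i, .w, .w, .w, .i, .o, .o, .w, .o, .o, .w, .v, .o, .w, .o, .w, .w, .o, .i, .o, .i, .w, .w, .o, .i, .v, .w, .i, .o, .v, .w, .w, .i, .i, .v, .i, .i, .w, .i, .w, .v, .i, .i, .v, .v, .o, .o, .v, .w, .v, .v, .i, .i, .o, .i, .i, .w, .v, .i, .o, .v, .i, .i, .v, .v, .i, .v, .i, .o, .i, .w, .i, .i, .w, .w, .w, .i, .i, .w, .v, .v, .w, .v, .o, .v, .v, .w, .o, .w, .v, .w, .i, .v, .i, .o, .v,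 .o, .v, .v, .v, .v, .v, .w, .v, .i, .w, .i, .v, .i, .w, .v, .v, .i, .v, .i, .o, .i, .v, .o, .v, .v, .v, .o, .v, .o, .w, .w, .w, .v, .w, .w, .v, .o, .w, .o, .v, .o, .w, .w, .v, .v, .o, .o, .o, .v, .w, .o, .o, .o, .w, .i, .v, .o, .v, .w, .v, .v, .w, .v, .w, .i, .w, .o, .w, .o, .i, .o, .i, .i, .i, .i, .i, .i, .i, .o, .i, .o, .i, .o, .w, .i, .v, .v, .w, .v, .w, .v, .w, .o, .w, .o, .w]⟩
def q13_3 : MatD 14 K4 := ⟨[.i, .i, .o, .o, .i, .o, .o, .w, .i, .o, .o, .w, .o, .o, .o, .i, .o, .o, .i, .o, .o, .w, .i, .o, .i, .w, .w, .o, .o, .o, .w, .i, .w, .w, .v, .v, .v, .i, .v, .i, .i, .w, .w, .o, .o, .o, .o, .o, .o, .v, .i, .v, .w, .v, .v, .i, .w, .w, .w, .i, .w, .o, .w, .v, .w, .i, .i, .v, .v, .i, .i, .o, .o, .o, .i, .o, .o, .o, .i, .w, .i, .i, .w, .v, .o, .o, .w, .i, .w, .w, .v, .v, .v, .v, .w, .i, .v, .i, .i, .i, .i, .o,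 .i, .i, .i, .w, .i, .v, .i, .w, .i, .v, .w, .w, .w, .i, .w, .o, .w, .v, .w, .v, .o, .v, .v, .v, .o, .o, .i, .o, .i, .o, .i, .w, .i, .v, .o, .w, .o, .v, .o, .o, .o, .o, .i, .o, .o, .o, .i, .w, .o, .o, .o, .w, .i, .i, .i, .o, .i, .i, .i, .w, .i, .w, .i, .w, .o, .w, .o, .o, .o, .o, .o, .o, .o, .i, .o, .i, .o, .i, .o, .i, .o, .o, .i, .o, .i, .o, .i, .w, .i, .w, .o, .w, .o, .w]⟩
def q13_4 : MatD 14 K4 := ⟨[.v, .i, .w, .i, .v, .w, .v, .w, .v, .w, .i, .o, .w, .v, .w, .i, .o, .o, .i, .o, .o, .i, .o, .v, .v, .i, .i, .i, .o, .o, .w, .i, .w, .w, .v, .v, .v, .i, .v, .i, .i, .w, .w, .o, .o, .o, .o, .o, .o, .v, .i, .v, .w, .v, .v, .i, .w, .w, .w, .i, .w, .o, .w, .v, .w, .i, .i, .v, .v, .i, .i, .o, .o, .o, .i, .o, .o, .o, .i, .w, .i, .i, .w, .v, .o, .o, .w, .i, .w, .w, .v, .v, .v, .v, .w, .i, .v, .i, .i, .i, .v, .i, .v, .v,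 .w, .i, .w, .w, .w, .v, .o, .i, .o, .w, .w, .i, .w, .o, .w, .o, .v, .o, .w, .o, .o, .w, .w, .w, .v, .i, .v, .o, .v, .i, .v, .w, .i, .i, .v, .w, .w, .w, .w, .i, .v, .o, .w, .v, .v, .v, .i, .v, .v, .v, .o, .i, .v, .i, .w, .v, .w, .i, .v, .v, .w, .w, .i, .o, .w, .i, .v, .i, .v, .v, .w, .v, .v, .o, .i, .i, .i, .i, .o, .v, .i, .o, .o, .w, .o, .v, .o, .v, .o, .i, .v, .w]⟩
def q13_5 : MatD 14 K4 := ⟨[.i, .o, .w, .i, .o, .w, .v, .o, .o, .w, .i, .o, .w, .v, .v, .i, .v, .v, .i, .i, .i, .o, .i, .v, .v, .i, .i, .i, .i, .v, .w, .i, .o, .v, .w, .w, .i, .i, .v, .i, .i, .w, .i, .w, .v, .i, .i, .v, .v, .o, .o, .v, .w, .v, .v, .i, .i, .o, .i, .i, .w, .v, .i, .o, .v, .i, .i, .v, .v, .i, .v, .i, .o, .i, .w, .i, .i, .w, .w, .w, .i, .i, .w, .v, .v, .w, .v, .o, .v, .v, .w, .o, .w, .v, .w, .i, .v, .i, .i, .o, .w, .w, .v, .o, .i, .i,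 .v, .w, .w, .v, .o, .i, .o, .o, .o, .w, .o, .o, .w, .o, .i, .o, .w, .o, .o, .w, .i, .v, .i, .v, .o, .i, .w, .w, .i, .w, .i, .i, .v, .w, .i, .w, .v, .w, .i, .v, .i, .o, .o, .v, .i, .v, .v, .v, .i, .o, .v, .w, .v, .i, .o, .o, .v, .v, .w, .w, .i, .o, .v, .i, .w, .i, .w, .w, .v, .w, .w, .o, .i, .i, .i, .i, .v, .w, .v, .w, .v, .v, .i, .o, .w, .v, .o, .i, .v, .w]⟩
theorem s13_1 : (MatD.one : MatD 14 K4).mul (dlM D D (G24PJ2.dec 4)) = q13_1 := by decide +kernel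
theorem s13_2 : (q13_1 : MatD 14 K4).mul (dlM D D (G24PJ2.dec 2)) = q13_2 := by decide +kernel
theorem s13_3 : (q13_2 : MatD 14 K4).mul (dlM D D (G24PJ2.dec 4)) = q13_3 := by decide +kernel
theorem s13_4 : (q13_3 : MatD 14 K4).mul (dlM D D (G24PJ2.dec 2)) = q13_4 := by decide +kernel
theorem s13_5 : (q13_4 : MatD 14 K4).mul (dlM D D (G24PJ2.dec 4)) = q13_5 := by decide +kernel
theorem s13_6 : (q13_5 : MatD 14 K4).mul (dlM D D (G24PJ2.dec 2)) = MatD.one := by decide +kernel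
theorem r13 : MatD.evM (dlM D D) (([2, 4, 2, 4, 2, 4] : List ℕ).map G24PJ2.dec) = MatD.one := by
  refine evM_step s13_6 ?_
  refine evM_step s13_5 ?_
  refine evM_step s13_4 ?_
  refine evM_step s13_3 ?_
  refine evM_step s13_2 ?_
  refine evM_step s13_1 ?_
  rfl

def q17_1 : MatD 14 K4 := ⟨[.i, .o, .i, .i, .o, .o, .o, .o, .o, .o, .o, .o, .o, .o, .o, .i, .o, .i, .o, .o, .o, .o, .o, .o, .o, .o, .o, .o, .o, .o, .i, .o, .o, .o, .o, .o, .o, .o, .o, .o, .o, .o, .o, .o, .o, .i, .o, .o, .o, .o, .o, .o, .o, .o, .o, .o, .o, .o, .o, .o, .i, .o, .o, .o, .o, .o, .o, .o, .o, .o, .o, .o, .o, .o, .o, .i, .o, .o, .o, .o, .o, .o, .o, .o, .o, .o, .o, .o, .o, .o, .i, .o, .o, .o, .o, .o, .o, .o, .o, .o, .i, .o, .o, .o, .o, .i, .o, .o, .o, .o, .o, .o, .o, .o, .o, .i, .o, .o, .o, .o, .i, .o, .o, .o, .o, .o, .o, .o, .o, .o, .i,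 .o, .o, .o, .o, .i, .o, .o, .o, .o, .o, .o, .o, .o, .i, .o, .o, .o, .o, .o, .i, .o, .o, .o, .o, .o, .o, .o, .o, .i, .i, .o, .o, .o, .o, .i, .o, .o, .i, .i, .i, .i, .o, .o, .o, .i, .o, .o, .o, .o, .i, .o, .o, .i, .i, .i, .o, .o, .o, .o, .i, .o, .o, .o, .o, .i]⟩
def q17_2 : MatD 14 K4 := ⟨[.i, .o, .v, .i, .o, .o, .o, .o, .o, .o, .o, .o, .o, .o, .o, .i, .o, .i, .o, .o, .o, .o, .o, .o, .o, .o, .o, .o, .o, .o, .i, .o, .o, .o, .o, .o, .o, .o, .o, .o, .o, .o, .o, .o, .o, .i, .o, .o, .o, .o, .o, .o, .o, .o, .o, .o, .o, .o, .o, .o, .i, .o, .o, .o, .o, .o, .o, .o, .o, .o, .o, .o, .o, .o, .o, .i, .o, .o, .o, .o, .o, .o, .o, .o, .o, .o, .o, .o, .o, .o, .i, .o, .o, .o, .o, .o, .o, .o, .o, .o, .i, .o, .o, .o, .o, .i, .o, .o, .o, .o, .o, .o, .o, .o, .o, .v, .o, .o, .o, .o, .i, .o, .o, .o, .o, .o, .o, .o, .o, .o, .i, .o, .o,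 .o, .o, .i, .o, .o, .o, .o, .o, .o, .o, .o, .v, .o, .o, .o, .o, .o, .i, .o, .o, .o, .o, .o, .o, .o, .o, .v, .i, .o, .o, .o, .o, .i, .o, .o, .i, .i, .v, .i, .o, .o, .o, .v, .o, .o, .o, .o, .i, .o, .o, .v, .w, .v, .o, .o, .o, .o, .i, .o, .o, .o, .o, .i]⟩
def q17_3 : MatD 14 K4 := ⟨[.i, .o, .w, .o, .o, .o, .o, .o, .o, .o, .o, .o, .o, .o, .o, .i, .o, .o, .o, .o, .o, .o, .o, .o, .o, .o, .o, .o, .o, .o, .i, .o, .o, .o, .o, .o, .o, .o, .o, .o, .o, .o, .o, .o, .o, .i, .o, .o, .o, .o, .o, .o, .o, .o, .o, .o, .o, .o, .o, .o, .i, .o, .o, .o, .o, .o, .o, .o, .o, .o, .o, .o, .o, .o, .o, .i, .o, .o, .o, .o, .o, .o, .o, .o, .o, .o, .o, .o, .o, .o, .i, .o, .o, .o, .o, .o, .o, .o, .o, .o, .o, .o, .o, .o, .o, .i, .o, .o, .o, .o, .o, .o, .o, .o, .o, .w, .o, .o, .o, .o, .i, .o, .o, .o, .o, .o, .o, .o, .o, .o, .o, .o, .o, .o, .o,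 .i, .o, .o, .o, .o, .o, .o, .o, .o, .w, .o, .o, .o, .o, .o, .i, .o, .o, .o, .o, .o, .o, .o, .o, .w, .o, .o, .o, .o, .o, .i, .o, .o, .o, .o, .o, .o, .o, .o, .o, .w, .o, .o, .o, .o, .i, .o, .o, .w, .v, .o, .o, .o, .o, .o, .o, .o, .o, .o, .o, .i]⟩
theorem s17_1 : (MatD.one : MatD 14 K4).mul (dlM D D (G24PJ2.dec 4)) = q17_1 := by decide +kernel
theorem s17_2 : (q17_1 : MatD 14 K4).mul (dlM D D (G24PJ2.dec 10)) = q17_2 := by decide +kernel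
theorem s17_3 : (q17_2 : MatD 14 K4).mul (dlM D D (G24PJ2.dec 4)) = q17_3 := by decide +kernel
theorem s17_4 : (q17_3 : MatD 14 K4).mul (dlM D D (G24PJ2.dec 10)) = MatD.one := by decide +kernel
theorem r17 : MatD.evM (dlM D D) (([10, 4, 10, 4] : List ℕ).map G24PJ2.dec) = MatD.one := by
  refine evM_step s17_4 ?_
  refine evM_step s17_3 ?_
  refine evM_step s17_2 ?_
  refine evM_step s17_1 ?_
  rfl

def q21_1 : MatD 14 K4 := ⟨[.i, .o, .v, .o, .o, .w, .o, .v, .o, .w, .o, .o, .o, .o, .o, .i, .w, .o, .i, .w, .o, .v, .o, .o, .o, .o, .o, .o, .o, .o, .i, .o, .o, .o, .o, .o, .o, .o, .o, .o, .o, .o, .o, .o, .v, .i, .w, .v, .o, .i, .o, .o, .o, .o, .o, .o, .o, .o, .w, .o, .i, .o, .o, .v, .o, .o, .o, .o, .o, .o, .o, .o, .i, .o, .o, .i, .o, .w, .o, .o, .o, .o, .o, .o, .o, .w, .o, .i, .w, .o, .i, .o, .o, .v, .o, .o, .o,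 .o, .o, .o, .o, .o, .o, .o, .o, .i, .o, .o, .o, .o, .o, .o, .v, .v, .v, .v, .w, .v, .w, .i, .i, .o, .w, .v, .i, .o, .o, .o, .i, .o, .o, .o, .o, .w, .o, .i, .o, .o, .o, .o, .w, .w, .w, .i, .i, .o, .o, .v, .o, .o, .i, .o, .v, .o, .i, .o, .i, .o, .i, .i, .o, .w, .o, .w, .o, .i, .w, .o, .o, .o, .i, .o, .o, .i, .o, .v, .o, .i, .o, .o, .i, .o, .w, .v, .v, .i, .i, .w, .i, .v, .o, .o, .i, .w, .v, .i]⟩
theorem s21_1 : (MatD.one : MatD 14 K4).mul (dlM D D (G24PJ2.dec 6)) = q21_1 := by decide +kernel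
theorem s21_2 : (q21_1 : MatD 14 K4).mul (dlM D D (G24PJ2.dec 6)) = MatD.one := by decide +kernel
theorem r21 : MatD.evM (dlM D D) (([6, 6] : List ℕ).map G24PJ2.dec) = MatD.one := by
  refine evM_step s21_2 ?_
  refine evM_step s21_1 ?_
  rfl

def q23_1 : MatD 14 K4 := ⟨[.i, .o, .v, .o, .o, .w, .o, .v, .o, .w, .o, .o, .o, .o, .o, .i, .w, .o, .i, .w, .o, .v, .o, .o, .o, .o, .o, .o, .o, .o, .i, .o, .o, .o, .o, .o, .o, .o, .o, .o, .o, .o, .o, .o, .v, .i, .w, .v, .o, .i, .o, .o, .o, .o, .o, .o, .o, .o, .w, .o, .i, .o, .o, .v, .o, .o, .o, .o, .o, .o, .o, .o, .i, .o, .o, .i, .o, .w, .o, .o, .o, .o, .o, .o, .o, .w, .o, .i, .w, .o, .i, .o, .o, .v, .o, .o, .o, .o, .o, .o, .o, .o, .o, .o, .o, .i, .o, .o, .o, .o, .o, .o, .v, .v, .v, .v, .w, .v, .w, .i, .i, .o, .w, .v, .i, .o, .o, .o, .i, .o, .o, .o, .o, .w, .o, .i, .o,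 .o, .o, .o, .w, .w, .w, .i, .i, .o, .o, .v, .o, .o, .i, .o, .v, .o, .i, .o, .i, .o, .i, .i, .o, .w, .o, .w, .o, .i, .w, .o, .o, .o, .i, .o, .o, .i, .o, .v, .o, .i, .o, .o, .i, .o, .w, .v, .v, .i, .i, .w, .i, .v, .o, .o, .i, .w, .v, .i]⟩
def q23_2 : MatD 14 K4 := ⟨[.i, .o, .i, .o, .o, .w, .o, .v, .o, .w, .o, .o, .o, .o, .o, .i, .w, .o, .i, .w, .o, .v, .o, .o, .o, .o, .o, .o, .o, .o, .i, .o, .o, .o, .o, .o, .o, .o, .o, .o, .o, .o, .o, .o, .v, .i, .w, .v, .o, .i, .o, .o, .o, .o, .o, .o, .o, .o, .w, .o, .i, .o, .o, .v, .o, .o, .o, .o, .o, .o, .o, .o, .i, .o, .o, .i, .o, .w, .o, .o, .o, .o, .o, .o, .o, .w, .o, .i, .w, .o, .i, .o, .o, .v, .o, .o, .o, .o, .o, .o, .o, .o, .o, .o, .o, .i, .o, .o, .o, .o, .o, .o, .v, .v, .w, .i, .i, .w, .w, .v, .i, .o, .w, .v, .i, .o, .o, .o, .i, .o, .o, .o, .o, .w, .o, .i, .o, .o, .o,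 .o, .w, .w, .i, .i, .v, .o, .o, .w, .o, .o, .i, .o, .v, .o, .i, .o, .v, .o, .i, .v, .o, .i, .o, .w, .o, .i, .w, .o, .o, .o, .i, .o, .o, .i, .o, .i, .o, .i, .o, .o, .i, .o, .w, .i, .v, .i, .v, .i, .i, .w, .o, .o, .i, .w, .v, .i]⟩
def q23_3 : MatD 14 K4 := ⟨[.i, .o, .w, .o, .o, .o, .o, .o, .o, .o, .o, .o, .o, .o, .o, .i, .o, .o, .o, .o, .o, .o, .o, .o, .o, .o, .o, .o, .o, .o, .i, .o, .o, .o, .o, .o, .o, .o, .o, .o, .o, .o, .o, .o, .o, .i, .o, .o, .o, .o, .o, .o, .o, .o, .o, .o, .o, .o, .o, .o, .i, .o, .o, .o, .o, .o, .o, .o, .o, .o, .o, .o, .o, .o, .o, .i, .o, .o, .o, .o, .o, .o, .o, .o, .o, .o, .o, .o, .o, .o, .i, .o, .o, .o, .o, .o, .o, .o, .o, .o, .o, .o, .o, .o, .o, .i, .o, .o, .o, .o, .o, .o, .o, .o, .o, .w, .o, .o, .o, .o, .i, .o, .o, .o, .o, .o, .o, .o, .o, .o, .o, .o, .o, .o, .o, .i, .o, .o, .o, .o, .o,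 .o, .o, .o, .w, .o, .o, .o, .o, .o, .i, .o, .o, .o, .o, .o, .o, .o, .o, .w, .o, .o, .o, .o, .o, .i, .o, .o, .o, .o, .o, .o, .o, .o, .o, .w, .o, .o, .o, .o, .i, .o, .o, .w, .v, .o, .o, .o, .o, .o, .o, .o, .o, .o, .o, .i]⟩
theorem s23_1 : (MatD.one : MatD 14 K4).mul (dlM D D (G24PJ2.dec 6)) = q23_1 := by decide +kernel
theorem s23_2 : (q23_1 : MatD 14 K4).mul (dlM D D (G24PJ2.dec 10)) = q23_2 := by decide +kernel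
theorem s23_3 : (q23_2 : MatD 14 K4).mul (dlM D D (G24PJ2.dec 6)) = q23_3 := by decide +kernel
theorem s23_4 : (q23_3 : MatD 14 K4).mul (dlM D D (G24PJ2.dec 10)) = MatD.one := by decide +kernel
theorem r23 : MatD.evM (dlM D D) (([10, 6, 10, 6] : List ℕ).map G24PJ2.dec) = MatD.one := by
  refine evM_step s23_4 ?_
  refine evM_step s23_3 ?_
  refine evM_step s23_2 ?_
  refine evM_step s23_1 ?_
  rfl

def q26_1 : MatD 14 K4 := ⟨[.i, .o, .i, .o, .o, .w, .v, .o, .o, .o, .o, .o, .o, .o, .o, .i, .w, .v, .i, .w, .o, .o, .o, .o, .o, .o, .o, .o, .o, .o, .i, .o, .o, .o, .o, .o, .o, .o, .o, .o, .o, .o, .o, .o, .o, .i, .o, .o, .o, .o, .o, .o, .o, .o, .o, .o, .o, .o, .w, .v, .i, .o, .o, .o, .o, .o, .o, .o, .o, .o, .o, .o, .i, .w, .o, .i, .o, .o, .o, .o, .o, .o, .o, .o, .o, .o, .v, .i, .o, .o, .i, .o, .o, .o, .o, .o, .o,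 .o, .o, .o, .v, .i, .w, .v, .o, .i, .o, .o, .o, .o, .o, .o, .o, .o, .i, .v, .v, .o, .w, .o, .i, .o, .o, .o, .o, .o, .o, .v, .o, .o, .o, .i, .w, .w, .o, .i, .o, .o, .o, .o, .w, .w, .w, .v, .i, .v, .i, .o, .v, .o, .i, .o, .o, .o, .i, .o, .i, .w, .o, .i, .o, .v, .w, .o, .o, .i, .o, .o, .v, .o, .v, .i, .w, .v, .o, .v, .i, .i, .w, .v, .i, .o, .w, .i, .v, .v, .i, .w, .o, .i, .v, .v, .i, .w, .o, .i]⟩
def q26_2 : MatD 14 K4 := ⟨[.i, .o, .o, .i, .o, .w, .v, .o, .o, .o, .o, .o, .o, .o, .o, .i, .w, .w, .i, .w, .o, .o, .o, .o, .o, .o, .o, .o, .o, .o, .i, .o, .o, .o, .o, .o, .o, .o, .o, .o, .o, .o, .o, .o, .o, .i, .o, .o, .o, .o, .o, .o, .o, .o, .o, .o, .o, .o, .w, .v, .i, .o, .o, .o, .o, .o, .o, .o, .o, .o, .o, .o, .i, .w, .o, .i, .o, .o, .o, .o, .o, .o, .o, .o, .o, .o, .v, .i, .o, .o, .i, .o, .o, .o, .o, .o, .o, .o, .o,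 .o, .w, .i, .w, .v, .o, .i, .o, .o, .o, .o, .o, .o, .o, .o, .i, .w, .v, .o, .w, .o, .i, .o, .o, .o, .o, .o, .o, .v, .w, .v, .i, .i, .w, .w, .o, .i, .o, .o, .o, .o, .w, .w, .o, .o, .o, .v, .i, .o, .v, .o, .i, .o, .o, .o, .i, .o, .v, .i, .o, .o, .i, .v, .w, .o, .o, .i, .o, .o, .w, .i, .w, .w, .i, .o, .v, .w, .i, .i, .w, .v, .i, .o, .w, .o, .i, .w, .v, .o, .w, .i, .w, .v, .i, .w, .o, .i]⟩
def q26_3 : MatD 14 K4 := ⟨[.i, .o, .i, .i, .o, .o, .o, .o, .o, .o, .o, .o, .o, .o, .o, .i, .o, .i, .o, .o, .o, .o, .o, .o, .o, .o, .o, .o, .o, .o, .i, .o, .o, .o, .o, .o, .o, .o, .o, .o, .o, .o, .o, .o, .o, .i, .o, .o, .o, .o, .o, .o, .o, .o, .o, .o, .o, .o, .o, .o, .i, .o, .o, .o, .o, .o, .o, .o, .o, .o, .o, .o, .o, .o, .o, .i, .o, .o, .o, .o, .o, .o, .o, .o, .o, .o, .o, .o, .o, .o, .i, .o, .o, .o, .o, .o, .o, .o, .o, .o, .i,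 .o, .o, .o, .o, .i, .o, .o, .o, .o, .o, .o, .o, .o, .o, .i, .o, .o, .o, .o, .i, .o, .o, .o, .o, .o, .o, .o, .o, .o, .i, .o, .o, .o, .o, .i, .o, .o, .o, .o, .o, .o, .o, .o, .i, .o, .o, .o, .o, .o, .i, .o, .o, .o, .o, .o, .o, .o, .o, .i, .i, .o, .o, .o, .o, .i, .o, .o, .i, .i, .i, .i, .o, .o, .o, .i, .o, .o, .o, .o, .i, .o, .o, .i, .i, .i, .o, .o, .o, .o, .i, .o, .o, .o, .o, .i]⟩
theorem s26_1 : (MatD.one : MatD 14 K4).mul (dlM D D (G24PJ2.dec 8)) = q26_1 := by decide +kernel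
theorem s26_2 : (q26_1 : MatD 14 K4).mul (dlM D D (G24PJ2.dec 4)) = q26_2 := by decide +kernel
theorem s26_3 : (q26_2 : MatD 14 K4).mul (dlM D D (G24PJ2.dec 8)) = q26_3 := by decide +kernel
theorem s26_4 : (q26_3 : MatD 14 K4).mul (dlM D D (G24PJ2.dec 4)) = MatD.one := by decide +kernel
theorem r26 : MatD.evM (dlM D D) (([4, 8, 4, 8] : List ℕ).map G24PJ2.dec) = MatD.one := by
  refine evM_step s26_4 ?_
  refine evM_step s26_3 ?_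
  refine evM_step s26_2 ?_
  refine evM_step s26_1 ?_
  rfl

def q31_1 : MatD 14 K4 := ⟨[.i, .o, .w, .o, .o, .o, .o, .o, .o, .o, .o, .o, .o, .o, .o, .i, .o, .o, .o, .o, .o, .o, .o, .o, .o, .o, .o, .o, .o, .o, .i, .o, .o, .o, .o, .o, .o, .o, .o, .o, .o, .o, .o, .o, .o, .i, .o, .o, .o, .o, .o, .o, .o, .o, .o, .o, .o, .o, .o, .o, .i, .o, .o, .o, .o, .o, .o, .o, .o, .o, .o, .o, .o, .o, .o, .i, .o, .o, .o, .o, .o, .o, .o, .o, .o, .o, .o, .o, .o, .o, .i, .o, .o, .o, .o, .o, .o, .o, .o, .o, .o, .o, .o, .o, .o, .i, .o, .o, .o, .o, .o, .o, .o, .o, .o, .w, .o, .o, .o, .o, .i, .o, .o, .o, .o, .o, .o, .o, .o, .o, .o, .o, .o, .o, .o, .i, .o, .o, .o, .o, .o, .o, .o, .o, .w, .o, .o, .o, .o, .o, .i, .o, .o, .o, .o, .o, .o, .o, .o, .w, .o, .o, .o, .o, .o, .i, .o, .o, .o, .o, .o, .o, .o, .o, .o, .w, .o, .o, .o, .o, .i, .o, .o,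 .w, .v, .o, .o, .o, .o, .o, .o, .o, .o, .o, .o, .i]⟩
def q31_2 : MatD 14 K4 := ⟨[.v, .i, .i, .v, .o, .v, .o, .v, .w, .o, .o, .w, .o, .o, .v, .i, .v, .v, .i, .i, .i, .o, .i, .v, .v, .i, .i, .i, .i, .v, .w, .i, .o, .v, .w, .w, .i, .i, .v, .i, .i, .w, .i, .w, .v, .i, .i, .v, .v, .o, .o, .v, .w, .v, .v, .i, .i, .o, .i, .i, .w, .v, .i, .o, .v, .i, .i, .v, .v, .i, .v, .i, .o, .i, .w, .i, .i, .w, .w, .w, .i, .i, .w, .v, .v, .w, .v, .o, .v, .v, .w, .o, .w, .v, .w, .i, .v, .i, .i, .o, .w, .w, .v, .o, .i, .i, .v, .w, .w, .v, .o, .i, .w, .v, .i, .o, .w, .i, .v, .o, .i, .i, .i, .i, .i, .o, .i, .v, .i, .v, .o, .i, .w, .w, .i, .w, .i, .i, .v, .w, .v, .w, .i, .o, .w, .w, .v, .o, .i, .i, .v, .w, .w, .i, .o, .w, .v, .o, .o, .v, .w, .v, .o, .o, .o, .o, .w, .i, .i, .i, .i, .w, .v, .w, .i, .o, .v, .v, .w, .o, .i, .v, .i, .w, .v,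 .o, .i, .v, .w, .i, .v, .i, .v, .o, .w, .i]⟩
def q31_3 : MatD 14 K4 := ⟨[.v, .i, .o, .o, .o, .o, .o, .v, .w, .o, .o, .w, .o, .o, .v, .v, .i, .i, .o, .v, .i, .w, .i, .v, .v, .i, .i, .i, .i, .o, .i, .v, .i, .i, .w, .o, .i, .i, .v, .i, .i, .w, .i, .o, .w, .i, .w, .w, .v, .i, .o, .v, .w, .v, .v, .i, .i, .w, .o, .o, .o, .w, .i, .i, .v, .i, .i, .v, .v, .i, .v, .o, .v, .w, .o, .v, .i, .i, .w, .w, .i, .i, .w, .v, .v, .o, .i, .v, .o, .i, .w, .i, .w, .v, .w, .i, .v, .i, .i, .w, .v, .v, .o, .i, .i, .i, .v, .w, .w, .v, .o, .i, .w, .v, .w, .w, .o, .v, .v, .w, .i, .i, .i, .i, .i, .o, .i, .o, .w, .i, .w, .v, .w, .v, .i, .w, .i, .i, .v, .w, .v, .o, .v, .w, .v, .i, .v, .v, .i, .i, .v, .w, .w, .i, .o, .o, .o, .o, .o, .v, .w, .o, .o, .o, .o, .o, .w, .i, .i, .o, .i, .v, .o, .w, .i, .w, .v, .v, .w, .o, .i, .v, .i, .o, .w, .i, .o,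 .v, .w, .w, .v, .i, .v, .o, .w, .i]⟩
def q31_4 : MatD 14 K4 := ⟨[.i, .i, .w, .i, .w, .w, .v, .v, .o, .w, .i, .o, .w, .v, .v, .v, .i, .i, .o, .v, .i, .w, .i, .v, .v, .i, .i, .i, .i, .o, .i, .v, .i, .i, .w, .o, .i, .i, .v, .i, .i, .w, .i, .o, .w, .i, .w, .w, .v, .i, .o, .v, .w, .v, .v, .i, .i, .w, .o, .o, .o, .w, .i, .i, .v, .i, .i, .v, .v, .i, .v, .o, .v, .w, .o, .v, .i, .i, .w, .w, .i, .i, .w, .v, .v, .o, .i, .v, .o, .i, .w, .i, .w, .v, .w, .i, .v, .i, .i, .w, .v, .v, .o, .i, .i, .i, .v, .w, .w, .v, .o, .i, .o, .v, .i, .o, .v, .o, .w, .o, .i, .o, .w, .o, .o, .w, .i, .o, .w, .i, .w, .v, .w, .v, .i, .w, .i, .i, .v, .w, .i, .v, .v, .w, .v, .w, .i, .i, .o, .v, .i, .v, .v, .v, .i, .o, .i, .v, .o, .w, .o, .w, .v, .v, .w, .w, .i, .o, .v, .v, .o, .w, .o, .o, .v, .o, .w, .o, .i, .i, .i, .i, .v, .i, .v, .i, .v, .i, .i,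 .i, .w, .v, .o, .i, .v, .w]⟩
def q31_5 : MatD 14 K4 := ⟨[.i, .o, .w, .i, .o, .w, .v, .o, .o, .w, .i, .o, .w, .v, .v, .i, .v, .v, .i, .i, .i, .o, .i, .v, .v, .i, .i, .i, .i, .v, .w, .i, .o, .v, .w, .w, .i, .i, .v, .i, .i, .w, .i, .w, .v, .i, .i, .v, .v, .o, .o, .v, .w, .v, .v, .i, .i, .o, .i, .i, .w, .v, .i, .o, .v, .i, .i, .v, .v, .i, .v, .i, .o, .i, .w, .i, .i, .w, .w, .w, .i, .i, .w, .v, .v, .w, .v, .o, .v, .v, .w, .o, .w, .v, .w, .i, .v, .i, .i, .o, .w, .w, .v, .o, .i, .i, .v, .w, .w, .v, .o, .i, .o, .o, .o, .w, .o, .o, .w, .o, .i, .o, .w, .o, .o, .w, .i, .v, .i, .v, .o, .i, .w, .w, .i, .w, .i, .i, .v, .w, .i, .w, .v, .w, .i, .v, .i, .o, .o, .v, .i, .v, .v, .v, .i, .o, .v, .w, .v, .i, .o, .o, .v, .v, .w, .w, .i, .o, .v, .i, .w, .i, .w, .w, .v, .w, .w, .o, .i, .i, .i, .i, .v, .w, .v, .w, .v, .v, .i, .o, .w,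 .v, .o, .i, .v, .w]⟩
theorem s31_1 : (MatD.one : MatD 14 K4).mul (dlM D D (G24PJ2.dec 10)) = q31_1 := by decide +kernel
theorem s31_2 : (q31_1 : MatD 14 K4).mul (dlM D D (G24PJ2.dec 2)) = q31_2 := by decide +kernel
theorem s31_3 : (q31_2 : MatD 14 K4).mul (dlM D D (G24PJ2.dec 10)) = q31_3 := by decide +kernel
theorem s31_4 : (q31_3 : MatD 14 K4).mul (dlM D D (G24PJ2.dec 2)) = q31_4 := by decide +kernel
theorem s31_5 : (q31_4 : MatD 14 K4).mul (dlM D D (G24PJ2.dec 10)) = q31_5 := by decide +kernel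
theorem s31_6 : (q31_5 : MatD 14 K4).mul (dlM D D (G24PJ2.dec 2)) = MatD.one := by decide +kernel
theorem r31 : MatD.evM (dlM D D) (([2, 10, 2, 10, 2, 10] : List ℕ).map G24PJ2.dec) = MatD.one := by
  refine evM_step s31_6 ?_
  refine evM_step s31_5 ?_
  refine evM_step s31_4 ?_
  refine evM_step s31_3 ?_
  refine evM_step s31_2 ?_
  refine evM_step s31_1 ?_
  rfl

def q32_1 : MatD 14 K4 := ⟨[.i, .o, .w, .o, .o, .o, .o, .o, .o, .o, .o, .o, .o, .o, .o, .i, .o, .o, .o, .o, .o, .o, .o, .o, .o, .o, .o, .o, .o, .o, .i, .o, .o, .o, .o, .o, .o, .o, .o, .o, .o, .o, .o, .o, .o, .i, .o, .o, .o, .o, .o, .o, .o, .o, .o, .o, .o, .o, .o, .o, .i, .o, .o, .o, .o, .o, .o, .o, .o, .o, .o, .o, .o, .o, .o, .i, .o, .o, .o, .o, .o, .o, .o, .o, .o, .o, .o, .o, .o, .o, .i, .o, .o, .o, .o, .o, .o, .o, .o, .o, .o, .o, .o, .o, .o, .i,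 .o, .o, .o, .o, .o, .o, .o, .o, .o, .w, .o, .o, .o, .o, .i, .o, .o, .o, .o, .o, .o, .o, .o, .o, .o, .o, .o, .o, .o, .i, .o, .o, .o, .o, .o, .o, .o, .o, .w, .o, .o, .o, .o, .o, .i, .o, .o, .o, .o, .o, .o, .o, .o, .w, .o, .o, .o, .o, .o, .i, .o, .o, .o, .o, .o, .o, .o, .o, .o, .w, .o, .o, .o, .o, .i, .o, .o, .w, .v, .o, .o, .o, .o, .o, .o, .o, .o, .o, .o, .i]⟩
def q32_2 : MatD 14 K4 := ⟨[.i, .o, .v, .i, .o, .o, .o, .o, .o, .o, .o, .o, .o, .o, .o, .i, .o, .i, .o, .o, .o, .o, .o, .o, .o, .o, .o, .o, .o, .o, .i, .o, .o, .o, .o, .o, .o, .o, .o, .o, .o, .o, .o, .o, .o, .i, .o, .o, .o, .o, .o, .o, .o, .o, .o, .o, .o, .o, .o, .o, .i, .o, .o, .o, .o, .o, .o, .o, .o, .o, .o, .o, .o, .o, .o, .i, .o, .o, .o, .o, .o, .o, .o, .o, .o, .o, .o, .o, .o, .o, .i, .o, .o, .o, .o, .o, .o, .o, .o, .o, .i, .o, .o, .o, .o, .i, .o, .o,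 .o, .o, .o, .o, .o, .o, .o, .v, .o, .o, .o, .o, .i, .o, .o, .o, .o, .o, .o, .o, .o, .o, .i, .o, .o, .o, .o, .i, .o, .o, .o, .o, .o, .o, .o, .o, .v, .o, .o, .o, .o, .o, .i, .o, .o, .o, .o, .o, .o, .o, .o, .v, .i, .o, .o, .o, .o, .i, .o, .o, .i, .i, .v, .i, .o, .o, .o, .v, .o, .o, .o, .o, .i, .o, .o, .v, .w, .v, .o, .o, .o, .o, .i, .o, .o, .o, .o, .i]⟩
def q32_3 : MatD 14 K4 := ⟨[.i, .o, .i, .i, .o, .o, .o, .o, .o, .o, .o, .o, .o, .o, .o, .i, .o, .i, .o, .o, .o, .o, .o, .o, .o, .o, .o, .o, .o, .o, .i, .o, .o, .o, .o, .o, .o, .o, .o, .o, .o, .o, .o, .o, .o, .i, .o, .o, .o, .o, .o, .o, .o, .o, .o, .o, .o, .o, .o, .o, .i, .o, .o, .o, .o, .o, .o, .o, .o, .o, .o, .o, .o, .o, .o, .i, .o, .o, .o, .o, .o, .o, .o, .o, .o, .o, .o, .o, .o, .o, .i, .o, .o, .o, .o, .o, .o, .o, .o, .o, .i, .o, .o, .o, .o, .i, .o, .o, .o, .o,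 .o, .o, .o, .o, .o, .i, .o, .o, .o, .o, .i, .o, .o, .o, .o, .o, .o, .o, .o, .o, .i, .o, .o, .o, .o, .i, .o, .o, .o, .o, .o, .o, .o, .o, .i, .o, .o, .o, .o, .o, .i, .o, .o, .o, .o, .o, .o, .o, .o, .i, .i, .o, .o, .o, .o, .i, .o, .o, .i, .i, .i, .i, .o, .o, .o, .i, .o, .o, .o, .o, .i, .o, .o, .i, .i, .i, .o, .o, .o, .o, .i, .o, .o, .o, .o, .i]⟩
theorem s32_1 : (MatD.one : MatD 14 K4).mul (dlM D D (G24PJ2.dec 10)) = q32_1 := by decide +kernel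
theorem s32_2 : (q32_1 : MatD 14 K4).mul (dlM D D (G24PJ2.dec 4)) = q32_2 := by decide +kernel
theorem s32_3 : (q32_2 : MatD 14 K4).mul (dlM D D (G24PJ2.dec 10)) = q32_3 := by decide +kernel
theorem s32_4 : (q32_3 : MatD 14 K4).mul (dlM D D (G24PJ2.dec 4)) = MatD.one := by decide +kernel
theorem r32 : MatD.evM (dlM D D) (([4, 10, 4, 10] : List ℕ).map G24PJ2.dec) = MatD.one := by
  refine evM_step s32_4 ?_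
  refine evM_step s32_3 ?_
  refine evM_step s32_2 ?_
  refine evM_step s32_1 ?_
  rfl

def q36_1 : MatD 14 K4 := ⟨[.i, .o, .i, .o, .o, .o, .o, .o, .o, .o, .o, .o, .o, .o, .o, .i, .o, .o, .o, .o, .o, .o, .o, .o, .o, .o, .o, .o, .o, .o, .i, .o, .o, .o, .o, .o, .o, .o, .o, .o, .o, .o, .o, .o, .o, .i, .o, .o, .o, .o, .o, .o, .o, .o, .o, .o, .o, .o, .o, .o, .i, .o, .o, .o, .o, .o, .o, .o, .o, .o, .o, .o, .o, .o, .o, .i, .o, .o, .o, .o, .o, .o, .o, .o, .o, .o, .o, .o, .o, .o, .i, .o, .o, .o, .o, .o, .o, .o, .o, .o, .o, .o, .o, .o, .o, .i, .o, .o, .o, .o, .o, .o, .o, .o, .o, .i, .o, .o, .o, .o, .i, .o, .o, .o, .o, .o, .o, .o, .o, .o, .o, .o, .o, .o, .o, .i, .o, .o, .o, .o, .o, .o, .o, .o, .i, .o, .o, .o, .o, .o, .i, .o, .o, .o, .o, .o, .o, .o, .o, .i, .o, .o, .o, .o, .o, .i, .o, .o, .o, .o, .o, .o, .o, .o, .o, .i,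 .o, .o, .o, .o, .i, .o, .o, .i, .i, .o, .o, .o, .o, .o, .o, .o, .o, .o, .o, .i]⟩
def q36_2 : MatD 14 K4 := ⟨[.i, .o, .w, .o, .o, .w, .o, .v, .o, .w, .o, .o, .o, .o, .o, .i, .w, .o, .i, .w, .o, .v, .o, .o, .o, .o, .o, .o, .o, .o, .i, .o, .o, .o, .o, .o, .o, .o, .o, .o, .o, .o, .o, .o, .v, .i, .w, .v, .o, .i, .o, .o, .o, .o, .o, .o, .o, .o, .w, .o, .i, .o, .o, .v, .o, .o, .o, .o, .o, .o, .o, .o, .i, .o, .o, .i, .o, .w, .o, .o, .o, .o, .o, .o, .o, .w, .o, .i, .w, .o, .i, .o, .o, .v, .o, .o, .o, .o, .o, .o, .o, .o, .o, .o, .o, .i, .o, .o, .o, .o, .o, .o, .v, .v, .o, .w, .o, .o, .w, .o, .i, .o, .w, .v, .i, .o, .o, .o, .i, .o, .o, .o, .o, .w, .o, .i, .o, .o, .o, .o, .w, .w, .o, .i, .o, .o, .o, .o, .o, .o, .i, .o, .v, .o, .i, .o, .o, .o, .i, .o, .o, .o, .o, .w, .o, .i, .w, .o, .o, .o, .i, .o, .o, .i, .o, .w, .o, .i,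 .o, .o, .i, .o, .w, .w, .o, .i, .o, .o, .i, .o, .o, .o, .i, .w, .v, .i]⟩
def q36_3 : MatD 14 K4 := ⟨[.i, .o, .o, .i, .w, .w, .o, .v, .o, .w, .o, .o, .o, .o, .o, .i, .i, .i, .i, .w, .o, .v, .o, .o, .o, .o, .o, .o, .o, .o, .i, .o, .o, .o, .o, .o, .o, .o, .o, .o, .o, .o, .o, .o, .w, .i, .w, .v, .o, .i, .o, .o, .o, .o, .o, .o, .o, .o, .i, .o, .i, .o, .o, .v, .o, .o, .o, .o, .o, .o, .o, .o, .v, .o, .o, .i, .o, .w, .o, .o, .o, .o, .o, .o, .o, .w, .o, .v, .i, .o, .i, .o, .o, .v, .o, .o, .o, .o, .o, .o, .i, .o, .o, .o, .o, .i, .o, .o, .o, .o, .o, .o, .w, .w, .w, .w, .w, .v, .i, .i, .i, .o, .w, .v, .i, .o, .o, .o, .v, .o, .i, .o, .o, .w, .o, .i, .o, .o, .o, .o, .i, .i, .i, .w, .i, .o, .o, .v, .o, .o, .i, .o, .v, .o, .v, .w, .v, .v, .v, .i, .i, .w, .o, .w, .o, .i, .w, .o, .i, .i, .w, .i, .i, .i, .o, .v, .o, .i, .o, .o,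 .i, .o, .i, .o, .o, .v, .i, .w, .v, .v, .i, .o, .i, .w, .v, .i]⟩
def q36_4 : MatD 14 K4 := ⟨[.i, .o, .v, .i, .o, .v, .o, .o, .o, .o, .o, .o, .o, .o, .o, .i, .o, .i, .w, .v, .o, .i, .o, .o, .o, .o, .o, .o, .o, .o, .i, .o, .o, .o, .o, .o, .o, .o, .o, .o, .o, .o, .o, .o, .i, .i, .o, .o, .o, .o, .o, .o, .o, .o, .o, .o, .o, .o, .v, .o, .i, .o, .o, .o, .o, .o, .o, .o, .o, .o, .o, .o, .w, .o, .o, .i, .o, .o, .o, .o, .o, .o, .o, .o, .o, .o, .o, .w, .o, .i, .i, .o, .o, .o, .o, .o, .o, .o, .o, .o, .i, .o, .o, .o, .o, .i, .o, .o, .o, .o, .o, .o, .i, .o, .v, .w, .w, .v, .v, .i, .i, .o, .o, .o, .o, .o, .o, .o, .o, .o, .i, .o, .o, .v, .o, .i, .o, .o, .o, .o, .v, .v, .w, .v, .w, .w, .o, .v, .o, .i, .i, .o, .o, .o, .w, .o, .i, .w, .v, .w, .i, .w, .o, .o, .o, .i, .o, .o, .i, .i, .v, .i, .w, .v, .o, .w, .o, .w, .o, .o, .i, .o,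 .o, .v, .w, .v, .i, .w, .o, .v, .i, .o, .w, .v, .i, .i]⟩
def q36_5 : MatD 14 K4 := ⟨[.i, .o, .w, .o, .o, .v, .o, .o, .o, .o, .o, .o, .o, .o, .o, .i, .i, .o, .w, .v, .o, .i, .o, .o, .o, .o, .o, .o, .o, .o, .i, .o, .o, .o, .o, .o, .o, .o, .o, .o, .o, .o, .o, .o, .i, .i, .o, .o, .o, .o, .o, .o, .o, .o, .o, .o, .o, .o, .v, .o, .i, .o, .o, .o, .o, .o, .o, .o, .o, .o, .o, .o, .w, .o, .o, .i, .o, .o, .o, .o, .o, .o, .o, .o, .o, .o, .o, .w, .o, .i, .i, .o, .o, .o, .o, .o, .o, .o, .o, .o, .o, .o, .o, .o, .o, .i, .o, .o, .o, .o, .o, .o, .i, .o, .v, .w, .w, .v, .v, .i, .i, .o, .o, .o, .o, .o, .o, .o, .v, .o, .o, .o, .o, .v, .o, .i, .o, .o, .o, .o, .v, .v, .w, .v, .w, .w, .o, .v, .o, .i, .i, .o, .o, .o, .w, .o, .i, .o, .v, .v, .o, .w, .o, .o, .o, .i, .o, .o, .o, .o, .i, .o, .o, .v, .o, .v, .o, .w, .o, .o, .i, .o, .i, .v,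 .i, .i, .v, .i, .v, .w, .o, .o, .w, .v, .i, .i]⟩
def q36_6 : MatD 14 K4 := ⟨[.i, .o, .w, .o, .o, .i, .o, .w, .o, .w, .o, .o, .o, .o, .o, .i, .v, .o, .v, .i, .o, .w, .o, .o, .o, .o, .o, .o, .o, .o, .i, .o, .o, .o, .o, .o, .o, .o, .o, .o, .o, .o, .o, .o, .w, .i, .w, .v, .o, .i, .o, .o, .o, .o, .o, .o, .o, .o, .i, .o, .i, .o, .o, .v, .o, .o, .o, .o, .o, .o, .o, .o, .v, .o, .o, .i, .o, .w, .o, .o, .o, .o, .o, .o, .o, .w, .o, .v, .i, .o, .i, .o, .o, .v, .o, .o, .o, .o, .o, .o, .o, .o, .o, .o, .o, .i, .o, .o, .o, .o, .o, .o, .w, .w, .w, .w, .w, .v, .i, .i, .i, .o, .w, .v, .i, .o, .o, .o, .w, .o, .o, .o, .o, .i, .o, .i, .o, .o, .o, .o, .i, .i, .i, .w, .i, .o, .o, .v, .o, .o, .i, .o, .v, .o, .v, .o, .v, .o, .w, .i, .o, .w, .o, .i, .o, .i, .w, .o, .o, .o, .i, .o, .o, .w, .o, .w, .o, .v, .o, .o, .i, .o, .v, .w, .w, .i,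 .v, .i, .w, .w, .o, .o, .v, .i, .w, .i]⟩
def q36_7 : MatD 14 K4 := ⟨[.i, .o, .i, .i, .w, .i, .o, .w, .o, .w, .o, .o, .o, .o, .o, .i, .i, .i, .v, .i, .o, .w, .o, .o, .o, .o, .o, .o, .o, .o, .i, .o, .o, .o, .o, .o, .o, .o, .o, .o, .o, .o, .o, .o, .v, .i, .w, .v, .o, .i, .o, .o, .o, .o, .o, .o, .o, .o, .w, .o, .i, .o, .o, .v, .o, .o, .o, .o, .o, .o, .o, .o, .i, .o, .o, .i, .o, .w, .o, .o, .o, .o, .o, .o, .o, .w, .o, .i, .w, .o, .i, .o, .o, .v, .o, .o, .o, .o, .o, .o, .i, .o, .o, .o, .o, .i, .o, .o, .o, .o, .o, .o, .v, .v, .o, .w, .o, .o, .w, .o, .i, .o, .w, .v, .i, .o, .o, .o, .v, .o, .i, .o, .o, .i, .o, .i, .o, .o, .o, .o, .w, .w, .o, .i, .o, .o, .o, .o, .o, .o, .i, .o, .v, .o, .i, .w, .o, .i, .v, .o, .i, .o, .o, .i, .o, .i, .w, .o, .i, .i, .w, .i, .v, .w, .o, .v, .o, .v, .o, .o, .i, .o, .i, .i, .o, .v, .o, .o,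 .v, .o, .i, .o, .v, .i, .w, .i]⟩
def q36_8 : MatD 14 K4 := ⟨[.i, .o, .i, .i, .o, .o, .o, .o, .o, .o, .o, .o, .o, .o, .o, .i, .o, .i, .o, .o, .o, .o, .o, .o, .o, .o, .o, .o, .o, .o, .i, .o, .o, .o, .o, .o, .o, .o, .o, .o, .o, .o, .o, .o, .o, .i, .o, .o, .o, .o, .o, .o, .o, .o, .o, .o, .o, .o, .o, .o, .i, .o, .o, .o, .o, .o, .o, .o, .o, .o, .o, .o, .o, .o, .o, .i, .o, .o, .o, .o, .o, .o, .o, .o, .o, .o, .o, .o, .o, .o, .i, .o, .o, .o, .o, .o, .o, .o, .o, .o, .i, .o, .o, .o, .o, .i, .o, .o, .o, .o, .o, .o, .o, .o, .o, .i, .o, .o, .o, .o, .i, .o, .o, .o, .o, .o, .o, .o, .o, .o, .i, .o, .o, .o, .o, .i, .o, .o, .o, .o, .o, .o, .o, .o, .i, .o, .o, .o, .o, .o, .i, .o, .o, .o, .o, .o, .o, .o, .o, .i, .i, .o, .o, .o, .o, .i, .o, .o, .i, .i, .i, .i, .o, .o, .o, .i, .o, .o, .o, .o, .i, .o, .o, .i, .i, .i, .o, .o, .o, .o,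 .i, .o, .o, .o, .o, .i]⟩
theorem s36_1 : (MatD.one : MatD 14 K4).mul (dlM D D (G24PJ2.dec 0)) = q36_1 := by decide +kernel
theorem s36_2 : (q36_1 : MatD 14 K4).mul (dlM D D (G24PJ2.dec 7)) = q36_2 := by decide +kernel
theorem s36_3 : (q36_2 : MatD 14 K4).mul (dlM D D (G24PJ2.dec 5)) = q36_3 := by decide +kernel
theorem s36_4 : (q36_3 : MatD 14 K4).mul (dlM D D (G24PJ2.dec 7)) = q36_4 := by decide +kernel
theorem s36_5 : (q36_4 : MatD 14 K4).mul (dlM D D (G24PJ2.dec 5)) = q36_5 := by decide +kernel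
theorem s36_6 : (q36_5 : MatD 14 K4).mul (dlM D D (G24PJ2.dec 7)) = q36_6 := by decide +kernel
theorem s36_7 : (q36_6 : MatD 14 K4).mul (dlM D D (G24PJ2.dec 5)) = q36_7 := by decide +kernel
theorem s36_8 : (q36_7 : MatD 14 K4).mul (dlM D D (G24PJ2.dec 7)) = q36_8 := by decide +kernel
theorem s36_9 : (q36_8 : MatD 14 K4).mul (dlM D D (G24PJ2.dec 5)) = MatD.one := by decide +kernel
theorem r36 : MatD.evM (dlM D D) (([5, 7, 5, 7, 5, 7, 5, 7, 0] : List ℕ).map G24PJ2.dec) = MatD.one := by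
  refine evM_step s36_9 ?_
  refine evM_step s36_8 ?_
  refine evM_step s36_7 ?_
  refine evM_step s36_6 ?_
  refine evM_step s36_5 ?_
  refine evM_step s36_4 ?_
  refine evM_step s36_3 ?_
  refine evM_step s36_2 ?_
  refine evM_step s36_1 ?_
  rfl

def q37_1 : MatD 14 K4 := ⟨[.i, .o, .i, .o, .o, .o, .o, .o, .o, .o, .o, .o, .o, .o, .o, .i, .o, .o, .o, .o, .o, .o, .o, .o, .o, .o, .o, .o, .o, .o, .i, .o, .o, .o, .o, .o, .o, .o, .o, .o, .o, .o, .o, .o, .o, .i, .o, .o, .o, .o, .o, .o, .o, .o, .o, .o, .o, .o, .o, .o, .i, .o, .o, .o, .o, .o, .o, .o, .o, .o, .o, .o, .o, .o, .o, .i, .o, .o, .o, .o, .o, .o, .o, .o, .o, .o, .o, .o, .o, .o, .i, .o, .o, .o, .o, .o, .o, .o, .o, .o, .o, .o, .o, .o, .o, .i, .o, .o, .o, .o, .o, .o, .o, .o, .o, .i, .o, .o, .o, .o, .i, .o, .o, .o, .o, .o, .o, .o, .o, .o, .o, .o, .o, .o, .o,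 .i, .o, .o, .o, .o, .o, .o, .o, .o, .i, .o, .o, .o, .o, .o, .i, .o, .o, .o, .o, .o, .o, .o, .o, .i, .o, .o, .o, .o, .o, .i, .o, .o, .o, .o, .o, .o, .o, .o, .o, .i, .o, .o, .o, .o, .i, .o, .o, .i, .i, .o, .o, .o, .o, .o, .o, .o, .o, .o, .o, .i]⟩
def q37_2 : MatD 14 K4 := ⟨[.o, .v, .o, .o, .o, .i, .i, .w, .i, .v, .w, .i, .v, .i, .v, .i, .v, .v, .i, .i, .i, .o, .i, .v, .v, .i, .i, .i, .i, .v, .w, .i, .o, .v, .w, .w, .i, .i, .v, .i, .i, .w, .i, .w, .v, .i, .i, .v, .v, .o, .o, .v, .w, .v, .v, .i, .i, .o, .i, .i, .w, .v, .i, .o, .v, .i, .i, .v, .v, .i, .v, .i, .o, .i, .w, .i, .i, .w, .w, .w, .i, .i, .w, .v, .v, .w, .v, .o, .v, .v, .w, .o, .w, .v, .w, .i, .v, .i, .i, .o, .w, .w, .v, .o, .i, .i, .v, .w, .w, .v, .o, .i, .i, .w, .v, .v, .i, .v, .i, .o, .i, .v, .o, .v, .v, .v, .i, .v, .i, .v, .o, .i, .w, .w, .i, .w, .i,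 .i, .v, .w, .o, .w, .w, .v, .v, .o, .o, .o, .v, .w, .o, .o, .o, .w, .w, .i, .v, .v, .i, .o, .i, .w, .i, .i, .v, .v, .v, .v, .w, .i, .o, .v, .i, .w, .w, .v, .i, .w, .v, .w, .i, .o, .i, .o, .w, .o, .w, .i, .w, .w, .w, .i, .o, .i, .v, .i]⟩
def q37_3 : MatD 14 K4 := ⟨[.v, .i, .o, .o, .i, .o, .o, .i, .o, .v, .w, .i, .v, .i, .w, .i, .o, .o, .i, .o, .o, .i, .o, .v, .v, .i, .i, .i, .o, .o, .w, .i, .w, .w, .v, .v, .v, .i, .v, .i, .i, .w, .w, .o, .o, .o, .o, .o, .o, .v, .i, .v, .w, .v, .v, .i, .w, .w, .w, .i, .w, .o, .w, .v, .w, .i, .i, .v, .v, .i, .i, .o, .o, .o, .i, .o, .o, .o, .i, .w, .i, .i, .w, .v, .o, .o, .w, .i, .w, .w, .v, .v, .v, .v, .w, .i, .v, .i, .i, .i, .v, .i, .v, .v, .w, .i, .w, .w, .w, .v, .o, .i, .w, .w, .w, .i, .w, .o, .w, .v, .w, .v, .o, .v, .v, .v, .w, .w, .v, .i, .v, .o, .v, .i, .v, .w, .i, .i, .v,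 .w, .o, .o, .o, .o, .i, .o, .o, .o, .i, .w, .o, .o, .o, .w, .i, .i, .v, .i, .v, .v, .w, .i, .w, .i, .v, .v, .v, .v, .v, .o, .o, .o, .o, .o, .o, .w, .i, .w, .v, .w, .i, .o, .w, .w, .v, .i, .v, .o, .v, .i, .v, .i, .o, .i, .v, .i]⟩
def q37_4 : MatD 14 K4 := ⟨[.v, .v, .w, .o, .w, .w, .o, .o, .o, .v, .w, .i, .v, .i, .w, .v, .o, .o, .o, .w, .o, .v, .o, .v, .v, .i, .i, .i, .o, .v, .v, .o, .v, .o, .v, .i, .v, .i, .v, .i, .i, .w, .w, .w, .o, .w, .v, .i, .o, .w, .i, .v, .w, .v, .v, .i, .w, .o, .w, .w, .o, .i, .w, .w, .w, .i, .i, .v, .v, .i, .i, .i, .o, .w, .v, .w, .o, .v, .i, .w, .i, .i, .w, .v, .o, .w, .i, .o, .i, .o, .v, .w, .v, .v, .w, .i, .v, .i, .i, .v, .w, .w, .o, .w, .w, .i, .w, .w, .w, .v, .o, .i, .w, .v, .v, .w, .w, .i, .w, .w, .w, .v, .o, .v, .v, .v, .w, .i, .i, .o, .i, .w, .v, .o, .v, .w, .i, .i, .v, .w, .o,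 .v, .i, .w, .i, .o, .o, .o, .i, .w, .o, .o, .o, .w, .i, .o, .v, .w, .w, .w, .w, .o, .w, .i, .v, .v, .v, .v, .v, .o, .i, .w, .i, .v, .o, .o, .i, .w, .v, .w, .i, .o, .w, .o, .v, .o, .v, .w, .v, .o, .v, .i, .o, .i, .v, .i]⟩
def q37_5 : MatD 14 K4 := ⟨[.v, .w, .o, .o, .o, .v, .o, .v, .o, .v, .w, .i, .v, .i, .w, .w, .v, .o, .v, .v, .o, .w, .o, .v, .v, .i, .i, .i, .o, .i, .i, .v, .o, .i, .v, .o, .v, .i, .v, .i, .i, .w, .w, .v, .v, .v, .i, .w, .o, .i, .i, .v, .w, .v, .v, .i, .w, .i, .i, .o, .i, .w, .w, .i, .w, .i, .i, .v, .v, .i, .i, .w, .w, .v, .w, .v, .o, .i, .i, .w, .i, .i, .w, .v, .o, .v, .o, .v, .v, .i, .v, .i, .v, .v, .w, .i, .v, .i, .i, .w, .w, .o, .w, .i, .w, .i, .w, .w, .w, .v, .o, .i, .w, .o, .w, .o, .w, .w, .w, .i, .w, .v, .o, .v, .v, .v, .w, .v, .i, .v, .o, .v, .v, .v, .v, .w, .i, .i, .v, .w, .o, .i, .v,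 .v, .i, .o, .o, .o, .i, .w, .o, .o, .o, .w, .i, .v, .i, .o, .i, .i, .w, .v, .w, .i, .v, .v, .v, .v, .v, .o, .w, .v, .w, .i, .o, .i, .i, .w, .v, .w, .i, .o, .w, .i, .o, .v, .v, .v, .v, .v, .v, .i, .o, .i, .v, .i]⟩
def q37_6 : MatD 14 K4 := ⟨[.w, .i, .w, .w, .w, .i, .o, .w, .w, .o, .o, .i, .o, .o, .w, .v, .o, .i, .w, .v, .o, .i, .v, .v, .i, .w, .w, .i, .i, .v, .w, .v, .i, .w, .o, .o, .v, .w, .i, .w, .w, .v, .w, .w, .v, .w, .o, .w, .i, .v, .o, .i, .v, .i, .i, .w, .w, .v, .w, .v, .v, .w, .o, .v, .w, .o, .i, .i, .i, .w, .i, .i, .i, .w, .v, .o, .w, .v, .i, .v, .w, .i, .v, .i, .v, .w, .o, .w, .i, .i, .w, .v, .i, .i, .v, .o, .i, .w, .v, .i, .v, .i, .w, .v, .o, .v, .v, .i, .i, .w, .o, .v, .v, .o, .v, .o, .v, .v, .v, .i, .v, .w, .o, .w, .w, .w, .o, .o, .o, .o, .v, .o, .o, .w, .o, .w, .w, .o, .i, .o, .i, .o, .w, .w, .i,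 .i, .o, .w, .i, .i, .i, .v, .v, .o, .v, .w, .i, .i, .w, .w, .i, .o, .v, .w, .i, .w, .v, .o, .w, .o, .v, .v, .i, .w, .o, .i, .w, .v, .v, .i, .w, .o, .v, .o, .w, .w, .v, .i, .o, .i, .v, .i, .i, .w, .v, .o]⟩
def q37_7 : MatD 14 K4 := ⟨[.w, .i, .w, .v, .w, .o, .i, .w, .w, .o, .o, .i, .o, .o, .o, .o, .o, .o, .o, .i, .w, .v, .w, .v, .i, .w, .w, .i, .v, .w, .w, .v, .w, .o, .w, .w, .o, .w, .i, .w, .w, .v, .v, .i, .i, .i, .w, .v, .o, .w, .w, .i, .v, .i, .i, .w, .v, .o, .o, .v, .w, .v, .i, .w, .o, .o, .i, .i, .i, .w, .w, .v, .i, .i, .w, .i, .v, .o, .o, .v, .w, .i, .v, .i, .w, .i, .v, .i, .v, .i, .w, .w, .v, .i, .v, .o, .i, .w, .v, .w, .o, .v, .w, .i, .w, .v, .o, .i, .i, .w, .o, .v, .i, .o, .i, .o, .i, .i, .i, .v, .i, .w, .o, .w, .w, .w, .i, .i, .v, .i, .v, .o, .o, .v, .o, .w, .w, .o, .i, .o, .w, .v, .w, .i, .i, .w, .v,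 .i, .i, .i, .i, .v, .v, .o, .o, .i, .i, .o, .i, .o, .v, .v, .v, .w, .i, .w, .v, .o, .o, .w, .w, .i, .i, .v, .i, .v, .w, .v, .v, .i, .w, .o, .o, .v, .v, .i, .v, .v, .w, .w, .v, .i, .i, .w, .v, .o]⟩
def q37_8 : MatD 14 K4 := ⟨[.w, .i, .i, .o, .w, .w, .i, .w, .w, .o, .o, .i, .o, .o, .o, .w, .v, .v, .w, .w, .w, .o, .w, .v, .i, .w, .w, .i, .v, .v, .i, .v, .o, .v, .w, .i, .o, .w, .i, .w, .w, .v, .v, .w, .i, .w, .v, .i, .o, .o, .w, .i, .v, .i, .i, .w, .v, .v, .o, .v, .o, .i, .i, .o, .o, .o, .i, .i, .i, .w, .w, .i, .i, .i, .i, .v, .v, .i, .o, .v, .w, .i, .v, .i, .w, .w, .i, .o, .w, .i, .w, .o, .v, .i, .v, .o, .i, .w, .v, .v, .v, .v, .o, .w, .w, .v, .o, .i, .i, .w, .o, .v, .i, .v, .w, .w, .i, .w, .i, .o, .i, .w, .o, .w, .w, .w, .i, .i, .i, .i, .o, .o, .o, .i, .o, .w, .w, .o, .i, .o, .w, .v, .i, .v, .v, .v, .v, .o, .i,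 .i, .i, .v, .v, .o, .o, .i, .i, .i, .v, .v, .v, .w, .v, .w, .i, .w, .v, .o, .o, .w, .w, .w, .o, .i, .i, .o, .w, .v, .v, .i, .w, .o, .o, .v, .v, .o, .i, .o, .w, .v, .v, .i, .i, .w, .v, .o]⟩
def q37_9 : MatD 14 K4 := ⟨[.w, .i, .v, .w, .w, .v, .i, .w, .w, .o, .o, .i, .o, .o, .o, .v, .w, .i, .v, .o, .w, .w, .w, .v, .i, .w, .w, .i, .v, .o, .i, .v, .i, .i, .w, .v, .o, .w, .i, .w, .w, .v, .v, .o, .o, .o, .o, .o, .o, .i, .w, .i, .v, .i, .i, .w, .v, .i, .i, .v, .i, .o, .i, .i, .o, .o, .i, .i, .i, .w, .w, .o, .w, .i, .v, .w, .v, .w, .o, .v, .w, .i, .v, .i, .w, .o, .i, .v, .i, .i, .w, .i, .v, .i, .v, .o, .i, .w, .v, .o, .v, .v, .i, .o, .w, .v, .o, .i, .i, .w, .o, .v, .i, .i, .i, .v, .i, .o, .i, .w, .i, .w, .o, .w, .w, .w, .i, .i, .o, .i, .w, .o, .o, .o, .o, .w, .w, .o, .i, .o, .w, .v, .v, .w, .w, .o, .v, .v, .i, .i, .i,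 .v, .v, .o, .o, .i, .i, .w, .w, .i, .v, .i, .v, .w, .i, .w, .v, .o, .o, .w, .w, .o, .v, .o, .i, .w, .w, .v, .v, .i, .w, .o, .o, .v, .v, .v, .o, .w, .w, .o, .v, .i, .i, .w, .v, .o]⟩
def q37_10 : MatD 14 K4 := ⟨[.o, .i, .i, .v, .o, .i, .w, .w, .o, .w, .i, .v, .w, .v, .v, .v, .w, .i, .v, .o, .w, .v, .o, .w, .w, .v, .v, .v, .v, .o, .i, .v, .i, .i, .w, .v, .o, .w, .i, .w, .w, .v, .v, .o, .o, .o, .o, .o, .o, .i, .w, .i, .v, .i, .i, .w, .v, .i, .i, .v, .i, .o, .i, .i, .o, .o, .i, .i, .i, .w, .w, .o, .w, .i, .v, .w, .v, .w, .o, .v, .w, .i, .v, .i, .w, .o, .i, .v, .i, .i, .w, .i, .v, .i, .v, .o, .i, .w, .o, .o, .w, .o, .o, .i, .o, .o, .o, .v, .o, .o, .w, .o, .o, .i, .i, .v, .i, .o, .i, .o, .w, .o, .i, .o, .o, .i, .w, .o, .i, .w, .v, .o, .i, .i, .o, .w, .v, .i, .o, .w, .v, .i, .i, .v, .o, .o, .i, .i, .i, .i, .v, .i,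 .i, .v, .i, .i, .v, .v, .w, .v, .o, .v, .o, .w, .i, .o, .v, .o, .i, .o, .o, .v, .w, .i, .w, .v, .o, .o, .i, .v, .w, .v, .w, .v, .w, .o, .v, .i, .i, .i, .w, .i, .i, .o, .i, .i]⟩
def q37_11 : MatD 14 K4 := ⟨[.w, .o, .w, .v, .v, .w, .i, .o, .v, .w, .i, .v, .w, .v, .o, .v, .w, .i, .v, .v, .i, .o, .v, .w, .w, .v, .v, .v, .i, .i, .o, .i, .w, .v, .o, .i, .v, .w, .i, .w, .w, .v, .w, .v, .i, .w, .w, .i, .i, .o, .o, .i, .v, .i, .i, .w, .w, .w, .o, .w, .o, .i, .o, .o, .w, .o, .i, .i, .i, .w, .i, .w, .o, .i, .w, .v, .w, .i, .i, .v, .w, .i, .v, .i, .v, .v, .i, .i, .v, .i, .w, .o, .i, .i, .v, .o, .i, .w, .w, .w, .o, .w, .v, .i, .o, .w, .o, .v, .o, .o, .w, .o, .o, .o, .o, .i, .o, .o, .i, .o, .v, .o, .i, .o, .o, .i, .w, .w, .o, .w, .w, .i, .o, .i, .w, .w, .v, .i, .o, .w, .w, .v, .i, .w, .w, .i, .o, .o, .w, .i, .v, .i, .i,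 .v, .w, .w, .w, .o, .i, .v, .o, .o, .o, .w, .i, .o, .v, .o, .v, .i, .v, .v, .v, .w, .i, .i, .v, .o, .i, .v, .w, .v, .v, .v, .i, .v, .v, .i, .i, .o, .v, .i, .i, .o, .i, .i]⟩
def q37_12 : MatD 14 K4 := ⟨[.w, .i, .v, .w, .i, .v, .i, .v, .v, .w, .i, .v, .w, .v, .o, .w, .o, .o, .o, .w, .i, .i, .v, .w, .w, .v, .v, .v, .i, .o, .o, .o, .o, .o, .o, .w, .v, .w, .i, .w, .w, .v, .w, .o, .v, .w, .v, .v, .i, .w, .o, .i, .v, .i, .i, .w, .w, .i, .w, .i, .w, .v, .o, .w, .w, .o, .i, .i, .i, .w, .i, .o, .i, .v, .i, .i, .w, .o, .i, .v, .w, .i, .v, .i, .v, .o, .i, .v, .w, .i, .w, .w, .i, .i, .v, .o, .i, .w, .w, .w, .v, .w, .v, .i, .o, .i, .o, .v, .o, .o, .w, .o, .o, .w, .v, .o, .w, .o, .i, .o, .v, .o, .i, .o, .o, .i, .w, .i, .w, .i, .v, .v, .o, .i, .w, .w, .v, .i, .o, .w, .w, .w, .o, .i, .v, .v, .o, .w, .w, .i, .v, .i, .i, .v,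 .w, .w, .i, .o, .v, .v, .o, .i, .o, .w, .i, .o, .v, .o, .v, .o, .o, .w, .i, .v, .i, .w, .v, .o, .i, .v, .w, .v, .v, .i, .v, .w, .i, .i, .i, .w, .v, .i, .i, .o, .i, .i]⟩
def q37_13 : MatD 14 K4 := ⟨[.w, .w, .w, .i, .o, .o, .i, .i, .v, .w, .i, .v, .w, .v, .o, .i, .v, .v, .w, .i, .i, .w, .v, .w, .w, .v, .v, .v, .i, .v, .w, .v, .i, .w, .o, .o, .v, .w, .i, .w, .w, .v, .w, .w, .v, .w, .o, .w, .i, .v, .o, .i, .v, .i, .i, .w, .w, .v, .w, .v, .v, .w, .o, .v, .w, .o, .i, .i, .i, .w, .i, .i, .i, .w, .v, .o, .w, .v, .i, .v, .w, .i, .v, .i, .v, .w, .o, .w, .i, .i, .w, .v, .i, .i, .v, .o, .i, .w, .w, .w, .i, .w, .v, .i, .o, .v, .o, .v, .o, .o, .w, .o, .o, .v, .w, .v, .v, .o, .i, .o, .v, .o, .i, .o, .o, .i, .w, .v, .w, .v, .o, .w, .o, .i, .w, .w, .v, .i, .o, .w, .w, .i, .i, .v, .o, .w, .o, .v, .w, .i, .v, .i, .i, .v, .w,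 .w, .v, .o, .w, .v, .o, .w, .o, .w, .i, .o, .v, .o, .v, .v, .o, .i, .o, .o, .i, .o, .v, .o, .i, .v, .w, .v, .v, .o, .i, .i, .o, .i, .i, .v, .v, .i, .i, .o, .i, .i]⟩
def q37_14 : MatD 14 K4 := ⟨[.i, .v, .i, .w, .i, .v, .i, .w, .o, .w, .i, .o, .w, .v, .o, .i, .o, .v, .w, .i, .o, .v, .i, .o, .i, .w, .w, .o, .o, .i, .i, .v, .o, .i, .v, .o, .v, .i, .v, .i, .i, .w, .w, .v, .v, .v, .i, .w, .o, .i, .i, .v, .w, .v, .v, .i, .w, .i, .i, .o, .i, .w, .w, .i, .w, .i, .i, .v, .v, .i, .i, .w, .w, .v, .w, .v, .o, .i, .i, .w, .i, .i, .w, .v, .o, .v, .o, .v, .v, .i, .v, .i, .v, .v, .w, .i, .v, .i, .i, .v, .v, .v, .w, .o, .i, .i, .i, .v, .i, .w, .i, .v, .i, .i, .v, .i, .o, .i, .w, .v, .o, .w, .v, .w, .w, .i, .o, .w, .o, .v, .i, .i, .i, .w, .i, .v, .o, .w, .o, .v, .v, .v, .i, .v, .v, .v, .v, .w, .w, .o, .w, .i, .i, .o, .v, .v,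 .w, .w, .i, .i, .i, .o, .v, .i, .v, .o, .v, .v, .w, .w, .v, .i, .v, .v, .w, .v, .w, .o, .w, .w, .w, .o, .o, .o, .i, .o, .w, .o, .v, .v, .i, .i, .o, .w, .o, .v]⟩
def q37_15 : MatD 14 K4 := ⟨[.v, .w, .v, .i, .w, .v, .i, .o, .v, .w, .i, .o, .w, .v, .w, .v, .i, .i, .v, .v, .w, .i, .i, .o, .i, .w, .w, .o, .i, .w, .w, .w, .w, .o, .w, .i, .i, .i, .v, .i, .i, .w, .i, .i, .w, .i, .o, .i, .v, .w, .o, .v, .w, .v, .v, .i, .i, .v, .o, .v, .i, .i, .i, .w, .v, .i, .i, .v, .v, .i, .v, .v, .v, .o, .i, .w, .i, .v, .w, .w, .i, .i, .w, .v, .v, .i, .v, .i, .w, .o, .w, .w, .w, .v, .w, .i, .v, .i, .o, .i, .i, .w, .o, .w, .v, .o, .w, .v, .i, .w, .i, .v, .v, .w, .w, .w, .i, .v, .o, .i, .i, .w, .v, .w, .w, .i, .o, .i, .i, .v, .w, .v, .v, .w, .w, .v, .o, .w, .o, .v, .w, .w, .i, .o, .i, .w, .w, .v, .w, .o, .w, .i, .i, .o, .o, .v, .i,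 .i, .v, .i, .i, .v, .o, .i, .v, .o, .v, .v, .o, .o, .o, .i, .i, .i, .o, .i, .w, .o, .w, .w, .w, .o, .o, .v, .i, .w, .v, .w, .i, .v, .w, .i, .o, .w, .o, .v]⟩
def q37_16 : MatD 14 K4 := ⟨[.v, .v, .o, .o, .o, .v, .i, .v, .v, .w, .i, .o, .w, .v, .w, .v, .w, .v, .i, .o, .w, .w, .i, .o, .i, .w, .w, .o, .i, .i, .i, .o, .v, .w, .w, .v, .i, .i, .v, .i, .i, .w, .i, .v, .v, .i, .v, .o, .v, .v, .o, .v, .w, .v, .v, .i, .i, .i, .i, .w, .v, .o, .i, .v, .v, .i, .i, .v, .v, .i, .v, .w, .o, .v, .v, .o, .i, .o, .w, .w, .i, .i, .w, .v, .v, .v, .i, .w, .i, .w, .w, .v, .w, .v, .w, .i, .v, .i, .o, .o, .v, .i, .w, .i, .v, .w, .w, .v, .i, .w, .i, .v, .v, .o, .o, .o, .o, .o, .o, .w, .i, .w, .v, .w, .w, .i, .o, .o, .v, .o, .w, .o, .v, .w, .w, .v, .o, .w, .o, .v, .w, .w, .w, .v, .w, .o, .w, .i, .w, .o, .w, .i, .i, .o, .o, .w, .v, .i,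 .w, .i, .i, .w, .o, .i, .v, .o, .v, .v, .o, .o, .o, .w, .w, .w, .o, .w, .w, .o, .w, .w, .w, .o, .o, .w, .v, .i, .v, .i, .i, .v, .w, .i, .o, .w, .o, .v]⟩
def q37_17 : MatD 14 K4 := ⟨[.v, .o, .o, .v, .i, .v, .i, .i, .v, .w, .i, .o, .w, .v, .w, .v, .o, .w, .o, .w, .w, .o, .i, .o, .i, .w, .w, .o, .i, .v, .w, .i, .o, .v, .w, .w, .i, .i, .v, .i, .i, .w, .i, .w, .v, .i, .i, .v, .v, .o, .o, .v, .w, .v, .v, .i, .i, .o, .i, .i, .w, .v, .i, .o, .v, .i, .i, .v, .v, .i, .v, .i, .o, .i, .w, .i, .i, .w, .w, .w, .i, .i, .w, .v, .v, .w, .v, .o, .v, .v, .w, .o, .w, .v, .w, .i, .v, .i, .o, .v, .o, .v, .v, .v, .v, .v, .w, .v, .i, .w, .i, .v, .v, .i, .w, .i, .v, .w, .o, .o, .i, .w, .v, .w, .w, .i, .o, .v, .o, .w, .w, .w, .v, .w, .w, .v, .o, .w, .o, .v, .w, .w, .o, .i, .o, .i, .w, .o, .w, .o, .w, .i, .i, .o, .o, .i, .o, .i, .i,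 .i, .i, .i, .o, .i, .v, .o, .v, .v, .o, .o, .o, .o, .o, .o, .o, .o, .w, .o, .w, .w, .w, .o, .o, .i, .o, .v, .v, .v, .i, .v, .w, .i, .o, .w, .o, .v]⟩
def q37_18 : MatD 14 K4 := ⟨[.i, .o, .v, .i, .o, .o, .o, .o, .o, .o, .o, .o, .o, .o, .o, .i, .o, .i, .o, .o, .o, .o, .o, .o, .o, .o, .o, .o, .o, .o, .i, .o, .o, .o, .o, .o, .o, .o, .o, .o, .o, .o, .o, .o, .o, .i, .o, .o, .o, .o, .o, .o, .o, .o, .o, .o, .o, .o, .o, .o, .i, .o, .o, .o, .o, .o, .o, .o, .o, .o, .o, .o, .o, .o, .o, .i, .o, .o, .o, .o, .o, .o, .o, .o, .o, .o, .o, .o, .o, .o, .i, .o, .o, .o, .o, .o, .o, .o, .o, .o, .i, .o, .o, .o, .o, .i, .o, .o, .o, .o, .o, .o, .o, .o, .o, .v, .o, .o, .o, .o, .i, .o, .o, .o, .o, .o, .o, .o, .o, .o, .i, .o, .o, .o, .o, .i, .o, .o, .o, .o, .o, .o, .o, .o, .v, .o, .o, .o, .o, .o, .i, .o, .o, .o, .o, .o, .o, .o, .o, .v,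 .i, .o, .o, .o, .o, .i, .o, .o, .i, .i, .v, .i, .o, .o, .o, .v, .o, .o, .o, .o, .i, .o, .o, .v, .w, .v, .o, .o, .o, .o, .i, .o, .o, .o, .o, .i]⟩
def q37_19 : MatD 14 K4 := ⟨[.i, .o, .w, .o, .o, .o, .o, .o, .o, .o, .o, .o, .o, .o, .o, .i, .o, .o, .o, .o, .o, .o, .o, .o, .o, .o, .o, .o, .o, .o, .i, .o, .o, .o, .o, .o, .o, .o, .o, .o, .o, .o, .o, .o, .o, .i, .o, .o, .o, .o, .o, .o, .o, .o, .o, .o, .o, .o, .o, .o, .i, .o, .o, .o, .o, .o, .o, .o, .o, .o, .o, .o, .o, .o, .o, .i, .o, .o, .o, .o, .o, .o, .o, .o, .o, .o, .o, .o, .o, .o, .i, .o, .o, .o, .o, .o, .o, .o, .o, .o, .o, .o, .o, .o, .o, .i, .o, .o, .o, .o, .o, .o, .o, .o, .o, .w, .o, .o, .o, .o, .i, .o, .o, .o, .o, .o, .o, .o, .o, .o, .o, .o, .o, .o, .o, .i, .o, .o, .o, .o, .o, .o, .o, .o, .w, .o, .o, .o, .o, .o, .i, .o, .o, .o, .o, .o, .o, .o, .o, .w, .o,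 .o, .o, .o, .o, .i, .o, .o, .o, .o, .o, .o, .o, .o, .o, .w, .o, .o, .o, .o, .i, .o, .o, .w, .v, .o, .o, .o, .o, .o, .o, .o, .o, .o, .o, .i]⟩
theorem s37_1 : (MatD.one : MatD 14 K4).mul (dlM D D (G24PJ2.dec 0)) = q37_1 := by decide +kernel
theorem s37_2 : (q37_1 : MatD 14 K4).mul (dlM D D (G24PJ2.dec 2)) = q37_2 := by decide +kernel
theorem s37_3 : (q37_2 : MatD 14 K4).mul (dlM D D (G24PJ2.dec 4)) = q37_3 := by decide +kernel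
theorem s37_4 : (q37_3 : MatD 14 K4).mul (dlM D D (G24PJ2.dec 10)) = q37_4 := by decide +kernel
theorem s37_5 : (q37_4 : MatD 14 K4).mul (dlM D D (G24PJ2.dec 0)) = q37_5 := by decide +kernel
theorem s37_6 : (q37_5 : MatD 14 K4).mul (dlM D D (G24PJ2.dec 2)) = q37_6 := by decide +kernel
theorem s37_7 : (q37_6 : MatD 14 K4).mul (dlM D D (G24PJ2.dec 4)) = q37_7 := by decide +kernel
theorem s37_8 : (q37_7 : MatD 14 K4).mul (dlM D D (G24PJ2.dec 10)) = q37_8 := by decide +kernel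
theorem s37_9 : (q37_8 : MatD 14 K4).mul (dlM D D (G24PJ2.dec 0)) = q37_9 := by decide +kernel
theorem s37_10 : (q37_9 : MatD 14 K4).mul (dlM D D (G24PJ2.dec 2)) = q37_10 := by decide +kernel
theorem s37_11 : (q37_10 : MatD 14 K4).mul (dlM D D (G24PJ2.dec 4)) = q37_11 := by decide +kernel
theorem s37_12 : (q37_11 : MatD 14 K4).mul (dlM D D (G24PJ2.dec 10)) = q37_12 := by decide +kernel
theorem s37_13 : (q37_12 : MatD 14 K4).mul (dlM D D (G24PJ2.dec 0)) = q37_13 := by decide +kernel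
theorem s37_14 : (q37_13 : MatD 14 K4).mul (dlM D D (G24PJ2.dec 2)) = q37_14 := by decide +kernel
theorem s37_15 : (q37_14 : MatD 14 K4).mul (dlM D D (G24PJ2.dec 4)) = q37_15 := by decide +kernel
theorem s37_16 : (q37_15 : MatD 14 K4).mul (dlM D D (G24PJ2.dec 10)) = q37_16 := by decide +kernel
theorem s37_17 : (q37_16 : MatD 14 K4).mul (dlM D D (G24PJ2.dec 0)) = q37_17 := by decide +kernel
theorem s37_18 : (q37_17 : MatD 14 K4).mul (dlM D D (G24PJ2.dec 2)) = q37_18 := by decide +kernel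
theorem s37_19 : (q37_18 : MatD 14 K4).mul (dlM D D (G24PJ2.dec 4)) = q37_19 := by decide +kernel
theorem s37_20 : (q37_19 : MatD 14 K4).mul (dlM D D (G24PJ2.dec 10)) = MatD.one := by decide +kernel
theorem r37 : MatD.evM (dlM D D) (([10, 4, 2, 0, 10, 4, 2, 0, 10, 4, 2, 0, 10, 4, 2, 0, 10, 4, 2, 0] : List ℕ).map G24PJ2.dec) = MatD.one := by
  refine evM_step s37_20 ?_
  refine evM_step s37_19 ?_
  refine evM_step s37_18 ?_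
  refine evM_step s37_17 ?_
  refine evM_step s37_16 ?_
  refine evM_step s37_15 ?_
  refine evM_step s37_14 ?_
  refine evM_step s37_13 ?_
  refine evM_step s37_12 ?_
  refine evM_step s37_11 ?_
  refine evM_step s37_10 ?_
  refine evM_step s37_9 ?_
  refine evM_step s37_8 ?_
  refine evM_step s37_7 ?_
  refine evM_step s37_6 ?_
  refine evM_step s37_5 ?_
  refine evM_step s37_4 ?_
  refine evM_step s37_3 ?_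
  refine evM_step s37_2 ?_
  refine evM_step s37_1 ?_
  rfl

end Cfsg.Agent.Helper4.TC.G24Chk
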