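import Cfsg.Agent.Lib.Helper4.TC.G24Mat
import Cfsg.Agent.Lib.Helper4.TC.G24PJ2Glue
import Cfsg.Agent.Lib.Helper4.TC.MatChain

set_option autoImplicit false
set_option maxRecDepth 100000
set_option maxHeartbeats 0

namespace Cfsg.Agent.Helper4.TC.G24Chk

open Cfsg.Agent.Helper4.TC Cfsg.Agent.Helper4.TC.G24Mat Cfsg.Agent.Lib.Helper6.FFour

def q1_1 : MatD 14 K4 := ⟨[.i, .o, .i, .o, .o, .o, .o, .o, .o, .o, .o, .o, .o, .o, .o, .i, .o, .o, .o, .o, .o, .o, .o, .o, .o, .o, .o, .o, .o, .o, .i, .o, .o, .o, .o, .o, .o, .o, .o, .o, .o, .o, .o, .o, .o, .i, .o, .o, .o, .o, .o, .o, .o, .o, .o, .o, .o, .o, .o, .o, .i, .o, .o, .o, .o, .o, .o, .o, .o, .o, .o, .o, .o, .o, .o, .i, .o, .o, .o, .o, .o, .o, .o, .o, .o, .o, .o, .o, .o, .o, .i, .o, .o, .o, .o, .o, .o, .o, .o, .o, .o, .o, .o, .o, .o, .i, .o, .o, .o, .o, .o, .o, .o,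 .o, .o, .i, .o, .o, .o, .o, .i, .o, .o, .o, .o, .o, .o, .o, .o, .o, .o, .o, .o, .o, .o, .i, .o, .o, .o, .o, .o, .o, .o, .o, .i, .o, .o, .o, .o, .o, .i, .o, .o, .o, .o, .o, .o, .o, .o, .i, .o, .o, .o, .o, .o, .i, .o, .o, .o, .o, .o, .o, .o, .o, .o, .i, .o, .o, .o, .o, .i, .o, .o, .i, .i, .o, .o, .o, .o, .o, .o, .o, .o, .o, .o, .i]⟩
def q1_2 : MatD 14 K4 := ⟨[.o, .v, .o, .o, .o, .i, .i, .w, .i, .v, .w, .i, .v, .i, .v, .i, .v, .v, .i, .i, .i, .o, .i, .v, .v, .i, .i, .i, .i, .v, .w, .i, .o, .v, .w, .w, .i, .i, .v, .i, .i, .w, .i, .w, .v, .i, .i, .v, .v, .o, .o, .v, .w, .v, .v, .i, .i, .o, .i, .i, .w, .v, .i, .o, .v, .i, .i, .v, .v, .i, .v, .i, .o, .i, .w, .i, .i, .w, .w, .w, .i, .i, .w, .v, .v, .w, .v, .o, .v, .v, .w, .o, .w, .v, .w, .i, .v, .i, .i, .o, .w, .w, .v, .o, .i, .i, .v, .w, .w, .v, .o, .i, .i, .w, .v,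 .v, .i, .v, .i, .o, .i, .v, .o, .v, .v, .v, .i, .v, .i, .v, .o, .i, .w, .w, .i, .w, .i, .i, .v, .w, .o, .w, .w, .v, .v, .o, .o, .o, .v, .w, .o, .o, .o, .w, .w, .i, .v, .v, .i, .o, .i, .w, .i, .i, .v, .v, .v, .v, .w, .i, .o, .v, .i, .w, .w, .v, .i, .w, .v, .w, .i, .o, .i, .o, .w, .o, .w, .i, .w, .w, .w, .i, .o, .i, .v, .i]⟩
def q1_3 : MatD 14 K4 := ⟨[.o, .w, .i, .i, .w, .o, .i, .i, .i, .v, .w, .i, .v, .i, .v, .o, .i, .w, .w, .o, .i, .i, .i, .v, .v, .i, .i, .i, .i, .i, .i, .o, .v, .w, .w, .v, .i, .i, .v, .i, .i, .w, .i, .v, .v, .i, .v, .o, .v, .v, .o, .v, .w, .v, .v, .i, .i, .i, .i, .w, .v, .o, .i, .v, .v, .i, .i, .v, .v, .i, .v, .w, .o, .v, .v, .o, .i, .o, .w, .w, .i, .i, .w, .v, .v, .v, .i, .w, .i, .w, .w, .v, .w, .v, .w, .i, .v, .i, .i, .i, .w, .i, .i, .v, .i, .i, .v, .w, .w, .v, .o, .i, .i, .i, .i, .w, .i,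 .o, .i, .v, .i, .v, .o, .v, .v, .v, .i, .i, .w, .w, .i, .o, .w, .i, .i, .w, .i, .i, .v, .w, .o, .o, .o, .o, .v, .o, .o, .o, .v, .w, .o, .o, .o, .w, .w, .w, .w, .w, .w, .v, .i, .i, .i, .i, .v, .v, .v, .v, .w, .i, .w, .w, .w, .o, .w, .w, .i, .w, .v, .w, .i, .o, .i, .i, .w, .w, .w, .o, .w, .i, .w, .i, .o, .i, .v, .i]⟩
def q1_4 : MatD 14 K4 := ⟨[.o, .i, .o, .i, .v, .i, .o, .v, .i, .o, .o, .i, .o, .o, .i, .w, .w, .o, .o, .o, .w, .o, .o, .i, .o, .o, .o, .w, .w, .v, .v, .v, .v, .o, .v, .w, .w, .w, .i, .w, .w, .v, .o, .w, .o, .w, .i, .v, .v, .w, .v, .i, .v, .i, .i, .w, .o, .v, .i, .v, .w, .v, .w, .w, .i, .o, .i, .i, .i, .w, .o, .i, .i, .v, .o, .i, .o, .o, .v, .v, .w, .i, .v, .i, .i, .w, .w, .i, .o, .i, .w, .w, .w, .i, .v, .o, .i, .w, .o, .v, .v, .i, .o, .i, .w, .o, .i, .w, .v, .i, .v, .w, .o, .v, .v, .w, .i, .w, .v,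 .i, .v, .v, .v, .v, .v, .o, .w, .v, .v, .w, .i, .i, .v, .o, .w, .w, .o, .w, .v, .v, .o, .w, .o, .o, .o, .i, .v, .v, .o, .i, .o, .w, .w, .w, .o, .i, .i, .v, .o, .v, .i, .o, .v, .v, .w, .v, .w, .w, .o, .i, .i, .o, .o, .w, .o, .o, .o, .v, .o, .w, .i, .i, .i, .w, .w, .i, .v, .i, .w, .i, .i, .i, .o, .v, .w, .w]⟩
def q1_5 : MatD 14 K4 := ⟨[.o, .i, .o, .o, .v, .o, .o, .v, .i, .o, .o, .i, .o, .o, .i, .o, .i, .o, .o, .o, .w, .o, .o, .i, .o, .o, .o, .w, .w, .o, .w, .i, .w, .w, .v, .o, .w, .w, .i, .w, .w, .v, .o, .o, .w, .i, .w, .w, .v, .v, .v, .i, .v, .i, .i, .w, .o, .i, .v, .w, .v, .w, .w, .v, .i, .o, .i, .i, .i, .w, .o, .o, .o, .o, .w, .o, .o, .v, .v, .v, .w, .i, .v, .i, .i, .o, .i, .v, .v, .i, .w, .v, .w, .i, .v, .o, .i, .w, .o, .i, .i, .o, .v, .o, .w, .v, .i, .w, .v, .i, .v, .w, .o, .v, .v, .i, .w, .i, .v, .w, .v,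 .v, .v, .v, .v, .o, .w, .o, .w, .o, .i, .v, .v, .v, .w, .w, .o, .w, .v, .v, .o, .o, .w, .o, .o, .v, .v, .i, .o, .i, .o, .w, .w, .w, .o, .v, .v, .o, .w, .o, .i, .w, .v, .v, .w, .v, .w, .w, .o, .o, .o, .o, .o, .o, .o, .i, .o, .v, .o, .w, .i, .i, .i, .o, .i, .o, .v, .w, .w, .v, .i, .i, .o, .v, .w, .w]⟩
def q1_6 : MatD 14 K4 := ⟨[.w, .i, .w, .i, .i, .w, .v, .v, .v, .w, .i, .v, .w, .v, .i, .o, .i, .o, .o, .o, .w, .o, .o, .i, .o, .o, .o, .w, .w, .o, .w, .i, .w, .w, .v, .o, .w, .w, .i, .w, .w, .v, .o, .o, .w, .i, .w, .w, .v, .v, .v, .i, .v, .i, .i, .w, .o, .i, .v, .w, .v, .w, .w, .v, .i, .o, .i, .i, .i, .w, .o, .o, .o, .o, .w, .o, .o, .v, .v, .v, .w, .i, .v, .i, .i, .o, .i, .v, .v, .i, .w, .v, .w, .i, .v, .o, .i, .w, .o, .i, .i, .o, .v, .o, .w, .v, .i, .w, .v, .i, .v, .w, .o, .v, .i, .o, .o, .v, .o, .i, .o, .w, .o,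 .w, .w, .w, .w, .o, .w, .o, .i, .v, .v, .v, .w, .w, .o, .w, .v, .v, .o, .i, .i, .w, .v, .i, .i, .w, .i, .i, .i, .v, .v, .o, .o, .v, .v, .o, .o, .o, .i, .i, .o, .o, .o, .w, .i, .v, .o, .i, .i, .o, .v, .o, .w, .w, .i, .i, .v, .v, .w, .v, .w, .o, .w, .i, .i, .o, .v, .v, .v, .w, .i, .i, .o, .v]⟩
def q1_7 : MatD 14 K4 := ⟨[.w, .w, .v, .w, .o, .i, .v, .i, .v, .w, .i, .v, .w, .v, .i, .w, .w, .o, .o, .o, .w, .o, .o, .i, .o, .o, .o, .w, .w, .v, .v, .v, .v, .o, .v, .w, .w, .w, .i, .w, .w, .v, .o, .w, .o, .w, .i, .v, .v, .w, .v, .i, .v, .i, .i, .w, .o, .v, .i, .v, .w, .v, .w, .w, .i, .o, .i, .i, .i, .w, .o, .i, .i, .v, .o, .i, .o, .o, .v, .v, .w, .i, .v, .i, .i, .w, .w, .i, .o, .i, .w, .w, .w, .i, .v, .o, .i, .w, .o, .v, .v, .i, .o, .i, .w, .o, .i, .w, .v, .i, .v, .w, .o, .i, .v, .o, .o, .i, .o, .v, .o, .w, .o, .w, .w,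 .w, .w, .v, .v, .w, .i, .i, .v, .o, .w, .w, .o, .w, .v, .v, .o, .i, .i, .v, .w, .w, .i, .i, .i, .i, .i, .v, .v, .o, .o, .o, .o, .o, .o, .w, .i, .o, .o, .o, .o, .w, .i, .v, .o, .w, .w, .i, .o, .v, .w, .o, .i, .i, .v, .v, .w, .v, .w, .v, .v, .w, .o, .i, .v, .v, .v, .w, .i, .i, .o, .v]⟩
def q1_8 : MatD 14 K4 := ⟨[.i, .v, .o, .i, .i, .w, .v, .w, .o, .w, .i, .o, .w, .v, .v, .o, .i, .w, .w, .o, .i, .i, .i, .v, .v, .i, .i, .i, .i, .i, .i, .o, .v, .w, .w, .v, .i, .i, .v, .i, .i, .w, .i, .v, .v, .i, .v, .o, .v, .v, .o, .v, .w, .v, .v, .i, .i, .i, .i, .w, .v, .o, .i, .v, .v, .i, .i, .v, .v, .i, .v, .w, .o, .v, .v, .o, .i, .o, .w, .w, .i, .i, .w, .v, .v, .v, .i, .w, .i, .w, .w, .v, .w, .v, .w, .i, .v, .i, .i, .i, .w, .i, .i, .v, .i, .i, .v, .w, .w, .v, .o, .i, .o, .w, .w, .v, .w, .o, .w, .o, .i, .o, .w, .o, .o, .w, .i,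 .i, .w, .w, .i, .o, .w, .i, .i, .w, .i, .i, .v, .w, .i, .i, .i, .w, .o, .o, .i, .v, .o, .v, .i, .v, .v, .v, .i, .o, .w, .i, .i, .v, .o, .i, .v, .v, .w, .w, .i, .o, .v, .o, .o, .v, .v, .v, .v, .v, .w, .o, .i, .i, .i, .i, .v, .o, .w, .o, .v, .w, .i, .v, .w, .v, .o, .i, .v, .w]⟩
def q1_9 : MatD 14 K4 := ⟨[.i, .o, .w, .i, .o, .w, .v, .o, .o, .w, .i, .o, .w, .v, .v, .i, .v, .v, .i, .i, .i, .o, .i, .v, .v, .i, .i, .i, .i, .v, .w, .i, .o, .v, .w, .w, .i, .i, .v, .i, .i, .w, .i, .w, .v, .i, .i, .v, .v, .o, .o, .v, .w, .v, .v, .i, .i, .o, .i, .i, .w, .v, .i, .o, .v, .i, .i, .v, .v, .i, .v, .i, .o, .i, .w, .i, .i, .w, .w, .w, .i, .i, .w, .v, .v, .w, .v, .o, .v, .v, .w, .o, .w, .v, .w, .i, .v, .i, .i, .o, .w, .w, .v, .o, .i, .i, .v, .w, .w, .v, .o, .i, .o, .o, .o, .w, .o, .o, .w, .o, .i, .o, .w, .o, .o, .w, .i, .v, .i,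 .v, .o, .i, .w, .w, .i, .w, .i, .i, .v, .w, .i, .w, .v, .w, .i, .v, .i, .o, .o, .v, .i, .v, .v, .v, .i, .o, .v, .w, .v, .i, .o, .o, .v, .v, .w, .w, .i, .o, .v, .i, .w, .i, .w, .w, .v, .w, .w, .o, .i, .i, .i, .i, .v, .w, .v, .w, .v, .v, .i, .o, .w, .v, .o, .i, .v, .w]⟩
theorem s1_1 : (MatD.one : MatD 14 K4).mul (dlM D D (G24PJ2.dec 0)) = q1_1 := by decide +kernel
theorem s1_2 : (q1_1 : MatD 14 K4).mul (dlM D D (G24PJ2.dec 2)) = q1_2 := by decide +kernel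
theorem s1_3 : (q1_2 : MatD 14 K4).mul (dlM D D (G24PJ2.dec 0)) = q1_3 := by decide +kernel
theorem s1_4 : (q1_3 : MatD 14 K4).mul (dlM D D (G24PJ2.dec 2)) = q1_4 := by decide +kernel
theorem s1_5 : (q1_4 : MatD 14 K4).mul (dlM D D (G24PJ2.dec 0)) = q1_5 := by decide +kernel
theorem s1_6 : (q1_5 : MatD 14 K4).mul (dlM D D (G24PJ2.dec 2)) = q1_6 := by decide +kernel
theorem s1_7 : (q1_6 : MatD 14 K4).mul (dlM D D (G24PJ2.dec 0)) = q1_7 := by decide +kernel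
theorem s1_8 : (q1_7 : MatD 14 K4).mul (dlM D D (G24PJ2.dec 2)) = q1_8 := by decide +kernel
theorem s1_9 : (q1_8 : MatD 14 K4).mul (dlM D D (G24PJ2.dec 0)) = q1_9 := by decide +kernel
theorem s1_10 : (q1_9 : MatD 14 K4).mul (dlM D D (G24PJ2.dec 2)) = MatD.one := by decide +kernel
theorem r1 : MatD.evM (dlM D D) (([2, 0, 2, 0, 2, 0, 2, 0, 2, 0] : List ℕ).map G24PJ2.dec) = MatD.one := by
  refine evM_step s1_10 ?_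
  refine evM_step s1_9 ?_
  refine evM_step s1_8 ?_
  refine evM_step s1_7 ?_
  refine evM_step s1_6 ?_
  refine evM_step s1_5 ?_
  refine evM_step s1_4 ?_
  refine evM_step s1_3 ?_
  refine evM_step s1_2 ?_
  refine evM_step s1_1 ?_
  rfl

def q2_1 : MatD 14 K4 := ⟨[.i, .o, .i, .o, .o, .o, .o, .o, .o, .o, .o, .o, .o, .o, .o, .i, .o, .o, .o, .o, .o, .o, .o, .o, .o, .o, .o, .o, .o, .o, .i, .o, .o, .o, .o, .o, .o, .o, .o, .o, .o, .o, .o, .o, .o, .i, .o, .o, .o, .o, .o, .o, .o, .o, .o, .o, .o, .o, .o, .o, .i, .o, .o, .o, .o, .o, .o, .o, .o, .o, .o, .o, .o, .o, .o, .i, .o, .o, .o, .o, .o, .o, .o, .o, .o, .o, .o, .o, .o, .o, .i, .o, .o, .o, .o, .o, .o, .o, .o, .o, .o, .o, .o, .o, .o, .i, .o, .o, .o, .o, .o, .o, .o, .o, .o, .i, .o, .o, .o, .o, .i, .o, .o, .o, .o, .o, .o, .o, .o, .o, .o, .o, .o, .o, .o, .i, .o, .o,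 .o, .o, .o, .o, .o, .o, .i, .o, .o, .o, .o, .o, .i, .o, .o, .o, .o, .o, .o, .o, .o, .i, .o, .o, .o, .o, .o, .i, .o, .o, .o, .o, .o, .o, .o, .o, .o, .i, .o, .o, .o, .o, .i, .o, .o, .i, .i, .o, .o, .o, .o, .o, .o, .o, .o, .o, .o, .i]⟩
def q2_2 : MatD 14 K4 := ⟨[.i, .o, .o, .i, .o, .o, .o, .o, .o, .o, .o, .o, .o, .o, .o, .i, .o, .i, .o, .o, .o, .o, .o, .o, .o, .o, .o, .o, .o, .o, .i, .o, .o, .o, .o, .o, .o, .o, .o, .o, .o, .o, .o, .o, .o, .i, .o, .o, .o, .o, .o, .o, .o, .o, .o, .o, .o, .o, .o, .o, .i, .o, .o, .o, .o, .o, .o, .o, .o, .o, .o, .o, .o, .o, .o, .i, .o, .o, .o, .o, .o, .o, .o, .o, .o, .o, .o, .o, .o, .o, .i, .o, .o, .o, .o, .o, .o, .o, .o, .o, .i, .o, .o, .o, .o, .i, .o, .o, .o, .o, .o, .o, .o, .o, .o, .o, .o, .o, .o, .o, .i, .o, .o, .o, .o, .o, .o, .o, .o, .o, .i, .o, .o, .o, .o, .i, .o, .o, .o, .o,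 .o, .o, .o, .o, .o, .o, .o, .o, .o, .o, .i, .o, .o, .o, .o, .o, .o, .o, .o, .o, .i, .o, .o, .o, .o, .i, .o, .o, .i, .i, .o, .i, .o, .o, .o, .o, .o, .o, .o, .o, .i, .o, .o, .o, .o, .o, .o, .o, .o, .o, .i, .o, .o, .o, .o, .i]⟩
def q2_3 : MatD 14 K4 := ⟨[.i, .o, .i, .i, .o, .o, .o, .o, .o, .o, .o, .o, .o, .o, .o, .i, .o, .i, .o, .o, .o, .o, .o, .o, .o, .o, .o, .o, .o, .o, .i, .o, .o, .o, .o, .o, .o, .o, .o, .o, .o, .o, .o, .o, .o, .i, .o, .o, .o, .o, .o, .o, .o, .o, .o, .o, .o, .o, .o, .o, .i, .o, .o, .o, .o, .o, .o, .o, .o, .o, .o, .o, .o, .o, .o, .i, .o, .o, .o, .o, .o, .o, .o, .o, .o, .o, .o, .o, .o, .o, .i, .o, .o, .o, .o, .o, .o, .o, .o, .o, .i, .o, .o, .o, .o, .i, .o, .o, .o, .o, .o, .o, .o, .o, .o, .i, .o, .o, .o, .o, .i, .o, .o, .o, .o, .o, .o, .o, .o, .o, .i, .o, .o, .o, .o, .i, .o, .o, .o, .o, .o, .o,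 .o, .o, .i, .o, .o, .o, .o, .o, .i, .o, .o, .o, .o, .o, .o, .o, .o, .i, .i, .o, .o, .o, .o, .i, .o, .o, .i, .i, .i, .i, .o, .o, .o, .i, .o, .o, .o, .o, .i, .o, .o, .i, .i, .i, .o, .o, .o, .o, .i, .o, .o, .o, .o, .i]⟩
theorem s2_1 : (MatD.one : MatD 14 K4).mul (dlM D D (G24PJ2.dec 0)) = q2_1 := by decide +kernel
theorem s2_2 : (q2_1 : MatD 14 K4).mul (dlM D D (G24PJ2.dec 4)) = q2_2 := by decide +kernel
theorem s2_3 : (q2_2 : MatD 14 K4).mul (dlM D D (G24PJ2.dec 0)) = q2_3 := by decide +kernel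
theorem s2_4 : (q2_3 : MatD 14 K4).mul (dlM D D (G24PJ2.dec 4)) = MatD.one := by decide +kernel
theorem r2 : MatD.evM (dlM D D) (([4, 0, 4, 0] : List ℕ).map G24PJ2.dec) = MatD.one := by
  refine evM_step s2_4 ?_
  refine evM_step s2_3 ?_
  refine evM_step s2_2 ?_
  refine evM_step s2_1 ?_
  rfl

def q5_1 : MatD 14 K4 := ⟨[.i, .o, .i, .o, .o, .o, .o, .o, .o, .o, .o, .o, .o, .o, .o, .i, .o, .o, .o, .o, .o, .o, .o, .o, .o, .o, .o, .o, .o, .o, .i, .o, .o, .o, .o, .o, .o, .o, .o, .o, .o, .o, .o, .o, .o, .i, .o, .o, .o, .o, .o, .o, .o, .o, .o, .o, .o, .o, .o, .o, .i, .o, .o, .o, .o, .o, .o, .o, .o, .o, .o, .o, .o, .o, .o, .i, .o, .o, .o, .o, .o, .o, .o, .o, .o, .o, .o, .o, .o, .o, .i, .o, .o, .o, .o, .o, .o, .o, .o, .o, .o, .o, .o, .o, .o, .i, .o, .o, .o, .o, .o, .o, .o, .o, .o, .i, .o, .o, .o, .o, .i, .o, .o, .o,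 .o, .o, .o, .o, .o, .o, .o, .o, .o, .o, .o, .i, .o, .o, .o, .o, .o, .o, .o, .o, .i, .o, .o, .o, .o, .o, .i, .o, .o, .o, .o, .o, .o, .o, .o, .i, .o, .o, .o, .o, .o, .i, .o, .o, .o, .o, .o, .o, .o, .o, .o, .i, .o, .o, .o, .o, .i, .o, .o, .i, .i, .o, .o, .o, .o, .o, .o, .o, .o, .o, .o, .i]⟩
def q5_2 : MatD 14 K4 := ⟨[.i, .o, .v, .o, .o, .o, .o, .o, .o, .o, .o, .o, .o, .o, .o, .i, .o, .o, .o, .o, .o, .o, .o, .o, .o, .o, .o, .o, .o, .o, .i, .o, .o, .o, .o, .o, .o, .o, .o, .o, .o, .o, .o, .o, .o, .i, .o, .o, .o, .o, .o, .o, .o, .o, .o, .o, .o, .o, .o, .o, .i, .o, .o, .o, .o, .o, .o, .o, .o, .o, .o, .o, .o, .o, .o, .i, .o, .o, .o, .o, .o, .o, .o, .o, .o, .o, .o, .o, .o, .o, .i, .o, .o, .o, .o, .o, .o, .o, .o, .o, .o, .o, .o, .o, .o, .i, .o, .o, .o, .o, .o, .o, .o, .o, .o, .v, .o, .o, .o, .o, .i, .o, .o, .o, .o, .o,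 .o, .o, .o, .o, .o, .o, .o, .o, .o, .i, .o, .o, .o, .o, .o, .o, .o, .o, .v, .o, .o, .o, .o, .o, .i, .o, .o, .o, .o, .o, .o, .o, .o, .v, .o, .o, .o, .o, .o, .i, .o, .o, .o, .o, .o, .o, .o, .o, .o, .v, .o, .o, .o, .o, .i, .o, .o, .v, .w, .o, .o, .o, .o, .o, .o, .o, .o, .o, .o, .i]⟩
def q5_3 : MatD 14 K4 := ⟨[.i, .o, .w, .o, .o, .o, .o, .o, .o, .o, .o, .o, .o, .o, .o, .i, .o, .o, .o, .o, .o, .o, .o, .o, .o, .o, .o, .o, .o, .o, .i, .o, .o, .o, .o, .o, .o, .o, .o, .o, .o, .o, .o, .o, .o, .i, .o, .o, .o, .o, .o, .o, .o, .o, .o, .o, .o, .o, .o, .o, .i, .o, .o, .o, .o, .o, .o, .o, .o, .o, .o, .o, .o, .o, .o, .i, .o, .o, .o, .o, .o, .o, .o, .o, .o, .o, .o, .o, .o, .o, .i, .o, .o, .o, .o, .o, .o, .o, .o, .o, .o, .o, .o, .o, .o, .i, .o, .o, .o, .o, .o, .o, .o, .o, .o, .w, .o, .o, .o, .o, .i, .o, .o, .o, .o, .o, .o, .o,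 .o, .o, .o, .o, .o, .o, .o, .i, .o, .o, .o, .o, .o, .o, .o, .o, .w, .o, .o, .o, .o, .o, .i, .o, .o, .o, .o, .o, .o, .o, .o, .w, .o, .o, .o, .o, .o, .i, .o, .o, .o, .o, .o, .o, .o, .o, .o, .w, .o, .o, .o, .o, .i, .o, .o, .w, .v, .o, .o, .o, .o, .o, .o, .o, .o, .o, .o, .i]⟩
theorem s5_1 : (MatD.one : MatD 14 K4).mul (dlM D D (G24PJ2.dec 0)) = q5_1 := by decide +kernel
theorem s5_2 : (q5_1 : MatD 14 K4).mul (dlM D D (G24PJ2.dec 10)) = q5_2 := by decide +kernel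
theorem s5_3 : (q5_2 : MatD 14 K4).mul (dlM D D (G24PJ2.dec 0)) = q5_3 := by decide +kernel
theorem s5_4 : (q5_3 : MatD 14 K4).mul (dlM D D (G24PJ2.dec 10)) = MatD.one := by decide +kernel
theorem r5 : MatD.evM (dlM D D) (([10, 0, 10, 0] : List ℕ).map G24PJ2.dec) = MatD.one := by
  refine evM_step s5_4 ?_
  refine evM_step s5_3 ?_
  refine evM_step s5_2 ?_
  refine evM_step s5_1 ?_
  rfl

def q7_1 : MatD 14 K4 := ⟨[.i, .o, .w, .i, .o, .w, .v, .o, .o, .w, .i, .o, .w, .v, .v, .i, .v, .v, .i, .i, .i, .o, .i, .v, .v, .i, .i, .i, .i, .v, .w, .i, .o, .v, .w, .w, .i, .i, .v, .i, .i, .w, .i, .w, .v, .i, .i, .v, .v, .o, .o, .v, .w, .v, .v, .i, .i, .o, .i, .i, .w, .v, .i, .o, .v, .i, .i, .v, .v, .i, .v, .i, .o, .i, .w, .i, .i, .w, .w, .w, .i, .i, .w, .v, .v, .w, .v, .o, .v, .v, .w, .o, .w, .v, .w, .i, .v, .i, .i, .o,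 .w, .w, .v, .o, .i, .i, .v, .w, .w, .v, .o, .i, .o, .o, .o, .w, .o, .o, .w, .o, .i, .o, .w, .o, .o, .w, .i, .v, .i, .v, .o, .i, .w, .w, .i, .w, .i, .i, .v, .w, .i, .w, .v, .w, .i, .v, .i, .o, .o, .v, .i, .v, .v, .v, .i, .o, .v, .w, .v, .i, .o, .o, .v, .v, .w, .w, .i, .o, .v, .i, .w, .i, .w, .w, .v, .w, .w, .o, .i, .i, .i, .i, .v, .w, .v, .w, .v, .v, .i, .o, .w, .v, .o, .i, .v, .w]⟩
theorem s7_1 : (MatD.one : MatD 14 K4).mul (dlM D D (G24PJ2.dec 2)) = q7_1 := by decide +kernel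
theorem s7_2 : (q7_1 : MatD 14 K4).mul (dlM D D (G24PJ2.dec 2)) = MatD.one := by decide +kernel
theorem r7 : MatD.evM (dlM D D) (([2, 2] : List ℕ).map G24PJ2.dec) = MatD.one := by
  refine evM_step s7_2 ?_
  refine evM_step s7_1 ?_
  rfl

def q8_1 : MatD 14 K4 := ⟨[.i, .o, .w, .i, .o, .w, .v, .o, .o, .w, .i, .o, .w, .v, .v, .i, .v, .v, .i, .i, .i, .o, .i, .v, .v, .i, .i, .i, .i, .v, .w, .i, .o, .v, .w, .w, .i, .i, .v, .i, .i, .w, .i, .w, .v, .i, .i, .v, .v, .o, .o, .v, .w, .v, .v, .i, .i, .o, .i, .i, .w, .v, .i, .o, .v, .i, .i, .v, .v, .i, .v, .i, .o, .i, .w, .i, .i, .w, .w, .w, .i, .i, .w, .v, .v, .w, .v, .o, .v, .v, .w, .o, .w, .v, .w, .i, .v, .i, .i, .o, .w, .w, .v, .o, .i, .i, .v, .w, .w, .v, .o, .i, .o, .o, .o, .w, .o, .o, .w, .o, .i, .o, .w, .o, .o, .w, .i, .v, .i, .v, .o, .i, .w, .w, .i, .w, .i, .i,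 .v, .w, .i, .w, .v, .w, .i, .v, .i, .o, .o, .v, .i, .v, .v, .v, .i, .o, .v, .w, .v, .i, .o, .o, .v, .v, .w, .w, .i, .o, .v, .i, .w, .i, .w, .w, .v, .w, .w, .o, .i, .i, .i, .i, .v, .w, .v, .w, .v, .v, .i, .o, .w, .v, .o, .i, .v, .w]⟩
def q8_2 : MatD 14 K4 := ⟨[.v, .i, .w, .i, .v, .w, .v, .w, .v, .w, .i, .o, .w, .v, .w, .i, .o, .o, .i, .o, .o, .i, .o, .v, .v, .i, .i, .i, .o, .o, .w, .i, .w, .w, .v, .v, .v, .i, .v, .i, .i, .w, .w, .o, .o, .o, .o, .o, .o, .v, .i, .v, .w, .v, .v, .i, .w, .w, .w, .i, .w, .o, .w, .v, .w, .i, .i, .v, .v, .i, .i, .o, .o, .o, .i, .o, .o, .o, .i, .w, .i, .i, .w, .v, .o, .o, .w, .i, .w, .w, .v, .v, .v, .v, .w, .i, .v, .i, .i, .i, .v, .i, .v, .v, .w, .i, .w, .w, .w, .v, .o, .i, .o, .w, .w, .i, .w, .o, .w, .o, .v, .o, .w, .o, .o, .w, .w, .w, .v, .i, .v, .o, .v, .i, .v, .w, .i, .i, .v, .w,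 .w, .w, .w, .i, .v, .o, .w, .v, .v, .v, .i, .v, .v, .v, .o, .i, .v, .i, .w, .v, .w, .i, .v, .v, .w, .w, .i, .o, .w, .i, .v, .i, .v, .v, .w, .v, .v, .o, .i, .i, .i, .i, .o, .v, .i, .o, .o, .w, .o, .v, .o, .v, .o, .i, .v, .w]⟩
def q8_3 : MatD 14 K4 := ⟨[.i, .i, .o, .o, .i, .o, .o, .w, .i, .o, .o, .w, .o, .o, .o, .i, .o, .o, .i, .o, .o, .w, .i, .o, .i, .w, .w, .o, .o, .o, .w, .i, .w, .w, .v, .v, .v, .i, .v, .i, .i, .w, .w, .o, .o, .o, .o, .o, .o, .v, .i, .v, .w, .v, .v, .i, .w, .w, .w, .i, .w, .o, .w, .v, .w, .i, .i, .v, .v, .i, .i, .o, .o, .o, .i, .o, .o, .o, .i, .w, .i, .i, .w, .v, .o, .o, .w, .i, .w, .w, .v, .v, .v, .v, .w, .i, .v, .i, .i, .i, .i, .o, .i, .i, .i, .w, .i, .v, .i, .w, .i, .v, .w, .w, .w, .i, .w, .o, .w, .v, .w, .v, .o, .v, .v, .v, .o, .o, .i, .o, .i, .o, .i, .w, .i, .v, .o, .w, .o, .v, .o, .o,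 .o, .o, .i, .o, .o, .o, .i, .w, .o, .o, .o, .w, .i, .i, .i, .o, .i, .i, .i, .w, .i, .w, .i, .w, .o, .w, .o, .o, .o, .o, .o, .o, .o, .i, .o, .i, .o, .i, .o, .i, .o, .o, .i, .o, .i, .o, .i, .w, .i, .w, .o, .w, .o, .w]⟩
def q8_4 : MatD 14 K4 := ⟨[.i, .i, .v, .i, .i, .w, .w, .w, .i, .o, .o, .w, .o, .o, .w, .v, .o, .w, .o, .w, .w, .o, .i, .o, .i, .w, .w, .o, .i, .v, .w, .i, .o, .v, .w, .w, .i, .i, .v, .i, .i, .w, .i, .w, .v, .i, .i, .v, .v, .o, .o, .v, .w, .v, .v, .i, .i, .o, .i, .i, .w, .v, .i, .o, .v, .i, .i, .v, .v, .i, .v, .i, .o, .i, .w, .i, .i, .w, .w, .w, .i, .i, .w, .v, .v, .w, .v, .o, .v, .v, .w, .o, .w, .v, .w, .i, .v, .i, .o, .v, .o, .v, .v, .v, .v, .v, .w, .v, .i, .w, .i, .v, .i, .w, .v, .v, .i, .v, .i, .o, .i, .v, .o, .v, .v, .v, .o, .v, .o, .w, .w, .w, .v, .w, .w, .v, .o, .w, .o, .v, .o, .w, .w, .v,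 .v, .o, .o, .o, .v, .w, .o, .o, .o, .w, .i, .v, .o, .v, .w, .v, .v, .w, .v, .w, .i, .w, .o, .w, .o, .i, .o, .i, .i, .i, .i, .i, .i, .i, .o, .i, .o, .i, .o, .w, .i, .v, .v, .w, .v, .w, .v, .w, .o, .w, .o, .w]⟩
def q8_5 : MatD 14 K4 := ⟨[.i, .o, .i, .i, .o, .o, .o, .o, .o, .o, .o, .o, .o, .o, .o, .i, .o, .i, .o, .o, .o, .o, .o, .o, .o, .o, .o, .o, .o, .o, .i, .o, .o, .o, .o, .o, .o, .o, .o, .o, .o, .o, .o, .o, .o, .i, .o, .o, .o, .o, .o, .o, .o, .o, .o, .o, .o, .o, .o, .o, .i, .o, .o, .o, .o, .o, .o, .o, .o, .o, .o, .o, .o, .o, .o, .i, .o, .o, .o, .o, .o, .o, .o, .o, .o, .o, .o, .o, .o, .o, .i, .o, .o, .o, .o, .o, .o, .o, .o, .o, .i, .o, .o, .o, .o, .i, .o, .o, .o, .o, .o, .o, .o, .o, .o, .i, .o, .o, .o, .o, .i, .o, .o, .o, .o, .o, .o, .o, .o, .o, .i, .o, .o, .o, .o, .i, .o, .o, .o, .o, .o, .o, .o, .o, .i, .o,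 .o, .o, .o, .o, .i, .o, .o, .o, .o, .o, .o, .o, .o, .i, .i, .o, .o, .o, .o, .i, .o, .o, .i, .i, .i, .i, .o, .o, .o, .i, .o, .o, .o, .o, .i, .o, .o, .i, .i, .i, .o, .o, .o, .o, .i, .o, .o, .o, .o, .i]⟩
theorem s8_1 : (MatD.one : MatD 14 K4).mul (dlM D D (G24PJ2.dec 2)) = q8_1 := by decide +kernel
theorem s8_2 : (q8_1 : MatD 14 K4).mul (dlM D D (G24PJ2.dec 4)) = q8_2 := by decide +kernel
theorem s8_3 : (q8_2 : MatD 14 K4).mul (dlM D D (G24PJ2.dec 2)) = q8_3 := by decide +kernel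
theorem s8_4 : (q8_3 : MatD 14 K4).mul (dlM D D (G24PJ2.dec 4)) = q8_4 := by decide +kernel
theorem s8_5 : (q8_4 : MatD 14 K4).mul (dlM D D (G24PJ2.dec 2)) = q8_5 := by decide +kernel
theorem s8_6 : (q8_5 : MatD 14 K4).mul (dlM D D (G24PJ2.dec 4)) = MatD.one := by decide +kernel
theorem r8 : MatD.evM (dlM D D) (([4, 2, 4, 2, 4, 2] : List ℕ).map G24PJ2.dec) = MatD.one := by
  refine evM_step s8_6 ?_
  refine evM_step s8_5 ?_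
  refine evM_step s8_4 ?_
  refine evM_step s8_3 ?_
  refine evM_step s8_2 ?_
  refine evM_step s8_1 ?_
  rfl

def q12_1 : MatD 14 K4 := ⟨[.i, .o, .i, .i, .o, .o, .o, .o, .o, .o, .o, .o, .o, .o, .o, .i, .o, .i, .o, .o, .o, .o, .o, .o, .o, .o, .o, .o, .o, .o, .i, .o, .o, .o, .o, .o, .o, .o, .o, .o, .o, .o, .o, .o, .o, .i, .o, .o, .o, .o, .o, .o, .o, .o, .o, .o, .o, .o, .o, .o, .i, .o, .o, .o, .o, .o, .o, .o, .o, .o, .o, .o, .o, .o, .o, .i, .o, .o, .o, .o, .o, .o, .o, .o, .o, .o, .o, .o, .o, .o, .i, .o, .o, .o, .o, .o, .o, .o, .o, .o, .i, .o, .o, .o, .o, .i, .o, .o, .o, .o, .o, .o, .o, .o, .o, .i, .o, .o, .o, .o, .i, .o, .o, .o, .o, .o, .o, .o, .o, .o, .i, .o, .o, .o, .o, .i, .o, .o, .o, .o, .o, .o, .o, .o, .i, .o, .o, .o, .o, .o, .i, .o, .o, .o, .o, .o, .o, .o, .o, .i, .i, .o, .o, .o, .o, .i, .o, .o, .i, .i,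 .i, .i, .o, .o, .o, .i, .o, .o, .o, .o, .i, .o, .o, .i, .i, .i, .o, .o, .o, .o, .i, .o, .o, .o, .o, .i]⟩
def q12_2 : MatD 14 K4 := ⟨[.i, .o, .o, .i, .o, .o, .o, .o, .o, .o, .o, .o, .o, .o, .o, .i, .o, .i, .o, .o, .o, .o, .o, .o, .o, .o, .o, .o, .o, .o, .i, .o, .o, .o, .o, .o, .o, .o, .o, .o, .o, .o, .o, .o, .o, .i, .o, .o, .o, .o, .o, .o, .o, .o, .o, .o, .o, .o, .o, .o, .i, .o, .o, .o, .o, .o, .o, .o, .o, .o, .o, .o, .o, .o, .o, .i, .o, .o, .o, .o, .o, .o, .o, .o, .o, .o, .o, .o, .o, .o, .i, .o, .o, .o, .o, .o, .o, .o, .o, .o, .i, .o, .o, .o, .o, .i, .o, .o, .o, .o, .o, .o, .o, .o, .o, .o, .o, .o, .o, .o, .i, .o, .o, .o, .o, .o, .o, .o, .o, .o, .i, .o, .o, .o, .o, .i, .o, .o, .o, .o, .o, .o, .o, .o, .o, .o, .o, .o, .o, .o, .i, .o, .o, .o, .o, .o, .o, .o, .o, .o, .i, .o, .o, .o, .o, .i, .o, .o, .i, .i, .o,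 .i, .o, .o, .o, .o, .o, .o, .o, .o, .i, .o, .o, .o, .o, .o, .o, .o, .o, .o, .i, .o, .o, .o, .o, .i]⟩
def q12_3 : MatD 14 K4 := ⟨[.i, .o, .i, .o, .o, .o, .o, .o, .o, .o, .o, .o, .o, .o, .o, .i, .o, .o, .o, .o, .o, .o, .o, .o, .o, .o, .o, .o, .o, .o, .i, .o, .o, .o, .o, .o, .o, .o, .o, .o, .o, .o, .o, .o, .o, .i, .o, .o, .o, .o, .o, .o, .o, .o, .o, .o, .o, .o, .o, .o, .i, .o, .o, .o, .o, .o, .o, .o, .o, .o, .o, .o, .o, .o, .o, .i, .o, .o, .o, .o, .o, .o, .o, .o, .o, .o, .o, .o, .o, .o, .i, .o, .o, .o, .o, .o, .o, .o, .o, .o, .o, .o, .o, .o, .o, .i, .o, .o, .o, .o, .o, .o, .o, .o, .o, .i, .o, .o, .o, .o, .i, .o, .o, .o, .o, .o, .o, .o, .o, .o, .o, .o, .o, .o, .o, .i, .o, .o, .o, .o, .o, .o, .o, .o, .i, .o, .o, .o, .o, .o, .i, .o, .o, .o, .o, .o, .o, .o, .o, .i, .o, .o, .o, .o, .o, .i, .o, .o, .o, .o, .o, .o,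 .o, .o, .o, .i, .o, .o, .o, .o, .i, .o, .o, .i, .i, .o, .o, .o, .o, .o, .o, .o, .o, .o, .o, .i]⟩
theorem s12_1 : (MatD.one : MatD 14 K4).mul (dlM D D (G24PJ2.dec 4)) = q12_1 := by decide +kernel
theorem s12_2 : (q12_1 : MatD 14 K4).mul (dlM D D (G24PJ2.dec 0)) = q12_2 := by decide +kernel
theorem s12_3 : (q12_2 : MatD 14 K4).mul (dlM D D (G24PJ2.dec 4)) = q12_3 := by decide +kernel
theorem s12_4 : (q12_3 : MatD 14 K4).mul (dlM D D (G24PJ2.dec 0)) = MatD.one := by decide +kernel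
theorem r12 : MatD.evM (dlM D D) (([0, 4, 0, 4] : List ℕ).map G24PJ2.dec) = MatD.one := by
  refine evM_step s12_4 ?_
  refine evM_step s12_3 ?_
  refine evM_step s12_2 ?_
  refine evM_step s12_1 ?_
  rfl

def q15_1 : MatD 14 K4 := ⟨[.i, .o, .i, .i, .o, .o, .o, .o, .o, .o, .o, .o, .o, .o, .o, .i, .o, .i, .o, .o, .o, .o, .o, .o, .o, .o, .o, .o, .o, .o, .i, .o, .o, .o, .o, .o, .o, .o, .o, .o, .o, .o, .o, .o, .o, .i, .o, .o, .o, .o, .o, .o, .o, .o, .o, .o, .o, .o, .o, .o, .i, .o, .o, .o, .o, .o, .o, .o, .o, .o, .o, .o, .o, .o, .o, .i, .o, .o, .o, .o, .o, .o, .o, .o, .o, .o, .o, .o, .o, .o, .i, .o, .o, .o, .o, .o, .o, .o, .o, .o, .i, .o, .o, .o, .o, .i, .o, .o, .o, .o, .o, .o, .o, .o, .o, .i, .o, .o, .o, .o, .i, .o, .o, .o, .o, .o, .o, .o, .o, .o, .i, .o, .o, .o, .o, .i, .o, .o, .o, .o, .o, .o, .o, .o, .i, .o,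 .o, .o, .o, .o, .i, .o, .o, .o, .o, .o, .o, .o, .o, .i, .i, .o, .o, .o, .o, .i, .o, .o, .i, .i, .i, .i, .o, .o, .o, .i, .o, .o, .o, .o, .i, .o, .o, .i, .i, .i, .o, .o, .o, .o, .i, .o, .o, .o, .o, .i]⟩
def q15_2 : MatD 14 K4 := ⟨[.i, .o, .i, .i, .w, .i, .o, .w, .o, .w, .o, .o, .o, .o, .o, .i, .i, .i, .v, .i, .o, .w, .o, .o, .o, .o, .o, .o, .o, .o, .i, .o, .o, .o, .o, .o, .o, .o, .o, .o, .o, .o, .o, .o, .v, .i, .w, .v, .o, .i, .o, .o, .o, .o, .o, .o, .o, .o, .w, .o, .i, .o, .o, .v, .o, .o, .o, .o, .o, .o, .o, .o, .i, .o, .o, .i, .o, .w, .o, .o, .o, .o, .o, .o, .o, .w, .o, .i, .w, .o, .i, .o, .o, .v, .o, .o, .o, .o, .o, .o, .i, .o, .o, .o, .o, .i, .o, .o, .o, .o, .o, .o, .v, .v, .o, .w, .o, .o, .w, .o, .i, .o, .w, .v, .i, .o, .o, .o, .v, .o, .i, .o, .o, .i, .o, .i, .o, .o, .o, .o, .w, .w, .o, .i, .o, .o, .o,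 .o, .o, .o, .i, .o, .v, .o, .i, .w, .o, .i, .v, .o, .i, .o, .o, .i, .o, .i, .w, .o, .i, .i, .w, .i, .v, .w, .o, .v, .o, .v, .o, .o, .i, .o, .i, .i, .o, .v, .o, .o, .v, .o, .i, .o, .v, .i, .w, .i]⟩
def q15_3 : MatD 14 K4 := ⟨[.i, .o, .w, .o, .o, .i, .o, .w, .o, .w, .o, .o, .o, .o, .o, .i, .v, .o, .v, .i, .o, .w, .o, .o, .o, .o, .o, .o, .o, .o, .i, .o, .o, .o, .o, .o, .o, .o, .o, .o, .o, .o, .o, .o, .w, .i, .w, .v, .o, .i, .o, .o, .o, .o, .o, .o, .o, .o, .i, .o, .i, .o, .o, .v, .o, .o, .o, .o, .o, .o, .o, .o, .v, .o, .o, .i, .o, .w, .o, .o, .o, .o, .o, .o, .o, .w, .o, .v, .i, .o, .i, .o, .o, .v, .o, .o, .o, .o, .o, .o, .o, .o, .o, .o, .o, .i, .o, .o, .o, .o, .o, .o, .w, .w, .w, .w, .w, .v, .i, .i, .i, .o, .w, .v, .i, .o, .o, .o, .w, .o, .o, .o, .o, .i, .o, .i, .o, .o, .o, .o, .i, .i, .i, .w, .i, .o, .o, .v,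 .o, .o, .i, .o, .v, .o, .v, .o, .v, .o, .w, .i, .o, .w, .o, .i, .o, .i, .w, .o, .o, .o, .i, .o, .o, .w, .o, .w, .o, .v, .o, .o, .i, .o, .v, .w, .w, .i, .v, .i, .w, .w, .o, .o, .v, .i, .w, .i]⟩
def q15_4 : MatD 14 K4 := ⟨[.i, .o, .w, .o, .o, .v, .o, .o, .o, .o, .o, .o, .o, .o, .o, .i, .i, .o, .w, .v, .o, .i, .o, .o, .o, .o, .o, .o, .o, .o, .i, .o, .o, .o, .o, .o, .o, .o, .o, .o, .o, .o, .o, .o, .i, .i, .o, .o, .o, .o, .o, .o, .o, .o, .o, .o, .o, .o, .v, .o, .i, .o, .o, .o, .o, .o, .o, .o, .o, .o, .o, .o, .w, .o, .o, .i, .o, .o, .o, .o, .o, .o, .o, .o, .o, .o, .o, .w, .o, .i, .i, .o, .o, .o, .o, .o, .o, .o, .o, .o, .o, .o, .o, .o, .o, .i, .o, .o, .o, .o, .o, .o, .i, .o, .v, .w, .w, .v, .v, .i, .i, .o, .o, .o, .o, .o, .o, .o, .v, .o, .o, .o, .o, .v, .o, .i, .o, .o, .o, .o, .v, .v, .w, .v, .w, .w, .o, .v, .o,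 .i, .i, .o, .o, .o, .w, .o, .i, .o, .v, .v, .o, .w, .o, .o, .o, .i, .o, .o, .o, .o, .i, .o, .o, .v, .o, .v, .o, .w, .o, .o, .i, .o, .i, .v, .i, .i, .v, .i, .v, .w, .o, .o, .w, .v, .i, .i]⟩
def q15_5 : MatD 14 K4 := ⟨[.i, .o, .v, .i, .o, .v, .o, .o, .o, .o, .o, .o, .o, .o, .o, .i, .o, .i, .w, .v, .o, .i, .o, .o, .o, .o, .o, .o, .o, .o, .i, .o, .o, .o, .o, .o, .o, .o, .o, .o, .o, .o, .o, .o, .i, .i, .o, .o, .o, .o, .o, .o, .o, .o, .o, .o, .o, .o, .v, .o, .i, .o, .o, .o, .o, .o, .o, .o, .o, .o, .o, .o, .w, .o, .o, .i, .o, .o, .o, .o, .o, .o, .o, .o, .o, .o, .o, .w, .o, .i, .i, .o, .o, .o, .o, .o, .o, .o, .o, .o, .i, .o, .o, .o, .o, .i, .o, .o, .o, .o, .o, .o, .i, .o, .v, .w, .w, .v, .v, .i, .i, .o, .o, .o, .o, .o, .o, .o, .o, .o, .i, .o, .o, .v, .o, .i, .o, .o, .o, .o, .v, .v, .w, .v, .w, .w, .o, .v, .o, .i,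 .i, .o, .o, .o, .w, .o, .i, .w, .v, .w, .i, .w, .o, .o, .o, .i, .o, .o, .i, .i, .v, .i, .w, .v, .o, .w, .o, .w, .o, .o, .i, .o, .o, .v, .w, .v, .i, .w, .o, .v, .i, .o, .w, .v, .i, .i]⟩
def q15_6 : MatD 14 K4 := ⟨[.i, .o, .o, .i, .w, .w, .o, .v, .o, .w, .o, .o, .o, .o, .o, .i, .i, .i, .i, .w, .o, .v, .o, .o, .o, .o, .o, .o, .o, .o, .i, .o, .o, .o, .o, .o, .o, .o, .o, .o, .o, .o, .o, .o, .w, .i, .w, .v, .o, .i, .o, .o, .o, .o, .o, .o, .o, .o, .i, .o, .i, .o, .o, .v, .o, .o, .o, .o, .o, .o, .o, .o, .v, .o, .o, .i, .o, .w, .o, .o, .o, .o, .o, .o, .o, .w, .o, .v, .i, .o, .i, .o, .o, .v, .o, .o, .o, .o, .o, .o, .i, .o, .o, .o, .o, .i, .o, .o, .o, .o, .o, .o, .w, .w, .w, .w, .w, .v, .i, .i, .i, .o, .w, .v, .i, .o, .o, .o, .v, .o, .i, .o, .o, .w, .o, .i, .o, .o, .o, .o, .i, .i, .i, .w, .i, .o, .o, .v, .o, .o, .i,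 .o, .v, .o, .v, .w, .v, .v, .v, .i, .i, .w, .o, .w, .o, .i, .w, .o, .i, .i, .w, .i, .i, .i, .o, .v, .o, .i, .o, .o, .i, .o, .i, .o, .o, .v, .i, .w, .v, .v, .i, .o, .i, .w, .v, .i]⟩
def q15_7 : MatD 14 K4 := ⟨[.i, .o, .w, .o, .o, .w, .o, .v, .o, .w, .o, .o, .o, .o, .o, .i, .w, .o, .i, .w, .o, .v, .o, .o, .o, .o, .o, .o, .o, .o, .i, .o, .o, .o, .o, .o, .o, .o, .o, .o, .o, .o, .o, .o, .v, .i, .w, .v, .o, .i, .o, .o, .o, .o, .o, .o, .o, .o, .w, .o, .i, .o, .o, .v, .o, .o, .o, .o, .o, .o, .o, .o, .i, .o, .o, .i, .o, .w, .o, .o, .o, .o, .o, .o, .o, .w, .o, .i, .w, .o, .i, .o, .o, .v, .o, .o, .o, .o, .o, .o, .o, .o, .o, .o, .o, .i, .o, .o, .o, .o, .o, .o, .v, .v, .o, .w, .o, .o, .w, .o, .i, .o, .w, .v, .i, .o, .o, .o, .i, .o, .o, .o, .o, .w, .o, .i, .o, .o, .o, .o, .w, .w, .o, .i, .o, .o, .o, .o, .o, .o, .i, .o,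 .v, .o, .i, .o, .o, .o, .i, .o, .o, .o, .o, .w, .o, .i, .w, .o, .o, .o, .i, .o, .o, .i, .o, .w, .o, .i, .o, .o, .i, .o, .w, .w, .o, .i, .o, .o, .i, .o, .o, .o, .i, .w, .v, .i]⟩
def q15_8 : MatD 14 K4 := ⟨[.i, .o, .i, .o, .o, .o, .o, .o, .o, .o, .o, .o, .o, .o, .o, .i, .o, .o, .o, .o, .o, .o, .o, .o, .o, .o, .o, .o, .o, .o, .i, .o, .o, .o, .o, .o, .o, .o, .o, .o, .o, .o, .o, .o, .o, .i, .o, .o, .o, .o, .o, .o, .o, .o, .o, .o, .o, .o, .o, .o, .i, .o, .o, .o, .o, .o, .o, .o, .o, .o, .o, .o, .o, .o, .o, .i, .o, .o, .o, .o, .o, .o, .o, .o, .o, .o, .o, .o, .o, .o, .i, .o, .o, .o, .o, .o, .o, .o, .o, .o, .o, .o, .o, .o, .o, .i, .o, .o, .o, .o, .o, .o, .o, .o, .o, .i, .o, .o, .o, .o, .i, .o, .o, .o, .o, .o, .o, .o, .o, .o, .o, .o, .o, .o, .o, .i, .o, .o, .o, .o, .o, .o, .o, .o, .i, .o, .o, .o, .o, .o, .i, .o, .o,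 .o, .o, .o, .o, .o, .o, .i, .o, .o, .o, .o, .o, .i, .o, .o, .o, .o, .o, .o, .o, .o, .o, .i, .o, .o, .o, .o, .i, .o, .o, .i, .i, .o, .o, .o, .o, .o, .o, .o, .o, .o, .o, .i]⟩
def q15_9 : MatD 14 K4 := ⟨[.i, .o, .o, .i, .o, .o, .o, .o, .o, .o, .o, .o, .o, .o, .o, .i, .o, .i, .o, .o, .o, .o, .o, .o, .o, .o, .o, .o, .o, .o, .i, .o, .o, .o, .o, .o, .o, .o, .o, .o, .o, .o, .o, .o, .o, .i, .o, .o, .o, .o, .o, .o, .o, .o, .o, .o, .o, .o, .o, .o, .i, .o, .o, .o, .o, .o, .o, .o, .o, .o, .o, .o, .o, .o, .o, .i, .o, .o, .o, .o, .o, .o, .o, .o, .o, .o, .o, .o, .o, .o, .i, .o, .o, .o, .o, .o, .o, .o, .o, .o, .i, .o, .o, .o, .o, .i, .o, .o, .o, .o, .o, .o, .o, .o, .o, .o, .o, .o, .o, .o, .i, .o, .o, .o, .o, .o, .o, .o, .o, .o, .i, .o, .o, .o, .o, .i, .o, .o, .o, .o, .o, .o, .o, .o, .o, .o, .o, .o, .o, .o, .i, .o, .o, .o,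 .o, .o, .o, .o, .o, .o, .i, .o, .o, .o, .o, .i, .o, .o, .i, .i, .o, .i, .o, .o, .o, .o, .o, .o, .o, .o, .i, .o, .o, .o, .o, .o, .o, .o, .o, .o, .i, .o, .o, .o, .o, .i]⟩
def q15_10 : MatD 14 K4 := ⟨[.i, .o, .o, .i, .w, .i, .o, .w, .o, .w, .o, .o, .o, .o, .o, .i, .i, .i, .v, .i, .o, .w, .o, .o, .o, .o, .o, .o, .o, .o, .i, .o, .o, .o, .o, .o, .o, .o, .o, .o, .o, .o, .o, .o, .v, .i, .w, .v, .o, .i, .o, .o, .o, .o, .o, .o, .o, .o, .w, .o, .i, .o, .o, .v, .o, .o, .o, .o, .o, .o, .o, .o, .i, .o, .o, .i, .o, .w, .o, .o, .o, .o, .o, .o, .o, .w, .o, .i, .w, .o, .i, .o, .o, .v, .o, .o, .o, .o, .o, .o, .i, .o, .o, .o, .o, .i, .o, .o, .o, .o, .o, .o, .v, .v, .v, .v, .w, .v, .w, .i, .i, .o, .w, .v, .i, .o, .o, .o, .v, .o, .i, .o, .o, .i, .o, .i, .o, .o, .o, .o, .w, .w, .w, .i, .i, .o, .o, .v, .o, .o, .i, .o, .v, .o, .i,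 .w, .i, .i, .v, .i, .i, .w, .o, .i, .o, .i, .w, .o, .i, .i, .v, .i, .v, .w, .o, .w, .o, .v, .o, .o, .i, .o, .i, .o, .o, .w, .v, .i, .v, .w, .i, .o, .v, .i, .w, .i]⟩
def q15_11 : MatD 14 K4 := ⟨[.i, .o, .v, .o, .o, .i, .o, .w, .o, .w, .o, .o, .o, .o, .o, .i, .v, .o, .v, .i, .o, .w, .o, .o, .o, .o, .o, .o, .o, .o, .i, .o, .o, .o, .o, .o, .o, .o, .o, .o, .o, .o, .o, .o, .w, .i, .w, .v, .o, .i, .o, .o, .o, .o, .o, .o, .o, .o, .i, .o, .i, .o, .o, .v, .o, .o, .o, .o, .o, .o, .o, .o, .v, .o, .o, .i, .o, .w, .o, .o, .o, .o, .o, .o, .o, .w, .o, .v, .i, .o, .i, .o, .o, .v, .o, .o, .o, .o, .o, .o, .o, .o, .o, .o, .o, .i, .o, .o, .o, .o, .o, .o, .w, .w, .o, .v, .o, .o, .i, .o, .i, .o, .w, .v, .i, .o, .o, .o, .w, .o, .o, .o, .o, .i, .o, .i, .o, .o, .o, .o, .i, .i, .o, .w, .o, .o, .o, .o, .o, .o, .i, .o, .v, .o, .v, .o,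 .o, .o, .w, .o, .o, .o, .o, .i, .o, .i, .w, .o, .o, .o, .i, .o, .o, .w, .o, .v, .o, .v, .o, .o, .i, .o, .v, .v, .o, .i, .o, .o, .w, .o, .o, .o, .v, .i, .w, .i]⟩
def q15_12 : MatD 14 K4 := ⟨[.i, .o, .v, .o, .o, .v, .o, .o, .o, .o, .o, .o, .o, .o, .o, .i, .i, .o, .w, .v, .o, .i, .o, .o, .o, .o, .o, .o, .o, .o, .i, .o, .o, .o, .o, .o, .o, .o, .o, .o, .o, .o, .o, .o, .i, .i, .o, .o, .o, .o, .o, .o, .o, .o, .o, .o, .o, .o, .v, .o, .i, .o, .o, .o, .o, .o, .o, .o, .o, .o, .o, .o, .w, .o, .o, .i, .o, .o, .o, .o, .o, .o, .o, .o, .o, .o, .o, .w, .o, .i, .i, .o, .o, .o, .o, .o, .o, .o, .o, .o, .o, .o, .o, .o, .o, .i, .o, .o, .o, .o, .o, .o, .i, .o, .w, .v, .w, .v, .v, .i, .i, .o, .o, .o, .o, .o, .o, .o, .v, .o, .o, .o, .o, .v, .o, .i, .o, .o, .o, .o, .v, .v, .i, .v, .v, .w, .o, .v, .o, .i, .i, .o, .o, .o, .w, .o, .v,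 .o, .v, .w, .o, .w, .o, .o, .o, .i, .o, .o, .o, .o, .i, .o, .o, .v, .o, .w, .o, .w, .o, .o, .i, .o, .i, .w, .i, .i, .i, .w, .v, .v, .o, .o, .w, .v, .i, .i]⟩
def q15_13 : MatD 14 K4 := ⟨[.i, .o, .w, .i, .o, .v, .o, .o, .o, .o, .o, .o, .o, .o, .o, .i, .o, .i, .w, .v, .o, .i, .o, .o, .o, .o, .o, .o, .o, .o, .i, .o, .o, .o, .o, .o, .o, .o, .o, .o, .o, .o, .o, .o, .i, .i, .o, .o, .o, .o, .o, .o, .o, .o, .o, .o, .o, .o, .v, .o, .i, .o, .o, .o, .o, .o, .o, .o, .o, .o, .o, .o, .w, .o, .o, .i, .o, .o, .o, .o, .o, .o, .o, .o, .o, .o, .o, .w, .o, .i, .i, .o, .o, .o, .o, .o, .o, .o, .o, .o, .i, .o, .o, .o, .o, .i, .o, .o, .o, .o, .o, .o, .i, .o, .w, .v, .w, .v, .v, .i, .i, .o, .o, .o, .o, .o, .o, .o, .o, .o, .i, .o, .o, .v, .o, .i, .o, .o, .o, .o, .v, .v, .i, .v, .v, .w, .o, .v, .o, .i, .i, .o, .o, .o, .w, .o, .v, .w,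 .v, .v, .i, .w, .o, .o, .o, .i, .o, .o, .i, .i, .w, .i, .w, .v, .o, .v, .o, .w, .o, .o, .i, .o, .o, .w, .v, .w, .v, .i, .o, .w, .i, .o, .w, .v, .i, .i]⟩
def q15_14 : MatD 14 K4 := ⟨[.i, .o, .i, .i, .w, .w, .o, .v, .o, .w, .o, .o, .o, .o, .o, .i, .i, .i, .i, .w, .o, .v, .o, .o, .o, .o, .o, .o, .o, .o, .i, .o, .o, .o, .o, .o, .o, .o, .o, .o, .o, .o, .o, .o, .w, .i, .w, .v, .o, .i, .o, .o, .o, .o, .o, .o, .o, .o, .i, .o, .i, .o, .o, .v, .o, .o, .o, .o, .o, .o, .o, .o, .v, .o, .o, .i, .o, .w, .o, .o, .o, .o, .o, .o, .o, .w, .o, .v, .i, .o, .i, .o, .o, .v, .o, .o, .o, .o, .o, .o, .i, .o, .o, .o, .o, .i, .o, .o, .o, .o, .o, .o, .w, .w, .o, .v, .o, .o, .i, .o, .i, .o, .w, .v, .i, .o, .o, .o, .v, .o, .i, .o, .o, .w, .o, .i, .o, .o, .o, .o, .i, .i, .o, .w, .o, .o, .o, .o, .o, .o, .i, .o, .v, .o, .v, .w, .o, .v, .v,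 .o, .i, .o, .o, .w, .o, .i, .w, .o, .i, .i, .v, .i, .i, .i, .o, .w, .o, .i, .o, .o, .i, .o, .i, .i, .o, .w, .o, .o, .v, .o, .i, .o, .i, .w, .v, .i]⟩
def q15_15 : MatD 14 K4 := ⟨[.i, .o, .v, .o, .o, .w, .o, .v, .o, .w, .o, .o, .o, .o, .o, .i, .w, .o, .i, .w, .o, .v, .o, .o, .o, .o, .o, .o, .o, .o, .i, .o, .o, .o, .o, .o, .o, .o, .o, .o, .o, .o, .o, .o, .v, .i, .w, .v, .o, .i, .o, .o, .o, .o, .o, .o, .o, .o, .w, .o, .i, .o, .o, .v, .o, .o, .o, .o, .o, .o, .o, .o, .i, .o, .o, .i, .o, .w, .o, .o, .o, .o, .o, .o, .o, .w, .o, .i, .w, .o, .i, .o, .o, .v, .o, .o, .o, .o, .o, .o, .o, .o, .o, .o, .o, .i, .o, .o, .o, .o, .o, .o, .v, .v, .v, .v, .w, .v, .w, .i, .i, .o, .w, .v, .i, .o, .o, .o, .i, .o, .o, .o, .o, .w, .o, .i, .o, .o, .o, .o, .w, .w, .w, .i, .i, .o, .o, .v, .o, .o, .i, .o, .v, .o, .i, .o, .i, .o, .i, .i,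 .o, .w, .o, .w, .o, .i, .w, .o, .o, .o, .i, .o, .o, .i, .o, .v, .o, .i, .o, .o, .i, .o, .w, .v, .v, .i, .i, .w, .i, .v, .o, .o, .i, .w, .v, .i]⟩
theorem s15_1 : (MatD.one : MatD 14 K4).mul (dlM D D (G24PJ2.dec 4)) = q15_1 := by decide +kernel
theorem s15_2 : (q15_1 : MatD 14 K4).mul (dlM D D (G24PJ2.dec 6)) = q15_2 := by decide +kernel
theorem s15_3 : (q15_2 : MatD 14 K4).mul (dlM D D (G24PJ2.dec 4)) = q15_3 := by decide +kernel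
theorem s15_4 : (q15_3 : MatD 14 K4).mul (dlM D D (G24PJ2.dec 6)) = q15_4 := by decide +kernel
theorem s15_5 : (q15_4 : MatD 14 K4).mul (dlM D D (G24PJ2.dec 4)) = q15_5 := by decide +kernel
theorem s15_6 : (q15_5 : MatD 14 K4).mul (dlM D D (G24PJ2.dec 6)) = q15_6 := by decide +kernel
theorem s15_7 : (q15_6 : MatD 14 K4).mul (dlM D D (G24PJ2.dec 4)) = q15_7 := by decide +kernel
theorem s15_8 : (q15_7 : MatD 14 K4).mul (dlM D D (G24PJ2.dec 6)) = q15_8 := by decide +kernel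
theorem s15_9 : (q15_8 : MatD 14 K4).mul (dlM D D (G24PJ2.dec 4)) = q15_9 := by decide +kernel
theorem s15_10 : (q15_9 : MatD 14 K4).mul (dlM D D (G24PJ2.dec 6)) = q15_10 := by decide +kernel
theorem s15_11 : (q15_10 : MatD 14 K4).mul (dlM D D (G24PJ2.dec 4)) = q15_11 := by decide +kernel
theorem s15_12 : (q15_11 : MatD 14 K4).mul (dlM D D (G24PJ2.dec 6)) = q15_12 := by decide +kernel
theorem s15_13 : (q15_12 : MatD 14 K4).mul (dlM D D (G24PJ2.dec 4)) = q15_13 := by decide +kernel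
theorem s15_14 : (q15_13 : MatD 14 K4).mul (dlM D D (G24PJ2.dec 6)) = q15_14 := by decide +kernel
theorem s15_15 : (q15_14 : MatD 14 K4).mul (dlM D D (G24PJ2.dec 4)) = q15_15 := by decide +kernel
theorem s15_16 : (q15_15 : MatD 14 K4).mul (dlM D D (G24PJ2.dec 6)) = MatD.one := by decide +kernel
theorem r15 : MatD.evM (dlM D D) (([6, 4, 6, 4, 6, 4, 6, 4, 6, 4, 6, 4, 6, 4, 6, 4] : List ℕ).map G24PJ2.dec) = MatD.one := by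
  refine evM_step s15_16 ?_
  refine evM_step s15_15 ?_
  refine evM_step s15_14 ?_
  refine evM_step s15_13 ?_
  refine evM_step s15_12 ?_
  refine evM_step s15_11 ?_
  refine evM_step s15_10 ?_
  refine evM_step s15_9 ?_
  refine evM_step s15_8 ?_
  refine evM_step s15_7 ?_
  refine evM_step s15_6 ?_
  refine evM_step s15_5 ?_
  refine evM_step s15_4 ?_
  refine evM_step s15_3 ?_
  refine evM_step s15_2 ?_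
  refine evM_step s15_1 ?_
  rfl

def q18_1 : MatD 14 K4 := ⟨[.i, .o, .v, .o, .o, .w, .o, .v, .o, .w, .o, .o, .o, .o, .o, .i, .w, .o, .i, .w, .o, .v, .o, .o, .o, .o, .o, .o, .o, .o, .i, .o, .o, .o, .o, .o, .o, .o, .o, .o, .o, .o, .o, .o, .v, .i, .w, .v, .o, .i, .o, .o, .o, .o, .o, .o, .o, .o, .w, .o, .i, .o, .o, .v, .o, .o, .o, .o, .o, .o, .o, .o, .i, .o, .o, .i, .o, .w, .o, .o, .o, .o, .o, .o, .o, .w, .o, .i, .w, .o, .i, .o, .o, .v, .o, .o, .o, .o, .o, .o, .o, .o, .o, .o, .o, .i, .o, .o, .o, .o, .o, .o, .v, .v, .v, .v, .w, .v, .w, .i, .i, .o, .w, .v, .i, .o, .o, .o, .i, .o, .o, .o, .o, .w, .o, .i, .o, .o, .o, .o, .w, .w, .w, .i, .i, .o, .o, .v, .o, .o, .i, .o, .v, .o, .i, .o, .i, .o, .i, .i, .o, .w, .o, .w, .o, .i, .w, .o, .o, .o, .i, .o, .o, .i, .o, .v, .o, .i, .o, .o, .i, .o, .w, .v, .v, .i, .i, .w, .i,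 .v, .o, .o, .i, .w, .v, .i]⟩
def q18_2 : MatD 14 K4 := ⟨[.i, .o, .w, .o, .o, .w, .o, .v, .o, .w, .o, .o, .o, .o, .o, .i, .w, .o, .i, .w, .o, .v, .o, .o, .o, .o, .o, .o, .o, .o, .i, .o, .o, .o, .o, .o, .o, .o, .o, .o, .o, .o, .o, .o, .v, .i, .w, .v, .o, .i, .o, .o, .o, .o, .o, .o, .o, .o, .w, .o, .i, .o, .o, .v, .o, .o, .o, .o, .o, .o, .o, .o, .i, .o, .o, .i, .o, .w, .o, .o, .o, .o, .o, .o, .o, .w, .o, .i, .w, .o, .i, .o, .o, .v, .o, .o, .o, .o, .o, .o, .o, .o, .o, .o, .o, .i, .o, .o, .o, .o, .o, .o, .v, .v, .o, .w, .o, .o, .w, .o, .i, .o, .w, .v, .i, .o, .o, .o, .i, .o, .o, .o, .o, .w, .o, .i, .o, .o, .o, .o, .w, .w, .o, .i, .o, .o, .o, .o, .o, .o, .i, .o, .v, .o, .i, .o, .o, .o, .i, .o, .o, .o, .o, .w, .o, .i, .w, .o, .o, .o, .i, .o, .o, .i, .o, .w, .o, .i, .o, .o, .i, .o, .w, .w, .o, .i, .o, .o, .i, .o,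 .o, .o, .i, .w, .v, .i]⟩
def q18_3 : MatD 14 K4 := ⟨[.i, .o, .i, .o, .o, .o, .o, .o, .o, .o, .o, .o, .o, .o, .o, .i, .o, .o, .o, .o, .o, .o, .o, .o, .o, .o, .o, .o, .o, .o, .i, .o, .o, .o, .o, .o, .o, .o, .o, .o, .o, .o, .o, .o, .o, .i, .o, .o, .o, .o, .o, .o, .o, .o, .o, .o, .o, .o, .o, .o, .i, .o, .o, .o, .o, .o, .o, .o, .o, .o, .o, .o, .o, .o, .o, .i, .o, .o, .o, .o, .o, .o, .o, .o, .o, .o, .o, .o, .o, .o, .i, .o, .o, .o, .o, .o, .o, .o, .o, .o, .o, .o, .o, .o, .o, .i, .o, .o, .o, .o, .o, .o, .o, .o, .o, .i, .o, .o, .o, .o, .i, .o, .o, .o, .o, .o, .o, .o, .o, .o, .o, .o, .o, .o, .o, .i, .o, .o, .o, .o, .o, .o, .o, .o, .i, .o, .o, .o, .o, .o, .i, .o, .o, .o, .o, .o, .o, .o, .o, .i, .o, .o, .o, .o, .o, .i, .o, .o, .o, .o, .o, .o, .o, .o, .o, .i, .o, .o, .o, .o, .i, .o, .o, .i, .i, .o, .o, .o, .o, .o, .o,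 .o, .o, .o, .o, .i]⟩
theorem s18_1 : (MatD.one : MatD 14 K4).mul (dlM D D (G24PJ2.dec 6)) = q18_1 := by decide +kernel
theorem s18_2 : (q18_1 : MatD 14 K4).mul (dlM D D (G24PJ2.dec 0)) = q18_2 := by decide +kernel
theorem s18_3 : (q18_2 : MatD 14 K4).mul (dlM D D (G24PJ2.dec 6)) = q18_3 := by decide +kernel
theorem s18_4 : (q18_3 : MatD 14 K4).mul (dlM D D (G24PJ2.dec 0)) = MatD.one := by decide +kernel
theorem r18 : MatD.evM (dlM D D) (([0, 6, 0, 6] : List ℕ).map G24PJ2.dec) = MatD.one := by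
  refine evM_step s18_4 ?_
  refine evM_step s18_3 ?_
  refine evM_step s18_2 ?_
  refine evM_step s18_1 ?_
  rfl

def q22_1 : MatD 14 K4 := ⟨[.i, .o, .v, .o, .o, .w, .o, .v, .o, .w, .o, .o, .o, .o, .o, .i, .w, .o, .i, .w, .o, .v, .o, .o, .o, .o, .o, .o, .o, .o, .i, .o, .o, .o, .o, .o, .o, .o, .o, .o, .o, .o, .o, .o, .v, .i, .w, .v, .o, .i, .o, .o, .o, .o, .o, .o, .o, .o, .w, .o, .i, .o, .o, .v, .o, .o, .o, .o, .o, .o, .o, .o, .i, .o, .o, .i, .o, .w, .o, .o, .o, .o, .o, .o, .o, .w, .o, .i, .w, .o, .i, .o, .o, .v, .o, .o, .o, .o, .o, .o, .o, .o, .o, .o, .o, .i, .o, .o, .o, .o, .o, .o, .v, .v, .v, .v, .w, .v, .w, .i, .i, .o, .w, .v, .i, .o, .o, .o, .i, .o, .o, .o, .o, .w, .o, .i, .o, .o, .o, .o, .w, .w, .w, .i, .i, .o, .o, .v, .o, .o, .i, .o, .v, .o, .i, .o, .i, .o, .i, .i, .o, .w, .o, .w, .o, .i, .w, .o, .o,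 .o, .i, .o, .o, .i, .o, .v, .o, .i, .o, .o, .i, .o, .w, .v, .v, .i, .i, .w, .i, .v, .o, .o, .i, .w, .v, .i]⟩
def q22_2 : MatD 14 K4 := ⟨[.i, .i, .w, .o, .i, .o, .o, .o, .o, .w, .o, .o, .o, .o, .o, .i, .w, .o, .i, .w, .o, .v, .o, .o, .o, .o, .o, .o, .o, .o, .i, .o, .o, .o, .o, .o, .o, .o, .o, .o, .o, .o, .o, .o, .o, .o, .o, .o, .o, .i, .o, .o, .o, .o, .o, .o, .o, .o, .w, .o, .o, .w, .o, .v, .o, .o, .o, .o, .o, .o, .o, .o, .i, .o, .v, .o, .o, .w, .o, .o, .o, .o, .o, .o, .o, .o, .v, .o, .o, .o, .o, .i, .o, .v, .o, .o, .o, .o, .o, .o, .v, .i, .w, .v, .o, .i, .o, .o, .o, .o, .o, .o, .o, .o, .i, .o, .o, .i, .o, .o, .o, .i, .o, .o, .i, .o, .o, .v, .o, .w, .v, .o, .w, .o, .o, .i, .o, .o, .o, .o, .w, .o, .v, .o, .w, .v, .o, .i, .o, .v, .o, .w, .v, .o, .i, .i, .w, .v, .i, .o, .o, .v, .o, .o, .v, .o, .w, .o, .v, .v,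 .i, .o, .v, .i, .w, .w, .i, .o, .w, .v, .i, .o, .w, .o, .o, .i, .w, .v, .i, .i, .o, .o, .i, .w, .v, .i]⟩
def q22_3 : MatD 14 K4 := ⟨[.i, .i, .v, .o, .o, .o, .o, .o, .o, .o, .o, .o, .o, .o, .o, .i, .o, .o, .o, .o, .o, .o, .o, .o, .o, .o, .o, .o, .o, .o, .i, .o, .o, .o, .o, .o, .o, .o, .o, .o, .o, .o, .o, .o, .o, .o, .o, .o, .o, .i, .o, .o, .o, .o, .o, .o, .o, .o, .o, .o, .o, .w, .o, .o, .o, .o, .o, .o, .o, .o, .o, .o, .o, .o, .v, .o, .o, .o, .o, .o, .o, .o, .o, .o, .o, .o, .o, .o, .o, .o, .o, .o, .o, .v, .o, .o, .o, .o, .o, .o, .o, .i, .o, .o, .o, .o, .o, .o, .o, .o, .o, .o, .o, .o, .o, .o, .o, .o, .o, .v, .o, .o, .o, .o, .i, .o, .o, .o, .o, .o, .o, .o, .w, .o, .o, .o, .o, .o, .o, .o, .o, .o, .o, .o, .o, .i, .o, .o, .o, .o, .o, .w, .o, .o, .o, .o, .o, .o, .w, .o, .o, .o, .o, .o, .v, .o, .o, .o, .o, .o, .o,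 .v, .o, .o, .o, .o, .i, .o, .o, .o, .o, .o, .o, .v, .w, .o, .o, .o, .o, .o, .o, .o, .o, .o, .o, .i]⟩
def q22_4 : MatD 14 K4 := ⟨[.i, .i, .o, .v, .i, .o, .v, .o, .o, .o, .o, .o, .o, .o, .o, .i, .w, .v, .i, .w, .o, .o, .o, .o, .o, .o, .o, .o, .o, .o, .i, .o, .o, .o, .o, .o, .o, .o, .o, .o, .o, .o, .o, .o, .v, .i, .w, .v, .o, .i, .o, .o, .o, .o, .o, .o, .o, .o, .w, .v, .o, .w, .o, .o, .o, .o, .o, .o, .o, .o, .o, .o, .i, .w, .v, .o, .o, .o, .o, .o, .o, .o, .o, .o, .o, .w, .o, .o, .o, .v, .i, .i, .o, .v, .o, .o, .o, .o, .o, .o, .o, .i, .o, .o, .o, .o, .o, .o, .o, .o, .o, .o, .v, .o, .i, .w, .v, .i, .o, .o, .i, .i, .w, .v, .i, .o, .o, .o, .i, .w, .o, .o, .w, .o, .o, .o, .o, .o, .o, .o, .w, .o, .v, .i, .o, .v, .o, .i, .v, .o, .o, .w, .o, .o, .i, .i, .w, .v, .i, .w, .v, .o, .w, .o, .v, .o, .o, .o, .o, .o, .i, .o,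 .v, .o, .w, .o, .i, .o, .o, .o, .o, .o, .w, .w, .o, .i, .w, .v, .o, .i, .v, .v, .i, .w, .o, .i]⟩
def q22_5 : MatD 14 K4 := ⟨[.i, .o, .i, .o, .o, .w, .v, .o, .o, .o, .o, .o, .o, .o, .o, .i, .w, .v, .i, .w, .o, .o, .o, .o, .o, .o, .o, .o, .o, .o, .i, .o, .o, .o, .o, .o, .o, .o, .o, .o, .o, .o, .o, .o, .o, .i, .o, .o, .o, .o, .o, .o, .o, .o, .o, .o, .o, .o, .w, .v, .i, .o, .o, .o, .o, .o, .o, .o, .o, .o, .o, .o, .i, .w, .o, .i, .o, .o, .o, .o, .o, .o, .o, .o, .o, .o, .v, .i, .o, .o, .i, .o, .o, .o, .o, .o, .o, .o, .o, .o, .v, .i, .w, .v, .o, .i, .o, .o, .o, .o, .o, .o, .o, .o, .i, .v, .v, .o, .w, .o, .i, .o, .o, .o, .o, .o, .o, .v, .o, .o, .o, .i, .w, .w, .o, .i, .o, .o, .o, .o, .w, .w, .w, .v, .i, .v, .i, .o, .v, .o, .i, .o, .o, .o, .i, .o, .i, .w, .o, .i, .o, .v, .w, .o, .o, .i, .o, .o, .v, .o, .v, .i, .w,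 .v, .o, .v, .i, .i, .w, .v, .i, .o, .w, .i, .v, .v, .i, .w, .o, .i, .v, .v, .i, .w, .o, .i]⟩
theorem s22_1 : (MatD.one : MatD 14 K4).mul (dlM D D (G24PJ2.dec 6)) = q22_1 := by decide +kernel
theorem s22_2 : (q22_1 : MatD 14 K4).mul (dlM D D (G24PJ2.dec 8)) = q22_2 := by decide +kernel
theorem s22_3 : (q22_2 : MatD 14 K4).mul (dlM D D (G24PJ2.dec 6)) = q22_3 := by decide +kernel
theorem s22_4 : (q22_3 : MatD 14 K4).mul (dlM D D (G24PJ2.dec 8)) = q22_4 := by decide +kernel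
theorem s22_5 : (q22_4 : MatD 14 K4).mul (dlM D D (G24PJ2.dec 6)) = q22_5 := by decide +kernel
theorem s22_6 : (q22_5 : MatD 14 K4).mul (dlM D D (G24PJ2.dec 8)) = MatD.one := by decide +kernel
theorem r22 : MatD.evM (dlM D D) (([8, 6, 8, 6, 8, 6] : List ℕ).map G24PJ2.dec) = MatD.one := by
  refine evM_step s22_6 ?_
  refine evM_step s22_5 ?_
  refine evM_step s22_4 ?_
  refine evM_step s22_3 ?_
  refine evM_step s22_2 ?_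
  refine evM_step s22_1 ?_
  rfl

def q24_1 : MatD 14 K4 := ⟨[.i, .o, .i, .o, .o, .w, .v, .o, .o, .o, .o, .o, .o, .o, .o, .i, .w, .v, .i, .w, .o, .o, .o, .o, .o, .o, .o, .o, .o, .o, .i, .o, .o, .o, .o, .o, .o, .o, .o, .o, .o, .o, .o, .o, .o, .i, .o, .o, .o, .o, .o, .o, .o, .o, .o, .o, .o, .o, .w, .v, .i, .o, .o, .o, .o, .o, .o, .o, .o, .o, .o, .o, .i, .w, .o, .i, .o, .o, .o, .o, .o, .o, .o, .o, .o, .o, .v, .i, .o, .o, .i, .o, .o, .o, .o, .o, .o, .o, .o, .o, .v, .i, .w, .v, .o, .i, .o, .o, .o, .o, .o, .o, .o, .o, .i, .v, .v, .o, .w, .o, .i, .o, .o, .o, .o, .o, .o, .v, .o, .o, .o, .i, .w, .w, .o, .i, .o, .o, .o, .o, .w, .w, .w, .v, .i, .v, .i, .o, .v, .o, .i, .o, .o, .o, .i, .o, .i, .w, .o, .i, .o, .v, .w, .o, .o, .i, .o, .o, .v, .o, .v, .i, .w, .v, .o, .v, .i, .i, .w, .v, .i, .o, .w, .i, .v, .v, .i, .w, .o,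 .i, .v, .v, .i, .w, .o, .i]⟩
def q24_2 : MatD 14 K4 := ⟨[.i, .o, .o, .o, .o, .w, .v, .o, .o, .o, .o, .o, .o, .o, .o, .i, .w, .v, .i, .w, .o, .o, .o, .o, .o, .o, .o, .o, .o, .o, .i, .o, .o, .o, .o, .o, .o, .o, .o, .o, .o, .o, .o, .o, .o, .i, .o, .o, .o, .o, .o, .o, .o, .o, .o, .o, .o, .o, .w, .v, .i, .o, .o, .o, .o, .o, .o, .o, .o, .o, .o, .o, .i, .w, .o, .i, .o, .o, .o, .o, .o, .o, .o, .o, .o, .o, .v, .i, .o, .o, .i, .o, .o, .o, .o, .o, .o, .o, .o, .o, .v, .i, .w, .v, .o, .i, .o, .o, .o, .o, .o, .o, .o, .o, .i, .w, .v, .o, .w, .o, .i, .o, .o, .o, .o, .o, .o, .v, .o, .o, .o, .i, .w, .w, .o, .i, .o, .o, .o, .o, .w, .w, .o, .o, .o, .v, .i, .o, .v, .o, .i, .o, .o, .o, .i, .o, .o, .o, .o, .o, .o, .v, .w, .o, .o, .i, .o, .o, .v, .o, .o, .o, .o, .o, .o, .w, .i, .i, .w, .v, .i, .o, .w, .o, .o, .o, .o, .o, .o, .i,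 .v, .v, .i, .w, .o, .i]⟩
def q24_3 : MatD 14 K4 := ⟨[.i, .o, .i, .o, .o, .o, .o, .o, .o, .o, .o, .o, .o, .o, .o, .i, .o, .o, .o, .o, .o, .o, .o, .o, .o, .o, .o, .o, .o, .o, .i, .o, .o, .o, .o, .o, .o, .o, .o, .o, .o, .o, .o, .o, .o, .i, .o, .o, .o, .o, .o, .o, .o, .o, .o, .o, .o, .o, .o, .o, .i, .o, .o, .o, .o, .o, .o, .o, .o, .o, .o, .o, .o, .o, .o, .i, .o, .o, .o, .o, .o, .o, .o, .o, .o, .o, .o, .o, .o, .o, .i, .o, .o, .o, .o, .o, .o, .o, .o, .o, .o, .o, .o, .o, .o, .i, .o, .o, .o, .o, .o, .o, .o, .o, .o, .i, .o, .o, .o, .o, .i, .o, .o, .o, .o, .o, .o, .o, .o, .o, .o, .o, .o, .o, .o, .i, .o, .o, .o, .o, .o, .o, .o, .o, .i, .o, .o, .o, .o, .o, .i, .o, .o, .o, .o, .o, .o, .o, .o, .i, .o, .o, .o, .o, .o, .i, .o, .o, .o, .o, .o, .o, .o, .o, .o, .i, .o, .o, .o, .o, .i, .o, .o, .i, .i, .o, .o, .o, .o, .o, .o,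 .o, .o, .o, .o, .i]⟩
theorem s24_1 : (MatD.one : MatD 14 K4).mul (dlM D D (G24PJ2.dec 8)) = q24_1 := by decide +kernel
theorem s24_2 : (q24_1 : MatD 14 K4).mul (dlM D D (G24PJ2.dec 0)) = q24_2 := by decide +kernel
theorem s24_3 : (q24_2 : MatD 14 K4).mul (dlM D D (G24PJ2.dec 8)) = q24_3 := by decide +kernel
theorem s24_4 : (q24_3 : MatD 14 K4).mul (dlM D D (G24PJ2.dec 0)) = MatD.one := by decide +kernel
theorem r24 : MatD.evM (dlM D D) (([0, 8, 0, 8] : List ℕ).map G24PJ2.dec) = MatD.one := by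
  refine evM_step s24_4 ?_
  refine evM_step s24_3 ?_
  refine evM_step s24_2 ?_
  refine evM_step s24_1 ?_
  rfl

def q28_1 : MatD 14 K4 := ⟨[.i, .o, .i, .o, .o, .w, .v, .o, .o, .o, .o, .o, .o, .o, .o, .i, .w, .v, .i, .w, .o, .o, .o, .o, .o, .o, .o, .o, .o, .o, .i, .o, .o, .o, .o, .o, .o, .o, .o, .o, .o, .o, .o, .o, .o, .i, .o, .o, .o, .o, .o, .o, .o, .o, .o, .o, .o, .o, .w, .v, .i, .o, .o, .o, .o, .o, .o, .o, .o, .o, .o, .o, .i, .w, .o, .i, .o, .o, .o, .o, .o, .o, .o, .o, .o, .o, .v, .i, .o, .o, .i, .o, .o, .o, .o, .o, .o, .o, .o, .o, .v, .i, .w, .v, .o, .i, .o, .o, .o, .o, .o, .o, .o, .o, .i, .v, .v, .o, .w, .o, .i, .o, .o, .o, .o, .o, .o, .v, .o, .o, .o, .i, .w, .w, .o, .i, .o, .o, .o, .o, .w, .w, .w, .v, .i, .v, .i, .o, .v, .o, .i, .o, .o, .o, .i, .o, .i, .w, .o, .i, .o, .v, .w, .o, .o, .i, .o, .o, .v,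 .o, .v, .i, .w, .v, .o, .v, .i, .i, .w, .v, .i, .o, .w, .i, .v, .v, .i, .w, .o, .i, .v, .v, .i, .w, .o, .i]⟩
theorem s28_1 : (MatD.one : MatD 14 K4).mul (dlM D D (G24PJ2.dec 8)) = q28_1 := by decide +kernel
theorem s28_2 : (q28_1 : MatD 14 K4).mul (dlM D D (G24PJ2.dec 8)) = MatD.one := by decide +kernel
theorem r28 : MatD.evM (dlM D D) (([8, 8] : List ℕ).map G24PJ2.dec) = MatD.one := by
  refine evM_step s28_2 ?_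
  refine evM_step s28_1 ?_
  rfl

def q29_1 : MatD 14 K4 := ⟨[.i, .o, .i, .o, .o, .w, .v, .o, .o, .o, .o, .o, .o, .o, .o, .i, .w, .v, .i, .w, .o, .o, .o, .o, .o, .o, .o, .o, .o, .o, .i, .o, .o, .o, .o, .o, .o, .o, .o, .o, .o, .o, .o, .o, .o, .i, .o, .o, .o, .o, .o, .o, .o, .o, .o, .o, .o, .o, .w, .v, .i, .o, .o, .o, .o, .o, .o, .o, .o, .o, .o, .o, .i, .w, .o, .i, .o, .o, .o, .o, .o, .o, .o, .o, .o, .o, .v, .i, .o, .o, .i, .o, .o, .o, .o, .o, .o, .o, .o, .o, .v, .i, .w, .v, .o, .i, .o, .o, .o, .o, .o, .o, .o, .o, .i, .v, .v, .o, .w, .o, .i, .o, .o, .o, .o, .o, .o, .v, .o, .o, .o, .i, .w, .w, .o, .i, .o, .o, .o, .o, .w, .w, .w, .v, .i, .v, .i, .o, .v, .o, .i, .o, .o, .o, .i, .o, .i, .w, .o, .i, .o, .v, .w, .o, .o, .i, .o, .o, .v, .o, .v, .i, .w, .v, .o, .v, .i, .i, .w, .v, .i, .o, .w, .i, .v, .v, .i, .w, .o,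 .i, .v, .v, .i, .w, .o, .i]⟩
def q29_2 : MatD 14 K4 := ⟨[.i, .o, .v, .o, .o, .w, .v, .o, .o, .o, .o, .o, .o, .o, .o, .i, .w, .v, .i, .w, .o, .o, .o, .o, .o, .o, .o, .o, .o, .o, .i, .o, .o, .o, .o, .o, .o, .o, .o, .o, .o, .o, .o, .o, .o, .i, .o, .o, .o, .o, .o, .o, .o, .o, .o, .o, .o, .o, .w, .v, .i, .o, .o, .o, .o, .o, .o, .o, .o, .o, .o, .o, .i, .w, .o, .i, .o, .o, .o, .o, .o, .o, .o, .o, .o, .o, .v, .i, .o, .o, .i, .o, .o, .o, .o, .o, .o, .o, .o, .o, .v, .i, .w, .v, .o, .i, .o, .o, .o, .o, .o, .o, .o, .o, .i, .i, .v, .o, .w, .o, .i, .o, .o, .o, .o, .o, .o, .v, .o, .o, .o, .i, .w, .w, .o, .i, .o, .o, .o, .o, .w, .w, .i, .w, .v, .v, .i, .o, .v, .o, .i, .o, .o, .o, .i, .o, .v, .i, .o, .v, .o, .v, .w, .o, .o, .i, .o, .o, .v, .o, .w, .v, .i, .w, .o, .i, .i, .i, .w, .v, .i, .o, .w, .v, .v, .w, .v, .i, .o, .i,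 .v, .v, .i, .w, .o, .i]⟩
def q29_3 : MatD 14 K4 := ⟨[.i, .o, .w, .o, .o, .o, .o, .o, .o, .o, .o, .o, .o, .o, .o, .i, .o, .o, .o, .o, .o, .o, .o, .o, .o, .o, .o, .o, .o, .o, .i, .o, .o, .o, .o, .o, .o, .o, .o, .o, .o, .o, .o, .o, .o, .i, .o, .o, .o, .o, .o, .o, .o, .o, .o, .o, .o, .o, .o, .o, .i, .o, .o, .o, .o, .o, .o, .o, .o, .o, .o, .o, .o, .o, .o, .i, .o, .o, .o, .o, .o, .o, .o, .o, .o, .o, .o, .o, .o, .o, .i, .o, .o, .o, .o, .o, .o, .o, .o, .o, .o, .o, .o, .o, .o, .i, .o, .o, .o, .o, .o, .o, .o, .o, .o, .w, .o, .o, .o, .o, .i, .o, .o, .o, .o, .o, .o, .o, .o, .o, .o, .o, .o, .o, .o, .i, .o, .o, .o, .o, .o, .o, .o, .o, .w, .o, .o, .o, .o, .o, .i, .o, .o, .o, .o, .o, .o, .o, .o, .w, .o, .o, .o, .o, .o, .i, .o, .o, .o, .o, .o, .o, .o, .o, .o, .w, .o, .o, .o, .o, .i, .o, .o, .w, .v, .o, .o, .o, .o, .o, .o,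 .o, .o, .o, .o, .i]⟩
theorem s29_1 : (MatD.one : MatD 14 K4).mul (dlM D D (G24PJ2.dec 8)) = q29_1 := by decide +kernel
theorem s29_2 : (q29_1 : MatD 14 K4).mul (dlM D D (G24PJ2.dec 10)) = q29_2 := by decide +kernel
theorem s29_3 : (q29_2 : MatD 14 K4).mul (dlM D D (G24PJ2.dec 8)) = q29_3 := by decide +kernel
theorem s29_4 : (q29_3 : MatD 14 K4).mul (dlM D D (G24PJ2.dec 10)) = MatD.one := by decide +kernel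
theorem r29 : MatD.evM (dlM D D) (([10, 8, 10, 8] : List ℕ).map G24PJ2.dec) = MatD.one := by
  refine evM_step s29_4 ?_
  refine evM_step s29_3 ?_
  refine evM_step s29_2 ?_
  refine evM_step s29_1 ?_
  rfl

def q33_1 : MatD 14 K4 := ⟨[.i, .o, .w, .o, .o, .o, .o, .o, .o, .o, .o, .o, .o, .o, .o, .i, .o, .o, .o, .o, .o, .o, .o, .o, .o, .o, .o, .o, .o, .o, .i, .o, .o, .o, .o, .o, .o, .o, .o, .o, .o, .o, .o, .o, .o, .i, .o, .o, .o, .o, .o, .o, .o, .o, .o, .o, .o, .o, .o, .o, .i, .o, .o, .o, .o, .o, .o, .o, .o, .o, .o, .o, .o, .o, .o, .i, .o, .o, .o, .o, .o, .o, .o, .o, .o, .o, .o, .o, .o, .o, .i, .o, .o, .o, .o, .o, .o, .o, .o, .o, .o, .o, .o, .o, .o, .i, .o, .o, .o, .o, .o, .o, .o, .o, .o, .w, .o, .o, .o, .o, .i, .o, .o, .o, .o, .o, .o, .o, .o, .o, .o, .o, .o, .o, .o, .i, .o, .o, .o, .o, .o, .o, .o, .o, .w, .o,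 .o, .o, .o, .o, .i, .o, .o, .o, .o, .o, .o, .o, .o, .w, .o, .o, .o, .o, .o, .i, .o, .o, .o, .o, .o, .o, .o, .o, .o, .w, .o, .o, .o, .o, .i, .o, .o, .w, .v, .o, .o, .o, .o, .o, .o, .o, .o, .o, .o, .i]⟩
def q33_2 : MatD 14 K4 := ⟨[.i, .o, .i, .o, .o, .w, .o, .v, .o, .w, .o, .o, .o, .o, .o, .i, .w, .o, .i, .w, .o, .v, .o, .o, .o, .o, .o, .o, .o, .o, .i, .o, .o, .o, .o, .o, .o, .o, .o, .o, .o, .o, .o, .o, .v, .i, .w, .v, .o, .i, .o, .o, .o, .o, .o, .o, .o, .o, .w, .o, .i, .o, .o, .v, .o, .o, .o, .o, .o, .o, .o, .o, .i, .o, .o, .i, .o, .w, .o, .o, .o, .o, .o, .o, .o, .w, .o, .i, .w, .o, .i, .o, .o, .v, .o, .o, .o, .o, .o, .o, .o, .o, .o, .o, .o, .i, .o, .o, .o, .o, .o, .o, .v, .v, .w, .i, .i, .w, .w, .v, .i, .o, .w, .v, .i, .o, .o, .o, .i, .o, .o, .o, .o, .w, .o, .i, .o, .o, .o, .o, .w, .w, .i, .i, .v, .o, .o,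 .w, .o, .o, .i, .o, .v, .o, .i, .o, .v, .o, .i, .v, .o, .i, .o, .w, .o, .i, .w, .o, .o, .o, .i, .o, .o, .i, .o, .i, .o, .i, .o, .o, .i, .o, .w, .i, .v, .i, .v, .i, .i, .w, .o, .o, .i, .w, .v, .i]⟩
def q33_3 : MatD 14 K4 := ⟨[.i, .o, .v, .o, .o, .w, .o, .v, .o, .w, .o, .o, .o, .o, .o, .i, .w, .o, .i, .w, .o, .v, .o, .o, .o, .o, .o, .o, .o, .o, .i, .o, .o, .o, .o, .o, .o, .o, .o, .o, .o, .o, .o, .o, .v, .i, .w, .v, .o, .i, .o, .o, .o, .o, .o, .o, .o, .o, .w, .o, .i, .o, .o, .v, .o, .o, .o, .o, .o, .o, .o, .o, .i, .o, .o, .i, .o, .w, .o, .o, .o, .o, .o, .o, .o, .w, .o, .i, .w, .o, .i, .o, .o, .v, .o, .o, .o, .o, .o, .o, .o, .o, .o, .o, .o, .i, .o, .o, .o, .o, .o, .o, .v, .v, .v, .v, .w, .v, .w, .i, .i, .o, .w, .v, .i, .o, .o, .o, .i, .o, .o, .o, .o, .w, .o, .i, .o, .o, .o, .o, .w, .w, .w, .i, .i, .o, .o, .v,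 .o, .o, .i, .o, .v, .o, .i, .o, .i, .o, .i, .i, .o, .w, .o, .w, .o, .i, .w, .o, .o, .o, .i, .o, .o, .i, .o, .v, .o, .i, .o, .o, .i, .o, .w, .v, .v, .i, .i, .w, .i, .v, .o, .o, .i, .w, .v, .i]⟩
theorem s33_1 : (MatD.one : MatD 14 K4).mul (dlM D D (G24PJ2.dec 10)) = q33_1 := by decide +kernel
theorem s33_2 : (q33_1 : MatD 14 K4).mul (dlM D D (G24PJ2.dec 6)) = q33_2 := by decide +kernel
theorem s33_3 : (q33_2 : MatD 14 K4).mul (dlM D D (G24PJ2.dec 10)) = q33_3 := by decide +kernel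
theorem s33_4 : (q33_3 : MatD 14 K4).mul (dlM D D (G24PJ2.dec 6)) = MatD.one := by decide +kernel
theorem r33 : MatD.evM (dlM D D) (([6, 10, 6, 10] : List ℕ).map G24PJ2.dec) = MatD.one := by
  refine evM_step s33_4 ?_
  refine evM_step s33_3 ?_
  refine evM_step s33_2 ?_
  refine evM_step s33_1 ?_
  rfl

end Cfsg.Agent.Helper4.TC.G24Chk
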