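import Cfsg.Agent.Lib.Helper4.TC.G24Mat
import Cfsg.Agent.Lib.Helper4.TC.G24PJ2Glue
import Cfsg.Agent.Lib.Helper4.TC.MatChain

set_option autoImplicit false
set_option maxRecDepth 100000
set_option maxHeartbeats 0

namespace Cfsg.Agent.Helper4.TC.G24Chk

open Cfsg.Agent.Helper4.TC Cfsg.Agent.Helper4.TC.G24Mat Cfsg.Agent.Lib.Helper6.FFour

def q3_1 : MatD 14 K4 := ⟨[.i, .o, .i, .o, .o, .o, .o, .o, .o, .o, .o, .o, .o, .o, .o, .i, .o, .o, .o, .o, .o, .o, .o, .o, .o, .o, .o, .o, .o, .o, .i, .o, .o, .o, .o, .o, .o, .o, .o, .o, .o, .o, .o, .o, .o, .i, .o, .o, .o, .o, .o, .o, .o, .o, .o, .o, .o, .o, .o, .o, .i, .o, .o, .o, .o, .o, .o, .o, .o, .o, .o, .o, .o, .o, .o, .i, .o, .o, .o, .o, .o, .o, .o, .o, .o, .o, .o, .o, .o, .o, .i, .o, .o, .o, .o, .o, .o, .o, .o, .o, .o, .o, .o, .o, .o, .i, .o, .o, .o, .o, .o, .o, .o,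 .o, .o, .i, .o, .o, .o, .o, .i, .o, .o, .o, .o, .o, .o, .o, .o, .o, .o, .o, .o, .o, .o, .i, .o, .o, .o, .o, .o, .o, .o, .o, .i, .o, .o, .o, .o, .o, .i, .o, .o, .o, .o, .o, .o, .o, .o, .i, .o, .o, .o, .o, .o, .i, .o, .o, .o, .o, .o, .o, .o, .o, .o, .i, .o, .o, .o, .o, .i, .o, .o, .i, .i, .o, .o, .o, .o, .o, .o, .o, .o, .o, .o, .i]⟩
def q3_2 : MatD 14 K4 := ⟨[.i, .o, .w, .o, .o, .w, .o, .v, .o, .w, .o, .o, .o, .o, .o, .i, .w, .o, .i, .w, .o, .v, .o, .o, .o, .o, .o, .o, .o, .o, .i, .o, .o, .o, .o, .o, .o, .o, .o, .o, .o, .o, .o, .o, .v, .i, .w, .v, .o, .i, .o, .o, .o, .o, .o, .o, .o, .o, .w, .o, .i, .o, .o, .v, .o, .o, .o, .o, .o, .o, .o, .o, .i, .o, .o, .i, .o, .w, .o, .o, .o, .o, .o, .o, .o, .w, .o, .i, .w, .o, .i, .o, .o, .v, .o, .o, .o, .o, .o, .o, .o, .o, .o, .o, .o, .i, .o, .o, .o, .o, .o, .o, .v, .v, .o,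 .w, .o, .o, .w, .o, .i, .o, .w, .v, .i, .o, .o, .o, .i, .o, .o, .o, .o, .w, .o, .i, .o, .o, .o, .o, .w, .w, .o, .i, .o, .o, .o, .o, .o, .o, .i, .o, .v, .o, .i, .o, .o, .o, .i, .o, .o, .o, .o, .w, .o, .i, .w, .o, .o, .o, .i, .o, .o, .i, .o, .w, .o, .i, .o, .o, .i, .o, .w, .w, .o, .i, .o, .o, .i, .o, .o, .o, .i, .w, .v, .i]⟩
def q3_3 : MatD 14 K4 := ⟨[.i, .o, .v, .o, .o, .w, .o, .v, .o, .w, .o, .o, .o, .o, .o, .i, .w, .o, .i, .w, .o, .v, .o, .o, .o, .o, .o, .o, .o, .o, .i, .o, .o, .o, .o, .o, .o, .o, .o, .o, .o, .o, .o, .o, .v, .i, .w, .v, .o, .i, .o, .o, .o, .o, .o, .o, .o, .o, .w, .o, .i, .o, .o, .v, .o, .o, .o, .o, .o, .o, .o, .o, .i, .o, .o, .i, .o, .w, .o, .o, .o, .o, .o, .o, .o, .w, .o, .i, .w, .o, .i, .o, .o, .v, .o, .o, .o, .o, .o, .o, .o, .o, .o, .o, .o, .i, .o, .o, .o, .o, .o, .o, .v, .v, .v, .v, .w,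 .v, .w, .i, .i, .o, .w, .v, .i, .o, .o, .o, .i, .o, .o, .o, .o, .w, .o, .i, .o, .o, .o, .o, .w, .w, .w, .i, .i, .o, .o, .v, .o, .o, .i, .o, .v, .o, .i, .o, .i, .o, .i, .i, .o, .w, .o, .w, .o, .i, .w, .o, .o, .o, .i, .o, .o, .i, .o, .v, .o, .i, .o, .o, .i, .o, .w, .v, .v, .i, .i, .w, .i, .v, .o, .o, .i, .w, .v, .i]⟩
theorem s3_1 : (MatD.one : MatD 14 K4).mul (dlM D D (G24PJ2.dec 0)) = q3_1 := by decide +kernel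
theorem s3_2 : (q3_1 : MatD 14 K4).mul (dlM D D (G24PJ2.dec 6)) = q3_2 := by decide +kernel
theorem s3_3 : (q3_2 : MatD 14 K4).mul (dlM D D (G24PJ2.dec 0)) = q3_3 := by decide +kernel
theorem s3_4 : (q3_3 : MatD 14 K4).mul (dlM D D (G24PJ2.dec 6)) = MatD.one := by decide +kernel
theorem r3 : MatD.evM (dlM D D) (([6, 0, 6, 0] : List ℕ).map G24PJ2.dec) = MatD.one := by
  refine evM_step s3_4 ?_
  refine evM_step s3_3 ?_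
  refine evM_step s3_2 ?_
  refine evM_step s3_1 ?_
  rfl

def q6_1 : MatD 14 K4 := ⟨[.i, .o, .w, .i, .o, .w, .v, .o, .o, .w, .i, .o, .w, .v, .v, .i, .v, .v, .i, .i, .i, .o, .i, .v, .v, .i, .i, .i, .i, .v, .w, .i, .o, .v, .w, .w, .i, .i, .v, .i, .i, .w, .i, .w, .v, .i, .i, .v, .v, .o, .o, .v, .w, .v, .v, .i, .i, .o, .i, .i, .w, .v, .i, .o, .v, .i, .i, .v, .v, .i, .v, .i, .o, .i, .w, .i, .i, .w, .w, .w, .i, .i, .w, .v, .v, .w, .v, .o, .v, .v, .w, .o, .w, .v, .w, .i, .v, .i, .i, .o, .w, .w, .v, .o, .i, .i, .v, .w, .w, .v, .o, .i, .o, .o, .o, .w, .o, .o, .w, .o, .i, .o, .w, .o, .o, .w, .i, .v, .i, .v, .o, .i, .w, .w, .i, .w, .i, .i, .v, .w, .i, .w, .v, .w, .i, .v, .i, .o, .o, .v, .i, .v, .v, .v, .i, .o, .v, .w, .v, .i, .o, .o, .v, .v, .w, .w, .i, .o, .v, .i, .w, .i, .w, .w, .v, .w, .w, .o, .i, .i, .i, .i, .v,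 .w, .v, .w, .v, .v, .i, .o, .w, .v, .o, .i, .v, .w]⟩
def q6_2 : MatD 14 K4 := ⟨[.i, .v, .o, .i, .i, .w, .v, .w, .o, .w, .i, .o, .w, .v, .v, .o, .i, .w, .w, .o, .i, .i, .i, .v, .v, .i, .i, .i, .i, .i, .i, .o, .v, .w, .w, .v, .i, .i, .v, .i, .i, .w, .i, .v, .v, .i, .v, .o, .v, .v, .o, .v, .w, .v, .v, .i, .i, .i, .i, .w, .v, .o, .i, .v, .v, .i, .i, .v, .v, .i, .v, .w, .o, .v, .v, .o, .i, .o, .w, .w, .i, .i, .w, .v, .v, .v, .i, .w, .i, .w, .w, .v, .w, .v, .w, .i, .v, .i, .i, .i, .w, .i, .i, .v, .i, .i, .v, .w, .w, .v, .o, .i, .o, .w, .w, .v, .w, .o, .w, .o, .i, .o, .w, .o, .o, .w, .i, .i, .w, .w, .i, .o, .w, .i, .i, .w, .i, .i, .v, .w, .i, .i, .i, .w, .o, .o, .i, .v, .o, .v, .i, .v, .v, .v, .i, .o, .w, .i, .i, .v, .o, .i, .v, .v, .w, .w, .i, .o, .v, .o, .o, .v, .v, .v, .v, .v, .w, .o, .i, .i, .i, .i, .v, .o, .w,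 .o, .v, .w, .i, .v, .w, .v, .o, .i, .v, .w]⟩
def q6_3 : MatD 14 K4 := ⟨[.w, .w, .v, .w, .o, .i, .v, .i, .v, .w, .i, .v, .w, .v, .i, .w, .w, .o, .o, .o, .w, .o, .o, .i, .o, .o, .o, .w, .w, .v, .v, .v, .v, .o, .v, .w, .w, .w, .i, .w, .w, .v, .o, .w, .o, .w, .i, .v, .v, .w, .v, .i, .v, .i, .i, .w, .o, .v, .i, .v, .w, .v, .w, .w, .i, .o, .i, .i, .i, .w, .o, .i, .i, .v, .o, .i, .o, .o, .v, .v, .w, .i, .v, .i, .i, .w, .w, .i, .o, .i, .w, .w, .w, .i, .v, .o, .i, .w, .o, .v, .v, .i, .o, .i, .w, .o, .i, .w, .v, .i, .v, .w, .o, .i, .v, .o, .o, .i, .o, .v, .o, .w, .o, .w, .w, .w, .w, .v, .v, .w, .i, .i, .v, .o, .w, .w, .o, .w, .v, .v, .o, .i, .i, .v, .w, .w, .i, .i, .i, .i, .i, .v, .v, .o, .o, .o, .o, .o, .o, .w, .i, .o, .o, .o, .o, .w, .i, .v, .o, .w, .w, .i, .o, .v, .w, .o, .i, .i, .v, .v, .w, .v, .w, .v, .v, .w, .o,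 .i, .v, .v, .v, .w, .i, .i, .o, .v]⟩
def q6_4 : MatD 14 K4 := ⟨[.w, .i, .w, .i, .i, .w, .v, .v, .v, .w, .i, .v, .w, .v, .i, .o, .i, .o, .o, .o, .w, .o, .o, .i, .o, .o, .o, .w, .w, .o, .w, .i, .w, .w, .v, .o, .w, .w, .i, .w, .w, .v, .o, .o, .w, .i, .w, .w, .v, .v, .v, .i, .v, .i, .i, .w, .o, .i, .v, .w, .v, .w, .w, .v, .i, .o, .i, .i, .i, .w, .o, .o, .o, .o, .w, .o, .o, .v, .v, .v, .w, .i, .v, .i, .i, .o, .i, .v, .v, .i, .w, .v, .w, .i, .v, .o, .i, .w, .o, .i, .i, .o, .v, .o, .w, .v, .i, .w, .v, .i, .v, .w, .o, .v, .i, .o, .o, .v, .o, .i, .o, .w, .o, .w, .w, .w, .w, .o, .w, .o, .i, .v, .v, .v, .w, .w, .o, .w, .v, .v, .o, .i, .i, .w, .v, .i, .i, .w, .i, .i, .i, .v, .v, .o, .o, .v, .v, .o, .o, .o, .i, .i, .o, .o, .o, .w, .i, .v, .o, .i, .i, .o, .v, .o, .w, .w, .i, .i, .v, .v, .w, .v, .w, .o, .w, .i, .i, .o, .v,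 .v, .v, .w, .i, .i, .o, .v]⟩
def q6_5 : MatD 14 K4 := ⟨[.o, .i, .o, .o, .v, .o, .o, .v, .i, .o, .o, .i, .o, .o, .i, .o, .i, .o, .o, .o, .w, .o, .o, .i, .o, .o, .o, .w, .w, .o, .w, .i, .w, .w, .v, .o, .w, .w, .i, .w, .w, .v, .o, .o, .w, .i, .w, .w, .v, .v, .v, .i, .v, .i, .i, .w, .o, .i, .v, .w, .v, .w, .w, .v, .i, .o, .i, .i, .i, .w, .o, .o, .o, .o, .w, .o, .o, .v, .v, .v, .w, .i, .v, .i, .i, .o, .i, .v, .v, .i, .w, .v, .w, .i, .v, .o, .i, .w, .o, .i, .i, .o, .v, .o, .w, .v, .i, .w, .v, .i, .v, .w, .o, .v, .v, .i, .w, .i, .v, .w, .v, .v, .v, .v, .v, .o, .w, .o, .w, .o, .i, .v, .v, .v, .w, .w, .o, .w, .v, .v, .o, .o, .w, .o, .o, .v, .v, .i, .o, .i, .o, .w, .w, .w, .o, .v, .v, .o, .w, .o, .i, .w, .v, .v, .w, .v, .w, .w, .o, .o, .o, .o, .o, .o, .o, .i, .o, .v, .o, .w, .i, .i, .i, .o, .i, .o, .v, .w, .w, .v, .i,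 .i, .o, .v, .w, .w]⟩
def q6_6 : MatD 14 K4 := ⟨[.o, .i, .o, .i, .v, .i, .o, .v, .i, .o, .o, .i, .o, .o, .i, .w, .w, .o, .o, .o, .w, .o, .o, .i, .o, .o, .o, .w, .w, .v, .v, .v, .v, .o, .v, .w, .w, .w, .i, .w, .w, .v, .o, .w, .o, .w, .i, .v, .v, .w, .v, .i, .v, .i, .i, .w, .o, .v, .i, .v, .w, .v, .w, .w, .i, .o, .i, .i, .i, .w, .o, .i, .i, .v, .o, .i, .o, .o, .v, .v, .w, .i, .v, .i, .i, .w, .w, .i, .o, .i, .w, .w, .w, .i, .v, .o, .i, .w, .o, .v, .v, .i, .o, .i, .w, .o, .i, .w, .v, .i, .v, .w, .o, .v, .v, .w, .i, .w, .v, .i, .v, .v, .v, .v, .v, .o, .w, .v, .v, .w, .i, .i, .v, .o, .w, .w, .o, .w, .v, .v, .o, .w, .o, .o, .o, .i, .v, .v, .o, .i, .o, .w, .w, .w, .o, .i, .i, .v, .o, .v, .i, .o, .v, .v, .w, .v, .w, .w, .o, .i, .i, .o, .o, .w, .o, .o, .o, .v, .o, .w, .i, .i, .i, .w, .w, .i, .v, .i, .w, .i, .i, .i, .o,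 .v, .w, .w]⟩
def q6_7 : MatD 14 K4 := ⟨[.o, .w, .i, .i, .w, .o, .i, .i, .i, .v, .w, .i, .v, .i, .v, .o, .i, .w, .w, .o, .i, .i, .i, .v, .v, .i, .i, .i, .i, .i, .i, .o, .v, .w, .w, .v, .i, .i, .v, .i, .i, .w, .i, .v, .v, .i, .v, .o, .v, .v, .o, .v, .w, .v, .v, .i, .i, .i, .i, .w, .v, .o, .i, .v, .v, .i, .i, .v, .v, .i, .v, .w, .o, .v, .v, .o, .i, .o, .w, .w, .i, .i, .w, .v, .v, .v, .i, .w, .i, .w, .w, .v, .w, .v, .w, .i, .v, .i, .i, .i, .w, .i, .i, .v, .i, .i, .v, .w, .w, .v, .o, .i, .i, .i, .i, .w, .i, .o, .i, .v, .i, .v, .o, .v, .v, .v, .i, .i, .w, .w, .i, .o, .w, .i, .i, .w, .i, .i, .v, .w, .o, .o, .o, .o, .v, .o, .o, .o, .v, .w, .o, .o, .o, .w, .w, .w, .w, .w, .w, .v, .i, .i, .i, .i, .v, .v, .v, .v, .w, .i, .w, .w, .w, .o, .w, .w, .i, .w, .v, .w, .i, .o, .i, .i, .w, .w, .w, .o, .w, .i, .w, .i, .o, .i, .v,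 .i]⟩
def q6_8 : MatD 14 K4 := ⟨[.o, .v, .o, .o, .o, .i, .i, .w, .i, .v, .w, .i, .v, .i, .v, .i, .v, .v, .i, .i, .i, .o, .i, .v, .v, .i, .i, .i, .i, .v, .w, .i, .o, .v, .w, .w, .i, .i, .v, .i, .i, .w, .i, .w, .v, .i, .i, .v, .v, .o, .o, .v, .w, .v, .v, .i, .i, .o, .i, .i, .w, .v, .i, .o, .v, .i, .i, .v, .v, .i, .v, .i, .o, .i, .w, .i, .i, .w, .w, .w, .i, .i, .w, .v, .v, .w, .v, .o, .v, .v, .w, .o, .w, .v, .w, .i, .v, .i, .i, .o, .w, .w, .v, .o, .i, .i, .v, .w, .w, .v, .o, .i, .i, .w, .v, .v, .i, .v, .i, .o, .i, .v, .o, .v, .v, .v, .i, .v, .i, .v, .o, .i, .w, .w, .i, .w, .i, .i, .v, .w, .o, .w, .w, .v, .v, .o, .o, .o, .v, .w, .o, .o, .o, .w, .w, .i, .v, .v, .i, .o, .i, .w, .i, .i, .v, .v, .v, .v, .w, .i, .o, .v, .i, .w, .w, .v, .i, .w, .v, .w, .i, .o, .i, .o, .w, .o, .w, .i, .w, .w, .w, .i, .o, .i, .v, .i]⟩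
def q6_9 : MatD 14 K4 := ⟨[.i, .o, .i, .o, .o, .o, .o, .o, .o, .o, .o, .o, .o, .o, .o, .i, .o, .o, .o, .o, .o, .o, .o, .o, .o, .o, .o, .o, .o, .o, .i, .o, .o, .o, .o, .o, .o, .o, .o, .o, .o, .o, .o, .o, .o, .i, .o, .o, .o, .o, .o, .o, .o, .o, .o, .o, .o, .o, .o, .o, .i, .o, .o, .o, .o, .o, .o, .o, .o, .o, .o, .o, .o, .o, .o, .i, .o, .o, .o, .o, .o, .o, .o, .o, .o, .o, .o, .o, .o, .o, .i, .o, .o, .o, .o, .o, .o, .o, .o, .o, .o, .o, .o, .o, .o, .i, .o, .o, .o, .o, .o, .o, .o, .o, .o, .i, .o, .o, .o, .o, .i, .o, .o, .o, .o, .o, .o, .o, .o, .o, .o, .o, .o, .o, .o, .i, .o, .o, .o, .o, .o, .o, .o, .o, .i, .o, .o, .o, .o, .o, .i, .o, .o, .o, .o, .o, .o, .o, .o, .i, .o, .o, .o, .o, .o, .i, .o, .o, .o, .o, .o, .o, .o, .o, .o, .i, .o, .o, .o, .o, .i, .o, .o, .i, .i, .o, .o, .o, .o, .o, .o, .o, .o, .o, .o, .i]⟩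
theorem s6_1 : (MatD.one : MatD 14 K4).mul (dlM D D (G24PJ2.dec 2)) = q6_1 := by decide +kernel
theorem s6_2 : (q6_1 : MatD 14 K4).mul (dlM D D (G24PJ2.dec 0)) = q6_2 := by decide +kernel
theorem s6_3 : (q6_2 : MatD 14 K4).mul (dlM D D (G24PJ2.dec 2)) = q6_3 := by decide +kernel
theorem s6_4 : (q6_3 : MatD 14 K4).mul (dlM D D (G24PJ2.dec 0)) = q6_4 := by decide +kernel
theorem s6_5 : (q6_4 : MatD 14 K4).mul (dlM D D (G24PJ2.dec 2)) = q6_5 := by decide +kernel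
theorem s6_6 : (q6_5 : MatD 14 K4).mul (dlM D D (G24PJ2.dec 0)) = q6_6 := by decide +kernel
theorem s6_7 : (q6_6 : MatD 14 K4).mul (dlM D D (G24PJ2.dec 2)) = q6_7 := by decide +kernel
theorem s6_8 : (q6_7 : MatD 14 K4).mul (dlM D D (G24PJ2.dec 0)) = q6_8 := by decide +kernel
theorem s6_9 : (q6_8 : MatD 14 K4).mul (dlM D D (G24PJ2.dec 2)) = q6_9 := by decide +kernel
theorem s6_10 : (q6_9 : MatD 14 K4).mul (dlM D D (G24PJ2.dec 0)) = MatD.one := by decide +kernel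
theorem r6 : MatD.evM (dlM D D) (([0, 2, 0, 2, 0, 2, 0, 2, 0, 2] : List ℕ).map G24PJ2.dec) = MatD.one := by
  refine evM_step s6_10 ?_
  refine evM_step s6_9 ?_
  refine evM_step s6_8 ?_
  refine evM_step s6_7 ?_
  refine evM_step s6_6 ?_
  refine evM_step s6_5 ?_
  refine evM_step s6_4 ?_
  refine evM_step s6_3 ?_
  refine evM_step s6_2 ?_
  refine evM_step s6_1 ?_
  rfl

def q9_1 : MatD 14 K4 := ⟨[.i, .o, .w, .i, .o, .w, .v, .o, .o, .w, .i, .o, .w, .v, .v, .i, .v, .v, .i, .i, .i, .o, .i, .v, .v, .i, .i, .i, .i, .v, .w, .i, .o, .v, .w, .w, .i, .i, .v, .i, .i, .w, .i, .w, .v, .i, .i, .v, .v, .o, .o, .v, .w, .v, .v, .i, .i, .o, .i, .i, .w, .v, .i, .o, .v, .i, .i, .v, .v, .i, .v, .i, .o, .i, .w, .i, .i, .w, .w, .w, .i, .i, .w, .v, .v, .w, .v, .o, .v, .v, .w, .o, .w, .v, .w, .i, .v, .i, .i, .o, .w, .w, .v, .o,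 .i, .i, .v, .w, .w, .v, .o, .i, .o, .o, .o, .w, .o, .o, .w, .o, .i, .o, .w, .o, .o, .w, .i, .v, .i, .v, .o, .i, .w, .w, .i, .w, .i, .i, .v, .w, .i, .w, .v, .w, .i, .v, .i, .o, .o, .v, .i, .v, .v, .v, .i, .o, .v, .w, .v, .i, .o, .o, .v, .v, .w, .w, .i, .o, .v, .i, .w, .i, .w, .w, .v, .w, .w, .o, .i, .i, .i, .i, .v, .w, .v, .w, .v, .v, .i, .o, .w, .v, .o, .i, .v, .w]⟩
def q9_2 : MatD 14 K4 := ⟨[.w, .i, .o, .o, .i, .o, .o, .w, .o, .o, .w, .i, .v, .v, .w, .w, .o, .v, .w, .i, .w, .v, .i, .w, .o, .o, .v, .i, .i, .v, .w, .i, .o, .v, .w, .w, .i, .i, .v, .i, .i, .w, .v, .v, .w, .i, .o, .v, .w, .i, .o, .i, .v, .i, .o, .i, .o, .i, .v, .w, .o, .w, .i, .o, .v, .w, .i, .v, .i, .i, .o, .w, .i, .v, .v, .w, .i, .w, .w, .o, .i, .i, .v, .v, .w, .o, .o, .o, .v, .o, .o, .i, .w, .w, .o, .w, .i, .i, .i, .o, .w, .w, .v, .o, .i, .i,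 .v, .w, .w, .v, .o, .i, .v, .w, .o, .v, .w, .i, .w, .v, .i, .i, .w, .o, .i, .w, .w, .o, .o, .i, .i, .w, .w, .w, .i, .o, .i, .i, .w, .w, .i, .o, .o, .i, .v, .w, .w, .i, .o, .o, .w, .w, .v, .v, .w, .i, .o, .w, .i, .v, .i, .w, .v, .v, .v, .o, .o, .o, .v, .o, .o, .v, .w, .i, .i, .v, .w, .o, .v, .w, .i, .i, .o, .o, .o, .o, .o, .o, .o, .o, .w, .o, .i, .v, .w, .w]⟩
def q9_3 : MatD 14 K4 := ⟨[.i, .o, .v, .o, .o, .w, .o, .v, .o, .w, .o, .o, .o, .o, .o, .i, .w, .o, .i, .w, .o, .v, .o, .o, .o, .o, .o, .o, .o, .o, .i, .o, .o, .o, .o, .o, .o, .o, .o, .o, .o, .o, .o, .o, .v, .i, .w, .v, .o, .i, .o, .o, .o, .o, .o, .o, .o, .o, .w, .o, .i, .o, .o, .v, .o, .o, .o, .o, .o, .o, .o, .o, .i, .o, .o, .i, .o, .w, .o, .o, .o, .o, .o, .o, .o, .w, .o, .i, .w, .o, .i, .o, .o, .v, .o, .o, .o, .o, .o, .o, .o, .o, .o, .o, .o, .i, .o, .o,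 .o, .o, .o, .o, .v, .v, .v, .v, .w, .v, .w, .i, .i, .o, .w, .v, .i, .o, .o, .o, .i, .o, .o, .o, .o, .w, .o, .i, .o, .o, .o, .o, .w, .w, .w, .i, .i, .o, .o, .v, .o, .o, .i, .o, .v, .o, .i, .o, .i, .o, .i, .i, .o, .w, .o, .w, .o, .i, .w, .o, .o, .o, .i, .o, .o, .i, .o, .v, .o, .i, .o, .o, .i, .o, .w, .v, .v, .i, .i, .w, .i, .v, .o, .o, .i, .w, .v, .i]⟩
theorem s9_1 : (MatD.one : MatD 14 K4).mul (dlM D D (G24PJ2.dec 2)) = q9_1 := by decide +kernel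
theorem s9_2 : (q9_1 : MatD 14 K4).mul (dlM D D (G24PJ2.dec 6)) = q9_2 := by decide +kernel
theorem s9_3 : (q9_2 : MatD 14 K4).mul (dlM D D (G24PJ2.dec 2)) = q9_3 := by decide +kernel
theorem s9_4 : (q9_3 : MatD 14 K4).mul (dlM D D (G24PJ2.dec 6)) = MatD.one := by decide +kernel
theorem r9 : MatD.evM (dlM D D) (([6, 2, 6, 2] : List ℕ).map G24PJ2.dec) = MatD.one := by
  refine evM_step s9_4 ?_
  refine evM_step s9_3 ?_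
  refine evM_step s9_2 ?_
  refine evM_step s9_1 ?_
  rfl

def q11_1 : MatD 14 K4 := ⟨[.i, .o, .w, .i, .o, .w, .v, .o, .o, .w, .i, .o, .w, .v, .v, .i, .v, .v, .i, .i, .i, .o, .i, .v, .v, .i, .i, .i, .i, .v, .w, .i, .o, .v, .w, .w, .i, .i, .v, .i, .i, .w, .i, .w, .v, .i, .i, .v, .v, .o, .o, .v, .w, .v, .v, .i, .i, .o, .i, .i, .w, .v, .i, .o, .v, .i, .i, .v, .v, .i, .v, .i, .o, .i, .w, .i, .i, .w, .w, .w, .i, .i, .w, .v, .v, .w, .v, .o, .v, .v, .w, .o, .w, .v, .w, .i, .v, .i, .i, .o, .w, .w, .v, .o, .i, .i, .v, .w, .w, .v, .o, .i, .o, .o, .o, .w, .o, .o, .w, .o, .i, .o, .w, .o, .o, .w, .i, .v, .i, .v, .o, .i, .w, .w, .i, .w, .i, .i, .v, .w, .i, .w, .v, .w, .i, .v, .i, .o, .o, .v, .i, .v, .v, .v, .i, .o, .v, .w, .v, .i, .o, .o, .v, .v, .w, .w, .i, .o, .v, .i, .w, .i, .w, .w, .v, .w, .w, .o, .i, .i, .i, .i, .v,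 .w, .v, .w, .v, .v, .i, .o, .w, .v, .o, .i, .v, .w]⟩
def q11_2 : MatD 14 K4 := ⟨[.i, .i, .w, .i, .w, .w, .v, .v, .o, .w, .i, .o, .w, .v, .v, .v, .i, .i, .o, .v, .i, .w, .i, .v, .v, .i, .i, .i, .i, .o, .i, .v, .i, .i, .w, .o, .i, .i, .v, .i, .i, .w, .i, .o, .w, .i, .w, .w, .v, .i, .o, .v, .w, .v, .v, .i, .i, .w, .o, .o, .o, .w, .i, .i, .v, .i, .i, .v, .v, .i, .v, .o, .v, .w, .o, .v, .i, .i, .w, .w, .i, .i, .w, .v, .v, .o, .i, .v, .o, .i, .w, .i, .w, .v, .w, .i, .v, .i, .i, .w, .v, .v, .o, .i, .i, .i, .v, .w, .w, .v, .o, .i, .o, .v, .i, .o, .v, .o, .w, .o, .i, .o, .w, .o, .o, .w, .i, .o, .w, .i, .w, .v, .w, .v, .i, .w, .i, .i, .v, .w, .i, .v, .v, .w, .v, .w, .i, .i, .o, .v, .i, .v, .v, .v, .i, .o, .i, .v, .o, .w, .o, .w, .v, .v, .w, .w, .i, .o, .v, .v, .o, .w, .o, .o, .v, .o, .w, .o, .i, .i, .i, .i, .v, .i,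 .v, .i, .v, .i, .i, .i, .w, .v, .o, .i, .v, .w]⟩
def q11_3 : MatD 14 K4 := ⟨[.v, .i, .o, .o, .o, .o, .o, .v, .w, .o, .o, .w, .o, .o, .v, .v, .i, .i, .o, .v, .i, .w, .i, .v, .v, .i, .i, .i, .i, .o, .i, .v, .i, .i, .w, .o, .i, .i, .v, .i, .i, .w, .i, .o, .w, .i, .w, .w, .v, .i, .o, .v, .w, .v, .v, .i, .i, .w, .o, .o, .o, .w, .i, .i, .v, .i, .i, .v, .v, .i, .v, .o, .v, .w, .o, .v, .i, .i, .w, .w, .i, .i, .w, .v, .v, .o, .i, .v, .o, .i, .w, .i, .w, .v, .w, .i, .v, .i, .i, .w, .v, .v, .o, .i, .i, .i, .v, .w, .w, .v, .o, .i, .w, .v, .w, .w, .o, .v, .v, .w, .i, .i, .i, .i, .i, .o, .i, .o, .w, .i, .w, .v, .w, .v, .i, .w, .i, .i, .v, .w, .v, .o, .v, .w, .v, .i, .v, .v, .i, .i, .v, .w, .w, .i, .o, .o, .o, .o, .o, .v, .w, .o, .o, .o, .o, .o, .w, .i, .i, .o, .i, .v, .o, .w, .i, .w, .v, .v, .w, .o, .i, .v, .i, .o, .w,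 .i, .o, .v, .w, .w, .v, .i, .v, .o, .w, .i]⟩
def q11_4 : MatD 14 K4 := ⟨[.v, .i, .i, .v, .o, .v, .o, .v, .w, .o, .o, .w, .o, .o, .v, .i, .v, .v, .i, .i, .i, .o, .i, .v, .v, .i, .i, .i, .i, .v, .w, .i, .o, .v, .w, .w, .i, .i, .v, .i, .i, .w, .i, .w, .v, .i, .i, .v, .v, .o, .o, .v, .w, .v, .v, .i, .i, .o, .i, .i, .w, .v, .i, .o, .v, .i, .i, .v, .v, .i, .v, .i, .o, .i, .w, .i, .i, .w, .w, .w, .i, .i, .w, .v, .v, .w, .v, .o, .v, .v, .w, .o, .w, .v, .w, .i, .v, .i, .i, .o, .w, .w, .v, .o, .i, .i, .v, .w, .w, .v, .o, .i, .w, .v, .i, .o, .w, .i, .v, .o, .i, .i, .i, .i, .i, .o, .i, .v, .i, .v, .o, .i, .w, .w, .i, .w, .i, .i, .v, .w, .v, .w, .i, .o, .w, .w, .v, .o, .i, .i, .v, .w, .w, .i, .o, .w, .v, .o, .o, .v, .w, .v, .o, .o, .o, .o, .w, .i, .i, .i, .i, .w, .v, .w, .i, .o, .v, .v, .w, .o, .i, .v, .i, .w, .v, .o,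 .i, .v, .w, .i, .v, .i, .v, .o, .w, .i]⟩
def q11_5 : MatD 14 K4 := ⟨[.i, .o, .w, .o, .o, .o, .o, .o, .o, .o, .o, .o, .o, .o, .o, .i, .o, .o, .o, .o, .o, .o, .o, .o, .o, .o, .o, .o, .o, .o, .i, .o, .o, .o, .o, .o, .o, .o, .o, .o, .o, .o, .o, .o, .o, .i, .o, .o, .o, .o, .o, .o, .o, .o, .o, .o, .o, .o, .o, .o, .i, .o, .o, .o, .o, .o, .o, .o, .o, .o, .o, .o, .o, .o, .o, .i, .o, .o, .o, .o, .o, .o, .o, .o, .o, .o, .o, .o, .o, .o, .i, .o, .o, .o, .o, .o, .o, .o, .o, .o, .o, .o, .o, .o, .o, .i, .o, .o, .o, .o, .o, .o, .o, .o, .o, .w, .o, .o, .o, .o, .i, .o, .o, .o, .o, .o, .o, .o, .o, .o, .o, .o, .o, .o, .o, .i, .o, .o, .o, .o, .o, .o, .o, .o, .w, .o, .o, .o, .o, .o, .i, .o, .o, .o, .o, .o, .o, .o, .o, .w, .o, .o, .o, .o, .o, .i, .o, .o, .o, .o, .o, .o, .o, .o, .o, .w, .o, .o, .o, .o, .i, .o, .o, .w, .v, .o, .o,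 .o, .o, .o, .o, .o, .o, .o, .o, .i]⟩
theorem s11_1 : (MatD.one : MatD 14 K4).mul (dlM D D (G24PJ2.dec 2)) = q11_1 := by decide +kernel
theorem s11_2 : (q11_1 : MatD 14 K4).mul (dlM D D (G24PJ2.dec 10)) = q11_2 := by decide +kernel
theorem s11_3 : (q11_2 : MatD 14 K4).mul (dlM D D (G24PJ2.dec 2)) = q11_3 := by decide +kernel
theorem s11_4 : (q11_3 : MatD 14 K4).mul (dlM D D (G24PJ2.dec 10)) = q11_4 := by decide +kernel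
theorem s11_5 : (q11_4 : MatD 14 K4).mul (dlM D D (G24PJ2.dec 2)) = q11_5 := by decide +kernel
theorem s11_6 : (q11_5 : MatD 14 K4).mul (dlM D D (G24PJ2.dec 10)) = MatD.one := by decide +kernel
theorem r11 : MatD.evM (dlM D D) (([10, 2, 10, 2, 10, 2] : List ℕ).map G24PJ2.dec) = MatD.one := by
  refine evM_step s11_6 ?_
  refine evM_step s11_5 ?_
  refine evM_step s11_4 ?_
  refine evM_step s11_3 ?_
  refine evM_step s11_2 ?_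
  refine evM_step s11_1 ?_
  rfl

def q14_1 : MatD 14 K4 := ⟨[.i, .o, .i, .i, .o, .o, .o, .o, .o, .o, .o, .o, .o, .o, .o, .i, .o, .i, .o, .o, .o, .o, .o, .o, .o, .o, .o, .o, .o, .o, .i, .o, .o, .o, .o, .o, .o, .o, .o, .o, .o, .o, .o, .o, .o, .i, .o, .o, .o, .o, .o, .o, .o, .o, .o, .o, .o, .o, .o, .o, .i, .o, .o, .o, .o, .o, .o, .o, .o, .o, .o, .o, .o, .o, .o, .i, .o, .o, .o, .o, .o, .o, .o, .o, .o, .o, .o, .o, .o, .o, .i, .o, .o, .o, .o, .o, .o, .o, .o, .o, .i, .o, .o, .o, .o, .i, .o, .o, .o, .o, .o, .o, .o, .o, .o, .i, .o, .o, .o, .o, .i, .o, .o, .o, .o, .o, .o, .o, .o, .o, .i, .o, .o, .o, .o, .i, .o, .o, .o, .o, .o, .o, .o, .o, .i, .o, .o, .o, .o, .o, .i, .o, .o, .o, .o, .o, .o, .o, .o, .i, .i, .o, .o, .o, .o, .i, .o, .o, .i, .i, .i, .i, .o, .o, .o, .i, .o, .o, .o, .o, .i, .o, .o, .i, .i, .i, .o, .o, .o,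 .o, .i, .o, .o, .o, .o, .i]⟩
theorem s14_1 : (MatD.one : MatD 14 K4).mul (dlM D D (G24PJ2.dec 4)) = q14_1 := by decide +kernel
theorem s14_2 : (q14_1 : MatD 14 K4).mul (dlM D D (G24PJ2.dec 4)) = MatD.one := by decide +kernel
theorem r14 : MatD.evM (dlM D D) (([4, 4] : List ℕ).map G24PJ2.dec) = MatD.one := by
  refine evM_step s14_2 ?_
  refine evM_step s14_1 ?_
  rfl

def q16_1 : MatD 14 K4 := ⟨[.i, .o, .i, .i, .o, .o, .o, .o, .o, .o, .o, .o, .o, .o, .o, .i, .o, .i, .o, .o, .o, .o, .o, .o, .o, .o, .o, .o, .o, .o, .i, .o, .o, .o, .o, .o, .o, .o, .o, .o, .o, .o, .o, .o, .o, .i, .o, .o, .o, .o, .o, .o, .o, .o, .o, .o, .o, .o, .o, .o, .i, .o, .o, .o, .o, .o, .o, .o, .o, .o, .o, .o, .o, .o, .o, .i, .o, .o, .o, .o, .o, .o, .o, .o, .o, .o, .o, .o, .o, .o, .i, .o, .o, .o, .o, .o, .o, .o, .o, .o, .i, .o, .o, .o, .o,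 .i, .o, .o, .o, .o, .o, .o, .o, .o, .o, .i, .o, .o, .o, .o, .i, .o, .o, .o, .o, .o, .o, .o, .o, .o, .i, .o, .o, .o, .o, .i, .o, .o, .o, .o, .o, .o, .o, .o, .i, .o, .o, .o, .o, .o, .i, .o, .o, .o, .o, .o, .o, .o, .o, .i, .i, .o, .o, .o, .o, .i, .o, .o, .i, .i, .i, .i, .o, .o, .o, .i, .o, .o, .o, .o, .i, .o, .o, .i, .i, .i, .o, .o, .o, .o, .i, .o, .o, .o, .o, .i]⟩
def q16_2 : MatD 14 K4 := ⟨[.i, .o, .o, .i, .o, .w, .v, .o, .o, .o, .o, .o, .o, .o, .o, .i, .w, .w, .i, .w, .o, .o, .o, .o, .o, .o, .o, .o, .o, .o, .i, .o, .o, .o, .o, .o, .o, .o, .o, .o, .o, .o, .o, .o, .o, .i, .o, .o, .o, .o, .o, .o, .o, .o, .o, .o, .o, .o, .w, .v, .i, .o, .o, .o, .o, .o, .o, .o, .o, .o, .o, .o, .i, .w, .o, .i, .o, .o, .o, .o, .o, .o, .o, .o, .o, .o, .v, .i, .o, .o, .i, .o, .o, .o, .o, .o, .o, .o, .o, .o, .w, .i, .w, .v, .o, .i,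 .o, .o, .o, .o, .o, .o, .o, .o, .i, .w, .v, .o, .w, .o, .i, .o, .o, .o, .o, .o, .o, .v, .w, .v, .i, .i, .w, .w, .o, .i, .o, .o, .o, .o, .w, .w, .o, .o, .o, .v, .i, .o, .v, .o, .i, .o, .o, .o, .i, .o, .v, .i, .o, .o, .i, .v, .w, .o, .o, .i, .o, .o, .w, .i, .w, .w, .i, .o, .v, .w, .i, .i, .w, .v, .i, .o, .w, .o, .i, .w, .v, .o, .w, .i, .w, .v, .i, .w, .o, .i]⟩
def q16_3 : MatD 14 K4 := ⟨[.i, .o, .i, .o, .o, .w, .v, .o, .o, .o, .o, .o, .o, .o, .o, .i, .w, .v, .i, .w, .o, .o, .o, .o, .o, .o, .o, .o, .o, .o, .i, .o, .o, .o, .o, .o, .o, .o, .o, .o, .o, .o, .o, .o, .o, .i, .o, .o, .o, .o, .o, .o, .o, .o, .o, .o, .o, .o, .w, .v, .i, .o, .o, .o, .o, .o, .o, .o, .o, .o, .o, .o, .i, .w, .o, .i, .o, .o, .o, .o, .o, .o, .o, .o, .o, .o, .v, .i, .o, .o, .i, .o, .o, .o, .o, .o, .o, .o, .o, .o, .v, .i, .w, .v, .o, .i, .o,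 .o, .o, .o, .o, .o, .o, .o, .i, .v, .v, .o, .w, .o, .i, .o, .o, .o, .o, .o, .o, .v, .o, .o, .o, .i, .w, .w, .o, .i, .o, .o, .o, .o, .w, .w, .w, .v, .i, .v, .i, .o, .v, .o, .i, .o, .o, .o, .i, .o, .i, .w, .o, .i, .o, .v, .w, .o, .o, .i, .o, .o, .v, .o, .v, .i, .w, .v, .o, .v, .i, .i, .w, .v, .i, .o, .w, .i, .v, .v, .i, .w, .o, .i, .v, .v, .i, .w, .o, .i]⟩
theorem s16_1 : (MatD.one : MatD 14 K4).mul (dlM D D (G24PJ2.dec 4)) = q16_1 := by decide +kernel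
theorem s16_2 : (q16_1 : MatD 14 K4).mul (dlM D D (G24PJ2.dec 8)) = q16_2 := by decide +kernel
theorem s16_3 : (q16_2 : MatD 14 K4).mul (dlM D D (G24PJ2.dec 4)) = q16_3 := by decide +kernel
theorem s16_4 : (q16_3 : MatD 14 K4).mul (dlM D D (G24PJ2.dec 8)) = MatD.one := by decide +kernel
theorem r16 : MatD.evM (dlM D D) (([8, 4, 8, 4] : List ℕ).map G24PJ2.dec) = MatD.one := by
  refine evM_step s16_4 ?_
  refine evM_step s16_3 ?_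
  refine evM_step s16_2 ?_
  refine evM_step s16_1 ?_
  rfl

def q19_1 : MatD 14 K4 := ⟨[.i, .o, .v, .o, .o, .w, .o, .v, .o, .w, .o, .o, .o, .o, .o, .i, .w, .o, .i, .w, .o, .v, .o, .o, .o, .o, .o, .o, .o, .o, .i, .o, .o, .o, .o, .o, .o, .o, .o, .o, .o, .o, .o, .o, .v, .i, .w, .v, .o, .i, .o, .o, .o, .o, .o, .o, .o, .o, .w, .o, .i, .o, .o, .v, .o, .o, .o, .o, .o, .o, .o, .o, .i, .o, .o, .i, .o, .w, .o, .o, .o, .o, .o, .o, .o, .w, .o, .i, .w, .o, .i, .o, .o, .v, .o, .o, .o, .o, .o, .o, .o, .o, .o, .o, .o, .i, .o, .o, .o, .o, .o, .o, .v, .v, .v, .v, .w, .v, .w, .i, .i, .o, .w, .v, .i, .o, .o, .o, .i, .o, .o, .o, .o, .w, .o, .i, .o, .o, .o, .o, .w, .w, .w, .i, .i, .o, .o, .v, .o, .o, .i, .o, .v, .o, .i, .o, .i, .o, .i, .i, .o, .w, .o, .w, .o, .i, .w, .o, .o, .o, .i, .o, .o, .i, .o, .v, .o, .i, .o, .o, .i, .o,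 .w, .v, .v, .i, .i, .w, .i, .v, .o, .o, .i, .w, .v, .i]⟩
def q19_2 : MatD 14 K4 := ⟨[.w, .i, .o, .o, .i, .o, .o, .w, .o, .o, .w, .i, .v, .v, .w, .w, .o, .v, .w, .i, .w, .v, .i, .w, .o, .o, .v, .i, .i, .v, .w, .i, .o, .v, .w, .w, .i, .i, .v, .i, .i, .w, .v, .v, .w, .i, .o, .v, .w, .i, .o, .i, .v, .i, .o, .i, .o, .i, .v, .w, .o, .w, .i, .o, .v, .w, .i, .v, .i, .i, .o, .w, .i, .v, .v, .w, .i, .w, .w, .o, .i, .i, .v, .v, .w, .o, .o, .o, .v, .o, .o, .i, .w, .w, .o, .w, .i, .i, .i, .o, .w, .w, .v, .o, .i, .i, .v, .w, .w, .v, .o, .i, .v, .w, .o, .v, .w, .i, .w, .v, .i, .i, .w, .o, .i, .w, .w, .o, .o, .i, .i, .w, .w, .w, .i, .o, .i, .i, .w, .w, .i, .o, .o, .i, .v, .w, .w, .i, .o, .o, .w, .w, .v, .v, .w, .i, .o, .w, .i, .v, .i, .w, .v, .v, .v, .o, .o, .o, .v, .o, .o, .v, .w, .i, .i, .v, .w, .o, .v, .w, .i, .i, .o,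 .o, .o, .o, .o, .o, .o, .o, .w, .o, .i, .v, .w, .w]⟩
def q19_3 : MatD 14 K4 := ⟨[.i, .o, .w, .i, .o, .w, .v, .o, .o, .w, .i, .o, .w, .v, .v, .i, .v, .v, .i, .i, .i, .o, .i, .v, .v, .i, .i, .i, .i, .v, .w, .i, .o, .v, .w, .w, .i, .i, .v, .i, .i, .w, .i, .w, .v, .i, .i, .v, .v, .o, .o, .v, .w, .v, .v, .i, .i, .o, .i, .i, .w, .v, .i, .o, .v, .i, .i, .v, .v, .i, .v, .i, .o, .i, .w, .i, .i, .w, .w, .w, .i, .i, .w, .v, .v, .w, .v, .o, .v, .v, .w, .o, .w, .v, .w, .i, .v, .i, .i, .o, .w, .w, .v, .o, .i, .i, .v, .w, .w, .v, .o, .i, .o, .o, .o, .w, .o, .o, .w, .o, .i, .o, .w, .o, .o, .w, .i, .v, .i, .v, .o, .i, .w, .w, .i, .w, .i, .i, .v, .w, .i, .w, .v, .w, .i, .v, .i, .o, .o, .v, .i, .v, .v, .v, .i, .o, .v, .w, .v, .i, .o, .o, .v, .v, .w, .w, .i, .o, .v, .i, .w, .i, .w, .w, .v, .w, .w, .o, .i, .i, .i, .i, .v, .w,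 .v, .w, .v, .v, .i, .o, .w, .v, .o, .i, .v, .w]⟩
theorem s19_1 : (MatD.one : MatD 14 K4).mul (dlM D D (G24PJ2.dec 6)) = q19_1 := by decide +kernel
theorem s19_2 : (q19_1 : MatD 14 K4).mul (dlM D D (G24PJ2.dec 2)) = q19_2 := by decide +kernel
theorem s19_3 : (q19_2 : MatD 14 K4).mul (dlM D D (G24PJ2.dec 6)) = q19_3 := by decide +kernel
theorem s19_4 : (q19_3 : MatD 14 K4).mul (dlM D D (G24PJ2.dec 2)) = MatD.one := by decide +kernel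
theorem r19 : MatD.evM (dlM D D) (([2, 6, 2, 6] : List ℕ).map G24PJ2.dec) = MatD.one := by
  refine evM_step s19_4 ?_
  refine evM_step s19_3 ?_
  refine evM_step s19_2 ?_
  refine evM_step s19_1 ?_
  rfl

def q20_1 : MatD 14 K4 := ⟨[.i, .o, .v, .o, .o, .w, .o, .v, .o, .w, .o, .o, .o, .o, .o, .i, .w, .o, .i, .w, .o, .v, .o, .o, .o, .o, .o, .o, .o, .o, .i, .o, .o, .o, .o, .o, .o, .o, .o, .o, .o, .o, .o, .o, .v, .i, .w, .v, .o, .i, .o, .o, .o, .o, .o, .o, .o, .o, .w, .o, .i, .o, .o, .v, .o, .o, .o, .o, .o, .o, .o, .o, .i, .o, .o, .i, .o, .w, .o, .o, .o, .o, .o, .o, .o, .w, .o, .i, .w, .o, .i, .o, .o, .v, .o, .o, .o, .o, .o, .o, .o, .o, .o, .o, .o, .i, .o, .o, .o, .o, .o, .o, .v, .v, .v, .v, .w, .v, .w, .i, .i, .o, .w, .v, .i, .o, .o, .o, .i, .o, .o, .o, .o, .w, .o, .i, .o, .o, .o, .o, .w, .w, .w, .i, .i, .o,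 .o, .v, .o, .o, .i, .o, .v, .o, .i, .o, .i, .o, .i, .i, .o, .w, .o, .w, .o, .i, .w, .o, .o, .o, .i, .o, .o, .i, .o, .v, .o, .i, .o, .o, .i, .o, .w, .v, .v, .i, .i, .w, .i, .v, .o, .o, .i, .w, .v, .i]⟩
def q20_2 : MatD 14 K4 := ⟨[.i, .o, .i, .i, .w, .w, .o, .v, .o, .w, .o, .o, .o, .o, .o, .i, .i, .i, .i, .w, .o, .v, .o, .o, .o, .o, .o, .o, .o, .o, .i, .o, .o, .o, .o, .o, .o, .o, .o, .o, .o, .o, .o, .o, .w, .i, .w, .v, .o, .i, .o, .o, .o, .o, .o, .o, .o, .o, .i, .o, .i, .o, .o, .v, .o, .o, .o, .o, .o, .o, .o, .o, .v, .o, .o, .i, .o, .w, .o, .o, .o, .o, .o, .o, .o, .w, .o, .v, .i, .o, .i, .o, .o, .v, .o, .o, .o, .o, .o, .o, .i, .o, .o, .o, .o, .i, .o, .o, .o, .o, .o, .o, .w, .w, .o, .v, .o, .o, .i, .o, .i, .o, .w, .v, .i, .o, .o, .o, .v, .o, .i, .o, .o, .w, .o, .i, .o, .o, .o, .o, .i, .i, .o, .w, .o, .o, .o,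 .o, .o, .o, .i, .o, .v, .o, .v, .w, .o, .v, .v, .o, .i, .o, .o, .w, .o, .i, .w, .o, .i, .i, .v, .i, .i, .i, .o, .w, .o, .i, .o, .o, .i, .o, .i, .i, .o, .w, .o, .o, .v, .o, .i, .o, .i, .w, .v, .i]⟩
def q20_3 : MatD 14 K4 := ⟨[.i, .o, .w, .i, .o, .v, .o, .o, .o, .o, .o, .o, .o, .o, .o, .i, .o, .i, .w, .v, .o, .i, .o, .o, .o, .o, .o, .o, .o, .o, .i, .o, .o, .o, .o, .o, .o, .o, .o, .o, .o, .o, .o, .o, .i, .i, .o, .o, .o, .o, .o, .o, .o, .o, .o, .o, .o, .o, .v, .o, .i, .o, .o, .o, .o, .o, .o, .o, .o, .o, .o, .o, .w, .o, .o, .i, .o, .o, .o, .o, .o, .o, .o, .o, .o, .o, .o, .w, .o, .i, .i, .o, .o, .o, .o, .o, .o, .o, .o, .o, .i, .o, .o, .o, .o, .i, .o, .o, .o, .o, .o, .o, .i, .o, .w, .v, .w, .v, .v, .i, .i, .o, .o, .o, .o, .o, .o, .o, .o, .o, .i, .o, .o, .v, .o, .i, .o, .o, .o, .o, .v, .v, .i, .v, .v, .w, .o, .v,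 .o, .i, .i, .o, .o, .o, .w, .o, .v, .w, .v, .v, .i, .w, .o, .o, .o, .i, .o, .o, .i, .i, .w, .i, .w, .v, .o, .v, .o, .w, .o, .o, .i, .o, .o, .w, .v, .w, .v, .i, .o, .w, .i, .o, .w, .v, .i, .i]⟩
def q20_4 : MatD 14 K4 := ⟨[.i, .o, .v, .o, .o, .v, .o, .o, .o, .o, .o, .o, .o, .o, .o, .i, .i, .o, .w, .v, .o, .i, .o, .o, .o, .o, .o, .o, .o, .o, .i, .o, .o, .o, .o, .o, .o, .o, .o, .o, .o, .o, .o, .o, .i, .i, .o, .o, .o, .o, .o, .o, .o, .o, .o, .o, .o, .o, .v, .o, .i, .o, .o, .o, .o, .o, .o, .o, .o, .o, .o, .o, .w, .o, .o, .i, .o, .o, .o, .o, .o, .o, .o, .o, .o, .o, .o, .w, .o, .i, .i, .o, .o, .o, .o, .o, .o, .o, .o, .o, .o, .o, .o, .o, .o, .i, .o, .o, .o, .o, .o, .o, .i, .o, .w, .v, .w, .v, .v, .i, .i, .o, .o, .o, .o, .o, .o, .o, .v, .o, .o, .o, .o, .v, .o, .i, .o, .o, .o, .o, .v, .v, .i, .v, .v, .w, .o, .v, .o,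 .i, .i, .o, .o, .o, .w, .o, .v, .o, .v, .w, .o, .w, .o, .o, .o, .i, .o, .o, .o, .o, .i, .o, .o, .v, .o, .w, .o, .w, .o, .o, .i, .o, .i, .w, .i, .i, .i, .w, .v, .v, .o, .o, .w, .v, .i, .i]⟩
def q20_5 : MatD 14 K4 := ⟨[.i, .o, .v, .o, .o, .i, .o, .w, .o, .w, .o, .o, .o, .o, .o, .i, .v, .o, .v, .i, .o, .w, .o, .o, .o, .o, .o, .o, .o, .o, .i, .o, .o, .o, .o, .o, .o, .o, .o, .o, .o, .o, .o, .o, .w, .i, .w, .v, .o, .i, .o, .o, .o, .o, .o, .o, .o, .o, .i, .o, .i, .o, .o, .v, .o, .o, .o, .o, .o, .o, .o, .o, .v, .o, .o, .i, .o, .w, .o, .o, .o, .o, .o, .o, .o, .w, .o, .v, .i, .o, .i, .o, .o, .v, .o, .o, .o, .o, .o, .o, .o, .o, .o, .o, .o, .i, .o, .o, .o, .o, .o, .o, .w, .w, .o, .v, .o, .o, .i, .o, .i, .o, .w, .v, .i, .o, .o, .o, .w, .o, .o, .o, .o, .i, .o, .i, .o, .o, .o, .o, .i, .i, .o, .w, .o, .o, .o, .o, .o, .o,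 .i, .o, .v, .o, .v, .o, .o, .o, .w, .o, .o, .o, .o, .i, .o, .i, .w, .o, .o, .o, .i, .o, .o, .w, .o, .v, .o, .v, .o, .o, .i, .o, .v, .v, .o, .i, .o, .o, .w, .o, .o, .o, .v, .i, .w, .i]⟩
def q20_6 : MatD 14 K4 := ⟨[.i, .o, .o, .i, .w, .i, .o, .w, .o, .w, .o, .o, .o, .o, .o, .i, .i, .i, .v, .i, .o, .w, .o, .o, .o, .o, .o, .o, .o, .o, .i, .o, .o, .o, .o, .o, .o, .o, .o, .o, .o, .o, .o, .o, .v, .i, .w, .v, .o, .i, .o, .o, .o, .o, .o, .o, .o, .o, .w, .o, .i, .o, .o, .v, .o, .o, .o, .o, .o, .o, .o, .o, .i, .o, .o, .i, .o, .w, .o, .o, .o, .o, .o, .o, .o, .w, .o, .i, .w, .o, .i, .o, .o, .v, .o, .o, .o, .o, .o, .o, .i, .o, .o, .o, .o, .i, .o, .o, .o, .o, .o, .o, .v, .v, .v, .v, .w, .v, .w, .i, .i, .o, .w, .v, .i, .o, .o, .o, .v, .o, .i, .o, .o, .i, .o, .i, .o, .o, .o, .o, .w, .w, .w, .i, .i, .o, .o, .v, .o, .o, .i,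 .o, .v, .o, .i, .w, .i, .i, .v, .i, .i, .w, .o, .i, .o, .i, .w, .o, .i, .i, .v, .i, .v, .w, .o, .w, .o, .v, .o, .o, .i, .o, .i, .o, .o, .w, .v, .i, .v, .w, .i, .o, .v, .i, .w, .i]⟩
def q20_7 : MatD 14 K4 := ⟨[.i, .o, .o, .i, .o, .o, .o, .o, .o, .o, .o, .o, .o, .o, .o, .i, .o, .i, .o, .o, .o, .o, .o, .o, .o, .o, .o, .o, .o, .o, .i, .o, .o, .o, .o, .o, .o, .o, .o, .o, .o, .o, .o, .o, .o, .i, .o, .o, .o, .o, .o, .o, .o, .o, .o, .o, .o, .o, .o, .o, .i, .o, .o, .o, .o, .o, .o, .o, .o, .o, .o, .o, .o, .o, .o, .i, .o, .o, .o, .o, .o, .o, .o, .o, .o, .o, .o, .o, .o, .o, .i, .o, .o, .o, .o, .o, .o, .o, .o, .o, .i, .o, .o, .o, .o, .i, .o, .o, .o, .o, .o, .o, .o, .o, .o, .o, .o, .o, .o, .o, .i, .o, .o, .o, .o, .o, .o, .o, .o, .o, .i, .o, .o, .o, .o, .i, .o, .o, .o, .o, .o, .o, .o, .o, .o, .o, .o, .o, .o, .o, .i, .o,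 .o, .o, .o, .o, .o, .o, .o, .o, .i, .o, .o, .o, .o, .i, .o, .o, .i, .i, .o, .i, .o, .o, .o, .o, .o, .o, .o, .o, .i, .o, .o, .o, .o, .o, .o, .o, .o, .o, .i, .o, .o, .o, .o, .i]⟩
def q20_8 : MatD 14 K4 := ⟨[.i, .o, .i, .o, .o, .o, .o, .o, .o, .o, .o, .o, .o, .o, .o, .i, .o, .o, .o, .o, .o, .o, .o, .o, .o, .o, .o, .o, .o, .o, .i, .o, .o, .o, .o, .o, .o, .o, .o, .o, .o, .o, .o, .o, .o, .i, .o, .o, .o, .o, .o, .o, .o, .o, .o, .o, .o, .o, .o, .o, .i, .o, .o, .o, .o, .o, .o, .o, .o, .o, .o, .o, .o, .o, .o, .i, .o, .o, .o, .o, .o, .o, .o, .o, .o, .o, .o, .o, .o, .o, .i, .o, .o, .o, .o, .o, .o, .o, .o, .o, .o, .o, .o, .o, .o, .i, .o, .o, .o, .o, .o, .o, .o, .o, .o, .i, .o, .o, .o, .o, .i, .o, .o, .o, .o, .o, .o, .o, .o, .o, .o, .o, .o, .o, .o, .i, .o, .o, .o, .o, .o, .o, .o, .o, .i, .o, .o, .o, .o, .o, .i, .o, .o,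 .o, .o, .o, .o, .o, .o, .i, .o, .o, .o, .o, .o, .i, .o, .o, .o, .o, .o, .o, .o, .o, .o, .i, .o, .o, .o, .o, .i, .o, .o, .i, .i, .o, .o, .o, .o, .o, .o, .o, .o, .o, .o, .i]⟩
def q20_9 : MatD 14 K4 := ⟨[.i, .o, .w, .o, .o, .w, .o, .v, .o, .w, .o, .o, .o, .o, .o, .i, .w, .o, .i, .w, .o, .v, .o, .o, .o, .o, .o, .o, .o, .o, .i, .o, .o, .o, .o, .o, .o, .o, .o, .o, .o, .o, .o, .o, .v, .i, .w, .v, .o, .i, .o, .o, .o, .o, .o, .o, .o, .o, .w, .o, .i, .o, .o, .v, .o, .o, .o, .o, .o, .o, .o, .o, .i, .o, .o, .i, .o, .w, .o, .o, .o, .o, .o, .o, .o, .w, .o, .i, .w, .o, .i, .o, .o, .v, .o, .o, .o, .o, .o, .o, .o, .o, .o, .o, .o, .i, .o, .o, .o, .o, .o, .o, .v, .v, .o, .w, .o, .o, .w, .o, .i, .o, .w, .v, .i, .o, .o, .o, .i, .o, .o, .o, .o, .w, .o, .i, .o, .o, .o, .o, .w, .w, .o, .i, .o, .o, .o, .o, .o, .o, .i, .o, .v, .o,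 .i, .o, .o, .o, .i, .o, .o, .o, .o, .w, .o, .i, .w, .o, .o, .o, .i, .o, .o, .i, .o, .w, .o, .i, .o, .o, .i, .o, .w, .w, .o, .i, .o, .o, .i, .o, .o, .o, .i, .w, .v, .i]⟩
def q20_10 : MatD 14 K4 := ⟨[.i, .o, .o, .i, .w, .w, .o, .v, .o, .w, .o, .o, .o, .o, .o, .i, .i, .i, .i, .w, .o, .v, .o, .o, .o, .o, .o, .o, .o, .o, .i, .o, .o, .o, .o, .o, .o, .o, .o, .o, .o, .o, .o, .o, .w, .i, .w, .v, .o, .i, .o, .o, .o, .o, .o, .o, .o, .o, .i, .o, .i, .o, .o, .v, .o, .o, .o, .o, .o, .o, .o, .o, .v, .o, .o, .i, .o, .w, .o, .o, .o, .o, .o, .o, .o, .w, .o, .v, .i, .o, .i, .o, .o, .v, .o, .o, .o, .o, .o, .o, .i, .o, .o, .o, .o, .i, .o, .o, .o, .o, .o, .o, .w, .w, .w, .w, .w, .v, .i, .i, .i, .o, .w, .v, .i, .o, .o, .o, .v, .o, .i, .o, .o, .w, .o, .i, .o, .o, .o, .o, .i, .i, .i, .w, .i, .o, .o, .v, .o, .o, .i, .o, .v, .o, .v,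 .w, .v, .v, .v, .i, .i, .w, .o, .w, .o, .i, .w, .o, .i, .i, .w, .i, .i, .i, .o, .v, .o, .i, .o, .o, .i, .o, .i, .o, .o, .v, .i, .w, .v, .v, .i, .o, .i, .w, .v, .i]⟩
def q20_11 : MatD 14 K4 := ⟨[.i, .o, .v, .i, .o, .v, .o, .o, .o, .o, .o, .o, .o, .o, .o, .i, .o, .i, .w, .v, .o, .i, .o, .o, .o, .o, .o, .o, .o, .o, .i, .o, .o, .o, .o, .o, .o, .o, .o, .o, .o, .o, .o, .o, .i, .i, .o, .o, .o, .o, .o, .o, .o, .o, .o, .o, .o, .o, .v, .o, .i, .o, .o, .o, .o, .o, .o, .o, .o, .o, .o, .o, .w, .o, .o, .i, .o, .o, .o, .o, .o, .o, .o, .o, .o, .o, .o, .w, .o, .i, .i, .o, .o, .o, .o, .o, .o, .o, .o, .o, .i, .o, .o, .o, .o, .i, .o, .o, .o, .o, .o, .o, .i, .o, .v, .w, .w, .v, .v, .i, .i, .o, .o, .o, .o, .o, .o, .o, .o, .o, .i, .o, .o, .v, .o, .i, .o, .o, .o, .o, .v, .v, .w, .v, .w, .w, .o, .v, .o, .i, .i, .o, .o, .o, .w, .o,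 .i, .w, .v, .w, .i, .w, .o, .o, .o, .i, .o, .o, .i, .i, .v, .i, .w, .v, .o, .w, .o, .w, .o, .o, .i, .o, .o, .v, .w, .v, .i, .w, .o, .v, .i, .o, .w, .v, .i, .i]⟩
def q20_12 : MatD 14 K4 := ⟨[.i, .o, .w, .o, .o, .v, .o, .o, .o, .o, .o, .o, .o, .o, .o, .i, .i, .o, .w, .v, .o, .i, .o, .o, .o, .o, .o, .o, .o, .o, .i, .o, .o, .o, .o, .o, .o, .o, .o, .o, .o, .o, .o, .o, .i, .i, .o, .o, .o, .o, .o, .o, .o, .o, .o, .o, .o, .o, .v, .o, .i, .o, .o, .o, .o, .o, .o, .o, .o, .o, .o, .o, .w, .o, .o, .i, .o, .o, .o, .o, .o, .o, .o, .o, .o, .o, .o, .w, .o, .i, .i, .o, .o, .o, .o, .o, .o, .o, .o, .o, .o, .o, .o, .o, .o, .i, .o, .o, .o, .o, .o, .o, .i, .o, .v, .w, .w, .v, .v, .i, .i, .o, .o, .o, .o, .o, .o, .o, .v, .o, .o, .o, .o, .v, .o, .i, .o, .o, .o, .o, .v, .v, .w, .v, .w, .w, .o, .v, .o, .i, .i, .o, .o, .o, .w, .o, .i,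 .o, .v, .v, .o, .w, .o, .o, .o, .i, .o, .o, .o, .o, .i, .o, .o, .v, .o, .v, .o, .w, .o, .o, .i, .o, .i, .v, .i, .i, .v, .i, .v, .w, .o, .o, .w, .v, .i, .i]⟩
def q20_13 : MatD 14 K4 := ⟨[.i, .o, .w, .o, .o, .i, .o, .w, .o, .w, .o, .o, .o, .o, .o, .i, .v, .o, .v, .i, .o, .w, .o, .o, .o, .o, .o, .o, .o, .o, .i, .o, .o, .o, .o, .o, .o, .o, .o, .o, .o, .o, .o, .o, .w, .i, .w, .v, .o, .i, .o, .o, .o, .o, .o, .o, .o, .o, .i, .o, .i, .o, .o, .v, .o, .o, .o, .o, .o, .o, .o, .o, .v, .o, .o, .i, .o, .w, .o, .o, .o, .o, .o, .o, .o, .w, .o, .v, .i, .o, .i, .o, .o, .v, .o, .o, .o, .o, .o, .o, .o, .o, .o, .o, .o, .i, .o, .o, .o, .o, .o, .o, .w, .w, .w, .w, .w, .v, .i, .i, .i, .o, .w, .v, .i, .o, .o, .o, .w, .o, .o, .o, .o, .i, .o, .i, .o, .o, .o, .o, .i, .i, .i, .w, .i, .o, .o, .v, .o, .o, .i, .o, .v, .o, .v, .o, .v, .o,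 .w, .i, .o, .w, .o, .i, .o, .i, .w, .o, .o, .o, .i, .o, .o, .w, .o, .w, .o, .v, .o, .o, .i, .o, .v, .w, .w, .i, .v, .i, .w, .w, .o, .o, .v, .i, .w, .i]⟩
def q20_14 : MatD 14 K4 := ⟨[.i, .o, .i, .i, .w, .i, .o, .w, .o, .w, .o, .o, .o, .o, .o, .i, .i, .i, .v, .i, .o, .w, .o, .o, .o, .o, .o, .o, .o, .o, .i, .o, .o, .o, .o, .o, .o, .o, .o, .o, .o, .o, .o, .o, .v, .i, .w, .v, .o, .i, .o, .o, .o, .o, .o, .o, .o, .o, .w, .o, .i, .o, .o, .v, .o, .o, .o, .o, .o, .o, .o, .o, .i, .o, .o, .i, .o, .w, .o, .o, .o, .o, .o, .o, .o, .w, .o, .i, .w, .o, .i, .o, .o, .v, .o, .o, .o, .o, .o, .o, .i, .o, .o, .o, .o, .i, .o, .o, .o, .o, .o, .o, .v, .v, .o, .w, .o, .o, .w, .o, .i, .o, .w, .v, .i, .o, .o, .o, .v, .o, .i, .o, .o, .i, .o, .i, .o, .o, .o, .o, .w, .w, .o, .i, .o, .o, .o, .o, .o, .o, .i, .o, .v, .o, .i, .w, .o, .i, .v,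 .o, .i, .o, .o, .i, .o, .i, .w, .o, .i, .i, .w, .i, .v, .w, .o, .v, .o, .v, .o, .o, .i, .o, .i, .i, .o, .v, .o, .o, .v, .o, .i, .o, .v, .i, .w, .i]⟩
def q20_15 : MatD 14 K4 := ⟨[.i, .o, .i, .i, .o, .o, .o, .o, .o, .o, .o, .o, .o, .o, .o, .i, .o, .i, .o, .o, .o, .o, .o, .o, .o, .o, .o, .o, .o, .o, .i, .o, .o, .o, .o, .o, .o, .o, .o, .o, .o, .o, .o, .o, .o, .i, .o, .o, .o, .o, .o, .o, .o, .o, .o, .o, .o, .o, .o, .o, .i, .o, .o, .o, .o, .o, .o, .o, .o, .o, .o, .o, .o, .o, .o, .i, .o, .o, .o, .o, .o, .o, .o, .o, .o, .o, .o, .o, .o, .o, .i, .o, .o, .o, .o, .o, .o, .o, .o, .o, .i, .o, .o, .o, .o, .i, .o, .o, .o, .o, .o, .o, .o, .o, .o, .i, .o, .o, .o, .o, .i, .o, .o, .o, .o, .o, .o, .o, .o, .o, .i, .o, .o, .o, .o, .i, .o, .o, .o, .o, .o, .o, .o, .o, .i, .o, .o, .o, .o, .o, .i, .o, .o, .o, .o, .o, .o, .o, .o, .i,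 .i, .o, .o, .o, .o, .i, .o, .o, .i, .i, .i, .i, .o, .o, .o, .i, .o, .o, .o, .o, .i, .o, .o, .i, .i, .i, .o, .o, .o, .o, .i, .o, .o, .o, .o, .i]⟩
theorem s20_1 : (MatD.one : MatD 14 K4).mul (dlM D D (G24PJ2.dec 6)) = q20_1 := by decide +kernel
theorem s20_2 : (q20_1 : MatD 14 K4).mul (dlM D D (G24PJ2.dec 4)) = q20_2 := by decide +kernel
theorem s20_3 : (q20_2 : MatD 14 K4).mul (dlM D D (G24PJ2.dec 6)) = q20_3 := by decide +kernel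
theorem s20_4 : (q20_3 : MatD 14 K4).mul (dlM D D (G24PJ2.dec 4)) = q20_4 := by decide +kernel
theorem s20_5 : (q20_4 : MatD 14 K4).mul (dlM D D (G24PJ2.dec 6)) = q20_5 := by decide +kernel
theorem s20_6 : (q20_5 : MatD 14 K4).mul (dlM D D (G24PJ2.dec 4)) = q20_6 := by decide +kernel
theorem s20_7 : (q20_6 : MatD 14 K4).mul (dlM D D (G24PJ2.dec 6)) = q20_7 := by decide +kernel
theorem s20_8 : (q20_7 : MatD 14 K4).mul (dlM D D (G24PJ2.dec 4)) = q20_8 := by decide +kernel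
theorem s20_9 : (q20_8 : MatD 14 K4).mul (dlM D D (G24PJ2.dec 6)) = q20_9 := by decide +kernel
theorem s20_10 : (q20_9 : MatD 14 K4).mul (dlM D D (G24PJ2.dec 4)) = q20_10 := by decide +kernel
theorem s20_11 : (q20_10 : MatD 14 K4).mul (dlM D D (G24PJ2.dec 6)) = q20_11 := by decide +kernel
theorem s20_12 : (q20_11 : MatD 14 K4).mul (dlM D D (G24PJ2.dec 4)) = q20_12 := by decide +kernel
theorem s20_13 : (q20_12 : MatD 14 K4).mul (dlM D D (G24PJ2.dec 6)) = q20_13 := by decide +kernel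
theorem s20_14 : (q20_13 : MatD 14 K4).mul (dlM D D (G24PJ2.dec 4)) = q20_14 := by decide +kernel
theorem s20_15 : (q20_14 : MatD 14 K4).mul (dlM D D (G24PJ2.dec 6)) = q20_15 := by decide +kernel
theorem s20_16 : (q20_15 : MatD 14 K4).mul (dlM D D (G24PJ2.dec 4)) = MatD.one := by decide +kernel
theorem r20 : MatD.evM (dlM D D) (([4, 6, 4, 6, 4, 6, 4, 6, 4, 6, 4, 6, 4, 6, 4, 6] : List ℕ).map G24PJ2.dec) = MatD.one := by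
  refine evM_step s20_16 ?_
  refine evM_step s20_15 ?_
  refine evM_step s20_14 ?_
  refine evM_step s20_13 ?_
  refine evM_step s20_12 ?_
  refine evM_step s20_11 ?_
  refine evM_step s20_10 ?_
  refine evM_step s20_9 ?_
  refine evM_step s20_8 ?_
  refine evM_step s20_7 ?_
  refine evM_step s20_6 ?_
  refine evM_step s20_5 ?_
  refine evM_step s20_4 ?_
  refine evM_step s20_3 ?_
  refine evM_step s20_2 ?_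
  refine evM_step s20_1 ?_
  rfl

def q25_1 : MatD 14 K4 := ⟨[.i, .o, .i, .o, .o, .w, .v, .o, .o, .o, .o, .o, .o, .o, .o, .i, .w, .v, .i, .w, .o, .o, .o, .o, .o, .o, .o, .o, .o, .o, .i, .o, .o, .o, .o, .o, .o, .o, .o, .o, .o, .o, .o, .o, .o, .i, .o, .o, .o, .o, .o, .o, .o, .o, .o, .o, .o, .o, .w, .v, .i, .o, .o, .o, .o, .o, .o, .o, .o, .o, .o, .o, .i, .w, .o, .i, .o, .o, .o, .o, .o, .o, .o, .o, .o, .o, .v, .i, .o, .o, .i, .o, .o, .o, .o, .o, .o, .o, .o, .o, .v, .i, .w, .v, .o, .i, .o, .o, .o, .o, .o, .o, .o, .o, .i, .v, .v, .o, .w, .o, .i, .o, .o, .o, .o, .o, .o, .v, .o, .o, .o, .i, .w, .w, .o, .i, .o, .o, .o, .o, .w, .w, .w, .v, .i, .v, .i, .o, .v, .o, .i, .o, .o, .o, .i, .o, .i, .w, .o, .i, .o, .v, .w, .o, .o, .i, .o, .o, .v, .o, .v, .i, .w, .v, .o, .v, .i, .i, .w, .v, .i, .o, .w, .i, .v, .v, .i, .w, .o,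 .i, .v, .v, .i, .w, .o, .i]⟩
def q25_2 : MatD 14 K4 := ⟨[.v, .o, .w, .w, .i, .i, .w, .i, .v, .w, .i, .o, .w, .v, .w, .v, .v, .i, .v, .v, .v, .o, .v, .i, .o, .o, .i, .i, .i, .v, .w, .i, .o, .v, .w, .w, .i, .i, .v, .i, .i, .w, .i, .w, .v, .i, .i, .v, .v, .o, .o, .v, .w, .v, .v, .i, .o, .o, .o, .o, .i, .o, .o, .v, .i, .i, .i, .v, .v, .i, .o, .i, .v, .w, .o, .v, .w, .o, .v, .w, .i, .i, .w, .v, .i, .w, .i, .w, .w, .w, .o, .i, .i, .v, .w, .i, .v, .i, .v, .v, .w, .i, .o, .v, .w, .i, .o, .i, .v, .i, .o, .i, .o, .i, .w, .v, .v, .w, .w, .w, .i, .i, .o, .v, .o, .w, .v, .w, .i, .v, .i, .w, .i, .w, .w, .o, .w, .o, .v, .w, .v, .i, .w, .v, .o, .w, .w, .w, .v, .w, .v, .o, .v, .v, .v, .i, .v, .v, .i, .o, .i, .v, .o, .w, .o, .i, .i, .o, .i, .w, .o, .v, .v, .v, .v, .v, .i, .w, .w, .o, .i, .i, .v, .w, .w, .o, .v, .w, .i, .w,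 .w, .i, .v, .o, .v, .w]⟩
def q25_3 : MatD 14 K4 := ⟨[.i, .o, .w, .i, .o, .w, .v, .o, .o, .w, .i, .o, .w, .v, .v, .i, .v, .v, .i, .i, .i, .o, .i, .v, .v, .i, .i, .i, .i, .v, .w, .i, .o, .v, .w, .w, .i, .i, .v, .i, .i, .w, .i, .w, .v, .i, .i, .v, .v, .o, .o, .v, .w, .v, .v, .i, .i, .o, .i, .i, .w, .v, .i, .o, .v, .i, .i, .v, .v, .i, .v, .i, .o, .i, .w, .i, .i, .w, .w, .w, .i, .i, .w, .v, .v, .w, .v, .o, .v, .v, .w, .o, .w, .v, .w, .i, .v, .i, .i, .o, .w, .w, .v, .o, .i, .i, .v, .w, .w, .v, .o, .i, .o, .o, .o, .w, .o, .o, .w, .o, .i, .o, .w, .o, .o, .w, .i, .v, .i, .v, .o, .i, .w, .w, .i, .w, .i, .i, .v, .w, .i, .w, .v, .w, .i, .v, .i, .o, .o, .v, .i, .v, .v, .v, .i, .o, .v, .w, .v, .i, .o, .o, .v, .v, .w, .w, .i, .o, .v, .i, .w, .i, .w, .w, .v, .w, .w, .o, .i, .i, .i, .i, .v, .w, .v, .w, .v, .v, .i, .o, .w,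 .v, .o, .i, .v, .w]⟩
theorem s25_1 : (MatD.one : MatD 14 K4).mul (dlM D D (G24PJ2.dec 8)) = q25_1 := by decide +kernel
theorem s25_2 : (q25_1 : MatD 14 K4).mul (dlM D D (G24PJ2.dec 2)) = q25_2 := by decide +kernel
theorem s25_3 : (q25_2 : MatD 14 K4).mul (dlM D D (G24PJ2.dec 8)) = q25_3 := by decide +kernel
theorem s25_4 : (q25_3 : MatD 14 K4).mul (dlM D D (G24PJ2.dec 2)) = MatD.one := by decide +kernel
theorem r25 : MatD.evM (dlM D D) (([2, 8, 2, 8] : List ℕ).map G24PJ2.dec) = MatD.one := by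
  refine evM_step s25_4 ?_
  refine evM_step s25_3 ?_
  refine evM_step s25_2 ?_
  refine evM_step s25_1 ?_
  rfl

def q27_1 : MatD 14 K4 := ⟨[.i, .o, .i, .o, .o, .w, .v, .o, .o, .o, .o, .o, .o, .o, .o, .i, .w, .v, .i, .w, .o, .o, .o, .o, .o, .o, .o, .o, .o, .o, .i, .o, .o, .o, .o, .o, .o, .o, .o, .o, .o, .o, .o, .o, .o, .i, .o, .o, .o, .o, .o, .o, .o, .o, .o, .o, .o, .o, .w, .v, .i, .o, .o, .o, .o, .o, .o, .o, .o, .o, .o, .o, .i, .w, .o, .i, .o, .o, .o, .o, .o, .o, .o, .o, .o, .o, .v, .i, .o, .o, .i, .o, .o, .o, .o, .o, .o, .o, .o, .o, .v, .i, .w, .v, .o, .i, .o, .o, .o, .o, .o, .o, .o, .o, .i, .v, .v, .o, .w, .o, .i, .o, .o, .o, .o, .o, .o, .v, .o, .o, .o, .i, .w, .w, .o, .i, .o, .o, .o, .o, .w, .w, .w, .v, .i, .v, .i, .o, .v, .o, .i, .o, .o, .o, .i, .o, .i, .w, .o, .i, .o, .v, .w, .o, .o, .i, .o, .o, .v,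 .o, .v, .i, .w, .v, .o, .v, .i, .i, .w, .v, .i, .o, .w, .i, .v, .v, .i, .w, .o, .i, .v, .v, .i, .w, .o, .i]⟩
def q27_2 : MatD 14 K4 := ⟨[.i, .i, .o, .v, .i, .o, .v, .o, .o, .o, .o, .o, .o, .o, .o, .i, .w, .v, .i, .w, .o, .o, .o, .o, .o, .o, .o, .o, .o, .o, .i, .o, .o, .o, .o, .o, .o, .o, .o, .o, .o, .o, .o, .o, .v, .i, .w, .v, .o, .i, .o, .o, .o, .o, .o, .o, .o, .o, .w, .v, .o, .w, .o, .o, .o, .o, .o, .o, .o, .o, .o, .o, .i, .w, .v, .o, .o, .o, .o, .o, .o, .o, .o, .o, .o, .w, .o, .o, .o, .v, .i, .i, .o, .v, .o, .o, .o, .o, .o, .o, .o, .i, .o, .o, .o, .o, .o, .o, .o, .o, .o, .o, .v, .o, .i, .w, .v, .i, .o, .o, .i, .i, .w, .v, .i, .o, .o, .o, .i, .w, .o, .o, .w, .o, .o, .o, .o, .o, .o, .o, .w, .o, .v, .i, .o, .v, .o, .i, .v, .o, .o, .w, .o, .o, .i, .i, .w, .v, .i, .w, .v, .o, .w, .o, .v, .o, .o, .o, .o, .o,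 .i, .o, .v, .o, .w, .o, .i, .o, .o, .o, .o, .o, .w, .w, .o, .i, .w, .v, .o, .i, .v, .v, .i, .w, .o, .i]⟩
def q27_3 : MatD 14 K4 := ⟨[.i, .i, .v, .o, .o, .o, .o, .o, .o, .o, .o, .o, .o, .o, .o, .i, .o, .o, .o, .o, .o, .o, .o, .o, .o, .o, .o, .o, .o, .o, .i, .o, .o, .o, .o, .o, .o, .o, .o, .o, .o, .o, .o, .o, .o, .o, .o, .o, .o, .i, .o, .o, .o, .o, .o, .o, .o, .o, .o, .o, .o, .w, .o, .o, .o, .o, .o, .o, .o, .o, .o, .o, .o, .o, .v, .o, .o, .o, .o, .o, .o, .o, .o, .o, .o, .o, .o, .o, .o, .o, .o, .o, .o, .v, .o, .o, .o, .o, .o, .o, .o, .i, .o, .o, .o, .o, .o, .o, .o, .o, .o, .o, .o, .o, .o, .o, .o, .o, .o, .v, .o, .o, .o, .o, .i, .o, .o, .o, .o, .o, .o, .o, .w, .o, .o, .o, .o, .o, .o, .o, .o, .o, .o, .o, .o, .i, .o, .o, .o, .o, .o, .w, .o, .o, .o, .o, .o, .o, .w, .o, .o, .o, .o, .o, .v, .o, .o, .o, .o, .o, .o,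 .v, .o, .o, .o, .o, .i, .o, .o, .o, .o, .o, .o, .v, .w, .o, .o, .o, .o, .o, .o, .o, .o, .o, .o, .i]⟩
def q27_4 : MatD 14 K4 := ⟨[.i, .i, .w, .o, .i, .o, .o, .o, .o, .w, .o, .o, .o, .o, .o, .i, .w, .o, .i, .w, .o, .v, .o, .o, .o, .o, .o, .o, .o, .o, .i, .o, .o, .o, .o, .o, .o, .o, .o, .o, .o, .o, .o, .o, .o, .o, .o, .o, .o, .i, .o, .o, .o, .o, .o, .o, .o, .o, .w, .o, .o, .w, .o, .v, .o, .o, .o, .o, .o, .o, .o, .o, .i, .o, .v, .o, .o, .w, .o, .o, .o, .o, .o, .o, .o, .o, .v, .o, .o, .o, .o, .i, .o, .v, .o, .o, .o, .o, .o, .o, .v, .i, .w, .v, .o, .i, .o, .o, .o, .o, .o, .o, .o, .o, .i, .o, .o, .i, .o, .o, .o, .i, .o, .o, .i, .o, .o, .v, .o, .w, .v, .o, .w, .o, .o, .i, .o, .o, .o, .o, .w, .o, .v, .o, .w, .v, .o, .i, .o, .v, .o, .w, .v, .o, .i, .i, .w, .v, .i, .o, .o, .v, .o, .o, .v, .o, .w, .o, .v, .v, .i, .o,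 .v, .i, .w, .w, .i, .o, .w, .v, .i, .o, .w, .o, .o, .i, .w, .v, .i, .i, .o, .o, .i, .w, .v, .i]⟩
def q27_5 : MatD 14 K4 := ⟨[.i, .o, .v, .o, .o, .w, .o, .v, .o, .w, .o, .o, .o, .o, .o, .i, .w, .o, .i, .w, .o, .v, .o, .o, .o, .o, .o, .o, .o, .o, .i, .o, .o, .o, .o, .o, .o, .o, .o, .o, .o, .o, .o, .o, .v, .i, .w, .v, .o, .i, .o, .o, .o, .o, .o, .o, .o, .o, .w, .o, .i, .o, .o, .v, .o, .o, .o, .o, .o, .o, .o, .o, .i, .o, .o, .i, .o, .w, .o, .o, .o, .o, .o, .o, .o, .w, .o, .i, .w, .o, .i, .o, .o, .v, .o, .o, .o, .o, .o, .o, .o, .o, .o, .o, .o, .i, .o, .o, .o, .o, .o, .o, .v, .v, .v, .v, .w, .v, .w, .i, .i, .o, .w, .v, .i, .o, .o, .o, .i, .o, .o, .o, .o, .w, .o, .i, .o, .o, .o, .o, .w, .w, .w, .i, .i, .o, .o, .v, .o, .o, .i, .o, .v, .o, .i, .o, .i, .o, .i, .i, .o, .w, .o, .w, .o, .i, .w, .o, .o, .o, .i, .o, .o,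 .i, .o, .v, .o, .i, .o, .o, .i, .o, .w, .v, .v, .i, .i, .w, .i, .v, .o, .o, .i, .w, .v, .i]⟩
theorem s27_1 : (MatD.one : MatD 14 K4).mul (dlM D D (G24PJ2.dec 8)) = q27_1 := by decide +kernel
theorem s27_2 : (q27_1 : MatD 14 K4).mul (dlM D D (G24PJ2.dec 6)) = q27_2 := by decide +kernel
theorem s27_3 : (q27_2 : MatD 14 K4).mul (dlM D D (G24PJ2.dec 8)) = q27_3 := by decide +kernel
theorem s27_4 : (q27_3 : MatD 14 K4).mul (dlM D D (G24PJ2.dec 6)) = q27_4 := by decide +kernel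
theorem s27_5 : (q27_4 : MatD 14 K4).mul (dlM D D (G24PJ2.dec 8)) = q27_5 := by decide +kernel
theorem s27_6 : (q27_5 : MatD 14 K4).mul (dlM D D (G24PJ2.dec 6)) = MatD.one := by decide +kernel
theorem r27 : MatD.evM (dlM D D) (([6, 8, 6, 8, 6, 8] : List ℕ).map G24PJ2.dec) = MatD.one := by
  refine evM_step s27_6 ?_
  refine evM_step s27_5 ?_
  refine evM_step s27_4 ?_
  refine evM_step s27_3 ?_
  refine evM_step s27_2 ?_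
  refine evM_step s27_1 ?_
  rfl

def q30_1 : MatD 14 K4 := ⟨[.i, .o, .w, .o, .o, .o, .o, .o, .o, .o, .o, .o, .o, .o, .o, .i, .o, .o, .o, .o, .o, .o, .o, .o, .o, .o, .o, .o, .o, .o, .i, .o, .o, .o, .o, .o, .o, .o, .o, .o, .o, .o, .o, .o, .o, .i, .o, .o, .o, .o, .o, .o, .o, .o, .o, .o, .o, .o, .o, .o, .i, .o, .o, .o, .o, .o, .o, .o, .o, .o, .o, .o, .o, .o, .o, .i, .o, .o, .o, .o, .o, .o, .o, .o, .o, .o, .o, .o, .o, .o, .i, .o, .o, .o, .o, .o, .o, .o, .o, .o, .o, .o, .o, .o, .o, .i, .o, .o, .o, .o, .o, .o, .o, .o, .o, .w, .o, .o, .o, .o, .i, .o, .o, .o, .o, .o, .o, .o, .o, .o, .o, .o, .o, .o, .o, .i, .o, .o, .o, .o, .o, .o, .o, .o, .w, .o, .o, .o, .o, .o, .i, .o, .o, .o, .o, .o, .o, .o, .o, .w, .o, .o, .o, .o, .o, .i, .o, .o, .o, .o, .o, .o, .o, .o, .o, .w, .o, .o, .o, .o, .i, .o, .o, .w, .v, .o, .o, .o, .o,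 .o, .o, .o, .o, .o, .o, .i]⟩
def q30_2 : MatD 14 K4 := ⟨[.i, .o, .v, .o, .o, .o, .o, .o, .o, .o, .o, .o, .o, .o, .o, .i, .o, .o, .o, .o, .o, .o, .o, .o, .o, .o, .o, .o, .o, .o, .i, .o, .o, .o, .o, .o, .o, .o, .o, .o, .o, .o, .o, .o, .o, .i, .o, .o, .o, .o, .o, .o, .o, .o, .o, .o, .o, .o, .o, .o, .i, .o, .o, .o, .o, .o, .o, .o, .o, .o, .o, .o, .o, .o, .o, .i, .o, .o, .o, .o, .o, .o, .o, .o, .o, .o, .o, .o, .o, .o, .i, .o, .o, .o, .o, .o, .o, .o, .o, .o, .o, .o, .o, .o, .o, .i, .o, .o, .o, .o, .o, .o, .o, .o, .o, .v, .o, .o, .o, .o, .i, .o, .o, .o, .o, .o, .o, .o, .o, .o, .o, .o, .o, .o, .o, .i, .o, .o, .o, .o, .o, .o, .o, .o, .v, .o, .o, .o, .o, .o, .i, .o, .o, .o, .o, .o, .o, .o, .o, .v, .o, .o, .o, .o, .o, .i, .o, .o, .o, .o, .o, .o, .o, .o, .o, .v, .o, .o, .o, .o, .i, .o, .o, .v, .w, .o, .o, .o, .o, .o,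 .o, .o, .o, .o, .o, .i]⟩
def q30_3 : MatD 14 K4 := ⟨[.i, .o, .i, .o, .o, .o, .o, .o, .o, .o, .o, .o, .o, .o, .o, .i, .o, .o, .o, .o, .o, .o, .o, .o, .o, .o, .o, .o, .o, .o, .i, .o, .o, .o, .o, .o, .o, .o, .o, .o, .o, .o, .o, .o, .o, .i, .o, .o, .o, .o, .o, .o, .o, .o, .o, .o, .o, .o, .o, .o, .i, .o, .o, .o, .o, .o, .o, .o, .o, .o, .o, .o, .o, .o, .o, .i, .o, .o, .o, .o, .o, .o, .o, .o, .o, .o, .o, .o, .o, .o, .i, .o, .o, .o, .o, .o, .o, .o, .o, .o, .o, .o, .o, .o, .o, .i, .o, .o, .o, .o, .o, .o, .o, .o, .o, .i, .o, .o, .o, .o, .i, .o, .o, .o, .o, .o, .o, .o, .o, .o, .o, .o, .o, .o, .o, .i, .o, .o, .o, .o, .o, .o, .o, .o, .i, .o, .o, .o, .o, .o, .i, .o, .o, .o, .o, .o, .o, .o, .o, .i, .o, .o, .o, .o, .o, .i, .o, .o, .o, .o, .o, .o, .o, .o, .o, .i, .o, .o, .o, .o, .i, .o, .o, .i, .i, .o, .o, .o, .o, .o, .o,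 .o, .o, .o, .o, .i]⟩
theorem s30_1 : (MatD.one : MatD 14 K4).mul (dlM D D (G24PJ2.dec 10)) = q30_1 := by decide +kernel
theorem s30_2 : (q30_1 : MatD 14 K4).mul (dlM D D (G24PJ2.dec 0)) = q30_2 := by decide +kernel
theorem s30_3 : (q30_2 : MatD 14 K4).mul (dlM D D (G24PJ2.dec 10)) = q30_3 := by decide +kernel
theorem s30_4 : (q30_3 : MatD 14 K4).mul (dlM D D (G24PJ2.dec 0)) = MatD.one := by decide +kernel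
theorem r30 : MatD.evM (dlM D D) (([0, 10, 0, 10] : List ℕ).map G24PJ2.dec) = MatD.one := by
  refine evM_step s30_4 ?_
  refine evM_step s30_3 ?_
  refine evM_step s30_2 ?_
  refine evM_step s30_1 ?_
  rfl

def q34_1 : MatD 14 K4 := ⟨[.i, .o, .w, .o, .o, .o, .o, .o, .o, .o, .o, .o, .o, .o, .o, .i, .o, .o, .o, .o, .o, .o, .o, .o, .o, .o, .o, .o, .o, .o, .i, .o, .o, .o, .o, .o, .o, .o, .o, .o, .o, .o, .o, .o, .o, .i, .o, .o, .o, .o, .o, .o, .o, .o, .o, .o, .o, .o, .o, .o, .i, .o, .o, .o, .o, .o, .o, .o, .o, .o, .o, .o, .o, .o, .o, .i, .o, .o, .o, .o, .o, .o, .o, .o, .o, .o, .o, .o, .o, .o, .i, .o, .o, .o, .o, .o, .o, .o, .o, .o, .o, .o, .o, .o, .o, .i, .o, .o, .o, .o, .o, .o, .o, .o, .o, .w, .o, .o, .o, .o, .i, .o, .o, .o, .o, .o, .o, .o, .o, .o, .o, .o, .o, .o, .o, .i, .o, .o, .o, .o, .o, .o, .o, .o, .w, .o,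 .o, .o, .o, .o, .i, .o, .o, .o, .o, .o, .o, .o, .o, .w, .o, .o, .o, .o, .o, .i, .o, .o, .o, .o, .o, .o, .o, .o, .o, .w, .o, .o, .o, .o, .i, .o, .o, .w, .v, .o, .o, .o, .o, .o, .o, .o, .o, .o, .o, .i]⟩
def q34_2 : MatD 14 K4 := ⟨[.i, .o, .v, .o, .o, .w, .v, .o, .o, .o, .o, .o, .o, .o, .o, .i, .w, .v, .i, .w, .o, .o, .o, .o, .o, .o, .o, .o, .o, .o, .i, .o, .o, .o, .o, .o, .o, .o, .o, .o, .o, .o, .o, .o, .o, .i, .o, .o, .o, .o, .o, .o, .o, .o, .o, .o, .o, .o, .w, .v, .i, .o, .o, .o, .o, .o, .o, .o, .o, .o, .o, .o, .i, .w, .o, .i, .o, .o, .o, .o, .o, .o, .o, .o, .o, .o, .v, .i, .o, .o, .i, .o, .o, .o, .o, .o, .o, .o, .o, .o, .v, .i, .w, .v, .o, .i, .o, .o, .o, .o, .o, .o, .o, .o, .i, .i, .v, .o, .w, .o, .i, .o, .o, .o, .o, .o, .o, .v, .o, .o, .o, .i, .w, .w, .o, .i, .o, .o, .o, .o, .w, .w, .i, .w, .v, .v, .i,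 .o, .v, .o, .i, .o, .o, .o, .i, .o, .v, .i, .o, .v, .o, .v, .w, .o, .o, .i, .o, .o, .v, .o, .w, .v, .i, .w, .o, .i, .i, .i, .w, .v, .i, .o, .w, .v, .v, .w, .v, .i, .o, .i, .v, .v, .i, .w, .o, .i]⟩
def q34_3 : MatD 14 K4 := ⟨[.i, .o, .i, .o, .o, .w, .v, .o, .o, .o, .o, .o, .o, .o, .o, .i, .w, .v, .i, .w, .o, .o, .o, .o, .o, .o, .o, .o, .o, .o, .i, .o, .o, .o, .o, .o, .o, .o, .o, .o, .o, .o, .o, .o, .o, .i, .o, .o, .o, .o, .o, .o, .o, .o, .o, .o, .o, .o, .w, .v, .i, .o, .o, .o, .o, .o, .o, .o, .o, .o, .o, .o, .i, .w, .o, .i, .o, .o, .o, .o, .o, .o, .o, .o, .o, .o, .v, .i, .o, .o, .i, .o, .o, .o, .o, .o, .o, .o, .o, .o, .v, .i, .w, .v, .o, .i, .o, .o, .o, .o, .o, .o, .o, .o, .i, .v, .v, .o, .w, .o, .i, .o, .o, .o, .o, .o, .o, .v, .o, .o, .o, .i, .w, .w, .o, .i, .o, .o, .o, .o, .w, .w, .w, .v, .i, .v, .i, .o,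 .v, .o, .i, .o, .o, .o, .i, .o, .i, .w, .o, .i, .o, .v, .w, .o, .o, .i, .o, .o, .v, .o, .v, .i, .w, .v, .o, .v, .i, .i, .w, .v, .i, .o, .w, .i, .v, .v, .i, .w, .o, .i, .v, .v, .i, .w, .o, .i]⟩
theorem s34_1 : (MatD.one : MatD 14 K4).mul (dlM D D (G24PJ2.dec 10)) = q34_1 := by decide +kernel
theorem s34_2 : (q34_1 : MatD 14 K4).mul (dlM D D (G24PJ2.dec 8)) = q34_2 := by decide +kernel
theorem s34_3 : (q34_2 : MatD 14 K4).mul (dlM D D (G24PJ2.dec 10)) = q34_3 := by decide +kernel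
theorem s34_4 : (q34_3 : MatD 14 K4).mul (dlM D D (G24PJ2.dec 8)) = MatD.one := by decide +kernel
theorem r34 : MatD.evM (dlM D D) (([8, 10, 8, 10] : List ℕ).map G24PJ2.dec) = MatD.one := by
  refine evM_step s34_4 ?_
  refine evM_step s34_3 ?_
  refine evM_step s34_2 ?_
  refine evM_step s34_1 ?_
  rfl

def q35_1 : MatD 14 K4 := ⟨[.i, .o, .w, .o, .o, .o, .o, .o, .o, .o, .o, .o, .o, .o, .o, .i, .o, .o, .o, .o, .o, .o, .o, .o, .o, .o, .o, .o, .o, .o, .i, .o, .o, .o, .o, .o, .o, .o, .o, .o, .o, .o, .o, .o, .o, .i, .o, .o, .o, .o, .o, .o, .o, .o, .o, .o, .o, .o, .o, .o, .i, .o, .o, .o, .o, .o, .o, .o, .o, .o, .o, .o, .o, .o, .o, .i, .o, .o, .o, .o, .o, .o, .o, .o, .o, .o, .o, .o, .o, .o, .i, .o, .o, .o, .o, .o, .o, .o, .o, .o, .o, .o, .o, .o, .o, .i, .o, .o, .o, .o, .o, .o, .o, .o, .o, .w, .o, .o, .o, .o, .i,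 .o, .o, .o, .o, .o, .o, .o, .o, .o, .o, .o, .o, .o, .o, .i, .o, .o, .o, .o, .o, .o, .o, .o, .w, .o, .o, .o, .o, .o, .i, .o, .o, .o, .o, .o, .o, .o, .o, .w, .o, .o, .o, .o, .o, .i, .o, .o, .o, .o, .o, .o, .o, .o, .o, .w, .o, .o, .o, .o, .i, .o, .o, .w, .v, .o, .o, .o, .o, .o, .o, .o, .o, .o, .o, .i]⟩
theorem s35_1 : (MatD.one : MatD 14 K4).mul (dlM D D (G24PJ2.dec 10)) = q35_1 := by decide +kernel
theorem s35_2 : (q35_1 : MatD 14 K4).mul (dlM D D (G24PJ2.dec 10)) = MatD.one := by decide +kernel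
theorem r35 : MatD.evM (dlM D D) (([10, 10] : List ℕ).map G24PJ2.dec) = MatD.one := by
  refine evM_step s35_2 ?_
  refine evM_step s35_1 ?_
  rfl

end Cfsg.Agent.Helper4.TC.G24Chk
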