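import Cfsg.Agent.Lib.Helper4.TC.G24Chk0
import Cfsg.Agent.Lib.Helper4.TC.G24Chk1
import Cfsg.Agent.Lib.Helper4.TC.G24Chk2
import Cfsg.Agent.Lib.Helper4.TC.G24Chk3

set_option autoImplicit false
set_option maxRecDepth 100000
set_option maxHeartbeats 0

namespace Cfsg.Agent.Helper4.TC.G24Chk

open Cfsg.Agent.Helper4.TC Cfsg.Agent.Helper4.TC.G24Mat Cfsg.Agent.Lib.Helper6.FFour

theorem hchk : ∀ b ∈ G24PJ2.bases, MatD.evM (dlM D D) (b.map G24PJ2.dec) = MatD.one := by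
  unfold G24PJ2.bases
  refine List.forall_mem_cons.2 ⟨r0, ?_⟩
  refine List.forall_mem_cons.2 ⟨r1, ?_⟩
  refine List.forall_mem_cons.2 ⟨r2, ?_⟩
  refine List.forall_mem_cons.2 ⟨r3, ?_⟩
  refine List.forall_mem_cons.2 ⟨r4, ?_⟩
  refine List.forall_mem_cons.2 ⟨r5, ?_⟩
  refine List.forall_mem_cons.2 ⟨r6, ?_⟩
  refine List.forall_mem_cons.2 ⟨r7, ?_⟩
  refine List.forall_mem_cons.2 ⟨r8, ?_⟩
  refine List.forall_mem_cons.2 ⟨r9, ?_⟩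
  refine List.forall_mem_cons.2 ⟨r10, ?_⟩
  refine List.forall_mem_cons.2 ⟨r11, ?_⟩
  refine List.forall_mem_cons.2 ⟨r12, ?_⟩
  refine List.forall_mem_cons.2 ⟨r13, ?_⟩
  refine List.forall_mem_cons.2 ⟨r14, ?_⟩
  refine List.forall_mem_cons.2 ⟨r15, ?_⟩
  refine List.forall_mem_cons.2 ⟨r16, ?_⟩
  refine List.forall_mem_cons.2 ⟨r17, ?_⟩
  refine List.forall_mem_cons.2 ⟨r18, ?_⟩
  refine List.forall_mem_cons.2 ⟨r19, ?_⟩
  refine List.forall_mem_cons.2 ⟨r20, ?_⟩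
  refine List.forall_mem_cons.2 ⟨r21, ?_⟩
  refine List.forall_mem_cons.2 ⟨r22, ?_⟩
  refine List.forall_mem_cons.2 ⟨r23, ?_⟩
  refine List.forall_mem_cons.2 ⟨r24, ?_⟩
  refine List.forall_mem_cons.2 ⟨r25, ?_⟩
  refine List.forall_mem_cons.2 ⟨r26, ?_⟩
  refine List.forall_mem_cons.2 ⟨r27, ?_⟩
  refine List.forall_mem_cons.2 ⟨r28, ?_⟩
  refine List.forall_mem_cons.2 ⟨r29, ?_⟩
  refine List.forall_mem_cons.2 ⟨r30, ?_⟩
  refine List.forall_mem_cons.2 ⟨r31, ?_⟩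
  refine List.forall_mem_cons.2 ⟨r32, ?_⟩
  refine List.forall_mem_cons.2 ⟨r33, ?_⟩
  refine List.forall_mem_cons.2 ⟨r34, ?_⟩
  refine List.forall_mem_cons.2 ⟨r35, ?_⟩
  refine List.forall_mem_cons.2 ⟨r36, ?_⟩
  refine List.forall_mem_cons.2 ⟨r37, ?_⟩
  refine List.forall_mem_cons.2 ⟨r38, ?_⟩
  exact fun _ h => absurd h List.not_mem_nil

end Cfsg.Agent.Helper4.TC.G24Chk
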