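import Cfsg.Agent.Lib.Helper4.TC.G24Mat
import Cfsg.Agent.Lib.Helper4.TC.G24PJ2Glue
import Cfsg.Agent.Lib.Helper4.TC.MatChain

set_option autoImplicit false
set_option maxRecDepth 100000
set_option maxHeartbeats 0

namespace Cfsg.Agent.Helper4.TC.G24Chk

open Cfsg.Agent.Helper4.TC Cfsg.Agent.Helper4.TC.G24Mat Cfsg.Agent.Lib.Helper6.FFour

def q38_1 : MatD 14 K4 := ⟨[.i, .o, .w, .i, .o, .w, .v, .o, .o, .w, .i, .o, .w, .v, .v, .i, .v, .v, .i, .i, .i, .o, .i, .v, .v, .i, .i, .i, .i, .v, .w, .i, .o, .v, .w, .w, .i, .i, .v, .i, .i, .w, .i, .w, .v, .i, .i, .v, .v, .o, .o, .v, .w, .v, .v, .i, .i, .o, .i, .i, .w, .v, .i, .o, .v, .i, .i, .v, .v, .i, .v, .i, .o, .i, .w, .i, .i, .w, .w, .w, .i, .i, .w, .v, .v, .w, .v, .o, .v, .v, .w, .o, .w, .v, .w, .i, .v, .i, .i, .o, .w, .w, .v, .o, .i, .i, .v, .w, .w, .v, .o, .i,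 .o, .o, .o, .w, .o, .o, .w, .o, .i, .o, .w, .o, .o, .w, .i, .v, .i, .v, .o, .i, .w, .w, .i, .w, .i, .i, .v, .w, .i, .w, .v, .w, .i, .v, .i, .o, .o, .v, .i, .v, .v, .v, .i, .o, .v, .w, .v, .i, .o, .o, .v, .v, .w, .w, .i, .o, .v, .i, .w, .i, .w, .w, .v, .w, .w, .o, .i, .i, .i, .i, .v, .w, .v, .w, .v, .v, .i, .o, .w, .v, .o, .i, .v, .w]⟩
def q38_2 : MatD 14 K4 := ⟨[.v, .i, .w, .i, .v, .w, .v, .w, .v, .w, .i, .o, .w, .v, .w, .i, .o, .o, .i, .o, .o, .i, .o, .v, .v, .i, .i, .i, .o, .o, .w, .i, .w, .w, .v, .v, .v, .i, .v, .i, .i, .w, .w, .o, .o, .o, .o, .o, .o, .v, .i, .v, .w, .v, .v, .i, .w, .w, .w, .i, .w, .o, .w, .v, .w, .i, .i, .v, .v, .i, .i, .o, .o, .o, .i, .o, .o, .o, .i, .w, .i, .i, .w, .v, .o, .o, .w, .i, .w, .w, .v, .v, .v, .v, .w, .i, .v, .i, .i, .i, .v, .i, .v, .v, .w, .i, .w, .w, .w, .v, .o, .i, .o,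 .w, .w, .i, .w, .o, .w, .o, .v, .o, .w, .o, .o, .w, .w, .w, .v, .i, .v, .o, .v, .i, .v, .w, .i, .i, .v, .w, .w, .w, .w, .i, .v, .o, .w, .v, .v, .v, .i, .v, .v, .v, .o, .i, .v, .i, .w, .v, .w, .i, .v, .v, .w, .w, .i, .o, .w, .i, .v, .i, .v, .v, .w, .v, .v, .o, .i, .i, .i, .i, .o, .v, .i, .o, .o, .w, .o, .v, .o, .v, .o, .i, .v, .w]⟩
def q38_3 : MatD 14 K4 := ⟨[.w, .w, .o, .w, .w, .v, .i, .v, .v, .v, .v, .v, .o, .v, .o, .v, .o, .w, .v, .v, .i, .i, .o, .v, .w, .v, .w, .i, .i, .v, .v, .i, .o, .o, .o, .v, .v, .o, .o, .o, .v, .w, .v, .v, .i, .o, .w, .w, .v, .v, .i, .w, .i, .w, .i, .i, .o, .i, .i, .w, .i, .o, .o, .o, .w, .i, .v, .o, .o, .i, .o, .v, .v, .i, .o, .v, .i, .o, .i, .o, .o, .v, .o, .v, .w, .v, .v, .v, .w, .v, .v, .o, .v, .o, .w, .i, .o, .i, .w, .v, .v, .i, .o, .o, .o, .i, .w, .o, .o, .o, .i, .i, .w, .i,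 .i, .i, .o, .i, .i, .w, .v, .i, .i, .i, .v, .w, .o, .w, .w, .v, .i, .o, .o, .o, .v, .w, .w, .o, .o, .w, .o, .v, .v, .v, .o, .o, .o, .o, .v, .v, .v, .o, .o, .v, .v, .v, .v, .v, .v, .v, .v, .o, .v, .o, .v, .o, .o, .o, .i, .i, .w, .i, .v, .i, .w, .i, .v, .i, .i, .i, .o, .i, .w, .w, .w, .w, .o, .w, .w, .w, .o, .w, .w, .w, .o, .w]⟩
def q38_4 : MatD 14 K4 := ⟨[.w, .i, .w, .w, .w, .o, .w, .v, .o, .v, .v, .v, .o, .v, .w, .o, .w, .w, .w, .o, .w, .v, .i, .v, .w, .v, .w, .i, .w, .w, .o, .i, .o, .o, .o, .o, .i, .o, .o, .o, .v, .w, .w, .v, .i, .i, .i, .o, .i, .w, .o, .w, .i, .w, .i, .i, .o, .o, .o, .o, .v, .o, .o, .o, .v, .i, .v, .o, .o, .i, .o, .o, .o, .o, .o, .o, .w, .o, .w, .o, .o, .v, .o, .v, .w, .w, .o, .o, .o, .w, .w, .o, .w, .o, .w, .i, .o, .i, .v, .v, .o, .w, .o, .o, .o, .o, .v, .o, .o, .o, .i, .i, .i, .o, .o,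 .o, .o, .o, .o, .i, .i, .i, .i, .i, .v, .w, .o, .o, .o, .o, .i, .o, .o, .o, .i, .w, .w, .o, .o, .w, .o, .o, .o, .o, .o, .o, .o, .o, .o, .v, .v, .o, .o, .v, .v, .v, .o, .o, .o, .v, .v, .o, .v, .o, .v, .o, .o, .o, .i, .o, .v, .v, .v, .o, .v, .i, .w, .i, .i, .i, .o, .i, .w, .o, .o, .o, .o, .o, .o, .w, .w, .w, .w, .w, .o, .w]⟩
def q38_5 : MatD 14 K4 := ⟨[.i, .i, .o, .o, .o, .w, .i, .w, .o, .o, .o, .w, .i, .v, .v, .o, .o, .o, .o, .w, .i, .v, .i, .w, .i, .w, .o, .i, .w, .o, .o, .o, .o, .o, .o, .v, .i, .o, .o, .o, .v, .w, .o, .o, .o, .o, .o, .o, .o, .o, .o, .o, .o, .o, .w, .i, .i, .o, .o, .o, .o, .o, .o, .w, .v, .i, .v, .o, .w, .i, .v, .o, .o, .o, .o, .v, .w, .i, .w, .o, .o, .v, .i, .v, .v, .o, .o, .o, .o, .o, .o, .i, .w, .o, .o, .w, .w, .i, .v, .w, .w, .i, .o, .o, .o, .i, .v, .o, .o, .o, .i, .i, .w, .o, .o, .o,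 .o, .o, .o, .v, .i, .w, .i, .i, .w, .w, .v, .i, .i, .v, .v, .o, .o, .i, .i, .w, .w, .o, .i, .w, .o, .v, .o, .o, .o, .i, .v, .i, .o, .v, .o, .i, .o, .v, .o, .i, .v, .w, .o, .i, .w, .o, .v, .v, .w, .w, .i, .o, .i, .i, .v, .i, .i, .w, .i, .i, .w, .v, .v, .w, .o, .i, .i, .v, .w, .i, .i, .v, .i, .i, .w, .w, .v, .o, .i, .w]⟩
def q38_6 : MatD 14 K4 := ⟨[.i, .i, .o, .o, .i, .o, .o, .v, .v, .i, .v, .w, .w, .o, .o, .i, .o, .o, .i, .o, .o, .v, .v, .w, .o, .w, .w, .i, .w, .o, .w, .i, .w, .v, .o, .w, .i, .v, .w, .v, .i, .o, .w, .o, .o, .o, .o, .o, .o, .v, .i, .v, .w, .v, .i, .o, .v, .w, .w, .i, .w, .i, .i, .v, .w, .w, .v, .i, .w, .o, .v, .o, .o, .o, .i, .o, .o, .w, .w, .v, .w, .i, .i, .o, .w, .o, .w, .i, .w, .v, .o, .w, .i, .i, .v, .v, .w, .o, .o, .w, .v, .i, .i, .o, .w, .o, .o, .o, .v, .o, .o, .i, .v, .w, .w, .i, .w,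 .i, .i, .v, .w, .o, .w, .i, .v, .i, .w, .v, .v, .i, .i, .v, .v, .w, .v, .v, .o, .v, .i, .w, .w, .o, .o, .o, .i, .o, .o, .w, .w, .o, .i, .o, .w, .w, .o, .w, .v, .i, .i, .o, .w, .o, .o, .v, .w, .o, .o, .v, .v, .o, .o, .o, .o, .o, .o, .w, .i, .v, .i, .i, .i, .o, .w, .v, .v, .i, .i, .v, .v, .w, .v, .o, .i, .v, .w, .i]⟩
def q38_7 : MatD 14 K4 := ⟨[.v, .v, .o, .i, .v, .w, .w, .i, .v, .i, .v, .w, .w, .o, .w, .w, .o, .i, .v, .w, .w, .i, .w, .w, .o, .w, .w, .i, .v, .i, .v, .v, .v, .o, .v, .v, .i, .v, .w, .v, .i, .o, .v, .i, .o, .w, .i, .v, .v, .w, .i, .v, .w, .v, .i, .o, .i, .o, .o, .o, .v, .o, .o, .i, .w, .w, .v, .i, .w, .o, .w, .i, .o, .o, .o, .i, .i, .v, .w, .v, .w, .i, .i, .o, .o, .w, .o, .o, .o, .o, .v, .o, .i, .i, .v, .v, .w, .o, .o, .v, .w, .w, .w, .o, .w, .o, .i, .o, .v, .o, .o, .i, .o, .o, .o, .o, .o, .o,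 .o, .o, .v, .o, .w, .i, .v, .i, .v, .o, .o, .o, .w, .o, .o, .v, .i, .v, .o, .v, .i, .w, .o, .o, .o, .o, .o, .o, .o, .o, .o, .o, .i, .o, .w, .w, .o, .i, .o, .o, .o, .o, .w, .o, .v, .v, .w, .o, .o, .v, .w, .i, .o, .v, .w, .i, .i, .v, .i, .v, .i, .i, .i, .o, .o, .o, .o, .o, .o, .o, .o, .o, .w, .o, .i, .v, .w, .i]⟩
def q38_8 : MatD 14 K4 := ⟨[.w, .v, .i, .w, .i, .v, .v, .o, .v, .o, .w, .o, .o, .o, .v, .v, .w, .v, .o, .w, .o, .i, .w, .i, .w, .i, .o, .i, .o, .o, .i, .i, .i, .o, .i, .o, .i, .o, .o, .o, .o, .o, .o, .o, .i, .o, .i, .o, .i, .o, .i, .o, .o, .o, .o, .o, .o, .o, .v, .w, .w, .o, .v, .o, .w, .o, .o, .o, .o, .o, .i, .i, .v, .w, .v, .i, .w, .o, .w, .o, .i, .o, .o, .o, .i, .i, .i, .v, .i, .i, .i, .o, .i, .o, .i, .o, .o, .o, .o, .i, .o, .i, .i, .i, .i, .i, .i, .i, .o, .i, .o, .i, .w, .w, .o, .i, .v, .w, .o,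 .i, .v, .i, .w, .i, .o, .i, .o, .w, .w, .i, .i, .v, .o, .v, .i, .w, .o, .v, .o, .w, .i, .v, .i, .v, .v, .i, .w, .v, .o, .w, .v, .v, .o, .w, .o, .i, .w, .i, .w, .i, .o, .w, .v, .w, .o, .v, .o, .v, .w, .w, .i, .o, .w, .i, .v, .v, .i, .o, .v, .w, .i, .o, .w, .o, .i, .i, .o, .w, .w, .w, .w, .v, .v, .o, .i, .i]⟩
def q38_9 : MatD 14 K4 := ⟨[.w, .v, .v, .o, .v, .v, .v, .o, .v, .o, .w, .o, .o, .o, .v, .w, .i, .o, .v, .v, .i, .i, .v, .i, .w, .i, .o, .i, .o, .o, .i, .o, .i, .o, .i, .o, .i, .o, .o, .o, .o, .o, .o, .o, .i, .i, .i, .o, .i, .o, .i, .o, .o, .o, .o, .o, .o, .o, .v, .o, .w, .o, .v, .o, .w, .o, .o, .o, .o, .o, .i, .i, .w, .o, .w, .i, .w, .o, .w, .o, .i, .o, .o, .o, .i, .i, .o, .w, .o, .i, .i, .o, .i, .o, .i, .o, .o, .o, .o, .o, .o, .o, .o, .o, .o, .i, .o, .i, .o, .i, .o, .i, .w, .v, .w, .v, .o, .v, .i, .i,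 .w, .i, .w, .i, .o, .i, .o, .o, .v, .o, .v, .o, .v, .v, .v, .w, .o, .v, .o, .w, .i, .i, .i, .v, .w, .w, .i, .v, .w, .w, .v, .v, .o, .w, .o, .w, .v, .o, .o, .w, .v, .w, .o, .w, .o, .v, .o, .v, .v, .v, .i, .o, .i, .v, .i, .w, .i, .o, .v, .w, .i, .o, .v, .o, .i, .i, .o, .w, .w, .v, .v, .v, .v, .o, .i, .i]⟩
def q38_10 : MatD 14 K4 := ⟨[.v, .v, .o, .v, .w, .v, .w, .w, .v, .i, .v, .w, .w, .o, .i, .w, .o, .o, .o, .o, .i, .o, .v, .i, .w, .i, .v, .i, .v, .i, .o, .w, .i, .v, .v, .w, .i, .v, .w, .v, .i, .o, .v, .i, .v, .v, .v, .o, .v, .v, .i, .v, .w, .v, .i, .o, .i, .o, .i, .w, .o, .i, .o, .v, .w, .w, .v, .i, .w, .o, .w, .i, .w, .w, .w, .o, .i, .w, .w, .v, .w, .i, .i, .o, .o, .w, .o, .i, .v, .v, .v, .w, .i, .i, .v, .v, .w, .o, .v, .v, .v, .i, .o, .v, .i, .w, .o, .v, .i, .v, .i, .i, .v, .o, .w, .o, .i, .i, .v, .o, .w,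 .v, .o, .w, .w, .i, .w, .w, .o, .v, .w, .w, .o, .i, .v, .i, .v, .w, .v, .w, .i, .w, .v, .w, .i, .i, .o, .i, .w, .w, .w, .i, .o, .w, .w, .i, .i, .o, .v, .v, .o, .o, .o, .i, .v, .w, .v, .v, .v, .v, .w, .i, .v, .v, .v, .v, .i, .o, .i, .i, .i, .o, .w, .v, .o, .v, .w, .i, .w, .v, .v, .w, .v, .o, .v, .i]⟩
def q38_11 : MatD 14 K4 := ⟨[.o, .w, .o, .w, .v, .i, .w, .w, .i, .i, .v, .w, .o, .i, .o, .i, .i, .w, .w, .o, .i, .v, .w, .v, .i, .v, .o, .v, .o, .o, .i, .o, .i, .o, .i, .o, .i, .o, .o, .o, .o, .o, .v, .v, .v, .i, .i, .v, .v, .i, .i, .i, .v, .i, .o, .i, .v, .v, .o, .i, .i, .v, .o, .v, .i, .v, .v, .v, .o, .v, .i, .i, .v, .i, .i, .i, .v, .w, .i, .w, .i, .w, .o, .w, .i, .w, .w, .o, .w, .i, .o, .w, .o, .v, .w, .w, .o, .v, .i, .i, .w, .i, .v, .i, .w, .i, .v, .i, .i, .i, .o, .i, .w, .v, .v, .v, .v, .i, .w, .v, .v, .i,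 .w, .o, .i, .w, .i, .v, .w, .w, .o, .i, .o, .i, .w, .v, .v, .i, .o, .v, .w, .v, .i, .v, .v, .w, .o, .i, .v, .o, .w, .w, .v, .v, .i, .i, .o, .v, .o, .w, .w, .o, .v, .o, .o, .i, .w, .i, .i, .i, .i, .o, .w, .v, .v, .v, .i, .v, .w, .w, .i, .w, .o, .i, .v, .i, .v, .i, .i, .v, .v, .i, .v, .v, .v, .o]⟩
def q38_12 : MatD 14 K4 := ⟨[.o, .v, .v, .o, .i, .v, .o, .w, .o, .i, .v, .w, .o, .i, .o, .w, .i, .w, .o, .v, .w, .v, .i, .v, .i, .v, .o, .v, .o, .o, .i, .i, .i, .o, .i, .o, .i, .o, .o, .o, .o, .o, .v, .w, .o, .i, .v, .w, .w, .i, .o, .i, .v, .i, .o, .i, .v, .o, .v, .v, .i, .o, .v, .v, .w, .v, .v, .v, .o, .v, .i, .v, .w, .w, .w, .v, .i, .w, .v, .w, .i, .w, .o, .w, .i, .i, .w, .o, .v, .v, .w, .w, .v, .v, .w, .w, .o, .v, .i, .o, .v, .v, .v, .o, .v, .i, .w, .i, .i, .i, .o, .i, .v, .o, .i, .w, .o, .i, .w, .w, .i, .i, .w,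 .o, .i, .w, .i, .o, .i, .i, .o, .o, .i, .i, .i, .v, .v, .i, .o, .v, .i, .v, .w, .i, .i, .o, .w, .w, .o, .o, .w, .w, .v, .v, .v, .w, .w, .v, .o, .v, .v, .w, .w, .o, .o, .i, .w, .i, .o, .w, .o, .w, .v, .i, .i, .w, .v, .v, .w, .w, .i, .w, .v, .w, .v, .o, .i, .w, .w, .o, .v, .i, .v, .v, .v, .o]⟩
def q38_13 : MatD 14 K4 := ⟨[.i, .i, .w, .w, .w, .w, .i, .w, .o, .w, .w, .o, .w, .i, .v, .w, .v, .i, .i, .o, .v, .i, .i, .v, .o, .i, .i, .v, .v, .i, .v, .v, .v, .o, .v, .v, .i, .v, .w, .v, .i, .o, .i, .v, .v, .i, .v, .o, .v, .v, .o, .v, .w, .v, .v, .i, .i, .v, .v, .i, .i, .o, .v, .v, .w, .i, .v, .v, .v, .v, .o, .o, .o, .w, .o, .w, .w, .o, .v, .o, .w, .v, .w, .w, .v, .i, .v, .i, .v, .w, .o, .v, .v, .v, .o, .i, .v, .v, .i, .i, .v, .i, .i, .w, .i, .i, .w, .v, .v, .w, .o, .i, .o, .w, .w, .v, .w, .o, .w, .o, .i, .o, .w, .o,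 .o, .w, .v, .w, .v, .v, .v, .w, .o, .i, .i, .o, .w, .v, .v, .v, .i, .i, .i, .w, .o, .o, .i, .v, .o, .v, .i, .v, .v, .v, .i, .i, .v, .o, .i, .v, .i, .i, .w, .v, .w, .w, .i, .i, .o, .o, .w, .i, .v, .i, .w, .v, .v, .w, .i, .v, .i, .w, .v, .w, .o, .v, .i, .w, .v, .v, .v, .v, .w, .i, .v, .o]⟩
def q38_14 : MatD 14 K4 := ⟨[.v, .w, .w, .i, .w, .w, .i, .o, .i, .w, .w, .o, .w, .i, .w, .o, .v, .v, .w, .i, .w, .o, .w, .v, .o, .i, .i, .v, .w, .o, .w, .i, .w, .v, .o, .w, .i, .v, .w, .v, .i, .o, .w, .i, .v, .i, .w, .v, .o, .o, .i, .v, .w, .v, .v, .i, .w, .v, .i, .i, .v, .v, .o, .o, .i, .i, .v, .v, .v, .v, .w, .o, .o, .i, .w, .i, .i, .w, .i, .o, .w, .v, .w, .w, .o, .i, .v, .o, .o, .v, .i, .o, .o, .v, .o, .i, .v, .v, .i, .o, .w, .w, .i, .o, .v, .i, .v, .v, .v, .w, .o, .i, .o, .o, .o, .w, .o, .o, .w, .o, .v, .o, .w, .o, .o,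 .w, .o, .w, .i, .v, .i, .i, .v, .w, .w, .o, .w, .v, .v, .v, .w, .i, .v, .w, .w, .v, .w, .o, .v, .v, .i, .v, .v, .v, .o, .i, .v, .w, .o, .i, .v, .o, .v, .v, .w, .w, .i, .i, .i, .v, .w, .i, .o, .w, .i, .w, .i, .w, .i, .v, .i, .w, .o, .i, .v, .w, .o, .v, .w, .o, .v, .v, .w, .i, .v, .o]⟩
def q38_15 : MatD 14 K4 := ⟨[.i, .v, .w, .o, .i, .o, .w, .i, .i, .w, .i, .i, .i, .i, .v, .o, .w, .v, .i, .o, .w, .i, .w, .w, .o, .i, .v, .v, .i, .o, .i, .o, .v, .w, .w, .i, .i, .o, .o, .o, .o, .o, .v, .w, .v, .i, .v, .o, .v, .w, .i, .w, .i, .w, .i, .i, .w, .v, .i, .w, .v, .o, .i, .i, .i, .o, .w, .i, .v, .v, .w, .v, .o, .v, .v, .o, .i, .o, .i, .v, .w, .v, .w, .w, .o, .i, .i, .w, .i, .w, .w, .i, .o, .i, .v, .o, .v, .v, .w, .i, .v, .i, .w, .i, .v, .v, .v, .o, .v, .w, .i, .i, .w, .v, .i, .w, .i, .o, .i, .i, .v, .i, .i, .i, .v, .w,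 .o, .v, .v, .o, .w, .o, .v, .v, .w, .o, .w, .v, .v, .v, .o, .o, .o, .o, .v, .o, .o, .o, .v, .v, .v, .o, .o, .v, .i, .w, .v, .o, .v, .i, .v, .v, .v, .v, .w, .w, .v, .i, .o, .i, .i, .o, .i, .o, .i, .v, .i, .v, .i, .v, .v, .w, .o, .v, .v, .o, .v, .o, .v, .v, .v, .v, .v, .v, .v, .o]⟩
def q38_16 : MatD 14 K4 := ⟨[.w, .i, .w, .w, .o, .v, .w, .v, .w, .o, .o, .o, .o, .o, .o, .o, .o, .v, .v, .o, .i, .o, .w, .i, .v, .w, .w, .w, .w, .w, .o, .i, .o, .o, .o, .o, .i, .o, .o, .o, .v, .w, .w, .v, .i, .i, .o, .o, .o, .w, .i, .o, .o, .o, .i, .v, .i, .o, .i, .v, .w, .o, .o, .w, .v, .v, .w, .o, .o, .o, .i, .o, .i, .v, .o, .o, .v, .w, .v, .o, .o, .i, .o, .o, .w, .o, .w, .i, .o, .v, .v, .v, .i, .o, .o, .w, .o, .o, .w, .v, .i, .i, .w, .o, .v, .w, .o, .v, .w, .i, .i, .i, .w, .o, .v, .w, .i, .i, .i, .o, .v, .w, .i, .v, .v, .v, .v,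 .i, .w, .i, .v, .v, .w, .v, .w, .i, .i, .o, .o, .o, .i, .w, .o, .o, .o, .i, .v, .i, .v, .w, .w, .o, .o, .o, .o, .o, .v, .w, .o, .i, .i, .o, .o, .o, .o, .o, .o, .o, .i, .o, .o, .i, .i, .i, .i, .i, .i, .o, .o, .o, .o, .o, .w, .o, .i, .v, .w, .w, .w, .w, .w, .o, .o, .o, .o, .o]⟩
def q38_17 : MatD 14 K4 := ⟨[.w, .i, .v, .v, .o, .v, .w, .v, .w, .o, .o, .o, .o, .o, .w, .o, .o, .i, .i, .w, .v, .w, .o, .i, .v, .w, .w, .w, .i, .v, .v, .i, .o, .o, .o, .v, .v, .o, .o, .o, .v, .w, .v, .i, .v, .v, .o, .o, .o, .v, .w, .o, .o, .o, .i, .v, .i, .o, .w, .i, .v, .o, .o, .w, .v, .v, .w, .o, .o, .o, .i, .o, .w, .i, .o, .i, .w, .w, .v, .o, .o, .i, .o, .o, .w, .o, .v, .w, .o, .i, .i, .v, .i, .o, .o, .w, .o, .o, .v, .v, .i, .o, .v, .i, .w, .v, .i, .v, .w, .i, .i, .i, .i, .o, .i, .v, .w, .w, .w, .v, .o, .w, .i, .v, .v, .v, .v, .i,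 .w, .i, .v, .v, .w, .v, .w, .i, .i, .o, .o, .o, .i, .w, .o, .o, .o, .i, .v, .i, .v, .w, .w, .o, .o, .o, .o, .o, .v, .w, .o, .i, .i, .o, .o, .o, .o, .o, .o, .o, .i, .o, .o, .i, .i, .i, .i, .i, .i, .o, .o, .o, .o, .o, .w, .o, .i, .v, .w, .w, .w, .w, .w, .o, .o, .o, .o, .o]⟩
def q38_18 : MatD 14 K4 := ⟨[.v, .v, .o, .o, .o, .i, .i, .i, .w, .w, .v, .i, .w, .o, .w, .i, .v, .v, .i, .i, .i, .i, .o, .i, .i, .i, .w, .w, .o, .o, .w, .i, .w, .w, .v, .v, .v, .i, .v, .i, .i, .w, .v, .w, .v, .i, .o, .o, .o, .w, .w, .o, .o, .o, .i, .v, .o, .i, .i, .i, .w, .v, .i, .i, .v, .i, .v, .w, .w, .o, .w, .i, .o, .i, .i, .v, .v, .v, .v, .i, .i, .v, .i, .o, .v, .i, .v, .o, .i, .w, .v, .o, .i, .v, .w, .i, .w, .o, .o, .v, .w, .w, .v, .o, .i, .o, .i, .o, .i, .o, .o, .i, .i, .v, .v, .v, .i, .v, .i, .o, .o, .v, .w, .w, .v, .v, .o, .i, .i,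 .v, .i, .w, .i, .v, .w, .i, .w, .i, .i, .o, .o, .w, .w, .v, .o, .w, .w, .o, .v, .w, .v, .w, .w, .o, .o, .w, .v, .v, .i, .o, .i, .o, .o, .v, .o, .o, .o, .o, .w, .i, .o, .v, .v, .v, .v, .v, .i, .i, .w, .v, .i, .o, .v, .w, .w, .o, .v, .w, .i, .o, .w, .w, .v, .i, .w, .o]⟩
def q38_19 : MatD 14 K4 := ⟨[.i, .i, .o, .o, .i, .o, .o, .v, .w, .w, .v, .i, .w, .o, .o, .i, .o, .o, .i, .o, .o, .v, .w, .i, .i, .i, .w, .w, .i, .v, .w, .i, .o, .v, .w, .w, .i, .i, .v, .i, .i, .w, .w, .o, .o, .o, .o, .o, .o, .v, .i, .o, .o, .o, .i, .v, .w, .v, .w, .i, .o, .i, .v, .v, .v, .i, .v, .w, .w, .o, .v, .o, .o, .o, .i, .o, .o, .w, .v, .i, .i, .v, .i, .o, .i, .v, .w, .i, .o, .v, .w, .w, .i, .v, .w, .i, .w, .o, .o, .w, .v, .i, .w, .o, .i, .o, .o, .o, .i, .o, .o, .i, .w, .v, .w, .i, .o, .i, .v, .v, .v, .v, .w, .w, .v, .v, .i, .o, .v, .i,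 .w, .v, .o, .w, .w, .i, .w, .i, .i, .o, .w, .o, .o, .o, .i, .o, .o, .w, .v, .w, .v, .w, .w, .o, .o, .w, .v, .i, .w, .o, .i, .o, .o, .v, .o, .o, .o, .o, .v, .o, .o, .o, .o, .o, .o, .w, .i, .i, .w, .v, .i, .o, .i, .o, .v, .i, .w, .v, .o, .w, .w, .w, .v, .i, .w, .o]⟩
def q38_20 : MatD 14 K4 := ⟨[.o, .i, .w, .w, .i, .w, .v, .o, .w, .o, .o, .o, .o, .o, .i, .v, .o, .w, .i, .v, .i, .w, .w, .i, .o, .v, .o, .w, .i, .v, .w, .i, .o, .v, .w, .w, .i, .i, .v, .i, .i, .w, .o, .i, .i, .o, .i, .o, .i, .w, .i, .w, .i, .w, .w, .v, .v, .i, .w, .v, .o, .w, .w, .w, .v, .i, .w, .o, .o, .o, .o, .o, .v, .v, .w, .i, .i, .v, .v, .o, .o, .i, .o, .o, .o, .o, .o, .w, .v, .v, .o, .i, .i, .o, .o, .w, .o, .o, .o, .i, .i, .o, .o, .w, .o, .i, .o, .v, .o, .w, .o, .i, .o, .i, .i, .i, .w, .w, .i, .v, .v, .w, .o, .i, .o, .v, .w, .w, .o, .w, .o,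 .v, .v, .o, .w, .o, .i, .o, .o, .o, .v, .v, .w, .i, .i, .i, .i, .o, .v, .o, .w, .o, .o, .o, .o, .o, .v, .o, .o, .o, .i, .o, .o, .o, .o, .o, .o, .o, .o, .o, .i, .i, .v, .o, .w, .o, .i, .o, .o, .o, .o, .o, .o, .o, .w, .v, .i, .o, .v, .o, .w, .o, .o, .o, .o, .o]⟩
def q38_21 : MatD 14 K4 := ⟨[.i, .o, .w, .v, .o, .w, .w, .o, .o, .o, .o, .o, .o, .o, .o, .i, .w, .w, .v, .o, .o, .i, .o, .o, .o, .o, .o, .o, .o, .o, .i, .o, .o, .o, .o, .o, .o, .o, .o, .o, .o, .o, .o, .o, .i, .i, .o, .o, .o, .o, .o, .o, .o, .o, .o, .o, .o, .o, .i, .i, .v, .o, .o, .o, .o, .o, .o, .o, .o, .o, .o, .o, .o, .i, .o, .w, .o, .o, .o, .o, .o, .o, .o, .o, .o, .o, .i, .i, .o, .w, .w, .o, .o, .o, .o, .o, .o, .o, .o, .o, .w, .i, .v, .w, .o, .i, .o, .o, .o, .o, .o, .o, .i, .o, .i, .i, .o, .o, .o, .i, .i, .o, .o, .o, .o, .o, .o, .i, .w, .v, .w, .w,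 .w, .i, .o, .v, .o, .o, .o, .o, .i, .o, .o, .o, .v, .o, .o, .i, .i, .v, .v, .o, .o, .o, .o, .o, .w, .v, .v, .i, .v, .i, .i, .o, .o, .w, .o, .o, .w, .w, .v, .i, .i, .v, .v, .w, .i, .o, .v, .w, .i, .o, .w, .i, .w, .v, .v, .w, .w, .v, .w, .v, .v, .o, .i, .i]⟩
def q38_22 : MatD 14 K4 := ⟨[.i, .o, .v, .w, .o, .w, .w, .o, .o, .o, .o, .o, .o, .o, .o, .i, .v, .v, .v, .o, .o, .i, .o, .o, .o, .o, .o, .o, .o, .o, .i, .o, .o, .o, .o, .o, .o, .o, .o, .o, .o, .o, .o, .o, .i, .i, .o, .o, .o, .o, .o, .o, .o, .o, .o, .o, .o, .o, .i, .i, .v, .o, .o, .o, .o, .o, .o, .o, .o, .o, .o, .o, .o, .i, .o, .w, .o, .o, .o, .o, .o, .o, .o, .o, .o, .o, .i, .i, .o, .w, .w, .o, .o, .o, .o, .o, .o, .o, .o, .o, .v, .i, .v, .w, .o, .i, .o, .o, .o, .o, .o, .o, .i, .o, .i, .i, .o, .o, .o, .i, .i, .o, .o, .o, .o, .o, .o, .i, .v, .w, .i, .w, .w,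 .i, .o, .v, .o, .o, .o, .o, .i, .o, .o, .o, .v, .o, .o, .i, .i, .v, .v, .o, .o, .o, .o, .o, .v, .w, .v, .v, .i, .i, .i, .o, .o, .w, .o, .o, .v, .v, .w, .i, .w, .i, .i, .v, .i, .o, .v, .w, .i, .o, .v, .i, .v, .w, .v, .w, .w, .w, .v, .v, .v, .o, .i, .i]⟩
def q38_23 : MatD 14 K4 := ⟨[.i, .v, .v, .o, .o, .i, .w, .w, .o, .v, .o, .o, .o, .o, .o, .i, .w, .v, .v, .o, .o, .v, .o, .o, .o, .o, .o, .o, .o, .o, .i, .o, .o, .o, .o, .o, .o, .o, .o, .o, .o, .o, .o, .o, .w, .i, .w, .v, .o, .i, .o, .o, .o, .o, .o, .o, .o, .o, .v, .i, .i, .v, .o, .v, .o, .o, .o, .o, .o, .o, .o, .o, .i, .i, .w, .i, .o, .w, .o, .o, .o, .o, .o, .o, .o, .v, .o, .v, .i, .i, .w, .w, .o, .i, .o, .o, .o, .o, .o, .o, .v, .i, .i, .i, .o, .i, .o, .o, .o, .o, .o, .o, .w, .v, .w, .w, .o, .w, .w, .w, .i, .w, .w, .v, .i, .o, .o, .w, .v, .o, .o, .i, .w, .i,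 .o, .w, .o, .o, .o, .o, .v, .w, .v, .o, .w, .i, .w, .w, .i, .i, .i, .v, .v, .o, .i, .i, .i, .o, .w, .v, .v, .w, .i, .o, .w, .i, .w, .o, .v, .v, .i, .o, .w, .w, .v, .w, .i, .o, .i, .i, .i, .o, .w, .w, .v, .o, .i, .i, .w, .o, .v, .w, .v, .o, .v, .i]⟩
def q38_24 : MatD 14 K4 := ⟨[.i, .v, .o, .w, .v, .i, .w, .w, .o, .v, .o, .o, .o, .o, .o, .i, .i, .w, .v, .o, .o, .v, .o, .o, .o, .o, .o, .o, .o, .o, .i, .o, .o, .o, .o, .o, .o, .o, .o, .o, .o, .o, .o, .o, .v, .i, .w, .v, .o, .i, .o, .o, .o, .o, .o, .o, .o, .o, .o, .i, .i, .v, .o, .v, .o, .o, .o, .o, .o, .o, .o, .o, .v, .i, .w, .i, .o, .w, .o, .o, .o, .o, .o, .o, .o, .v, .w, .o, .o, .i, .w, .w, .o, .i, .o, .o, .o, .o, .o, .o, .w, .i, .i, .i, .o, .i, .o, .o, .o, .o, .o, .o, .v, .w, .v, .v, .o, .i, .i, .v, .i, .w, .w, .v, .i, .o, .o, .w, .w, .w, .w, .i, .w, .i, .o,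 .w, .o, .o, .o, .o, .o, .i, .i, .v, .w, .w, .i, .i, .i, .i, .i, .v, .v, .o, .v, .v, .o, .v, .o, .w, .w, .o, .i, .o, .w, .i, .w, .o, .w, .w, .i, .o, .v, .v, .w, .v, .i, .o, .i, .i, .i, .o, .i, .o, .v, .i, .o, .i, .w, .v, .w, .w, .v, .o, .v, .i]⟩
def q38_25 : MatD 14 K4 := ⟨[.i, .o, .o, .o, .o, .v, .w, .o, .o, .o, .o, .o, .o, .o, .o, .i, .v, .w, .i, .v, .o, .o, .o, .o, .o, .o, .o, .o, .o, .o, .i, .o, .o, .o, .o, .o, .o, .o, .o, .o, .o, .o, .o, .o, .o, .i, .o, .o, .o, .o, .o, .o, .o, .o, .o, .o, .o, .o, .w, .i, .v, .o, .o, .o, .o, .o, .o, .o, .o, .o, .o, .o, .w, .i, .o, .w, .o, .o, .o, .o, .o, .o, .o, .o, .o, .o, .v, .w, .o, .o, .w, .o, .o, .o, .o, .o, .o, .o, .o, .o, .w, .i, .v, .w, .o, .i, .o, .o, .o, .o, .o, .o, .o, .o, .i, .v, .w, .o, .v, .o, .i, .o, .o, .o, .o, .o, .o, .i, .o, .o, .o, .v, .w, .w, .o, .v,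 .o, .o, .o, .o, .w, .w, .o, .o, .o, .i, .v, .o, .i, .o, .v, .o, .o, .o, .w, .o, .o, .o, .o, .o, .o, .v, .i, .o, .o, .w, .o, .o, .w, .o, .o, .o, .o, .o, .o, .v, .i, .i, .v, .w, .i, .o, .v, .o, .o, .o, .o, .o, .o, .i, .w, .w, .i, .v, .o, .i]⟩
def q38_26 : MatD 14 K4 := ⟨[.i, .o, .v, .v, .o, .i, .i, .o, .o, .o, .o, .o, .o, .o, .o, .i, .o, .v, .o, .i, .o, .o, .o, .o, .o, .o, .o, .o, .o, .o, .i, .o, .o, .o, .o, .o, .o, .o, .o, .o, .o, .o, .o, .o, .o, .i, .o, .o, .o, .o, .o, .o, .o, .o, .o, .o, .o, .o, .v, .v, .v, .o, .o, .o, .o, .o, .o, .o, .o, .o, .o, .o, .o, .w, .o, .w, .o, .o, .o, .o, .o, .o, .o, .o, .o, .o, .w, .o, .o, .o, .w, .o, .o, .o, .o, .o, .o, .o, .o, .o, .w, .i, .i, .i, .o, .i, .o, .o, .o, .o, .o, .o, .o, .o, .i, .w, .i, .o, .i, .o, .i, .o, .o, .o, .o, .o, .o, .v, .i, .w, .w, .v, .v, .v, .o, .v, .o,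 .o, .o, .o, .v, .v, .w, .i, .w, .v, .v, .o, .v, .o, .v, .o, .o, .o, .o, .o, .v, .v, .w, .v, .v, .w, .w, .o, .o, .w, .o, .o, .w, .w, .i, .o, .v, .v, .w, .v, .i, .o, .i, .i, .i, .o, .o, .w, .o, .i, .v, .w, .v, .i, .v, .i, .o, .i, .o, .i]⟩
def q38_27 : MatD 14 K4 := ⟨[.i, .o, .w, .o, .w, .o, .v, .v, .v, .w, .i, .i, .w, .v, .v, .i, .i, .i, .o, .w, .w, .w, .v, .v, .v, .w, .i, .i, .i, .v, .w, .i, .o, .v, .w, .w, .i, .i, .v, .i, .i, .w, .i, .w, .v, .i, .i, .v, .v, .o, .o, .v, .w, .v, .v, .i, .v, .v, .o, .v, .w, .w, .o, .i, .i, .w, .o, .v, .v, .i, .v, .i, .i, .o, .i, .v, .v, .v, .v, .w, .i, .v, .w, .v, .v, .w, .w, .w, .i, .o, .o, .v, .i, .v, .w, .o, .v, .i, .o, .w, .v, .i, .w, .o, .i, .o, .o, .o, .i, .o, .o, .i, .i, .w, .i, .o, .v, .w, .w, .w, .i, .w, .i, .w, .o, .w, .v, .v, .v, .v, .v, .w, .w, .i, .w, .v, .o, .v,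 .v, .w, .v, .v, .i, .v, .i, .w, .v, .w, .v, .i, .o, .i, .v, .v, .w, .i, .i, .w, .v, .w, .w, .w, .o, .w, .o, .w, .i, .o, .w, .w, .i, .o, .i, .w, .i, .w, .i, .i, .w, .w, .i, .i, .w, .w, .o, .i, .o, .o, .w, .o, .w, .o, .v, .v, .v, .w]⟩
def q38_28 : MatD 14 K4 := ⟨[.v, .i, .i, .v, .i, .i, .w, .i, .o, .w, .i, .i, .w, .v, .w, .i, .o, .o, .o, .o, .o, .v, .w, .v, .v, .w, .i, .i, .o, .o, .w, .i, .w, .w, .v, .v, .v, .i, .v, .i, .i, .w, .w, .o, .o, .o, .o, .o, .o, .v, .i, .v, .w, .v, .v, .i, .o, .i, .o, .o, .o, .i, .v, .w, .o, .w, .o, .v, .v, .i, .i, .o, .o, .o, .w, .o, .o, .i, .o, .w, .i, .v, .w, .v, .o, .o, .o, .o, .o, .o, .o, .o, .o, .v, .w, .o, .v, .i, .o, .v, .w, .w, .v, .o, .i, .o, .i, .o, .i, .o, .o, .i, .i, .o, .o, .o, .o, .o, .o, .w, .v, .w, .i, .w, .o, .w, .o, .w, .o, .o, .o, .i, .i, .w, .o, .v, .o, .v, .v,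 .w, .o, .v, .o, .o, .o, .v, .w, .i, .o, .i, .o, .i, .v, .v, .v, .o, .o, .o, .i, .o, .o, .v, .o, .w, .o, .w, .i, .o, .v, .w, .i, .i, .w, .o, .v, .v, .o, .i, .w, .w, .i, .i, .i, .v, .v, .w, .v, .v, .i, .v, .o, .o, .v, .v, .v, .w]⟩
def q38_29 : MatD 14 K4 := ⟨[.i, .w, .i, .v, .i, .w, .i, .v, .o, .w, .w, .o, .i, .v, .w, .w, .o, .v, .w, .i, .w, .v, .w, .w, .i, .i, .i, .i, .i, .v, .v, .i, .o, .o, .o, .v, .v, .o, .o, .o, .v, .w, .v, .v, .i, .o, .w, .w, .v, .v, .i, .w, .i, .w, .i, .i, .i, .v, .w, .w, .w, .i, .w, .o, .o, .w, .i, .i, .i, .i, .i, .o, .v, .w, .v, .w, .v, .i, .o, .v, .w, .w, .w, .v, .i, .o, .o, .v, .v, .i, .i, .i, .o, .o, .v, .w, .i, .i, .v, .v, .i, .o, .v, .i, .w, .v, .i, .v, .w, .i, .i, .i, .o, .i, .w, .i, .o, .i, .v, .o, .v, .v, .w, .v, .w, .w, .o, .i, .o, .v, .i, .i, .v, .w, .o, .w, .w, .o, .v, .w,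 .o, .w, .v, .i, .w, .i, .i, .w, .o, .i, .v, .o, .v, .v, .i, .o, .i, .o, .v, .w, .o, .i, .o, .i, .o, .w, .w, .o, .o, .v, .w, .i, .w, .o, .w, .o, .o, .o, .v, .o, .o, .i, .o, .i, .w, .w, .v, .w, .v, .v, .o, .v, .i, .o, .i, .w]⟩
def q38_30 : MatD 14 K4 := ⟨[.o, .o, .i, .w, .i, .w, .i, .w, .v, .w, .w, .o, .i, .v, .v, .w, .i, .i, .i, .o, .v, .w, .v, .w, .i, .i, .i, .i, .w, .w, .o, .i, .o, .o, .o, .o, .i, .o, .o, .o, .v, .w, .w, .v, .i, .i, .i, .o, .i, .w, .o, .w, .i, .w, .i, .i, .o, .v, .v, .o, .i, .o, .v, .i, .i, .w, .i, .i, .i, .i, .v, .i, .w, .w, .w, .o, .i, .v, .v, .v, .w, .w, .w, .v, .o, .o, .o, .w, .o, .v, .v, .o, .i, .o, .v, .w, .i, .i, .w, .v, .i, .i, .w, .o, .v, .w, .o, .v, .w, .i, .i, .i, .w, .i, .w, .v, .i, .w, .o, .w, .i, .v, .w, .v, .w, .w, .v, .o, .v, .v, .i, .i, .v, .i, .w, .w, .w, .o, .v, .w, .v,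 .w, .i, .v, .o, .i, .i, .i, .v, .i, .v, .o, .v, .v, .v, .w, .v, .v, .w, .o, .w, .v, .o, .i, .o, .w, .w, .o, .o, .w, .v, .v, .i, .o, .w, .o, .i, .o, .v, .o, .o, .i, .i, .w, .w, .o, .i, .w, .v, .w, .w, .v, .i, .o, .i, .w]⟩
def q38_31 : MatD 14 K4 := ⟨[.o, .i, .o, .o, .o, .i, .v, .o, .v, .o, .o, .v, .i, .v, .o, .o, .o, .o, .o, .i, .v, .w, .v, .w, .i, .i, .o, .i, .w, .o, .o, .o, .o, .o, .o, .v, .i, .o, .o, .o, .v, .w, .o, .o, .o, .o, .o, .o, .o, .o, .o, .o, .o, .o, .w, .i, .w, .o, .o, .o, .o, .o, .o, .v, .i, .v, .w, .o, .w, .i, .i, .o, .o, .o, .o, .i, .v, .w, .v, .o, .o, .i, .i, .v, .w, .o, .o, .o, .o, .o, .o, .v, .i, .o, .o, .v, .w, .i, .w, .w, .w, .i, .o, .v, .w, .v, .o, .i, .v, .v, .i, .i, .w, .o, .o, .o, .o, .o, .o, .v, .i, .v, .w, .v, .w, .w, .w, .w, .w, .i, .w, .v, .w, .w, .w, .w, .v, .w, .i, .w, .i, .i,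 .o, .o, .o, .i, .v, .o, .v, .o, .i, .v, .o, .v, .i, .i, .w, .i, .o, .o, .w, .w, .o, .o, .o, .w, .i, .o, .o, .o, .i, .o, .i, .o, .i, .i, .i, .i, .o, .i, .o, .i, .i, .i, .w, .i, .w, .o, .w, .w, .w, .w, .o, .w, .i, .w]⟩
def q38_32 : MatD 14 K4 := ⟨[.o, .i, .v, .w, .v, .i, .o, .o, .o, .v, .w, .o, .i, .o, .w, .i, .o, .o, .o, .o, .o, .v, .w, .v, .v, .i, .o, .i, .w, .o, .w, .i, .w, .v, .o, .w, .i, .v, .w, .v, .i, .o, .w, .o, .o, .o, .o, .o, .o, .v, .i, .v, .w, .v, .i, .o, .w, .i, .o, .o, .o, .i, .v, .i, .i, .i, .w, .v, .i, .o, .w, .o, .o, .o, .w, .o, .o, .w, .i, .o, .o, .v, .o, .o, .o, .o, .o, .o, .o, .o, .o, .o, .o, .v, .w, .o, .i, .o, .i, .o, .w, .w, .i, .o, .v, .i, .v, .v, .v, .w, .o, .i, .v, .o, .o, .o, .o, .o, .o, .i, .w, .i, .v, .i, .o, .i, .w, .v, .o, .o, .o, .i, .i, .i, .w, .v, .i, .w, .o, .i, .v, .w, .o,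 .o, .o, .w, .i, .w, .w, .w, .v, .w, .i, .i, .v, .o, .o, .o, .v, .o, .o, .v, .w, .v, .v, .i, .o, .i, .i, .o, .v, .v, .w, .o, .i, .i, .w, .v, .v, .w, .o, .i, .w, .w, .i, .v, .i, .w, .o, .o, .o, .v, .o, .o, .i, .o]⟩
def q38_33 : MatD 14 K4 := ⟨[.i, .o, .w, .w, .w, .i, .o, .i, .o, .v, .w, .o, .i, .o, .w, .o, .o, .o, .o, .i, .i, .v, .v, .v, .v, .i, .o, .i, .v, .i, .v, .v, .v, .o, .v, .v, .i, .v, .w, .v, .i, .o, .v, .i, .o, .w, .i, .v, .v, .w, .i, .v, .w, .v, .i, .o, .v, .o, .w, .v, .v, .w, .o, .o, .i, .i, .w, .v, .i, .o, .w, .o, .o, .v, .w, .v, .v, .w, .i, .o, .o, .v, .o, .o, .i, .i, .i, .i, .i, .o, .o, .i, .o, .v, .w, .o, .i, .o, .i, .i, .v, .i, .i, .w, .i, .i, .w, .v, .v, .w, .o, .i, .v, .i, .v, .o, .w, .i, .i, .i, .v, .i, .v, .i, .o, .i, .w, .w, .w, .w, .w, .v, .v, .i, .v, .v, .i, .w, .o, .i, .w, .w, .i, .v,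 .i, .o, .v, .v, .v, .w, .v, .w, .i, .i, .v, .i, .i, .o, .v, .i, .i, .v, .v, .v, .v, .i, .o, .i, .i, .i, .w, .i, .w, .w, .v, .i, .v, .v, .v, .w, .o, .i, .v, .v, .w, .w, .w, .w, .o, .i, .o, .v, .o, .o, .i, .o]⟩
def q38_34 : MatD 14 K4 := ⟨[.w, .v, .v, .o, .v, .v, .o, .o, .o, .o, .w, .o, .o, .o, .w, .w, .w, .i, .o, .v, .i, .i, .v, .i, .v, .i, .o, .i, .o, .o, .i, .i, .i, .o, .i, .o, .i, .o, .o, .o, .o, .o, .o, .o, .i, .o, .i, .o, .i, .o, .i, .o, .o, .o, .o, .o, .o, .o, .w, .w, .i, .o, .w, .o, .i, .o, .o, .o, .o, .o, .w, .w, .v, .v, .v, .w, .i, .o, .i, .o, .w, .o, .o, .o, .w, .w, .o, .v, .o, .w, .o, .o, .o, .o, .w, .o, .o, .o, .i, .o, .v, .v, .v, .o, .v, .i, .w, .i, .i, .i, .o, .i, .v, .v, .i, .i, .v, .v, .i, .i, .v, .i, .v, .i, .o, .i, .w, .o, .v, .v, .i, .o, .v, .w, .v, .i, .i, .w, .o, .i, .i, .v, .w, .o, .w,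 .i, .v, .w, .v, .i, .v, .w, .o, .i, .v, .v, .v, .i, .w, .v, .i, .v, .v, .v, .v, .i, .o, .i, .w, .o, .o, .w, .i, .v, .v, .w, .v, .o, .v, .w, .i, .i, .v, .v, .v, .w, .w, .w, .o, .v, .o, .v, .o, .o, .i, .o]⟩
def q38_35 : MatD 14 K4 := ⟨[.w, .v, .i, .i, .i, .v, .o, .o, .o, .o, .w, .o, .o, .o, .w, .v, .o, .v, .w, .w, .o, .i, .w, .i, .v, .i, .o, .i, .o, .o, .i, .o, .i, .o, .i, .o, .i, .o, .o, .o, .o, .o, .o, .o, .i, .i, .i, .o, .i, .o, .i, .o, .o, .o, .o, .o, .o, .o, .w, .v, .i, .o, .w, .o, .i, .o, .o, .o, .o, .o, .w, .w, .i, .w, .i, .w, .i, .o, .i, .o, .w, .o, .o, .o, .w, .w, .w, .v, .w, .w, .o, .o, .o, .o, .w, .o, .o, .o, .i, .i, .w, .i, .v, .i, .w, .i, .v, .i, .i, .i, .o, .i, .v, .w, .w, .v, .i, .w, .o, .i, .w, .i, .v, .i, .o, .i, .w, .i, .w, .v, .i, .w, .i, .w, .w, .i, .i, .w, .o, .i, .i, .w, .o, .o, .o, .v,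 .i, .w, .w, .i, .v, .w, .o, .i, .v, .w, .w, .v, .w, .w, .o, .v, .w, .v, .v, .i, .o, .i, .v, .o, .o, .v, .w, .i, .i, .v, .w, .o, .v, .w, .i, .i, .w, .w, .w, .v, .i, .w, .o, .w, .o, .v, .o, .o, .i, .o]⟩
def q38_36 : MatD 14 K4 := ⟨[.i, .o, .o, .v, .w, .w, .o, .i, .o, .v, .w, .o, .i, .o, .i, .o, .o, .o, .o, .o, .w, .o, .w, .o, .i, .w, .i, .i, .v, .i, .o, .w, .i, .v, .v, .w, .i, .v, .w, .v, .i, .o, .v, .i, .v, .v, .v, .o, .v, .v, .i, .v, .w, .v, .i, .o, .v, .o, .i, .w, .i, .i, .o, .i, .i, .i, .w, .v, .i, .o, .w, .o, .w, .w, .w, .o, .v, .w, .i, .o, .o, .v, .o, .o, .i, .i, .o, .i, .v, .o, .o, .o, .o, .v, .w, .o, .i, .o, .w, .i, .v, .i, .v, .v, .w, .v, .v, .o, .i, .i, .i, .i, .o, .i, .w, .o, .w, .o, .w, .w, .w, .w, .i, .w, .i, .i, .i, .v, .o, .v, .w, .o, .v, .o, .w, .w, .v, .i, .i, .i, .i, .v, .v, .w, .v, .v, .v,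 .v, .w, .v, .i, .i, .o, .i, .o, .i, .i, .o, .i, .o, .w, .i, .w, .o, .i, .w, .i, .i, .v, .i, .w, .i, .w, .w, .v, .w, .w, .o, .i, .i, .i, .i, .w, .w, .o, .v, .w, .i, .o, .v, .o, .i, .o, .o, .i, .o]⟩
def q38_37 : MatD 14 K4 := ⟨[.w, .v, .o, .o, .o, .v, .o, .i, .o, .v, .w, .i, .o, .v, .v, .w, .o, .o, .o, .v, .o, .w, .o, .w, .w, .w, .o, .w, .o, .o, .i, .o, .i, .o, .i, .o, .i, .o, .o, .o, .o, .o, .v, .v, .v, .i, .i, .v, .v, .i, .i, .i, .v, .i, .o, .i, .o, .o, .i, .o, .v, .o, .i, .i, .v, .i, .o, .i, .o, .i, .v, .v, .o, .o, .o, .v, .o, .i, .o, .i, .v, .i, .o, .i, .w, .v, .i, .o, .i, .w, .w, .v, .w, .i, .v, .v, .o, .i, .o, .o, .o, .o, .o, .o, .o, .i, .o, .i, .o, .i, .o, .i, .i, .v, .i, .o, .v, .w, .w, .o, .i, .v, .w, .v, .i, .o, .o, .o, .o, .o, .o, .o, .o, .i, .o, .v, .o, .i, .o, .v, .w, .w, .o, .o, .o, .v, .o, .w,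 .o, .i, .i, .w, .i, .i, .o, .o, .o, .o, .o, .o, .o, .i, .o, .i, .o, .w, .i, .w, .o, .o, .o, .o, .o, .o, .o, .o, .o, .o, .o, .o, .i, .o, .o, .o, .o, .o, .o, .o, .o, .i, .o, .v, .o, .w, .w, .i]⟩
def q38_38 : MatD 14 K4 := ⟨[.w, .o, .o, .w, .i, .w, .i, .i, .v, .v, .w, .i, .o, .v, .v, .o, .v, .v, .o, .i, .w, .w, .w, .w, .w, .w, .o, .w, .o, .o, .i, .i, .i, .o, .i, .o, .i, .o, .o, .o, .o, .o, .v, .w, .o, .i, .v, .w, .w, .i, .o, .i, .v, .i, .o, .i, .o, .i, .i, .w, .w, .i, .o, .i, .w, .i, .o, .i, .o, .i, .v, .w, .v, .i, .w, .w, .i, .i, .i, .i, .v, .i, .o, .i, .w, .w, .i, .w, .v, .i, .i, .v, .v, .i, .v, .v, .o, .i, .o, .i, .o, .i, .i, .i, .i, .i, .i, .i, .o, .i, .o, .i, .o, .w, .i, .w, .w, .i, .i, .i, .i, .v, .w, .v, .i, .o, .o, .v, .w, .v, .v, .i, .i, .i, .v, .v, .o, .i, .o, .v, .v, .w, .o, .o, .o, .i, .w, .v, .i,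 .i, .i, .w, .i, .i, .i, .v, .w, .v, .i, .w, .w, .o, .w, .i, .o, .w, .i, .w, .i, .i, .i, .i, .o, .o, .o, .i, .o, .o, .o, .o, .i, .o, .w, .v, .w, .v, .v, .w, .w, .v, .i, .v, .o, .w, .w, .i]⟩
def q38_39 : MatD 14 K4 := ⟨[.v, .i, .i, .o, .i, .w, .v, .i, .v, .i, .o, .w, .w, .v, .o, .o, .i, .o, .v, .w, .v, .v, .w, .i, .v, .o, .i, .w, .v, .i, .v, .v, .v, .o, .v, .v, .i, .v, .w, .v, .i, .o, .i, .v, .v, .i, .v, .o, .v, .v, .o, .v, .w, .v, .v, .i, .w, .v, .w, .w, .v, .o, .w, .w, .w, .v, .w, .w, .v, .i, .w, .i, .i, .i, .i, .v, .w, .i, .i, .i, .o, .o, .w, .i, .o, .o, .o, .v, .o, .v, .i, .o, .v, .o, .v, .v, .v, .i, .o, .v, .w, .w, .w, .o, .w, .o, .i, .o, .v, .o, .o, .i, .v, .o, .o, .w, .w, .w, .v, .w, .i, .o, .o, .o, .o, .o, .w, .i, .v, .v, .o, .o, .v, .w, .v, .w, .w, .w, .v, .v, .w, .v, .o, .i, .i, .i, .i, .i, .i, .v,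 .w, .v, .v, .i, .i, .o, .o, .w, .v, .w, .v, .v, .w, .o, .i, .o, .i, .w, .i, .i, .w, .i, .v, .w, .o, .v, .o, .v, .o, .o, .i, .o, .i, .o, .o, .v, .v, .v, .i, .v, .i, .o, .v, .v, .v, .i]⟩
def q38_40 : MatD 14 K4 := ⟨[.i, .o, .w, .o, .o, .o, .i, .v, .o, .i, .o, .w, .w, .v, .i, .v, .i, .i, .i, .w, .v, .w, .o, .i, .v, .o, .i, .w, .w, .o, .w, .i, .w, .v, .o, .w, .i, .v, .w, .v, .i, .o, .w, .i, .v, .i, .w, .v, .o, .o, .i, .v, .w, .v, .v, .i, .i, .i, .o, .v, .w, .w, .o, .i, .v, .v, .w, .w, .v, .i, .o, .w, .i, .o, .o, .v, .w, .v, .o, .i, .o, .o, .w, .i, .v, .w, .w, .w, .v, .o, .w, .v, .w, .o, .v, .v, .v, .i, .o, .w, .v, .i, .i, .o, .w, .o, .o, .o, .v, .o, .o, .i, .v, .o, .i, .o, .w, .w, .v, .w, .i, .o, .o, .o, .o, .o, .i, .i, .v, .v, .o, .w, .i, .i, .o, .w, .w, .w, .v, .v, .i, .i, .i, .v, .o, .w, .w, .w, .o, .v, .w,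 .v, .v, .i, .o, .v, .i, .w, .w, .w, .v, .w, .o, .o, .i, .o, .i, .w, .o, .o, .i, .o, .o, .w, .o, .w, .o, .v, .o, .o, .i, .o, .w, .w, .o, .i, .o, .o, .w, .o, .o, .o, .v, .v, .v, .i]⟩
def q38_41 : MatD 14 K4 := ⟨[.w, .o, .w, .w, .v, .v, .w, .w, .o, .i, .v, .v, .v, .v, .v, .w, .o, .v, .o, .o, .i, .o, .o, .o, .i, .v, .w, .w, .i, .o, .i, .o, .v, .w, .w, .i, .i, .o, .o, .o, .o, .o, .v, .w, .v, .i, .v, .o, .v, .w, .i, .w, .i, .w, .i, .i, .o, .v, .w, .w, .w, .i, .o, .i, .v, .i, .w, .w, .i, .i, .w, .w, .i, .v, .o, .o, .v, .v, .o, .w, .i, .w, .i, .i, .w, .w, .o, .v, .v, .o, .o, .o, .w, .w, .i, .o, .i, .i, .v, .v, .v, .i, .o, .w, .v, .w, .o, .i, .w, .w, .i, .i, .o, .w, .i, .o, .i, .o, .i, .v, .i, .v, .w, .v, .i, .o, .i, .w, .o, .v, .i, .o, .w, .o, .o, .v, .i, .v, .v, .v, .v, .w, .v, .w, .v, .w, .v, .w, .o, .w, .v, .i,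 .o, .i, .i, .i, .w, .w, .o, .o, .i, .i, .o, .v, .v, .v, .v, .w, .o, .o, .i, .o, .o, .v, .o, .v, .o, .w, .o, .o, .i, .o, .w, .v, .v, .i, .w, .i, .v, .v, .o, .o, .w, .i, .v, .i]⟩
def q38_42 : MatD 14 K4 := ⟨[.i, .w, .w, .o, .o, .o, .w, .v, .o, .o, .o, .v, .i, .v, .o, .w, .w, .v, .v, .o, .w, .v, .w, .i, .v, .v, .i, .o, .w, .w, .o, .i, .o, .o, .o, .o, .i, .o, .o, .o, .v, .w, .w, .v, .i, .i, .o, .o, .o, .w, .i, .o, .o, .o, .i, .v, .v, .v, .o, .w, .i, .o, .o, .o, .w, .w, .i, .o, .i, .v, .i, .i, .o, .v, .o, .o, .i, .o, .v, .o, .o, .w, .w, .i, .o, .v, .v, .o, .o, .i, .i, .i, .o, .o, .o, .v, .i, .v, .v, .v, .o, .w, .o, .o, .o, .o, .v, .o, .o, .o, .i, .i, .o, .v, .w, .v, .v, .w, .w, .w, .w, .i, .v, .i, .w, .o, .w, .w, .o, .i, .w, .o, .o, .o, .v, .v, .v, .o, .v, .i, .w, .w, .w, .i, .w, .o, .v, .v, .v, .w, .v, .i, .v,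 .v, .o, .w, .i, .w, .w, .w, .i, .w, .i, .v, .w, .i, .w, .o, .i, .o, .v, .v, .i, .o, .w, .i, .w, .w, .w, .v, .o, .i, .o, .i, .w, .o, .o, .i, .o, .i, .o, .v, .o, .v, .i, .v]⟩
def q38_43 : MatD 14 K4 := ⟨[.o, .o, .w, .i, .o, .v, .i, .w, .v, .o, .o, .v, .i, .v, .i, .v, .o, .w, .i, .v, .i, .w, .w, .i, .v, .v, .i, .o, .i, .v, .v, .i, .o, .o, .o, .v, .v, .o, .o, .o, .v, .w, .v, .i, .v, .v, .o, .o, .o, .v, .w, .o, .o, .o, .i, .v, .w, .i, .i, .w, .w, .o, .o, .i, .i, .w, .i, .o, .i, .v, .v, .w, .w, .v, .o, .w, .v, .w, .w, .o, .o, .w, .w, .i, .i, .i, .o, .i, .o, .w, .w, .o, .v, .o, .o, .v, .i, .v, .w, .v, .v, .i, .o, .o, .o, .i, .w, .o, .o, .o, .i, .i, .w, .i, .w, .o, .i, .v, .v, .o, .w, .i, .v, .i, .w, .o, .i, .o, .o, .o, .w, .o, .o, .v, .w, .v, .v, .o, .v, .i, .i, .w, .v, .w, .v, .i, .w, .o, .o, .w, .v, .i, .v, .v,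 .w, .o, .i, .v, .v, .v, .o, .o, .i, .v, .w, .i, .w, .o, .i, .i, .w, .i, .i, .v, .i, .i, .v, .w, .w, .v, .o, .i, .i, .v, .i, .v, .v, .w, .v, .o, .v, .v, .o, .v, .i, .v]⟩
def q38_44 : MatD 14 K4 := ⟨[.o, .w, .o, .i, .i, .i, .v, .i, .v, .v, .w, .o, .i, .v, .w, .i, .i, .i, .o, .w, .w, .v, .w, .o, .o, .w, .o, .o, .o, .o, .w, .i, .w, .w, .v, .v, .v, .i, .v, .i, .i, .w, .v, .w, .v, .i, .o, .o, .o, .w, .w, .o, .o, .o, .i, .v, .w, .w, .o, .v, .o, .v, .i, .o, .i, .o, .o, .w, .i, .v, .w, .i, .i, .o, .w, .i, .i, .w, .w, .w, .w, .i, .o, .i, .i, .w, .w, .w, .i, .o, .o, .i, .v, .v, .w, .o, .i, .v, .i, .i, .v, .i, .v, .v, .w, .i, .w, .w, .w, .v, .o, .i, .v, .o, .w, .i, .o, .o, .o, .i, .w, .o, .o, .o, .o, .o, .v, .v, .v, .v, .v, .w, .w, .i, .w, .w, .i, .v, .o, .i, .o, .w, .i, .o, .o, .w, .i, .v, .o, .o, .o, .o, .i, .v, .v,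 .o, .o, .w, .v, .w, .w, .v, .i, .o, .o, .w, .o, .o, .i, .i, .w, .i, .i, .v, .i, .i, .v, .w, .w, .v, .o, .i, .i, .w, .v, .i, .i, .w, .i, .i, .v, .v, .w, .o, .i, .v]⟩
def q38_45 : MatD 14 K4 := ⟨[.i, .o, .v, .w, .o, .i, .v, .o, .o, .v, .w, .o, .i, .v, .w, .i, .o, .o, .o, .o, .o, .v, .w, .o, .o, .w, .o, .o, .i, .v, .w, .i, .o, .v, .w, .w, .i, .i, .v, .i, .i, .w, .w, .o, .o, .o, .o, .o, .o, .v, .i, .o, .o, .o, .i, .v, .v, .o, .o, .o, .o, .i, .v, .i, .w, .o, .o, .w, .i, .v, .w, .o, .o, .o, .w, .o, .o, .w, .v, .w, .w, .i, .o, .i, .o, .o, .o, .o, .o, .o, .o, .o, .o, .v, .w, .o, .i, .v, .i, .o, .w, .w, .v, .o, .i, .i, .v, .w, .w, .v, .o, .i, .v, .o, .o, .o, .o, .o, .o, .i, .w, .o, .o, .o, .o, .o, .v, .w, .o, .o, .o, .i, .i, .i, .v, .w, .i, .v, .o, .i, .i, .o, .o, .o, .o, .w, .i, .w, .v, .o, .o, .o, .i, .v, .v, .o,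 .o, .o, .v, .o, .o, .v, .i, .o, .o, .w, .o, .o, .i, .o, .v, .v, .i, .o, .w, .i, .w, .w, .w, .v, .o, .i, .o, .o, .i, .v, .o, .w, .i, .o, .o, .v, .w, .o, .i, .v]⟩
def q38_46 : MatD 14 K4 := ⟨[.v, .o, .v, .o, .v, .w, .o, .w, .o, .w, .i, .i, .w, .v, .i, .o, .o, .i, .o, .w, .v, .o, .w, .o, .v, .v, .i, .o, .i, .v, .w, .i, .o, .v, .w, .w, .i, .i, .v, .i, .i, .w, .o, .i, .i, .o, .i, .o, .i, .w, .i, .w, .i, .w, .w, .v, .i, .w, .v, .i, .v, .v, .v, .i, .w, .i, .o, .w, .w, .v, .o, .w, .v, .i, .i, .w, .o, .w, .v, .v, .w, .i, .v, .i, .w, .i, .v, .i, .i, .o, .v, .i, .o, .w, .i, .i, .w, .v, .i, .o, .w, .w, .v, .o, .i, .i, .v, .w, .w, .v, .o, .i, .w, .i, .v, .i, .v, .o, .v, .i, .w, .i, .v, .i, .w, .o, .w, .v, .w, .v, .w, .o, .i, .i, .v, .i, .i, .v, .w, .i, .w, .w, .o, .o, .o, .w, .v, .o, .v, .o, .w, .v, .o, .v, .w, .v, .w,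 .v, .v, .o, .w, .i, .i, .w, .w, .i, .w, .o, .w, .w, .o, .v, .o, .o, .o, .o, .w, .o, .o, .o, .i, .i, .w, .v, .w, .v, .w, .o, .w, .i, .o, .i, .i, .i, .w, .v]⟩
def q38_47 : MatD 14 K4 := ⟨[.i, .o, .v, .o, .o, .w, .o, .o, .o, .o, .o, .o, .o, .o, .o, .i, .i, .o, .v, .w, .o, .i, .o, .o, .o, .o, .o, .o, .o, .o, .i, .o, .o, .o, .o, .o, .o, .o, .o, .o, .o, .o, .o, .o, .i, .i, .o, .o, .o, .o, .o, .o, .o, .o, .o, .o, .o, .o, .v, .o, .w, .o, .o, .o, .o, .o, .o, .o, .o, .o, .o, .o, .w, .o, .o, .v, .o, .o, .o, .o, .o, .o, .o, .o, .o, .o, .o, .w, .o, .v, .v, .o, .o, .o, .o, .o, .o, .o, .o, .o, .o, .o, .o, .o, .o, .i, .o, .o, .o, .o, .o, .o, .i, .o, .w, .v, .v, .w, .w, .i, .i, .o, .o, .o, .o, .o, .o, .o, .v, .o, .o, .o, .o, .v, .o, .w, .o, .o, .o, .o, .v, .v, .i, .v, .i, .i, .o, .v, .o, .w, .w, .o, .o, .o, .w, .o, .v, .o,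 .i, .i, .o, .w, .o, .o, .o, .v, .o, .o, .o, .o, .i, .o, .o, .w, .o, .w, .o, .v, .o, .o, .i, .o, .i, .w, .i, .i, .w, .i, .w, .v, .o, .o, .v, .w, .i, .i]⟩
def q38_48 : MatD 14 K4 := ⟨[.i, .o, .w, .i, .o, .w, .o, .o, .o, .o, .o, .o, .o, .o, .o, .i, .o, .i, .v, .w, .o, .i, .o, .o, .o, .o, .o, .o, .o, .o, .i, .o, .o, .o, .o, .o, .o, .o, .o, .o, .o, .o, .o, .o, .i, .i, .o, .o, .o, .o, .o, .o, .o, .o, .o, .o, .o, .o, .v, .o, .w, .o, .o, .o, .o, .o, .o, .o, .o, .o, .o, .o, .w, .o, .o, .v, .o, .o, .o, .o, .o, .o, .o, .o, .o, .o, .o, .w, .o, .v, .v, .o, .o, .o, .o, .o, .o, .o, .o, .o, .i, .o, .o, .o, .o, .i, .o, .o, .o, .o, .o, .o, .i, .o, .w, .v, .v, .w, .w, .i, .i, .o, .o, .o, .o, .o, .o, .o, .o, .o, .w, .o, .o, .v, .o, .w, .o, .o, .o, .o, .v, .v, .i, .v, .i, .i, .o, .v, .o, .w, .w, .o, .o, .o, .w, .o, .v, .w, .i,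 .w, .v, .w, .o, .o, .o, .v, .o, .o, .i, .i, .w, .i, .v, .w, .o, .v, .o, .v, .o, .o, .i, .o, .o, .w, .v, .w, .i, .v, .o, .w, .i, .o, .v, .w, .i, .i]⟩
def q38_49 : MatD 14 K4 := ⟨[.i, .o, .o, .i, .w, .v, .o, .i, .o, .w, .o, .o, .o, .o, .o, .i, .w, .i, .o, .v, .o, .w, .o, .o, .o, .o, .o, .o, .o, .o, .i, .o, .o, .o, .o, .o, .o, .o, .o, .o, .o, .o, .o, .o, .w, .i, .w, .v, .o, .i, .o, .o, .o, .o, .o, .o, .o, .o, .o, .o, .w, .o, .o, .i, .o, .o, .o, .o, .o, .o, .o, .o, .i, .o, .o, .v, .o, .i, .o, .o, .o, .o, .o, .o, .o, .i, .w, .i, .w, .w, .v, .v, .o, .w, .o, .o, .o, .o, .o, .o, .i, .o, .o, .o, .o, .i, .o, .o, .o, .o, .o, .o, .w, .o, .v, .w, .v, .i, .o, .i, .i, .v, .w, .v, .i, .o, .o, .o, .i, .o, .w, .o, .o, .i, .o, .w, .o, .o, .o, .o, .o, .o, .w, .i, .i, .v, .o, .v, .o, .v, .w, .o, .i, .o, .i, .i, .o, .i, .o, .v,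 .v, .o, .o, .o, .o, .v, .i, .o, .i, .i, .i, .i, .o, .o, .o, .i, .o, .o, .o, .o, .i, .o, .w, .v, .w, .v, .w, .v, .v, .v, .i, .w, .o, .v, .w, .i]⟩
def q38_50 : MatD 14 K4 := ⟨[.i, .o, .o, .o, .o, .v, .o, .i, .o, .w, .o, .o, .o, .o, .o, .i, .o, .o, .o, .v, .o, .w, .o, .o, .o, .o, .o, .o, .o, .o, .i, .o, .o, .o, .o, .o, .o, .o, .o, .o, .o, .o, .o, .o, .v, .i, .w, .v, .o, .i, .o, .o, .o, .o, .o, .o, .o, .o, .i, .o, .w, .o, .o, .i, .o, .o, .o, .o, .o, .o, .o, .o, .o, .o, .o, .v, .o, .i, .o, .o, .o, .o, .o, .o, .o, .i, .i, .o, .o, .w, .v, .v, .o, .w, .o, .o, .o, .o, .o, .o, .o, .o, .o, .o, .o, .i, .o, .o, .o, .o, .o, .o, .v, .i, .i, .o, .w, .w, .v, .o, .i, .v, .w, .v, .i, .o, .o, .o, .o, .o, .o, .o, .o, .i, .o, .w, .o, .o, .o, .o, .i, .i, .o, .o, .o, .v, .o, .w, .o, .v, .w, .o, .i, .o, .o, .o, .o, .o, .o, .o, .o,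 .i, .o, .o, .o, .v, .i, .o, .o, .o, .o, .o, .o, .o, .o, .o, .o, .o, .o, .o, .i, .o, .o, .o, .o, .o, .o, .o, .o, .i, .o, .w, .o, .v, .w, .i]⟩
def q38_51 : MatD 14 K4 := ⟨[.i, .o, .w, .o, .o, .i, .o, .o, .o, .o, .o, .o, .o, .o, .o, .i, .i, .o, .i, .i, .o, .o, .o, .o, .o, .o, .o, .o, .o, .o, .i, .o, .o, .o, .o, .o, .o, .o, .o, .o, .o, .o, .o, .o, .o, .i, .o, .o, .o, .o, .o, .o, .o, .o, .o, .o, .o, .o, .w, .o, .w, .o, .o, .o, .o, .o, .o, .o, .o, .o, .o, .o, .v, .o, .o, .v, .o, .o, .o, .o, .o, .o, .o, .o, .o, .o, .v, .v, .o, .o, .v, .o, .o, .o, .o, .o, .o, .o, .o, .o, .o, .o, .o, .o, .o, .i, .o, .o, .o, .o, .o, .o, .o, .o, .i, .w, .i, .o, .i, .o, .i, .o, .o, .o, .o, .o, .o, .o, .w, .o, .o, .o, .o, .w, .o, .w, .o, .o, .o, .o, .w, .w, .v, .w, .v, .w, .o, .o, .o, .o, .w, .o, .o, .o, .v, .o, .w, .o, .v, .w, .o, .v,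 .o, .o, .o, .v, .o, .o, .o, .o, .i, .o, .o, .i, .o, .v, .o, .i, .o, .o, .i, .o, .i, .v, .o, .i, .w, .v, .i, .i, .o, .i, .i, .i, .o, .i]⟩
def q38_52 : MatD 14 K4 := ⟨[.i, .o, .w, .w, .o, .v, .v, .o, .o, .o, .o, .o, .o, .o, .o, .i, .o, .w, .o, .v, .o, .o, .o, .o, .o, .o, .o, .o, .o, .o, .i, .o, .o, .o, .o, .o, .o, .o, .o, .o, .o, .o, .o, .o, .o, .i, .o, .o, .o, .o, .o, .o, .o, .o, .o, .o, .o, .o, .i, .i, .w, .o, .o, .o, .o, .o, .o, .o, .o, .o, .o, .o, .o, .i, .o, .v, .o, .o, .o, .o, .o, .o, .o, .o, .o, .o, .i, .o, .o, .o, .v, .o, .o, .o, .o, .o, .o, .o, .o, .o, .v, .i, .w, .v, .o, .i, .o, .o, .o, .o, .o, .o, .o, .o, .i, .v, .w, .o, .v, .o, .i, .o, .o, .o, .o, .o, .o, .i, .v, .w, .v, .v, .v, .i, .o, .w, .o, .o, .o, .o, .i, .i, .w, .v, .v, .v, .v, .o, .i, .o, .w, .o, .o, .o, .o, .o, .v, .v, .w, .w, .w, .i, .i,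 .o, .o, .v, .o, .o, .v, .v, .i, .o, .v, .i, .w, .w, .i, .o, .w, .v, .i, .o, .o, .v, .o, .i, .v, .w, .i, .i, .w, .w, .o, .v, .o, .i]⟩
def q38_53 : MatD 14 K4 := ⟨[.i, .o, .w, .w, .i, .v, .v, .w, .w, .w, .i, .v, .w, .v, .v, .i, .w, .w, .w, .v, .v, .i, .o, .v, .v, .v, .i, .i, .i, .v, .w, .i, .o, .v, .w, .w, .i, .i, .v, .i, .i, .w, .i, .w, .v, .i, .i, .v, .v, .o, .o, .v, .w, .v, .v, .i, .w, .i, .v, .w, .w, .i, .v, .w, .o, .o, .v, .v, .v, .i, .v, .i, .v, .w, .o, .o, .o, .i, .i, .w, .i, .o, .w, .v, .v, .w, .o, .i, .w, .i, .v, .w, .o, .v, .w, .w, .v, .i, .v, .v, .w, .i, .o, .v, .w, .i, .o, .i, .v, .i, .o, .i, .w, .v, .o, .w, .w, .w, .i, .w, .o, .v, .v, .i, .o, .w, .w, .v, .w, .i, .w, .v, .w, .w, .i, .o, .v, .o, .v, .w, .w, .o, .o, .w, .w, .w, .w, .w, .o, .o, .v, .w, .v, .v, .o, .w, .o, .i, .v, .i, .v, .v, .w, .i,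 .i, .w, .i, .o, .i, .o, .i, .o, .w, .v, .v, .o, .i, .w, .o, .v, .i, .i, .i, .w, .o, .i, .i, .i, .v, .i, .v, .w, .i, .o, .v, .w]⟩
def q38_54 : MatD 14 K4 := ⟨[.v, .i, .o, .o, .w, .o, .o, .o, .i, .w, .i, .v, .w, .v, .w, .i, .o, .o, .w, .o, .o, .o, .i, .v, .v, .v, .i, .i, .o, .o, .w, .i, .w, .w, .v, .v, .v, .i, .v, .i, .i, .w, .w, .o, .o, .o, .o, .o, .o, .v, .i, .v, .w, .v, .v, .i, .i, .v, .i, .v, .i, .w, .o, .i, .i, .o, .v, .v, .v, .i, .i, .o, .o, .o, .v, .o, .o, .v, .w, .w, .i, .o, .w, .v, .o, .o, .v, .w, .v, .v, .i, .i, .i, .v, .w, .w, .v, .i, .v, .w, .i, .o, .w, .w, .v, .i, .i, .i, .v, .i, .o, .i, .w, .i, .w, .i, .w, .v, .o, .w, .w, .v, .v, .i, .o, .w, .i, .w, .v, .o, .i, .v, .w, .i, .v, .o, .v, .o, .v, .w, .i, .o, .o, .o, .i, .o, .o, .i, .v, .o, .v, .w, .v, .v, .i, .v, .w, .o, .v, .v, .i, .w, .w, .i, .i,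 .w, .i, .o, .o, .o, .o, .o, .o, .o, .o, .i, .o, .w, .o, .v, .i, .i, .w, .v, .i, .o, .w, .i, .v, .w, .i, .w, .i, .o, .v, .w]⟩
def q38_55 : MatD 14 K4 := ⟨[.o, .w, .v, .i, .o, .o, .i, .v, .i, .o, .o, .i, .v, .v, .i, .o, .o, .i, .o, .w, .v, .o, .i, .o, .o, .w, .o, .i, .i, .v, .v, .i, .o, .o, .o, .v, .v, .o, .o, .o, .v, .w, .v, .v, .i, .o, .w, .w, .v, .v, .i, .w, .i, .w, .i, .i, .w, .w, .o, .w, .o, .w, .v, .o, .i, .o, .o, .w, .w, .i, .v, .i, .v, .v, .w, .o, .o, .v, .w, .w, .i, .o, .i, .v, .o, .i, .i, .v, .i, .w, .w, .v, .i, .o, .i, .v, .v, .i, .w, .w, .o, .w, .o, .o, .o, .o, .i, .o, .o, .o, .w, .i, .o, .o, .i, .i, .w, .w, .i, .v, .w, .w, .w, .v, .v, .w, .i, .v, .v, .i, .o, .o, .i, .v, .v, .o, .o, .i, .v, .w, .i, .i, .i, .w, .w, .o, .w, .v, .v, .w, .i, .i, .v, .v, .o, .w, .v, .i, .w, .w, .w, .v, .w, .w, .w, .v,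 .v, .o, .i, .v, .v, .i, .w, .o, .i, .v, .o, .w, .i, .i, .v, .i, .o, .w, .w, .v, .i, .o, .v, .o, .i, .o, .i, .o, .o, .w]⟩
def q38_56 : MatD 14 K4 := ⟨[.v, .w, .o, .w, .o, .i, .o, .o, .w, .o, .o, .i, .v, .v, .i, .i, .o, .o, .o, .o, .i, .o, .o, .o, .o, .w, .o, .i, .w, .w, .o, .i, .o, .o, .o, .o, .i, .o, .o, .o, .v, .w, .w, .v, .i, .i, .i, .o, .i, .w, .o, .w, .i, .w, .i, .i, .o, .i, .i, .o, .o, .o, .i, .w, .o, .o, .o, .w, .w, .i, .w, .v, .i, .i, .i, .o, .o, .w, .i, .w, .i, .o, .i, .v, .v, .v, .o, .i, .o, .i, .i, .o, .o, .o, .i, .v, .v, .i, .o, .i, .i, .o, .o, .o, .o, .w, .o, .o, .o, .o, .w, .i, .v, .i, .v, .w, .w, .i, .w, .o, .o, .w, .w, .v, .v, .w, .w, .w, .o, .i, .o, .i, .o, .o, .i, .o, .o, .i, .v, .w, .w, .i, .v, .i, .i, .i, .v, .o, .o, .w, .i, .i, .v, .v, .v, .i, .v, .w, .w, .i, .i, .o, .w, .w, .w, .v, .v,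 .o, .w, .i, .v, .i, .i, .i, .o, .o, .i, .w, .i, .i, .v, .i, .o, .o, .o, .w, .o, .o, .v, .o, .v, .o, .i, .o, .o, .w]⟩
def q38_57 : MatD 14 K4 := ⟨[.w, .i, .o, .o, .o, .o, .o, .v, .w, .o, .o, .i, .i, .v, .i, .o, .o, .o, .o, .o, .o, .o, .o, .w, .i, .o, .o, .i, .w, .o, .o, .o, .o, .o, .o, .v, .i, .o, .o, .o, .v, .w, .o, .o, .o, .o, .o, .o, .o, .o, .o, .o, .o, .o, .w, .i, .o, .o, .o, .o, .o, .o, .o, .o, .o, .w, .i, .o, .w, .i, .w, .o, .o, .o, .o, .w, .i, .v, .i, .o, .o, .w, .i, .v, .o, .o, .o, .o, .o, .o, .o, .o, .o, .o, .o, .i, .w, .i, .w, .w, .w, .i, .o, .w, .i, .v, .o, .w, .i, .w, .i, .i, .o, .o, .o, .o, .o, .o, .o, .o, .o, .o, .o, .o, .w, .w, .v, .o, .o, .o, .i, .o, .o, .v, .i, .w, .o, .i, .i, .w, .o, .o, .o, .o, .o, .o, .o, .o, .o, .w, .w, .o, .o, .v, .w, .i, .o, .o, .o, .w, .w, .v, .w, .w, .i, .w, .i, .o,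 .o, .v, .w, .w, .i, .o, .v, .o, .i, .o, .w, .o, .o, .i, .v, .o, .o, .o, .o, .o, .o, .v, .v, .w, .w, .i, .i, .w]⟩
def q38_58 : MatD 14 K4 := ⟨[.w, .i, .w, .i, .o, .v, .o, .i, .i, .o, .o, .v, .o, .o, .i, .i, .o, .o, .w, .o, .o, .v, .o, .i, .w, .o, .v, .i, .w, .o, .w, .i, .w, .v, .o, .w, .i, .v, .w, .v, .i, .o, .w, .o, .o, .o, .o, .o, .o, .v, .i, .v, .w, .v, .i, .o, .i, .v, .i, .v, .i, .i, .w, .o, .v, .v, .i, .w, .v, .o, .o, .o, .o, .o, .v, .o, .o, .w, .o, .i, .v, .o, .w, .o, .v, .o, .v, .w, .v, .i, .o, .v, .w, .o, .o, .i, .o, .o, .o, .i, .i, .o, .o, .o, .o, .w, .o, .o, .o, .o, .w, .i, .o, .i, .w, .i, .w, .w, .v, .v, .o, .i, .w, .o, .v, .i, .o, .v, .v, .o, .o, .w, .o, .w, .o, .o, .o, .w, .w, .v, .w, .v, .i, .v, .o, .i, .w, .v, .v, .o, .o, .o, .w, .v, .o, .w, .w, .o, .v, .o, .o, .i, .o, .w, .v, .o, .i, .w, .o,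 .i, .i, .o, .o, .o, .o, .v, .o, .o, .o, .o, .v, .i, .v, .o, .v, .i, .o, .o, .o, .w, .i, .o, .o, .o, .o, .o]⟩
def q38_59 : MatD 14 K4 := ⟨[.w, .i, .i, .v, .o, .o, .v, .i, .i, .o, .o, .v, .o, .o, .w, .v, .o, .w, .i, .o, .o, .o, .i, .i, .w, .o, .v, .i, .v, .i, .v, .v, .v, .o, .v, .v, .i, .v, .w, .v, .i, .o, .v, .i, .o, .w, .i, .v, .v, .w, .i, .v, .w, .v, .i, .o, .w, .o, .v, .i, .v, .v, .o, .v, .v, .v, .i, .w, .v, .o, .w, .w, .o, .w, .i, .o, .o, .o, .o, .i, .v, .o, .w, .o, .v, .o, .v, .v, .v, .o, .i, .v, .w, .o, .o, .i, .o, .o, .w, .w, .o, .w, .o, .o, .o, .o, .i, .o, .o, .o, .w, .i, .v, .v, .v, .w, .i, .w, .v, .o, .i, .i, .w, .o, .v, .i, .w, .w, .o, .w, .o, .o, .w, .o, .v, .o, .o, .w, .w, .v, .o, .w, .i, .o, .o, .i, .w, .i, .o, .o, .o, .o, .w, .v, .i, .i, .o, .i, .w, .o, .o, .o, .w, .w, .v, .o, .i, .w, .v, .v,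 .o, .v, .o, .o, .o, .o, .i, .o, .o, .o, .v, .i, .v, .o, .w, .v, .o, .o, .o, .w, .i, .o, .o, .o, .o, .o]⟩
def q38_60 : MatD 14 K4 := ⟨[.w, .v, .o, .v, .o, .v, .i, .o, .i, .o, .w, .o, .o, .o, .o, .o, .w, .w, .o, .i, .v, .i, .i, .i, .i, .i, .o, .i, .o, .o, .i, .i, .i, .o, .i, .o, .i, .o, .o, .o, .o, .o, .o, .o, .i, .o, .i, .o, .i, .o, .i, .o, .o, .o, .o, .o, .o, .o, .i, .w, .v, .o, .i, .o, .v, .o, .o, .o, .o, .o, .v, .v, .v, .i, .v, .v, .o, .o, .o, .o, .v, .o, .o, .o, .v, .v, .w, .v, .w, .v, .w, .o, .w, .o, .v, .o, .o, .o, .v, .w, .i, .o, .w, .w, .v, .i, .i, .i, .v, .i, .o, .i, .i, .i, .o, .i, .i, .i, .o, .i, .i, .i, .i, .i, .o, .i, .v, .i, .v, .i, .w, .w, .o, .i, .v, .v, .w, .i, .o, .v, .i, .v, .v, .i, .w, .i, .i, .i, .o, .v, .v, .i, .o, .v, .w, .o, .v, .i, .v, .o, .i, .i, .w, .i, .w, .w, .o, .w, .w, .v, .w,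 .i, .i, .o, .v, .v, .i, .w, .v, .i, .i, .i, .o, .v, .i, .o, .v, .o, .w, .w, .i, .i, .w, .v, .i, .o]⟩
def q38_61 : MatD 14 K4 := ⟨[.w, .v, .w, .v, .w, .v, .i, .o, .i, .o, .w, .o, .o, .o, .o, .i, .w, .w, .o, .o, .w, .i, .o, .i, .i, .i, .o, .i, .o, .o, .i, .o, .i, .o, .i, .o, .i, .o, .o, .o, .o, .o, .o, .o, .i, .i, .i, .o, .i, .o, .i, .o, .o, .o, .o, .o, .o, .o, .i, .i, .v, .o, .i, .o, .v, .o, .o, .o, .o, .o, .v, .v, .o, .i, .o, .v, .o, .o, .o, .o, .v, .o, .o, .o, .v, .v, .i, .i, .i, .v, .w, .o, .w, .o, .v, .o, .o, .o, .v, .v, .w, .i, .o, .v, .w, .i, .o, .i, .v, .i, .o, .i, .i, .o, .i, .i, .i, .o, .i, .i, .o, .i, .i, .i, .o, .i, .v, .w, .w, .v, .v, .v, .i, .i, .o, .v, .w, .i, .o, .v, .i, .o, .o, .o, .w, .o, .o, .i, .v, .v, .v, .i, .o, .v, .w, .w, .w, .v, .o, .w, .v, .i, .o, .i, .w, .w, .o, .w, .v, .v, .v, .i,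 .o, .i, .w, .w, .o, .w, .v, .i, .i, .i, .i, .w, .w, .v, .o, .v, .i, .v, .i, .i, .w, .v, .i, .o]⟩
def q38_62 : MatD 14 K4 := ⟨[.w, .i, .o, .v, .w, .o, .v, .o, .i, .o, .o, .v, .o, .o, .i, .v, .o, .o, .o, .o, .v, .o, .o, .w, .o, .v, .w, .i, .v, .i, .o, .w, .i, .v, .v, .w, .i, .v, .w, .v, .i, .o, .v, .i, .v, .v, .v, .o, .v, .v, .i, .v, .w, .v, .i, .o, .w, .o, .i, .w, .w, .i, .o, .o, .v, .v, .i, .w, .v, .o, .w, .w, .w, .w, .w, .o, .o, .w, .o, .i, .v, .o, .w, .o, .v, .o, .o, .i, .v, .i, .i, .v, .w, .o, .o, .i, .o, .o, .i, .w, .v, .i, .i, .v, .v, .o, .o, .v, .w, .v, .v, .i, .o, .v, .w, .o, .o, .w, .o, .o, .o, .w, .o, .v, .w, .i, .o, .i, .o, .v, .w, .v, .w, .w, .o, .v, .i, .o, .i, .v, .w, .i, .v, .w, .w, .o, .w, .v, .v, .v, .i, .w, .i, .v, .o, .i, .i, .o, .o, .i, .i, .o, .o, .v, .o, .i, .v, .w, .i, .w, .w, .i, .i,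 .o, .v, .w, .o, .i, .w, .v, .w, .i, .w, .o, .o, .v, .w, .i, .v, .v, .i, .o, .o, .o, .o, .o]⟩
def q38_63 : MatD 14 K4 := ⟨[.i, .i, .o, .v, .i, .o, .v, .o, .w, .o, .o, .o, .o, .o, .w, .v, .w, .v, .v, .w, .w, .o, .v, .o, .v, .o, .o, .o, .o, .o, .i, .o, .i, .o, .i, .o, .i, .o, .o, .o, .o, .o, .v, .v, .v, .i, .i, .v, .v, .i, .i, .i, .v, .i, .o, .i, .w, .w, .w, .v, .w, .w, .w, .o, .w, .o, .w, .o, .o, .o, .o, .o, .i, .w, .w, .o, .i, .o, .w, .o, .o, .o, .o, .o, .v, .i, .o, .o, .o, .v, .i, .i, .i, .w, .i, .i, .o, .w, .o, .o, .o, .i, .o, .o, .o, .o, .o, .o, .o, .o, .o, .o, .w, .i, .i, .w, .w, .i, .i, .o, .v, .i, .o, .v, .i, .w, .o, .o, .i, .w, .i, .o, .v, .o, .v, .o, .o, .o, .o, .o, .i, .v, .v, .i, .v, .v, .v, .i, .o, .i, .i, .v, .o, .v, .v, .v, .w, .v, .v, .w, .i, .o, .w, .o, .i, .o, .o, .o, .o, .o, .i, .o, .w, .o,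 .v, .o, .i, .o, .o, .o, .o, .o, .i, .i, .o, .i, .w, .v, .o, .i, .i, .w, .w, .v, .o, .i]⟩
def q38_64 : MatD 14 K4 := ⟨[.i, .i, .i, .i, .i, .o, .v, .o, .w, .o, .o, .o, .o, .o, .w, .v, .o, .i, .o, .w, .w, .o, .v, .o, .v, .o, .o, .o, .o, .o, .i, .i, .i, .o, .i, .o, .i, .o, .o, .o, .o, .o, .v, .w, .o, .i, .v, .w, .w, .i, .o, .i, .v, .i, .o, .i, .w, .w, .o, .i, .o, .w, .w, .o, .w, .o, .w, .o, .o, .o, .o, .o, .i, .o, .w, .o, .i, .o, .w, .o, .o, .o, .o, .o, .v, .v, .o, .i, .v, .w, .o, .i, .v, .w, .i, .i, .o, .w, .o, .o, .o, .i, .o, .o, .o, .o, .o, .o, .o, .o, .o, .o, .v, .w, .o, .i, .v, .w, .w, .i, .i, .i, .o, .v, .i, .w, .o, .o, .i, .i, .i, .o, .v, .o, .v, .o, .o, .o, .o, .o, .i, .o, .o, .o, .v, .o, .o, .i, .v, .i, .i, .v, .o, .v, .v, .v, .i, .i, .w, .w, .i, .o, .w, .o, .i, .o, .o, .o, .o, .o, .i, .i, .w, .o, .v,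 .o, .i, .o, .o, .o, .o, .o, .i, .o, .i, .i, .w, .o, .v, .i, .o, .w, .w, .v, .o, .i]⟩
def q38_65 : MatD 14 K4 := ⟨[.o, .i, .o, .v, .o, .w, .o, .o, .w, .o, .v, .i, .w, .o, .i, .v, .w, .w, .o, .i, .v, .o, .v, .w, .w, .w, .i, .o, .v, .i, .v, .v, .v, .o, .v, .v, .i, .v, .w, .v, .i, .o, .i, .v, .v, .i, .v, .o, .v, .v, .o, .v, .w, .v, .v, .i, .o, .v, .i, .o, .w, .o, .i, .i, .w, .w, .i, .i, .v, .o, .i, .v, .v, .o, .v, .i, .w, .v, .w, .v, .v, .i, .w, .o, .i, .w, .i, .o, .i, .i, .v, .i, .v, .i, .w, .o, .v, .w, .o, .o, .v, .i, .w, .v, .o, .i, .o, .o, .o, .o, .o, .o, .o, .v, .o, .w, .v, .i, .w, .w, .i, .i, .o, .v, .o, .w, .w, .v, .w, .o, .v, .i, .w, .i, .v, .w, .i, .w, .v, .o, .v, .w, .w, .o, .v, .w, .w, .i, .v, .w, .v, .o, .v, .v, .o, .w, .v, .o, .v, .o, .w, .w, .w, .w, .w, .i, .i, .o, .v, .w, .w, .i, .v, .o, .i, .i,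 .i, .w, .w, .v, .i, .o, .v, .i, .v, .i, .i, .o, .w, .w, .o, .v, .v, .i, .v, .i]⟩
def q38_66 : MatD 14 K4 := ⟨[.w, .v, .w, .w, .v, .v, .i, .w, .w, .o, .v, .i, .w, .o, .o, .w, .w, .w, .o, .v, .i, .i, .v, .w, .w, .w, .i, .o, .w, .o, .w, .i, .w, .v, .o, .w, .i, .v, .w, .v, .i, .o, .w, .i, .v, .i, .w, .v, .o, .o, .i, .v, .w, .v, .v, .i, .v, .o, .v, .w, .i, .i, .o, .w, .w, .w, .i, .i, .v, .o, .v, .i, .v, .w, .v, .o, .v, .i, .w, .v, .v, .i, .w, .o, .w, .v, .o, .i, .w, .i, .v, .w, .i, .i, .w, .o, .v, .w, .o, .o, .w, .i, .w, .v, .o, .i, .o, .o, .o, .o, .o, .o, .o, .i, .o, .w, .w, .w, .i, .w, .v, .i, .o, .v, .o, .w, .i, .o, .w, .i, .o, .v, .o, .w, .v, .w, .i, .w, .v, .o, .o, .w, .o, .w, .w, .w, .w, .w, .o, .w, .v, .o, .v, .v, .i, .v, .o, .i, .v, .i, .v, .v, .w, .w, .w, .i, .i, .o, .w, .v, .i, .o, .v, .v, .w, .o, .i,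 .w, .w, .v, .i, .o, .o, .v, .o, .i, .i, .i, .v, .i, .i, .v, .v, .i, .v, .i]⟩
def q38_67 : MatD 14 K4 := ⟨[.v, .i, .w, .i, .o, .w, .w, .v, .w, .o, .o, .o, .o, .o, .v, .i, .v, .v, .w, .o, .o, .w, .v, .v, .v, .o, .o, .o, .i, .o, .i, .o, .v, .w, .w, .i, .i, .o, .o, .o, .o, .o, .v, .w, .v, .i, .v, .o, .v, .w, .i, .w, .i, .w, .i, .i, .i, .v, .o, .w, .i, .w, .v, .i, .w, .w, .w, .o, .o, .o, .w, .o, .v, .v, .i, .o, .o, .w, .w, .o, .o, .o, .o, .o, .i, .v, .w, .i, .o, .v, .v, .w, .i, .v, .w, .o, .w, .w, .o, .o, .i, .i, .o, .o, .o, .o, .o, .o, .o, .o, .o, .o, .w, .o, .v, .v, .w, .v, .w, .o, .v, .v, .v, .w, .v, .w, .v, .o, .w, .w, .o, .i, .i, .v, .v, .o, .o, .o, .o, .o, .o, .w, .i, .o, .o, .w, .i, .w, .o, .o, .o, .i, .v, .v, .w, .o, .i, .i, .v, .o, .o, .w, .w, .i, .i, .o, .o, .o, .i, .o, .v, .v, .o, .o, .o, .i, .i, .o,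 .o, .o, .o, .o, .i, .v, .i, .v, .o, .o, .o, .w, .i, .o, .o, .o, .i, .i]⟩
def q38_68 : MatD 14 K4 := ⟨[.o, .v, .w, .v, .o, .i, .w, .v, .v, .o, .o, .w, .v, .w, .o, .i, .i, .v, .v, .o, .v, .w, .w, .i, .v, .i, .o, .v, .w, .w, .o, .i, .o, .o, .o, .o, .i, .o, .o, .o, .v, .w, .w, .v, .i, .i, .o, .o, .o, .w, .i, .o, .o, .o, .i, .v, .w, .i, .v, .i, .v, .o, .o, .i, .i, .i, .v, .o, .w, .i, .i, .v, .w, .v, .o, .o, .w, .v, .v, .o, .o, .v, .i, .v, .v, .w, .i, .w, .o, .w, .w, .w, .w, .o, .o, .i, .v, .w, .o, .i, .i, .o, .i, .o, .i, .w, .i, .w, .i, .w, .w, .v, .w, .o, .v, .w, .w, .v, .v, .o, .v, .v, .w, .w, .v, .v, .o, .i, .i, .w, .i, .v, .i, .w, .v, .w, .w, .i, .v, .v, .i, .v, .v, .i, .v, .w, .v, .w, .o, .w, .o, .v, .v, .o, .v, .o, .o, .o, .o, .v, .i, .w, .i, .o, .o, .v, .v, .i, .o, .v, .v, .i, .o, .w, .v, .o, .i, .i, .w,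 .w, .v, .w, .v, .w, .w, .v, .o, .i, .w, .w, .w, .v, .i, .i, .o, .w]⟩
def q38_69 : MatD 14 K4 := ⟨[.v, .w, .o, .w, .o, .v, .o, .o, .i, .o, .o, .w, .v, .w, .o, .w, .o, .v, .i, .i, .w, .w, .i, .i, .v, .i, .o, .v, .i, .v, .v, .i, .o, .o, .o, .v, .v, .o, .o, .o, .v, .w, .v, .i, .v, .v, .o, .o, .o, .v, .w, .o, .o, .o, .i, .v, .o, .w, .v, .o, .i, .o, .o, .v, .o, .i, .v, .o, .w, .i, .o, .i, .w, .o, .o, .v, .i, .w, .o, .o, .o, .v, .i, .v, .o, .v, .i, .o, .o, .v, .v, .i, .o, .o, .o, .i, .v, .w, .w, .o, .w, .i, .w, .w, .v, .o, .w, .w, .i, .w, .w, .v, .i, .o, .i, .v, .v, .i, .i, .v, .o, .v, .w, .w, .v, .v, .v, .i, .v, .o, .i, .w, .o, .i, .o, .w, .w, .i, .v, .v, .w, .o, .v, .o, .i, .i, .o, .i, .o, .w, .o, .v, .v, .o, .o, .w, .v, .o, .o, .o, .w, .i, .o, .o, .o, .v, .v, .i, .v, .w, .w, .w, .v, .o, .i, .v, .v, .i, .w, .w,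 .v, .w, .v, .o, .i, .w, .w, .o, .v, .w, .o, .v, .i, .i, .o, .w]⟩
def q38_70 : MatD 14 K4 := ⟨[.i, .o, .o, .v, .v, .i, .o, .i, .i, .i, .o, .w, .o, .w, .w, .i, .w, .w, .w, .v, .v, .o, .i, .w, .w, .v, .v, .v, .o, .o, .w, .i, .w, .w, .v, .v, .v, .i, .v, .i, .i, .w, .v, .w, .v, .i, .o, .o, .o, .w, .w, .o, .o, .o, .i, .v, .v, .o, .v, .w, .i, .v, .i, .v, .o, .v, .w, .w, .v, .i, .w, .i, .v, .w, .v, .w, .w, .o, .o, .v, .v, .w, .w, .v, .w, .v, .o, .i, .i, .v, .i, .v, .o, .v, .w, .w, .o, .w, .w, .o, .w, .i, .w, .w, .v, .o, .w, .w, .i, .w, .w, .v, .i, .v, .v, .v, .v, .i, .w, .o, .o, .w, .i, .v, .v, .v, .o, .o, .w, .i, .o, .w, .v, .o, .o, .w, .i, .o, .w, .v, .i, .o, .v, .o, .w, .w, .o, .i, .o, .v, .o, .v, .w, .o, .i, .w, .v, .v, .v, .i, .v, .o, .o, .v, .i, .i, .i, .i, .v, .o, .v, .i, .v, .v, .w, .o, .v, .v, .i, .v, .v,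 .w, .v, .w, .o, .w, .w, .w, .i, .w, .o, .w, .v, .w, .o, .w]⟩
def q38_71 : MatD 14 K4 := ⟨[.i, .w, .w, .i, .w, .v, .w, .i, .v, .i, .o, .w, .o, .w, .i, .i, .o, .o, .w, .o, .o, .v, .w, .w, .w, .v, .v, .v, .i, .v, .w, .i, .o, .v, .w, .w, .i, .i, .v, .i, .i, .w, .w, .o, .o, .o, .o, .o, .o, .v, .i, .o, .o, .o, .i, .v, .o, .w, .i, .v, .o, .i, .v, .o, .i, .v, .w, .w, .v, .i, .o, .o, .o, .o, .v, .o, .o, .w, .v, .v, .v, .w, .w, .v, .w, .i, .v, .w, .o, .i, .v, .v, .w, .v, .w, .w, .o, .w, .o, .i, .i, .o, .i, .o, .i, .w, .i, .w, .i, .w, .w, .v, .w, .v, .w, .i, .o, .w, .i, .v, .v, .w, .i, .v, .v, .v, .w, .i, .v, .o, .v, .w, .v, .w, .v, .w, .i, .o, .w, .v, .v, .w, .i, .v, .i, .i, .v, .v, .o, .v, .o, .v, .w, .o, .o, .w, .w, .o, .i, .o, .w, .i, .i, .v, .i, .i, .i, .i, .o, .i, .i, .o, .i, .o, .i, .v, .i, .v, .i, .v, .v, .w,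 .v, .o, .v, .i, .v, .o, .v, .w, .w, .w, .v, .w, .o, .w]⟩
def q38_72 : MatD 14 K4 := ⟨[.w, .w, .i, .v, .o, .w, .i, .i, .v, .i, .v, .v, .i, .w, .i, .i, .o, .o, .w, .o, .o, .v, .w, .w, .w, .v, .v, .v, .i, .v, .w, .i, .o, .v, .w, .w, .i, .i, .v, .i, .i, .w, .o, .i, .i, .o, .i, .o, .i, .w, .i, .w, .i, .w, .w, .v, .o, .o, .o, .o, .i, .o, .o, .v, .i, .i, .i, .v, .v, .i, .o, .i, .v, .w, .o, .v, .w, .o, .v, .w, .i, .i, .w, .v, .i, .v, .w, .o, .w, .i, .w, .i, .w, .i, .v, .o, .i, .w, .w, .o, .o, .o, .o, .o, .o, .v, .i, .o, .o, .o, .i, .v, .o, .v, .v, .o, .v, .o, .v, .o, .v, .o, .v, .o, .o, .v, .v, .w, .i, .v, .o, .w, .i, .i, .v, .i, .v, .v, .o, .v, .o, .v, .v, .o, .o, .o, .v, .v, .o, .v, .o, .v, .v, .o, .w, .v, .w, .i, .v, .w, .i, .w, .i, .i, .w, .o, .w, .i, .i, .v, .w, .i, .o, .w, .i, .w, .i, .w, .i, .v, .i, .w, .w,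 .o, .w, .w, .o, .w, .w, .w, .w, .w, .w, .o, .w, .w]⟩
def q38_73 : MatD 14 K4 := ⟨[.i, .o, .i, .i, .o, .w, .v, .o, .o, .o, .o, .o, .o, .o, .o, .i, .o, .v, .v, .i, .o, .i, .o, .o, .o, .o, .o, .o, .o, .o, .i, .o, .o, .o, .o, .o, .o, .o, .o, .o, .o, .o, .o, .o, .i, .i, .o, .o, .o, .o, .o, .o, .o, .o, .o, .o, .o, .o, .w, .v, .i, .o, .o, .o, .o, .o, .o, .o, .o, .o, .o, .o, .i, .w, .o, .i, .o, .o, .o, .o, .o, .o, .o, .o, .o, .o, .w, .v, .o, .i, .i, .o, .o, .o, .o, .o, .o, .o, .o, .o, .w, .i, .w, .v, .o, .i, .o, .o, .o, .o, .o, .o, .i, .o, .w, .v, .i, .i, .i, .i, .i, .o, .o, .o, .o, .o, .o, .v, .w, .v, .i, .i, .w, .w, .o, .i, .o, .o, .o, .o, .w, .i, .o, .o, .o, .w, .v, .w, .v, .i, .i, .o, .o, .o, .i, .o, .w, .v, .o, .i, .i, .v, .w, .o, .o, .i, .o, .o, .w, .i, .o, .v, .v, .v, .v, .v, .i, .i, .w, .v, .i, .o, .o, .o,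 .w, .v, .i, .i, .i, .w, .v, .w, .v, .i, .i, .i]⟩
def q38_74 : MatD 14 K4 := ⟨[.i, .o, .o, .o, .o, .w, .v, .o, .o, .o, .o, .o, .o, .o, .o, .i, .i, .w, .v, .i, .o, .i, .o, .o, .o, .o, .o, .o, .o, .o, .i, .o, .o, .o, .o, .o, .o, .o, .o, .o, .o, .o, .o, .o, .i, .i, .o, .o, .o, .o, .o, .o, .o, .o, .o, .o, .o, .o, .w, .v, .i, .o, .o, .o, .o, .o, .o, .o, .o, .o, .o, .o, .i, .w, .o, .i, .o, .o, .o, .o, .o, .o, .o, .o, .o, .o, .w, .v, .o, .i, .i, .o, .o, .o, .o, .o, .o, .o, .o, .o, .v, .i, .w, .v, .o, .i, .o, .o, .o, .o, .o, .o, .i, .o, .w, .v, .i, .i, .i, .i, .i, .o, .o, .o, .o, .o, .o, .v, .o, .o, .o, .i, .w, .w, .o, .i, .o, .o, .o, .o, .w, .i, .o, .o, .o, .w, .v, .w, .v, .i, .i, .o, .o, .o, .i, .o, .o, .o, .o, .o, .o, .v, .w, .o, .o, .i, .o, .o, .v, .o, .o, .o, .o, .o, .o, .w, .i, .i, .w, .v, .i, .o, .i, .o, .o,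 .o, .o, .o, .o, .v, .w, .w, .v, .i, .i, .i]⟩
def q38_75 : MatD 14 K4 := ⟨[.i, .i, .i, .v, .i, .o, .v, .o, .o, .o, .o, .o, .o, .o, .o, .i, .w, .w, .i, .w, .o, .o, .o, .o, .o, .o, .o, .o, .o, .o, .i, .o, .o, .o, .o, .o, .o, .o, .o, .o, .o, .o, .o, .o, .w, .i, .w, .v, .o, .i, .o, .o, .o, .o, .o, .o, .o, .o, .w, .v, .o, .w, .o, .o, .o, .o, .o, .o, .o, .o, .o, .o, .i, .w, .v, .o, .o, .o, .o, .o, .o, .o, .o, .o, .o, .w, .i, .w, .v, .v, .i, .i, .o, .v, .o, .o, .o, .o, .o, .o, .o, .i, .o, .o, .o, .o, .o, .o, .o, .o, .o, .o, .w, .i, .v, .i, .o, .w, .v, .i, .i, .i, .w, .v, .i, .o, .o, .o, .i, .w, .o, .o, .w, .o, .o, .o, .o, .o, .o, .o, .w, .o, .o, .o, .o, .i, .w, .i, .v, .o, .o, .w, .o, .o, .i, .i, .v, .i, .w, .w, .v, .o, .w, .o, .v, .o, .o, .o, .o, .o, .i, .i, .v, .o, .w, .o, .i, .o, .o, .o, .o, .o, .w, .v, .w, .v,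 .o, .i, .w, .i, .w, .v, .i, .w, .o, .i]⟩
def q38_76 : MatD 14 K4 := ⟨[.i, .i, .o, .v, .i, .o, .v, .o, .o, .o, .o, .o, .o, .o, .o, .i, .w, .v, .i, .w, .o, .o, .o, .o, .o, .o, .o, .o, .o, .o, .i, .o, .o, .o, .o, .o, .o, .o, .o, .o, .o, .o, .o, .o, .v, .i, .w, .v, .o, .i, .o, .o, .o, .o, .o, .o, .o, .o, .w, .v, .o, .w, .o, .o, .o, .o, .o, .o, .o, .o, .o, .o, .i, .w, .v, .o, .o, .o, .o, .o, .o, .o, .o, .o, .o, .w, .o, .o, .o, .v, .i, .i, .o, .v, .o, .o, .o, .o, .o, .o, .o, .i, .o, .o, .o, .o, .o, .o, .o, .o, .o, .o, .v, .o, .i, .w, .v, .i, .o, .o, .i, .i, .w, .v, .i, .o, .o, .o, .i, .w, .o, .o, .w, .o, .o, .o, .o, .o, .o, .o, .w, .o, .v, .i, .o, .v, .o, .i, .v, .o, .o, .w, .o, .o, .i, .i, .w, .v, .i, .w, .v, .o, .w, .o, .v, .o, .o, .o, .o, .o, .i, .o, .v, .o, .w, .o, .i, .o, .o, .o, .o, .o, .w, .w, .o, .i, .w,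 .v, .o, .i, .v, .v, .i, .w, .o, .i]⟩
def q38_77 : MatD 14 K4 := ⟨[.i, .o, .i, .o, .o, .w, .v, .o, .o, .o, .o, .o, .o, .o, .o, .i, .w, .v, .i, .w, .o, .o, .o, .o, .o, .o, .o, .o, .o, .o, .i, .o, .o, .o, .o, .o, .o, .o, .o, .o, .o, .o, .o, .o, .o, .i, .o, .o, .o, .o, .o, .o, .o, .o, .o, .o, .o, .o, .w, .v, .i, .o, .o, .o, .o, .o, .o, .o, .o, .o, .o, .o, .i, .w, .o, .i, .o, .o, .o, .o, .o, .o, .o, .o, .o, .o, .v, .i, .o, .o, .i, .o, .o, .o, .o, .o, .o, .o, .o, .o, .v, .i, .w, .v, .o, .i, .o, .o, .o, .o, .o, .o, .o, .o, .i, .v, .v, .o, .w, .o, .i, .o, .o, .o, .o, .o, .o, .v, .o, .o, .o, .i, .w, .w, .o, .i, .o, .o, .o, .o, .w, .w, .w, .v, .i, .v, .i, .o, .v, .o, .i, .o, .o, .o, .i, .o, .i, .w, .o, .i, .o, .v, .w, .o, .o, .i, .o, .o, .v, .o, .v, .i, .w, .v, .o, .v, .i, .i, .w, .v, .i, .o, .w, .i, .v, .v, .i, .w,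 .o, .i, .v, .v, .i, .w, .o, .i]⟩
theorem s38_1 : (MatD.one : MatD 14 K4).mul (dlM D D (G24PJ2.dec 2)) = q38_1 := by decide +kernel
theorem s38_2 : (q38_1 : MatD 14 K4).mul (dlM D D (G24PJ2.dec 4)) = q38_2 := by decide +kernel
theorem s38_3 : (q38_2 : MatD 14 K4).mul (dlM D D (G24PJ2.dec 6)) = q38_3 := by decide +kernel
theorem s38_4 : (q38_3 : MatD 14 K4).mul (dlM D D (G24PJ2.dec 4)) = q38_4 := by decide +kernel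
theorem s38_5 : (q38_4 : MatD 14 K4).mul (dlM D D (G24PJ2.dec 6)) = q38_5 := by decide +kernel
theorem s38_6 : (q38_5 : MatD 14 K4).mul (dlM D D (G24PJ2.dec 2)) = q38_6 := by decide +kernel
theorem s38_7 : (q38_6 : MatD 14 K4).mul (dlM D D (G24PJ2.dec 4)) = q38_7 := by decide +kernel
theorem s38_8 : (q38_7 : MatD 14 K4).mul (dlM D D (G24PJ2.dec 6)) = q38_8 := by decide +kernel
theorem s38_9 : (q38_8 : MatD 14 K4).mul (dlM D D (G24PJ2.dec 4)) = q38_9 := by decide +kernel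
theorem s38_10 : (q38_9 : MatD 14 K4).mul (dlM D D (G24PJ2.dec 6)) = q38_10 := by decide +kernel
theorem s38_11 : (q38_10 : MatD 14 K4).mul (dlM D D (G24PJ2.dec 2)) = q38_11 := by decide +kernel
theorem s38_12 : (q38_11 : MatD 14 K4).mul (dlM D D (G24PJ2.dec 4)) = q38_12 := by decide +kernel
theorem s38_13 : (q38_12 : MatD 14 K4).mul (dlM D D (G24PJ2.dec 6)) = q38_13 := by decide +kernel
theorem s38_14 : (q38_13 : MatD 14 K4).mul (dlM D D (G24PJ2.dec 4)) = q38_14 := by decide +kernel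
theorem s38_15 : (q38_14 : MatD 14 K4).mul (dlM D D (G24PJ2.dec 6)) = q38_15 := by decide +kernel
theorem s38_16 : (q38_15 : MatD 14 K4).mul (dlM D D (G24PJ2.dec 2)) = q38_16 := by decide +kernel
theorem s38_17 : (q38_16 : MatD 14 K4).mul (dlM D D (G24PJ2.dec 4)) = q38_17 := by decide +kernel
theorem s38_18 : (q38_17 : MatD 14 K4).mul (dlM D D (G24PJ2.dec 6)) = q38_18 := by decide +kernel
theorem s38_19 : (q38_18 : MatD 14 K4).mul (dlM D D (G24PJ2.dec 4)) = q38_19 := by decide +kernel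
theorem s38_20 : (q38_19 : MatD 14 K4).mul (dlM D D (G24PJ2.dec 6)) = q38_20 := by decide +kernel
theorem s38_21 : (q38_20 : MatD 14 K4).mul (dlM D D (G24PJ2.dec 2)) = q38_21 := by decide +kernel
theorem s38_22 : (q38_21 : MatD 14 K4).mul (dlM D D (G24PJ2.dec 4)) = q38_22 := by decide +kernel
theorem s38_23 : (q38_22 : MatD 14 K4).mul (dlM D D (G24PJ2.dec 6)) = q38_23 := by decide +kernel
theorem s38_24 : (q38_23 : MatD 14 K4).mul (dlM D D (G24PJ2.dec 4)) = q38_24 := by decide +kernel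
theorem s38_25 : (q38_24 : MatD 14 K4).mul (dlM D D (G24PJ2.dec 6)) = q38_25 := by decide +kernel
theorem s38_26 : (q38_25 : MatD 14 K4).mul (dlM D D (G24PJ2.dec 8)) = q38_26 := by decide +kernel
theorem s38_27 : (q38_26 : MatD 14 K4).mul (dlM D D (G24PJ2.dec 2)) = q38_27 := by decide +kernel
theorem s38_28 : (q38_27 : MatD 14 K4).mul (dlM D D (G24PJ2.dec 4)) = q38_28 := by decide +kernel
theorem s38_29 : (q38_28 : MatD 14 K4).mul (dlM D D (G24PJ2.dec 6)) = q38_29 := by decide +kernel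
theorem s38_30 : (q38_29 : MatD 14 K4).mul (dlM D D (G24PJ2.dec 4)) = q38_30 := by decide +kernel
theorem s38_31 : (q38_30 : MatD 14 K4).mul (dlM D D (G24PJ2.dec 6)) = q38_31 := by decide +kernel
theorem s38_32 : (q38_31 : MatD 14 K4).mul (dlM D D (G24PJ2.dec 2)) = q38_32 := by decide +kernel
theorem s38_33 : (q38_32 : MatD 14 K4).mul (dlM D D (G24PJ2.dec 4)) = q38_33 := by decide +kernel
theorem s38_34 : (q38_33 : MatD 14 K4).mul (dlM D D (G24PJ2.dec 6)) = q38_34 := by decide +kernel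
theorem s38_35 : (q38_34 : MatD 14 K4).mul (dlM D D (G24PJ2.dec 4)) = q38_35 := by decide +kernel
theorem s38_36 : (q38_35 : MatD 14 K4).mul (dlM D D (G24PJ2.dec 6)) = q38_36 := by decide +kernel
theorem s38_37 : (q38_36 : MatD 14 K4).mul (dlM D D (G24PJ2.dec 2)) = q38_37 := by decide +kernel
theorem s38_38 : (q38_37 : MatD 14 K4).mul (dlM D D (G24PJ2.dec 4)) = q38_38 := by decide +kernel
theorem s38_39 : (q38_38 : MatD 14 K4).mul (dlM D D (G24PJ2.dec 6)) = q38_39 := by decide +kernel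
theorem s38_40 : (q38_39 : MatD 14 K4).mul (dlM D D (G24PJ2.dec 4)) = q38_40 := by decide +kernel
theorem s38_41 : (q38_40 : MatD 14 K4).mul (dlM D D (G24PJ2.dec 6)) = q38_41 := by decide +kernel
theorem s38_42 : (q38_41 : MatD 14 K4).mul (dlM D D (G24PJ2.dec 2)) = q38_42 := by decide +kernel
theorem s38_43 : (q38_42 : MatD 14 K4).mul (dlM D D (G24PJ2.dec 4)) = q38_43 := by decide +kernel
theorem s38_44 : (q38_43 : MatD 14 K4).mul (dlM D D (G24PJ2.dec 6)) = q38_44 := by decide +kernel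
theorem s38_45 : (q38_44 : MatD 14 K4).mul (dlM D D (G24PJ2.dec 4)) = q38_45 := by decide +kernel
theorem s38_46 : (q38_45 : MatD 14 K4).mul (dlM D D (G24PJ2.dec 6)) = q38_46 := by decide +kernel
theorem s38_47 : (q38_46 : MatD 14 K4).mul (dlM D D (G24PJ2.dec 2)) = q38_47 := by decide +kernel
theorem s38_48 : (q38_47 : MatD 14 K4).mul (dlM D D (G24PJ2.dec 4)) = q38_48 := by decide +kernel
theorem s38_49 : (q38_48 : MatD 14 K4).mul (dlM D D (G24PJ2.dec 6)) = q38_49 := by decide +kernel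
theorem s38_50 : (q38_49 : MatD 14 K4).mul (dlM D D (G24PJ2.dec 4)) = q38_50 := by decide +kernel
theorem s38_51 : (q38_50 : MatD 14 K4).mul (dlM D D (G24PJ2.dec 6)) = q38_51 := by decide +kernel
theorem s38_52 : (q38_51 : MatD 14 K4).mul (dlM D D (G24PJ2.dec 8)) = q38_52 := by decide +kernel
theorem s38_53 : (q38_52 : MatD 14 K4).mul (dlM D D (G24PJ2.dec 2)) = q38_53 := by decide +kernel
theorem s38_54 : (q38_53 : MatD 14 K4).mul (dlM D D (G24PJ2.dec 4)) = q38_54 := by decide +kernel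
theorem s38_55 : (q38_54 : MatD 14 K4).mul (dlM D D (G24PJ2.dec 6)) = q38_55 := by decide +kernel
theorem s38_56 : (q38_55 : MatD 14 K4).mul (dlM D D (G24PJ2.dec 4)) = q38_56 := by decide +kernel
theorem s38_57 : (q38_56 : MatD 14 K4).mul (dlM D D (G24PJ2.dec 6)) = q38_57 := by decide +kernel
theorem s38_58 : (q38_57 : MatD 14 K4).mul (dlM D D (G24PJ2.dec 2)) = q38_58 := by decide +kernel
theorem s38_59 : (q38_58 : MatD 14 K4).mul (dlM D D (G24PJ2.dec 4)) = q38_59 := by decide +kernel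
theorem s38_60 : (q38_59 : MatD 14 K4).mul (dlM D D (G24PJ2.dec 6)) = q38_60 := by decide +kernel
theorem s38_61 : (q38_60 : MatD 14 K4).mul (dlM D D (G24PJ2.dec 4)) = q38_61 := by decide +kernel
theorem s38_62 : (q38_61 : MatD 14 K4).mul (dlM D D (G24PJ2.dec 6)) = q38_62 := by decide +kernel
theorem s38_63 : (q38_62 : MatD 14 K4).mul (dlM D D (G24PJ2.dec 2)) = q38_63 := by decide +kernel
theorem s38_64 : (q38_63 : MatD 14 K4).mul (dlM D D (G24PJ2.dec 4)) = q38_64 := by decide +kernel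
theorem s38_65 : (q38_64 : MatD 14 K4).mul (dlM D D (G24PJ2.dec 6)) = q38_65 := by decide +kernel
theorem s38_66 : (q38_65 : MatD 14 K4).mul (dlM D D (G24PJ2.dec 4)) = q38_66 := by decide +kernel
theorem s38_67 : (q38_66 : MatD 14 K4).mul (dlM D D (G24PJ2.dec 6)) = q38_67 := by decide +kernel
theorem s38_68 : (q38_67 : MatD 14 K4).mul (dlM D D (G24PJ2.dec 2)) = q38_68 := by decide +kernel
theorem s38_69 : (q38_68 : MatD 14 K4).mul (dlM D D (G24PJ2.dec 4)) = q38_69 := by decide +kernel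
theorem s38_70 : (q38_69 : MatD 14 K4).mul (dlM D D (G24PJ2.dec 6)) = q38_70 := by decide +kernel
theorem s38_71 : (q38_70 : MatD 14 K4).mul (dlM D D (G24PJ2.dec 4)) = q38_71 := by decide +kernel
theorem s38_72 : (q38_71 : MatD 14 K4).mul (dlM D D (G24PJ2.dec 6)) = q38_72 := by decide +kernel
theorem s38_73 : (q38_72 : MatD 14 K4).mul (dlM D D (G24PJ2.dec 2)) = q38_73 := by decide +kernel
theorem s38_74 : (q38_73 : MatD 14 K4).mul (dlM D D (G24PJ2.dec 4)) = q38_74 := by decide +kernel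
theorem s38_75 : (q38_74 : MatD 14 K4).mul (dlM D D (G24PJ2.dec 6)) = q38_75 := by decide +kernel
theorem s38_76 : (q38_75 : MatD 14 K4).mul (dlM D D (G24PJ2.dec 4)) = q38_76 := by decide +kernel
theorem s38_77 : (q38_76 : MatD 14 K4).mul (dlM D D (G24PJ2.dec 6)) = q38_77 := by decide +kernel
theorem s38_78 : (q38_77 : MatD 14 K4).mul (dlM D D (G24PJ2.dec 8)) = MatD.one := by decide +kernel
theorem r38 : MatD.evM (dlM D D) (([8, 6, 4, 6, 4, 2, 6, 4, 6, 4, 2, 6, 4, 6, 4, 2, 6, 4, 6, 4, 2, 6, 4, 6, 4, 2, 8, 6, 4, 6, 4, 2, 6, 4, 6, 4, 2, 6, 4, 6, 4, 2, 6, 4, 6, 4, 2, 6, 4, 6, 4, 2, 8, 6, 4, 6, 4, 2, 6, 4, 6, 4, 2, 6, 4, 6, 4, 2, 6, 4, 6, 4, 2, 6, 4, 6, 4, 2] : List ℕ).map G24PJ2.dec) = MatD.one := by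
  refine evM_step s38_78 ?_
  refine evM_step s38_77 ?_
  refine evM_step s38_76 ?_
  refine evM_step s38_75 ?_
  refine evM_step s38_74 ?_
  refine evM_step s38_73 ?_
  refine evM_step s38_72 ?_
  refine evM_step s38_71 ?_
  refine evM_step s38_70 ?_
  refine evM_step s38_69 ?_
  refine evM_step s38_68 ?_
  refine evM_step s38_67 ?_
  refine evM_step s38_66 ?_
  refine evM_step s38_65 ?_
  refine evM_step s38_64 ?_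
  refine evM_step s38_63 ?_
  refine evM_step s38_62 ?_
  refine evM_step s38_61 ?_
  refine evM_step s38_60 ?_
  refine evM_step s38_59 ?_
  refine evM_step s38_58 ?_
  refine evM_step s38_57 ?_
  refine evM_step s38_56 ?_
  refine evM_step s38_55 ?_
  refine evM_step s38_54 ?_
  refine evM_step s38_53 ?_
  refine evM_step s38_52 ?_
  refine evM_step s38_51 ?_
  refine evM_step s38_50 ?_
  refine evM_step s38_49 ?_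
  refine evM_step s38_48 ?_
  refine evM_step s38_47 ?_
  refine evM_step s38_46 ?_
  refine evM_step s38_45 ?_
  refine evM_step s38_44 ?_
  refine evM_step s38_43 ?_
  refine evM_step s38_42 ?_
  refine evM_step s38_41 ?_
  refine evM_step s38_40 ?_
  refine evM_step s38_39 ?_
  refine evM_step s38_38 ?_
  refine evM_step s38_37 ?_
  refine evM_step s38_36 ?_
  refine evM_step s38_35 ?_
  refine evM_step s38_34 ?_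
  refine evM_step s38_33 ?_
  refine evM_step s38_32 ?_
  refine evM_step s38_31 ?_
  refine evM_step s38_30 ?_
  refine evM_step s38_29 ?_
  refine evM_step s38_28 ?_
  refine evM_step s38_27 ?_
  refine evM_step s38_26 ?_
  refine evM_step s38_25 ?_
  refine evM_step s38_24 ?_
  refine evM_step s38_23 ?_
  refine evM_step s38_22 ?_
  refine evM_step s38_21 ?_
  refine evM_step s38_20 ?_
  refine evM_step s38_19 ?_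
  refine evM_step s38_18 ?_
  refine evM_step s38_17 ?_
  refine evM_step s38_16 ?_
  refine evM_step s38_15 ?_
  refine evM_step s38_14 ?_
  refine evM_step s38_13 ?_
  refine evM_step s38_12 ?_
  refine evM_step s38_11 ?_
  refine evM_step s38_10 ?_
  refine evM_step s38_9 ?_
  refine evM_step s38_8 ?_
  refine evM_step s38_7 ?_
  refine evM_step s38_6 ?_
  refine evM_step s38_5 ?_
  refine evM_step s38_4 ?_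
  refine evM_step s38_3 ?_
  refine evM_step s38_2 ?_
  refine evM_step s38_1 ?_
  rfl

end Cfsg.Agent.Helper4.TC.G24Chk
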