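import Cfsg.Agent.Lib.Helper4.TC.G24PSX
import Cfsg.Agent.Lib.Helper4.TC.G24PXB
import Cfsg.Agent.Lib.Helper4.TC.G24PZ1B
import Cfsg.Agent.Lib.Helper4.TC.G24PZ2B
import Cfsg.Agent.Lib.Helper4.TC.G24PZ3B
import Cfsg.Agent.Lib.Helper4.TC.G24PZ4B
import Cfsg.Agent.Lib.Helper4.TC.G24PZ5B

set_option autoImplicit false
set_option maxRecDepth 100000
set_option linter.unusedVariables false

namespace Cfsg.Agent.Helper4.TC.G24PS

open Cfsg.Agent.Helper4.TC

abbrev dec := G24PCod.dec
abbrev Rset : Set (FreeGroup Cfsg.Agent.Helper4.Pres.G24.Gen) := Cfsg.Spor.coxRelators Cfsg.Agent.Helper4.Pres.G24.edges ∪ {r | r ∈ Cfsg.Agent.Helper4.Pres.G24.extra}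

theorem card4 : Finite (PresentedGroup (relSet dec G24PZ5.bases)) ∧ Nat.card (PresentedGroup (relSet dec G24PZ5.bases)) ≤ 2 := by
  refine stage_bot _ _ ?_ _ G24PZ5.bound
  rintro s ⟨b, hb, _⟩
  simp [G24PZ5.subsL] at hb

theorem card3 : Finite (PresentedGroup (relSet dec G24PZ4.bases)) ∧ Nat.card (PresentedGroup (relSet dec G24PZ4.bases)) ≤ 10 := by
  have h := stage_bound (relSet dec G24PZ4.bases) (relSet dec G24PZ5.bases) (relSet dec G24PZ4.subsL) G24PZ4.bases G24PZ5.bases G24PZ4.subsL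
    (fun x : Cfsg.Agent.Helper4.Pres.G24.Gen => decide (x ∈ ([.b] : List Cfsg.Agent.Helper4.Pres.G24.Gen))) (mem_relSet _) (fun r hr => hr) (fun s hs => hs) (by decide +kernel) (by decide +kernel) G24PZ4.n 2 G24PZ4.bound card4
  exact ⟨h.1, h.2.trans (by decide)⟩

theorem card2 : Finite (PresentedGroup (relSet dec G24PZ3.bases)) ∧ Nat.card (PresentedGroup (relSet dec G24PZ3.bases)) ≤ 20 := by
  have h := stage_bound (relSet dec G24PZ3.bases) (relSet dec G24PZ4.bases) (relSet dec G24PZ3.subsL) G24PZ3.bases G24PZ4.bases G24PZ3.subsL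
    (fun x : Cfsg.Agent.Helper4.Pres.G24.Gen => decide (x ∈ ([.a, .b] : List Cfsg.Agent.Helper4.Pres.G24.Gen))) (mem_relSet _) (fun r hr => hr) (fun s hs => hs) (by decide +kernel) (by decide +kernel) G24PZ3.n 10 G24PZ3.bound card3
  exact ⟨h.1, h.2.trans (by decide)⟩

theorem card1 : Finite (PresentedGroup (relSet dec G24PZ2.bases)) ∧ Nat.card (PresentedGroup (relSet dec G24PZ2.bases)) ≤ 2160 := by
  have h := stage_bound (relSet dec G24PZ2.bases) (relSet dec G24PZ3.bases) (relSet dec G24PZ2.subsL) G24PZ2.bases G24PZ3.bases G24PZ2.subsL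
    (fun x : Cfsg.Agent.Helper4.Pres.G24.Gen => decide (x ∈ ([.a, .b, .d] : List Cfsg.Agent.Helper4.Pres.G24.Gen))) (mem_relSet _) (fun r hr => hr) (fun s hs => hs) (by decide +kernel) (by decide +kernel) G24PZ2.n 20 G24PZ2.bound card2
  exact ⟨h.1, h.2.trans (by decide)⟩

theorem card0 : Finite (PresentedGroup (relSet dec G24PZ1.bases)) ∧ Nat.card (PresentedGroup (relSet dec G24PZ1.bases)) ≤ 604800 := by
  have h := stage_bound (relSet dec G24PZ1.bases) (relSet dec G24PZ2.bases) (relSet dec G24PZ1.subsL) G24PZ1.bases G24PZ2.bases G24PZ1.subsL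
    (fun x : Cfsg.Agent.Helper4.Pres.G24.Gen => decide (x ∈ ([.a, .b, .c, .d] : List Cfsg.Agent.Helper4.Pres.G24.Gen))) (mem_relSet _) (fun r hr => hr) (fun s hs => hs) (by decide +kernel) (by decide +kernel) G24PZ1.n 2160 G24PZ1.bound card1
  exact ⟨h.1, h.2.trans (by decide)⟩

theorem card_top : Finite (PresentedGroup Rset) ∧ Nat.card (PresentedGroup Rset) ≤ 251596800 := by
  have h := stage_bound Rset (relSet dec G24PZ1.bases) G24PJ2.Sset G24PJ2.bases G24PZ1.bases G24PJ2.subsL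
    (fun x : Cfsg.Agent.Helper4.Pres.G24.Gen => decide (x ∈ ([.a, .b, .c, .d, .e] : List Cfsg.Agent.Helper4.Pres.G24.Gen))) G24PJ2.hR2 (fun r hr => hr) G24PJ2.hS1 (by decide +kernel) (by decide +kernel) G24PJ2.n 604800 G24PJ2.bound card0
  exact ⟨h.1, h.2.trans (by decide)⟩

theorem cardX : Finite (PresentedGroup (relSet dec G24PX.bases)) ∧ Nat.card (PresentedGroup (relSet dec G24PX.bases)) ≤ 1 := by
  refine stage_bot _ _ ?_ _ G24PX.bound
  rintro s ⟨b, hb, _⟩
  simp [G24PX.subsL] at hb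

theorem hnc : Subgroup.normalClosure {PresentedGroup.mk Rset (wordF dec xw)} = ⊤ := by
  refine normalClosure_eq_top_of_trivial Rset (relSet dec G24PX.bases) (wordF dec xw) ?_ cardX
  rintro r ⟨b, hb, rfl⟩
  have hb' : b ∈ G24PJ2.bases ++ [xw] := (by decide : G24PX.bases = G24PJ2.bases ++ [xw]) ▸ hb
  rcases List.mem_append.mp hb' with h | h
  · exact Or.inl (G24PJ2.hR2 b h)
  · right
    rw [List.mem_singleton.mp h]

theorem hxp : ∀ j, j < G24PJ2.mdata.n → mtrace G24PJ2.mdata (wpow xw (13 ^ 1)) j = j := by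
  have e : wpow xw (13 ^ 1) = xpw := by decide
  rw [e]
  intro k hk
  have hk' : k < 416 := hk
  exact relsRange_sound G24PJ2.mdata [xpw] 416 0 xp_c0 k (by omega) (by omega) xpw List.mem_cons_self

instance : Fact (Nat.Prime 13) := ⟨by norm_num⟩

theorem main : IsSimpleGroup (PresentedGroup Rset) ∧ Nat.card (PresentedGroup Rset) = 251596800 := by
  refine simple_card_main G24PJ2.coding G24PJ2.hR1 G24PJ2.model_ok 251596800 card_top specs levels_ok ?_
    [(1, 316), (316, 416)] (by decide) ?_ (by decide) (by decide) 13 ?_ xw (by decide) 1 hxp hnc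
  · decide
  · intro r hr
    simp only [List.mem_cons, List.not_mem_nil, or_false] at hr
    rcases hr with rfl | rfl
    · exact G24PJ2.orb1
    · exact G24PJ2.orb2
  · exact factorization_eq_of _ _ 13 1 19353600 32 (by norm_num) (by norm_num [G24PJ2.mdata]) (by norm_num [G24PJ2.mdata]) (by norm_num) (by norm_num)

end Cfsg.Agent.Helper4.TC.G24PS
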