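import Cfsg.Agent.Lib.Helper4.TC.G24Mat
import Cfsg.Agent.Lib.Helper4.TC.G24PSMain
import Cfsg.Agent.Lib.Helper4.TC.Cover
import Cfsg.Agent.Lib.Helper4.TC.G24Chk
import Cfsg.Agent.S1059

set_option autoImplicit false
set_option maxRecDepth 100000
set_option maxHeartbeats 0
set_option linter.unusedVariables false
set_option linter.style.haveILetI false

/-! The presented group `Pres.G24` is isomorphic to the Chevalley group `G₂(4)`. -/

namespace Cfsg.Agent.Helper4.TC.G24Iso

open Cfsg.Agent.Helper4.TC Cfsg.Agent.Helper4.TC.G24Mat Cfsg.Agent.Lib.Helper6.FFour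

abbrev G2 : Subgroup (GL Idx K4) := Cfsg.Lie.chevG2.group K4

theorem hchk : ∀ b ∈ G24PJ2.bases, MatD.evM (dlM D D) (b.map G24PJ2.dec) = MatD.one :=
  G24Chk.hchk

theorem hneA : (D .a).toMatE eps ≠ 1 := by decide +kernel

theorem card_g2 : Nat.card G2 = 251596800 := by
  have h := Cfsg.Agent.S1059.result (F := K4) (q := 4) (by decide)
  exact h.trans (by norm_num)

/-- the isomorphism -/
theorem iso : Nonempty (PresentedGroup G24PS.Rset ≃* G2) := by
  haveI : IsSimpleGroup (PresentedGroup G24PS.Rset) := G24PS.main.1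
  haveI : Finite (PresentedGroup G24PS.Rset) := G24PS.card_top.1
  obtain ⟨φ, hφ⟩ := exists_hom_gl eps D D hinvD hinvD G24PS.Rset G24PJ2.dec G24PJ2.bases
    G24PJ2.hR1 hchk
  have hmem : φ.range ≤ G2 := by
    refine range_le_of_gens φ G2 fun x => ?_
    rw [hφ]
    exact glG_mem x
  let θ : PresentedGroup G24PS.Rset →* G2 := φ.codRestrict G2 fun p => hmem ⟨p, rfl⟩
  have hθ : θ (PresentedGroup.of .a) ≠ 1 := by
    intro h
    apply hneA
    have h1 : φ (PresentedGroup.of .a) = 1 := congrArg Subtype.val h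
    rw [hφ] at h1
    exact congrArg Units.val h1
  have hinj : Function.Injective θ := by
    rw [← MonoidHom.ker_eq_bot_iff]
    rcases IsSimpleGroup.eq_bot_or_eq_top_of_normal θ.ker inferInstance with h | h
    · exact h
    · exfalso
      apply hθ
      have : PresentedGroup.of .a ∈ θ.ker := by rw [h]; trivial
      exact this
  haveI : Finite G2 := Nat.finite_of_card_ne_zero (by rw [card_g2]; norm_num)
  have hbij : Function.Bijective θ := by
    rw [Nat.bijective_iff_injective_and_card]
    exact ⟨hinj, G24PS.main.2.trans card_g2.symm⟩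
  exact ⟨MulEquiv.ofBijective θ hbij⟩

end Cfsg.Agent.Helper4.TC.G24Iso
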