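import Cfsg.Agent.Lib.Helper4.TC.MatGL
import Cfsg.Agent.Lib.Helper4.TC.PresG24
import Cfsg.Agent.Lib.Helper6.FFour
import Cfsg.Prelude.Def_ChevG2

set_option autoImplicit false
set_option maxRecDepth 100000
set_option maxHeartbeats 0
set_option linter.unusedVariables false
set_option linter.style.haveILetI false

/-! Six explicit elements of the adjoint Chevalley group of type G₂ over the field with four
elements, as products of root elements. -/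

namespace Cfsg.Agent.Helper4.TC.G24Mat

open Cfsg.Agent.Helper4.TC Cfsg.Agent.Lib.Helper6.FFour Matrix

abbrev Idx : Type := Cfsg.Lie.chevG2.Idx

/-- numbering of the coordinates -/
def eps : Idx ≃ Fin 14 := (finSumFinEquiv : Fin 2 ⊕ Fin 12 ≃ Fin (2 + 12))

abbrev Gen := Cfsg.Agent.Helper4.Pres.G24.Gen

/-- the root elements used -/
def rootOf : Fin 13 → Fin 12 × K4
  | ⟨0, _⟩ => (⟨11, by decide⟩, .i)
  | ⟨1, _⟩ => (⟨8, by decide⟩, .w)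
  | ⟨2, _⟩ => (⟨7, by decide⟩, .w)
  | ⟨3, _⟩ => (⟨1, by decide⟩, .i)
  | ⟨4, _⟩ => (⟨0, by decide⟩, .w)
  | ⟨5, _⟩ => (⟨5, by decide⟩, .i)
  | ⟨6, _⟩ => (⟨1, by decide⟩, .v)
  | ⟨7, _⟩ => (⟨9, by decide⟩, .v)
  | ⟨8, _⟩ => (⟨9, by decide⟩, .i)
  | ⟨9, _⟩ => (⟨3, by decide⟩, .v)
  | ⟨10, _⟩ => (⟨0, by decide⟩, .v)
  | ⟨11, _⟩ => (⟨11, by decide⟩, .w)
  | ⟨12, _⟩ => (⟨0, by decide⟩, .i)

def x0 : MatD 14 K4 := ⟨[.i, .o, .i, .o, .o, .o, .o, .o, .o, .o, .o, .o, .o, .o, .o, .i, .o, .o, .o, .o, .o, .o, .o, .o, .o, .o, .o, .o, .o, .o, .i, .o, .o, .o, .o, .o, .o, .o, .o, .o, .o, .o, .o, .o, .o, .i, .o, .o, .o, .o, .o, .o, .o, .o, .o, .o, .o, .o, .o, .o, .i, .o, .o, .o, .o, .o, .o, .o, .o, .o, .o, .o, .o, .o, .o, .i, .o, .o, .o, .o, .o, .o, .o, .o, .o, .o, .o, .o, .o, .o, .i, .o, .o, .o, .o, .o, .o, .o, .o, .o, .o, .o,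 .o, .o, .o, .i, .o, .o, .o, .o, .o, .o, .o, .o, .o, .i, .o, .o, .o, .o, .i, .o, .o, .o, .o, .o, .o, .o, .o, .o, .o, .o, .o, .o, .o, .i, .o, .o, .o, .o, .o, .o, .o, .o, .i, .o, .o, .o, .o, .o, .i, .o, .o, .o, .o, .o, .o, .o, .o, .i, .o, .o, .o, .o, .o, .i, .o, .o, .o, .o, .o, .o, .o, .o, .o, .i, .o, .o, .o, .o, .i, .o, .o, .i, .i, .o, .o, .o, .o, .o, .o, .o, .o, .o, .o, .i]⟩
def x1 : MatD 14 K4 := ⟨[.i, .o, .o, .o, .o, .w, .o, .o, .o, .o, .o, .o, .o, .o, .o, .i, .o, .o, .o, .w, .o, .o, .o, .o, .o, .o, .o, .o, .o, .o, .i, .o, .o, .o, .o, .o, .o, .o, .o, .o, .o, .o, .o, .o, .o, .i, .o, .o, .o, .o, .o, .o, .o, .o, .o, .o, .o, .o, .w, .o, .i, .o, .o, .o, .o, .o, .o, .o, .o, .o, .o, .o, .o, .o, .o, .i, .o, .o, .o, .o, .o, .o, .o, .o, .o, .o, .v, .o, .o, .o, .i, .o, .o, .o, .o, .o, .o, .o, .o, .o, .o, .o, .o, .o, .o,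 .i, .o, .o, .o, .o, .o, .o, .o, .o, .i, .o, .v, .o, .w, .o, .i, .o, .o, .o, .o, .o, .o, .o, .o, .o, .o, .o, .o, .w, .o, .i, .o, .o, .o, .o, .w, .w, .o, .o, .o, .v, .o, .o, .o, .o, .i, .o, .o, .o, .o, .o, .o, .o, .o, .o, .o, .v, .o, .o, .o, .i, .o, .o, .o, .o, .o, .o, .o, .o, .o, .o, .o, .o, .o, .o, .i, .o, .o, .o, .o, .o, .o, .o, .o, .i, .o, .v, .o, .w, .o, .i]⟩
def x2 : MatD 14 K4 := ⟨[.i, .o, .o, .o, .o, .o, .w, .o, .o, .o, .o, .o, .o, .o, .o, .i, .o, .o, .o, .o, .o, .o, .o, .o, .o, .o, .o, .o, .o, .o, .i, .o, .o, .o, .o, .o, .o, .o, .o, .o, .o, .o, .o, .o, .o, .i, .o, .o, .o, .o, .o, .o, .o, .o, .o, .o, .o, .o, .o, .w, .i, .o, .o, .o, .o, .o, .o, .o, .o, .o, .o, .o, .o, .v, .o, .i, .o, .o, .o, .o, .o, .o, .o, .o, .o, .o, .o, .o, .o, .o, .i, .o, .o, .o, .o, .o, .o, .o, .o, .o, .o, .i, .v, .w, .o, .i, .o, .o,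 .o, .o, .o, .o, .o, .o, .o, .o, .o, .o, .o, .o, .i, .o, .o, .o, .o, .o, .o, .w, .o, .o, .o, .o, .v, .o, .o, .i, .o, .o, .o, .o, .o, .o, .o, .o, .o, .o, .o, .o, .w, .o, .i, .o, .o, .o, .o, .o, .o, .o, .o, .o, .o, .o, .v, .o, .o, .i, .o, .o, .o, .o, .o, .o, .o, .o, .o, .o, .i, .o, .v, .w, .i, .o, .o, .o, .o, .o, .o, .o, .o, .o, .o, .o, .o, .o, .o, .i]⟩
def x3 : MatD 14 K4 := ⟨[.i, .o, .o, .o, .o, .o, .o, .o, .o, .o, .o, .o, .i, .o, .o, .i, .o, .o, .o, .o, .o, .o, .o, .o, .o, .o, .i, .o, .o, .o, .i, .o, .o, .o, .o, .i, .o, .o, .o, .o, .o, .o, .i, .i, .o, .i, .o, .o, .o, .o, .o, .o, .o, .o, .i, .o, .o, .o, .o, .o, .i, .o, .o, .o, .o, .i, .o, .o, .o, .o, .o, .o, .o, .o, .o, .i, .o, .o, .o, .o, .o, .o, .o, .o, .o, .o, .o, .o, .o, .o, .i, .o, .o, .o, .o, .i, .o, .o, .o, .o, .o, .o, .o, .o, .o, .i, .o, .o, .o, .o, .o,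 .o, .o, .o, .o, .o, .o, .o, .o, .o, .i, .o, .o, .o, .o, .i, .o, .o, .o, .o, .o, .o, .o, .o, .o, .i, .o, .o, .o, .o, .o, .o, .o, .o, .o, .o, .o, .o, .o, .o, .i, .o, .o, .o, .o, .o, .o, .o, .o, .o, .o, .o, .o, .o, .o, .i, .o, .o, .o, .o, .o, .o, .o, .o, .o, .o, .o, .o, .o, .o, .i, .o, .o, .o, .o, .o, .o, .o, .o, .o, .o, .o, .o, .o, .o, .i]⟩
def x4 : MatD 14 K4 := ⟨[.i, .o, .o, .o, .o, .o, .o, .o, .o, .o, .o, .o, .o, .w, .o, .i, .o, .o, .o, .o, .o, .o, .o, .o, .o, .o, .o, .o, .o, .w, .i, .o, .o, .o, .o, .o, .o, .o, .o, .o, .o, .v, .o, .o, .o, .i, .o, .o, .o, .o, .w, .o, .o, .o, .o, .o, .o, .o, .o, .o, .i, .o, .o, .o, .o, .o, .w, .o, .o, .o, .o, .o, .o, .o, .o, .i, .o, .o, .o, .o, .o, .w, .o, .o, .o, .o, .o, .o, .o, .o, .i, .o, .o, .o, .o, .o, .o, .o, .o, .o, .o, .o, .o, .o, .o, .i, .o, .o, .o, .o, .w, .o, .o, .o,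 .o, .o, .o, .o, .o, .o, .i, .o, .o, .o, .o, .o, .o, .o, .o, .o, .o, .o, .o, .o, .o, .i, .o, .o, .o, .o, .o, .o, .o, .o, .o, .o, .o, .o, .o, .o, .i, .o, .o, .o, .o, .o, .o, .o, .o, .o, .o, .o, .o, .o, .o, .i, .o, .o, .o, .o, .o, .o, .o, .o, .o, .o, .o, .o, .o, .o, .i, .o, .o, .o, .o, .o, .o, .o, .o, .o, .o, .o, .o, .o, .o, .i]⟩
def x5 : MatD 14 K4 := ⟨[.i, .o, .o, .o, .o, .o, .o, .o, .o, .o, .o, .o, .o, .o, .o, .i, .o, .o, .o, .o, .o, .o, .i, .o, .o, .o, .o, .o, .o, .o, .i, .i, .o, .o, .o, .o, .o, .o, .o, .o, .o, .o, .o, .o, .o, .i, .o, .o, .o, .o, .o, .o, .o, .o, .o, .o, .o, .o, .o, .o, .i, .o, .o, .o, .o, .o, .o, .o, .o, .o, .o, .o, .o, .o, .o, .i, .i, .o, .o, .o, .o, .o, .o, .o, .o, .o, .o, .o, .o, .o, .i, .o, .o, .o, .o, .o, .o, .o, .i, .o, .o, .o, .o, .o, .o, .i, .i, .o, .o, .o, .o, .o, .o, .o, .o, .o, .o,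 .o, .o, .o, .i, .o, .o, .o, .o, .o, .o, .o, .o, .o, .o, .o, .o, .o, .o, .i, .i, .o, .o, .o, .o, .o, .o, .o, .o, .o, .o, .o, .o, .o, .i, .o, .o, .o, .o, .o, .o, .o, .o, .o, .o, .o, .o, .o, .o, .i, .o, .o, .o, .o, .o, .o, .o, .o, .o, .o, .o, .o, .o, .o, .i, .i, .o, .o, .o, .o, .o, .o, .o, .o, .o, .o, .o, .o, .o, .i]⟩
def x6 : MatD 14 K4 := ⟨[.i, .o, .o, .o, .o, .o, .o, .o, .o, .o, .o, .o, .v, .o, .o, .i, .o, .o, .o, .o, .o, .o, .o, .o, .o, .o, .v, .o, .o, .o, .i, .o, .o, .o, .o, .v, .o, .o, .o, .o, .o, .o, .v, .v, .o, .i, .o, .o, .o, .o, .o, .o, .o, .o, .w, .o, .o, .o, .o, .o, .i, .o, .o, .o, .o, .v, .o, .o, .o, .o, .o, .o, .o, .o, .o, .i, .o, .o, .o, .o, .o, .o, .o, .o, .o, .o, .o, .o, .o, .o, .i, .o, .o, .o, .o, .v, .o, .o, .o, .o, .o, .o, .o, .o, .o, .i, .o, .o, .o, .o, .o, .o, .o, .o, .o, .o, .o, .o, .o, .o,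 .i, .o, .o, .o, .o, .v, .o, .o, .o, .o, .o, .o, .o, .o, .o, .i, .o, .o, .o, .o, .o, .o, .o, .o, .o, .o, .o, .o, .o, .o, .i, .o, .o, .o, .o, .o, .o, .o, .o, .o, .o, .o, .o, .o, .o, .i, .o, .o, .o, .o, .o, .o, .o, .o, .o, .o, .o, .o, .o, .o, .i, .o, .o, .o, .o, .o, .o, .o, .o, .o, .o, .o, .o, .o, .o, .i]⟩
def x7 : MatD 14 K4 := ⟨[.i, .o, .o, .o, .o, .o, .o, .o, .o, .o, .o, .o, .o, .o, .o, .i, .o, .o, .v, .o, .o, .o, .o, .o, .o, .o, .o, .o, .o, .o, .i, .o, .o, .o, .o, .o, .o, .o, .o, .o, .o, .o, .o, .o, .o, .i, .o, .o, .o, .o, .o, .o, .o, .o, .o, .o, .o, .o, .o, .o, .i, .o, .o, .o, .o, .o, .o, .o, .o, .o, .o, .o, .v, .o, .o, .i, .o, .o, .o, .o, .o, .o, .o, .o, .o, .o, .o, .v, .o, .o, .i, .o, .o, .o, .o, .o, .o, .o, .o, .o, .o, .o, .o, .o, .o, .i, .o, .o, .o, .o, .o, .o, .o, .o, .o, .o, .o, .o, .o, .o, .i, .o, .o,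 .o, .o, .o, .o, .o, .w, .o, .o, .o, .o, .o, .o, .i, .o, .o, .o, .o, .o, .o, .o, .w, .o, .o, .o, .o, .o, .o, .i, .o, .o, .o, .v, .o, .o, .o, .w, .o, .o, .o, .o, .o, .o, .i, .o, .o, .o, .o, .i, .o, .o, .w, .o, .o, .o, .v, .o, .o, .i, .o, .o, .o, .o, .i, .o, .o, .w, .o, .o, .o, .v, .o, .o, .i]⟩
def x8 : MatD 14 K4 := ⟨[.i, .o, .o, .o, .o, .o, .o, .o, .o, .o, .o, .o, .o, .o, .o, .i, .o, .o, .i, .o, .o, .o, .o, .o, .o, .o, .o, .o, .o, .o, .i, .o, .o, .o, .o, .o, .o, .o, .o, .o, .o, .o, .o, .o, .o, .i, .o, .o, .o, .o, .o, .o, .o, .o, .o, .o, .o, .o, .o, .o, .i, .o, .o, .o, .o, .o, .o, .o, .o, .o, .o, .o, .i, .o, .o, .i, .o, .o, .o, .o, .o, .o, .o, .o, .o, .o, .o, .i, .o, .o, .i, .o, .o, .o, .o, .o, .o, .o, .o, .o, .o, .o, .o, .o, .o, .i, .o, .o, .o, .o, .o, .o, .o, .o, .o, .o, .o, .o, .o, .o, .i, .o, .o, .o, .o, .o,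 .o, .o, .i, .o, .o, .o, .o, .o, .o, .i, .o, .o, .o, .o, .o, .o, .o, .i, .o, .o, .o, .o, .o, .o, .i, .o, .o, .o, .i, .o, .o, .o, .i, .o, .o, .o, .o, .o, .o, .i, .o, .o, .o, .o, .i, .o, .o, .i, .o, .o, .o, .i, .o, .o, .i, .o, .o, .o, .o, .i, .o, .o, .i, .o, .o, .o, .i, .o, .o, .i]⟩
def x9 : MatD 14 K4 := ⟨[.i, .o, .o, .o, .o, .o, .o, .o, .o, .o, .v, .o, .o, .o, .o, .i, .o, .o, .o, .o, .o, .o, .o, .o, .v, .o, .o, .o, .o, .o, .i, .o, .v, .o, .w, .o, .i, .o, .o, .o, .o, .o, .o, .o, .o, .i, .o, .o, .o, .o, .o, .o, .o, .o, .o, .o, .o, .o, .o, .o, .i, .o, .o, .o, .w, .o, .o, .o, .o, .o, .v, .v, .o, .o, .o, .i, .o, .o, .o, .o, .w, .o, .o, .o, .o, .o, .o, .o, .o, .o, .i, .o, .v, .o, .o, .o, .o, .o, .o, .o, .o, .o, .o, .o, .o, .i, .o, .v, .o, .w, .o, .i, .o, .o, .o, .o, .o, .o, .o, .o, .i, .o, .o, .o, .o, .o, .o, .o, .o,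 .o, .o, .o, .o, .o, .o, .i, .o, .o, .o, .w, .o, .o, .o, .o, .o, .o, .o, .o, .o, .o, .i, .o, .o, .o, .o, .o, .o, .o, .o, .o, .o, .o, .o, .o, .o, .i, .o, .v, .o, .o, .o, .o, .o, .o, .o, .o, .o, .o, .o, .o, .i, .o, .o, .o, .o, .o, .o, .o, .o, .o, .o, .o, .o, .o, .o, .i]⟩
def x10 : MatD 14 K4 := ⟨[.i, .o, .o, .o, .o, .o, .o, .o, .o, .o, .o, .o, .o, .v, .o, .i, .o, .o, .o, .o, .o, .o, .o, .o, .o, .o, .o, .o, .o, .v, .i, .o, .o, .o, .o, .o, .o, .o, .o, .o, .o, .w, .o, .o, .o, .i, .o, .o, .o, .o, .v, .o, .o, .o, .o, .o, .o, .o, .o, .o, .i, .o, .o, .o, .o, .o, .v, .o, .o, .o, .o, .o, .o, .o, .o, .i, .o, .o, .o, .o, .o, .v, .o, .o, .o, .o, .o, .o, .o, .o, .i, .o, .o, .o, .o, .o, .o, .o, .o, .o, .o, .o, .o, .o, .o, .i, .o, .o, .o, .o, .v, .o, .o, .o, .o, .o, .o, .o, .o, .o, .i, .o, .o, .o, .o, .o, .o, .o, .o, .o, .o, .o,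 .o, .o, .o, .i, .o, .o, .o, .o, .o, .o, .o, .o, .o, .o, .o, .o, .o, .o, .i, .o, .o, .o, .o, .o, .o, .o, .o, .o, .o, .o, .o, .o, .o, .i, .o, .o, .o, .o, .o, .o, .o, .o, .o, .o, .o, .o, .o, .o, .i, .o, .o, .o, .o, .o, .o, .o, .o, .o, .o, .o, .o, .o, .o, .i]⟩
def x11 : MatD 14 K4 := ⟨[.i, .o, .w, .o, .o, .o, .o, .o, .o, .o, .o, .o, .o, .o, .o, .i, .o, .o, .o, .o, .o, .o, .o, .o, .o, .o, .o, .o, .o, .o, .i, .o, .o, .o, .o, .o, .o, .o, .o, .o, .o, .o, .o, .o, .o, .i, .o, .o, .o, .o, .o, .o, .o, .o, .o, .o, .o, .o, .o, .o, .i, .o, .o, .o, .o, .o, .o, .o, .o, .o, .o, .o, .o, .o, .o, .i, .o, .o, .o, .o, .o, .o, .o, .o, .o, .o, .o, .o, .o, .o, .i, .o, .o, .o, .o, .o, .o, .o, .o, .o, .o, .o, .o, .o, .o, .i, .o, .o, .o, .o, .o, .o, .o, .o, .o, .w, .o, .o, .o, .o, .i, .o, .o, .o, .o, .o, .o, .o, .o, .o, .o, .o, .o, .o, .o,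 .i, .o, .o, .o, .o, .o, .o, .o, .o, .w, .o, .o, .o, .o, .o, .i, .o, .o, .o, .o, .o, .o, .o, .o, .w, .o, .o, .o, .o, .o, .i, .o, .o, .o, .o, .o, .o, .o, .o, .o, .w, .o, .o, .o, .o, .i, .o, .o, .w, .v, .o, .o, .o, .o, .o, .o, .o, .o, .o, .o, .i]⟩
def x12 : MatD 14 K4 := ⟨[.i, .o, .o, .o, .o, .o, .o, .o, .o, .o, .o, .o, .o, .i, .o, .i, .o, .o, .o, .o, .o, .o, .o, .o, .o, .o, .o, .o, .o, .i, .i, .o, .o, .o, .o, .o, .o, .o, .o, .o, .o, .i, .o, .o, .o, .i, .o, .o, .o, .o, .i, .o, .o, .o, .o, .o, .o, .o, .o, .o, .i, .o, .o, .o, .o, .o, .i, .o, .o, .o, .o, .o, .o, .o, .o, .i, .o, .o, .o, .o, .o, .i, .o, .o, .o, .o, .o, .o, .o, .o, .i, .o, .o, .o, .o, .o, .o, .o, .o, .o, .o, .o, .o, .o, .o, .i, .o, .o, .o, .o, .i, .o, .o, .o, .o, .o, .o, .o, .o, .o, .i, .o, .o, .o, .o, .o, .o, .o, .o, .o, .o, .o, .o, .o, .o, .i, .o, .o,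 .o, .o, .o, .o, .o, .o, .o, .o, .o, .o, .o, .o, .i, .o, .o, .o, .o, .o, .o, .o, .o, .o, .o, .o, .o, .o, .o, .i, .o, .o, .o, .o, .o, .o, .o, .o, .o, .o, .o, .o, .o, .o, .i, .o, .o, .o, .o, .o, .o, .o, .o, .o, .o, .o, .o, .o, .o, .i]⟩

def xD : Fin 13 → MatD 14 K4
  | ⟨0, _⟩ => x0
  | ⟨1, _⟩ => x1
  | ⟨2, _⟩ => x2
  | ⟨3, _⟩ => x3
  | ⟨4, _⟩ => x4
  | ⟨5, _⟩ => x5
  | ⟨6, _⟩ => x6
  | ⟨7, _⟩ => x7
  | ⟨8, _⟩ => x8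
  | ⟨9, _⟩ => x9
  | ⟨10, _⟩ => x10
  | ⟨11, _⟩ => x11
  | ⟨12, _⟩ => x12

theorem hinvX : ∀ k, (xD k).mul (xD k) = MatD.one := by decide +kernel

theorem xD_eq : ∀ k, (xD k).toMatE eps = Cfsg.Lie.chevG2.xMat K4 (rootOf k).1 (rootOf k).2 := by
  intro k; fin_cases k <;> decide +kernel

def mA : MatD 14 K4 := ⟨[.i, .o, .i, .o, .o, .o, .o, .o, .o, .o, .o, .o, .o, .o, .o, .i, .o, .o, .o, .o, .o, .o, .o, .o, .o, .o, .o, .o, .o, .o, .i, .o, .o, .o, .o, .o, .o, .o, .o, .o, .o, .o, .o, .o, .o, .i, .o, .o, .o, .o, .o, .o, .o, .o, .o, .o, .o, .o, .o, .o, .i, .o, .o, .o, .o, .o, .o, .o, .o, .o, .o, .o, .o, .o, .o, .i, .o, .o, .o, .o, .o, .o, .o, .o, .o, .o, .o, .o, .o, .o, .i, .o, .o, .o, .o, .o, .o, .o, .o, .o, .o, .o, .o, .o, .o, .i, .o, .o, .o, .o, .o, .o, .o, .o, .o, .i, .o, .o, .o, .o, .i, .o, .o, .o, .o, .o, .o, .o,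 .o, .o, .o, .o, .o, .o, .o, .i, .o, .o, .o, .o, .o, .o, .o, .o, .i, .o, .o, .o, .o, .o, .i, .o, .o, .o, .o, .o, .o, .o, .o, .i, .o, .o, .o, .o, .o, .i, .o, .o, .o, .o, .o, .o, .o, .o, .o, .i, .o, .o, .o, .o, .i, .o, .o, .i, .i, .o, .o, .o, .o, .o, .o, .o, .o, .o, .o, .i]⟩
def mB : MatD 14 K4 := ⟨[.i, .o, .w, .i, .o, .w, .v, .o, .o, .w, .i, .o, .w, .v, .v, .i, .v, .v, .i, .i, .i, .o, .i, .v, .v, .i, .i, .i, .i, .v, .w, .i, .o, .v, .w, .w, .i, .i, .v, .i, .i, .w, .i, .w, .v, .i, .i, .v, .v, .o, .o, .v, .w, .v, .v, .i, .i, .o, .i, .i, .w, .v, .i, .o, .v, .i, .i, .v, .v, .i, .v, .i, .o, .i, .w, .i, .i, .w, .w, .w, .i, .i, .w, .v, .v, .w, .v, .o, .v, .v, .w, .o, .w, .v, .w, .i, .v, .i, .i, .o, .w, .w, .v, .o, .i, .i, .v, .w, .w, .v, .o, .i, .o, .o, .o, .w, .o, .o, .w, .o, .i, .o, .w, .o, .o, .w, .i, .v, .i, .v, .o,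 .i, .w, .w, .i, .w, .i, .i, .v, .w, .i, .w, .v, .w, .i, .v, .i, .o, .o, .v, .i, .v, .v, .v, .i, .o, .v, .w, .v, .i, .o, .o, .v, .v, .w, .w, .i, .o, .v, .i, .w, .i, .w, .w, .v, .w, .w, .o, .i, .i, .i, .i, .v, .w, .v, .w, .v, .v, .i, .o, .w, .v, .o, .i, .v, .w]⟩
def mC : MatD 14 K4 := ⟨[.i, .o, .i, .i, .o, .o, .o, .o, .o, .o, .o, .o, .o, .o, .o, .i, .o, .i, .o, .o, .o, .o, .o, .o, .o, .o, .o, .o, .o, .o, .i, .o, .o, .o, .o, .o, .o, .o, .o, .o, .o, .o, .o, .o, .o, .i, .o, .o, .o, .o, .o, .o, .o, .o, .o, .o, .o, .o, .o, .o, .i, .o, .o, .o, .o, .o, .o, .o, .o, .o, .o, .o, .o, .o, .o, .i, .o, .o, .o, .o, .o, .o, .o, .o, .o, .o, .o, .o, .o, .o, .i, .o, .o, .o, .o, .o, .o, .o, .o, .o, .i, .o, .o, .o, .o, .i, .o, .o, .o, .o, .o, .o, .o, .o, .o, .i, .o, .o, .o, .o, .i, .o, .o, .o, .o, .o, .o, .o, .o, .o, .i, .o, .o, .o,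 .o, .i, .o, .o, .o, .o, .o, .o, .o, .o, .i, .o, .o, .o, .o, .o, .i, .o, .o, .o, .o, .o, .o, .o, .o, .i, .i, .o, .o, .o, .o, .i, .o, .o, .i, .i, .i, .i, .o, .o, .o, .i, .o, .o, .o, .o, .i, .o, .o, .i, .i, .i, .o, .o, .o, .o, .i, .o, .o, .o, .o, .i]⟩
def mD : MatD 14 K4 := ⟨[.i, .o, .v, .o, .o, .w, .o, .v, .o, .w, .o, .o, .o, .o, .o, .i, .w, .o, .i, .w, .o, .v, .o, .o, .o, .o, .o, .o, .o, .o, .i, .o, .o, .o, .o, .o, .o, .o, .o, .o, .o, .o, .o, .o, .v, .i, .w, .v, .o, .i, .o, .o, .o, .o, .o, .o, .o, .o, .w, .o, .i, .o, .o, .v, .o, .o, .o, .o, .o, .o, .o, .o, .i, .o, .o, .i, .o, .w, .o, .o, .o, .o, .o, .o, .o, .w, .o, .i, .w, .o, .i, .o, .o, .v, .o, .o, .o, .o, .o, .o, .o, .o, .o, .o, .o, .i, .o, .o, .o, .o, .o, .o, .v, .v, .v, .v, .w, .v, .w, .i, .i, .o, .w, .v, .i, .o, .o, .o, .i, .o, .o, .o, .o, .w, .o, .i, .o,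 .o, .o, .o, .w, .w, .w, .i, .i, .o, .o, .v, .o, .o, .i, .o, .v, .o, .i, .o, .i, .o, .i, .i, .o, .w, .o, .w, .o, .i, .w, .o, .o, .o, .i, .o, .o, .i, .o, .v, .o, .i, .o, .o, .i, .o, .w, .v, .v, .i, .i, .w, .i, .v, .o, .o, .i, .w, .v, .i]⟩
def mE : MatD 14 K4 := ⟨[.i, .o, .i, .o, .o, .w, .v, .o, .o, .o, .o, .o, .o, .o, .o, .i, .w, .v, .i, .w, .o, .o, .o, .o, .o, .o, .o, .o, .o, .o, .i, .o, .o, .o, .o, .o, .o, .o, .o, .o, .o, .o, .o, .o, .o, .i, .o, .o, .o, .o, .o, .o, .o, .o, .o, .o, .o, .o, .w, .v, .i, .o, .o, .o, .o, .o, .o, .o, .o, .o, .o, .o, .i, .w, .o, .i, .o, .o, .o, .o, .o, .o, .o, .o, .o, .o, .v, .i, .o, .o, .i, .o, .o, .o, .o, .o, .o, .o, .o, .o, .v, .i, .w, .v, .o, .i, .o, .o, .o, .o, .o, .o, .o, .o, .i, .v, .v, .o, .w, .o, .i, .o, .o, .o, .o, .o, .o, .v, .o, .o, .o, .i, .w, .w, .o, .i, .o, .o, .o, .o,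 .w, .w, .w, .v, .i, .v, .i, .o, .v, .o, .i, .o, .o, .o, .i, .o, .i, .w, .o, .i, .o, .v, .w, .o, .o, .i, .o, .o, .v, .o, .v, .i, .w, .v, .o, .v, .i, .i, .w, .v, .i, .o, .w, .i, .v, .v, .i, .w, .o, .i, .v, .v, .i, .w, .o, .i]⟩
def mF : MatD 14 K4 := ⟨[.i, .o, .w, .o, .o, .o, .o, .o, .o, .o, .o, .o, .o, .o, .o, .i, .o, .o, .o, .o, .o, .o, .o, .o, .o, .o, .o, .o, .o, .o, .i, .o, .o, .o, .o, .o, .o, .o, .o, .o, .o, .o, .o, .o, .o, .i, .o, .o, .o, .o, .o, .o, .o, .o, .o, .o, .o, .o, .o, .o, .i, .o, .o, .o, .o, .o, .o, .o, .o, .o, .o, .o, .o, .o, .o, .i, .o, .o, .o, .o, .o, .o, .o, .o, .o, .o, .o, .o, .o, .o, .i, .o, .o, .o, .o, .o, .o, .o, .o, .o, .o, .o, .o, .o, .o, .i, .o, .o, .o, .o, .o, .o, .o, .o, .o, .w, .o, .o, .o, .o, .i, .o, .o, .o, .o, .o, .o, .o, .o, .o, .o, .o, .o, .o, .o, .i, .o, .o, .o, .o, .o, .o, .o,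 .o, .w, .o, .o, .o, .o, .o, .i, .o, .o, .o, .o, .o, .o, .o, .o, .w, .o, .o, .o, .o, .o, .i, .o, .o, .o, .o, .o, .o, .o, .o, .o, .w, .o, .o, .o, .o, .i, .o, .o, .w, .v, .o, .o, .o, .o, .o, .o, .o, .o, .o, .o, .i]⟩

def D : Gen → MatD 14 K4
  | .a => mA
  | .b => mB
  | .c => mC
  | .d => mD
  | .e => mE
  | .f => mF

/-- the generators as words in the root elements -/
def wordOf : Gen → List (Letter (Fin 13))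
  | .a => [(0, true)]
  | .b => [(1, true), (2, true), (3, true), (4, true), (0, true), (4, true), (3, true), (2, true), (1, true)]
  | .c => [(5, true), (0, true), (5, true)]
  | .d => [(6, true), (7, true), (3, true), (8, true), (3, true), (7, true), (6, true)]
  | .e => [(2, true), (9, true), (1, true), (10, true), (8, true), (10, true), (1, true), (9, true), (2, true)]
  | .f => [(4, true), (11, true), (12, true), (0, true), (12, true), (11, true), (4, true)]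

theorem hinvD : ∀ x, (D x).mul (D x) = MatD.one := by
  intro x; cases x <;> decide +kernel

theorem hword : ∀ x, D x = MatD.evM (dlM xD xD) (wordOf x) := by
  intro x; cases x <;> decide +kernel

/-- the root elements, invertible -/
noncomputable def xGL (k : Fin 13) : GL Idx K4 := glOf eps xD xD hinvX hinvX k

theorem xGL_mem (k : Fin 13) : xGL k ∈ Cfsg.Lie.chevG2.group K4 :=
  Subgroup.subset_closure ⟨(rootOf k).1, (rootOf k).2, xD_eq k⟩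

theorem ev_mem {G : Type*} [Group G] {α : Type} (H : Subgroup G) (γ : α → G) (h : ∀ x, γ x ∈ H)
    (ls : List (Letter α)) : ev γ ls ∈ H := by
  induction ls with
  | nil => exact H.one_mem
  | cons l ls ih =>
    refine H.mul_mem ih ?_
    rcases l with ⟨x, s⟩
    cases s
    · exact H.inv_mem (h x)
    · exact h x

/-- the element of a generator -/
noncomputable def glG (x : Gen) : GL Idx K4 := glOf eps D D hinvD hinvD x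

theorem glG_mem (x : Gen) : glG x ∈ Cfsg.Lie.chevG2.group K4 := by
  have h : glG x = ev xGL (wordOf x) := by
    apply Units.ext
    show (D x).toMatE eps = _
    have e : xGL = glOf eps xD xD hinvX hinvX := rfl
    rw [e, coe_ev_gl, hword x]
  rw [h]
  exact ev_mem _ _ xGL_mem _

end Cfsg.Agent.Helper4.TC.G24Mat
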