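import Cfsg.Agent.Lib.Helper4.TC.G24PSLC
import Cfsg.Agent.Lib.Helper4.TC.Strict

set_option autoImplicit false
set_option maxRecDepth 100000
set_option linter.unusedVariables false
set_option Elab.async false

namespace Cfsg.Agent.Helper4.TC.G24PS

open Cfsg.Agent.Helper4.TC

def xw : List ℕ := [4, 6, 2, 10, 0, 2, 8]
def xpw : List ℕ := [4, 6, 2, 10, 0, 2, 8, 4, 6, 2, 10, 0, 2, 8, 4, 6, 2, 10, 0, 2, 8, 4, 6, 2, 10, 0, 2, 8, 4, 6, 2, 10, 0, 2, 8, 4, 6, 2, 10, 0, 2, 8, 4, 6, 2, 10, 0, 2, 8, 4, 6, 2, 10, 0, 2, 8, 4, 6, 2, 10, 0, 2, 8, 4, 6, 2, 10, 0, 2, 8, 4, 6, 2, 10, 0, 2, 8, 4, 6, 2, 10, 0, 2, 8, 4, 6, 2, 10, 0, 2, 8]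
theorem xp_c0 : relsRange G24PJ2.mdata [xpw] 416 0 = true := relsRange_strict G24PJ2.mdata [xpw] 416 0 (by decide +kernel)

end Cfsg.Agent.Helper4.TC.G24PS
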