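import Cfsg.Agent.Lib.Helper4.TC.Timed

set_option autoImplicit false
set_option maxRecDepth 100000
set_option linter.unusedVariables false

namespace Cfsg.Agent.Helper4.TC.G24PZ3

open Cfsg.Agent.Helper4.TC

def e0_0 : ℕ := 0x3600800000012800
def j0_0 : ℕ := 0x130000000000000004
noncomputable def ecol0 (b : ℕ) : ℕ := e0_0
noncomputable def jcol0 (b : ℕ) : ℕ := j0_0

def e1_0 : ℕ := 0x3400800000012000
def j1_0 : ℕ := 0x150000000000000005
noncomputable def ecol1 (b : ℕ) : ℕ := e1_0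
noncomputable def jcol1 (b : ℕ) : ℕ := j1_0

def e2_0 : ℕ := 0x3200800000011800
def j2_0 : ℕ := 0x1b000000000000000c
noncomputable def ecol2 (b : ℕ) : ℕ := e2_0
noncomputable def jcol2 (b : ℕ) : ℕ := j2_0

def e3_0 : ℕ := 0x3000800000011000
def j3_0 : ℕ := 0x150000000000000005
noncomputable def ecol3 (b : ℕ) : ℕ := e3_0
noncomputable def jcol3 (b : ℕ) : ℕ := j3_0

def e4_0 : ℕ := 0x7cc01400000433001
def j4_0 : ℕ := 0x10000000000000001
noncomputable def ecol4 (b : ℕ) : ℕ := e4_0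
noncomputable def jcol4 (b : ℕ) : ℕ := j4_0

def e5_0 : ℕ := 0x980100000000000001a0080980000f800
def j5_0 : ℕ := 0x200000000000000000000002e000000020000000e
noncomputable def ecol5 (b : ℕ) : ℕ := e5_0
noncomputable def jcol5 (b : ℕ) : ℕ := j5_0

def e6_0 : ℕ := 0x3a00000000013002
def j6_0 : ℕ := 0xb0000000000000001
noncomputable def ecol6 (b : ℕ) : ℕ := e6_0
noncomputable def jcol6 (b : ℕ) : ℕ := j6_0

def e7_0 : ℕ := 0x4c0000000000e002
def j7_0 : ℕ := 0x20000000000000015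
noncomputable def ecol7 (b : ℕ) : ℕ := e7_0
noncomputable def jcol7 (b : ℕ) : ℕ := j7_0

def e8_0 : ℕ := 0x5cc018000002f3003
def j8_0 : ℕ := 0x10000000000000001
noncomputable def ecol8 (b : ℕ) : ℕ := e8_0
noncomputable def jcol8 (b : ℕ) : ℕ := j8_0

def e9_0 : ℕ := 0x4c008000000000000260000120080000000a800
def j9_0 : ℕ := 0x200000000000000000000000200000036000000000000001e
noncomputable def ecol9 (b : ℕ) : ℕ := e9_0
noncomputable def jcol9 (b : ℕ) : ℕ := j9_0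

def e10_0 : ℕ := 0x3cc01c00000273004
def j10_0 : ℕ := 0x10000000000000001
noncomputable def ecol10 (b : ℕ) : ℕ := e10_0
noncomputable def jcol10 (b : ℕ) : ℕ := j10_0

def e11_0 : ℕ := 0x260040000000000001300000000000a00800000008800
def j11_0 : ℕ := 0x2000000000000000000000002000000000000003e0000000000000026
noncomputable def ecol11 (b : ℕ) : ℕ := e11_0
noncomputable def jcol11 (b : ℕ) : ℕ := j11_0

def m_0 : ℕ := 0xa00438020800458020400478020a000980008000b800060000002040010800000000000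
def jm_0 : ℕ := 0x5100000041000000010000005100000041000000000000000100000000

noncomputable def mgT (b : ℕ) : ℕ := m_0
noncomputable def jmT (b : ℕ) : ℕ := jm_0
noncomputable def eT (c b : ℕ) : ℕ := Bool.rec (motive := fun _ => ℕ) (Bool.rec (motive := fun _ => ℕ) (Bool.rec (motive := fun _ => ℕ) (ecol0 b) (Bool.rec (motive := fun _ => ℕ) (ecol1 b) (ecol2 b) (Nat.ble 2 c)) (Nat.ble 1 c)) (Bool.rec (motive := fun _ => ℕ) (ecol3 b) (Bool.rec (motive := fun _ => ℕ) (ecol4 b) (ecol5 b) (Nat.ble 5 c)) (Nat.ble 4 c)) (Nat.ble 3 c)) (Bool.rec (motive := fun _ => ℕ) (Bool.rec (motive := fun _ => ℕ) (ecol6 b) (Bool.rec (motive := fun _ => ℕ) (ecol7 b) (ecol8 b) (Nat.ble 8 c)) (Nat.ble 7 c)) (Bool.rec (motive := fun _ => ℕ) (ecol9 b) (Bool.rec (motive := fun _ => ℕ) (ecol10 b) (ecol11 b) (Nat.ble 11 c)) (Nat.ble 10 c)) (Nat.ble 9 c)) (Nat.ble 6 c)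
noncomputable def jT (c b : ℕ) : ℕ := Bool.rec (motive := fun _ => ℕ) (Bool.rec (motive := fun _ => ℕ) (Bool.rec (motive := fun _ => ℕ) (jcol0 b) (Bool.rec (motive := fun _ => ℕ) (jcol1 b) (jcol2 b) (Nat.ble 2 c)) (Nat.ble 1 c)) (Bool.rec (motive := fun _ => ℕ) (jcol3 b) (Bool.rec (motive := fun _ => ℕ) (jcol4 b) (jcol5 b) (Nat.ble 5 c)) (Nat.ble 4 c)) (Nat.ble 3 c)) (Bool.rec (motive := fun _ => ℕ) (Bool.rec (motive := fun _ => ℕ) (jcol6 b) (Bool.rec (motive := fun _ => ℕ) (jcol7 b) (jcol8 b) (Nat.ble 8 c)) (Nat.ble 7 c)) (Bool.rec (motive := fun _ => ℕ) (jcol9 b) (Bool.rec (motive := fun _ => ℕ) (jcol10 b) (jcol11 b) (Nat.ble 11 c)) (Nat.ble 10 c)) (Nat.ble 9 c)) (Nat.ble 6 c)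

def rw0 : List ℕ := [4]
def rw1 : List ℕ := [6, 6]
def rw2 : List ℕ := [0, 6, 0, 6]
def rw3 : List ℕ := [2, 6, 2, 6]
def rw4 : List ℕ := [8]
def rw5 : List ℕ := [10]
noncomputable def relW (i : ℕ) : List ℕ := Bool.rec (motive := fun _ => List ℕ) (Bool.rec (motive := fun _ => List ℕ) (rw0) (Bool.rec (motive := fun _ => List ℕ) (rw1) (rw2) (Nat.ble 2 i)) (Nat.ble 1 i)) (Bool.rec (motive := fun _ => List ℕ) (rw3) (Bool.rec (motive := fun _ => List ℕ) (rw4) (rw5) (Nat.ble 5 i)) (Nat.ble 4 i)) (Nat.ble 3 i)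
def sw0 : List ℕ := [0]
def sw1 : List ℕ := [2]
noncomputable def subW (i : ℕ) : List ℕ := Bool.rec (motive := fun _ => List ℕ) (sw0) (sw1) (Nat.ble 1 i)

noncomputable def data : Data where
  w := 11
  mask := 2047
  tw := 6
  tmask := 63
  hsh := 17
  lsh := 28
  ew := 23
  emask := 8388607
  mw := 36
  mmask := 68719476735
  jw := 32
  jmask := 4294967295
  bsh := 11
  bmask := 2047
  nc := 12
  fuel := 3
  E := eT
  J := jT
  Mg := mgT
  JM := jmT
  relW := relW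
  nrot := 6
  subW := subW
  nsub := 2

def M : ℕ := 8
def n : ℕ := 2

def bases : List (List ℕ) := [
  [0, 0],
  [2, 0, 2, 0, 2, 0, 2, 0, 2, 0],
  [6, 0, 6, 0],
  [0, 2, 0, 2, 0, 2, 0, 2, 0, 2],
  [2, 2],
  [6, 2, 6, 2],
  [0, 6, 0, 6],
  [2, 6, 2, 6],
  [6, 6],
  [4],
  [8],
  [10]
]

def rots : List (ℕ × ℕ) := [(9, 0), (8, 0), (2, 1), (5, 1), (10, 0), (11, 0)]

def subsL : List (List ℕ) := [
  [0],
  [2]
]

end Cfsg.Agent.Helper4.TC.G24PZ3
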