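import Cfsg.Agent.Lib.Helper4.TC.G2KModModel
import Cfsg.Agent.Lib.Helper4.TC.Strict

set_option autoImplicit false
set_option maxRecDepth 100000
set_option linter.unusedVariables false
set_option Elab.async false

namespace Cfsg.Agent.Helper4.TC.G2KMod

open Cfsg.Agent.Helper4.TC

theorem rel6 : relsRange mdata basesM 59 354 = true := relsRange_strict mdata basesM 59 354 (by decide +kernel)
theorem rel7 : relsRange mdata basesM 59 413 = true := relsRange_strict mdata basesM 59 413 (by decide +kernel)
theorem rel8 : relsRange mdata basesM 59 472 = true := relsRange_strict mdata basesM 59 472 (by decide +kernel)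
theorem rel9 : relsRange mdata basesM 59 531 = true := relsRange_strict mdata basesM 59 531 (by decide +kernel)
theorem rel10 : relsRange mdata basesM 59 590 = true := relsRange_strict mdata basesM 59 590 (by decide +kernel)
theorem rel11 : relsRange mdata basesM 59 649 = true := relsRange_strict mdata basesM 59 649 (by decide +kernel)

end Cfsg.Agent.Helper4.TC.G2KMod
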