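import Cfsg.Agent.Lib.Helper4.TC.G2KModModel
import Cfsg.Agent.Lib.Helper4.TC.Strict

set_option autoImplicit false
set_option maxRecDepth 100000
set_option linter.unusedVariables false
set_option Elab.async false

namespace Cfsg.Agent.Helper4.TC.G2KMod

open Cfsg.Agent.Helper4.TC

theorem rel60 : relsRange mdata basesM 59 3540 = true := relsRange_strict mdata basesM 59 3540 (by decide +kernel)
theorem rel61 : relsRange mdata basesM 59 3599 = true := relsRange_strict mdata basesM 59 3599 (by decide +kernel)
theorem rel62 : relsRange mdata basesM 59 3658 = true := relsRange_strict mdata basesM 59 3658 (by decide +kernel)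
theorem rel63 : relsRange mdata basesM 59 3717 = true := relsRange_strict mdata basesM 59 3717 (by decide +kernel)
theorem rel64 : relsRange mdata basesM 59 3776 = true := relsRange_strict mdata basesM 59 3776 (by decide +kernel)
theorem rel65 : relsRange mdata basesM 59 3835 = true := relsRange_strict mdata basesM 59 3835 (by decide +kernel)

end Cfsg.Agent.Helper4.TC.G2KMod
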