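import Cfsg.Agent.Lib.Helper4.TC.G2KModModel
import Cfsg.Agent.Lib.Helper4.TC.Strict

set_option autoImplicit false
set_option maxRecDepth 100000
set_option linter.unusedVariables false
set_option Elab.async false

namespace Cfsg.Agent.Helper4.TC.G2KMod

open Cfsg.Agent.Helper4.TC

theorem rel66 : relsRange mdata basesM 59 3894 = true := relsRange_strict mdata basesM 59 3894 (by decide +kernel)
theorem rel67 : relsRange mdata basesM 59 3953 = true := relsRange_strict mdata basesM 59 3953 (by decide +kernel)
theorem rel68 : relsRange mdata basesM 59 4012 = true := relsRange_strict mdata basesM 59 4012 (by decide +kernel)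
theorem rel69 : relsRange mdata basesM 59 4071 = true := relsRange_strict mdata basesM 59 4071 (by decide +kernel)
theorem rel70 : relsRange mdata basesM 59 4130 = true := relsRange_strict mdata basesM 59 4130 (by decide +kernel)
theorem rel71 : relsRange mdata basesM 59 4189 = true := relsRange_strict mdata basesM 59 4189 (by decide +kernel)

end Cfsg.Agent.Helper4.TC.G2KMod
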