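import Cfsg.Agent.Lib.Helper4.TC.G2KModModel
import Cfsg.Agent.Lib.Helper4.TC.Strict

set_option autoImplicit false
set_option maxRecDepth 100000
set_option linter.unusedVariables false
set_option Elab.async false

namespace Cfsg.Agent.Helper4.TC.G2KMod

open Cfsg.Agent.Helper4.TC

theorem rel72 : relsRange mdata basesM 59 4248 = true := relsRange_strict mdata basesM 59 4248 (by decide +kernel)
theorem rel73 : relsRange mdata basesM 59 4307 = true := relsRange_strict mdata basesM 59 4307 (by decide +kernel)
theorem rel74 : relsRange mdata basesM 59 4366 = true := relsRange_strict mdata basesM 59 4366 (by decide +kernel)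
theorem rel75 : relsRange mdata basesM 59 4425 = true := relsRange_strict mdata basesM 59 4425 (by decide +kernel)
theorem rel76 : relsRange mdata basesM 59 4484 = true := relsRange_strict mdata basesM 59 4484 (by decide +kernel)
theorem rel77 : relsRange mdata basesM 59 4543 = true := relsRange_strict mdata basesM 59 4543 (by decide +kernel)

end Cfsg.Agent.Helper4.TC.G2KMod
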