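import Cfsg.Agent.Lib.Helper4.TC.G2KModModel
import Cfsg.Agent.Lib.Helper4.TC.Strict

set_option autoImplicit false
set_option maxRecDepth 100000
set_option linter.unusedVariables false
set_option Elab.async false

namespace Cfsg.Agent.Helper4.TC.G2KMod

open Cfsg.Agent.Helper4.TC

theorem rel78 : relsRange mdata basesM 59 4602 = true := relsRange_strict mdata basesM 59 4602 (by decide +kernel)
theorem rel79 : relsRange mdata basesM 59 4661 = true := relsRange_strict mdata basesM 59 4661 (by decide +kernel)
theorem rel80 : relsRange mdata basesM 59 4720 = true := relsRange_strict mdata basesM 59 4720 (by decide +kernel)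
theorem rel81 : relsRange mdata basesM 59 4779 = true := relsRange_strict mdata basesM 59 4779 (by decide +kernel)
theorem rel82 : relsRange mdata basesM 59 4838 = true := relsRange_strict mdata basesM 59 4838 (by decide +kernel)
theorem rel83 : relsRange mdata basesM 59 4897 = true := relsRange_strict mdata basesM 59 4897 (by decide +kernel)

end Cfsg.Agent.Helper4.TC.G2KMod
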