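import Cfsg.Agent.Lib.Helper4.TC.G2KModModel
import Cfsg.Agent.Lib.Helper4.TC.Strict

set_option autoImplicit false
set_option maxRecDepth 100000
set_option linter.unusedVariables false
set_option Elab.async false

namespace Cfsg.Agent.Helper4.TC.G2KMod

open Cfsg.Agent.Helper4.TC

theorem rel84 : relsRange mdata basesM 59 4956 = true := relsRange_strict mdata basesM 59 4956 (by decide +kernel)
theorem rel85 : relsRange mdata basesM 59 5015 = true := relsRange_strict mdata basesM 59 5015 (by decide +kernel)
theorem rel86 : relsRange mdata basesM 59 5074 = true := relsRange_strict mdata basesM 59 5074 (by decide +kernel)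
theorem rel87 : relsRange mdata basesM 59 5133 = true := relsRange_strict mdata basesM 59 5133 (by decide +kernel)
theorem rel88 : relsRange mdata basesM 59 5192 = true := relsRange_strict mdata basesM 59 5192 (by decide +kernel)
theorem rel89 : relsRange mdata basesM 59 5251 = true := relsRange_strict mdata basesM 59 5251 (by decide +kernel)

end Cfsg.Agent.Helper4.TC.G2KMod
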