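import Cfsg.Agent.Lib.Helper4.TC.G2KModModel
import Cfsg.Agent.Lib.Helper4.TC.Strict

set_option autoImplicit false
set_option maxRecDepth 100000
set_option linter.unusedVariables false
set_option Elab.async false

namespace Cfsg.Agent.Helper4.TC.G2KMod

open Cfsg.Agent.Helper4.TC

theorem rel90 : relsRange mdata basesM 59 5310 = true := relsRange_strict mdata basesM 59 5310 (by decide +kernel)
theorem rel91 : relsRange mdata basesM 59 5369 = true := relsRange_strict mdata basesM 59 5369 (by decide +kernel)
theorem rel92 : relsRange mdata basesM 59 5428 = true := relsRange_strict mdata basesM 59 5428 (by decide +kernel)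
theorem rel93 : relsRange mdata basesM 59 5487 = true := relsRange_strict mdata basesM 59 5487 (by decide +kernel)
theorem rel94 : relsRange mdata basesM 59 5546 = true := relsRange_strict mdata basesM 59 5546 (by decide +kernel)
theorem rel95 : relsRange mdata basesM 59 5605 = true := relsRange_strict mdata basesM 59 5605 (by decide +kernel)

end Cfsg.Agent.Helper4.TC.G2KMod
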