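import Cfsg.Agent.Lib.Helper4.TC.G2KModModel
import Cfsg.Agent.Lib.Helper4.TC.Strict

set_option autoImplicit false
set_option maxRecDepth 100000
set_option linter.unusedVariables false
set_option Elab.async false

namespace Cfsg.Agent.Helper4.TC.G2KMod

open Cfsg.Agent.Helper4.TC

theorem rel108 : relsRange mdata basesM 59 6372 = true := relsRange_strict mdata basesM 59 6372 (by decide +kernel)
theorem rel109 : relsRange mdata basesM 59 6431 = true := relsRange_strict mdata basesM 59 6431 (by decide +kernel)
theorem rel110 : relsRange mdata basesM 59 6490 = true := relsRange_strict mdata basesM 59 6490 (by decide +kernel)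
theorem rel111 : relsRange mdata basesM 59 6549 = true := relsRange_strict mdata basesM 59 6549 (by decide +kernel)
theorem rel112 : relsRange mdata basesM 59 6608 = true := relsRange_strict mdata basesM 59 6608 (by decide +kernel)
theorem rel113 : relsRange mdata basesM 59 6667 = true := relsRange_strict mdata basesM 59 6667 (by decide +kernel)

end Cfsg.Agent.Helper4.TC.G2KMod
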