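import Cfsg.Agent.Lib.Helper4.TC.G2KModModel
import Cfsg.Agent.Lib.Helper4.TC.Strict

set_option autoImplicit false
set_option maxRecDepth 100000
set_option linter.unusedVariables false
set_option Elab.async false

namespace Cfsg.Agent.Helper4.TC.G2KMod

open Cfsg.Agent.Helper4.TC

theorem rel114 : relsRange mdata basesM 59 6726 = true := relsRange_strict mdata basesM 59 6726 (by decide +kernel)
theorem rel115 : relsRange mdata basesM 59 6785 = true := relsRange_strict mdata basesM 59 6785 (by decide +kernel)
theorem rel116 : relsRange mdata basesM 59 6844 = true := relsRange_strict mdata basesM 59 6844 (by decide +kernel)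
theorem rel117 : relsRange mdata basesM 59 6903 = true := relsRange_strict mdata basesM 59 6903 (by decide +kernel)
theorem rel118 : relsRange mdata basesM 59 6962 = true := relsRange_strict mdata basesM 59 6962 (by decide +kernel)
theorem rel119 : relsRange mdata basesM 59 7021 = true := relsRange_strict mdata basesM 59 7021 (by decide +kernel)

end Cfsg.Agent.Helper4.TC.G2KMod
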