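import Cfsg.Agent.Lib.Helper4.TC.G2KModModel
import Cfsg.Agent.Lib.Helper4.TC.Strict

set_option autoImplicit false
set_option maxRecDepth 100000
set_option linter.unusedVariables false
set_option Elab.async false

namespace Cfsg.Agent.Helper4.TC.G2KMod

open Cfsg.Agent.Helper4.TC

theorem rel126 : relsRange mdata basesM 59 7434 = true := relsRange_strict mdata basesM 59 7434 (by decide +kernel)
theorem rel127 : relsRange mdata basesM 59 7493 = true := relsRange_strict mdata basesM 59 7493 (by decide +kernel)
theorem rel128 : relsRange mdata basesM 59 7552 = true := relsRange_strict mdata basesM 59 7552 (by decide +kernel)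
theorem rel129 : relsRange mdata basesM 59 7611 = true := relsRange_strict mdata basesM 59 7611 (by decide +kernel)
theorem rel130 : relsRange mdata basesM 59 7670 = true := relsRange_strict mdata basesM 59 7670 (by decide +kernel)
theorem rel131 : relsRange mdata basesM 59 7729 = true := relsRange_strict mdata basesM 59 7729 (by decide +kernel)

end Cfsg.Agent.Helper4.TC.G2KMod
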