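import Cfsg.Agent.Lib.Helper4.TC.G2KModModel
import Cfsg.Agent.Lib.Helper4.TC.Strict

set_option autoImplicit false
set_option maxRecDepth 100000
set_option linter.unusedVariables false
set_option Elab.async false

namespace Cfsg.Agent.Helper4.TC.G2KMod

open Cfsg.Agent.Helper4.TC

theorem rel132 : relsRange mdata basesM 59 7788 = true := relsRange_strict mdata basesM 59 7788 (by decide +kernel)
theorem rel133 : relsRange mdata basesM 59 7847 = true := relsRange_strict mdata basesM 59 7847 (by decide +kernel)
theorem rel134 : relsRange mdata basesM 59 7906 = true := relsRange_strict mdata basesM 59 7906 (by decide +kernel)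
theorem rel135 : relsRange mdata basesM 59 7965 = true := relsRange_strict mdata basesM 59 7965 (by decide +kernel)
theorem rel136 : relsRange mdata basesM 40 8024 = true := relsRange_strict mdata basesM 40 8024 (by decide +kernel)
theorem inv0 : invRange mdata 6666 0 = true := invRange_strict mdata 6666 0 (by decide +kernel)

end Cfsg.Agent.Helper4.TC.G2KMod
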