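import Cfsg.Agent.Lib.Helper4.TC.G2KModModel
import Cfsg.Agent.Lib.Helper4.TC.Strict

set_option autoImplicit false
set_option maxRecDepth 100000
set_option linter.unusedVariables false
set_option Elab.async false

namespace Cfsg.Agent.Helper4.TC.G2KMod

open Cfsg.Agent.Helper4.TC

theorem rel18 : relsRange mdata basesM 59 1062 = true := relsRange_strict mdata basesM 59 1062 (by decide +kernel)
theorem rel19 : relsRange mdata basesM 59 1121 = true := relsRange_strict mdata basesM 59 1121 (by decide +kernel)
theorem rel20 : relsRange mdata basesM 59 1180 = true := relsRange_strict mdata basesM 59 1180 (by decide +kernel)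
theorem rel21 : relsRange mdata basesM 59 1239 = true := relsRange_strict mdata basesM 59 1239 (by decide +kernel)
theorem rel22 : relsRange mdata basesM 59 1298 = true := relsRange_strict mdata basesM 59 1298 (by decide +kernel)
theorem rel23 : relsRange mdata basesM 59 1357 = true := relsRange_strict mdata basesM 59 1357 (by decide +kernel)

end Cfsg.Agent.Helper4.TC.G2KMod
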