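import Cfsg.Agent.Lib.Helper4.TC.G2KModModel
import Cfsg.Agent.Lib.Helper4.TC.Strict

set_option autoImplicit false
set_option maxRecDepth 100000
set_option linter.unusedVariables false
set_option Elab.async false

namespace Cfsg.Agent.Helper4.TC.G2KMod

open Cfsg.Agent.Helper4.TC

theorem rel24 : relsRange mdata basesM 59 1416 = true := relsRange_strict mdata basesM 59 1416 (by decide +kernel)
theorem rel25 : relsRange mdata basesM 59 1475 = true := relsRange_strict mdata basesM 59 1475 (by decide +kernel)
theorem rel26 : relsRange mdata basesM 59 1534 = true := relsRange_strict mdata basesM 59 1534 (by decide +kernel)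
theorem rel27 : relsRange mdata basesM 59 1593 = true := relsRange_strict mdata basesM 59 1593 (by decide +kernel)
theorem rel28 : relsRange mdata basesM 59 1652 = true := relsRange_strict mdata basesM 59 1652 (by decide +kernel)
theorem rel29 : relsRange mdata basesM 59 1711 = true := relsRange_strict mdata basesM 59 1711 (by decide +kernel)

end Cfsg.Agent.Helper4.TC.G2KMod
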