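import Cfsg.Agent.Lib.Helper4.TC.G2KModModel
import Cfsg.Agent.Lib.Helper4.TC.Strict

set_option autoImplicit false
set_option maxRecDepth 100000
set_option linter.unusedVariables false
set_option Elab.async false

namespace Cfsg.Agent.Helper4.TC.G2KMod

open Cfsg.Agent.Helper4.TC

theorem rel30 : relsRange mdata basesM 59 1770 = true := relsRange_strict mdata basesM 59 1770 (by decide +kernel)
theorem rel31 : relsRange mdata basesM 59 1829 = true := relsRange_strict mdata basesM 59 1829 (by decide +kernel)
theorem rel32 : relsRange mdata basesM 59 1888 = true := relsRange_strict mdata basesM 59 1888 (by decide +kernel)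
theorem rel33 : relsRange mdata basesM 59 1947 = true := relsRange_strict mdata basesM 59 1947 (by decide +kernel)
theorem rel34 : relsRange mdata basesM 59 2006 = true := relsRange_strict mdata basesM 59 2006 (by decide +kernel)
theorem rel35 : relsRange mdata basesM 59 2065 = true := relsRange_strict mdata basesM 59 2065 (by decide +kernel)

end Cfsg.Agent.Helper4.TC.G2KMod
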