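import Cfsg.Agent.Lib.Helper4.TC.G2KModModel
import Cfsg.Agent.Lib.Helper4.TC.Strict

set_option autoImplicit false
set_option maxRecDepth 100000
set_option linter.unusedVariables false
set_option Elab.async false

namespace Cfsg.Agent.Helper4.TC.G2KMod

open Cfsg.Agent.Helper4.TC

theorem rel36 : relsRange mdata basesM 59 2124 = true := relsRange_strict mdata basesM 59 2124 (by decide +kernel)
theorem rel37 : relsRange mdata basesM 59 2183 = true := relsRange_strict mdata basesM 59 2183 (by decide +kernel)
theorem rel38 : relsRange mdata basesM 59 2242 = true := relsRange_strict mdata basesM 59 2242 (by decide +kernel)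
theorem rel39 : relsRange mdata basesM 59 2301 = true := relsRange_strict mdata basesM 59 2301 (by decide +kernel)
theorem rel40 : relsRange mdata basesM 59 2360 = true := relsRange_strict mdata basesM 59 2360 (by decide +kernel)
theorem rel41 : relsRange mdata basesM 59 2419 = true := relsRange_strict mdata basesM 59 2419 (by decide +kernel)

end Cfsg.Agent.Helper4.TC.G2KMod
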