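import Cfsg.Agent.Lib.Helper4.TC.G2KModModel
import Cfsg.Agent.Lib.Helper4.TC.Strict

set_option autoImplicit false
set_option maxRecDepth 100000
set_option linter.unusedVariables false
set_option Elab.async false

namespace Cfsg.Agent.Helper4.TC.G2KMod

open Cfsg.Agent.Helper4.TC

theorem rel42 : relsRange mdata basesM 59 2478 = true := relsRange_strict mdata basesM 59 2478 (by decide +kernel)
theorem rel43 : relsRange mdata basesM 59 2537 = true := relsRange_strict mdata basesM 59 2537 (by decide +kernel)
theorem rel44 : relsRange mdata basesM 59 2596 = true := relsRange_strict mdata basesM 59 2596 (by decide +kernel)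
theorem rel45 : relsRange mdata basesM 59 2655 = true := relsRange_strict mdata basesM 59 2655 (by decide +kernel)
theorem rel46 : relsRange mdata basesM 59 2714 = true := relsRange_strict mdata basesM 59 2714 (by decide +kernel)
theorem rel47 : relsRange mdata basesM 59 2773 = true := relsRange_strict mdata basesM 59 2773 (by decide +kernel)

end Cfsg.Agent.Helper4.TC.G2KMod
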