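import Cfsg.Agent.Lib.Helper4.TC.G2KModModel
import Cfsg.Agent.Lib.Helper4.TC.Strict

set_option autoImplicit false
set_option maxRecDepth 100000
set_option linter.unusedVariables false
set_option Elab.async false

namespace Cfsg.Agent.Helper4.TC.G2KMod

open Cfsg.Agent.Helper4.TC

theorem rel48 : relsRange mdata basesM 59 2832 = true := relsRange_strict mdata basesM 59 2832 (by decide +kernel)
theorem rel49 : relsRange mdata basesM 59 2891 = true := relsRange_strict mdata basesM 59 2891 (by decide +kernel)
theorem rel50 : relsRange mdata basesM 59 2950 = true := relsRange_strict mdata basesM 59 2950 (by decide +kernel)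
theorem rel51 : relsRange mdata basesM 59 3009 = true := relsRange_strict mdata basesM 59 3009 (by decide +kernel)
theorem rel52 : relsRange mdata basesM 59 3068 = true := relsRange_strict mdata basesM 59 3068 (by decide +kernel)
theorem rel53 : relsRange mdata basesM 59 3127 = true := relsRange_strict mdata basesM 59 3127 (by decide +kernel)

end Cfsg.Agent.Helper4.TC.G2KMod
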