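import Cfsg.Agent.Lib.Helper4.TC.G2KModModel
import Cfsg.Agent.Lib.Helper4.TC.Strict

set_option autoImplicit false
set_option maxRecDepth 100000
set_option linter.unusedVariables false
set_option Elab.async false

namespace Cfsg.Agent.Helper4.TC.G2KMod

open Cfsg.Agent.Helper4.TC

theorem rel54 : relsRange mdata basesM 59 3186 = true := relsRange_strict mdata basesM 59 3186 (by decide +kernel)
theorem rel55 : relsRange mdata basesM 59 3245 = true := relsRange_strict mdata basesM 59 3245 (by decide +kernel)
theorem rel56 : relsRange mdata basesM 59 3304 = true := relsRange_strict mdata basesM 59 3304 (by decide +kernel)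
theorem rel57 : relsRange mdata basesM 59 3363 = true := relsRange_strict mdata basesM 59 3363 (by decide +kernel)
theorem rel58 : relsRange mdata basesM 59 3422 = true := relsRange_strict mdata basesM 59 3422 (by decide +kernel)
theorem rel59 : relsRange mdata basesM 59 3481 = true := relsRange_strict mdata basesM 59 3481 (by decide +kernel)

end Cfsg.Agent.Helper4.TC.G2KMod
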