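import Cfsg.Agent.Lib.Helper4.TC.G2KModMC0
import Cfsg.Agent.Lib.Helper4.TC.G2KModMC1
import Cfsg.Agent.Lib.Helper4.TC.G2KModMC2
import Cfsg.Agent.Lib.Helper4.TC.G2KModMC3
import Cfsg.Agent.Lib.Helper4.TC.G2KModMC4
import Cfsg.Agent.Lib.Helper4.TC.G2KModMC5
import Cfsg.Agent.Lib.Helper4.TC.G2KModMC6
import Cfsg.Agent.Lib.Helper4.TC.G2KModMC7
import Cfsg.Agent.Lib.Helper4.TC.G2KModMC8
import Cfsg.Agent.Lib.Helper4.TC.G2KModMC9
import Cfsg.Agent.Lib.Helper4.TC.G2KModMC10
import Cfsg.Agent.Lib.Helper4.TC.G2KModMC11
import Cfsg.Agent.Lib.Helper4.TC.G2KModMC12
import Cfsg.Agent.Lib.Helper4.TC.G2KModMC13
import Cfsg.Agent.Lib.Helper4.TC.G2KModMC14
import Cfsg.Agent.Lib.Helper4.TC.G2KModMC15
import Cfsg.Agent.Lib.Helper4.TC.G2KModMC16
import Cfsg.Agent.Lib.Helper4.TC.G2KModMC17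
import Cfsg.Agent.Lib.Helper4.TC.G2KModMC18
import Cfsg.Agent.Lib.Helper4.TC.G2KModMC19
import Cfsg.Agent.Lib.Helper4.TC.G2KModMC20
import Cfsg.Agent.Lib.Helper4.TC.G2KModMC21
import Cfsg.Agent.Lib.Helper4.TC.G2KModMC22
import Cfsg.Agent.Lib.Helper4.TC.G2KModMC23
import Cfsg.Agent.Lib.Helper4.TC.Perm

set_option autoImplicit false
set_option maxRecDepth 100000
set_option linter.unusedVariables false

namespace Cfsg.Agent.Helper4.TC.G2KMod

open Cfsg.Agent.Helper4.TC

theorem model_ok : ModelOK mdata basesM [] := by
  refine ⟨by decide, ?_, ?_, wordsLettersOK_sound _ _ relc_ok, ?_, ?_, ?_⟩
  · intro k hk
    have hk' : k < 8064 := hk
    by_cases hh1 : k < 6666
    · skip
      exact invRange_sound mdata 6666 0 inv0 k (by omega) (by omega)
    · skip
      exact invRange_sound mdata 1398 6666 inv1 k (by omega) (by omega)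
  · intro k hk
    have hk' : k < 8064 := hk
    by_cases hh1 : k < 4012
    · skip
      by_cases hh2 : k < 2006
      · skip
        by_cases hh3 : k < 1003
        · skip
          by_cases hh4 : k < 472
          · skip
            by_cases hh5 : k < 236
            · skip
              by_cases hh6 : k < 118
              · skip
                by_cases hh7 : k < 59
                · skip
                  exact relsRange_sound mdata basesM 59 0 rel0 k (by omega) (by omega)
                · skip
                  exact relsRange_sound mdata basesM 59 59 rel1 k (by omega) (by omega)
              · skip
                by_cases hh8 : k < 177
                · skip
                  exact relsRange_sound mdata basesM 59 118 rel2 k (by omega) (by omega)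
                · skip
                  exact relsRange_sound mdata basesM 59 177 rel3 k (by omega) (by omega)
            · skip
              by_cases hh9 : k < 354
              · skip
                by_cases hh10 : k < 295
                · skip
                  exact relsRange_sound mdata basesM 59 236 rel4 k (by omega) (by omega)
                · skip
                  exact relsRange_sound mdata basesM 59 295 rel5 k (by omega) (by omega)
              · skip
                by_cases hh11 : k < 413
                · skip
                  exact relsRange_sound mdata basesM 59 354 rel6 k (by omega) (by omega)
                · skip
                  exact relsRange_sound mdata basesM 59 413 rel7 k (by omega) (by omega)
          · skip
            by_cases hh12 : k < 708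
            · skip
              by_cases hh13 : k < 590
              · skip
                by_cases hh14 : k < 531
                · skip
                  exact relsRange_sound mdata basesM 59 472 rel8 k (by omega) (by omega)
                · skip
                  exact relsRange_sound mdata basesM 59 531 rel9 k (by omega) (by omega)
              · skip
                by_cases hh15 : k < 649
                · skip
                  exact relsRange_sound mdata basesM 59 590 rel10 k (by omega) (by omega)
                · skip
                  exact relsRange_sound mdata basesM 59 649 rel11 k (by omega) (by omega)
            · skip
              by_cases hh16 : k < 826
              · skip
                by_cases hh17 : k < 767
                · skip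
                  exact relsRange_sound mdata basesM 59 708 rel12 k (by omega) (by omega)
                · skip
                  exact relsRange_sound mdata basesM 59 767 rel13 k (by omega) (by omega)
              · skip
                by_cases hh18 : k < 885
                · skip
                  exact relsRange_sound mdata basesM 59 826 rel14 k (by omega) (by omega)
                · skip
                  by_cases hh19 : k < 944
                  · skip
                    exact relsRange_sound mdata basesM 59 885 rel15 k (by omega) (by omega)
                  · skip
                    exact relsRange_sound mdata basesM 59 944 rel16 k (by omega) (by omega)
        · skip
          by_cases hh20 : k < 1475
          · skip
            by_cases hh21 : k < 1239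
            · skip
              by_cases hh22 : k < 1121
              · skip
                by_cases hh23 : k < 1062
                · skip
                  exact relsRange_sound mdata basesM 59 1003 rel17 k (by omega) (by omega)
                · skip
                  exact relsRange_sound mdata basesM 59 1062 rel18 k (by omega) (by omega)
              · skip
                by_cases hh24 : k < 1180
                · skip
                  exact relsRange_sound mdata basesM 59 1121 rel19 k (by omega) (by omega)
                · skip
                  exact relsRange_sound mdata basesM 59 1180 rel20 k (by omega) (by omega)
            · skip
              by_cases hh25 : k < 1357
              · skip
                by_cases hh26 : k < 1298
                · skip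
                  exact relsRange_sound mdata basesM 59 1239 rel21 k (by omega) (by omega)
                · skip
                  exact relsRange_sound mdata basesM 59 1298 rel22 k (by omega) (by omega)
              · skip
                by_cases hh27 : k < 1416
                · skip
                  exact relsRange_sound mdata basesM 59 1357 rel23 k (by omega) (by omega)
                · skip
                  exact relsRange_sound mdata basesM 59 1416 rel24 k (by omega) (by omega)
          · skip
            by_cases hh28 : k < 1711
            · skip
              by_cases hh29 : k < 1593
              · skip
                by_cases hh30 : k < 1534
                · skip
                  exact relsRange_sound mdata basesM 59 1475 rel25 k (by omega) (by omega)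
                · skip
                  exact relsRange_sound mdata basesM 59 1534 rel26 k (by omega) (by omega)
              · skip
                by_cases hh31 : k < 1652
                · skip
                  exact relsRange_sound mdata basesM 59 1593 rel27 k (by omega) (by omega)
                · skip
                  exact relsRange_sound mdata basesM 59 1652 rel28 k (by omega) (by omega)
            · skip
              by_cases hh32 : k < 1829
              · skip
                by_cases hh33 : k < 1770
                · skip
                  exact relsRange_sound mdata basesM 59 1711 rel29 k (by omega) (by omega)
                · skip
                  exact relsRange_sound mdata basesM 59 1770 rel30 k (by omega) (by omega)
              · skip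
                by_cases hh34 : k < 1888
                · skip
                  exact relsRange_sound mdata basesM 59 1829 rel31 k (by omega) (by omega)
                · skip
                  by_cases hh35 : k < 1947
                  · skip
                    exact relsRange_sound mdata basesM 59 1888 rel32 k (by omega) (by omega)
                  · skip
                    exact relsRange_sound mdata basesM 59 1947 rel33 k (by omega) (by omega)
      · skip
        by_cases hh36 : k < 3009
        · skip
          by_cases hh37 : k < 2478
          · skip
            by_cases hh38 : k < 2242
            · skip
              by_cases hh39 : k < 2124
              · skip
                by_cases hh40 : k < 2065
                · skip
                  exact relsRange_sound mdata basesM 59 2006 rel34 k (by omega) (by omega)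
                · skip
                  exact relsRange_sound mdata basesM 59 2065 rel35 k (by omega) (by omega)
              · skip
                by_cases hh41 : k < 2183
                · skip
                  exact relsRange_sound mdata basesM 59 2124 rel36 k (by omega) (by omega)
                · skip
                  exact relsRange_sound mdata basesM 59 2183 rel37 k (by omega) (by omega)
            · skip
              by_cases hh42 : k < 2360
              · skip
                by_cases hh43 : k < 2301
                · skip
                  exact relsRange_sound mdata basesM 59 2242 rel38 k (by omega) (by omega)
                · skip
                  exact relsRange_sound mdata basesM 59 2301 rel39 k (by omega) (by omega)
              · skip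
                by_cases hh44 : k < 2419
                · skip
                  exact relsRange_sound mdata basesM 59 2360 rel40 k (by omega) (by omega)
                · skip
                  exact relsRange_sound mdata basesM 59 2419 rel41 k (by omega) (by omega)
          · skip
            by_cases hh45 : k < 2714
            · skip
              by_cases hh46 : k < 2596
              · skip
                by_cases hh47 : k < 2537
                · skip
                  exact relsRange_sound mdata basesM 59 2478 rel42 k (by omega) (by omega)
                · skip
                  exact relsRange_sound mdata basesM 59 2537 rel43 k (by omega) (by omega)
              · skip
                by_cases hh48 : k < 2655
                · skip
                  exact relsRange_sound mdata basesM 59 2596 rel44 k (by omega) (by omega)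
                · skip
                  exact relsRange_sound mdata basesM 59 2655 rel45 k (by omega) (by omega)
            · skip
              by_cases hh49 : k < 2832
              · skip
                by_cases hh50 : k < 2773
                · skip
                  exact relsRange_sound mdata basesM 59 2714 rel46 k (by omega) (by omega)
                · skip
                  exact relsRange_sound mdata basesM 59 2773 rel47 k (by omega) (by omega)
              · skip
                by_cases hh51 : k < 2891
                · skip
                  exact relsRange_sound mdata basesM 59 2832 rel48 k (by omega) (by omega)
                · skip
                  by_cases hh52 : k < 2950
                  · skip
                    exact relsRange_sound mdata basesM 59 2891 rel49 k (by omega) (by omega)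
                  · skip
                    exact relsRange_sound mdata basesM 59 2950 rel50 k (by omega) (by omega)
        · skip
          by_cases hh53 : k < 3481
          · skip
            by_cases hh54 : k < 3245
            · skip
              by_cases hh55 : k < 3127
              · skip
                by_cases hh56 : k < 3068
                · skip
                  exact relsRange_sound mdata basesM 59 3009 rel51 k (by omega) (by omega)
                · skip
                  exact relsRange_sound mdata basesM 59 3068 rel52 k (by omega) (by omega)
              · skip
                by_cases hh57 : k < 3186
                · skip
                  exact relsRange_sound mdata basesM 59 3127 rel53 k (by omega) (by omega)
                · skip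
                  exact relsRange_sound mdata basesM 59 3186 rel54 k (by omega) (by omega)
            · skip
              by_cases hh58 : k < 3363
              · skip
                by_cases hh59 : k < 3304
                · skip
                  exact relsRange_sound mdata basesM 59 3245 rel55 k (by omega) (by omega)
                · skip
                  exact relsRange_sound mdata basesM 59 3304 rel56 k (by omega) (by omega)
              · skip
                by_cases hh60 : k < 3422
                · skip
                  exact relsRange_sound mdata basesM 59 3363 rel57 k (by omega) (by omega)
                · skip
                  exact relsRange_sound mdata basesM 59 3422 rel58 k (by omega) (by omega)
          · skip
            by_cases hh61 : k < 3717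
            · skip
              by_cases hh62 : k < 3599
              · skip
                by_cases hh63 : k < 3540
                · skip
                  exact relsRange_sound mdata basesM 59 3481 rel59 k (by omega) (by omega)
                · skip
                  exact relsRange_sound mdata basesM 59 3540 rel60 k (by omega) (by omega)
              · skip
                by_cases hh64 : k < 3658
                · skip
                  exact relsRange_sound mdata basesM 59 3599 rel61 k (by omega) (by omega)
                · skip
                  exact relsRange_sound mdata basesM 59 3658 rel62 k (by omega) (by omega)
            · skip
              by_cases hh65 : k < 3835
              · skip
                by_cases hh66 : k < 3776
                · skip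
                  exact relsRange_sound mdata basesM 59 3717 rel63 k (by omega) (by omega)
                · skip
                  exact relsRange_sound mdata basesM 59 3776 rel64 k (by omega) (by omega)
              · skip
                by_cases hh67 : k < 3894
                · skip
                  exact relsRange_sound mdata basesM 59 3835 rel65 k (by omega) (by omega)
                · skip
                  by_cases hh68 : k < 3953
                  · skip
                    exact relsRange_sound mdata basesM 59 3894 rel66 k (by omega) (by omega)
                  · skip
                    exact relsRange_sound mdata basesM 59 3953 rel67 k (by omega) (by omega)
    · skip
      by_cases hh69 : k < 6018
      · skip
        by_cases hh70 : k < 5015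
        · skip
          by_cases hh71 : k < 4484
          · skip
            by_cases hh72 : k < 4248
            · skip
              by_cases hh73 : k < 4130
              · skip
                by_cases hh74 : k < 4071
                · skip
                  exact relsRange_sound mdata basesM 59 4012 rel68 k (by omega) (by omega)
                · skip
                  exact relsRange_sound mdata basesM 59 4071 rel69 k (by omega) (by omega)
              · skip
                by_cases hh75 : k < 4189
                · skip
                  exact relsRange_sound mdata basesM 59 4130 rel70 k (by omega) (by omega)
                · skip
                  exact relsRange_sound mdata basesM 59 4189 rel71 k (by omega) (by omega)
            · skip
              by_cases hh76 : k < 4366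
              · skip
                by_cases hh77 : k < 4307
                · skip
                  exact relsRange_sound mdata basesM 59 4248 rel72 k (by omega) (by omega)
                · skip
                  exact relsRange_sound mdata basesM 59 4307 rel73 k (by omega) (by omega)
              · skip
                by_cases hh78 : k < 4425
                · skip
                  exact relsRange_sound mdata basesM 59 4366 rel74 k (by omega) (by omega)
                · skip
                  exact relsRange_sound mdata basesM 59 4425 rel75 k (by omega) (by omega)
          · skip
            by_cases hh79 : k < 4720
            · skip
              by_cases hh80 : k < 4602
              · skip
                by_cases hh81 : k < 4543
                · skip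
                  exact relsRange_sound mdata basesM 59 4484 rel76 k (by omega) (by omega)
                · skip
                  exact relsRange_sound mdata basesM 59 4543 rel77 k (by omega) (by omega)
              · skip
                by_cases hh82 : k < 4661
                · skip
                  exact relsRange_sound mdata basesM 59 4602 rel78 k (by omega) (by omega)
                · skip
                  exact relsRange_sound mdata basesM 59 4661 rel79 k (by omega) (by omega)
            · skip
              by_cases hh83 : k < 4838
              · skip
                by_cases hh84 : k < 4779
                · skip
                  exact relsRange_sound mdata basesM 59 4720 rel80 k (by omega) (by omega)
                · skip
                  exact relsRange_sound mdata basesM 59 4779 rel81 k (by omega) (by omega)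
              · skip
                by_cases hh85 : k < 4897
                · skip
                  exact relsRange_sound mdata basesM 59 4838 rel82 k (by omega) (by omega)
                · skip
                  by_cases hh86 : k < 4956
                  · skip
                    exact relsRange_sound mdata basesM 59 4897 rel83 k (by omega) (by omega)
                  · skip
                    exact relsRange_sound mdata basesM 59 4956 rel84 k (by omega) (by omega)
        · skip
          by_cases hh87 : k < 5487
          · skip
            by_cases hh88 : k < 5251
            · skip
              by_cases hh89 : k < 5133
              · skip
                by_cases hh90 : k < 5074
                · skip
                  exact relsRange_sound mdata basesM 59 5015 rel85 k (by omega) (by omega)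
                · skip
                  exact relsRange_sound mdata basesM 59 5074 rel86 k (by omega) (by omega)
              · skip
                by_cases hh91 : k < 5192
                · skip
                  exact relsRange_sound mdata basesM 59 5133 rel87 k (by omega) (by omega)
                · skip
                  exact relsRange_sound mdata basesM 59 5192 rel88 k (by omega) (by omega)
            · skip
              by_cases hh92 : k < 5369
              · skip
                by_cases hh93 : k < 5310
                · skip
                  exact relsRange_sound mdata basesM 59 5251 rel89 k (by omega) (by omega)
                · skip
                  exact relsRange_sound mdata basesM 59 5310 rel90 k (by omega) (by omega)
              · skip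
                by_cases hh94 : k < 5428
                · skip
                  exact relsRange_sound mdata basesM 59 5369 rel91 k (by omega) (by omega)
                · skip
                  exact relsRange_sound mdata basesM 59 5428 rel92 k (by omega) (by omega)
          · skip
            by_cases hh95 : k < 5723
            · skip
              by_cases hh96 : k < 5605
              · skip
                by_cases hh97 : k < 5546
                · skip
                  exact relsRange_sound mdata basesM 59 5487 rel93 k (by omega) (by omega)
                · skip
                  exact relsRange_sound mdata basesM 59 5546 rel94 k (by omega) (by omega)
              · skip
                by_cases hh98 : k < 5664
                · skip
                  exact relsRange_sound mdata basesM 59 5605 rel95 k (by omega) (by omega)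
                · skip
                  exact relsRange_sound mdata basesM 59 5664 rel96 k (by omega) (by omega)
            · skip
              by_cases hh99 : k < 5841
              · skip
                by_cases hh100 : k < 5782
                · skip
                  exact relsRange_sound mdata basesM 59 5723 rel97 k (by omega) (by omega)
                · skip
                  exact relsRange_sound mdata basesM 59 5782 rel98 k (by omega) (by omega)
              · skip
                by_cases hh101 : k < 5900
                · skip
                  exact relsRange_sound mdata basesM 59 5841 rel99 k (by omega) (by omega)
                · skip
                  by_cases hh102 : k < 5959
                  · skip
                    exact relsRange_sound mdata basesM 59 5900 rel100 k (by omega) (by omega)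
                  · skip
                    exact relsRange_sound mdata basesM 59 5959 rel101 k (by omega) (by omega)
      · skip
        by_cases hh103 : k < 7021
        · skip
          by_cases hh104 : k < 6490
          · skip
            by_cases hh105 : k < 6254
            · skip
              by_cases hh106 : k < 6136
              · skip
                by_cases hh107 : k < 6077
                · skip
                  exact relsRange_sound mdata basesM 59 6018 rel102 k (by omega) (by omega)
                · skip
                  exact relsRange_sound mdata basesM 59 6077 rel103 k (by omega) (by omega)
              · skip
                by_cases hh108 : k < 6195
                · skip
                  exact relsRange_sound mdata basesM 59 6136 rel104 k (by omega) (by omega)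
                · skip
                  exact relsRange_sound mdata basesM 59 6195 rel105 k (by omega) (by omega)
            · skip
              by_cases hh109 : k < 6372
              · skip
                by_cases hh110 : k < 6313
                · skip
                  exact relsRange_sound mdata basesM 59 6254 rel106 k (by omega) (by omega)
                · skip
                  exact relsRange_sound mdata basesM 59 6313 rel107 k (by omega) (by omega)
              · skip
                by_cases hh111 : k < 6431
                · skip
                  exact relsRange_sound mdata basesM 59 6372 rel108 k (by omega) (by omega)
                · skip
                  exact relsRange_sound mdata basesM 59 6431 rel109 k (by omega) (by omega)
          · skip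
            by_cases hh112 : k < 6726
            · skip
              by_cases hh113 : k < 6608
              · skip
                by_cases hh114 : k < 6549
                · skip
                  exact relsRange_sound mdata basesM 59 6490 rel110 k (by omega) (by omega)
                · skip
                  exact relsRange_sound mdata basesM 59 6549 rel111 k (by omega) (by omega)
              · skip
                by_cases hh115 : k < 6667
                · skip
                  exact relsRange_sound mdata basesM 59 6608 rel112 k (by omega) (by omega)
                · skip
                  exact relsRange_sound mdata basesM 59 6667 rel113 k (by omega) (by omega)
            · skip
              by_cases hh116 : k < 6844
              · skip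
                by_cases hh117 : k < 6785
                · skip
                  exact relsRange_sound mdata basesM 59 6726 rel114 k (by omega) (by omega)
                · skip
                  exact relsRange_sound mdata basesM 59 6785 rel115 k (by omega) (by omega)
              · skip
                by_cases hh118 : k < 6903
                · skip
                  exact relsRange_sound mdata basesM 59 6844 rel116 k (by omega) (by omega)
                · skip
                  by_cases hh119 : k < 6962
                  · skip
                    exact relsRange_sound mdata basesM 59 6903 rel117 k (by omega) (by omega)
                  · skip
                    exact relsRange_sound mdata basesM 59 6962 rel118 k (by omega) (by omega)
        · skip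
          by_cases hh120 : k < 7552
          · skip
            by_cases hh121 : k < 7257
            · skip
              by_cases hh122 : k < 7139
              · skip
                by_cases hh123 : k < 7080
                · skip
                  exact relsRange_sound mdata basesM 59 7021 rel119 k (by omega) (by omega)
                · skip
                  exact relsRange_sound mdata basesM 59 7080 rel120 k (by omega) (by omega)
              · skip
                by_cases hh124 : k < 7198
                · skip
                  exact relsRange_sound mdata basesM 59 7139 rel121 k (by omega) (by omega)
                · skip
                  exact relsRange_sound mdata basesM 59 7198 rel122 k (by omega) (by omega)
            · skip
              by_cases hh125 : k < 7375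
              · skip
                by_cases hh126 : k < 7316
                · skip
                  exact relsRange_sound mdata basesM 59 7257 rel123 k (by omega) (by omega)
                · skip
                  exact relsRange_sound mdata basesM 59 7316 rel124 k (by omega) (by omega)
              · skip
                by_cases hh127 : k < 7434
                · skip
                  exact relsRange_sound mdata basesM 59 7375 rel125 k (by omega) (by omega)
                · skip
                  by_cases hh128 : k < 7493
                  · skip
                    exact relsRange_sound mdata basesM 59 7434 rel126 k (by omega) (by omega)
                  · skip
                    exact relsRange_sound mdata basesM 59 7493 rel127 k (by omega) (by omega)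
          · skip
            by_cases hh129 : k < 7788
            · skip
              by_cases hh130 : k < 7670
              · skip
                by_cases hh131 : k < 7611
                · skip
                  exact relsRange_sound mdata basesM 59 7552 rel128 k (by omega) (by omega)
                · skip
                  exact relsRange_sound mdata basesM 59 7611 rel129 k (by omega) (by omega)
              · skip
                by_cases hh132 : k < 7729
                · skip
                  exact relsRange_sound mdata basesM 59 7670 rel130 k (by omega) (by omega)
                · skip
                  exact relsRange_sound mdata basesM 59 7729 rel131 k (by omega) (by omega)
            · skip
              by_cases hh133 : k < 7906
              · skip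
                by_cases hh134 : k < 7847
                · skip
                  exact relsRange_sound mdata basesM 59 7788 rel132 k (by omega) (by omega)
                · skip
                  exact relsRange_sound mdata basesM 59 7847 rel133 k (by omega) (by omega)
              · skip
                by_cases hh135 : k < 7965
                · skip
                  exact relsRange_sound mdata basesM 59 7906 rel134 k (by omega) (by omega)
                · skip
                  by_cases hh136 : k < 8024
                  · skip
                    exact relsRange_sound mdata basesM 59 7965 rel135 k (by omega) (by omega)
                  · skip
                    exact relsRange_sound mdata basesM 40 8024 rel136 k (by omega) (by omega)
  · intro s hs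
    cases hs
  · intro s hs
    cases hs
  · intro k h1 h2
    have h2' : k < 1 + (8064 - 1) := h2
    exact treeRange_sound mdata 8063 1 tree0 k (by omega) (by omega)

end Cfsg.Agent.Helper4.TC.G2KMod
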