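import Cfsg.Agent.Lib.Helper4.TC.G2KSchur
import Cfsg.Agent.Lib.Helper4.TC.G2KModGlue
import Cfsg.Agent.Lib.Helper4.TC.Cover
import Cfsg.Agent.Lib.Helper4.TC.MatGL

set_option autoImplicit false
set_option maxRecDepth 100000
set_option linter.unusedVariables false
set_option linter.style.haveILetI false

/-! The group with the weak relators is a stem extension of the group of order 251596800 with
kernel of order two: the central word `rho0` is not trivial in it, by a permutation model on 8064
points. -/

namespace Cfsg.Agent.Helper4.TC.G2KEx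

open Cfsg Cfsg.Agent.Helper4.TC Cfsg.Agent.Helper4.TC.G2KIso
open Cfsg.Agent.Helper4.Pres.HeK (Gen)

/-- the group with the weak relators -/
abbrev RW : Set (FreeGroup Gen) :=
  relSet decK (G2KSD.exL ++ Schur.weakify0 G2KSD.g4 G2KSD.ceL)
abbrev PW : Type := PresentedGroup RW

theorem card_PW : Finite PW ∧ Nat.card PW ≤ 503193600 := by
  have h := G2KSD.card4
  rw [G2KSD.hb4] at h
  exact h

instance : Finite PW := card_PW.1

theorem relW_one (b : List ℕ) (hb : b ∈ G2KSD.exL ++ Schur.weakify0 G2KSD.g4 G2KSD.ceL) :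
    evc (PresentedGroup.of (rels := RW)) decK b = 1 := by
  rw [evc_of]
  exact PresentedGroup.one_of_mem (mem_relSet _ b hb)

/-! ### the homomorphism onto the group -/

theorem exists_tau : ∃ τ : PW →* P, ∀ x, τ (PresentedGroup.of x) = PresentedGroup.of x :=
  Schur.exists_hom_weak0 HeKCod.coding (⊥ : Subgroup P) bot_le (PresentedGroup.of (rels := RP))
    G2KSD.exL G2KSD.ceL G2KSD.g4
    (fun b hb => G2KSchur.rel_one b (G2KSchur.mem_allL_of_exL b hb))
    (fun ρ hρ => by
      rw [Subgroup.mem_bot]
      exact G2KSchur.rel_one ρ (G2KSchur.mem_allL_of_ceL ρ hρ))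

/-! ### the permutation model -/

noncomputable abbrev nM : ℕ := G2KMod.mdata.n

noncomputable def fM : Gen → Equiv.Perm (Fin nM) := permG G2KMod.model_ok HeKCod.coding

theorem hword (b : List ℕ) (hb : ∀ c ∈ b, c < 8) (k : Fin nM) :
    (evc fM decK b k).val = mtrace G2KMod.mdata b k.val :=
  evc_permG_apply G2KMod.model_ok HeKCod.coding b hb k

theorem relM_one (b : List ℕ) (hb : b ∈ G2KMod.basesM) : evc fM decK b = 1 := by
  apply Equiv.ext
  intro k
  apply Fin.ext
  rw [hword b (G2KMod.model_ok.relc b hb) k, G2KMod.model_ok.rel k.val k.2 b hb]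
  rfl

theorem hexM : ∀ b ∈ G2KSD.exL, b ∈ G2KMod.basesM := by decide +kernel

theorem hceM : ∀ ρ ∈ G2KSD.ceL,
    ρ ∈ G2KMod.basesM ∨ (ρ ++ invW G2KMod.rho0) ∈ G2KMod.basesM := by decide +kernel

theorem hcoM : ∀ b ∈ Schur.weakify0 G2KSD.g4 [G2KMod.rho0], b ∈ G2KMod.basesM := by
  decide +kernel

theorem hrho0 : G2KMod.rho0 ∈ G2KSD.ceL := by decide +kernel

/-- the central involution of the model -/
noncomputable def zM : Equiv.Perm (Fin nM) := evc fM decK G2KMod.rho0

theorem zM_ne_one : zM ≠ 1 := by
  intro h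
  have h0 : mtrace G2KMod.mdata G2KMod.rho0 0 ≠ 0 := by decide +kernel
  apply h0
  have h1 := hword G2KMod.rho0 (by decide) ⟨0, G2KMod.model_ok.npos⟩
  have h2 : evc fM decK G2KMod.rho0 = 1 := h
  rw [h2] at h1
  exact h1.symm

/-- a commutator word which is trivial: the two elements commute -/
theorem commute_of_comm_word {Q : Type*} [Group Q] (f : Gen → Q) (x ρ : List ℕ)
    (h : evc f decK (invW x ++ invW ρ ++ x ++ ρ) = 1) :
    evc f decK ρ * evc f decK x = evc f decK x * evc f decK ρ := by
  rw [evc_append, evc_append, evc_append, evc_invW f HeKCod.coding,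
    evc_invW f HeKCod.coding] at h
  have h2 : evc f decK ρ * evc f decK x * (evc f decK ρ)⁻¹ * (evc f decK x)⁻¹ = 1 := by
    rw [← h]
    group
  calc evc f decK ρ * evc f decK x
      = (evc f decK ρ * evc f decK x * (evc f decK ρ)⁻¹ * (evc f decK x)⁻¹) *
          (evc f decK x * evc f decK ρ) := by group
    _ = evc f decK x * evc f decK ρ := by rw [h2, one_mul]

theorem evc_letter {Q : Type*} [Group Q] (f : Gen → Q) (c : ℕ) :
    evc f decK [c] = gl f (decK c) := by
  rw [evc_cons, evc_nil, one_mul]

/-- the words of the generators -/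
def gw : Gen → List ℕ
  | .p => [0]
  | .q => [2]
  | .r => [4]
  | .s => [6]

theorem evc_gw {Q : Type*} [Group Q] (f : Gen → Q) (k : Gen) : evc f decK (gw k) = f k := by
  cases k <;> rw [gw, evc_letter] <;> rfl

theorem gw_mem (k : Gen) : gw k ∈ G2KSD.g4 := by
  cases k <;> decide

theorem comm_word_mem (k : Gen) (ρ : List ℕ) (L : List (List ℕ)) (hρ : ρ ∈ L) :
    invW (gw k) ++ invW ρ ++ gw k ++ ρ ∈ Schur.weakify0 G2KSD.g4 L := by
  unfold Schur.weakify0
  exact List.mem_flatMap.mpr ⟨ρ, hρ, List.mem_map.mpr ⟨gw k, gw_mem k, rfl⟩⟩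

theorem zM_comm (k : Gen) : zM * fM k = fM k * zM := by
  have h := commute_of_comm_word fM (gw k) G2KMod.rho0
    (relM_one _ (hcoM _ (comm_word_mem k G2KMod.rho0 [G2KMod.rho0] List.mem_cons_self)))
  rw [evc_gw] at h
  exact h

/-- the centralizer of the central involution -/
noncomputable abbrev Δ : Subgroup (Equiv.Perm (Fin nM)) := Subgroup.centralizer {zM}

noncomputable def fΔ (k : Gen) : Δ :=
  ⟨fM k, by
    rw [Subgroup.mem_centralizer_iff]
    intro h hh
    rw [Set.mem_singleton_iff.mp hh]
    exact zM_comm k⟩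

noncomputable def zΔ : Δ :=
  ⟨zM, by
    rw [Subgroup.mem_centralizer_iff]
    intro h hh
    rw [Set.mem_singleton_iff.mp hh]⟩

theorem zΔ_center : zΔ ∈ Subgroup.center Δ := by
  rw [Subgroup.mem_center_iff]
  intro g
  apply Subtype.ext
  show (g : Equiv.Perm (Fin nM)) * zM = zM * g
  have h := Subgroup.mem_centralizer_iff.mp g.2 zM (Set.mem_singleton _)
  exact h.symm

theorem coe_evc_fΔ (b : List ℕ) : ((evc fΔ decK b : Δ) : Equiv.Perm (Fin nM)) = evc fM decK b := by
  have h := Schur.map_evc (dec := decK) (Subgroup.subtype Δ) fΔ b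
  exact h

theorem exists_phi : ∃ φ : PW →* Δ, ∀ x, φ (PresentedGroup.of x) = fΔ x := by
  refine Schur.exists_hom_weak0 HeKCod.coding (Subgroup.zpowers zΔ)
    (Subgroup.zpowers_le.mpr zΔ_center) fΔ G2KSD.exL G2KSD.ceL G2KSD.g4 ?_ ?_
  · intro b hb
    apply Subtype.ext
    rw [coe_evc_fΔ]
    exact relM_one b (hexM b hb)
  · intro ρ hρ
    rcases hceM ρ hρ with h | h
    · have h1 : evc fΔ decK ρ = 1 := by
        apply Subtype.ext
        rw [coe_evc_fΔ]
        exact relM_one ρ h
      rw [h1]
      exact Subgroup.one_mem _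
    · have h1 : evc fΔ decK ρ = zΔ := by
        apply Subtype.ext
        rw [coe_evc_fΔ]
        have h2 := relM_one _ h
        rw [evc_append, evc_invW fM HeKCod.coding] at h2
        show evc fM decK ρ = zM
        exact (inv_mul_eq_one.mp h2).symm
      rw [h1]
      exact Subgroup.mem_zpowers zΔ

/-- the central element of the group with the weak relators -/
noncomputable def zW : PW := PresentedGroup.mk RW (wordF decK G2KMod.rho0)

theorem zW_ne_one : zW ≠ 1 := by
  obtain ⟨φ, hφ⟩ := exists_phi
  intro h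
  have h1 : φ zW = 1 := by rw [h, map_one]
  unfold zW at h1
  rw [hom_word] at h1
  have h2 : (fun x => φ (PresentedGroup.of x)) = fΔ := funext hφ
  rw [h2] at h1
  have h3 := congrArg Subtype.val h1
  rw [coe_evc_fΔ] at h3
  exact zM_ne_one h3

theorem zW_comm (k : Gen) : zW * PresentedGroup.of k = PresentedGroup.of k * zW := by
  have h := commute_of_comm_word (PresentedGroup.of (rels := RW)) (gw k) G2KMod.rho0
    (relW_one _ (List.mem_append_right _ (comm_word_mem k G2KMod.rho0 G2KSD.ceL hrho0)))
  rw [evc_gw, evc_of] at h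
  exact h

theorem zW_center : zW ∈ Subgroup.center PW := by
  have h : (⊤ : Subgroup PW) ≤ Subgroup.centralizer {zW} := by
    rw [← PresentedGroup.closure_range_of RW, Subgroup.closure_le]
    rintro _ ⟨k, rfl⟩
    rw [SetLike.mem_coe, Subgroup.mem_centralizer_iff]
    intro h hh
    rw [Set.mem_singleton_iff.mp hh]
    exact zW_comm k
  rw [Subgroup.mem_center_iff]
  intro g
  have hg := Subgroup.mem_centralizer_iff.mp (h (Subgroup.mem_top g)) zW (Set.mem_singleton _)
  exact hg.symm

theorem of_pow7 (k : Gen) : (PresentedGroup.of k : PW) ^ 7 = 1 := by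
  cases k
  · have h := relW_one (wpow [0] 7) (List.mem_append_left _ (by decide))
    rw [G2KSchur.evc_pow7] at h
    exact h
  · have h := relW_one (wpow [2] 7) (List.mem_append_left _ (by decide))
    rw [G2KSchur.evc_pow7] at h
    exact h
  · have h := relW_one (wpow [4] 7) (List.mem_append_left _ (by decide))
    rw [G2KSchur.evc_pow7] at h
    exact h
  · have h := relW_one (wpow [6] 7) (List.mem_append_left _ (by decide))
    rw [G2KSchur.evc_pow7] at h
    exact h

theorem commutator_eq_top_of_equiv {A B : Type*} [Group A] [Group B] (e : A ≃* B)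
    (h : commutator A = ⊤) : commutator B = ⊤ := by
  have h1 : (commutator A).map e.toMonoidHom = commutator B := by
    rw [commutator_def, Subgroup.map_commutator,
      Subgroup.map_top_of_surjective _ e.surjective, ← commutator_def]
  rw [← h1, h, Subgroup.map_top_of_surjective _ e.surjective]

theorem perfect_P : commutator P = ⊤ := by
  haveI : IsSimpleGroup H := G24PS.main.1
  have hna : ∃ a b : H, a * b ≠ b * a :=
    not_comm_of_simple_of_not_prime (by rw [G24PS.main.2]; norm_num)
  exact commutator_eq_top_of_equiv iso (commutator_eq_top_of_simple hna)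

/-- the group with the weak relators is a stem extension with kernel of order two -/
theorem exists_stem : ∃ τ : PW →* P, IsStemExtension τ ∧ Nat.card τ.ker = 2 := by
  obtain ⟨τ, hτ⟩ := exists_tau
  have hsurj : Function.Surjective τ := by
    rw [← MonoidHom.range_eq_top, eq_top_iff, ← PresentedGroup.closure_range_of RP,
      Subgroup.closure_le]
    rintro _ ⟨k, rfl⟩
    exact ⟨PresentedGroup.of k, hτ k⟩
  have hzker : zW ∈ τ.ker := by
    rw [MonoidHom.mem_ker]
    unfold zW
    rw [hom_word]
    have h2 : (fun x => τ (PresentedGroup.of x)) = PresentedGroup.of (rels := RP) := funext hτ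
    rw [h2]
    exact G2KSchur.rel_one _ (G2KSchur.mem_allL_of_ceL _ hrho0)
  -- the order of the kernel
  have hcard : Nat.card τ.ker = 2 := by
    have h1 := SchurTwo.card_eq_ker_mul τ hsurj
    have h2 := card_PW.2
    rw [h1, card_P] at h2
    have hle : Nat.card τ.ker ≤ 2 := by omega
    have hge : 2 ≤ Nat.card τ.ker := by
      by_contra hlt
      push Not at hlt
      have hpos : 0 < Nat.card τ.ker := Nat.card_pos
      have h1' : Nat.card τ.ker = 1 := by omega
      have hbot := Subgroup.card_eq_one.mp h1'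
      rw [hbot, Subgroup.mem_bot] at hzker
      exact zW_ne_one hzker
    omega
  haveI : Fact (Nat.Prime 2) := ⟨Nat.prime_two⟩
  -- the kernel is generated by the central element
  have hmem : ∀ k ∈ τ.ker, k ∈ Subgroup.zpowers zW := by
    intro k hk
    have hne : (⟨zW, hzker⟩ : τ.ker) ≠ 1 := fun h => zW_ne_one (congrArg Subtype.val h)
    have h := mem_zpowers_of_prime_card (G := τ.ker) hcard hne (g' := ⟨k, hk⟩)
    obtain ⟨n, hn⟩ := Subgroup.mem_zpowers_iff.mp h
    refine Subgroup.mem_zpowers_iff.mpr ⟨n, ?_⟩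
    have := congrArg Subtype.val hn
    rwa [Subgroup.coe_zpow] at this
  have hzsq : zW ^ 2 = 1 := by
    have h : (⟨zW, hzker⟩ : τ.ker) ^ Nat.card τ.ker = 1 := pow_card_eq_one'
    rw [hcard] at h
    have := congrArg Subtype.val h
    rwa [Subgroup.coe_pow] at this
  -- the central element is a product of commutators
  have hzC : zW ∈ commutator PW := by
    by_contra hz
    have hgen : ∀ k : Gen, (PresentedGroup.of k : PW) ∈ commutator PW := by
      intro k
      have h1 : τ (PresentedGroup.of k) ∈ (commutator PW).map τ := by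
        rw [commutator_def, Subgroup.map_commutator, Subgroup.map_top_of_surjective _ hsurj,
          ← commutator_def, perfect_P]
        trivial
      obtain ⟨c, hc, hck⟩ := h1
      have h2 : PresentedGroup.of k * c⁻¹ ∈ τ.ker := by
        rw [MonoidHom.mem_ker, map_mul, map_inv, hck, mul_inv_cancel]
      obtain ⟨n, hn⟩ := Subgroup.mem_zpowers_iff.mp (hmem _ h2)
      have hk : (PresentedGroup.of k : PW) = zW ^ n * c := by
        rw [hn]
        group
      have hcomm : Commute (zW ^ n) c :=
        (Subgroup.mem_center_iff.mp (Subgroup.zpow_mem _ zW_center n) c).symm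
      have h7 : (zW ^ n) ^ 7 * c ^ 7 = 1 := by
        rw [← hcomm.mul_pow, ← hk]
        exact of_pow7 k
      -- the seventh power of a power of the central element is this power
      have h2n : (zW ^ n) ^ 2 = 1 := by
        rw [← zpow_natCast (zW ^ n) 2, ← zpow_mul, mul_comm, zpow_mul, zpow_natCast, hzsq,
          one_zpow]
      have h8 : zW ^ n = (c ^ 7)⁻¹ := by
        have : (zW ^ n) ^ 7 = zW ^ n := by
          rw [show 7 = 2 * 3 + 1 from rfl, pow_succ, pow_mul, h2n, one_pow, one_mul]
        rw [this] at h7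
        exact eq_inv_of_mul_eq_one_left h7
      rw [hk, h8]
      exact (commutator PW).mul_mem ((commutator PW).inv_mem ((commutator PW).pow_mem hc 7)) hc
    have htop : commutator PW = ⊤ := by
      rw [eq_top_iff, ← PresentedGroup.closure_range_of RW, Subgroup.closure_le]
      rintro _ ⟨k, rfl⟩
      exact hgen k
    apply hz
    rw [htop]
    trivial
  refine ⟨τ, ⟨hsurj, ?_, ?_⟩, hcard⟩
  · intro k hk
    obtain ⟨n, hn⟩ := Subgroup.mem_zpowers_iff.mp (hmem k hk)
    rw [← hn]
    exact Subgroup.zpow_mem _ zW_center n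
  · intro k hk
    obtain ⟨n, hn⟩ := Subgroup.mem_zpowers_iff.mp (hmem k hk)
    rw [← hn]
    exact Subgroup.zpow_mem _ hzC n

end Cfsg.Agent.Helper4.TC.G2KEx
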