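import Cfsg.Agent.Lib.Helper4.TC.G2KEx
import Cfsg.Agent.Lib.Helper4.TC.G24Iso
import Cfsg.Agent.Lib.Helper8.ChevFld1

set_option autoImplicit false
set_option maxRecDepth 100000
set_option linter.unusedVariables false
set_option linter.style.haveILetI false

/-! The Schur multiplier of the Chevalley group of type `G₂` over a field with four elements is
cyclic of order two. -/

namespace Cfsg.Agent.Helper4.TC.G2KMain

open Cfsg Cfsg.Lie Cfsg.Agent.Helper4.TC Cfsg.Agent.Lib.Helper6.FFour

/-- base change of the Chevalley group along an isomorphism of fields -/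
theorem nonempty_g2_equiv {F F' : Type*} [Field F] [Field F'] (e : F ≃+* F') :
    Nonempty (↥(chevG2.group F) ≃* ↥(chevG2.group F')) := by
  let f : ↥(chevG2.group F) →* ↥(chevG2.group F') :=
    ((Cfsg.Agent.Lib.Helper8.Chev.bc chevG2 e.toRingHom).comp (chevG2.group F).subtype).codRestrict
      (chevG2.group F') fun g => Cfsg.Agent.Lib.Helper8.Chev.bc_mem_group e.toRingHom g.2
  let f' : ↥(chevG2.group F') →* ↥(chevG2.group F) :=
    ((Cfsg.Agent.Lib.Helper8.Chev.bc chevG2 e.symm.toRingHom).comp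
      (chevG2.group F').subtype).codRestrict
      (chevG2.group F) fun g => Cfsg.Agent.Lib.Helper8.Chev.bc_mem_group e.symm.toRingHom g.2
  refine ⟨MulEquiv.ofBijective f ⟨?_, ?_⟩⟩
  · intro g g' h
    apply Subtype.ext
    apply Cfsg.Agent.Lib.Helper8.Chev.bc_injective (D := chevG2) e.toRingHom
    exact congrArg Subtype.val h
  · intro g
    refine ⟨f' g, ?_⟩
    apply Subtype.ext
    apply Units.ext
    show ((((g : GL chevG2.Idx F') : Matrix chevG2.Idx chevG2.Idx F').map e.symm.toRingHom).map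
      e.toRingHom) = ((g : GL chevG2.Idx F') : Matrix chevG2.Idx chevG2.Idx F')
    ext i j
    simp

theorem main {F : Type*} [Field F] [Fintype F] (hF : Fintype.card F = 4) :
    Cfsg.HasCyclicSchurMultiplier ↥(Cfsg.Lie.chevG2.group F) 2 := by
  have eF : F ≃+* K4 := FiniteField.ringEquivOfCardEq (by rw [hF]; decide)
  obtain ⟨e0⟩ := nonempty_g2_equiv eF
  obtain ⟨e1⟩ := G24Iso.iso
  let e : ↥(chevG2.group F) ≃* G2KIso.P := e0.trans (e1.symm.trans G2KIso.iso)
  obtain ⟨τ, hτ, hcard⟩ := G2KEx.exists_stem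
  exact SchurTwo.hasCyclicSchurMultiplier_two_of_iso e
    ⟨G2KEx.PW, inferInstance, inferInstance, τ, hτ, hcard⟩
    (fun Γ _ _ σ hσ => G2KSchur.card_ker_le σ hσ)

end Cfsg.Agent.Helper4.TC.G2KMain
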