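import Cfsg.Agent.Lib.Helper4.TC.G2KModModel
import Cfsg.Agent.Lib.Helper4.TC.Strict

set_option autoImplicit false
set_option maxRecDepth 100000
set_option linter.unusedVariables false
set_option Elab.async false

namespace Cfsg.Agent.Helper4.TC.G2KMod

open Cfsg.Agent.Helper4.TC

theorem rel102 : relsRange mdata basesM 59 6018 = true := relsRange_strict mdata basesM 59 6018 (by decide +kernel)
theorem rel103 : relsRange mdata basesM 59 6077 = true := relsRange_strict mdata basesM 59 6077 (by decide +kernel)
theorem rel104 : relsRange mdata basesM 59 6136 = true := relsRange_strict mdata basesM 59 6136 (by decide +kernel)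
theorem rel105 : relsRange mdata basesM 59 6195 = true := relsRange_strict mdata basesM 59 6195 (by decide +kernel)
theorem rel106 : relsRange mdata basesM 59 6254 = true := relsRange_strict mdata basesM 59 6254 (by decide +kernel)
theorem rel107 : relsRange mdata basesM 59 6313 = true := relsRange_strict mdata basesM 59 6313 (by decide +kernel)

end Cfsg.Agent.Helper4.TC.G2KMod
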