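import Cfsg.Agent.Lib.Helper4.TC.G2KS4D
import Cfsg.Agent.Lib.Helper4.TC.Strict

set_option autoImplicit false
set_option maxRecDepth 100000
set_option linter.unusedVariables false
set_option Elab.async false

namespace Cfsg.Agent.Helper4.TC.G2KS4

open Cfsg.Agent.Helper4.TC

theorem e7_c0 : edgeRange data 7 19576 0 = true := edgeRange_strict data 7 19576 0 (by decide +kernel)
theorem e7_c1 : edgeRange data 7 15737 19576 = true := edgeRange_strict data 7 15737 19576 (by decide +kernel)
theorem e7_c2 : edgeRange data 7 21307 35313 = true := edgeRange_strict data 7 21307 35313 (by decide +kernel)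
theorem e7_c3 : edgeRange data 7 8916 56620 = true := edgeRange_strict data 7 8916 56620 (by decide +kernel)

end Cfsg.Agent.Helper4.TC.G2KS4
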