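import Cfsg.Agent.Lib.Helper4.TC.G2KS4D
import Cfsg.Agent.Lib.Helper4.TC.Strict

set_option autoImplicit false
set_option maxRecDepth 100000
set_option linter.unusedVariables false
set_option Elab.async false

namespace Cfsg.Agent.Helper4.TC.G2KS4

open Cfsg.Agent.Helper4.TC

theorem cnt0 : countFinal data 50000 0 0 = 416 := countFinal_strict data 50000 0 0 416 (by decide +kernel)
theorem cnt1 : countFinal data 5885 50000 0 = 0 := countFinal_strict data 5885 50000 0 0 (by decide +kernel)
theorem rows0 : rowsRange data 55885 40016 0 = true := rowsRange_strict data 55885 40016 0 (by decide +kernel)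
theorem rows1 : rowsRange data 55885 15869 40016 = true := rowsRange_strict data 55885 15869 40016 (by decide +kernel)

end Cfsg.Agent.Helper4.TC.G2KS4
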