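import Cfsg.Agent.Lib.Helper4.TC.Main

set_option autoImplicit false
set_option linter.unusedVariables false
set_option linter.unusedSectionVars false
set_option linter.style.haveILetI false

/-! The static check of the words of a coset enumeration certificate with many relators: the
relators are looked up through a function (a search tree) instead of a list. -/

namespace Cfsg.Agent.Helper4.TC

/-- the rotations, with the relators given by a function -/
def rotsOKF (d : Data) (baseW : ℕ → List ℕ) (nb : ℕ) : List (ℕ × ℕ) → ℕ → Bool
  | [], _ => true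
  | r :: rs, i =>
    Nat.blt r.1 nb && decide (d.relW i = (baseW r.1).rotate r.2) && lettersOK d.nc (d.relW i) &&
      rotsOKF d baseW nb rs (i + 1)

/-- the function gives the relators of the list -/
def basesOKF (baseW : ℕ → List ℕ) : List (List ℕ) → ℕ → Bool
  | [], _ => true
  | b :: bs, i => decide (baseW i = b) && basesOKF baseW bs (i + 1)

def wordsCheckF (d : Data) (baseW : ℕ → List ℕ) (nb : ℕ) (bases subsL : List (List ℕ))
    (rots : List (ℕ × ℕ)) : Bool :=
  Nat.beq bases.length nb && basesOKF baseW bases 0 && Nat.beq rots.length d.nrot &&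
    Nat.beq subsL.length d.nsub && rotsOKF d baseW nb rots 0 && subsOK d subsL 0

theorem basesOKF_sound (baseW : ℕ → List ℕ) (bs : List (List ℕ)) (i : ℕ)
    (h : basesOKF baseW bs i = true) : ∀ j, j < bs.length → bs.getD j [] = baseW (i + j) := by
  induction bs generalizing i with
  | nil => intro j hj; simp at hj
  | cons b bs ih =>
    unfold basesOKF at h
    simp only [Bool.and_eq_true] at h
    intro j hj
    cases j with
    | zero =>
      rw [List.getD_cons_zero, Nat.add_zero]
      exact (of_decide_eq_true h.1).symm
    | succ j =>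
      rw [List.getD_cons_succ, ih (i + 1) h.2 j (by simpa using hj)]
      congr 1
      omega

theorem rotsOK_of_F (d : Data) (baseW : ℕ → List ℕ) (bases : List (List ℕ))
    (hb : ∀ j, j < bases.length → bases.getD j [] = baseW j) (rots : List (ℕ × ℕ)) (i : ℕ)
    (h : rotsOKF d baseW bases.length rots i = true) : rotsOK d bases rots i = true := by
  induction rots generalizing i with
  | nil => rfl
  | cons r rs ih =>
    unfold rotsOKF at h
    simp only [Bool.and_eq_true] at h
    obtain ⟨⟨⟨h1, h2⟩, h3⟩, h4⟩ := h
    have hlt : r.1 < bases.length := Nat.blt_eq.mp h1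
    unfold rotsOK
    simp only [Bool.and_eq_true]
    refine ⟨⟨?_, h3⟩, ih _ h4⟩
    rw [hb _ hlt]
    exact h2

theorem wordsCheck_of_F (d : Data) (baseW : ℕ → List ℕ) (nb : ℕ) (bases subsL : List (List ℕ))
    (rots : List (ℕ × ℕ)) (h : wordsCheckF d baseW nb bases subsL rots = true) :
    wordsCheck d bases subsL rots = true := by
  unfold wordsCheckF at h
  simp only [Bool.and_eq_true] at h
  obtain ⟨⟨⟨⟨⟨h1, h2⟩, h3⟩, h4⟩, h5⟩, h6⟩ := h
  have hnb : bases.length = nb := Nat.eq_of_beq_eq_true h1
  subst hnb
  have hb : ∀ j, j < bases.length → bases.getD j [] = baseW j := by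
    intro j hj
    rw [basesOKF_sound baseW bases 0 h2 j hj, Nat.zero_add]
  unfold wordsCheck
  simp only [Bool.and_eq_true]
  exact ⟨⟨⟨h3, h4⟩, rotsOK_of_F d baseW bases hb rots 0 h5⟩, h6⟩

end Cfsg.Agent.Helper4.TC
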