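import Cfsg.Agent.Lib.Helper4.TC.G2KS4D
import Cfsg.Agent.Lib.Helper4.TC.Main2

set_option autoImplicit false
set_option maxRecDepth 100000
set_option linter.unusedVariables false

namespace Cfsg.Agent.Helper4.TC.G2KS4

open Cfsg.Agent.Helper4.TC

theorem words_okF : wordsCheckF data baseW 768 bases subsL rots = true := by decide +kernel
theorem words_ok : wordsCheck data bases subsL rots = true := wordsCheck_of_F data baseW 768 bases subsL rots words_okF
theorem fin0_ok : isFinal data 0 = true := by decide +kernel

end Cfsg.Agent.Helper4.TC.G2KS4
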