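import Cfsg.Agent.Lib.Helper4.TC.Perm
import Cfsg.Agent.Lib.Helper4.TC.HeKCod
import Cfsg.Agent.Lib.Helper4.TC.G2KS4Fin
import Cfsg.Agent.Lib.Helper4.TC.G2KS4CM
import Cfsg.Agent.Lib.Helper4.TC.G2KS4CE0
import Cfsg.Agent.Lib.Helper4.TC.G2KS4CE1
import Cfsg.Agent.Lib.Helper4.TC.G2KS4CE2
import Cfsg.Agent.Lib.Helper4.TC.G2KS4CE3
import Cfsg.Agent.Lib.Helper4.TC.G2KS4CE4
import Cfsg.Agent.Lib.Helper4.TC.G2KS4CE5
import Cfsg.Agent.Lib.Helper4.TC.G2KS4CE6
import Cfsg.Agent.Lib.Helper4.TC.G2KS4CE7
import Cfsg.Agent.Lib.Helper4.TC.G2KS4CF0

set_option autoImplicit false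
set_option maxRecDepth 100000
set_option linter.unusedVariables false

namespace Cfsg.Agent.Helper4.TC.G2KS4

open Cfsg.Agent.Helper4.TC

theorem allE0 : ∀ k, k < 65536 → justE data 0 k = true := by
  intro k hk
  by_cases hh1 : k < 33911
  · skip
    by_cases hh2 : k < 18392
    · skip
      exact edgeRange_sound data 0 18392 0 e0_c0 k (by omega) (by omega)
    · skip
      exact edgeRange_sound data 0 15519 18392 e0_c1 k (by omega) (by omega)
  · skip
    by_cases hh3 : k < 49290
    · skip
      exact edgeRange_sound data 0 15379 33911 e0_c2 k (by omega) (by omega)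
    · skip
      exact edgeRange_sound data 0 16246 49290 e0_c3 k (by omega) (by omega)

theorem allE1 : ∀ k, k < 65536 → justE data 1 k = true := by
  intro k hk
  by_cases hh1 : k < 31900
  · skip
    by_cases hh2 : k < 17644
    · skip
      exact edgeRange_sound data 1 17644 0 e1_c0 k (by omega) (by omega)
    · skip
      exact edgeRange_sound data 1 14256 17644 e1_c1 k (by omega) (by omega)
  · skip
    by_cases hh3 : k < 46849
    · skip
      exact edgeRange_sound data 1 14949 31900 e1_c2 k (by omega) (by omega)
    · skip
      exact edgeRange_sound data 1 18687 46849 e1_c3 k (by omega) (by omega)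

theorem allE2 : ∀ k, k < 65536 → justE data 2 k = true := by
  intro k hk
  by_cases hh1 : k < 30756
  · skip
    by_cases hh2 : k < 16684
    · skip
      exact edgeRange_sound data 2 16684 0 e2_c0 k (by omega) (by omega)
    · skip
      exact edgeRange_sound data 2 14072 16684 e2_c1 k (by omega) (by omega)
  · skip
    by_cases hh3 : k < 45449
    · skip
      exact edgeRange_sound data 2 14693 30756 e2_c2 k (by omega) (by omega)
    · skip
      exact edgeRange_sound data 2 20087 45449 e2_c3 k (by omega) (by omega)

theorem allE3 : ∀ k, k < 65536 → justE data 3 k = true := by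
  intro k hk
  by_cases hh1 : k < 32227
  · skip
    by_cases hh2 : k < 17613
    · skip
      exact edgeRange_sound data 3 17613 0 e3_c0 k (by omega) (by omega)
    · skip
      exact edgeRange_sound data 3 14614 17613 e3_c1 k (by omega) (by omega)
  · skip
    by_cases hh3 : k < 46967
    · skip
      exact edgeRange_sound data 3 14740 32227 e3_c2 k (by omega) (by omega)
    · skip
      exact edgeRange_sound data 3 18569 46967 e3_c3 k (by omega) (by omega)

theorem allE4 : ∀ k, k < 65536 → justE data 4 k = true := by
  intro k hk
  by_cases hh1 : k < 34323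
  · skip
    by_cases hh2 : k < 19148
    · skip
      exact edgeRange_sound data 4 19148 0 e4_c0 k (by omega) (by omega)
    · skip
      exact edgeRange_sound data 4 15175 19148 e4_c1 k (by omega) (by omega)
  · skip
    by_cases hh3 : k < 51253
    · skip
      exact edgeRange_sound data 4 16930 34323 e4_c2 k (by omega) (by omega)
    · skip
      exact edgeRange_sound data 4 14283 51253 e4_c3 k (by omega) (by omega)

theorem allE5 : ∀ k, k < 65536 → justE data 5 k = true := by
  intro k hk
  by_cases hh1 : k < 34608
  · skip
    by_cases hh2 : k < 19478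
    · skip
      exact edgeRange_sound data 5 19478 0 e5_c0 k (by omega) (by omega)
    · skip
      exact edgeRange_sound data 5 15130 19478 e5_c1 k (by omega) (by omega)
  · skip
    by_cases hh3 : k < 50722
    · skip
      exact edgeRange_sound data 5 16114 34608 e5_c2 k (by omega) (by omega)
    · skip
      exact edgeRange_sound data 5 14814 50722 e5_c3 k (by omega) (by omega)

theorem allE6 : ∀ k, k < 65536 → justE data 6 k = true := by
  intro k hk
  by_cases hh1 : k < 38033
  · skip
    by_cases hh2 : k < 20557
    · skip
      exact edgeRange_sound data 6 20557 0 e6_c0 k (by omega) (by omega)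
    · skip
      exact edgeRange_sound data 6 17476 20557 e6_c1 k (by omega) (by omega)
  · skip
    by_cases hh3 : k < 60744
    · skip
      exact edgeRange_sound data 6 22711 38033 e6_c2 k (by omega) (by omega)
    · skip
      exact edgeRange_sound data 6 4792 60744 e6_c3 k (by omega) (by omega)

theorem allE7 : ∀ k, k < 65536 → justE data 7 k = true := by
  intro k hk
  by_cases hh1 : k < 35313
  · skip
    by_cases hh2 : k < 19576
    · skip
      exact edgeRange_sound data 7 19576 0 e7_c0 k (by omega) (by omega)
    · skip
      exact edgeRange_sound data 7 15737 19576 e7_c1 k (by omega) (by omega)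
  · skip
    by_cases hh3 : k < 56620
    · skip
      exact edgeRange_sound data 7 21307 35313 e7_c2 k (by omega) (by omega)
    · skip
      exact edgeRange_sound data 7 8916 56620 e7_c3 k (by omega) (by omega)

theorem allE : ∀ c k, c < data.nc → k ≤ data.mask → justE data c k = true := by
  intro c k hc hk
  have hc' : c < 8 := hc
  have hk' : k < 65536 := Nat.lt_succ_of_le hk
  interval_cases c
  · exact allE0 k hk'
  · exact allE1 k hk'
  · exact allE2 k hk'
  · exact allE3 k hk'
  · exact allE4 k hk'
  · exact allE5 k hk'
  · exact allE6 k hk'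
  · exact allE7 k hk'

theorem allM : ∀ k, k ≤ data.mask → justM data k = true := by
  intro k hk
  have hk' : k < 65536 := Nat.lt_succ_of_le hk
  by_cases hh1 : k < 44254
  · skip
    by_cases hh2 : k < 21392
    · skip
      exact mergeRange_sound data 21392 0 m_c0 k (by omega) (by omega)
    · skip
      by_cases hh3 : k < 35220
      · skip
        exact mergeRange_sound data 13828 21392 m_c1 k (by omega) (by omega)
      · skip
        exact mergeRange_sound data 9034 35220 m_c2 k (by omega) (by omega)
  · skip
    by_cases hh4 : k < 50794
    · skip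
      exact mergeRange_sound data 6540 44254 m_c3 k (by omega) (by omega)
    · skip
      by_cases hh5 : k < 64114
      · skip
        exact mergeRange_sound data 13320 50794 m_c4 k (by omega) (by omega)
      · skip
        exact mergeRange_sound data 1422 64114 m_c5 k (by omega) (by omega)

theorem rows_all : ∀ k, k < M → isFinal data k = true → rowOK data M k data.nc = true := by
  intro k hk
  have hk' : k < 55885 := hk
  by_cases hh1 : k < 40016
  · skip
    exact rowsRange_sound data M 40016 0 rows0 k (by omega) (by omega)
  · skip
    exact rowsRange_sound data M 15869 40016 rows1 k (by omega) (by omega)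

theorem cnt_ok : countFinal data M 0 0 = n := by
  have c0 : countFinal data 50000 0 0 = 416 := cnt0
  have c1 : countFinal data (50000 + 5885) 0 0 = 416 + 0 :=
    countFinal_split data (50000) 5885 0 50000 (416) 0 (by norm_num) c0 cnt1
  have e1 : 50000 + 5885 = M := by norm_num [M]
  have e2 : 416 + 0 = n := by norm_num [n]
  rw [← e1, ← e2]
  exact c1

/-- the index of the subgroup generated by `subsL` in the group with relators `bases` -/
theorem bound : Finite (PresentedGroup (relSet HeKCod.dec bases) ⧸ (Subgroup.closure (relSet HeKCod.dec subsL)).map (PresentedGroup.mk (relSet HeKCod.dec bases))) ∧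
    Nat.card (PresentedGroup (relSet HeKCod.dec bases) ⧸ (Subgroup.closure (relSet HeKCod.dec subsL)).map (PresentedGroup.mk (relSet HeKCod.dec bases))) ≤ n :=
  tc_bound data bases subsL rots HeKCod.coding (mem_relSet bases) (mem_relSet subsL) words_ok allE allM M n fin0_ok (by decide) (by decide) cnt_ok rows_all

end Cfsg.Agent.Helper4.TC.G2KS4
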