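import Cfsg.Agent.Lib.Helper4.TC.G2KS4B
import Cfsg.Agent.Lib.Helper4.TC.G2KS3B
import Cfsg.Agent.Lib.Helper4.TC.G2KS2B
import Cfsg.Agent.Lib.Helper4.TC.G2KS1B
import Cfsg.Agent.Lib.Helper4.TC.Schur3
import Cfsg.Agent.Lib.Helper4.TC.PresG24

set_option autoImplicit false
set_option maxRecDepth 100000
set_option linter.unusedVariables false

namespace Cfsg.Agent.Helper4.TC.G2KSD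

open Cfsg.Agent.Helper4.TC

/-- the relators which hold exactly for the lifts: products of two conjugates of powers of generators -/
def exD : List (List ℕ × ℕ × ℕ × List ℕ × ℕ × ℕ) := [([2, 0, 3, 3, 0, 2, 0, 3], 0, 1, [], 1, 2),
  ([1, 1, 2, 2, 1, 2, 2, 0, 0, 3], 0, 1, [], 2, 1),
  ([3, 3, 5, 5, 0, 2], 4, 1, [], 1, 2),
  ([4, 2, 7, 5, 2, 5, 5, 3], 6, 1, [], 3, 2)]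
def pwL : List (List ℕ) := [[0, 0, 0, 0, 0, 0, 0],
  [2, 2, 2, 2, 2, 2, 2],
  [4, 4, 4, 4, 4, 4, 4],
  [6, 6, 6, 6, 6, 6, 6]]
def exL : List (List ℕ) := pwL ++ exD.map Schur.pairW
def ceL : List (List ℕ) := [[0, 2, 0, 2, 0, 2],
  [0, 0, 2, 2, 0, 0, 2, 2],
  [0, 3, 0, 3, 0, 3, 0, 3],
  [0, 0, 2, 1, 3, 1, 3, 0, 2, 2],
  [0, 0, 2, 2, 0, 3, 1, 3, 1, 2],
  [0, 0, 0, 0, 0, 0, 3, 1, 3, 1, 3],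
  [0, 0, 0, 0, 0, 3, 3, 1, 1, 3, 3],
  [0, 0, 2, 2, 0, 0, 3, 3, 3, 3, 3],
  [0, 2, 0, 2, 0, 3, 3, 3, 3, 3, 3],
  [0, 0, 2, 0, 2, 0, 0, 3, 0, 3, 0, 3],
  [0, 0, 2, 1, 3, 0, 2, 2, 0, 3, 1, 2],
  [0, 2, 0, 2, 1, 3, 0, 2, 0, 2, 1, 3],
  [0, 2, 0, 2, 2, 1, 2, 1, 2, 1, 2, 2],
  [0, 2, 0, 3, 1, 2, 0, 2, 0, 3, 1, 2],
  [0, 2, 1, 3, 0, 2, 1, 3, 0, 2, 1, 3],
  [0, 0, 0, 0, 0, 0, 2, 1, 2, 1, 2, 1, 2],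
  [0, 0, 0, 0, 0, 3, 0, 2, 0, 2, 1, 3, 3],
  [0, 0, 0, 0, 0, 3, 3, 1, 2, 0, 2, 0, 3],
  [0, 0, 0, 2, 1, 2, 0, 0, 3, 0, 2, 1, 3],
  [0, 0, 0, 3, 1, 2, 0, 3, 0, 0, 2, 1, 2],
  [0, 0, 2, 1, 3, 1, 3, 0, 3, 3, 3, 3, 3],
  [0, 0, 3, 3, 3, 3, 3, 0, 3, 1, 3, 1, 2],
  [0, 2, 1, 2, 2, 0, 3, 0, 2, 2, 2, 1, 3],
  [0, 2, 1, 3, 0, 3, 3, 1, 2, 1, 3, 3, 3],
  [0, 2, 2, 2, 2, 2, 2, 0, 3, 0, 3, 0, 3],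
  [0, 4, 3, 0, 4, 3],
  [0, 5, 0, 5, 0, 5],
  [0, 3, 0, 5, 2, 5, 2, 5],
  [0, 0, 2, 0, 5, 0, 3, 3, 1, 5],
  [0, 0, 2, 4, 1, 4, 3, 3, 1, 5],
  [0, 0, 3, 0, 3, 4, 1, 2, 4, 3],
  [0, 0, 3, 0, 5, 2, 5, 0, 4, 3],
  [0, 0, 4, 3, 0, 4, 0, 2, 0, 2],
  [0, 0, 5, 0, 3, 4, 3, 4, 4, 3],
  [0, 0, 5, 2, 1, 2, 5, 2, 4, 3],
  [0, 0, 5, 2, 4, 3, 0, 2, 4, 3],
  [0, 2, 0, 2, 2, 5, 1, 2, 5, 2],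
  [0, 2, 1, 2, 1, 4, 1, 2, 4, 3],
  [0, 2, 1, 2, 5, 0, 5, 2, 4, 3],
  [0, 2, 1, 4, 0, 2, 2, 1, 4, 2],
  [0, 2, 5, 0, 3, 0, 5, 0, 4, 3],
  [0, 2, 5, 0, 3, 4, 1, 4, 4, 3],
  [0, 2, 5, 2, 5, 2, 1, 2, 4, 3],
  [0, 3, 0, 3, 0, 5, 1, 2, 5, 3],
  [0, 3, 0, 3, 4, 1, 2, 1, 2, 5],
  [0, 3, 0, 3, 4, 3, 0, 3, 0, 5],
  [0, 3, 0, 3, 4, 3, 4, 3, 4, 3],
  [0, 3, 4, 1, 4, 1, 2, 5, 2, 5],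
  [0, 3, 4, 3, 4, 1, 2, 5, 0, 5],
  [0, 3, 5, 0, 4, 0, 3, 5, 0, 4],
  [0, 5, 6, 1, 6, 3, 4, 3],
  [0, 3, 4, 1, 2, 5, 0, 7, 0, 7],
  [0, 5, 2, 7, 4, 7, 2, 6, 5, 6],
  [0, 5, 0, 5, 0, 7, 7, 4, 7, 7],
  [0, 3, 7, 4, 7, 7, 0, 7, 2, 5],
  [0, 3, 4, 1, 6, 1, 6, 5],
  [0, 0, 3, 4, 7, 0, 7, 2, 4, 3],
  [0, 5, 2, 7, 4, 3, 4, 7],
  [0, 3, 0, 3, 7, 4, 7, 3, 0, 5],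
  [0, 5, 6, 3, 7, 4, 7, 1, 4, 7],
  [0, 3, 0, 3, 4, 1, 2, 6, 5, 6],
  [0, 3, 0, 3, 6, 1, 2, 1, 6, 3],
  [0, 3, 4, 7, 0, 7, 2, 1, 2, 5],
  [0, 2, 1, 4, 7, 2, 1, 6, 4, 3],
  [0, 4, 7, 2, 7, 0, 4, 7, 2, 7],
  [2, 6, 6, 6, 6, 6, 6, 2, 7],
  [0, 5, 0, 7, 0, 5, 0, 7],
  [0, 3, 0, 3, 6, 5, 6, 3, 0, 5],
  [4, 7, 7, 4, 7, 7],
  [0, 2, 6, 5, 6, 0, 5, 2, 4, 3],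
  [0, 3, 0, 3, 0, 5, 6, 5, 6, 3],
  [0, 3, 4, 3, 4, 3, 6, 5, 6, 3],
  [2, 7, 2, 7],
  [0, 3, 6, 1, 4, 3, 0, 5, 0, 7],
  [0, 5, 2, 6, 5, 6, 2, 6, 5, 6],
  [0, 0, 3, 6, 5, 0, 7, 0, 4, 3],
  [0, 0, 2, 2, 0, 0, 2, 6, 3, 6],
  [0, 3, 4, 3, 0, 7, 0, 3, 6, 5],
  [0, 5, 0, 7, 4, 1, 4, 7],
  [0, 0, 5, 6, 3, 4, 7, 2, 4, 3],
  [0, 4, 3, 0, 6, 1, 4, 7, 0, 5],
  [0, 7, 4, 7, 4, 3],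
  [0, 3, 4, 7, 2, 1, 6, 3, 0, 5],
  [0, 5, 0, 7, 4, 1, 6, 6, 5, 6],
  [0, 3, 0, 7, 0, 5, 7, 4, 7, 7],
  [0, 6, 5, 6, 4, 3],
  [0, 5, 0, 6, 5, 6, 6, 1, 4, 7],
  [4, 4, 6, 4, 4, 6, 4, 4, 6],
  [0, 2, 7, 4, 7, 0, 5, 2, 4, 3],
  [0, 3, 4, 7, 0, 7, 2, 6, 5, 6],
  [0, 3, 3, 4, 7, 0, 6, 3, 0, 3, 4, 0, 7],
  [0, 0, 2, 6, 3, 1, 3, 3, 6, 0, 2, 6, 3],
  [0, 5, 2, 6, 5, 7, 7, 7, 7, 7, 3, 4, 7],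
  [0, 2, 5, 2, 1, 6, 0, 7, 0, 3, 3, 4, 7],
  [0, 7, 4, 6, 5, 7, 5, 6, 6, 5, 7, 7, 3],
  [0, 3, 0, 7, 0, 6, 6, 6, 6, 6, 4, 7, 5],
  [0, 3, 4, 1, 6, 1, 7, 4, 6, 6, 6, 6, 6],
  [0, 0, 3, 3, 3, 3, 3, 0, 0, 6, 3, 6, 2],
  [0, 2, 0, 2, 2, 4, 4, 4, 4, 4, 6, 1, 6],
  [0, 7, 5, 7, 5, 5, 7, 5, 5, 7, 7, 4, 3],
  [0, 4, 2, 2, 2, 6, 3, 6, 2, 2, 0, 4, 3],
  [4, 4, 6, 4, 4, 6, 6, 6, 5, 6, 6, 4, 6],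
  [0, 5, 2, 5, 6, 1, 7, 7, 7, 7, 7, 5, 6],
  [0, 2, 6, 5, 1, 7, 2, 5, 5, 7, 7, 5, 7],
  [0, 0, 6, 5, 1, 3, 7, 1, 3, 7, 4, 2, 2],
  [0, 7, 4, 6, 4, 4, 4, 4, 4, 4, 6, 2, 7],
  [0, 0, 0, 0, 0, 0, 2, 7, 1, 2, 5, 5, 6],
  [0, 2, 4, 7, 2, 0, 2, 6, 1, 4, 0, 2, 6],
  [0, 5, 6, 5, 0, 7, 1, 2, 4, 4, 4, 4, 4],
  [0, 6, 6, 6, 6, 6, 6, 2, 5, 0, 7, 2, 5],
  [0, 3, 4, 1, 6, 1, 7, 7, 7, 7, 7, 7, 5],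
  [0, 3, 6, 3, 4, 7, 5, 5, 5, 5, 5, 5, 3],
  [0, 0, 0, 0, 0, 0, 6, 5, 2, 1, 6, 5, 2],
  [0, 0, 2, 2, 7, 1, 3, 7, 2, 0, 2, 6, 3],
  [0, 3, 5, 5, 5, 5, 5, 5, 1, 6, 1, 6, 5],
  [0, 4, 7, 2, 2, 0, 6, 2, 0, 6, 1, 4, 2],
  [0, 6, 3, 0, 7, 7, 5, 5, 7, 5, 5, 7, 3],
  [0, 0, 7, 0, 3, 3, 4, 3, 6, 5, 3, 4, 7],
  [0, 0, 0, 0, 0, 2, 5, 5, 2, 1, 6, 1, 6],
  [0, 5, 0, 7, 4, 1, 7, 7, 7, 7, 7, 5, 6],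
  [0, 2, 0, 2, 0, 3, 3, 3, 7, 2, 7, 3, 3],
  [0, 4, 6, 4, 4, 6, 4, 4, 6, 0, 5, 0, 5],
  [0, 4, 4, 4, 4, 4, 4, 6, 1, 4, 1, 6, 5],
  [0, 3, 3, 4, 3, 6, 5, 1, 6, 5, 2, 0, 7],
  [0, 2, 5, 0, 2, 7, 3, 3, 6, 1, 2, 0, 6],
  [0, 3, 3, 4, 3, 6, 5, 5, 6, 3, 4, 0, 7],
  [0, 5, 6, 5, 0, 5, 7, 4, 6, 6, 6, 6, 6],
  [0, 3, 7, 7, 7, 7, 7, 7, 5, 0, 7, 2, 5],
  [0, 0, 2, 6, 0, 2, 0, 3, 6, 0, 2, 2, 7],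
  [0, 0, 7, 0, 3, 5, 2, 1, 2, 7, 3, 4, 7],
  [0, 0, 5, 6, 2, 0, 6, 2, 0, 4, 7, 2, 2],
  [0, 3, 4, 4, 4, 0, 4, 6, 5, 2, 7, 3, 3],
  [0, 3, 0, 7, 0, 7, 1, 2, 4, 4, 4, 4, 4],
  [0, 6, 2, 4, 4, 3, 7, 4, 2, 7, 1, 3, 7],
  [0, 2, 2, 2, 2, 2, 2, 4, 1, 6, 1, 6, 5],
  [0, 6, 1, 6, 4, 2, 2, 2, 2, 4, 3, 4, 2],
  [0, 0, 0, 0, 0, 0, 3, 1, 7, 2, 7, 1, 3],
  [0, 2, 7, 5, 6, 2, 5, 5, 3, 7, 1, 6, 2],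
  [0, 0, 4, 0, 5, 2, 4, 4, 2, 7, 0, 7, 2],
  [0, 6, 5, 5, 3, 0, 6, 5, 5, 5, 7, 5, 3],
  [0, 2, 2, 2, 2, 2, 2, 6, 5, 0, 7, 2, 5],
  [0, 7, 4, 4, 4, 6, 4, 4, 6, 4, 4, 4, 3],
  [0, 3, 7, 7, 7, 7, 7, 7, 3, 4, 7, 4, 3],
  [0, 0, 2, 2, 7, 1, 3, 7, 1, 3, 1, 2, 7],
  [0, 2, 1, 6, 1, 3, 4, 3, 6, 5, 3, 4, 7],
  [0, 3, 4, 1, 6, 1, 6, 4, 4, 4, 4, 4, 4],
  [0, 4, 4, 4, 4, 4, 4, 0, 7, 0, 5, 0, 7],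
  [0, 4, 2, 2, 2, 2, 2, 2, 0, 4, 7, 2, 7],
  [0, 5, 0, 6, 6, 6, 6, 6, 6, 0, 5, 0, 7],
  [0, 2, 1, 6, 1, 5, 2, 1, 2, 7, 3, 4, 7],
  [0, 0, 0, 0, 0, 0, 6, 5, 0, 3, 4, 1, 6],
  [4, 4, 4, 6, 4, 4, 6, 4, 4, 7, 4, 7, 7],
  [0, 3, 6, 5, 0, 7, 3, 3, 3, 3, 3, 3, 5],
  [0, 3, 3, 4, 6, 0, 4, 1, 3, 4, 7, 7, 3],
  [0, 0, 0, 0, 0, 2, 5, 3, 7, 4, 7, 3, 4],
  [0, 0, 2, 2, 6, 3, 3, 1, 3, 6, 2, 0, 6],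
  [0, 3, 3, 4, 7, 0, 4, 3, 6, 5, 2, 0, 7],
  [0, 5, 6, 3, 4, 3, 5, 5, 5, 5, 5, 5, 7],
  [0, 2, 1, 6, 1, 3, 4, 7, 2, 5, 3, 4, 7],
  [0, 3, 0, 7, 0, 5, 7, 7, 7, 7, 7, 7, 5],
  [0, 0, 0, 0, 0, 0, 2, 7, 7, 4, 7, 5, 6],
  [0, 2, 7, 0, 7, 7, 5, 5, 7, 5, 5, 7, 3],
  [0, 0, 0, 0, 0, 0, 4, 3, 6, 1, 4, 7, 2],
  [0, 0, 7, 0, 3, 5, 2, 1, 6, 3, 3, 4, 7],
  [0, 3, 4, 7, 0, 3, 7, 7, 7, 7, 7, 5, 6],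
  [0, 3, 4, 4, 4, 0, 4, 6, 5, 6, 3, 3, 3],
  [0, 3, 4, 3, 5, 6, 3, 4, 0, 7, 0, 3, 7],
  [0, 5, 0, 5, 0, 6, 4, 4, 6, 4, 4, 6, 4],
  [0, 3, 6, 5, 0, 3, 7, 4, 6, 6, 6, 6, 6],
  [0, 0, 2, 2, 7, 1, 3, 3, 6, 0, 2, 6, 3],
  [0, 4, 2, 2, 6, 3, 6, 2, 2, 2, 0, 4, 3],
  [0, 6, 5, 6, 4, 2, 2, 6, 3, 6, 2, 2, 2],
  [0, 0, 2, 6, 3, 6, 0, 0, 3, 3, 3, 3, 3],
  [0, 0, 0, 0, 0, 0, 2, 5, 3, 6, 3, 4, 7],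
  [0, 0, 2, 6, 0, 2, 0, 7, 1, 3, 1, 6, 3],
  [0, 3, 4, 0, 7, 0, 3, 5, 2, 7, 4, 6, 3],
  [0, 5, 2, 7, 5, 5, 5, 5, 5, 5, 3, 4, 7],
  [0, 7, 5, 7, 5, 5, 7, 5, 5, 5, 6, 2, 7],
  [0, 5, 6, 1, 6, 3, 4, 2, 2, 2, 2, 2, 2],
  [0, 3, 3, 4, 6, 0, 4, 1, 3, 6, 6, 5, 3],
  [0, 7, 5, 7, 5, 5, 7, 5, 5, 5, 6, 6, 3],
  [0, 3, 4, 3, 5, 2, 7, 4, 2, 1, 6, 1, 7],
  [0, 2, 0, 3, 5, 6, 2, 0, 6, 2, 0, 6, 4],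
  [2, 6, 5, 7, 5, 6, 6, 5, 7, 7, 5, 2, 7],
  [0, 0, 4, 0, 5, 2, 4, 6, 1, 6, 3, 5, 2],
  [0, 3, 6, 5, 0, 6, 6, 6, 6, 6, 6, 2, 5],
  [0, 3, 4, 6, 6, 6, 6, 6, 6, 0, 3, 4, 7],
  [0, 0, 0, 0, 0, 0, 2, 1, 6, 1, 2, 1, 6],
  [0, 2, 2, 2, 2, 2, 2, 0, 7, 0, 3, 0, 7],
  [0, 6, 6, 4, 4, 6, 4, 4, 6, 4, 6, 4, 3]]
def g4 : List (List ℕ) := [[0], [2], [4], [6]]

/-- the generators as words in the six involutions of the presented group of order 251596800 -/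
def wups : Cfsg.Agent.Helper4.Pres.HeK.Gen → List ℕ
  | .p => [0, 2, 4, 2, 6, 4, 2, 8, 6]
  | .q => [0, 4, 2, 6, 4, 8, 6, 4, 2]
  | .r => [0, 2, 4, 2, 6, 4, 6, 2, 8]
  | .s => [0, 2, 4, 2, 6, 8, 10, 2]
/-- the six involutions as words in the generators -/
def vups : Cfsg.Agent.Helper4.Pres.G24.Gen → List ℕ
  | .a => [3, 5, 0, 0, 5, 0, 3, 1]
  | .b => [0, 2, 4, 4, 2, 2, 5, 2, 1, 1]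
  | .c => [2, 0, 5, 0, 0, 5, 0, 0]
  | .d => [4, 4, 0, 4, 2, 0, 5, 3]
  | .e => [2, 0, 5, 3, 3, 0, 5, 1, 1]
  | .f => [4, 0, 2, 4, 1, 7, 7, 3, 5, 0]

theorem hb4 : G2KS4.bases = exL ++ Schur.weakify0 g4 ceL := by decide +kernel

theorem card1 : Finite (PresentedGroup (relSet HeKCod.dec G2KS1.bases)) ∧ Nat.card (PresentedGroup (relSet HeKCod.dec G2KS1.bases)) ≤ 7 := by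
  refine stage_bot _ _ ?_ _ G2KS1.bound
  rintro s ⟨b, hb, _⟩
  simp [G2KS1.subsL] at hb

theorem card2 : Finite (PresentedGroup (relSet HeKCod.dec G2KS2.bases)) ∧ Nat.card (PresentedGroup (relSet HeKCod.dec G2KS2.bases)) ≤ 6048 := by
  have h := stage_bound (relSet HeKCod.dec G2KS2.bases) (relSet HeKCod.dec G2KS1.bases) (relSet HeKCod.dec G2KS2.subsL) G2KS2.bases G2KS1.bases G2KS2.subsL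
    (fun x : Cfsg.Agent.Helper4.Pres.HeK.Gen => decide (x ∈ ([.p] : List Cfsg.Agent.Helper4.Pres.HeK.Gen))) (mem_relSet _) (fun r hr => hr) (fun s hs => hs) (by decide +kernel) (by decide +kernel) G2KS2.n 7 G2KS2.bound card1
  exact ⟨h.1, h.2.trans (by decide)⟩

theorem card3 : Finite (PresentedGroup (relSet HeKCod.dec G2KS3.bases)) ∧ Nat.card (PresentedGroup (relSet HeKCod.dec G2KS3.bases)) ≤ 1209600 := by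
  have h := stage_bound (relSet HeKCod.dec G2KS3.bases) (relSet HeKCod.dec G2KS2.bases) (relSet HeKCod.dec G2KS3.subsL) G2KS3.bases G2KS2.bases G2KS3.subsL
    (fun x : Cfsg.Agent.Helper4.Pres.HeK.Gen => decide (x ∈ ([.p, .q] : List Cfsg.Agent.Helper4.Pres.HeK.Gen))) (mem_relSet _) (fun r hr => hr) (fun s hs => hs) (by decide +kernel) (by decide +kernel) G2KS3.n 6048 G2KS3.bound card2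
  exact ⟨h.1, h.2.trans (by decide)⟩

theorem card4 : Finite (PresentedGroup (relSet HeKCod.dec G2KS4.bases)) ∧ Nat.card (PresentedGroup (relSet HeKCod.dec G2KS4.bases)) ≤ 503193600 := by
  have h := stage_bound (relSet HeKCod.dec G2KS4.bases) (relSet HeKCod.dec G2KS3.bases) (relSet HeKCod.dec G2KS4.subsL) G2KS4.bases G2KS3.bases G2KS4.subsL
    (fun x : Cfsg.Agent.Helper4.Pres.HeK.Gen => decide (x ∈ ([.p, .q, .r] : List Cfsg.Agent.Helper4.Pres.HeK.Gen))) (mem_relSet _) (fun r hr => hr) (fun s hs => hs) (by decide +kernel) (by decide +kernel) G2KS4.n 1209600 G2KS4.bound card3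
  exact ⟨h.1, h.2.trans (by decide)⟩

end Cfsg.Agent.Helper4.TC.G2KSD
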