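import Cfsg.Agent.Lib.Helper4.TC.Schur2

set_option autoImplicit false
set_option linter.unusedVariables false
set_option linter.unusedSectionVars false
set_option linter.style.haveILetI false

/-! A Schur multiplier of order two: from a bound for the stem extensions with kernel of exponent
dividing 60 and one stem extension with kernel of order two. -/

namespace Cfsg.Agent.Helper4.TC.SchurTwo

open Cfsg Cfsg.Agent.Helper4.TC

universe u v

section Quot

variable {Γ : Type u} {G : Type v} [Group Γ] [Group G]

/-- the quotient of a stem extension by a subgroup of the kernel -/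
theorem stem_quotient [Finite Γ] (σ : Γ →* G) (hσ : IsStemExtension σ) (M : Subgroup Γ)
    (hMk : M ≤ σ.ker) :
    ∃ (Γ' : Type u) (_ : Group Γ') (_ : Finite Γ') (σ' : Γ' →* G), IsStemExtension σ' ∧
      Nat.card Γ' * Nat.card M = Nat.card Γ := by
  obtain ⟨hsurj, hcen, hcomm⟩ := hσ
  have hMc : M ≤ Subgroup.center Γ := hMk.trans hcen
  haveI : M.Normal := ⟨fun n hn g => by
    have h1 := Subgroup.mem_center_iff.mp (hMc hn) g
    rw [h1, mul_inv_cancel_right]
    exact hn⟩
  let σ' : Γ ⧸ M →* G := QuotientGroup.lift M σ hMk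
  have hσ' : ∀ g : Γ, σ' (QuotientGroup.mk g) = σ g := fun g => QuotientGroup.lift_mk M hMk g
  have hker : ∀ q ∈ σ'.ker, ∃ g ∈ σ.ker, (QuotientGroup.mk g : Γ ⧸ M) = q := by
    intro q hq
    obtain ⟨g, rfl⟩ := QuotientGroup.mk_surjective q
    refine ⟨g, ?_, rfl⟩
    rw [MonoidHom.mem_ker] at hq ⊢
    rw [← hσ' g]
    exact hq
  refine ⟨Γ ⧸ M, inferInstance, inferInstance, σ', ⟨?_, ?_, ?_⟩, ?_⟩
  · intro y
    obtain ⟨g, rfl⟩ := hsurj y
    exact ⟨QuotientGroup.mk g, hσ' g⟩
  · intro q hq
    obtain ⟨g, hg, rfl⟩ := hker q hq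
    rw [Subgroup.mem_center_iff]
    intro q2
    obtain ⟨g2, rfl⟩ := QuotientGroup.mk_surjective q2
    have h1 := Subgroup.mem_center_iff.mp (hcen hg) g2
    rw [← QuotientGroup.mk_mul, ← QuotientGroup.mk_mul, h1]
  · intro q hq
    obtain ⟨g, hg, rfl⟩ := hker q hq
    have h1 : g ∈ commutator Γ := hcomm hg
    have h2 : (QuotientGroup.mk' M) g ∈ (commutator Γ).map (QuotientGroup.mk' M) :=
      Subgroup.mem_map_of_mem _ h1
    rw [commutator_def, Subgroup.map_commutator,
      Subgroup.map_top_of_surjective _ (QuotientGroup.mk'_surjective M), ← commutator_def] at h2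
    exact h2
  · exact (Subgroup.card_eq_card_quotient_mul_card_subgroup M).symm

/-- the order of a finite extension -/
theorem card_eq_ker_mul [Finite Γ] (σ : Γ →* G) (hs : Function.Surjective σ) :
    Nat.card Γ = Nat.card σ.ker * Nat.card G := by
  rw [← Subgroup.card_mul_index σ.ker, Subgroup.index_ker, MonoidHom.range_eq_top.mpr hs,
    Subgroup.card_top]

end Quot

section Main

variable {P : Type} [Group P] [Finite P]

/-- the kernel of a stem extension has order at most two when the primes whose square divides the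
order of the group divide 60 and the stem extensions with kernel of exponent dividing 60 have at
most twice the order of the group -/
theorem card_ker_le_two
    (hbad : ∀ r : ℕ, r.Prime → 1 < (Nat.card P).factorization r → r ∣ 60)
    (hub : ∀ (Γ : Type) [Group Γ] [Finite Γ] (σ : Γ →* P), IsStemExtension σ →
      (∀ z ∈ σ.ker, z ^ 60 = 1) → Nat.card Γ ≤ 2 * Nat.card P)
    {Γ : Type} [Group Γ] [Finite Γ] (σ : Γ →* P) (hσ : IsStemExtension σ) :
    Nat.card σ.ker ≤ 2 := by
  classical
  have hPpos : 0 < Nat.card P := Nat.card_pos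
  -- the bound for the kernels of exponent dividing 60
  have hub' : ∀ (Γ' : Type) [Group Γ'] [Finite Γ'] (σ' : Γ' →* P), IsStemExtension σ' →
      (∀ z ∈ σ'.ker, z ^ 60 = 1) → Nat.card σ'.ker ≤ 2 := by
    intro Γ' _ _ σ' hσ' hexp
    have h1 := hub Γ' σ' hσ' hexp
    rw [card_eq_ker_mul σ' hσ'.1] at h1
    exact Nat.le_of_mul_le_mul_right h1 hPpos
  -- the odd primes do not divide the order of the kernel
  have hodd : ∀ r : ℕ, r.Prime → r ≠ 2 → ¬ r ∣ Nat.card σ.ker := by
    intro r hr hr2 hrdvd
    haveI : Fact r.Prime := ⟨hr⟩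
    by_cases hf : 1 < (Nat.card P).factorization r
    · obtain ⟨Γ', _, _, σ', hσ', hexp', z, hz, hz1⟩ := Schur.exists_stem_exponent σ hσ r hrdvd
      have h60 : ∀ z ∈ σ'.ker, z ^ 60 = 1 := by
        intro z hz
        obtain ⟨t, ht⟩ := hbad r hr hf
        rw [ht, pow_mul, hexp' z hz, one_pow]
      have hle := hub' Γ' σ' hσ' h60
      -- a non-trivial element of order `r` in a group of order at most two
      have hzo : orderOf (⟨z, hz⟩ : σ'.ker) = r := by
        refine orderOf_eq_prime ?_ ?_
        · apply Subtype.ext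
          rw [Subgroup.coe_pow]
          exact hexp' z hz
        · intro h
          exact hz1 (congrArg Subtype.val h)
      have hdv : r ∣ Nat.card σ'.ker := hzo ▸ orderOf_dvd_natCard _
      have hrle : r ≤ 2 := (Nat.le_of_dvd Nat.card_pos hdv).trans hle
      have := hr.two_le
      omega
    · refine Cfsg.Agent.S2117.not_dvd_of_sylow_trivial σ r ?_ hrdvd
      intro S a haS haker
      exact Schur.sylow_inter_ker_of_factorization_le_one σ hσ r (by omega) S a haS haker
  -- the order of the kernel is a power of two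
  have hpow : ∃ k, Nat.card σ.ker = 2 ^ k := by
    have hne : Nat.card σ.ker ≠ 0 := Nat.card_pos.ne'
    refine ⟨(Nat.card σ.ker).factorization 2, ?_⟩
    refine Nat.eq_pow_of_factorization_eq_single hne ?_
    ext r
    by_cases hr2 : r = 2
    · subst hr2
      simp
    · rw [Finsupp.single_apply, if_neg (Ne.symm hr2)]
      by_cases hr : r.Prime
      · exact Nat.factorization_eq_zero_of_not_dvd (hodd r hr hr2)
      · exact Nat.factorization_eq_zero_of_not_prime _ hr
  obtain ⟨k, hk⟩ := hpow
  by_contra hgt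
  push Not at hgt
  -- a subgroup of index four of the kernel
  have hk2 : 2 ≤ k := by
    by_contra hlt
    push Not at hlt
    interval_cases k
    · rw [pow_zero] at hk
      omega
    · rw [pow_one] at hk
      omega
  haveI : Fact (Nat.Prime 2) := ⟨Nat.prime_two⟩
  obtain ⟨K', hK'⟩ := Sylow.exists_subgroup_card_pow_prime (G := σ.ker) 2 (n := k - 2)
    (by rw [hk]; exact pow_dvd_pow 2 (by omega))
  let M : Subgroup Γ := K'.map σ.ker.subtype
  have hMk : M ≤ σ.ker := by
    rintro _ ⟨x, _, rfl⟩
    exact x.2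
  have hMcard : Nat.card M = 2 ^ (k - 2) := by
    rw [← hK']
    exact Nat.card_congr (K'.equivMapOfInjective _ σ.ker.subtype_injective).symm.toEquiv
  obtain ⟨Γ', _, _, σ', hσ', hcard⟩ := stem_quotient σ hσ M hMk
  have hker4 : Nat.card σ'.ker = 4 := by
    have h1 := card_eq_ker_mul σ hσ.1
    have h2 := card_eq_ker_mul σ' hσ'.1
    rw [h1, h2, hk, hMcard] at hcard
    have h3 : (2 : ℕ) ^ k = 4 * 2 ^ (k - 2) := by
      rw [show (4 : ℕ) = 2 ^ 2 from rfl, ← pow_add]
      congr 1
      omega
    rw [h3] at hcard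
    have h4 : Nat.card σ'.ker * (Nat.card P * 2 ^ (k - 2)) = 4 * (Nat.card P * 2 ^ (k - 2)) := by
      calc Nat.card σ'.ker * (Nat.card P * 2 ^ (k - 2))
          = Nat.card σ'.ker * Nat.card P * 2 ^ (k - 2) := by ring
        _ = 4 * 2 ^ (k - 2) * Nat.card P := hcard
        _ = 4 * (Nat.card P * 2 ^ (k - 2)) := by ring
    exact Nat.eq_of_mul_eq_mul_right (by positivity) h4
  have h60 : ∀ z ∈ σ'.ker, z ^ 60 = 1 := by
    intro z hz
    have h1 : (⟨z, hz⟩ : σ'.ker) ^ Nat.card σ'.ker = 1 := pow_card_eq_one'
    rw [hker4] at h1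
    have h2 : z ^ 4 = 1 := by
      have := congrArg Subtype.val h1
      rwa [Subgroup.coe_pow] at this
    rw [show 60 = 4 * 15 from rfl, pow_mul, h2, one_pow]
  have := hub' Γ' σ' hσ' h60
  omega

/-- a group of order at most two is an image of the cyclic group of order two -/
theorem exists_surjective_of_card_le_two {K : Type u} [Group K] [Finite K] (h : Nat.card K ≤ 2) :
    ∃ π : Multiplicative (ZMod 2) →* K, Function.Surjective π := by
  have hpos : 0 < Nat.card K := Nat.card_pos
  have h12 : Nat.card K = 1 ∨ Nat.card K = 2 := by omega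
  rcases h12 with h1 | h2
  · haveI : Subsingleton K := (Nat.card_eq_one_iff_unique.mp h1).1
    exact ⟨1, fun y => ⟨1, Subsingleton.elim _ _⟩⟩
  · haveI : Fact (Nat.Prime 2) := ⟨Nat.prime_two⟩
    have hc : IsCyclic K := isCyclic_of_prime_card h2
    have e := zmodCyclicMulEquiv hc
    rw [h2] at e
    exact ⟨e.toMonoidHom, e.surjective⟩

end Main

section Transport

/-- a finite group has a copy on a type of the lowest universe -/
theorem exists_small_copy (Γ : Type u) [Group Γ] [Finite Γ] :
    ∃ (Γ0 : Type) (_ : Group Γ0) (_ : Finite Γ0), Nonempty (Γ0 ≃* Γ) := by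
  let e : Fin (Nat.card Γ) ≃ Γ := (Finite.equivFin Γ).symm
  letI : Group (Fin (Nat.card Γ)) := e.group
  exact ⟨Fin (Nat.card Γ), inferInstance, inferInstance, ⟨e.mulEquiv⟩⟩

variable {P : Type} [Group P] [Finite P]

/-- the Schur multiplier is cyclic of order two: transport along an isomorphism, in any universe -/
theorem hasCyclicSchurMultiplier_two_of_iso {G : Type u} [Group G] (e : G ≃* P)
    (hex : ∃ (W : Type) (_ : Group W) (_ : Finite W) (σ : W →* P), IsStemExtension σ ∧
      Nat.card σ.ker = 2)
    (hle : ∀ (Γ : Type) [Group Γ] [Finite Γ] (σ : Γ →* P), IsStemExtension σ →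
      Nat.card σ.ker ≤ 2) :
    Cfsg.HasCyclicSchurMultiplier G 2 := by
  refine ⟨?_, ?_⟩
  · obtain ⟨W, _, _, σ, hσ, hcard⟩ := hex
    let τ : ULift.{u} W →* G := e.symm.toMonoidHom.comp (σ.comp MulEquiv.ulift.toMonoidHom)
    have hτ : ∀ x : ULift.{u} W, τ x = e.symm (σ x.down) := fun x => rfl
    have hmem : ∀ x : ULift.{u} W, x ∈ τ.ker ↔ x.down ∈ σ.ker := by
      intro x
      rw [MonoidHom.mem_ker, MonoidHom.mem_ker, hτ]
      constructor
      · intro h
        have := congrArg e h
        simpa using this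
      · intro h
        rw [h, map_one]
    have hstem : IsStemExtension τ := by
      refine ⟨?_, ?_, ?_⟩
      · intro g
        obtain ⟨w, hw⟩ := hσ.1 (e g)
        refine ⟨⟨w⟩, ?_⟩
        rw [hτ, hw]
        simp
      · intro x hx
        rw [Subgroup.mem_center_iff]
        intro y
        have h1 := Subgroup.mem_center_iff.mp (hσ.2.1 ((hmem x).mp hx)) y.down
        exact ULift.ext _ _ h1
      · intro x hx
        have h1 : x.down ∈ commutator W := hσ.2.2 ((hmem x).mp hx)
        have h2 : (MulEquiv.ulift.symm : W ≃* ULift.{u} W).toMonoidHom x.down ∈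
            (commutator W).map (MulEquiv.ulift.symm : W ≃* ULift.{u} W).toMonoidHom :=
          Subgroup.mem_map_of_mem _ h1
        rw [commutator_def, Subgroup.map_commutator,
          Subgroup.map_top_of_surjective _ (MulEquiv.ulift.symm : W ≃* ULift.{u} W).surjective,
          ← commutator_def] at h2
        exact h2
    -- the kernel
    let f : τ.ker → σ.ker := fun x => ⟨x.1.down, (hmem x.1).mp x.2⟩
    have hf : Function.Bijective f := by
      constructor
      · intro a b hab
        apply Subtype.ext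
        exact ULift.ext _ _ (congrArg Subtype.val hab)
      · intro y
        exact ⟨⟨⟨y.1⟩, (hmem ⟨y.1⟩).mpr y.2⟩, rfl⟩
    have hcard' : Nat.card τ.ker = 2 := by
      rw [Nat.card_congr (Equiv.ofBijective f hf), hcard]
    haveI : Fact (Nat.Prime 2) := ⟨Nat.prime_two⟩
    have hc : IsCyclic τ.ker := isCyclic_of_prime_card hcard'
    have e2 := zmodCyclicMulEquiv hc
    rw [hcard'] at e2
    exact ⟨ULift.{u} W, inferInstance, inferInstance, τ, hstem, ⟨e2.symm⟩⟩
  · intro Γ _ _ σ hσ
    obtain ⟨Γ0, _, _, ⟨ι⟩⟩ := exists_small_copy Γ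
    let τ : Γ0 →* P := e.toMonoidHom.comp (σ.comp ι.toMonoidHom)
    have hτ : ∀ x : Γ0, τ x = e (σ (ι x)) := fun x => rfl
    have hmem : ∀ x : Γ0, x ∈ τ.ker ↔ ι x ∈ σ.ker := by
      intro x
      rw [MonoidHom.mem_ker, MonoidHom.mem_ker, hτ]
      constructor
      · intro h
        have := congrArg e.symm h
        simpa using this
      · intro h
        rw [h, map_one]
    have hstem : IsStemExtension τ := by
      refine ⟨?_, ?_, ?_⟩
      · intro p
        obtain ⟨g, hg⟩ := hσ.1 (e.symm p)
        refine ⟨ι.symm g, ?_⟩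
        rw [hτ]
        simp [hg]
      · intro x hx
        rw [Subgroup.mem_center_iff]
        intro y
        have h1 := Subgroup.mem_center_iff.mp (hσ.2.1 ((hmem x).mp hx)) (ι y)
        apply ι.injective
        rw [map_mul, map_mul]
        exact h1
      · intro x hx
        have h1 : ι x ∈ commutator Γ := hσ.2.2 ((hmem x).mp hx)
        have h2 : ι.symm.toMonoidHom (ι x) ∈ (commutator Γ).map ι.symm.toMonoidHom :=
          Subgroup.mem_map_of_mem _ h1
        rw [commutator_def, Subgroup.map_commutator,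
          Subgroup.map_top_of_surjective _ ι.symm.surjective, ← commutator_def] at h2
        simpa using h2
    have hle2 := hle Γ0 τ hstem
    let f : τ.ker → σ.ker := fun x => ⟨ι x.1, (hmem x.1).mp x.2⟩
    have hf : Function.Bijective f := by
      constructor
      · intro a b hab
        apply Subtype.ext
        exact ι.injective (congrArg Subtype.val hab)
      · intro y
        refine ⟨⟨ι.symm y.1, (hmem _).mpr (by simpa using y.2)⟩, ?_⟩
        apply Subtype.ext
        simp [f]
    have hcard' : Nat.card σ.ker ≤ 2 := by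
      rw [← Nat.card_congr (Equiv.ofBijective f hf)]
      exact hle2
    exact exists_surjective_of_card_le_two hcard'

end Transport

end Cfsg.Agent.Helper4.TC.SchurTwo
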