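import Cfsg.Agent.Lib.Helper4.TC.G2KIso
import Cfsg.Agent.Lib.Helper4.TC.SchurTwo

set_option autoImplicit false
set_option maxRecDepth 100000
set_option linter.unusedVariables false
set_option linter.style.haveILetI false

/-! The kernel of a stem extension of the group of order 251596800 presented on four elements of
order 7 has order at most two: a stem extension with kernel of exponent dividing 60 is a quotient
of the group in which the relators which are not products of two conjugates of powers of the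
generators are only central, and this group has at most twice the order of the group. -/

namespace Cfsg.Agent.Helper4.TC.G2KSchur

open Cfsg Cfsg.Agent.Helper4.TC Cfsg.Agent.Helper4.TC.G2KIso
open Cfsg.Agent.Helper4.Pres.HeK (Gen)

theorem mem_allL_of_exL (b : List ℕ) (hb : b ∈ G2KSD.exL) : b ∈ allL := by
  unfold allL
  exact List.mem_append_left _ (List.mem_append_left _ hb)

theorem mem_allL_of_ceL (b : List ℕ) (hb : b ∈ G2KSD.ceL) : b ∈ allL := by
  unfold allL
  exact List.mem_append_left _ (List.mem_append_right _ hb)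

theorem rel_one (b : List ℕ) (hb : b ∈ allL) :
    evc (PresentedGroup.of (rels := RP)) decK b = 1 := by
  rw [evc_of]
  exact PresentedGroup.one_of_mem (mem_relSet _ b hb)

/-- the word of the 7th power of a generator -/
theorem evc_pow7 {Q : Type*} [Group Q] (f : Gen → Q) (c : ℕ) :
    evc f decK (wpow [c] 7) = (gl f (decK c)) ^ 7 := by
  rw [evc_wpow, evc_cons, evc_nil, one_mul]

theorem of_pow7 (k : Gen) : (PresentedGroup.of k : P) ^ 7 = 1 := by
  cases k
  · have h := rel_one (wpow [0] 7) (mem_allL_of_exL _ (by decide))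
    rw [evc_pow7] at h
    exact h
  · have h := rel_one (wpow [2] 7) (mem_allL_of_exL _ (by decide))
    rw [evc_pow7] at h
    exact h
  · have h := rel_one (wpow [4] 7) (mem_allL_of_exL _ (by decide))
    rw [evc_pow7] at h
    exact h
  · have h := rel_one (wpow [6] 7) (mem_allL_of_exL _ (by decide))
    rw [evc_pow7] at h
    exact h

theorem mem_pwL (b : List ℕ) (hb : b ∈ G2KSD.pwL) :
    b = wpow [0] 7 ∨ b = wpow [2] 7 ∨ b = wpow [4] 7 ∨ b = wpow [6] 7 := by
  simp only [G2KSD.pwL, List.mem_cons, List.not_mem_nil, or_false] at hb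
  rcases hb with rfl | rfl | rfl | rfl
  · exact Or.inl rfl
  · exact Or.inr (Or.inl rfl)
  · exact Or.inr (Or.inr (Or.inl rfl))
  · exact Or.inr (Or.inr (Or.inr rfl))

theorem card_le {Γ : Type*} [Group Γ] [Finite Γ] (σ : Γ →* P) (hσ : IsStemExtension σ)
    (hexp : ∀ z ∈ σ.ker, z ^ 60 = 1) : Nat.card Γ ≤ 503193600 := by
  choose l hl using fun k : Gen => hσ.1 (PresentedGroup.of k)
  have hcen := hσ.2.1
  obtain ⟨g, hgdef⟩ : ∃ g : Gen → Γ, g = fun k => (l k) ^ 120 := ⟨_, rfl⟩
  have hg : ∀ k, σ (g k) = PresentedGroup.of k := by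
    intro k
    rw [hgdef]
    show σ ((l k) ^ 120) = _
    rw [Schur.map_pow_lift σ (l k) 7 120 (by rw [hl]; exact of_pow7 k) (by norm_num), hl]
  have hord : ∀ k, g k ^ 7 = 1 := by
    intro k
    rw [hgdef]
    exact Schur.pow_lift_eq_one σ 60 hexp (l k) 7 120 (by rw [hl]; exact of_pow7 k)
      (by norm_num)
  have hex : ∀ b ∈ G2KSD.exL, evc g decK b = 1 := by
    intro b hb
    have hb0 := hb
    unfold G2KSD.exL at hb
    rcases List.mem_append.mp hb with h | h
    · rcases mem_pwL b h with rfl | rfl | rfl | rfl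
      · rw [evc_pow7]
        exact hord .p
      · rw [evc_pow7]
        exact hord .q
      · rw [evc_pow7]
        exact hord .r
      · rw [evc_pow7]
        exact hord .s
    · obtain ⟨d, hd, rfl⟩ := List.mem_map.mp h
      exact Schur.evc_pairW_eq_one HeKCod.coding σ hcen 60 hexp g hg 7 (by norm_num) hord d
        (mem_relSet _ _ (mem_allL_of_exL _ hb0))
  have hW := G2KSD.card4
  rw [G2KSD.hb4] at hW
  exact Schur.card_le_of_weak0 HeKCod.coding σ hσ g hg G2KSD.exL G2KSD.ceL G2KSD.g4 hex
    (fun ρ hρ => mem_relSet _ ρ (mem_allL_of_ceL ρ hρ)) 503193600 hW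

theorem small_primes : ∀ r < 10, r.Prime → r ^ 2 ∣ 91 → False := by decide +kernel

theorem bad_primes (N : ℕ) (hN : N = 2 ^ 12 * 3 ^ 3 * 5 ^ 2 * 91) (r : ℕ) (hr : r.Prime)
    (hf : 1 < N.factorization r) : r ∣ 60 := by
  have hN0 : N ≠ 0 := by
    rw [hN]
    norm_num
  have hd : r ^ 2 ∣ N := (hr.pow_dvd_iff_le_factorization hN0).mpr hf
  by_contra hne
  have hc60 : Nat.Coprime r 60 := (Nat.Prime.coprime_iff_not_dvd hr).mpr hne
  have hc2 : Nat.Coprime r 2 := Nat.Coprime.coprime_dvd_right (by norm_num) hc60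
  have hc3 : Nat.Coprime r 3 := Nat.Coprime.coprime_dvd_right (by norm_num) hc60
  have hc5 : Nat.Coprime r 5 := Nat.Coprime.coprime_dvd_right (by norm_num) hc60
  have hc : Nat.Coprime (r ^ 2) (2 ^ 12 * 3 ^ 3 * 5 ^ 2) :=
    Nat.Coprime.pow_left 2 (Nat.Coprime.mul_right
      (Nat.Coprime.mul_right (hc2.pow_right 12) (hc3.pow_right 3)) (hc5.pow_right 2))
  rw [hN] at hd
  have hd2 : r ^ 2 ∣ 91 := hc.dvd_of_dvd_mul_left hd
  have hle : r ^ 2 ≤ 91 := Nat.le_of_dvd (by norm_num) hd2
  have hr10 : r < 10 := by nlinarith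
  exact small_primes r hr10 hr hd2

/-- the kernel of a finite stem extension has order at most two -/
theorem card_ker_le {Γ : Type} [Group Γ] [Finite Γ] (σ : Γ →* P) (hσ : IsStemExtension σ) :
    Nat.card σ.ker ≤ 2 := by
  refine SchurTwo.card_ker_le_two ?_ ?_ σ hσ
  · intro r hr hf
    exact bad_primes (Nat.card P) (card_P.trans (by norm_num)) r hr hf
  · intro Γ' _ _ σ' hσ' hexp'
    rw [card_P]
    exact card_le σ' hσ' hexp'

end Cfsg.Agent.Helper4.TC.G2KSchur
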