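import Cfsg.Agent.Lib.Helper4.TC.HeC2BData
import Cfsg.Agent.Lib.Helper4.TC.Strict

set_option autoImplicit false
set_option maxRecDepth 100000
set_option linter.unusedVariables false
set_option Elab.async false

namespace Cfsg.Agent.Helper4.TC.HeC2B

open Cfsg.Agent.Helper4.TC

theorem e0_c0 : edgeRange data 0 10279 0 = true := edgeRange_strict data 0 10279 0 (by decide +kernel)
theorem e0_c1 : edgeRange data 0 10291 10279 = true := edgeRange_strict data 0 10291 10279 (by decide +kernel)
theorem e0_c2 : edgeRange data 0 10188 20570 = true := edgeRange_strict data 0 10188 20570 (by decide +kernel)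
theorem e0_c3 : edgeRange data 0 10220 30758 = true := edgeRange_strict data 0 10220 30758 (by decide +kernel)
theorem e0_c4 : edgeRange data 0 10183 40978 = true := edgeRange_strict data 0 10183 40978 (by decide +kernel)
theorem e0_c5 : edgeRange data 0 10246 51161 = true := edgeRange_strict data 0 10246 51161 (by decide +kernel)
theorem e0_c6 : edgeRange data 0 10277 61407 = true := edgeRange_strict data 0 10277 61407 (by decide +kernel)
theorem e0_c7 : edgeRange data 0 10233 71684 = true := edgeRange_strict data 0 10233 71684 (by decide +kernel)
theorem e0_c8 : edgeRange data 0 10127 81917 = true := edgeRange_strict data 0 10127 81917 (by decide +kernel)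
theorem e0_c9 : edgeRange data 0 9970 92044 = true := edgeRange_strict data 0 9970 92044 (by decide +kernel)
theorem e0_c10 : edgeRange data 0 10041 102014 = true := edgeRange_strict data 0 10041 102014 (by decide +kernel)
theorem e0_c11 : edgeRange data 0 9993 112055 = true := edgeRange_strict data 0 9993 112055 (by decide +kernel)
theorem e0_c12 : edgeRange data 0 9972 122048 = true := edgeRange_strict data 0 9972 122048 (by decide +kernel)
theorem e0_c13 : edgeRange data 0 9906 132020 = true := edgeRange_strict data 0 9906 132020 (by decide +kernel)
theorem e0_c14 : edgeRange data 0 9951 141926 = true := edgeRange_strict data 0 9951 141926 (by decide +kernel)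
theorem e0_c15 : edgeRange data 0 9939 151877 = true := edgeRange_strict data 0 9939 151877 (by decide +kernel)
theorem e0_c16 : edgeRange data 0 9903 161816 = true := edgeRange_strict data 0 9903 161816 (by decide +kernel)
theorem e0_c17 : edgeRange data 0 9889 171719 = true := edgeRange_strict data 0 9889 171719 (by decide +kernel)
theorem e0_c18 : edgeRange data 0 18936 181608 = true := edgeRange_strict data 0 18936 181608 (by decide +kernel)
theorem e0_c19 : edgeRange data 0 50000 200544 = true := edgeRange_strict data 0 50000 200544 (by decide +kernel)
theorem e0_c20 : edgeRange data 0 11600 250544 = true := edgeRange_strict data 0 11600 250544 (by decide +kernel)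

end Cfsg.Agent.Helper4.TC.HeC2B
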