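import Cfsg.Agent.Lib.Helper4.TC.HeC2BData
import Cfsg.Agent.Lib.Helper4.TC.Strict

set_option autoImplicit false
set_option maxRecDepth 100000
set_option linter.unusedVariables false
set_option Elab.async false

namespace Cfsg.Agent.Helper4.TC.HeC2B

open Cfsg.Agent.Helper4.TC

theorem e1_c0 : edgeRange data 1 15751 0 = true := edgeRange_strict data 1 15751 0 (by decide +kernel)
theorem e1_c1 : edgeRange data 1 15571 15751 = true := edgeRange_strict data 1 15571 15751 (by decide +kernel)
theorem e1_c2 : edgeRange data 1 15462 31322 = true := edgeRange_strict data 1 15462 31322 (by decide +kernel)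
theorem e1_c3 : edgeRange data 1 15116 46784 = true := edgeRange_strict data 1 15116 46784 (by decide +kernel)
theorem e1_c4 : edgeRange data 1 14724 61900 = true := edgeRange_strict data 1 14724 61900 (by decide +kernel)
theorem e1_c5 : edgeRange data 1 14727 76624 = true := edgeRange_strict data 1 14727 76624 (by decide +kernel)
theorem e1_c6 : edgeRange data 1 14899 91351 = true := edgeRange_strict data 1 14899 91351 (by decide +kernel)
theorem e1_c7 : edgeRange data 1 14831 106250 = true := edgeRange_strict data 1 14831 106250 (by decide +kernel)
theorem e1_c8 : edgeRange data 1 14996 121081 = true := edgeRange_strict data 1 14996 121081 (by decide +kernel)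
theorem e1_c9 : edgeRange data 1 14610 136077 = true := edgeRange_strict data 1 14610 136077 (by decide +kernel)
theorem e1_c10 : edgeRange data 1 14109 150687 = true := edgeRange_strict data 1 14109 150687 (by decide +kernel)
theorem e1_c11 : edgeRange data 1 13443 164796 = true := edgeRange_strict data 1 13443 164796 (by decide +kernel)
theorem e1_c12 : edgeRange data 1 18968 178239 = true := edgeRange_strict data 1 18968 178239 (by decide +kernel)
theorem e1_c13 : edgeRange data 1 50000 197207 = true := edgeRange_strict data 1 50000 197207 (by decide +kernel)
theorem e1_c14 : edgeRange data 1 14937 247207 = true := edgeRange_strict data 1 14937 247207 (by decide +kernel)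

end Cfsg.Agent.Helper4.TC.HeC2B
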