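import Cfsg.Agent.Lib.Helper4.TC.HeC2BData
import Cfsg.Agent.Lib.Helper4.TC.Strict

set_option autoImplicit false
set_option maxRecDepth 100000
set_option linter.unusedVariables false
set_option Elab.async false

namespace Cfsg.Agent.Helper4.TC.HeC2B

open Cfsg.Agent.Helper4.TC

theorem e10_c0 : edgeRange data 10 16543 0 = true := edgeRange_strict data 10 16543 0 (by decide +kernel)
theorem e10_c1 : edgeRange data 10 15493 16543 = true := edgeRange_strict data 10 15493 16543 (by decide +kernel)
theorem e10_c2 : edgeRange data 10 15026 32036 = true := edgeRange_strict data 10 15026 32036 (by decide +kernel)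
theorem e10_c3 : edgeRange data 10 14705 47062 = true := edgeRange_strict data 10 14705 47062 (by decide +kernel)
theorem e10_c4 : edgeRange data 10 14839 61767 = true := edgeRange_strict data 10 14839 61767 (by decide +kernel)
theorem e10_c5 : edgeRange data 10 14744 76606 = true := edgeRange_strict data 10 14744 76606 (by decide +kernel)
theorem e10_c6 : edgeRange data 10 14761 91350 = true := edgeRange_strict data 10 14761 91350 (by decide +kernel)
theorem e10_c7 : edgeRange data 10 14273 106111 = true := edgeRange_strict data 10 14273 106111 (by decide +kernel)
theorem e10_c8 : edgeRange data 10 13692 120384 = true := edgeRange_strict data 10 13692 120384 (by decide +kernel)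
theorem e10_c9 : edgeRange data 10 13209 134076 = true := edgeRange_strict data 10 13209 134076 (by decide +kernel)
theorem e10_c10 : edgeRange data 10 12769 147285 = true := edgeRange_strict data 10 12769 147285 (by decide +kernel)
theorem e10_c11 : edgeRange data 10 12551 160054 = true := edgeRange_strict data 10 12551 160054 (by decide +kernel)
theorem e10_c12 : edgeRange data 10 12210 172605 = true := edgeRange_strict data 10 12210 172605 (by decide +kernel)
theorem e10_c13 : edgeRange data 10 35917 184815 = true := edgeRange_strict data 10 35917 184815 (by decide +kernel)
theorem e10_c14 : edgeRange data 10 41412 220732 = true := edgeRange_strict data 10 41412 220732 (by decide +kernel)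

end Cfsg.Agent.Helper4.TC.HeC2B
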