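import Cfsg.Agent.Lib.Helper4.TC.HeC2BData
import Cfsg.Agent.Lib.Helper4.TC.Strict

set_option autoImplicit false
set_option maxRecDepth 100000
set_option linter.unusedVariables false
set_option Elab.async false

namespace Cfsg.Agent.Helper4.TC.HeC2B

open Cfsg.Agent.Helper4.TC

theorem e11_c0 : edgeRange data 11 14723 0 = true := edgeRange_strict data 11 14723 0 (by decide +kernel)
theorem e11_c1 : edgeRange data 11 14657 14723 = true := edgeRange_strict data 11 14657 14723 (by decide +kernel)
theorem e11_c2 : edgeRange data 11 14605 29380 = true := edgeRange_strict data 11 14605 29380 (by decide +kernel)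
theorem e11_c3 : edgeRange data 11 14576 43985 = true := edgeRange_strict data 11 14576 43985 (by decide +kernel)
theorem e11_c4 : edgeRange data 11 14604 58561 = true := edgeRange_strict data 11 14604 58561 (by decide +kernel)
theorem e11_c5 : edgeRange data 11 14687 73165 = true := edgeRange_strict data 11 14687 73165 (by decide +kernel)
theorem e11_c6 : edgeRange data 11 14611 87852 = true := edgeRange_strict data 11 14611 87852 (by decide +kernel)
theorem e11_c7 : edgeRange data 11 14518 102463 = true := edgeRange_strict data 11 14518 102463 (by decide +kernel)
theorem e11_c8 : edgeRange data 11 14490 116981 = true := edgeRange_strict data 11 14490 116981 (by decide +kernel)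
theorem e11_c9 : edgeRange data 11 14387 131471 = true := edgeRange_strict data 11 14387 131471 (by decide +kernel)
theorem e11_c10 : edgeRange data 11 14451 145858 = true := edgeRange_strict data 11 14451 145858 (by decide +kernel)
theorem e11_c11 : edgeRange data 11 14496 160309 = true := edgeRange_strict data 11 14496 160309 (by decide +kernel)
theorem e11_c12 : edgeRange data 11 15024 174805 = true := edgeRange_strict data 11 15024 174805 (by decide +kernel)
theorem e11_c13 : edgeRange data 11 50000 189829 = true := edgeRange_strict data 11 50000 189829 (by decide +kernel)
theorem e11_c14 : edgeRange data 11 22315 239829 = true := edgeRange_strict data 11 22315 239829 (by decide +kernel)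

end Cfsg.Agent.Helper4.TC.HeC2B
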