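import Cfsg.Agent.Lib.Helper4.TC.HeC2BData
import Cfsg.Agent.Lib.Helper4.TC.Strict

set_option autoImplicit false
set_option maxRecDepth 100000
set_option linter.unusedVariables false
set_option Elab.async false

namespace Cfsg.Agent.Helper4.TC.HeC2B

open Cfsg.Agent.Helper4.TC

theorem e12_c0 : edgeRange data 12 16365 0 = true := edgeRange_strict data 12 16365 0 (by decide +kernel)
theorem e12_c1 : edgeRange data 12 15194 16365 = true := edgeRange_strict data 12 15194 16365 (by decide +kernel)
theorem e12_c2 : edgeRange data 12 14778 31559 = true := edgeRange_strict data 12 14778 31559 (by decide +kernel)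
theorem e12_c3 : edgeRange data 12 14364 46337 = true := edgeRange_strict data 12 14364 46337 (by decide +kernel)
theorem e12_c4 : edgeRange data 12 14506 60701 = true := edgeRange_strict data 12 14506 60701 (by decide +kernel)
theorem e12_c5 : edgeRange data 12 14414 75207 = true := edgeRange_strict data 12 14414 75207 (by decide +kernel)
theorem e12_c6 : edgeRange data 12 14220 89621 = true := edgeRange_strict data 12 14220 89621 (by decide +kernel)
theorem e12_c7 : edgeRange data 12 14003 103841 = true := edgeRange_strict data 12 14003 103841 (by decide +kernel)
theorem e12_c8 : edgeRange data 12 13400 117844 = true := edgeRange_strict data 12 13400 117844 (by decide +kernel)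
theorem e12_c9 : edgeRange data 12 12846 131244 = true := edgeRange_strict data 12 12846 131244 (by decide +kernel)
theorem e12_c10 : edgeRange data 12 12540 144090 = true := edgeRange_strict data 12 12540 144090 (by decide +kernel)
theorem e12_c11 : edgeRange data 12 12420 156630 = true := edgeRange_strict data 12 12420 156630 (by decide +kernel)
theorem e12_c12 : edgeRange data 12 11877 169050 = true := edgeRange_strict data 12 11877 169050 (by decide +kernel)
theorem e12_c13 : edgeRange data 12 23013 180927 = true := edgeRange_strict data 12 23013 180927 (by decide +kernel)
theorem e12_c14 : edgeRange data 12 50000 203940 = true := edgeRange_strict data 12 50000 203940 (by decide +kernel)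
theorem e12_c15 : edgeRange data 12 8204 253940 = true := edgeRange_strict data 12 8204 253940 (by decide +kernel)

end Cfsg.Agent.Helper4.TC.HeC2B
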