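import Cfsg.Agent.Lib.Helper4.TC.HeC2BData
import Cfsg.Agent.Lib.Helper4.TC.Strict

set_option autoImplicit false
set_option maxRecDepth 100000
set_option linter.unusedVariables false
set_option Elab.async false

namespace Cfsg.Agent.Helper4.TC.HeC2B

open Cfsg.Agent.Helper4.TC

theorem e13_c0 : edgeRange data 13 15283 0 = true := edgeRange_strict data 13 15283 0 (by decide +kernel)
theorem e13_c1 : edgeRange data 13 15251 15283 = true := edgeRange_strict data 13 15251 15283 (by decide +kernel)
theorem e13_c2 : edgeRange data 13 15229 30534 = true := edgeRange_strict data 13 15229 30534 (by decide +kernel)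
theorem e13_c3 : edgeRange data 13 15339 45763 = true := edgeRange_strict data 13 15339 45763 (by decide +kernel)
theorem e13_c4 : edgeRange data 13 15419 61102 = true := edgeRange_strict data 13 15419 61102 (by decide +kernel)
theorem e13_c5 : edgeRange data 13 15362 76521 = true := edgeRange_strict data 13 15362 76521 (by decide +kernel)
theorem e13_c6 : edgeRange data 13 15307 91883 = true := edgeRange_strict data 13 15307 91883 (by decide +kernel)
theorem e13_c7 : edgeRange data 13 15207 107190 = true := edgeRange_strict data 13 15207 107190 (by decide +kernel)
theorem e13_c8 : edgeRange data 13 15296 122397 = true := edgeRange_strict data 13 15296 122397 (by decide +kernel)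
theorem e13_c9 : edgeRange data 13 15369 137693 = true := edgeRange_strict data 13 15369 137693 (by decide +kernel)
theorem e13_c10 : edgeRange data 13 15502 153062 = true := edgeRange_strict data 13 15502 153062 (by decide +kernel)
theorem e13_c11 : edgeRange data 13 15816 168564 = true := edgeRange_strict data 13 15816 168564 (by decide +kernel)
theorem e13_c12 : edgeRange data 13 39930 184380 = true := edgeRange_strict data 13 39930 184380 (by decide +kernel)
theorem e13_c13 : edgeRange data 13 37834 224310 = true := edgeRange_strict data 13 37834 224310 (by decide +kernel)

end Cfsg.Agent.Helper4.TC.HeC2B
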