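import Cfsg.Agent.Lib.Helper4.TC.HeC2BData
import Cfsg.Agent.Lib.Helper4.TC.Strict

set_option autoImplicit false
set_option maxRecDepth 100000
set_option linter.unusedVariables false
set_option Elab.async false

namespace Cfsg.Agent.Helper4.TC.HeC2B

open Cfsg.Agent.Helper4.TC

theorem e2_c0 : edgeRange data 2 10878 0 = true := edgeRange_strict data 2 10878 0 (by decide +kernel)
theorem e2_c1 : edgeRange data 2 10883 10878 = true := edgeRange_strict data 2 10883 10878 (by decide +kernel)
theorem e2_c2 : edgeRange data 2 10854 21761 = true := edgeRange_strict data 2 10854 21761 (by decide +kernel)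
theorem e2_c3 : edgeRange data 2 10850 32615 = true := edgeRange_strict data 2 10850 32615 (by decide +kernel)
theorem e2_c4 : edgeRange data 2 10793 43465 = true := edgeRange_strict data 2 10793 43465 (by decide +kernel)
theorem e2_c5 : edgeRange data 2 10737 54258 = true := edgeRange_strict data 2 10737 54258 (by decide +kernel)
theorem e2_c6 : edgeRange data 2 10649 64995 = true := edgeRange_strict data 2 10649 64995 (by decide +kernel)
theorem e2_c7 : edgeRange data 2 10621 75644 = true := edgeRange_strict data 2 10621 75644 (by decide +kernel)
theorem e2_c8 : edgeRange data 2 10625 86265 = true := edgeRange_strict data 2 10625 86265 (by decide +kernel)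
theorem e2_c9 : edgeRange data 2 10570 96890 = true := edgeRange_strict data 2 10570 96890 (by decide +kernel)
theorem e2_c10 : edgeRange data 2 10511 107460 = true := edgeRange_strict data 2 10511 107460 (by decide +kernel)
theorem e2_c11 : edgeRange data 2 10448 117971 = true := edgeRange_strict data 2 10448 117971 (by decide +kernel)
theorem e2_c12 : edgeRange data 2 10473 128419 = true := edgeRange_strict data 2 10473 128419 (by decide +kernel)
theorem e2_c13 : edgeRange data 2 10334 138892 = true := edgeRange_strict data 2 10334 138892 (by decide +kernel)
theorem e2_c14 : edgeRange data 2 10348 149226 = true := edgeRange_strict data 2 10348 149226 (by decide +kernel)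
theorem e2_c15 : edgeRange data 2 10410 159574 = true := edgeRange_strict data 2 10410 159574 (by decide +kernel)
theorem e2_c16 : edgeRange data 2 10281 169984 = true := edgeRange_strict data 2 10281 169984 (by decide +kernel)
theorem e2_c17 : edgeRange data 2 15739 180265 = true := edgeRange_strict data 2 15739 180265 (by decide +kernel)
theorem e2_c18 : edgeRange data 2 50000 196004 = true := edgeRange_strict data 2 50000 196004 (by decide +kernel)
theorem e2_c19 : edgeRange data 2 16140 246004 = true := edgeRange_strict data 2 16140 246004 (by decide +kernel)

end Cfsg.Agent.Helper4.TC.HeC2B
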