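import Cfsg.Agent.Lib.Helper4.TC.HeC2BData
import Cfsg.Agent.Lib.Helper4.TC.Strict

set_option autoImplicit false
set_option maxRecDepth 100000
set_option linter.unusedVariables false
set_option Elab.async false

namespace Cfsg.Agent.Helper4.TC.HeC2B

open Cfsg.Agent.Helper4.TC

theorem e3_c0 : edgeRange data 3 16364 0 = true := edgeRange_strict data 3 16364 0 (by decide +kernel)
theorem e3_c1 : edgeRange data 3 16409 16364 = true := edgeRange_strict data 3 16409 16364 (by decide +kernel)
theorem e3_c2 : edgeRange data 3 16269 32773 = true := edgeRange_strict data 3 16269 32773 (by decide +kernel)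
theorem e3_c3 : edgeRange data 3 16057 49042 = true := edgeRange_strict data 3 16057 49042 (by decide +kernel)
theorem e3_c4 : edgeRange data 3 15847 65099 = true := edgeRange_strict data 3 15847 65099 (by decide +kernel)
theorem e3_c5 : edgeRange data 3 15728 80946 = true := edgeRange_strict data 3 15728 80946 (by decide +kernel)
theorem e3_c6 : edgeRange data 3 15670 96674 = true := edgeRange_strict data 3 15670 96674 (by decide +kernel)
theorem e3_c7 : edgeRange data 3 15576 112344 = true := edgeRange_strict data 3 15576 112344 (by decide +kernel)
theorem e3_c8 : edgeRange data 3 15416 127920 = true := edgeRange_strict data 3 15416 127920 (by decide +kernel)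
theorem e3_c9 : edgeRange data 3 15403 143336 = true := edgeRange_strict data 3 15403 143336 (by decide +kernel)
theorem e3_c10 : edgeRange data 3 15491 158739 = true := edgeRange_strict data 3 15491 158739 (by decide +kernel)
theorem e3_c11 : edgeRange data 3 17080 174230 = true := edgeRange_strict data 3 17080 174230 (by decide +kernel)
theorem e3_c12 : edgeRange data 3 50000 191310 = true := edgeRange_strict data 3 50000 191310 (by decide +kernel)
theorem e3_c13 : edgeRange data 3 20834 241310 = true := edgeRange_strict data 3 20834 241310 (by decide +kernel)

end Cfsg.Agent.Helper4.TC.HeC2B
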