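import Cfsg.Agent.Lib.Helper4.TC.HeC2BData
import Cfsg.Agent.Lib.Helper4.TC.Strict

set_option autoImplicit false
set_option maxRecDepth 100000
set_option linter.unusedVariables false
set_option Elab.async false

namespace Cfsg.Agent.Helper4.TC.HeC2B

open Cfsg.Agent.Helper4.TC

theorem e4_c0 : edgeRange data 4 12259 0 = true := edgeRange_strict data 4 12259 0 (by decide +kernel)
theorem e4_c1 : edgeRange data 4 12132 12259 = true := edgeRange_strict data 4 12132 12259 (by decide +kernel)
theorem e4_c2 : edgeRange data 4 11823 24391 = true := edgeRange_strict data 4 11823 24391 (by decide +kernel)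
theorem e4_c3 : edgeRange data 4 11742 36214 = true := edgeRange_strict data 4 11742 36214 (by decide +kernel)
theorem e4_c4 : edgeRange data 4 11718 47956 = true := edgeRange_strict data 4 11718 47956 (by decide +kernel)
theorem e4_c5 : edgeRange data 4 11709 59674 = true := edgeRange_strict data 4 11709 59674 (by decide +kernel)
theorem e4_c6 : edgeRange data 4 11751 71383 = true := edgeRange_strict data 4 11751 71383 (by decide +kernel)
theorem e4_c7 : edgeRange data 4 11728 83134 = true := edgeRange_strict data 4 11728 83134 (by decide +kernel)
theorem e4_c8 : edgeRange data 4 11723 94862 = true := edgeRange_strict data 4 11723 94862 (by decide +kernel)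
theorem e4_c9 : edgeRange data 4 11427 106585 = true := edgeRange_strict data 4 11427 106585 (by decide +kernel)
theorem e4_c10 : edgeRange data 4 11360 118012 = true := edgeRange_strict data 4 11360 118012 (by decide +kernel)
theorem e4_c11 : edgeRange data 4 11157 129372 = true := edgeRange_strict data 4 11157 129372 (by decide +kernel)
theorem e4_c12 : edgeRange data 4 10889 140529 = true := edgeRange_strict data 4 10889 140529 (by decide +kernel)
theorem e4_c13 : edgeRange data 4 10997 151418 = true := edgeRange_strict data 4 10997 151418 (by decide +kernel)
theorem e4_c14 : edgeRange data 4 10882 162415 = true := edgeRange_strict data 4 10882 162415 (by decide +kernel)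
theorem e4_c15 : edgeRange data 4 10891 173297 = true := edgeRange_strict data 4 10891 173297 (by decide +kernel)
theorem e4_c16 : edgeRange data 4 32092 184188 = true := edgeRange_strict data 4 32092 184188 (by decide +kernel)
theorem e4_c17 : edgeRange data 4 45864 216280 = true := edgeRange_strict data 4 45864 216280 (by decide +kernel)

end Cfsg.Agent.Helper4.TC.HeC2B
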