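import Cfsg.Agent.Lib.Helper4.TC.HeC2BData
import Cfsg.Agent.Lib.Helper4.TC.Strict

set_option autoImplicit false
set_option maxRecDepth 100000
set_option linter.unusedVariables false
set_option Elab.async false

namespace Cfsg.Agent.Helper4.TC.HeC2B

open Cfsg.Agent.Helper4.TC

theorem e5_c0 : edgeRange data 5 15542 0 = true := edgeRange_strict data 5 15542 0 (by decide +kernel)
theorem e5_c1 : edgeRange data 5 14740 15542 = true := edgeRange_strict data 5 14740 15542 (by decide +kernel)
theorem e5_c2 : edgeRange data 5 14677 30282 = true := edgeRange_strict data 5 14677 30282 (by decide +kernel)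
theorem e5_c3 : edgeRange data 5 14551 44959 = true := edgeRange_strict data 5 14551 44959 (by decide +kernel)
theorem e5_c4 : edgeRange data 5 14289 59510 = true := edgeRange_strict data 5 14289 59510 (by decide +kernel)
theorem e5_c5 : edgeRange data 5 14110 73799 = true := edgeRange_strict data 5 14110 73799 (by decide +kernel)
theorem e5_c6 : edgeRange data 5 14122 87909 = true := edgeRange_strict data 5 14122 87909 (by decide +kernel)
theorem e5_c7 : edgeRange data 5 13695 102031 = true := edgeRange_strict data 5 13695 102031 (by decide +kernel)
theorem e5_c8 : edgeRange data 5 13462 115726 = true := edgeRange_strict data 5 13462 115726 (by decide +kernel)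
theorem e5_c9 : edgeRange data 5 13316 129188 = true := edgeRange_strict data 5 13316 129188 (by decide +kernel)
theorem e5_c10 : edgeRange data 5 13281 142504 = true := edgeRange_strict data 5 13281 142504 (by decide +kernel)
theorem e5_c11 : edgeRange data 5 12988 155785 = true := edgeRange_strict data 5 12988 155785 (by decide +kernel)
theorem e5_c12 : edgeRange data 5 12807 168773 = true := edgeRange_strict data 5 12807 168773 (by decide +kernel)
theorem e5_c13 : edgeRange data 5 26729 181580 = true := edgeRange_strict data 5 26729 181580 (by decide +kernel)
theorem e5_c14 : edgeRange data 5 50000 208309 = true := edgeRange_strict data 5 50000 208309 (by decide +kernel)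
theorem e5_c15 : edgeRange data 5 3835 258309 = true := edgeRange_strict data 5 3835 258309 (by decide +kernel)

end Cfsg.Agent.Helper4.TC.HeC2B
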