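import Cfsg.Agent.Lib.Helper4.TC.HeC2BData
import Cfsg.Agent.Lib.Helper4.TC.Strict

set_option autoImplicit false
set_option maxRecDepth 100000
set_option linter.unusedVariables false
set_option Elab.async false

namespace Cfsg.Agent.Helper4.TC.HeC2B

open Cfsg.Agent.Helper4.TC

theorem e6_c0 : edgeRange data 6 14573 0 = true := edgeRange_strict data 6 14573 0 (by decide +kernel)
theorem e6_c1 : edgeRange data 6 13693 14573 = true := edgeRange_strict data 6 13693 14573 (by decide +kernel)
theorem e6_c2 : edgeRange data 6 12734 28266 = true := edgeRange_strict data 6 12734 28266 (by decide +kernel)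
theorem e6_c3 : edgeRange data 6 11884 41000 = true := edgeRange_strict data 6 11884 41000 (by decide +kernel)
theorem e6_c4 : edgeRange data 6 12529 52884 = true := edgeRange_strict data 6 12529 52884 (by decide +kernel)
theorem e6_c5 : edgeRange data 6 12534 65413 = true := edgeRange_strict data 6 12534 65413 (by decide +kernel)
theorem e6_c6 : edgeRange data 6 12779 77947 = true := edgeRange_strict data 6 12779 77947 (by decide +kernel)
theorem e6_c7 : edgeRange data 6 12746 90726 = true := edgeRange_strict data 6 12746 90726 (by decide +kernel)
theorem e6_c8 : edgeRange data 6 12246 103472 = true := edgeRange_strict data 6 12246 103472 (by decide +kernel)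
theorem e6_c9 : edgeRange data 6 11218 115718 = true := edgeRange_strict data 6 11218 115718 (by decide +kernel)
theorem e6_c10 : edgeRange data 6 11032 126936 = true := edgeRange_strict data 6 11032 126936 (by decide +kernel)
theorem e6_c11 : edgeRange data 6 10414 137968 = true := edgeRange_strict data 6 10414 137968 (by decide +kernel)
theorem e6_c12 : edgeRange data 6 9995 148382 = true := edgeRange_strict data 6 9995 148382 (by decide +kernel)
theorem e6_c13 : edgeRange data 6 9967 158377 = true := edgeRange_strict data 6 9967 158377 (by decide +kernel)
theorem e6_c14 : edgeRange data 6 9511 168344 = true := edgeRange_strict data 6 9511 168344 (by decide +kernel)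
theorem e6_c15 : edgeRange data 6 9331 177855 = true := edgeRange_strict data 6 9331 177855 (by decide +kernel)
theorem e6_c16 : edgeRange data 6 40621 187186 = true := edgeRange_strict data 6 40621 187186 (by decide +kernel)
theorem e6_c17 : edgeRange data 6 34337 227807 = true := edgeRange_strict data 6 34337 227807 (by decide +kernel)

end Cfsg.Agent.Helper4.TC.HeC2B
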