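import Cfsg.Agent.Lib.Helper4.TC.HeC2BData
import Cfsg.Agent.Lib.Helper4.TC.Strict

set_option autoImplicit false
set_option maxRecDepth 100000
set_option linter.unusedVariables false
set_option Elab.async false

namespace Cfsg.Agent.Helper4.TC.HeC2B

open Cfsg.Agent.Helper4.TC

theorem e7_c0 : edgeRange data 7 16787 0 = true := edgeRange_strict data 7 16787 0 (by decide +kernel)
theorem e7_c1 : edgeRange data 7 16123 16787 = true := edgeRange_strict data 7 16123 16787 (by decide +kernel)
theorem e7_c2 : edgeRange data 7 16150 32910 = true := edgeRange_strict data 7 16150 32910 (by decide +kernel)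
theorem e7_c3 : edgeRange data 7 16163 49060 = true := edgeRange_strict data 7 16163 49060 (by decide +kernel)
theorem e7_c4 : edgeRange data 7 15741 65223 = true := edgeRange_strict data 7 15741 65223 (by decide +kernel)
theorem e7_c5 : edgeRange data 7 15455 80964 = true := edgeRange_strict data 7 15455 80964 (by decide +kernel)
theorem e7_c6 : edgeRange data 7 15058 96419 = true := edgeRange_strict data 7 15058 96419 (by decide +kernel)
theorem e7_c7 : edgeRange data 7 15307 111477 = true := edgeRange_strict data 7 15307 111477 (by decide +kernel)
theorem e7_c8 : edgeRange data 7 15155 126784 = true := edgeRange_strict data 7 15155 126784 (by decide +kernel)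
theorem e7_c9 : edgeRange data 7 15094 141939 = true := edgeRange_strict data 7 15094 141939 (by decide +kernel)
theorem e7_c10 : edgeRange data 7 15210 157033 = true := edgeRange_strict data 7 15210 157033 (by decide +kernel)
theorem e7_c11 : edgeRange data 7 15479 172243 = true := edgeRange_strict data 7 15479 172243 (by decide +kernel)
theorem e7_c12 : edgeRange data 7 46996 187722 = true := edgeRange_strict data 7 46996 187722 (by decide +kernel)
theorem e7_c13 : edgeRange data 7 27426 234718 = true := edgeRange_strict data 7 27426 234718 (by decide +kernel)

end Cfsg.Agent.Helper4.TC.HeC2B
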