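import Cfsg.Agent.Lib.Helper4.TC.HeC2BData
import Cfsg.Agent.Lib.Helper4.TC.Strict

set_option autoImplicit false
set_option maxRecDepth 100000
set_option linter.unusedVariables false
set_option Elab.async false

namespace Cfsg.Agent.Helper4.TC.HeC2B

open Cfsg.Agent.Helper4.TC

theorem e8_c0 : edgeRange data 8 14054 0 = true := edgeRange_strict data 8 14054 0 (by decide +kernel)
theorem e8_c1 : edgeRange data 8 13521 14054 = true := edgeRange_strict data 8 13521 14054 (by decide +kernel)
theorem e8_c2 : edgeRange data 8 13219 27575 = true := edgeRange_strict data 8 13219 27575 (by decide +kernel)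
theorem e8_c3 : edgeRange data 8 12924 40794 = true := edgeRange_strict data 8 12924 40794 (by decide +kernel)
theorem e8_c4 : edgeRange data 8 13088 53718 = true := edgeRange_strict data 8 13088 53718 (by decide +kernel)
theorem e8_c5 : edgeRange data 8 12824 66806 = true := edgeRange_strict data 8 12824 66806 (by decide +kernel)
theorem e8_c6 : edgeRange data 8 12817 79630 = true := edgeRange_strict data 8 12817 79630 (by decide +kernel)
theorem e8_c7 : edgeRange data 8 12757 92447 = true := edgeRange_strict data 8 12757 92447 (by decide +kernel)
theorem e8_c8 : edgeRange data 8 12632 105204 = true := edgeRange_strict data 8 12632 105204 (by decide +kernel)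
theorem e8_c9 : edgeRange data 8 12173 117836 = true := edgeRange_strict data 8 12173 117836 (by decide +kernel)
theorem e8_c10 : edgeRange data 8 11981 130009 = true := edgeRange_strict data 8 11981 130009 (by decide +kernel)
theorem e8_c11 : edgeRange data 8 11736 141990 = true := edgeRange_strict data 8 11736 141990 (by decide +kernel)
theorem e8_c12 : edgeRange data 8 11694 153726 = true := edgeRange_strict data 8 11694 153726 (by decide +kernel)
theorem e8_c13 : edgeRange data 8 11648 165420 = true := edgeRange_strict data 8 11648 165420 (by decide +kernel)
theorem e8_c14 : edgeRange data 8 11597 177068 = true := edgeRange_strict data 8 11597 177068 (by decide +kernel)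
theorem e8_c15 : edgeRange data 8 48482 188665 = true := edgeRange_strict data 8 48482 188665 (by decide +kernel)
theorem e8_c16 : edgeRange data 8 24997 237147 = true := edgeRange_strict data 8 24997 237147 (by decide +kernel)

end Cfsg.Agent.Helper4.TC.HeC2B
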