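import Cfsg.Agent.Lib.Helper4.TC.HeC2BData
import Cfsg.Agent.Lib.Helper4.TC.Strict

set_option autoImplicit false
set_option maxRecDepth 100000
set_option linter.unusedVariables false
set_option Elab.async false

namespace Cfsg.Agent.Helper4.TC.HeC2B

open Cfsg.Agent.Helper4.TC

theorem e9_c0 : edgeRange data 9 17603 0 = true := edgeRange_strict data 9 17603 0 (by decide +kernel)
theorem e9_c1 : edgeRange data 9 17568 17603 = true := edgeRange_strict data 9 17568 17603 (by decide +kernel)
theorem e9_c2 : edgeRange data 9 17586 35171 = true := edgeRange_strict data 9 17586 35171 (by decide +kernel)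
theorem e9_c3 : edgeRange data 9 17581 52757 = true := edgeRange_strict data 9 17581 52757 (by decide +kernel)
theorem e9_c4 : edgeRange data 9 17546 70338 = true := edgeRange_strict data 9 17546 70338 (by decide +kernel)
theorem e9_c5 : edgeRange data 9 17522 87884 = true := edgeRange_strict data 9 17522 87884 (by decide +kernel)
theorem e9_c6 : edgeRange data 9 17505 105406 = true := edgeRange_strict data 9 17505 105406 (by decide +kernel)
theorem e9_c7 : edgeRange data 9 17507 122911 = true := edgeRange_strict data 9 17507 122911 (by decide +kernel)
theorem e9_c8 : edgeRange data 9 17515 140418 = true := edgeRange_strict data 9 17515 140418 (by decide +kernel)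
theorem e9_c9 : edgeRange data 9 17514 157933 = true := edgeRange_strict data 9 17514 157933 (by decide +kernel)
theorem e9_c10 : edgeRange data 9 24554 175447 = true := edgeRange_strict data 9 24554 175447 (by decide +kernel)
theorem e9_c11 : edgeRange data 9 50000 200001 = true := edgeRange_strict data 9 50000 200001 (by decide +kernel)
theorem e9_c12 : edgeRange data 9 12143 250001 = true := edgeRange_strict data 9 12143 250001 (by decide +kernel)

end Cfsg.Agent.Helper4.TC.HeC2B
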