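import Cfsg.Agent.Lib.Helper4.TC.HeC2BData
import Cfsg.Agent.Lib.Helper4.TC.Strict

set_option autoImplicit false
set_option maxRecDepth 100000
set_option linter.unusedVariables false
set_option Elab.async false

namespace Cfsg.Agent.Helper4.TC.HeC2B

open Cfsg.Agent.Helper4.TC

theorem cnt0 : countFinal data 50000 0 0 = 49253 := countFinal_strict data 50000 0 0 49253 (by decide +kernel)
theorem cnt1 : countFinal data 50000 50000 0 = 49391 := countFinal_strict data 50000 50000 0 49391 (by decide +kernel)
theorem cnt2 : countFinal data 50000 100000 0 = 49675 := countFinal_strict data 50000 100000 0 49675 (by decide +kernel)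
theorem cnt3 : countFinal data 39168 150000 0 = 39106 := countFinal_strict data 39168 150000 0 39106 (by decide +kernel)
theorem rows0 : rowsRange data 189168 1230 0 = true := rowsRange_strict data 189168 1230 0 (by decide +kernel)
theorem rows1 : rowsRange data 189168 1165 1230 = true := rowsRange_strict data 189168 1165 1230 (by decide +kernel)
theorem rows2 : rowsRange data 189168 1164 2395 = true := rowsRange_strict data 189168 1164 2395 (by decide +kernel)
theorem rows3 : rowsRange data 189168 1166 3559 = true := rowsRange_strict data 189168 1166 3559 (by decide +kernel)

end Cfsg.Agent.Helper4.TC.HeC2B
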