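import Cfsg.Agent.Lib.Helper4.TC.HeC2BData
import Cfsg.Agent.Lib.Helper4.TC.Strict

set_option autoImplicit false
set_option maxRecDepth 100000
set_option linter.unusedVariables false
set_option Elab.async false

namespace Cfsg.Agent.Helper4.TC.HeC2B

open Cfsg.Agent.Helper4.TC

theorem rows4 : rowsRange data 189168 1170 4725 = true := rowsRange_strict data 189168 1170 4725 (by decide +kernel)
theorem rows5 : rowsRange data 189168 1164 5895 = true := rowsRange_strict data 189168 1164 5895 (by decide +kernel)
theorem rows6 : rowsRange data 189168 1179 7059 = true := rowsRange_strict data 189168 1179 7059 (by decide +kernel)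
theorem rows7 : rowsRange data 189168 1191 8238 = true := rowsRange_strict data 189168 1191 8238 (by decide +kernel)
theorem rows8 : rowsRange data 189168 1196 9429 = true := rowsRange_strict data 189168 1196 9429 (by decide +kernel)
theorem rows9 : rowsRange data 189168 1169 10625 = true := rowsRange_strict data 189168 1169 10625 (by decide +kernel)
theorem rows10 : rowsRange data 189168 1172 11794 = true := rowsRange_strict data 189168 1172 11794 (by decide +kernel)
theorem rows11 : rowsRange data 189168 1196 12966 = true := rowsRange_strict data 189168 1196 12966 (by decide +kernel)

end Cfsg.Agent.Helper4.TC.HeC2B
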