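import Cfsg.Agent.Lib.Helper4.TC.HeC2BData
import Cfsg.Agent.Lib.Helper4.TC.Strict

set_option autoImplicit false
set_option maxRecDepth 100000
set_option linter.unusedVariables false
set_option Elab.async false

namespace Cfsg.Agent.Helper4.TC.HeC2B

open Cfsg.Agent.Helper4.TC

theorem rows76 : rowsRange data 189168 1185 89633 = true := rowsRange_strict data 189168 1185 89633 (by decide +kernel)
theorem rows77 : rowsRange data 189168 1166 90818 = true := rowsRange_strict data 189168 1166 90818 (by decide +kernel)
theorem rows78 : rowsRange data 189168 1173 91984 = true := rowsRange_strict data 189168 1173 91984 (by decide +kernel)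
theorem rows79 : rowsRange data 189168 1191 93157 = true := rowsRange_strict data 189168 1191 93157 (by decide +kernel)
theorem rows80 : rowsRange data 189168 1173 94348 = true := rowsRange_strict data 189168 1173 94348 (by decide +kernel)
theorem rows81 : rowsRange data 189168 1165 95521 = true := rowsRange_strict data 189168 1165 95521 (by decide +kernel)
theorem rows82 : rowsRange data 189168 1174 96686 = true := rowsRange_strict data 189168 1174 96686 (by decide +kernel)
theorem rows83 : rowsRange data 189168 1171 97860 = true := rowsRange_strict data 189168 1171 97860 (by decide +kernel)

end Cfsg.Agent.Helper4.TC.HeC2B
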