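import Cfsg.Agent.Lib.Helper4.TC.HeC2BData
import Cfsg.Agent.Lib.Helper4.TC.Strict

set_option autoImplicit false
set_option maxRecDepth 100000
set_option linter.unusedVariables false
set_option Elab.async false

namespace Cfsg.Agent.Helper4.TC.HeC2B

open Cfsg.Agent.Helper4.TC

theorem rows84 : rowsRange data 189168 1174 99031 = true := rowsRange_strict data 189168 1174 99031 (by decide +kernel)
theorem rows85 : rowsRange data 189168 1169 100205 = true := rowsRange_strict data 189168 1169 100205 (by decide +kernel)
theorem rows86 : rowsRange data 189168 1168 101374 = true := rowsRange_strict data 189168 1168 101374 (by decide +kernel)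
theorem rows87 : rowsRange data 189168 1181 102542 = true := rowsRange_strict data 189168 1181 102542 (by decide +kernel)
theorem rows88 : rowsRange data 189168 1184 103723 = true := rowsRange_strict data 189168 1184 103723 (by decide +kernel)
theorem rows89 : rowsRange data 189168 1176 104907 = true := rowsRange_strict data 189168 1176 104907 (by decide +kernel)
theorem rows90 : rowsRange data 189168 1181 106083 = true := rowsRange_strict data 189168 1181 106083 (by decide +kernel)
theorem rows91 : rowsRange data 189168 1173 107264 = true := rowsRange_strict data 189168 1173 107264 (by decide +kernel)

end Cfsg.Agent.Helper4.TC.HeC2B
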