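import Cfsg.Agent.Lib.Helper4.TC.HeC2BData
import Cfsg.Agent.Lib.Helper4.TC.Strict

set_option autoImplicit false
set_option maxRecDepth 100000
set_option linter.unusedVariables false
set_option Elab.async false

namespace Cfsg.Agent.Helper4.TC.HeC2B

open Cfsg.Agent.Helper4.TC

theorem rows92 : rowsRange data 189168 1170 108437 = true := rowsRange_strict data 189168 1170 108437 (by decide +kernel)
theorem rows93 : rowsRange data 189168 1166 109607 = true := rowsRange_strict data 189168 1166 109607 (by decide +kernel)
theorem rows94 : rowsRange data 189168 1175 110773 = true := rowsRange_strict data 189168 1175 110773 (by decide +kernel)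
theorem rows95 : rowsRange data 189168 1175 111948 = true := rowsRange_strict data 189168 1175 111948 (by decide +kernel)
theorem rows96 : rowsRange data 189168 1188 113123 = true := rowsRange_strict data 189168 1188 113123 (by decide +kernel)
theorem rows97 : rowsRange data 189168 1168 114311 = true := rowsRange_strict data 189168 1168 114311 (by decide +kernel)
theorem rows98 : rowsRange data 189168 1166 115479 = true := rowsRange_strict data 189168 1166 115479 (by decide +kernel)
theorem rows99 : rowsRange data 189168 1171 116645 = true := rowsRange_strict data 189168 1171 116645 (by decide +kernel)

end Cfsg.Agent.Helper4.TC.HeC2B
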