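import Cfsg.Agent.Lib.Helper4.TC.HeC2BData
import Cfsg.Agent.Lib.Helper4.TC.Strict

set_option autoImplicit false
set_option maxRecDepth 100000
set_option linter.unusedVariables false
set_option Elab.async false

namespace Cfsg.Agent.Helper4.TC.HeC2B

open Cfsg.Agent.Helper4.TC

theorem rows100 : rowsRange data 189168 1196 117816 = true := rowsRange_strict data 189168 1196 117816 (by decide +kernel)
theorem rows101 : rowsRange data 189168 1174 119012 = true := rowsRange_strict data 189168 1174 119012 (by decide +kernel)
theorem rows102 : rowsRange data 189168 1167 120186 = true := rowsRange_strict data 189168 1167 120186 (by decide +kernel)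
theorem rows103 : rowsRange data 189168 1167 121353 = true := rowsRange_strict data 189168 1167 121353 (by decide +kernel)
theorem rows104 : rowsRange data 189168 1171 122520 = true := rowsRange_strict data 189168 1171 122520 (by decide +kernel)
theorem rows105 : rowsRange data 189168 1169 123691 = true := rowsRange_strict data 189168 1169 123691 (by decide +kernel)
theorem rows106 : rowsRange data 189168 1164 124860 = true := rowsRange_strict data 189168 1164 124860 (by decide +kernel)
theorem rows107 : rowsRange data 189168 1163 126024 = true := rowsRange_strict data 189168 1163 126024 (by decide +kernel)

end Cfsg.Agent.Helper4.TC.HeC2B
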