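import Cfsg.Agent.Lib.Helper4.TC.HeC2BData
import Cfsg.Agent.Lib.Helper4.TC.Strict

set_option autoImplicit false
set_option maxRecDepth 100000
set_option linter.unusedVariables false
set_option Elab.async false

namespace Cfsg.Agent.Helper4.TC.HeC2B

open Cfsg.Agent.Helper4.TC

theorem rows108 : rowsRange data 189168 1171 127187 = true := rowsRange_strict data 189168 1171 127187 (by decide +kernel)
theorem rows109 : rowsRange data 189168 1172 128358 = true := rowsRange_strict data 189168 1172 128358 (by decide +kernel)
theorem rows110 : rowsRange data 189168 1171 129530 = true := rowsRange_strict data 189168 1171 129530 (by decide +kernel)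
theorem rows111 : rowsRange data 189168 1169 130701 = true := rowsRange_strict data 189168 1169 130701 (by decide +kernel)
theorem rows112 : rowsRange data 189168 1166 131870 = true := rowsRange_strict data 189168 1166 131870 (by decide +kernel)
theorem rows113 : rowsRange data 189168 1171 133036 = true := rowsRange_strict data 189168 1171 133036 (by decide +kernel)
theorem rows114 : rowsRange data 189168 1168 134207 = true := rowsRange_strict data 189168 1168 134207 (by decide +kernel)
theorem rows115 : rowsRange data 189168 1168 135375 = true := rowsRange_strict data 189168 1168 135375 (by decide +kernel)

end Cfsg.Agent.Helper4.TC.HeC2B
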