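import Cfsg.Agent.Lib.Helper4.TC.HeC2BData
import Cfsg.Agent.Lib.Helper4.TC.Strict

set_option autoImplicit false
set_option maxRecDepth 100000
set_option linter.unusedVariables false
set_option Elab.async false

namespace Cfsg.Agent.Helper4.TC.HeC2B

open Cfsg.Agent.Helper4.TC

theorem rows116 : rowsRange data 189168 1165 136543 = true := rowsRange_strict data 189168 1165 136543 (by decide +kernel)
theorem rows117 : rowsRange data 189168 1169 137708 = true := rowsRange_strict data 189168 1169 137708 (by decide +kernel)
theorem rows118 : rowsRange data 189168 1171 138877 = true := rowsRange_strict data 189168 1171 138877 (by decide +kernel)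
theorem rows119 : rowsRange data 189168 1164 140048 = true := rowsRange_strict data 189168 1164 140048 (by decide +kernel)
theorem rows120 : rowsRange data 189168 1163 141212 = true := rowsRange_strict data 189168 1163 141212 (by decide +kernel)
theorem rows121 : rowsRange data 189168 1166 142375 = true := rowsRange_strict data 189168 1166 142375 (by decide +kernel)
theorem rows122 : rowsRange data 189168 1165 143541 = true := rowsRange_strict data 189168 1165 143541 (by decide +kernel)
theorem rows123 : rowsRange data 189168 1167 144706 = true := rowsRange_strict data 189168 1167 144706 (by decide +kernel)

end Cfsg.Agent.Helper4.TC.HeC2B
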