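import Cfsg.Agent.Lib.Helper4.TC.HeC2BData
import Cfsg.Agent.Lib.Helper4.TC.Strict

set_option autoImplicit false
set_option maxRecDepth 100000
set_option linter.unusedVariables false
set_option Elab.async false

namespace Cfsg.Agent.Helper4.TC.HeC2B

open Cfsg.Agent.Helper4.TC

theorem rows124 : rowsRange data 189168 1166 145873 = true := rowsRange_strict data 189168 1166 145873 (by decide +kernel)
theorem rows125 : rowsRange data 189168 1164 147039 = true := rowsRange_strict data 189168 1164 147039 (by decide +kernel)
theorem rows126 : rowsRange data 189168 1167 148203 = true := rowsRange_strict data 189168 1167 148203 (by decide +kernel)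
theorem rows127 : rowsRange data 189168 1169 149370 = true := rowsRange_strict data 189168 1169 149370 (by decide +kernel)
theorem rows128 : rowsRange data 189168 1166 150539 = true := rowsRange_strict data 189168 1166 150539 (by decide +kernel)
theorem rows129 : rowsRange data 189168 1165 151705 = true := rowsRange_strict data 189168 1165 151705 (by decide +kernel)
theorem rows130 : rowsRange data 189168 1164 152870 = true := rowsRange_strict data 189168 1164 152870 (by decide +kernel)
theorem rows131 : rowsRange data 189168 1168 154034 = true := rowsRange_strict data 189168 1168 154034 (by decide +kernel)

end Cfsg.Agent.Helper4.TC.HeC2B
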