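import Cfsg.Agent.Lib.Helper4.TC.HeC2BData
import Cfsg.Agent.Lib.Helper4.TC.Strict

set_option autoImplicit false
set_option maxRecDepth 100000
set_option linter.unusedVariables false
set_option Elab.async false

namespace Cfsg.Agent.Helper4.TC.HeC2B

open Cfsg.Agent.Helper4.TC

theorem rows132 : rowsRange data 189168 1169 155202 = true := rowsRange_strict data 189168 1169 155202 (by decide +kernel)
theorem rows133 : rowsRange data 189168 1171 156371 = true := rowsRange_strict data 189168 1171 156371 (by decide +kernel)
theorem rows134 : rowsRange data 189168 1167 157542 = true := rowsRange_strict data 189168 1167 157542 (by decide +kernel)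
theorem rows135 : rowsRange data 189168 1165 158709 = true := rowsRange_strict data 189168 1165 158709 (by decide +kernel)
theorem rows136 : rowsRange data 189168 1170 159874 = true := rowsRange_strict data 189168 1170 159874 (by decide +kernel)
theorem rows137 : rowsRange data 189168 1163 161044 = true := rowsRange_strict data 189168 1163 161044 (by decide +kernel)
theorem rows138 : rowsRange data 189168 1166 162207 = true := rowsRange_strict data 189168 1166 162207 (by decide +kernel)
theorem rows139 : rowsRange data 189168 1163 163373 = true := rowsRange_strict data 189168 1163 163373 (by decide +kernel)

end Cfsg.Agent.Helper4.TC.HeC2B
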