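import Cfsg.Agent.Lib.Helper4.TC.HeC2BData
import Cfsg.Agent.Lib.Helper4.TC.Strict

set_option autoImplicit false
set_option maxRecDepth 100000
set_option linter.unusedVariables false
set_option Elab.async false

namespace Cfsg.Agent.Helper4.TC.HeC2B

open Cfsg.Agent.Helper4.TC

theorem rows140 : rowsRange data 189168 1167 164536 = true := rowsRange_strict data 189168 1167 164536 (by decide +kernel)
theorem rows141 : rowsRange data 189168 1163 165703 = true := rowsRange_strict data 189168 1163 165703 (by decide +kernel)
theorem rows142 : rowsRange data 189168 1168 166866 = true := rowsRange_strict data 189168 1168 166866 (by decide +kernel)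
theorem rows143 : rowsRange data 189168 1165 168034 = true := rowsRange_strict data 189168 1165 168034 (by decide +kernel)
theorem rows144 : rowsRange data 189168 1163 169199 = true := rowsRange_strict data 189168 1163 169199 (by decide +kernel)
theorem rows145 : rowsRange data 189168 1163 170362 = true := rowsRange_strict data 189168 1163 170362 (by decide +kernel)
theorem rows146 : rowsRange data 189168 1164 171525 = true := rowsRange_strict data 189168 1164 171525 (by decide +kernel)
theorem rows147 : rowsRange data 189168 1164 172689 = true := rowsRange_strict data 189168 1164 172689 (by decide +kernel)

end Cfsg.Agent.Helper4.TC.HeC2B
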