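import Cfsg.Agent.Lib.Helper4.TC.HeC2BData
import Cfsg.Agent.Lib.Helper4.TC.Strict

set_option autoImplicit false
set_option maxRecDepth 100000
set_option linter.unusedVariables false
set_option Elab.async false

namespace Cfsg.Agent.Helper4.TC.HeC2B

open Cfsg.Agent.Helper4.TC

theorem rows148 : rowsRange data 189168 1164 173853 = true := rowsRange_strict data 189168 1164 173853 (by decide +kernel)
theorem rows149 : rowsRange data 189168 1163 175017 = true := rowsRange_strict data 189168 1163 175017 (by decide +kernel)
theorem rows150 : rowsRange data 189168 1163 176180 = true := rowsRange_strict data 189168 1163 176180 (by decide +kernel)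
theorem rows151 : rowsRange data 189168 1163 177343 = true := rowsRange_strict data 189168 1163 177343 (by decide +kernel)
theorem rows152 : rowsRange data 189168 1163 178506 = true := rowsRange_strict data 189168 1163 178506 (by decide +kernel)
theorem rows153 : rowsRange data 189168 1168 179669 = true := rowsRange_strict data 189168 1168 179669 (by decide +kernel)
theorem rows154 : rowsRange data 189168 1163 180837 = true := rowsRange_strict data 189168 1163 180837 (by decide +kernel)
theorem rows155 : rowsRange data 189168 1165 182000 = true := rowsRange_strict data 189168 1165 182000 (by decide +kernel)

end Cfsg.Agent.Helper4.TC.HeC2B
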