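import Cfsg.Agent.Lib.Helper4.TC.HeC2BData
import Cfsg.Agent.Lib.Helper4.TC.Strict

set_option autoImplicit false
set_option maxRecDepth 100000
set_option linter.unusedVariables false
set_option Elab.async false

namespace Cfsg.Agent.Helper4.TC.HeC2B

open Cfsg.Agent.Helper4.TC

theorem rows12 : rowsRange data 189168 1201 14162 = true := rowsRange_strict data 189168 1201 14162 (by decide +kernel)
theorem rows13 : rowsRange data 189168 1192 15363 = true := rowsRange_strict data 189168 1192 15363 (by decide +kernel)
theorem rows14 : rowsRange data 189168 1190 16555 = true := rowsRange_strict data 189168 1190 16555 (by decide +kernel)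
theorem rows15 : rowsRange data 189168 1189 17745 = true := rowsRange_strict data 189168 1189 17745 (by decide +kernel)
theorem rows16 : rowsRange data 189168 1192 18934 = true := rowsRange_strict data 189168 1192 18934 (by decide +kernel)
theorem rows17 : rowsRange data 189168 1182 20126 = true := rowsRange_strict data 189168 1182 20126 (by decide +kernel)
theorem rows18 : rowsRange data 189168 1189 21308 = true := rowsRange_strict data 189168 1189 21308 (by decide +kernel)
theorem rows19 : rowsRange data 189168 1175 22497 = true := rowsRange_strict data 189168 1175 22497 (by decide +kernel)

end Cfsg.Agent.Helper4.TC.HeC2B
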