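import Cfsg.Agent.Lib.Helper4.TC.HeC2BData
import Cfsg.Agent.Lib.Helper4.TC.Strict

set_option autoImplicit false
set_option maxRecDepth 100000
set_option linter.unusedVariables false
set_option Elab.async false

namespace Cfsg.Agent.Helper4.TC.HeC2B

open Cfsg.Agent.Helper4.TC

theorem rows156 : rowsRange data 189168 1163 183165 = true := rowsRange_strict data 189168 1163 183165 (by decide +kernel)
theorem rows157 : rowsRange data 189168 1163 184328 = true := rowsRange_strict data 189168 1163 184328 (by decide +kernel)
theorem rows158 : rowsRange data 189168 1163 185491 = true := rowsRange_strict data 189168 1163 185491 (by decide +kernel)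
theorem rows159 : rowsRange data 189168 1163 186654 = true := rowsRange_strict data 189168 1163 186654 (by decide +kernel)
theorem rows160 : rowsRange data 189168 1163 187817 = true := rowsRange_strict data 189168 1163 187817 (by decide +kernel)
theorem rows161 : rowsRange data 189168 188 188980 = true := rowsRange_strict data 189168 188 188980 (by decide +kernel)

end Cfsg.Agent.Helper4.TC.HeC2B
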