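import Cfsg.Agent.Lib.Helper4.TC.HeC2BData
import Cfsg.Agent.Lib.Helper4.TC.Strict

set_option autoImplicit false
set_option maxRecDepth 100000
set_option linter.unusedVariables false
set_option Elab.async false

namespace Cfsg.Agent.Helper4.TC.HeC2B

open Cfsg.Agent.Helper4.TC

theorem rows20 : rowsRange data 189168 1179 23672 = true := rowsRange_strict data 189168 1179 23672 (by decide +kernel)
theorem rows21 : rowsRange data 189168 1183 24851 = true := rowsRange_strict data 189168 1183 24851 (by decide +kernel)
theorem rows22 : rowsRange data 189168 1186 26034 = true := rowsRange_strict data 189168 1186 26034 (by decide +kernel)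
theorem rows23 : rowsRange data 189168 1177 27220 = true := rowsRange_strict data 189168 1177 27220 (by decide +kernel)
theorem rows24 : rowsRange data 189168 1179 28397 = true := rowsRange_strict data 189168 1179 28397 (by decide +kernel)
theorem rows25 : rowsRange data 189168 1178 29576 = true := rowsRange_strict data 189168 1178 29576 (by decide +kernel)
theorem rows26 : rowsRange data 189168 1176 30754 = true := rowsRange_strict data 189168 1176 30754 (by decide +kernel)
theorem rows27 : rowsRange data 189168 1168 31930 = true := rowsRange_strict data 189168 1168 31930 (by decide +kernel)

end Cfsg.Agent.Helper4.TC.HeC2B
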