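import Cfsg.Agent.Lib.Helper4.TC.HeC2BData
import Cfsg.Agent.Lib.Helper4.TC.Strict

set_option autoImplicit false
set_option maxRecDepth 100000
set_option linter.unusedVariables false
set_option Elab.async false

namespace Cfsg.Agent.Helper4.TC.HeC2B

open Cfsg.Agent.Helper4.TC

theorem rows28 : rowsRange data 189168 1166 33098 = true := rowsRange_strict data 189168 1166 33098 (by decide +kernel)
theorem rows29 : rowsRange data 189168 1178 34264 = true := rowsRange_strict data 189168 1178 34264 (by decide +kernel)
theorem rows30 : rowsRange data 189168 1172 35442 = true := rowsRange_strict data 189168 1172 35442 (by decide +kernel)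
theorem rows31 : rowsRange data 189168 1188 36614 = true := rowsRange_strict data 189168 1188 36614 (by decide +kernel)
theorem rows32 : rowsRange data 189168 1205 37802 = true := rowsRange_strict data 189168 1205 37802 (by decide +kernel)
theorem rows33 : rowsRange data 189168 1176 39007 = true := rowsRange_strict data 189168 1176 39007 (by decide +kernel)
theorem rows34 : rowsRange data 189168 1187 40183 = true := rowsRange_strict data 189168 1187 40183 (by decide +kernel)
theorem rows35 : rowsRange data 189168 1170 41370 = true := rowsRange_strict data 189168 1170 41370 (by decide +kernel)

end Cfsg.Agent.Helper4.TC.HeC2B
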