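import Cfsg.Agent.Lib.Helper4.TC.HeC2BData
import Cfsg.Agent.Lib.Helper4.TC.Strict

set_option autoImplicit false
set_option maxRecDepth 100000
set_option linter.unusedVariables false
set_option Elab.async false

namespace Cfsg.Agent.Helper4.TC.HeC2B

open Cfsg.Agent.Helper4.TC

theorem rows36 : rowsRange data 189168 1176 42540 = true := rowsRange_strict data 189168 1176 42540 (by decide +kernel)
theorem rows37 : rowsRange data 189168 1169 43716 = true := rowsRange_strict data 189168 1169 43716 (by decide +kernel)
theorem rows38 : rowsRange data 189168 1185 44885 = true := rowsRange_strict data 189168 1185 44885 (by decide +kernel)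
theorem rows39 : rowsRange data 189168 1175 46070 = true := rowsRange_strict data 189168 1175 46070 (by decide +kernel)
theorem rows40 : rowsRange data 189168 1179 47245 = true := rowsRange_strict data 189168 1179 47245 (by decide +kernel)
theorem rows41 : rowsRange data 189168 1163 48424 = true := rowsRange_strict data 189168 1163 48424 (by decide +kernel)
theorem rows42 : rowsRange data 189168 1168 49587 = true := rowsRange_strict data 189168 1168 49587 (by decide +kernel)
theorem rows43 : rowsRange data 189168 1186 50755 = true := rowsRange_strict data 189168 1186 50755 (by decide +kernel)

end Cfsg.Agent.Helper4.TC.HeC2B
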