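import Cfsg.Agent.Lib.Helper4.TC.HeC2BData
import Cfsg.Agent.Lib.Helper4.TC.Strict

set_option autoImplicit false
set_option maxRecDepth 100000
set_option linter.unusedVariables false
set_option Elab.async false

namespace Cfsg.Agent.Helper4.TC.HeC2B

open Cfsg.Agent.Helper4.TC

theorem rows44 : rowsRange data 189168 1198 51941 = true := rowsRange_strict data 189168 1198 51941 (by decide +kernel)
theorem rows45 : rowsRange data 189168 1179 53139 = true := rowsRange_strict data 189168 1179 53139 (by decide +kernel)
theorem rows46 : rowsRange data 189168 1166 54318 = true := rowsRange_strict data 189168 1166 54318 (by decide +kernel)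
theorem rows47 : rowsRange data 189168 1179 55484 = true := rowsRange_strict data 189168 1179 55484 (by decide +kernel)
theorem rows48 : rowsRange data 189168 1186 56663 = true := rowsRange_strict data 189168 1186 56663 (by decide +kernel)
theorem rows49 : rowsRange data 189168 1168 57849 = true := rowsRange_strict data 189168 1168 57849 (by decide +kernel)
theorem rows50 : rowsRange data 189168 1171 59017 = true := rowsRange_strict data 189168 1171 59017 (by decide +kernel)
theorem rows51 : rowsRange data 189168 1191 60188 = true := rowsRange_strict data 189168 1191 60188 (by decide +kernel)

end Cfsg.Agent.Helper4.TC.HeC2B
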