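import Cfsg.Agent.Lib.Helper4.TC.HeC2BData
import Cfsg.Agent.Lib.Helper4.TC.Strict

set_option autoImplicit false
set_option maxRecDepth 100000
set_option linter.unusedVariables false
set_option Elab.async false

namespace Cfsg.Agent.Helper4.TC.HeC2B

open Cfsg.Agent.Helper4.TC

theorem rows52 : rowsRange data 189168 1177 61379 = true := rowsRange_strict data 189168 1177 61379 (by decide +kernel)
theorem rows53 : rowsRange data 189168 1199 62556 = true := rowsRange_strict data 189168 1199 62556 (by decide +kernel)
theorem rows54 : rowsRange data 189168 1174 63755 = true := rowsRange_strict data 189168 1174 63755 (by decide +kernel)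
theorem rows55 : rowsRange data 189168 1175 64929 = true := rowsRange_strict data 189168 1175 64929 (by decide +kernel)
theorem rows56 : rowsRange data 189168 1187 66104 = true := rowsRange_strict data 189168 1187 66104 (by decide +kernel)
theorem rows57 : rowsRange data 189168 1183 67291 = true := rowsRange_strict data 189168 1183 67291 (by decide +kernel)
theorem rows58 : rowsRange data 189168 1171 68474 = true := rowsRange_strict data 189168 1171 68474 (by decide +kernel)
theorem rows59 : rowsRange data 189168 1169 69645 = true := rowsRange_strict data 189168 1169 69645 (by decide +kernel)

end Cfsg.Agent.Helper4.TC.HeC2B
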