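import Cfsg.Agent.Lib.Helper4.TC.HeC2BData
import Cfsg.Agent.Lib.Helper4.TC.Strict

set_option autoImplicit false
set_option maxRecDepth 100000
set_option linter.unusedVariables false
set_option Elab.async false

namespace Cfsg.Agent.Helper4.TC.HeC2B

open Cfsg.Agent.Helper4.TC

theorem rows60 : rowsRange data 189168 1172 70814 = true := rowsRange_strict data 189168 1172 70814 (by decide +kernel)
theorem rows61 : rowsRange data 189168 1174 71986 = true := rowsRange_strict data 189168 1174 71986 (by decide +kernel)
theorem rows62 : rowsRange data 189168 1187 73160 = true := rowsRange_strict data 189168 1187 73160 (by decide +kernel)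
theorem rows63 : rowsRange data 189168 1175 74347 = true := rowsRange_strict data 189168 1175 74347 (by decide +kernel)
theorem rows64 : rowsRange data 189168 1178 75522 = true := rowsRange_strict data 189168 1178 75522 (by decide +kernel)
theorem rows65 : rowsRange data 189168 1170 76700 = true := rowsRange_strict data 189168 1170 76700 (by decide +kernel)
theorem rows66 : rowsRange data 189168 1170 77870 = true := rowsRange_strict data 189168 1170 77870 (by decide +kernel)
theorem rows67 : rowsRange data 189168 1180 79040 = true := rowsRange_strict data 189168 1180 79040 (by decide +kernel)

end Cfsg.Agent.Helper4.TC.HeC2B
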