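import Cfsg.Agent.Lib.Helper4.TC.HeC2BData
import Cfsg.Agent.Lib.Helper4.TC.Strict

set_option autoImplicit false
set_option maxRecDepth 100000
set_option linter.unusedVariables false
set_option Elab.async false

namespace Cfsg.Agent.Helper4.TC.HeC2B

open Cfsg.Agent.Helper4.TC

theorem rows68 : rowsRange data 189168 1193 80220 = true := rowsRange_strict data 189168 1193 80220 (by decide +kernel)
theorem rows69 : rowsRange data 189168 1173 81413 = true := rowsRange_strict data 189168 1173 81413 (by decide +kernel)
theorem rows70 : rowsRange data 189168 1186 82586 = true := rowsRange_strict data 189168 1186 82586 (by decide +kernel)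
theorem rows71 : rowsRange data 189168 1170 83772 = true := rowsRange_strict data 189168 1170 83772 (by decide +kernel)
theorem rows72 : rowsRange data 189168 1167 84942 = true := rowsRange_strict data 189168 1167 84942 (by decide +kernel)
theorem rows73 : rowsRange data 189168 1174 86109 = true := rowsRange_strict data 189168 1174 86109 (by decide +kernel)
theorem rows74 : rowsRange data 189168 1171 87283 = true := rowsRange_strict data 189168 1171 87283 (by decide +kernel)
theorem rows75 : rowsRange data 189168 1179 88454 = true := rowsRange_strict data 189168 1179 88454 (by decide +kernel)

end Cfsg.Agent.Helper4.TC.HeC2B
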