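import Cfsg.Agent.Lib.Helper4.TC.HeC2BData
import Cfsg.Agent.Lib.Helper4.TC.Strict

set_option autoImplicit false
set_option maxRecDepth 100000
set_option linter.unusedVariables false
set_option Elab.async false

namespace Cfsg.Agent.Helper4.TC.HeC2B

open Cfsg.Agent.Helper4.TC

theorem m_c0 : mergeRange data 46832 0 = true := mergeRange_strict data 46832 0 (by decide +kernel)
theorem m_c1 : mergeRange data 47022 46832 = true := mergeRange_strict data 47022 46832 (by decide +kernel)
theorem m_c2 : mergeRange data 47861 93854 = true := mergeRange_strict data 47861 93854 (by decide +kernel)
theorem m_c3 : mergeRange data 49515 141715 = true := mergeRange_strict data 49515 141715 (by decide +kernel)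
theorem m_c4 : mergeRange data 50000 191230 = true := mergeRange_strict data 50000 191230 (by decide +kernel)
theorem m_c5 : mergeRange data 20914 241230 = true := mergeRange_strict data 20914 241230 (by decide +kernel)

end Cfsg.Agent.Helper4.TC.HeC2B
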