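import Cfsg.Agent.Lib.Helper4.TC.HeC2BModel
import Cfsg.Agent.Lib.Helper4.TC.HeC2BData
import Cfsg.Agent.Lib.Helper4.TC.Strict

set_option autoImplicit false
set_option maxRecDepth 100000
set_option linter.unusedVariables false
set_option Elab.async false

namespace Cfsg.Agent.Helper4.TC.HeC2B

open Cfsg.Agent.Helper4.TC

theorem rel8 : relsRange mdata bases 277 2216 = true := relsRange_strict mdata bases 277 2216 (by decide +kernel)
theorem rel9 : relsRange mdata bases 277 2493 = true := relsRange_strict mdata bases 277 2493 (by decide +kernel)
theorem rel10 : relsRange mdata bases 277 2770 = true := relsRange_strict mdata bases 277 2770 (by decide +kernel)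
theorem rel11 : relsRange mdata bases 277 3047 = true := relsRange_strict mdata bases 277 3047 (by decide +kernel)
theorem rel12 : relsRange mdata bases 277 3324 = true := relsRange_strict mdata bases 277 3324 (by decide +kernel)
theorem rel13 : relsRange mdata bases 277 3601 = true := relsRange_strict mdata bases 277 3601 (by decide +kernel)
theorem rel14 : relsRange mdata bases 277 3878 = true := relsRange_strict mdata bases 277 3878 (by decide +kernel)
theorem rel15 : relsRange mdata bases 277 4155 = true := relsRange_strict mdata bases 277 4155 (by decide +kernel)

end Cfsg.Agent.Helper4.TC.HeC2B
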