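import Cfsg.Agent.Lib.Helper4.TC.HeC2BModel
import Cfsg.Agent.Lib.Helper4.TC.HeC2BData
import Cfsg.Agent.Lib.Helper4.TC.Strict

set_option autoImplicit false
set_option maxRecDepth 100000
set_option linter.unusedVariables false
set_option Elab.async false

namespace Cfsg.Agent.Helper4.TC.HeC2B

open Cfsg.Agent.Helper4.TC

theorem rel80 : relsRange mdata bases 277 22160 = true := relsRange_strict mdata bases 277 22160 (by decide +kernel)
theorem rel81 : relsRange mdata bases 277 22437 = true := relsRange_strict mdata bases 277 22437 (by decide +kernel)
theorem rel82 : relsRange mdata bases 277 22714 = true := relsRange_strict mdata bases 277 22714 (by decide +kernel)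
theorem rel83 : relsRange mdata bases 277 22991 = true := relsRange_strict mdata bases 277 22991 (by decide +kernel)
theorem rel84 : relsRange mdata bases 277 23268 = true := relsRange_strict mdata bases 277 23268 (by decide +kernel)
theorem rel85 : relsRange mdata bases 277 23545 = true := relsRange_strict mdata bases 277 23545 (by decide +kernel)
theorem rel86 : relsRange mdata bases 277 23822 = true := relsRange_strict mdata bases 277 23822 (by decide +kernel)
theorem rel87 : relsRange mdata bases 277 24099 = true := relsRange_strict mdata bases 277 24099 (by decide +kernel)

end Cfsg.Agent.Helper4.TC.HeC2B
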