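import Cfsg.Agent.Lib.Helper4.TC.HeC2BModel
import Cfsg.Agent.Lib.Helper4.TC.HeC2BData
import Cfsg.Agent.Lib.Helper4.TC.Strict

set_option autoImplicit false
set_option maxRecDepth 100000
set_option linter.unusedVariables false
set_option Elab.async false

namespace Cfsg.Agent.Helper4.TC.HeC2B

open Cfsg.Agent.Helper4.TC

theorem closed5_0 : closedRange mdata subsL 6399 6511 112 6399 = true := closedRange_strict mdata subsL 6399 6511 112 6399 (by decide +kernel)
theorem reach5_0 : reachRange mdata subsL 6399 111 6400 = true := reachRange_strict mdata subsL 6399 111 6400 (by decide +kernel)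
theorem closed6_0 : closedRange mdata subsL 6511 6525 14 6511 = true := closedRange_strict mdata subsL 6511 6525 14 6511 (by decide +kernel)
theorem reach6_0 : reachRange mdata subsL 6511 13 6512 = true := reachRange_strict mdata subsL 6511 13 6512 (by decide +kernel)
theorem closed7_0 : closedRange mdata subsL 6525 6693 168 6525 = true := closedRange_strict mdata subsL 6525 6693 168 6525 (by decide +kernel)
theorem reach7_0 : reachRange mdata subsL 6525 167 6526 = true := reachRange_strict mdata subsL 6525 167 6526 (by decide +kernel)
theorem closed8_0 : closedRange mdata subsL 6693 8037 1344 6693 = true := closedRange_strict mdata subsL 6693 8037 1344 6693 (by decide +kernel)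
theorem reach8_0 : reachRange mdata subsL 6693 1343 6694 = true := reachRange_strict mdata subsL 6693 1343 6694 (by decide +kernel)

end Cfsg.Agent.Helper4.TC.HeC2B
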