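import Cfsg.Agent.Lib.Helper4.TC.HeC2BModel
import Cfsg.Agent.Lib.Helper4.TC.HeC2BData
import Cfsg.Agent.Lib.Helper4.TC.Strict

set_option autoImplicit false
set_option maxRecDepth 100000
set_option linter.unusedVariables false
set_option Elab.async false

namespace Cfsg.Agent.Helper4.TC.HeC2B

open Cfsg.Agent.Helper4.TC

theorem closed9_0 : closedRange mdata subsL 8037 8205 168 8037 = true := closedRange_strict mdata subsL 8037 8205 168 8037 (by decide +kernel)
theorem reach9_0 : reachRange mdata subsL 8037 167 8038 = true := reachRange_strict mdata subsL 8037 167 8038 (by decide +kernel)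
theorem closed10_0 : closedRange mdata subsL 8205 9549 1344 8205 = true := closedRange_strict mdata subsL 8205 9549 1344 8205 (by decide +kernel)
theorem reach10_0 : reachRange mdata subsL 8205 1343 8206 = true := reachRange_strict mdata subsL 8205 1343 8206 (by decide +kernel)
theorem closed11_0 : closedRange mdata subsL 9549 31053 3333 9549 = true := closedRange_strict mdata subsL 9549 31053 3333 9549 (by decide +kernel)
theorem closed11_1 : closedRange mdata subsL 9549 31053 3333 12882 = true := closedRange_strict mdata subsL 9549 31053 3333 12882 (by decide +kernel)
theorem closed11_2 : closedRange mdata subsL 9549 31053 3333 16215 = true := closedRange_strict mdata subsL 9549 31053 3333 16215 (by decide +kernel)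
theorem closed11_3 : closedRange mdata subsL 9549 31053 3333 19548 = true := closedRange_strict mdata subsL 9549 31053 3333 19548 (by decide +kernel)

end Cfsg.Agent.Helper4.TC.HeC2B
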