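import Cfsg.Agent.Lib.Helper4.TC.HeC2BModel
import Cfsg.Agent.Lib.Helper4.TC.HeC2BData
import Cfsg.Agent.Lib.Helper4.TC.Strict

set_option autoImplicit false
set_option maxRecDepth 100000
set_option linter.unusedVariables false
set_option Elab.async false

namespace Cfsg.Agent.Helper4.TC.HeC2B

open Cfsg.Agent.Helper4.TC

theorem closed11_4 : closedRange mdata subsL 9549 31053 3333 22881 = true := closedRange_strict mdata subsL 9549 31053 3333 22881 (by decide +kernel)
theorem closed11_5 : closedRange mdata subsL 9549 31053 3333 26214 = true := closedRange_strict mdata subsL 9549 31053 3333 26214 (by decide +kernel)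
theorem closed11_6 : closedRange mdata subsL 9549 31053 1506 29547 = true := closedRange_strict mdata subsL 9549 31053 1506 29547 (by decide +kernel)
theorem reach11_0 : reachRange mdata subsL 9549 8888 9550 = true := reachRange_strict mdata subsL 9549 8888 9550 (by decide +kernel)
theorem reach11_1 : reachRange mdata subsL 9549 8888 18438 = true := reachRange_strict mdata subsL 9549 8888 18438 (by decide +kernel)
theorem reach11_2 : reachRange mdata subsL 9549 3727 27326 = true := reachRange_strict mdata subsL 9549 3727 27326 (by decide +kernel)
theorem closed12_0 : closedRange mdata subsL 31053 31137 84 31053 = true := closedRange_strict mdata subsL 31053 31137 84 31053 (by decide +kernel)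
theorem reach12_0 : reachRange mdata subsL 31053 83 31054 = true := reachRange_strict mdata subsL 31053 83 31054 (by decide +kernel)

end Cfsg.Agent.Helper4.TC.HeC2B
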