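import Cfsg.Agent.Lib.Helper4.TC.HeC2BModel
import Cfsg.Agent.Lib.Helper4.TC.HeC2BData
import Cfsg.Agent.Lib.Helper4.TC.Strict

set_option autoImplicit false
set_option maxRecDepth 100000
set_option linter.unusedVariables false
set_option Elab.async false

namespace Cfsg.Agent.Helper4.TC.HeC2B

open Cfsg.Agent.Helper4.TC

theorem closed13_0 : closedRange mdata subsL 31137 52641 3333 31137 = true := closedRange_strict mdata subsL 31137 52641 3333 31137 (by decide +kernel)
theorem closed13_1 : closedRange mdata subsL 31137 52641 3333 34470 = true := closedRange_strict mdata subsL 31137 52641 3333 34470 (by decide +kernel)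
theorem closed13_2 : closedRange mdata subsL 31137 52641 3333 37803 = true := closedRange_strict mdata subsL 31137 52641 3333 37803 (by decide +kernel)
theorem closed13_3 : closedRange mdata subsL 31137 52641 3333 41136 = true := closedRange_strict mdata subsL 31137 52641 3333 41136 (by decide +kernel)
theorem closed13_4 : closedRange mdata subsL 31137 52641 3333 44469 = true := closedRange_strict mdata subsL 31137 52641 3333 44469 (by decide +kernel)
theorem closed13_5 : closedRange mdata subsL 31137 52641 3333 47802 = true := closedRange_strict mdata subsL 31137 52641 3333 47802 (by decide +kernel)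
theorem closed13_6 : closedRange mdata subsL 31137 52641 1506 51135 = true := closedRange_strict mdata subsL 31137 52641 1506 51135 (by decide +kernel)
theorem reach13_0 : reachRange mdata subsL 31137 8888 31138 = true := reachRange_strict mdata subsL 31137 8888 31138 (by decide +kernel)

end Cfsg.Agent.Helper4.TC.HeC2B
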