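import Cfsg.Agent.Lib.Helper4.TC.HeC2BModel
import Cfsg.Agent.Lib.Helper4.TC.HeC2BData
import Cfsg.Agent.Lib.Helper4.TC.Strict

set_option autoImplicit false
set_option maxRecDepth 100000
set_option linter.unusedVariables false
set_option Elab.async false

namespace Cfsg.Agent.Helper4.TC.HeC2B

open Cfsg.Agent.Helper4.TC

theorem reach13_1 : reachRange mdata subsL 31137 8888 40026 = true := reachRange_strict mdata subsL 31137 8888 40026 (by decide +kernel)
theorem reach13_2 : reachRange mdata subsL 31137 3727 48914 = true := reachRange_strict mdata subsL 31137 3727 48914 (by decide +kernel)
theorem closed14_0 : closedRange mdata subsL 52641 74145 3333 52641 = true := closedRange_strict mdata subsL 52641 74145 3333 52641 (by decide +kernel)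
theorem closed14_1 : closedRange mdata subsL 52641 74145 3333 55974 = true := closedRange_strict mdata subsL 52641 74145 3333 55974 (by decide +kernel)
theorem closed14_2 : closedRange mdata subsL 52641 74145 3333 59307 = true := closedRange_strict mdata subsL 52641 74145 3333 59307 (by decide +kernel)
theorem closed14_3 : closedRange mdata subsL 52641 74145 3333 62640 = true := closedRange_strict mdata subsL 52641 74145 3333 62640 (by decide +kernel)
theorem closed14_4 : closedRange mdata subsL 52641 74145 3333 65973 = true := closedRange_strict mdata subsL 52641 74145 3333 65973 (by decide +kernel)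
theorem closed14_5 : closedRange mdata subsL 52641 74145 3333 69306 = true := closedRange_strict mdata subsL 52641 74145 3333 69306 (by decide +kernel)

end Cfsg.Agent.Helper4.TC.HeC2B
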