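import Cfsg.Agent.Lib.Helper4.TC.HeC2BModel
import Cfsg.Agent.Lib.Helper4.TC.HeC2BData
import Cfsg.Agent.Lib.Helper4.TC.Strict

set_option autoImplicit false
set_option maxRecDepth 100000
set_option linter.unusedVariables false
set_option Elab.async false

namespace Cfsg.Agent.Helper4.TC.HeC2B

open Cfsg.Agent.Helper4.TC

theorem closed14_6 : closedRange mdata subsL 52641 74145 1506 72639 = true := closedRange_strict mdata subsL 52641 74145 1506 72639 (by decide +kernel)
theorem reach14_0 : reachRange mdata subsL 52641 8888 52642 = true := reachRange_strict mdata subsL 52641 8888 52642 (by decide +kernel)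
theorem reach14_1 : reachRange mdata subsL 52641 8888 61530 = true := reachRange_strict mdata subsL 52641 8888 61530 (by decide +kernel)
theorem reach14_2 : reachRange mdata subsL 52641 3727 70418 = true := reachRange_strict mdata subsL 52641 3727 70418 (by decide +kernel)
theorem closed15_0 : closedRange mdata subsL 74145 95649 3333 74145 = true := closedRange_strict mdata subsL 74145 95649 3333 74145 (by decide +kernel)
theorem closed15_1 : closedRange mdata subsL 74145 95649 3333 77478 = true := closedRange_strict mdata subsL 74145 95649 3333 77478 (by decide +kernel)
theorem closed15_2 : closedRange mdata subsL 74145 95649 3333 80811 = true := closedRange_strict mdata subsL 74145 95649 3333 80811 (by decide +kernel)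
theorem closed15_3 : closedRange mdata subsL 74145 95649 3333 84144 = true := closedRange_strict mdata subsL 74145 95649 3333 84144 (by decide +kernel)

end Cfsg.Agent.Helper4.TC.HeC2B
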