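import Cfsg.Agent.Lib.Helper4.TC.HeC2BModel
import Cfsg.Agent.Lib.Helper4.TC.HeC2BData
import Cfsg.Agent.Lib.Helper4.TC.Strict

set_option autoImplicit false
set_option maxRecDepth 100000
set_option linter.unusedVariables false
set_option Elab.async false

namespace Cfsg.Agent.Helper4.TC.HeC2B

open Cfsg.Agent.Helper4.TC

theorem closed15_4 : closedRange mdata subsL 74145 95649 3333 87477 = true := closedRange_strict mdata subsL 74145 95649 3333 87477 (by decide +kernel)
theorem closed15_5 : closedRange mdata subsL 74145 95649 3333 90810 = true := closedRange_strict mdata subsL 74145 95649 3333 90810 (by decide +kernel)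
theorem closed15_6 : closedRange mdata subsL 74145 95649 1506 94143 = true := closedRange_strict mdata subsL 74145 95649 1506 94143 (by decide +kernel)
theorem reach15_0 : reachRange mdata subsL 74145 8888 74146 = true := reachRange_strict mdata subsL 74145 8888 74146 (by decide +kernel)
theorem reach15_1 : reachRange mdata subsL 74145 8888 83034 = true := reachRange_strict mdata subsL 74145 8888 83034 (by decide +kernel)
theorem reach15_2 : reachRange mdata subsL 74145 3727 91922 = true := reachRange_strict mdata subsL 74145 3727 91922 (by decide +kernel)
theorem closed16_0 : closedRange mdata subsL 95649 101025 3333 95649 = true := closedRange_strict mdata subsL 95649 101025 3333 95649 (by decide +kernel)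
theorem closed16_1 : closedRange mdata subsL 95649 101025 2043 98982 = true := closedRange_strict mdata subsL 95649 101025 2043 98982 (by decide +kernel)

end Cfsg.Agent.Helper4.TC.HeC2B
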