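import Cfsg.Agent.Lib.Helper4.TC.HeC2BModel
import Cfsg.Agent.Lib.Helper4.TC.HeC2BData
import Cfsg.Agent.Lib.Helper4.TC.Strict

set_option autoImplicit false
set_option maxRecDepth 100000
set_option linter.unusedVariables false
set_option Elab.async false

namespace Cfsg.Agent.Helper4.TC.HeC2B

open Cfsg.Agent.Helper4.TC

theorem reach16_0 : reachRange mdata subsL 95649 5375 95650 = true := reachRange_strict mdata subsL 95649 5375 95650 (by decide +kernel)
theorem closed17_0 : closedRange mdata subsL 101025 106401 3333 101025 = true := closedRange_strict mdata subsL 101025 106401 3333 101025 (by decide +kernel)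
theorem closed17_1 : closedRange mdata subsL 101025 106401 2043 104358 = true := closedRange_strict mdata subsL 101025 106401 2043 104358 (by decide +kernel)
theorem reach17_0 : reachRange mdata subsL 101025 5375 101026 = true := reachRange_strict mdata subsL 101025 5375 101026 (by decide +kernel)
theorem closed18_0 : closedRange mdata subsL 106401 111777 3333 106401 = true := closedRange_strict mdata subsL 106401 111777 3333 106401 (by decide +kernel)
theorem closed18_1 : closedRange mdata subsL 106401 111777 2043 109734 = true := closedRange_strict mdata subsL 106401 111777 2043 109734 (by decide +kernel)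
theorem reach18_0 : reachRange mdata subsL 106401 5375 106402 = true := reachRange_strict mdata subsL 106401 5375 106402 (by decide +kernel)
theorem closed19_0 : closedRange mdata subsL 111777 122529 3333 111777 = true := closedRange_strict mdata subsL 111777 122529 3333 111777 (by decide +kernel)

end Cfsg.Agent.Helper4.TC.HeC2B
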