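import Cfsg.Agent.Lib.Helper4.TC.HeC2BModel
import Cfsg.Agent.Lib.Helper4.TC.HeC2BData
import Cfsg.Agent.Lib.Helper4.TC.Strict

set_option autoImplicit false
set_option maxRecDepth 100000
set_option linter.unusedVariables false
set_option Elab.async false

namespace Cfsg.Agent.Helper4.TC.HeC2B

open Cfsg.Agent.Helper4.TC

theorem closed20_3 : closedRange mdata subsL 122529 133281 753 132528 = true := closedRange_strict mdata subsL 122529 133281 753 132528 (by decide +kernel)
theorem reach20_0 : reachRange mdata subsL 122529 8888 122530 = true := reachRange_strict mdata subsL 122529 8888 122530 (by decide +kernel)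
theorem reach20_1 : reachRange mdata subsL 122529 1863 131418 = true := reachRange_strict mdata subsL 122529 1863 131418 (by decide +kernel)
theorem closed21_0 : closedRange mdata subsL 133281 135969 2688 133281 = true := closedRange_strict mdata subsL 133281 135969 2688 133281 (by decide +kernel)
theorem reach21_0 : reachRange mdata subsL 133281 2687 133282 = true := reachRange_strict mdata subsL 133281 2687 133282 (by decide +kernel)
theorem closed22_0 : closedRange mdata subsL 135969 141345 3333 135969 = true := closedRange_strict mdata subsL 135969 141345 3333 135969 (by decide +kernel)
theorem closed22_1 : closedRange mdata subsL 135969 141345 2043 139302 = true := closedRange_strict mdata subsL 135969 141345 2043 139302 (by decide +kernel)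
theorem reach22_0 : reachRange mdata subsL 135969 5375 135970 = true := reachRange_strict mdata subsL 135969 5375 135970 (by decide +kernel)

end Cfsg.Agent.Helper4.TC.HeC2B
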