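import Cfsg.Agent.Lib.Helper4.TC.HeC2BModel
import Cfsg.Agent.Lib.Helper4.TC.HeC2BData
import Cfsg.Agent.Lib.Helper4.TC.Strict

set_option autoImplicit false
set_option maxRecDepth 100000
set_option linter.unusedVariables false
set_option Elab.async false

namespace Cfsg.Agent.Helper4.TC.HeC2B

open Cfsg.Agent.Helper4.TC

theorem rel88 : relsRange mdata bases 277 24376 = true := relsRange_strict mdata bases 277 24376 (by decide +kernel)
theorem rel89 : relsRange mdata bases 277 24653 = true := relsRange_strict mdata bases 277 24653 (by decide +kernel)
theorem rel90 : relsRange mdata bases 277 24930 = true := relsRange_strict mdata bases 277 24930 (by decide +kernel)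
theorem rel91 : relsRange mdata bases 277 25207 = true := relsRange_strict mdata bases 277 25207 (by decide +kernel)
theorem rel92 : relsRange mdata bases 277 25484 = true := relsRange_strict mdata bases 277 25484 (by decide +kernel)
theorem rel93 : relsRange mdata bases 277 25761 = true := relsRange_strict mdata bases 277 25761 (by decide +kernel)
theorem rel94 : relsRange mdata bases 277 26038 = true := relsRange_strict mdata bases 277 26038 (by decide +kernel)
theorem rel95 : relsRange mdata bases 277 26315 = true := relsRange_strict mdata bases 277 26315 (by decide +kernel)

end Cfsg.Agent.Helper4.TC.HeC2B
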