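import Cfsg.Agent.Lib.Helper4.TC.HeC2BModel
import Cfsg.Agent.Lib.Helper4.TC.HeC2BData
import Cfsg.Agent.Lib.Helper4.TC.Strict

set_option autoImplicit false
set_option maxRecDepth 100000
set_option linter.unusedVariables false
set_option Elab.async false

namespace Cfsg.Agent.Helper4.TC.HeC2B

open Cfsg.Agent.Helper4.TC

theorem closed23_0 : closedRange mdata subsL 141345 146721 3333 141345 = true := closedRange_strict mdata subsL 141345 146721 3333 141345 (by decide +kernel)
theorem closed23_1 : closedRange mdata subsL 141345 146721 2043 144678 = true := closedRange_strict mdata subsL 141345 146721 2043 144678 (by decide +kernel)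
theorem reach23_0 : reachRange mdata subsL 141345 5375 141346 = true := reachRange_strict mdata subsL 141345 5375 141346 (by decide +kernel)
theorem closed24_0 : closedRange mdata subsL 146721 168225 3333 146721 = true := closedRange_strict mdata subsL 146721 168225 3333 146721 (by decide +kernel)
theorem closed24_1 : closedRange mdata subsL 146721 168225 3333 150054 = true := closedRange_strict mdata subsL 146721 168225 3333 150054 (by decide +kernel)
theorem closed24_2 : closedRange mdata subsL 146721 168225 3333 153387 = true := closedRange_strict mdata subsL 146721 168225 3333 153387 (by decide +kernel)
theorem closed24_3 : closedRange mdata subsL 146721 168225 3333 156720 = true := closedRange_strict mdata subsL 146721 168225 3333 156720 (by decide +kernel)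
theorem closed24_4 : closedRange mdata subsL 146721 168225 3333 160053 = true := closedRange_strict mdata subsL 146721 168225 3333 160053 (by decide +kernel)

end Cfsg.Agent.Helper4.TC.HeC2B
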