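import Cfsg.Agent.Lib.Helper4.TC.HeC2BModel
import Cfsg.Agent.Lib.Helper4.TC.HeC2BData
import Cfsg.Agent.Lib.Helper4.TC.Strict

set_option autoImplicit false
set_option maxRecDepth 100000
set_option linter.unusedVariables false
set_option Elab.async false

namespace Cfsg.Agent.Helper4.TC.HeC2B

open Cfsg.Agent.Helper4.TC

theorem closed24_5 : closedRange mdata subsL 146721 168225 3333 163386 = true := closedRange_strict mdata subsL 146721 168225 3333 163386 (by decide +kernel)
theorem closed24_6 : closedRange mdata subsL 146721 168225 1506 166719 = true := closedRange_strict mdata subsL 146721 168225 1506 166719 (by decide +kernel)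
theorem reach24_0 : reachRange mdata subsL 146721 8888 146722 = true := reachRange_strict mdata subsL 146721 8888 146722 (by decide +kernel)
theorem reach24_1 : reachRange mdata subsL 146721 8888 155610 = true := reachRange_strict mdata subsL 146721 8888 155610 (by decide +kernel)
theorem reach24_2 : reachRange mdata subsL 146721 3727 164498 = true := reachRange_strict mdata subsL 146721 3727 164498 (by decide +kernel)
theorem closed25_0 : closedRange mdata subsL 168225 171297 3072 168225 = true := closedRange_strict mdata subsL 168225 171297 3072 168225 (by decide +kernel)
theorem reach25_0 : reachRange mdata subsL 168225 3071 168226 = true := reachRange_strict mdata subsL 168225 3071 168226 (by decide +kernel)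
theorem closed26_0 : closedRange mdata subsL 171297 172641 1344 171297 = true := closedRange_strict mdata subsL 171297 172641 1344 171297 (by decide +kernel)

end Cfsg.Agent.Helper4.TC.HeC2B
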