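import Cfsg.Agent.Lib.Helper4.TC.HeC2BModel
import Cfsg.Agent.Lib.Helper4.TC.HeC2BData
import Cfsg.Agent.Lib.Helper4.TC.Strict

set_option autoImplicit false
set_option maxRecDepth 100000
set_option linter.unusedVariables false
set_option Elab.async false

namespace Cfsg.Agent.Helper4.TC.HeC2B

open Cfsg.Agent.Helper4.TC

theorem reach26_0 : reachRange mdata subsL 171297 1343 171298 = true := reachRange_strict mdata subsL 171297 1343 171298 (by decide +kernel)
theorem closed27_0 : closedRange mdata subsL 172641 173313 672 172641 = true := closedRange_strict mdata subsL 172641 173313 672 172641 (by decide +kernel)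
theorem reach27_0 : reachRange mdata subsL 172641 671 172642 = true := reachRange_strict mdata subsL 172641 671 172642 (by decide +kernel)
theorem closed28_0 : closedRange mdata subsL 173313 173985 672 173313 = true := closedRange_strict mdata subsL 173313 173985 672 173313 (by decide +kernel)
theorem reach28_0 : reachRange mdata subsL 173313 671 173314 = true := reachRange_strict mdata subsL 173313 671 173314 (by decide +kernel)
theorem closed29_0 : closedRange mdata subsL 173985 179361 3333 173985 = true := closedRange_strict mdata subsL 173985 179361 3333 173985 (by decide +kernel)
theorem closed29_1 : closedRange mdata subsL 173985 179361 2043 177318 = true := closedRange_strict mdata subsL 173985 179361 2043 177318 (by decide +kernel)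
theorem reach29_0 : reachRange mdata subsL 173985 5375 173986 = true := reachRange_strict mdata subsL 173985 5375 173986 (by decide +kernel)

end Cfsg.Agent.Helper4.TC.HeC2B
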