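import Cfsg.Agent.Lib.Helper4.TC.HeC2BModel
import Cfsg.Agent.Lib.Helper4.TC.HeC2BData
import Cfsg.Agent.Lib.Helper4.TC.Strict

set_option autoImplicit false
set_option maxRecDepth 100000
set_option linter.unusedVariables false
set_option Elab.async false

namespace Cfsg.Agent.Helper4.TC.HeC2B

open Cfsg.Agent.Helper4.TC

theorem closed30_0 : closedRange mdata subsL 179361 180033 672 179361 = true := closedRange_strict mdata subsL 179361 180033 672 179361 (by decide +kernel)
theorem reach30_0 : reachRange mdata subsL 179361 671 179362 = true := reachRange_strict mdata subsL 179361 671 179362 (by decide +kernel)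
theorem closed31_0 : closedRange mdata subsL 180033 185409 3333 180033 = true := closedRange_strict mdata subsL 180033 185409 3333 180033 (by decide +kernel)
theorem closed31_1 : closedRange mdata subsL 180033 185409 2043 183366 = true := closedRange_strict mdata subsL 180033 185409 2043 183366 (by decide +kernel)
theorem reach31_0 : reachRange mdata subsL 180033 5375 180034 = true := reachRange_strict mdata subsL 180033 5375 180034 (by decide +kernel)
theorem closed32_0 : closedRange mdata subsL 185409 186753 1344 185409 = true := closedRange_strict mdata subsL 185409 186753 1344 185409 (by decide +kernel)
theorem reach32_0 : reachRange mdata subsL 185409 1343 185410 = true := reachRange_strict mdata subsL 185409 1343 185410 (by decide +kernel)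
theorem closed33_0 : closedRange mdata subsL 186753 187425 672 186753 = true := closedRange_strict mdata subsL 186753 187425 672 186753 (by decide +kernel)

end Cfsg.Agent.Helper4.TC.HeC2B
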