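import Cfsg.Agent.Lib.Helper4.TC.HeC2BModel
import Cfsg.Agent.Lib.Helper4.TC.HeC2BData
import Cfsg.Agent.Lib.Helper4.TC.Strict

set_option autoImplicit false
set_option maxRecDepth 100000
set_option linter.unusedVariables false
set_option Elab.async false

namespace Cfsg.Agent.Helper4.TC.HeC2B

open Cfsg.Agent.Helper4.TC

theorem rel96 : relsRange mdata bases 277 26592 = true := relsRange_strict mdata bases 277 26592 (by decide +kernel)
theorem rel97 : relsRange mdata bases 277 26869 = true := relsRange_strict mdata bases 277 26869 (by decide +kernel)
theorem rel98 : relsRange mdata bases 277 27146 = true := relsRange_strict mdata bases 277 27146 (by decide +kernel)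
theorem rel99 : relsRange mdata bases 277 27423 = true := relsRange_strict mdata bases 277 27423 (by decide +kernel)
theorem rel100 : relsRange mdata bases 277 27700 = true := relsRange_strict mdata bases 277 27700 (by decide +kernel)
theorem rel101 : relsRange mdata bases 277 27977 = true := relsRange_strict mdata bases 277 27977 (by decide +kernel)
theorem rel102 : relsRange mdata bases 277 28254 = true := relsRange_strict mdata bases 277 28254 (by decide +kernel)
theorem rel103 : relsRange mdata bases 277 28531 = true := relsRange_strict mdata bases 277 28531 (by decide +kernel)

end Cfsg.Agent.Helper4.TC.HeC2B
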