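import Cfsg.Agent.Lib.Helper4.TC.HeC2BModel
import Cfsg.Agent.Lib.Helper4.TC.HeC2BData
import Cfsg.Agent.Lib.Helper4.TC.Strict

set_option autoImplicit false
set_option maxRecDepth 100000
set_option linter.unusedVariables false
set_option Elab.async false

namespace Cfsg.Agent.Helper4.TC.HeC2B

open Cfsg.Agent.Helper4.TC

theorem rel104 : relsRange mdata bases 277 28808 = true := relsRange_strict mdata bases 277 28808 (by decide +kernel)
theorem rel105 : relsRange mdata bases 277 29085 = true := relsRange_strict mdata bases 277 29085 (by decide +kernel)
theorem rel106 : relsRange mdata bases 277 29362 = true := relsRange_strict mdata bases 277 29362 (by decide +kernel)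
theorem rel107 : relsRange mdata bases 277 29639 = true := relsRange_strict mdata bases 277 29639 (by decide +kernel)
theorem rel108 : relsRange mdata bases 277 29916 = true := relsRange_strict mdata bases 277 29916 (by decide +kernel)
theorem rel109 : relsRange mdata bases 277 30193 = true := relsRange_strict mdata bases 277 30193 (by decide +kernel)
theorem rel110 : relsRange mdata bases 277 30470 = true := relsRange_strict mdata bases 277 30470 (by decide +kernel)
theorem rel111 : relsRange mdata bases 277 30747 = true := relsRange_strict mdata bases 277 30747 (by decide +kernel)

end Cfsg.Agent.Helper4.TC.HeC2B
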