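import Cfsg.Agent.Lib.Helper4.TC.HeC2BModel
import Cfsg.Agent.Lib.Helper4.TC.HeC2BData
import Cfsg.Agent.Lib.Helper4.TC.Strict

set_option autoImplicit false
set_option maxRecDepth 100000
set_option linter.unusedVariables false
set_option Elab.async false

namespace Cfsg.Agent.Helper4.TC.HeC2B

open Cfsg.Agent.Helper4.TC

theorem rel112 : relsRange mdata bases 277 31024 = true := relsRange_strict mdata bases 277 31024 (by decide +kernel)
theorem rel113 : relsRange mdata bases 277 31301 = true := relsRange_strict mdata bases 277 31301 (by decide +kernel)
theorem rel114 : relsRange mdata bases 277 31578 = true := relsRange_strict mdata bases 277 31578 (by decide +kernel)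
theorem rel115 : relsRange mdata bases 277 31855 = true := relsRange_strict mdata bases 277 31855 (by decide +kernel)
theorem rel116 : relsRange mdata bases 277 32132 = true := relsRange_strict mdata bases 277 32132 (by decide +kernel)
theorem rel117 : relsRange mdata bases 277 32409 = true := relsRange_strict mdata bases 277 32409 (by decide +kernel)
theorem rel118 : relsRange mdata bases 277 32686 = true := relsRange_strict mdata bases 277 32686 (by decide +kernel)
theorem rel119 : relsRange mdata bases 277 32963 = true := relsRange_strict mdata bases 277 32963 (by decide +kernel)

end Cfsg.Agent.Helper4.TC.HeC2B
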