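import Cfsg.Agent.Lib.Helper4.TC.HeC2BModel
import Cfsg.Agent.Lib.Helper4.TC.HeC2BData
import Cfsg.Agent.Lib.Helper4.TC.Strict

set_option autoImplicit false
set_option maxRecDepth 100000
set_option linter.unusedVariables false
set_option Elab.async false

namespace Cfsg.Agent.Helper4.TC.HeC2B

open Cfsg.Agent.Helper4.TC

theorem rel120 : relsRange mdata bases 277 33240 = true := relsRange_strict mdata bases 277 33240 (by decide +kernel)
theorem rel121 : relsRange mdata bases 277 33517 = true := relsRange_strict mdata bases 277 33517 (by decide +kernel)
theorem rel122 : relsRange mdata bases 277 33794 = true := relsRange_strict mdata bases 277 33794 (by decide +kernel)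
theorem rel123 : relsRange mdata bases 277 34071 = true := relsRange_strict mdata bases 277 34071 (by decide +kernel)
theorem rel124 : relsRange mdata bases 277 34348 = true := relsRange_strict mdata bases 277 34348 (by decide +kernel)
theorem rel125 : relsRange mdata bases 277 34625 = true := relsRange_strict mdata bases 277 34625 (by decide +kernel)
theorem rel126 : relsRange mdata bases 277 34902 = true := relsRange_strict mdata bases 277 34902 (by decide +kernel)
theorem rel127 : relsRange mdata bases 277 35179 = true := relsRange_strict mdata bases 277 35179 (by decide +kernel)

end Cfsg.Agent.Helper4.TC.HeC2B
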