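import Cfsg.Agent.Lib.Helper4.TC.HeC2BModel
import Cfsg.Agent.Lib.Helper4.TC.HeC2BData
import Cfsg.Agent.Lib.Helper4.TC.Strict

set_option autoImplicit false
set_option maxRecDepth 100000
set_option linter.unusedVariables false
set_option Elab.async false

namespace Cfsg.Agent.Helper4.TC.HeC2B

open Cfsg.Agent.Helper4.TC

theorem rel128 : relsRange mdata bases 277 35456 = true := relsRange_strict mdata bases 277 35456 (by decide +kernel)
theorem rel129 : relsRange mdata bases 277 35733 = true := relsRange_strict mdata bases 277 35733 (by decide +kernel)
theorem rel130 : relsRange mdata bases 277 36010 = true := relsRange_strict mdata bases 277 36010 (by decide +kernel)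
theorem rel131 : relsRange mdata bases 277 36287 = true := relsRange_strict mdata bases 277 36287 (by decide +kernel)
theorem rel132 : relsRange mdata bases 277 36564 = true := relsRange_strict mdata bases 277 36564 (by decide +kernel)
theorem rel133 : relsRange mdata bases 277 36841 = true := relsRange_strict mdata bases 277 36841 (by decide +kernel)
theorem rel134 : relsRange mdata bases 277 37118 = true := relsRange_strict mdata bases 277 37118 (by decide +kernel)
theorem rel135 : relsRange mdata bases 277 37395 = true := relsRange_strict mdata bases 277 37395 (by decide +kernel)

end Cfsg.Agent.Helper4.TC.HeC2B
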