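import Cfsg.Agent.Lib.Helper4.TC.HeC2BModel
import Cfsg.Agent.Lib.Helper4.TC.HeC2BData
import Cfsg.Agent.Lib.Helper4.TC.Strict

set_option autoImplicit false
set_option maxRecDepth 100000
set_option linter.unusedVariables false
set_option Elab.async false

namespace Cfsg.Agent.Helper4.TC.HeC2B

open Cfsg.Agent.Helper4.TC

theorem rel136 : relsRange mdata bases 277 37672 = true := relsRange_strict mdata bases 277 37672 (by decide +kernel)
theorem rel137 : relsRange mdata bases 277 37949 = true := relsRange_strict mdata bases 277 37949 (by decide +kernel)
theorem rel138 : relsRange mdata bases 277 38226 = true := relsRange_strict mdata bases 277 38226 (by decide +kernel)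
theorem rel139 : relsRange mdata bases 277 38503 = true := relsRange_strict mdata bases 277 38503 (by decide +kernel)
theorem rel140 : relsRange mdata bases 277 38780 = true := relsRange_strict mdata bases 277 38780 (by decide +kernel)
theorem rel141 : relsRange mdata bases 277 39057 = true := relsRange_strict mdata bases 277 39057 (by decide +kernel)
theorem rel142 : relsRange mdata bases 277 39334 = true := relsRange_strict mdata bases 277 39334 (by decide +kernel)
theorem rel143 : relsRange mdata bases 277 39611 = true := relsRange_strict mdata bases 277 39611 (by decide +kernel)

end Cfsg.Agent.Helper4.TC.HeC2B
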