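import Cfsg.Agent.Lib.Helper4.TC.HeC2BModel
import Cfsg.Agent.Lib.Helper4.TC.HeC2BData
import Cfsg.Agent.Lib.Helper4.TC.Strict

set_option autoImplicit false
set_option maxRecDepth 100000
set_option linter.unusedVariables false
set_option Elab.async false

namespace Cfsg.Agent.Helper4.TC.HeC2B

open Cfsg.Agent.Helper4.TC

theorem rel152 : relsRange mdata bases 277 42104 = true := relsRange_strict mdata bases 277 42104 (by decide +kernel)
theorem rel153 : relsRange mdata bases 277 42381 = true := relsRange_strict mdata bases 277 42381 (by decide +kernel)
theorem rel154 : relsRange mdata bases 277 42658 = true := relsRange_strict mdata bases 277 42658 (by decide +kernel)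
theorem rel155 : relsRange mdata bases 277 42935 = true := relsRange_strict mdata bases 277 42935 (by decide +kernel)
theorem rel156 : relsRange mdata bases 277 43212 = true := relsRange_strict mdata bases 277 43212 (by decide +kernel)
theorem rel157 : relsRange mdata bases 277 43489 = true := relsRange_strict mdata bases 277 43489 (by decide +kernel)
theorem rel158 : relsRange mdata bases 277 43766 = true := relsRange_strict mdata bases 277 43766 (by decide +kernel)
theorem rel159 : relsRange mdata bases 277 44043 = true := relsRange_strict mdata bases 277 44043 (by decide +kernel)

end Cfsg.Agent.Helper4.TC.HeC2B
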