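import Cfsg.Agent.Lib.Helper4.TC.HeC2BModel
import Cfsg.Agent.Lib.Helper4.TC.HeC2BData
import Cfsg.Agent.Lib.Helper4.TC.Strict

set_option autoImplicit false
set_option maxRecDepth 100000
set_option linter.unusedVariables false
set_option Elab.async false

namespace Cfsg.Agent.Helper4.TC.HeC2B

open Cfsg.Agent.Helper4.TC

theorem rel16 : relsRange mdata bases 277 4432 = true := relsRange_strict mdata bases 277 4432 (by decide +kernel)
theorem rel17 : relsRange mdata bases 277 4709 = true := relsRange_strict mdata bases 277 4709 (by decide +kernel)
theorem rel18 : relsRange mdata bases 277 4986 = true := relsRange_strict mdata bases 277 4986 (by decide +kernel)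
theorem rel19 : relsRange mdata bases 277 5263 = true := relsRange_strict mdata bases 277 5263 (by decide +kernel)
theorem rel20 : relsRange mdata bases 277 5540 = true := relsRange_strict mdata bases 277 5540 (by decide +kernel)
theorem rel21 : relsRange mdata bases 277 5817 = true := relsRange_strict mdata bases 277 5817 (by decide +kernel)
theorem rel22 : relsRange mdata bases 277 6094 = true := relsRange_strict mdata bases 277 6094 (by decide +kernel)
theorem rel23 : relsRange mdata bases 277 6371 = true := relsRange_strict mdata bases 277 6371 (by decide +kernel)

end Cfsg.Agent.Helper4.TC.HeC2B
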