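import Cfsg.Agent.Lib.Helper4.TC.HeC2BModel
import Cfsg.Agent.Lib.Helper4.TC.HeC2BData
import Cfsg.Agent.Lib.Helper4.TC.Strict

set_option autoImplicit false
set_option maxRecDepth 100000
set_option linter.unusedVariables false
set_option Elab.async false

namespace Cfsg.Agent.Helper4.TC.HeC2B

open Cfsg.Agent.Helper4.TC

theorem rel160 : relsRange mdata bases 277 44320 = true := relsRange_strict mdata bases 277 44320 (by decide +kernel)
theorem rel161 : relsRange mdata bases 277 44597 = true := relsRange_strict mdata bases 277 44597 (by decide +kernel)
theorem rel162 : relsRange mdata bases 277 44874 = true := relsRange_strict mdata bases 277 44874 (by decide +kernel)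
theorem rel163 : relsRange mdata bases 277 45151 = true := relsRange_strict mdata bases 277 45151 (by decide +kernel)
theorem rel164 : relsRange mdata bases 277 45428 = true := relsRange_strict mdata bases 277 45428 (by decide +kernel)
theorem rel165 : relsRange mdata bases 277 45705 = true := relsRange_strict mdata bases 277 45705 (by decide +kernel)
theorem rel166 : relsRange mdata bases 277 45982 = true := relsRange_strict mdata bases 277 45982 (by decide +kernel)
theorem rel167 : relsRange mdata bases 277 46259 = true := relsRange_strict mdata bases 277 46259 (by decide +kernel)

end Cfsg.Agent.Helper4.TC.HeC2B
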