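import Cfsg.Agent.Lib.Helper4.TC.HeC2BModel
import Cfsg.Agent.Lib.Helper4.TC.HeC2BData
import Cfsg.Agent.Lib.Helper4.TC.Strict

set_option autoImplicit false
set_option maxRecDepth 100000
set_option linter.unusedVariables false
set_option Elab.async false

namespace Cfsg.Agent.Helper4.TC.HeC2B

open Cfsg.Agent.Helper4.TC

theorem rel168 : relsRange mdata bases 277 46536 = true := relsRange_strict mdata bases 277 46536 (by decide +kernel)
theorem rel169 : relsRange mdata bases 277 46813 = true := relsRange_strict mdata bases 277 46813 (by decide +kernel)
theorem rel170 : relsRange mdata bases 277 47090 = true := relsRange_strict mdata bases 277 47090 (by decide +kernel)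
theorem rel171 : relsRange mdata bases 277 47367 = true := relsRange_strict mdata bases 277 47367 (by decide +kernel)
theorem rel172 : relsRange mdata bases 277 47644 = true := relsRange_strict mdata bases 277 47644 (by decide +kernel)
theorem rel173 : relsRange mdata bases 277 47921 = true := relsRange_strict mdata bases 277 47921 (by decide +kernel)
theorem rel174 : relsRange mdata bases 277 48198 = true := relsRange_strict mdata bases 277 48198 (by decide +kernel)
theorem rel175 : relsRange mdata bases 277 48475 = true := relsRange_strict mdata bases 277 48475 (by decide +kernel)

end Cfsg.Agent.Helper4.TC.HeC2B
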