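import Cfsg.Agent.Lib.Helper4.TC.HeC2BModel
import Cfsg.Agent.Lib.Helper4.TC.HeC2BData
import Cfsg.Agent.Lib.Helper4.TC.Strict

set_option autoImplicit false
set_option maxRecDepth 100000
set_option linter.unusedVariables false
set_option Elab.async false

namespace Cfsg.Agent.Helper4.TC.HeC2B

open Cfsg.Agent.Helper4.TC

theorem rel176 : relsRange mdata bases 277 48752 = true := relsRange_strict mdata bases 277 48752 (by decide +kernel)
theorem rel177 : relsRange mdata bases 277 49029 = true := relsRange_strict mdata bases 277 49029 (by decide +kernel)
theorem rel178 : relsRange mdata bases 277 49306 = true := relsRange_strict mdata bases 277 49306 (by decide +kernel)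
theorem rel179 : relsRange mdata bases 277 49583 = true := relsRange_strict mdata bases 277 49583 (by decide +kernel)
theorem rel180 : relsRange mdata bases 277 49860 = true := relsRange_strict mdata bases 277 49860 (by decide +kernel)
theorem rel181 : relsRange mdata bases 277 50137 = true := relsRange_strict mdata bases 277 50137 (by decide +kernel)
theorem rel182 : relsRange mdata bases 277 50414 = true := relsRange_strict mdata bases 277 50414 (by decide +kernel)
theorem rel183 : relsRange mdata bases 277 50691 = true := relsRange_strict mdata bases 277 50691 (by decide +kernel)

end Cfsg.Agent.Helper4.TC.HeC2B
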