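import Cfsg.Agent.Lib.Helper4.TC.HeC2BModel
import Cfsg.Agent.Lib.Helper4.TC.HeC2BData
import Cfsg.Agent.Lib.Helper4.TC.Strict

set_option autoImplicit false
set_option maxRecDepth 100000
set_option linter.unusedVariables false
set_option Elab.async false

namespace Cfsg.Agent.Helper4.TC.HeC2B

open Cfsg.Agent.Helper4.TC

theorem rel184 : relsRange mdata bases 277 50968 = true := relsRange_strict mdata bases 277 50968 (by decide +kernel)
theorem rel185 : relsRange mdata bases 277 51245 = true := relsRange_strict mdata bases 277 51245 (by decide +kernel)
theorem rel186 : relsRange mdata bases 277 51522 = true := relsRange_strict mdata bases 277 51522 (by decide +kernel)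
theorem rel187 : relsRange mdata bases 277 51799 = true := relsRange_strict mdata bases 277 51799 (by decide +kernel)
theorem rel188 : relsRange mdata bases 277 52076 = true := relsRange_strict mdata bases 277 52076 (by decide +kernel)
theorem rel189 : relsRange mdata bases 277 52353 = true := relsRange_strict mdata bases 277 52353 (by decide +kernel)
theorem rel190 : relsRange mdata bases 277 52630 = true := relsRange_strict mdata bases 277 52630 (by decide +kernel)
theorem rel191 : relsRange mdata bases 277 52907 = true := relsRange_strict mdata bases 277 52907 (by decide +kernel)

end Cfsg.Agent.Helper4.TC.HeC2B
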