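import Cfsg.Agent.Lib.Helper4.TC.HeC2BModel
import Cfsg.Agent.Lib.Helper4.TC.HeC2BData
import Cfsg.Agent.Lib.Helper4.TC.Strict

set_option autoImplicit false
set_option maxRecDepth 100000
set_option linter.unusedVariables false
set_option Elab.async false

namespace Cfsg.Agent.Helper4.TC.HeC2B

open Cfsg.Agent.Helper4.TC

theorem rel192 : relsRange mdata bases 277 53184 = true := relsRange_strict mdata bases 277 53184 (by decide +kernel)
theorem rel193 : relsRange mdata bases 277 53461 = true := relsRange_strict mdata bases 277 53461 (by decide +kernel)
theorem rel194 : relsRange mdata bases 277 53738 = true := relsRange_strict mdata bases 277 53738 (by decide +kernel)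
theorem rel195 : relsRange mdata bases 277 54015 = true := relsRange_strict mdata bases 277 54015 (by decide +kernel)
theorem rel196 : relsRange mdata bases 277 54292 = true := relsRange_strict mdata bases 277 54292 (by decide +kernel)
theorem rel197 : relsRange mdata bases 277 54569 = true := relsRange_strict mdata bases 277 54569 (by decide +kernel)
theorem rel198 : relsRange mdata bases 277 54846 = true := relsRange_strict mdata bases 277 54846 (by decide +kernel)
theorem rel199 : relsRange mdata bases 277 55123 = true := relsRange_strict mdata bases 277 55123 (by decide +kernel)

end Cfsg.Agent.Helper4.TC.HeC2B
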