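import Cfsg.Agent.Lib.Helper4.TC.HeC2BModel
import Cfsg.Agent.Lib.Helper4.TC.HeC2BData
import Cfsg.Agent.Lib.Helper4.TC.Strict

set_option autoImplicit false
set_option maxRecDepth 100000
set_option linter.unusedVariables false
set_option Elab.async false

namespace Cfsg.Agent.Helper4.TC.HeC2B

open Cfsg.Agent.Helper4.TC

theorem rel200 : relsRange mdata bases 277 55400 = true := relsRange_strict mdata bases 277 55400 (by decide +kernel)
theorem rel201 : relsRange mdata bases 277 55677 = true := relsRange_strict mdata bases 277 55677 (by decide +kernel)
theorem rel202 : relsRange mdata bases 277 55954 = true := relsRange_strict mdata bases 277 55954 (by decide +kernel)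
theorem rel203 : relsRange mdata bases 277 56231 = true := relsRange_strict mdata bases 277 56231 (by decide +kernel)
theorem rel204 : relsRange mdata bases 277 56508 = true := relsRange_strict mdata bases 277 56508 (by decide +kernel)
theorem rel205 : relsRange mdata bases 277 56785 = true := relsRange_strict mdata bases 277 56785 (by decide +kernel)
theorem rel206 : relsRange mdata bases 277 57062 = true := relsRange_strict mdata bases 277 57062 (by decide +kernel)
theorem rel207 : relsRange mdata bases 277 57339 = true := relsRange_strict mdata bases 277 57339 (by decide +kernel)

end Cfsg.Agent.Helper4.TC.HeC2B
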