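import Cfsg.Agent.Lib.Helper4.TC.HeC2BModel
import Cfsg.Agent.Lib.Helper4.TC.HeC2BData
import Cfsg.Agent.Lib.Helper4.TC.Strict

set_option autoImplicit false
set_option maxRecDepth 100000
set_option linter.unusedVariables false
set_option Elab.async false

namespace Cfsg.Agent.Helper4.TC.HeC2B

open Cfsg.Agent.Helper4.TC

theorem rel208 : relsRange mdata bases 277 57616 = true := relsRange_strict mdata bases 277 57616 (by decide +kernel)
theorem rel209 : relsRange mdata bases 277 57893 = true := relsRange_strict mdata bases 277 57893 (by decide +kernel)
theorem rel210 : relsRange mdata bases 277 58170 = true := relsRange_strict mdata bases 277 58170 (by decide +kernel)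
theorem rel211 : relsRange mdata bases 277 58447 = true := relsRange_strict mdata bases 277 58447 (by decide +kernel)
theorem rel212 : relsRange mdata bases 277 58724 = true := relsRange_strict mdata bases 277 58724 (by decide +kernel)
theorem rel213 : relsRange mdata bases 277 59001 = true := relsRange_strict mdata bases 277 59001 (by decide +kernel)
theorem rel214 : relsRange mdata bases 277 59278 = true := relsRange_strict mdata bases 277 59278 (by decide +kernel)
theorem rel215 : relsRange mdata bases 277 59555 = true := relsRange_strict mdata bases 277 59555 (by decide +kernel)

end Cfsg.Agent.Helper4.TC.HeC2B
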