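import Cfsg.Agent.Lib.Helper4.TC.HeC2BModel
import Cfsg.Agent.Lib.Helper4.TC.HeC2BData
import Cfsg.Agent.Lib.Helper4.TC.Strict

set_option autoImplicit false
set_option maxRecDepth 100000
set_option linter.unusedVariables false
set_option Elab.async false

namespace Cfsg.Agent.Helper4.TC.HeC2B

open Cfsg.Agent.Helper4.TC

theorem rel216 : relsRange mdata bases 277 59832 = true := relsRange_strict mdata bases 277 59832 (by decide +kernel)
theorem rel217 : relsRange mdata bases 277 60109 = true := relsRange_strict mdata bases 277 60109 (by decide +kernel)
theorem rel218 : relsRange mdata bases 277 60386 = true := relsRange_strict mdata bases 277 60386 (by decide +kernel)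
theorem rel219 : relsRange mdata bases 277 60663 = true := relsRange_strict mdata bases 277 60663 (by decide +kernel)
theorem rel220 : relsRange mdata bases 277 60940 = true := relsRange_strict mdata bases 277 60940 (by decide +kernel)
theorem rel221 : relsRange mdata bases 277 61217 = true := relsRange_strict mdata bases 277 61217 (by decide +kernel)
theorem rel222 : relsRange mdata bases 277 61494 = true := relsRange_strict mdata bases 277 61494 (by decide +kernel)
theorem rel223 : relsRange mdata bases 277 61771 = true := relsRange_strict mdata bases 277 61771 (by decide +kernel)

end Cfsg.Agent.Helper4.TC.HeC2B
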