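import Cfsg.Agent.Lib.Helper4.TC.HeC2BModel
import Cfsg.Agent.Lib.Helper4.TC.HeC2BData
import Cfsg.Agent.Lib.Helper4.TC.Strict

set_option autoImplicit false
set_option maxRecDepth 100000
set_option linter.unusedVariables false
set_option Elab.async false

namespace Cfsg.Agent.Helper4.TC.HeC2B

open Cfsg.Agent.Helper4.TC

theorem rel224 : relsRange mdata bases 277 62048 = true := relsRange_strict mdata bases 277 62048 (by decide +kernel)
theorem rel225 : relsRange mdata bases 277 62325 = true := relsRange_strict mdata bases 277 62325 (by decide +kernel)
theorem rel226 : relsRange mdata bases 277 62602 = true := relsRange_strict mdata bases 277 62602 (by decide +kernel)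
theorem rel227 : relsRange mdata bases 277 62879 = true := relsRange_strict mdata bases 277 62879 (by decide +kernel)
theorem rel228 : relsRange mdata bases 277 63156 = true := relsRange_strict mdata bases 277 63156 (by decide +kernel)
theorem rel229 : relsRange mdata bases 277 63433 = true := relsRange_strict mdata bases 277 63433 (by decide +kernel)
theorem rel230 : relsRange mdata bases 277 63710 = true := relsRange_strict mdata bases 277 63710 (by decide +kernel)
theorem rel231 : relsRange mdata bases 277 63987 = true := relsRange_strict mdata bases 277 63987 (by decide +kernel)

end Cfsg.Agent.Helper4.TC.HeC2B
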