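import Cfsg.Agent.Lib.Helper4.TC.HeC2BModel
import Cfsg.Agent.Lib.Helper4.TC.HeC2BData
import Cfsg.Agent.Lib.Helper4.TC.Strict

set_option autoImplicit false
set_option maxRecDepth 100000
set_option linter.unusedVariables false
set_option Elab.async false

namespace Cfsg.Agent.Helper4.TC.HeC2B

open Cfsg.Agent.Helper4.TC

theorem rel232 : relsRange mdata bases 277 64264 = true := relsRange_strict mdata bases 277 64264 (by decide +kernel)
theorem rel233 : relsRange mdata bases 277 64541 = true := relsRange_strict mdata bases 277 64541 (by decide +kernel)
theorem rel234 : relsRange mdata bases 277 64818 = true := relsRange_strict mdata bases 277 64818 (by decide +kernel)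
theorem rel235 : relsRange mdata bases 277 65095 = true := relsRange_strict mdata bases 277 65095 (by decide +kernel)
theorem rel236 : relsRange mdata bases 277 65372 = true := relsRange_strict mdata bases 277 65372 (by decide +kernel)
theorem rel237 : relsRange mdata bases 277 65649 = true := relsRange_strict mdata bases 277 65649 (by decide +kernel)
theorem rel238 : relsRange mdata bases 277 65926 = true := relsRange_strict mdata bases 277 65926 (by decide +kernel)
theorem rel239 : relsRange mdata bases 277 66203 = true := relsRange_strict mdata bases 277 66203 (by decide +kernel)

end Cfsg.Agent.Helper4.TC.HeC2B
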