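import Cfsg.Agent.Lib.Helper4.TC.HeC2BModel
import Cfsg.Agent.Lib.Helper4.TC.HeC2BData
import Cfsg.Agent.Lib.Helper4.TC.Strict

set_option autoImplicit false
set_option maxRecDepth 100000
set_option linter.unusedVariables false
set_option Elab.async false

namespace Cfsg.Agent.Helper4.TC.HeC2B

open Cfsg.Agent.Helper4.TC

theorem rel24 : relsRange mdata bases 277 6648 = true := relsRange_strict mdata bases 277 6648 (by decide +kernel)
theorem rel25 : relsRange mdata bases 277 6925 = true := relsRange_strict mdata bases 277 6925 (by decide +kernel)
theorem rel26 : relsRange mdata bases 277 7202 = true := relsRange_strict mdata bases 277 7202 (by decide +kernel)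
theorem rel27 : relsRange mdata bases 277 7479 = true := relsRange_strict mdata bases 277 7479 (by decide +kernel)
theorem rel28 : relsRange mdata bases 277 7756 = true := relsRange_strict mdata bases 277 7756 (by decide +kernel)
theorem rel29 : relsRange mdata bases 277 8033 = true := relsRange_strict mdata bases 277 8033 (by decide +kernel)
theorem rel30 : relsRange mdata bases 277 8310 = true := relsRange_strict mdata bases 277 8310 (by decide +kernel)
theorem rel31 : relsRange mdata bases 277 8587 = true := relsRange_strict mdata bases 277 8587 (by decide +kernel)

end Cfsg.Agent.Helper4.TC.HeC2B
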