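import Cfsg.Agent.Lib.Helper4.TC.HeC2BModel
import Cfsg.Agent.Lib.Helper4.TC.HeC2BData
import Cfsg.Agent.Lib.Helper4.TC.Strict

set_option autoImplicit false
set_option maxRecDepth 100000
set_option linter.unusedVariables false
set_option Elab.async false

namespace Cfsg.Agent.Helper4.TC.HeC2B

open Cfsg.Agent.Helper4.TC

theorem rel240 : relsRange mdata bases 277 66480 = true := relsRange_strict mdata bases 277 66480 (by decide +kernel)
theorem rel241 : relsRange mdata bases 277 66757 = true := relsRange_strict mdata bases 277 66757 (by decide +kernel)
theorem rel242 : relsRange mdata bases 277 67034 = true := relsRange_strict mdata bases 277 67034 (by decide +kernel)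
theorem rel243 : relsRange mdata bases 277 67311 = true := relsRange_strict mdata bases 277 67311 (by decide +kernel)
theorem rel244 : relsRange mdata bases 277 67588 = true := relsRange_strict mdata bases 277 67588 (by decide +kernel)
theorem rel245 : relsRange mdata bases 277 67865 = true := relsRange_strict mdata bases 277 67865 (by decide +kernel)
theorem rel246 : relsRange mdata bases 277 68142 = true := relsRange_strict mdata bases 277 68142 (by decide +kernel)
theorem rel247 : relsRange mdata bases 277 68419 = true := relsRange_strict mdata bases 277 68419 (by decide +kernel)

end Cfsg.Agent.Helper4.TC.HeC2B
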