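import Cfsg.Agent.Lib.Helper4.TC.HeC2BModel
import Cfsg.Agent.Lib.Helper4.TC.HeC2BData
import Cfsg.Agent.Lib.Helper4.TC.Strict

set_option autoImplicit false
set_option maxRecDepth 100000
set_option linter.unusedVariables false
set_option Elab.async false

namespace Cfsg.Agent.Helper4.TC.HeC2B

open Cfsg.Agent.Helper4.TC

theorem rel248 : relsRange mdata bases 277 68696 = true := relsRange_strict mdata bases 277 68696 (by decide +kernel)
theorem rel249 : relsRange mdata bases 277 68973 = true := relsRange_strict mdata bases 277 68973 (by decide +kernel)
theorem rel250 : relsRange mdata bases 277 69250 = true := relsRange_strict mdata bases 277 69250 (by decide +kernel)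
theorem rel251 : relsRange mdata bases 277 69527 = true := relsRange_strict mdata bases 277 69527 (by decide +kernel)
theorem rel252 : relsRange mdata bases 277 69804 = true := relsRange_strict mdata bases 277 69804 (by decide +kernel)
theorem rel253 : relsRange mdata bases 277 70081 = true := relsRange_strict mdata bases 277 70081 (by decide +kernel)
theorem rel254 : relsRange mdata bases 277 70358 = true := relsRange_strict mdata bases 277 70358 (by decide +kernel)
theorem rel255 : relsRange mdata bases 277 70635 = true := relsRange_strict mdata bases 277 70635 (by decide +kernel)

end Cfsg.Agent.Helper4.TC.HeC2B
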