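import Cfsg.Agent.Lib.Helper4.TC.HeC2BModel
import Cfsg.Agent.Lib.Helper4.TC.HeC2BData
import Cfsg.Agent.Lib.Helper4.TC.Strict

set_option autoImplicit false
set_option maxRecDepth 100000
set_option linter.unusedVariables false
set_option Elab.async false

namespace Cfsg.Agent.Helper4.TC.HeC2B

open Cfsg.Agent.Helper4.TC

theorem rel256 : relsRange mdata bases 277 70912 = true := relsRange_strict mdata bases 277 70912 (by decide +kernel)
theorem rel257 : relsRange mdata bases 277 71189 = true := relsRange_strict mdata bases 277 71189 (by decide +kernel)
theorem rel258 : relsRange mdata bases 277 71466 = true := relsRange_strict mdata bases 277 71466 (by decide +kernel)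
theorem rel259 : relsRange mdata bases 277 71743 = true := relsRange_strict mdata bases 277 71743 (by decide +kernel)
theorem rel260 : relsRange mdata bases 277 72020 = true := relsRange_strict mdata bases 277 72020 (by decide +kernel)
theorem rel261 : relsRange mdata bases 277 72297 = true := relsRange_strict mdata bases 277 72297 (by decide +kernel)
theorem rel262 : relsRange mdata bases 277 72574 = true := relsRange_strict mdata bases 277 72574 (by decide +kernel)
theorem rel263 : relsRange mdata bases 277 72851 = true := relsRange_strict mdata bases 277 72851 (by decide +kernel)

end Cfsg.Agent.Helper4.TC.HeC2B
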