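import Cfsg.Agent.Lib.Helper4.TC.HeC2BModel
import Cfsg.Agent.Lib.Helper4.TC.HeC2BData
import Cfsg.Agent.Lib.Helper4.TC.Strict

set_option autoImplicit false
set_option maxRecDepth 100000
set_option linter.unusedVariables false
set_option Elab.async false

namespace Cfsg.Agent.Helper4.TC.HeC2B

open Cfsg.Agent.Helper4.TC

theorem rel264 : relsRange mdata bases 277 73128 = true := relsRange_strict mdata bases 277 73128 (by decide +kernel)
theorem rel265 : relsRange mdata bases 277 73405 = true := relsRange_strict mdata bases 277 73405 (by decide +kernel)
theorem rel266 : relsRange mdata bases 277 73682 = true := relsRange_strict mdata bases 277 73682 (by decide +kernel)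
theorem rel267 : relsRange mdata bases 277 73959 = true := relsRange_strict mdata bases 277 73959 (by decide +kernel)
theorem rel268 : relsRange mdata bases 277 74236 = true := relsRange_strict mdata bases 277 74236 (by decide +kernel)
theorem rel269 : relsRange mdata bases 277 74513 = true := relsRange_strict mdata bases 277 74513 (by decide +kernel)
theorem rel270 : relsRange mdata bases 277 74790 = true := relsRange_strict mdata bases 277 74790 (by decide +kernel)
theorem rel271 : relsRange mdata bases 277 75067 = true := relsRange_strict mdata bases 277 75067 (by decide +kernel)

end Cfsg.Agent.Helper4.TC.HeC2B
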