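import Cfsg.Agent.Lib.Helper4.TC.HeC2BModel
import Cfsg.Agent.Lib.Helper4.TC.HeC2BData
import Cfsg.Agent.Lib.Helper4.TC.Strict

set_option autoImplicit false
set_option maxRecDepth 100000
set_option linter.unusedVariables false
set_option Elab.async false

namespace Cfsg.Agent.Helper4.TC.HeC2B

open Cfsg.Agent.Helper4.TC

theorem rel272 : relsRange mdata bases 277 75344 = true := relsRange_strict mdata bases 277 75344 (by decide +kernel)
theorem rel273 : relsRange mdata bases 277 75621 = true := relsRange_strict mdata bases 277 75621 (by decide +kernel)
theorem rel274 : relsRange mdata bases 277 75898 = true := relsRange_strict mdata bases 277 75898 (by decide +kernel)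
theorem rel275 : relsRange mdata bases 277 76175 = true := relsRange_strict mdata bases 277 76175 (by decide +kernel)
theorem rel276 : relsRange mdata bases 277 76452 = true := relsRange_strict mdata bases 277 76452 (by decide +kernel)
theorem rel277 : relsRange mdata bases 277 76729 = true := relsRange_strict mdata bases 277 76729 (by decide +kernel)
theorem rel278 : relsRange mdata bases 277 77006 = true := relsRange_strict mdata bases 277 77006 (by decide +kernel)
theorem rel279 : relsRange mdata bases 277 77283 = true := relsRange_strict mdata bases 277 77283 (by decide +kernel)

end Cfsg.Agent.Helper4.TC.HeC2B
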