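import Cfsg.Agent.Lib.Helper4.TC.HeC2BModel
import Cfsg.Agent.Lib.Helper4.TC.HeC2BData
import Cfsg.Agent.Lib.Helper4.TC.Strict

set_option autoImplicit false
set_option maxRecDepth 100000
set_option linter.unusedVariables false
set_option Elab.async false

namespace Cfsg.Agent.Helper4.TC.HeC2B

open Cfsg.Agent.Helper4.TC

theorem rel280 : relsRange mdata bases 277 77560 = true := relsRange_strict mdata bases 277 77560 (by decide +kernel)
theorem rel281 : relsRange mdata bases 277 77837 = true := relsRange_strict mdata bases 277 77837 (by decide +kernel)
theorem rel282 : relsRange mdata bases 277 78114 = true := relsRange_strict mdata bases 277 78114 (by decide +kernel)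
theorem rel283 : relsRange mdata bases 277 78391 = true := relsRange_strict mdata bases 277 78391 (by decide +kernel)
theorem rel284 : relsRange mdata bases 277 78668 = true := relsRange_strict mdata bases 277 78668 (by decide +kernel)
theorem rel285 : relsRange mdata bases 277 78945 = true := relsRange_strict mdata bases 277 78945 (by decide +kernel)
theorem rel286 : relsRange mdata bases 277 79222 = true := relsRange_strict mdata bases 277 79222 (by decide +kernel)
theorem rel287 : relsRange mdata bases 277 79499 = true := relsRange_strict mdata bases 277 79499 (by decide +kernel)

end Cfsg.Agent.Helper4.TC.HeC2B
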