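import Cfsg.Agent.Lib.Helper4.TC.HeC2BModel
import Cfsg.Agent.Lib.Helper4.TC.HeC2BData
import Cfsg.Agent.Lib.Helper4.TC.Strict

set_option autoImplicit false
set_option maxRecDepth 100000
set_option linter.unusedVariables false
set_option Elab.async false

namespace Cfsg.Agent.Helper4.TC.HeC2B

open Cfsg.Agent.Helper4.TC

theorem rel296 : relsRange mdata bases 277 81992 = true := relsRange_strict mdata bases 277 81992 (by decide +kernel)
theorem rel297 : relsRange mdata bases 277 82269 = true := relsRange_strict mdata bases 277 82269 (by decide +kernel)
theorem rel298 : relsRange mdata bases 277 82546 = true := relsRange_strict mdata bases 277 82546 (by decide +kernel)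
theorem rel299 : relsRange mdata bases 277 82823 = true := relsRange_strict mdata bases 277 82823 (by decide +kernel)
theorem rel300 : relsRange mdata bases 277 83100 = true := relsRange_strict mdata bases 277 83100 (by decide +kernel)
theorem rel301 : relsRange mdata bases 277 83377 = true := relsRange_strict mdata bases 277 83377 (by decide +kernel)
theorem rel302 : relsRange mdata bases 277 83654 = true := relsRange_strict mdata bases 277 83654 (by decide +kernel)
theorem rel303 : relsRange mdata bases 277 83931 = true := relsRange_strict mdata bases 277 83931 (by decide +kernel)

end Cfsg.Agent.Helper4.TC.HeC2B
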