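import Cfsg.Agent.Lib.Helper4.TC.HeC2BModel
import Cfsg.Agent.Lib.Helper4.TC.HeC2BData
import Cfsg.Agent.Lib.Helper4.TC.Strict

set_option autoImplicit false
set_option maxRecDepth 100000
set_option linter.unusedVariables false
set_option Elab.async false

namespace Cfsg.Agent.Helper4.TC.HeC2B

open Cfsg.Agent.Helper4.TC

theorem rel304 : relsRange mdata bases 277 84208 = true := relsRange_strict mdata bases 277 84208 (by decide +kernel)
theorem rel305 : relsRange mdata bases 277 84485 = true := relsRange_strict mdata bases 277 84485 (by decide +kernel)
theorem rel306 : relsRange mdata bases 277 84762 = true := relsRange_strict mdata bases 277 84762 (by decide +kernel)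
theorem rel307 : relsRange mdata bases 277 85039 = true := relsRange_strict mdata bases 277 85039 (by decide +kernel)
theorem rel308 : relsRange mdata bases 277 85316 = true := relsRange_strict mdata bases 277 85316 (by decide +kernel)
theorem rel309 : relsRange mdata bases 277 85593 = true := relsRange_strict mdata bases 277 85593 (by decide +kernel)
theorem rel310 : relsRange mdata bases 277 85870 = true := relsRange_strict mdata bases 277 85870 (by decide +kernel)
theorem rel311 : relsRange mdata bases 277 86147 = true := relsRange_strict mdata bases 277 86147 (by decide +kernel)

end Cfsg.Agent.Helper4.TC.HeC2B
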