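import Cfsg.Agent.Lib.Helper4.TC.HeC2BModel
import Cfsg.Agent.Lib.Helper4.TC.HeC2BData
import Cfsg.Agent.Lib.Helper4.TC.Strict

set_option autoImplicit false
set_option maxRecDepth 100000
set_option linter.unusedVariables false
set_option Elab.async false

namespace Cfsg.Agent.Helper4.TC.HeC2B

open Cfsg.Agent.Helper4.TC

theorem rel312 : relsRange mdata bases 277 86424 = true := relsRange_strict mdata bases 277 86424 (by decide +kernel)
theorem rel313 : relsRange mdata bases 277 86701 = true := relsRange_strict mdata bases 277 86701 (by decide +kernel)
theorem rel314 : relsRange mdata bases 277 86978 = true := relsRange_strict mdata bases 277 86978 (by decide +kernel)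
theorem rel315 : relsRange mdata bases 277 87255 = true := relsRange_strict mdata bases 277 87255 (by decide +kernel)
theorem rel316 : relsRange mdata bases 277 87532 = true := relsRange_strict mdata bases 277 87532 (by decide +kernel)
theorem rel317 : relsRange mdata bases 277 87809 = true := relsRange_strict mdata bases 277 87809 (by decide +kernel)
theorem rel318 : relsRange mdata bases 277 88086 = true := relsRange_strict mdata bases 277 88086 (by decide +kernel)
theorem rel319 : relsRange mdata bases 277 88363 = true := relsRange_strict mdata bases 277 88363 (by decide +kernel)

end Cfsg.Agent.Helper4.TC.HeC2B
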