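import Cfsg.Agent.Lib.Helper4.TC.HeC2BModel
import Cfsg.Agent.Lib.Helper4.TC.HeC2BData
import Cfsg.Agent.Lib.Helper4.TC.Strict

set_option autoImplicit false
set_option maxRecDepth 100000
set_option linter.unusedVariables false
set_option Elab.async false

namespace Cfsg.Agent.Helper4.TC.HeC2B

open Cfsg.Agent.Helper4.TC

theorem rel32 : relsRange mdata bases 277 8864 = true := relsRange_strict mdata bases 277 8864 (by decide +kernel)
theorem rel33 : relsRange mdata bases 277 9141 = true := relsRange_strict mdata bases 277 9141 (by decide +kernel)
theorem rel34 : relsRange mdata bases 277 9418 = true := relsRange_strict mdata bases 277 9418 (by decide +kernel)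
theorem rel35 : relsRange mdata bases 277 9695 = true := relsRange_strict mdata bases 277 9695 (by decide +kernel)
theorem rel36 : relsRange mdata bases 277 9972 = true := relsRange_strict mdata bases 277 9972 (by decide +kernel)
theorem rel37 : relsRange mdata bases 277 10249 = true := relsRange_strict mdata bases 277 10249 (by decide +kernel)
theorem rel38 : relsRange mdata bases 277 10526 = true := relsRange_strict mdata bases 277 10526 (by decide +kernel)
theorem rel39 : relsRange mdata bases 277 10803 = true := relsRange_strict mdata bases 277 10803 (by decide +kernel)

end Cfsg.Agent.Helper4.TC.HeC2B
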