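import Cfsg.Agent.Lib.Helper4.TC.HeC2BModel
import Cfsg.Agent.Lib.Helper4.TC.HeC2BData
import Cfsg.Agent.Lib.Helper4.TC.Strict

set_option autoImplicit false
set_option maxRecDepth 100000
set_option linter.unusedVariables false
set_option Elab.async false

namespace Cfsg.Agent.Helper4.TC.HeC2B

open Cfsg.Agent.Helper4.TC

theorem rel320 : relsRange mdata bases 277 88640 = true := relsRange_strict mdata bases 277 88640 (by decide +kernel)
theorem rel321 : relsRange mdata bases 277 88917 = true := relsRange_strict mdata bases 277 88917 (by decide +kernel)
theorem rel322 : relsRange mdata bases 277 89194 = true := relsRange_strict mdata bases 277 89194 (by decide +kernel)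
theorem rel323 : relsRange mdata bases 277 89471 = true := relsRange_strict mdata bases 277 89471 (by decide +kernel)
theorem rel324 : relsRange mdata bases 277 89748 = true := relsRange_strict mdata bases 277 89748 (by decide +kernel)
theorem rel325 : relsRange mdata bases 277 90025 = true := relsRange_strict mdata bases 277 90025 (by decide +kernel)
theorem rel326 : relsRange mdata bases 277 90302 = true := relsRange_strict mdata bases 277 90302 (by decide +kernel)
theorem rel327 : relsRange mdata bases 277 90579 = true := relsRange_strict mdata bases 277 90579 (by decide +kernel)

end Cfsg.Agent.Helper4.TC.HeC2B
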