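import Cfsg.Agent.Lib.Helper4.TC.HeC2BModel
import Cfsg.Agent.Lib.Helper4.TC.HeC2BData
import Cfsg.Agent.Lib.Helper4.TC.Strict

set_option autoImplicit false
set_option maxRecDepth 100000
set_option linter.unusedVariables false
set_option Elab.async false

namespace Cfsg.Agent.Helper4.TC.HeC2B

open Cfsg.Agent.Helper4.TC

theorem rel328 : relsRange mdata bases 277 90856 = true := relsRange_strict mdata bases 277 90856 (by decide +kernel)
theorem rel329 : relsRange mdata bases 277 91133 = true := relsRange_strict mdata bases 277 91133 (by decide +kernel)
theorem rel330 : relsRange mdata bases 277 91410 = true := relsRange_strict mdata bases 277 91410 (by decide +kernel)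
theorem rel331 : relsRange mdata bases 277 91687 = true := relsRange_strict mdata bases 277 91687 (by decide +kernel)
theorem rel332 : relsRange mdata bases 277 91964 = true := relsRange_strict mdata bases 277 91964 (by decide +kernel)
theorem rel333 : relsRange mdata bases 277 92241 = true := relsRange_strict mdata bases 277 92241 (by decide +kernel)
theorem rel334 : relsRange mdata bases 277 92518 = true := relsRange_strict mdata bases 277 92518 (by decide +kernel)
theorem rel335 : relsRange mdata bases 277 92795 = true := relsRange_strict mdata bases 277 92795 (by decide +kernel)

end Cfsg.Agent.Helper4.TC.HeC2B
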