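import Cfsg.Agent.Lib.Helper4.TC.HeC2BModel
import Cfsg.Agent.Lib.Helper4.TC.HeC2BData
import Cfsg.Agent.Lib.Helper4.TC.Strict

set_option autoImplicit false
set_option maxRecDepth 100000
set_option linter.unusedVariables false
set_option Elab.async false

namespace Cfsg.Agent.Helper4.TC.HeC2B

open Cfsg.Agent.Helper4.TC

theorem rel336 : relsRange mdata bases 277 93072 = true := relsRange_strict mdata bases 277 93072 (by decide +kernel)
theorem rel337 : relsRange mdata bases 277 93349 = true := relsRange_strict mdata bases 277 93349 (by decide +kernel)
theorem rel338 : relsRange mdata bases 277 93626 = true := relsRange_strict mdata bases 277 93626 (by decide +kernel)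
theorem rel339 : relsRange mdata bases 277 93903 = true := relsRange_strict mdata bases 277 93903 (by decide +kernel)
theorem rel340 : relsRange mdata bases 277 94180 = true := relsRange_strict mdata bases 277 94180 (by decide +kernel)
theorem rel341 : relsRange mdata bases 277 94457 = true := relsRange_strict mdata bases 277 94457 (by decide +kernel)
theorem rel342 : relsRange mdata bases 277 94734 = true := relsRange_strict mdata bases 277 94734 (by decide +kernel)
theorem rel343 : relsRange mdata bases 277 95011 = true := relsRange_strict mdata bases 277 95011 (by decide +kernel)

end Cfsg.Agent.Helper4.TC.HeC2B
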