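import Cfsg.Agent.Lib.Helper4.TC.HeC2BModel
import Cfsg.Agent.Lib.Helper4.TC.HeC2BData
import Cfsg.Agent.Lib.Helper4.TC.Strict

set_option autoImplicit false
set_option maxRecDepth 100000
set_option linter.unusedVariables false
set_option Elab.async false

namespace Cfsg.Agent.Helper4.TC.HeC2B

open Cfsg.Agent.Helper4.TC

theorem rel344 : relsRange mdata bases 277 95288 = true := relsRange_strict mdata bases 277 95288 (by decide +kernel)
theorem rel345 : relsRange mdata bases 277 95565 = true := relsRange_strict mdata bases 277 95565 (by decide +kernel)
theorem rel346 : relsRange mdata bases 277 95842 = true := relsRange_strict mdata bases 277 95842 (by decide +kernel)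
theorem rel347 : relsRange mdata bases 277 96119 = true := relsRange_strict mdata bases 277 96119 (by decide +kernel)
theorem rel348 : relsRange mdata bases 277 96396 = true := relsRange_strict mdata bases 277 96396 (by decide +kernel)
theorem rel349 : relsRange mdata bases 277 96673 = true := relsRange_strict mdata bases 277 96673 (by decide +kernel)
theorem rel350 : relsRange mdata bases 277 96950 = true := relsRange_strict mdata bases 277 96950 (by decide +kernel)
theorem rel351 : relsRange mdata bases 277 97227 = true := relsRange_strict mdata bases 277 97227 (by decide +kernel)

end Cfsg.Agent.Helper4.TC.HeC2B
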