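import Cfsg.Agent.Lib.Helper4.TC.HeC2BModel
import Cfsg.Agent.Lib.Helper4.TC.HeC2BData
import Cfsg.Agent.Lib.Helper4.TC.Strict

set_option autoImplicit false
set_option maxRecDepth 100000
set_option linter.unusedVariables false
set_option Elab.async false

namespace Cfsg.Agent.Helper4.TC.HeC2B

open Cfsg.Agent.Helper4.TC

theorem rel352 : relsRange mdata bases 277 97504 = true := relsRange_strict mdata bases 277 97504 (by decide +kernel)
theorem rel353 : relsRange mdata bases 277 97781 = true := relsRange_strict mdata bases 277 97781 (by decide +kernel)
theorem rel354 : relsRange mdata bases 277 98058 = true := relsRange_strict mdata bases 277 98058 (by decide +kernel)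
theorem rel355 : relsRange mdata bases 277 98335 = true := relsRange_strict mdata bases 277 98335 (by decide +kernel)
theorem rel356 : relsRange mdata bases 277 98612 = true := relsRange_strict mdata bases 277 98612 (by decide +kernel)
theorem rel357 : relsRange mdata bases 277 98889 = true := relsRange_strict mdata bases 277 98889 (by decide +kernel)
theorem rel358 : relsRange mdata bases 277 99166 = true := relsRange_strict mdata bases 277 99166 (by decide +kernel)
theorem rel359 : relsRange mdata bases 277 99443 = true := relsRange_strict mdata bases 277 99443 (by decide +kernel)

end Cfsg.Agent.Helper4.TC.HeC2B
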