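import Cfsg.Agent.Lib.Helper4.TC.HeC2BModel
import Cfsg.Agent.Lib.Helper4.TC.HeC2BData
import Cfsg.Agent.Lib.Helper4.TC.Strict

set_option autoImplicit false
set_option maxRecDepth 100000
set_option linter.unusedVariables false
set_option Elab.async false

namespace Cfsg.Agent.Helper4.TC.HeC2B

open Cfsg.Agent.Helper4.TC

theorem rel360 : relsRange mdata bases 277 99720 = true := relsRange_strict mdata bases 277 99720 (by decide +kernel)
theorem rel361 : relsRange mdata bases 277 99997 = true := relsRange_strict mdata bases 277 99997 (by decide +kernel)
theorem rel362 : relsRange mdata bases 277 100274 = true := relsRange_strict mdata bases 277 100274 (by decide +kernel)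
theorem rel363 : relsRange mdata bases 277 100551 = true := relsRange_strict mdata bases 277 100551 (by decide +kernel)
theorem rel364 : relsRange mdata bases 277 100828 = true := relsRange_strict mdata bases 277 100828 (by decide +kernel)
theorem rel365 : relsRange mdata bases 277 101105 = true := relsRange_strict mdata bases 277 101105 (by decide +kernel)
theorem rel366 : relsRange mdata bases 277 101382 = true := relsRange_strict mdata bases 277 101382 (by decide +kernel)
theorem rel367 : relsRange mdata bases 277 101659 = true := relsRange_strict mdata bases 277 101659 (by decide +kernel)

end Cfsg.Agent.Helper4.TC.HeC2B
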