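import Cfsg.Agent.Lib.Helper4.TC.HeC2BModel
import Cfsg.Agent.Lib.Helper4.TC.HeC2BData
import Cfsg.Agent.Lib.Helper4.TC.Strict

set_option autoImplicit false
set_option maxRecDepth 100000
set_option linter.unusedVariables false
set_option Elab.async false

namespace Cfsg.Agent.Helper4.TC.HeC2B

open Cfsg.Agent.Helper4.TC

theorem rel368 : relsRange mdata bases 277 101936 = true := relsRange_strict mdata bases 277 101936 (by decide +kernel)
theorem rel369 : relsRange mdata bases 277 102213 = true := relsRange_strict mdata bases 277 102213 (by decide +kernel)
theorem rel370 : relsRange mdata bases 277 102490 = true := relsRange_strict mdata bases 277 102490 (by decide +kernel)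
theorem rel371 : relsRange mdata bases 277 102767 = true := relsRange_strict mdata bases 277 102767 (by decide +kernel)
theorem rel372 : relsRange mdata bases 277 103044 = true := relsRange_strict mdata bases 277 103044 (by decide +kernel)
theorem rel373 : relsRange mdata bases 277 103321 = true := relsRange_strict mdata bases 277 103321 (by decide +kernel)
theorem rel374 : relsRange mdata bases 277 103598 = true := relsRange_strict mdata bases 277 103598 (by decide +kernel)
theorem rel375 : relsRange mdata bases 277 103875 = true := relsRange_strict mdata bases 277 103875 (by decide +kernel)

end Cfsg.Agent.Helper4.TC.HeC2B
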