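import Cfsg.Agent.Lib.Helper4.TC.HeC2BModel
import Cfsg.Agent.Lib.Helper4.TC.HeC2BData
import Cfsg.Agent.Lib.Helper4.TC.Strict

set_option autoImplicit false
set_option maxRecDepth 100000
set_option linter.unusedVariables false
set_option Elab.async false

namespace Cfsg.Agent.Helper4.TC.HeC2B

open Cfsg.Agent.Helper4.TC

theorem rel376 : relsRange mdata bases 277 104152 = true := relsRange_strict mdata bases 277 104152 (by decide +kernel)
theorem rel377 : relsRange mdata bases 277 104429 = true := relsRange_strict mdata bases 277 104429 (by decide +kernel)
theorem rel378 : relsRange mdata bases 277 104706 = true := relsRange_strict mdata bases 277 104706 (by decide +kernel)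
theorem rel379 : relsRange mdata bases 277 104983 = true := relsRange_strict mdata bases 277 104983 (by decide +kernel)
theorem rel380 : relsRange mdata bases 277 105260 = true := relsRange_strict mdata bases 277 105260 (by decide +kernel)
theorem rel381 : relsRange mdata bases 277 105537 = true := relsRange_strict mdata bases 277 105537 (by decide +kernel)
theorem rel382 : relsRange mdata bases 277 105814 = true := relsRange_strict mdata bases 277 105814 (by decide +kernel)
theorem rel383 : relsRange mdata bases 277 106091 = true := relsRange_strict mdata bases 277 106091 (by decide +kernel)

end Cfsg.Agent.Helper4.TC.HeC2B
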