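import Cfsg.Agent.Lib.Helper4.TC.HeC2BModel
import Cfsg.Agent.Lib.Helper4.TC.HeC2BData
import Cfsg.Agent.Lib.Helper4.TC.Strict

set_option autoImplicit false
set_option maxRecDepth 100000
set_option linter.unusedVariables false
set_option Elab.async false

namespace Cfsg.Agent.Helper4.TC.HeC2B

open Cfsg.Agent.Helper4.TC

theorem rel384 : relsRange mdata bases 277 106368 = true := relsRange_strict mdata bases 277 106368 (by decide +kernel)
theorem rel385 : relsRange mdata bases 277 106645 = true := relsRange_strict mdata bases 277 106645 (by decide +kernel)
theorem rel386 : relsRange mdata bases 277 106922 = true := relsRange_strict mdata bases 277 106922 (by decide +kernel)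
theorem rel387 : relsRange mdata bases 277 107199 = true := relsRange_strict mdata bases 277 107199 (by decide +kernel)
theorem rel388 : relsRange mdata bases 277 107476 = true := relsRange_strict mdata bases 277 107476 (by decide +kernel)
theorem rel389 : relsRange mdata bases 277 107753 = true := relsRange_strict mdata bases 277 107753 (by decide +kernel)
theorem rel390 : relsRange mdata bases 277 108030 = true := relsRange_strict mdata bases 277 108030 (by decide +kernel)
theorem rel391 : relsRange mdata bases 277 108307 = true := relsRange_strict mdata bases 277 108307 (by decide +kernel)

end Cfsg.Agent.Helper4.TC.HeC2B
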