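import Cfsg.Agent.Lib.Helper4.TC.HeC2BModel
import Cfsg.Agent.Lib.Helper4.TC.HeC2BData
import Cfsg.Agent.Lib.Helper4.TC.Strict

set_option autoImplicit false
set_option maxRecDepth 100000
set_option linter.unusedVariables false
set_option Elab.async false

namespace Cfsg.Agent.Helper4.TC.HeC2B

open Cfsg.Agent.Helper4.TC

theorem rel392 : relsRange mdata bases 277 108584 = true := relsRange_strict mdata bases 277 108584 (by decide +kernel)
theorem rel393 : relsRange mdata bases 277 108861 = true := relsRange_strict mdata bases 277 108861 (by decide +kernel)
theorem rel394 : relsRange mdata bases 277 109138 = true := relsRange_strict mdata bases 277 109138 (by decide +kernel)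
theorem rel395 : relsRange mdata bases 277 109415 = true := relsRange_strict mdata bases 277 109415 (by decide +kernel)
theorem rel396 : relsRange mdata bases 277 109692 = true := relsRange_strict mdata bases 277 109692 (by decide +kernel)
theorem rel397 : relsRange mdata bases 277 109969 = true := relsRange_strict mdata bases 277 109969 (by decide +kernel)
theorem rel398 : relsRange mdata bases 277 110246 = true := relsRange_strict mdata bases 277 110246 (by decide +kernel)
theorem rel399 : relsRange mdata bases 277 110523 = true := relsRange_strict mdata bases 277 110523 (by decide +kernel)

end Cfsg.Agent.Helper4.TC.HeC2B
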