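import Cfsg.Agent.Lib.Helper4.TC.HeC2BModel
import Cfsg.Agent.Lib.Helper4.TC.HeC2BData
import Cfsg.Agent.Lib.Helper4.TC.Strict

set_option autoImplicit false
set_option maxRecDepth 100000
set_option linter.unusedVariables false
set_option Elab.async false

namespace Cfsg.Agent.Helper4.TC.HeC2B

open Cfsg.Agent.Helper4.TC

theorem rel40 : relsRange mdata bases 277 11080 = true := relsRange_strict mdata bases 277 11080 (by decide +kernel)
theorem rel41 : relsRange mdata bases 277 11357 = true := relsRange_strict mdata bases 277 11357 (by decide +kernel)
theorem rel42 : relsRange mdata bases 277 11634 = true := relsRange_strict mdata bases 277 11634 (by decide +kernel)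
theorem rel43 : relsRange mdata bases 277 11911 = true := relsRange_strict mdata bases 277 11911 (by decide +kernel)
theorem rel44 : relsRange mdata bases 277 12188 = true := relsRange_strict mdata bases 277 12188 (by decide +kernel)
theorem rel45 : relsRange mdata bases 277 12465 = true := relsRange_strict mdata bases 277 12465 (by decide +kernel)
theorem rel46 : relsRange mdata bases 277 12742 = true := relsRange_strict mdata bases 277 12742 (by decide +kernel)
theorem rel47 : relsRange mdata bases 277 13019 = true := relsRange_strict mdata bases 277 13019 (by decide +kernel)

end Cfsg.Agent.Helper4.TC.HeC2B
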