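import Cfsg.Agent.Lib.Helper4.TC.HeC2BModel
import Cfsg.Agent.Lib.Helper4.TC.HeC2BData
import Cfsg.Agent.Lib.Helper4.TC.Strict

set_option autoImplicit false
set_option maxRecDepth 100000
set_option linter.unusedVariables false
set_option Elab.async false

namespace Cfsg.Agent.Helper4.TC.HeC2B

open Cfsg.Agent.Helper4.TC

theorem rel400 : relsRange mdata bases 277 110800 = true := relsRange_strict mdata bases 277 110800 (by decide +kernel)
theorem rel401 : relsRange mdata bases 277 111077 = true := relsRange_strict mdata bases 277 111077 (by decide +kernel)
theorem rel402 : relsRange mdata bases 277 111354 = true := relsRange_strict mdata bases 277 111354 (by decide +kernel)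
theorem rel403 : relsRange mdata bases 277 111631 = true := relsRange_strict mdata bases 277 111631 (by decide +kernel)
theorem rel404 : relsRange mdata bases 277 111908 = true := relsRange_strict mdata bases 277 111908 (by decide +kernel)
theorem rel405 : relsRange mdata bases 277 112185 = true := relsRange_strict mdata bases 277 112185 (by decide +kernel)
theorem rel406 : relsRange mdata bases 277 112462 = true := relsRange_strict mdata bases 277 112462 (by decide +kernel)
theorem rel407 : relsRange mdata bases 277 112739 = true := relsRange_strict mdata bases 277 112739 (by decide +kernel)

end Cfsg.Agent.Helper4.TC.HeC2B
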