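import Cfsg.Agent.Lib.Helper4.TC.HeC2BModel
import Cfsg.Agent.Lib.Helper4.TC.HeC2BData
import Cfsg.Agent.Lib.Helper4.TC.Strict

set_option autoImplicit false
set_option maxRecDepth 100000
set_option linter.unusedVariables false
set_option Elab.async false

namespace Cfsg.Agent.Helper4.TC.HeC2B

open Cfsg.Agent.Helper4.TC

theorem rel408 : relsRange mdata bases 277 113016 = true := relsRange_strict mdata bases 277 113016 (by decide +kernel)
theorem rel409 : relsRange mdata bases 277 113293 = true := relsRange_strict mdata bases 277 113293 (by decide +kernel)
theorem rel410 : relsRange mdata bases 277 113570 = true := relsRange_strict mdata bases 277 113570 (by decide +kernel)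
theorem rel411 : relsRange mdata bases 277 113847 = true := relsRange_strict mdata bases 277 113847 (by decide +kernel)
theorem rel412 : relsRange mdata bases 277 114124 = true := relsRange_strict mdata bases 277 114124 (by decide +kernel)
theorem rel413 : relsRange mdata bases 277 114401 = true := relsRange_strict mdata bases 277 114401 (by decide +kernel)
theorem rel414 : relsRange mdata bases 277 114678 = true := relsRange_strict mdata bases 277 114678 (by decide +kernel)
theorem rel415 : relsRange mdata bases 277 114955 = true := relsRange_strict mdata bases 277 114955 (by decide +kernel)

end Cfsg.Agent.Helper4.TC.HeC2B
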