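import Cfsg.Agent.Lib.Helper4.TC.HeC2BModel
import Cfsg.Agent.Lib.Helper4.TC.HeC2BData
import Cfsg.Agent.Lib.Helper4.TC.Strict

set_option autoImplicit false
set_option maxRecDepth 100000
set_option linter.unusedVariables false
set_option Elab.async false

namespace Cfsg.Agent.Helper4.TC.HeC2B

open Cfsg.Agent.Helper4.TC

theorem rel416 : relsRange mdata bases 277 115232 = true := relsRange_strict mdata bases 277 115232 (by decide +kernel)
theorem rel417 : relsRange mdata bases 277 115509 = true := relsRange_strict mdata bases 277 115509 (by decide +kernel)
theorem rel418 : relsRange mdata bases 277 115786 = true := relsRange_strict mdata bases 277 115786 (by decide +kernel)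
theorem rel419 : relsRange mdata bases 277 116063 = true := relsRange_strict mdata bases 277 116063 (by decide +kernel)
theorem rel420 : relsRange mdata bases 277 116340 = true := relsRange_strict mdata bases 277 116340 (by decide +kernel)
theorem rel421 : relsRange mdata bases 277 116617 = true := relsRange_strict mdata bases 277 116617 (by decide +kernel)
theorem rel422 : relsRange mdata bases 277 116894 = true := relsRange_strict mdata bases 277 116894 (by decide +kernel)
theorem rel423 : relsRange mdata bases 277 117171 = true := relsRange_strict mdata bases 277 117171 (by decide +kernel)

end Cfsg.Agent.Helper4.TC.HeC2B
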