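import Cfsg.Agent.Lib.Helper4.TC.HeC2BModel
import Cfsg.Agent.Lib.Helper4.TC.HeC2BData
import Cfsg.Agent.Lib.Helper4.TC.Strict

set_option autoImplicit false
set_option maxRecDepth 100000
set_option linter.unusedVariables false
set_option Elab.async false

namespace Cfsg.Agent.Helper4.TC.HeC2B

open Cfsg.Agent.Helper4.TC

theorem rel424 : relsRange mdata bases 277 117448 = true := relsRange_strict mdata bases 277 117448 (by decide +kernel)
theorem rel425 : relsRange mdata bases 277 117725 = true := relsRange_strict mdata bases 277 117725 (by decide +kernel)
theorem rel426 : relsRange mdata bases 277 118002 = true := relsRange_strict mdata bases 277 118002 (by decide +kernel)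
theorem rel427 : relsRange mdata bases 277 118279 = true := relsRange_strict mdata bases 277 118279 (by decide +kernel)
theorem rel428 : relsRange mdata bases 277 118556 = true := relsRange_strict mdata bases 277 118556 (by decide +kernel)
theorem rel429 : relsRange mdata bases 277 118833 = true := relsRange_strict mdata bases 277 118833 (by decide +kernel)
theorem rel430 : relsRange mdata bases 277 119110 = true := relsRange_strict mdata bases 277 119110 (by decide +kernel)
theorem rel431 : relsRange mdata bases 277 119387 = true := relsRange_strict mdata bases 277 119387 (by decide +kernel)

end Cfsg.Agent.Helper4.TC.HeC2B
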