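import Cfsg.Agent.Lib.Helper4.TC.HeC2BModel
import Cfsg.Agent.Lib.Helper4.TC.HeC2BData
import Cfsg.Agent.Lib.Helper4.TC.Strict

set_option autoImplicit false
set_option maxRecDepth 100000
set_option linter.unusedVariables false
set_option Elab.async false

namespace Cfsg.Agent.Helper4.TC.HeC2B

open Cfsg.Agent.Helper4.TC

theorem rel440 : relsRange mdata bases 277 121880 = true := relsRange_strict mdata bases 277 121880 (by decide +kernel)
theorem rel441 : relsRange mdata bases 277 122157 = true := relsRange_strict mdata bases 277 122157 (by decide +kernel)
theorem rel442 : relsRange mdata bases 277 122434 = true := relsRange_strict mdata bases 277 122434 (by decide +kernel)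
theorem rel443 : relsRange mdata bases 277 122711 = true := relsRange_strict mdata bases 277 122711 (by decide +kernel)
theorem rel444 : relsRange mdata bases 277 122988 = true := relsRange_strict mdata bases 277 122988 (by decide +kernel)
theorem rel445 : relsRange mdata bases 277 123265 = true := relsRange_strict mdata bases 277 123265 (by decide +kernel)
theorem rel446 : relsRange mdata bases 277 123542 = true := relsRange_strict mdata bases 277 123542 (by decide +kernel)
theorem rel447 : relsRange mdata bases 277 123819 = true := relsRange_strict mdata bases 277 123819 (by decide +kernel)

end Cfsg.Agent.Helper4.TC.HeC2B
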