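import Cfsg.Agent.Lib.Helper4.TC.HeC2BModel
import Cfsg.Agent.Lib.Helper4.TC.HeC2BData
import Cfsg.Agent.Lib.Helper4.TC.Strict

set_option autoImplicit false
set_option maxRecDepth 100000
set_option linter.unusedVariables false
set_option Elab.async false

namespace Cfsg.Agent.Helper4.TC.HeC2B

open Cfsg.Agent.Helper4.TC

theorem rel448 : relsRange mdata bases 277 124096 = true := relsRange_strict mdata bases 277 124096 (by decide +kernel)
theorem rel449 : relsRange mdata bases 277 124373 = true := relsRange_strict mdata bases 277 124373 (by decide +kernel)
theorem rel450 : relsRange mdata bases 277 124650 = true := relsRange_strict mdata bases 277 124650 (by decide +kernel)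
theorem rel451 : relsRange mdata bases 277 124927 = true := relsRange_strict mdata bases 277 124927 (by decide +kernel)
theorem rel452 : relsRange mdata bases 277 125204 = true := relsRange_strict mdata bases 277 125204 (by decide +kernel)
theorem rel453 : relsRange mdata bases 277 125481 = true := relsRange_strict mdata bases 277 125481 (by decide +kernel)
theorem rel454 : relsRange mdata bases 277 125758 = true := relsRange_strict mdata bases 277 125758 (by decide +kernel)
theorem rel455 : relsRange mdata bases 277 126035 = true := relsRange_strict mdata bases 277 126035 (by decide +kernel)

end Cfsg.Agent.Helper4.TC.HeC2B
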