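import Cfsg.Agent.Lib.Helper4.TC.HeC2BModel
import Cfsg.Agent.Lib.Helper4.TC.HeC2BData
import Cfsg.Agent.Lib.Helper4.TC.Strict

set_option autoImplicit false
set_option maxRecDepth 100000
set_option linter.unusedVariables false
set_option Elab.async false

namespace Cfsg.Agent.Helper4.TC.HeC2B

open Cfsg.Agent.Helper4.TC

theorem rel456 : relsRange mdata bases 277 126312 = true := relsRange_strict mdata bases 277 126312 (by decide +kernel)
theorem rel457 : relsRange mdata bases 277 126589 = true := relsRange_strict mdata bases 277 126589 (by decide +kernel)
theorem rel458 : relsRange mdata bases 277 126866 = true := relsRange_strict mdata bases 277 126866 (by decide +kernel)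
theorem rel459 : relsRange mdata bases 277 127143 = true := relsRange_strict mdata bases 277 127143 (by decide +kernel)
theorem rel460 : relsRange mdata bases 277 127420 = true := relsRange_strict mdata bases 277 127420 (by decide +kernel)
theorem rel461 : relsRange mdata bases 277 127697 = true := relsRange_strict mdata bases 277 127697 (by decide +kernel)
theorem rel462 : relsRange mdata bases 277 127974 = true := relsRange_strict mdata bases 277 127974 (by decide +kernel)
theorem rel463 : relsRange mdata bases 277 128251 = true := relsRange_strict mdata bases 277 128251 (by decide +kernel)

end Cfsg.Agent.Helper4.TC.HeC2B
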