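import Cfsg.Agent.Lib.Helper4.TC.HeC2BModel
import Cfsg.Agent.Lib.Helper4.TC.HeC2BData
import Cfsg.Agent.Lib.Helper4.TC.Strict

set_option autoImplicit false
set_option maxRecDepth 100000
set_option linter.unusedVariables false
set_option Elab.async false

namespace Cfsg.Agent.Helper4.TC.HeC2B

open Cfsg.Agent.Helper4.TC

theorem rel464 : relsRange mdata bases 277 128528 = true := relsRange_strict mdata bases 277 128528 (by decide +kernel)
theorem rel465 : relsRange mdata bases 277 128805 = true := relsRange_strict mdata bases 277 128805 (by decide +kernel)
theorem rel466 : relsRange mdata bases 277 129082 = true := relsRange_strict mdata bases 277 129082 (by decide +kernel)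
theorem rel467 : relsRange mdata bases 277 129359 = true := relsRange_strict mdata bases 277 129359 (by decide +kernel)
theorem rel468 : relsRange mdata bases 277 129636 = true := relsRange_strict mdata bases 277 129636 (by decide +kernel)
theorem rel469 : relsRange mdata bases 277 129913 = true := relsRange_strict mdata bases 277 129913 (by decide +kernel)
theorem rel470 : relsRange mdata bases 277 130190 = true := relsRange_strict mdata bases 277 130190 (by decide +kernel)
theorem rel471 : relsRange mdata bases 277 130467 = true := relsRange_strict mdata bases 277 130467 (by decide +kernel)

end Cfsg.Agent.Helper4.TC.HeC2B
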