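import Cfsg.Agent.Lib.Helper4.TC.HeC2BModel
import Cfsg.Agent.Lib.Helper4.TC.HeC2BData
import Cfsg.Agent.Lib.Helper4.TC.Strict

set_option autoImplicit false
set_option maxRecDepth 100000
set_option linter.unusedVariables false
set_option Elab.async false

namespace Cfsg.Agent.Helper4.TC.HeC2B

open Cfsg.Agent.Helper4.TC

theorem rel472 : relsRange mdata bases 277 130744 = true := relsRange_strict mdata bases 277 130744 (by decide +kernel)
theorem rel473 : relsRange mdata bases 277 131021 = true := relsRange_strict mdata bases 277 131021 (by decide +kernel)
theorem rel474 : relsRange mdata bases 277 131298 = true := relsRange_strict mdata bases 277 131298 (by decide +kernel)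
theorem rel475 : relsRange mdata bases 277 131575 = true := relsRange_strict mdata bases 277 131575 (by decide +kernel)
theorem rel476 : relsRange mdata bases 277 131852 = true := relsRange_strict mdata bases 277 131852 (by decide +kernel)
theorem rel477 : relsRange mdata bases 277 132129 = true := relsRange_strict mdata bases 277 132129 (by decide +kernel)
theorem rel478 : relsRange mdata bases 277 132406 = true := relsRange_strict mdata bases 277 132406 (by decide +kernel)
theorem rel479 : relsRange mdata bases 277 132683 = true := relsRange_strict mdata bases 277 132683 (by decide +kernel)

end Cfsg.Agent.Helper4.TC.HeC2B
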