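import Cfsg.Agent.Lib.Helper4.TC.HeC2BModel
import Cfsg.Agent.Lib.Helper4.TC.HeC2BData
import Cfsg.Agent.Lib.Helper4.TC.Strict

set_option autoImplicit false
set_option maxRecDepth 100000
set_option linter.unusedVariables false
set_option Elab.async false

namespace Cfsg.Agent.Helper4.TC.HeC2B

open Cfsg.Agent.Helper4.TC

theorem rel48 : relsRange mdata bases 277 13296 = true := relsRange_strict mdata bases 277 13296 (by decide +kernel)
theorem rel49 : relsRange mdata bases 277 13573 = true := relsRange_strict mdata bases 277 13573 (by decide +kernel)
theorem rel50 : relsRange mdata bases 277 13850 = true := relsRange_strict mdata bases 277 13850 (by decide +kernel)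
theorem rel51 : relsRange mdata bases 277 14127 = true := relsRange_strict mdata bases 277 14127 (by decide +kernel)
theorem rel52 : relsRange mdata bases 277 14404 = true := relsRange_strict mdata bases 277 14404 (by decide +kernel)
theorem rel53 : relsRange mdata bases 277 14681 = true := relsRange_strict mdata bases 277 14681 (by decide +kernel)
theorem rel54 : relsRange mdata bases 277 14958 = true := relsRange_strict mdata bases 277 14958 (by decide +kernel)
theorem rel55 : relsRange mdata bases 277 15235 = true := relsRange_strict mdata bases 277 15235 (by decide +kernel)

end Cfsg.Agent.Helper4.TC.HeC2B
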