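import Cfsg.Agent.Lib.Helper4.TC.HeC2BModel
import Cfsg.Agent.Lib.Helper4.TC.HeC2BData
import Cfsg.Agent.Lib.Helper4.TC.Strict

set_option autoImplicit false
set_option maxRecDepth 100000
set_option linter.unusedVariables false
set_option Elab.async false

namespace Cfsg.Agent.Helper4.TC.HeC2B

open Cfsg.Agent.Helper4.TC

theorem rel480 : relsRange mdata bases 277 132960 = true := relsRange_strict mdata bases 277 132960 (by decide +kernel)
theorem rel481 : relsRange mdata bases 277 133237 = true := relsRange_strict mdata bases 277 133237 (by decide +kernel)
theorem rel482 : relsRange mdata bases 277 133514 = true := relsRange_strict mdata bases 277 133514 (by decide +kernel)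
theorem rel483 : relsRange mdata bases 277 133791 = true := relsRange_strict mdata bases 277 133791 (by decide +kernel)
theorem rel484 : relsRange mdata bases 277 134068 = true := relsRange_strict mdata bases 277 134068 (by decide +kernel)
theorem rel485 : relsRange mdata bases 277 134345 = true := relsRange_strict mdata bases 277 134345 (by decide +kernel)
theorem rel486 : relsRange mdata bases 277 134622 = true := relsRange_strict mdata bases 277 134622 (by decide +kernel)
theorem rel487 : relsRange mdata bases 277 134899 = true := relsRange_strict mdata bases 277 134899 (by decide +kernel)

end Cfsg.Agent.Helper4.TC.HeC2B
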