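import Cfsg.Agent.Lib.Helper4.TC.HeC2BModel
import Cfsg.Agent.Lib.Helper4.TC.HeC2BData
import Cfsg.Agent.Lib.Helper4.TC.Strict

set_option autoImplicit false
set_option maxRecDepth 100000
set_option linter.unusedVariables false
set_option Elab.async false

namespace Cfsg.Agent.Helper4.TC.HeC2B

open Cfsg.Agent.Helper4.TC

theorem rel488 : relsRange mdata bases 277 135176 = true := relsRange_strict mdata bases 277 135176 (by decide +kernel)
theorem rel489 : relsRange mdata bases 277 135453 = true := relsRange_strict mdata bases 277 135453 (by decide +kernel)
theorem rel490 : relsRange mdata bases 277 135730 = true := relsRange_strict mdata bases 277 135730 (by decide +kernel)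
theorem rel491 : relsRange mdata bases 277 136007 = true := relsRange_strict mdata bases 277 136007 (by decide +kernel)
theorem rel492 : relsRange mdata bases 277 136284 = true := relsRange_strict mdata bases 277 136284 (by decide +kernel)
theorem rel493 : relsRange mdata bases 277 136561 = true := relsRange_strict mdata bases 277 136561 (by decide +kernel)
theorem rel494 : relsRange mdata bases 277 136838 = true := relsRange_strict mdata bases 277 136838 (by decide +kernel)
theorem rel495 : relsRange mdata bases 277 137115 = true := relsRange_strict mdata bases 277 137115 (by decide +kernel)

end Cfsg.Agent.Helper4.TC.HeC2B
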