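import Cfsg.Agent.Lib.Helper4.TC.HeC2BModel
import Cfsg.Agent.Lib.Helper4.TC.HeC2BData
import Cfsg.Agent.Lib.Helper4.TC.Strict

set_option autoImplicit false
set_option maxRecDepth 100000
set_option linter.unusedVariables false
set_option Elab.async false

namespace Cfsg.Agent.Helper4.TC.HeC2B

open Cfsg.Agent.Helper4.TC

theorem rel496 : relsRange mdata bases 277 137392 = true := relsRange_strict mdata bases 277 137392 (by decide +kernel)
theorem rel497 : relsRange mdata bases 277 137669 = true := relsRange_strict mdata bases 277 137669 (by decide +kernel)
theorem rel498 : relsRange mdata bases 277 137946 = true := relsRange_strict mdata bases 277 137946 (by decide +kernel)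
theorem rel499 : relsRange mdata bases 277 138223 = true := relsRange_strict mdata bases 277 138223 (by decide +kernel)
theorem rel500 : relsRange mdata bases 277 138500 = true := relsRange_strict mdata bases 277 138500 (by decide +kernel)
theorem rel501 : relsRange mdata bases 277 138777 = true := relsRange_strict mdata bases 277 138777 (by decide +kernel)
theorem rel502 : relsRange mdata bases 277 139054 = true := relsRange_strict mdata bases 277 139054 (by decide +kernel)
theorem rel503 : relsRange mdata bases 277 139331 = true := relsRange_strict mdata bases 277 139331 (by decide +kernel)

end Cfsg.Agent.Helper4.TC.HeC2B
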