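import Cfsg.Agent.Lib.Helper4.TC.HeC2BModel
import Cfsg.Agent.Lib.Helper4.TC.HeC2BData
import Cfsg.Agent.Lib.Helper4.TC.Strict

set_option autoImplicit false
set_option maxRecDepth 100000
set_option linter.unusedVariables false
set_option Elab.async false

namespace Cfsg.Agent.Helper4.TC.HeC2B

open Cfsg.Agent.Helper4.TC

theorem rel504 : relsRange mdata bases 277 139608 = true := relsRange_strict mdata bases 277 139608 (by decide +kernel)
theorem rel505 : relsRange mdata bases 277 139885 = true := relsRange_strict mdata bases 277 139885 (by decide +kernel)
theorem rel506 : relsRange mdata bases 277 140162 = true := relsRange_strict mdata bases 277 140162 (by decide +kernel)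
theorem rel507 : relsRange mdata bases 277 140439 = true := relsRange_strict mdata bases 277 140439 (by decide +kernel)
theorem rel508 : relsRange mdata bases 277 140716 = true := relsRange_strict mdata bases 277 140716 (by decide +kernel)
theorem rel509 : relsRange mdata bases 277 140993 = true := relsRange_strict mdata bases 277 140993 (by decide +kernel)
theorem rel510 : relsRange mdata bases 277 141270 = true := relsRange_strict mdata bases 277 141270 (by decide +kernel)
theorem rel511 : relsRange mdata bases 277 141547 = true := relsRange_strict mdata bases 277 141547 (by decide +kernel)

end Cfsg.Agent.Helper4.TC.HeC2B
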