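import Cfsg.Agent.Lib.Helper4.TC.HeC2BModel
import Cfsg.Agent.Lib.Helper4.TC.HeC2BData
import Cfsg.Agent.Lib.Helper4.TC.Strict

set_option autoImplicit false
set_option maxRecDepth 100000
set_option linter.unusedVariables false
set_option Elab.async false

namespace Cfsg.Agent.Helper4.TC.HeC2B

open Cfsg.Agent.Helper4.TC

theorem rel512 : relsRange mdata bases 277 141824 = true := relsRange_strict mdata bases 277 141824 (by decide +kernel)
theorem rel513 : relsRange mdata bases 277 142101 = true := relsRange_strict mdata bases 277 142101 (by decide +kernel)
theorem rel514 : relsRange mdata bases 277 142378 = true := relsRange_strict mdata bases 277 142378 (by decide +kernel)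
theorem rel515 : relsRange mdata bases 277 142655 = true := relsRange_strict mdata bases 277 142655 (by decide +kernel)
theorem rel516 : relsRange mdata bases 277 142932 = true := relsRange_strict mdata bases 277 142932 (by decide +kernel)
theorem rel517 : relsRange mdata bases 277 143209 = true := relsRange_strict mdata bases 277 143209 (by decide +kernel)
theorem rel518 : relsRange mdata bases 277 143486 = true := relsRange_strict mdata bases 277 143486 (by decide +kernel)
theorem rel519 : relsRange mdata bases 277 143763 = true := relsRange_strict mdata bases 277 143763 (by decide +kernel)

end Cfsg.Agent.Helper4.TC.HeC2B
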