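import Cfsg.Agent.Lib.Helper4.TC.HeC2BModel
import Cfsg.Agent.Lib.Helper4.TC.HeC2BData
import Cfsg.Agent.Lib.Helper4.TC.Strict

set_option autoImplicit false
set_option maxRecDepth 100000
set_option linter.unusedVariables false
set_option Elab.async false

namespace Cfsg.Agent.Helper4.TC.HeC2B

open Cfsg.Agent.Helper4.TC

theorem rel520 : relsRange mdata bases 277 144040 = true := relsRange_strict mdata bases 277 144040 (by decide +kernel)
theorem rel521 : relsRange mdata bases 277 144317 = true := relsRange_strict mdata bases 277 144317 (by decide +kernel)
theorem rel522 : relsRange mdata bases 277 144594 = true := relsRange_strict mdata bases 277 144594 (by decide +kernel)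
theorem rel523 : relsRange mdata bases 277 144871 = true := relsRange_strict mdata bases 277 144871 (by decide +kernel)
theorem rel524 : relsRange mdata bases 277 145148 = true := relsRange_strict mdata bases 277 145148 (by decide +kernel)
theorem rel525 : relsRange mdata bases 277 145425 = true := relsRange_strict mdata bases 277 145425 (by decide +kernel)
theorem rel526 : relsRange mdata bases 277 145702 = true := relsRange_strict mdata bases 277 145702 (by decide +kernel)
theorem rel527 : relsRange mdata bases 277 145979 = true := relsRange_strict mdata bases 277 145979 (by decide +kernel)

end Cfsg.Agent.Helper4.TC.HeC2B
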