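import Cfsg.Agent.Lib.Helper4.TC.HeC2BModel
import Cfsg.Agent.Lib.Helper4.TC.HeC2BData
import Cfsg.Agent.Lib.Helper4.TC.Strict

set_option autoImplicit false
set_option maxRecDepth 100000
set_option linter.unusedVariables false
set_option Elab.async false

namespace Cfsg.Agent.Helper4.TC.HeC2B

open Cfsg.Agent.Helper4.TC

theorem rel528 : relsRange mdata bases 277 146256 = true := relsRange_strict mdata bases 277 146256 (by decide +kernel)
theorem rel529 : relsRange mdata bases 277 146533 = true := relsRange_strict mdata bases 277 146533 (by decide +kernel)
theorem rel530 : relsRange mdata bases 277 146810 = true := relsRange_strict mdata bases 277 146810 (by decide +kernel)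
theorem rel531 : relsRange mdata bases 277 147087 = true := relsRange_strict mdata bases 277 147087 (by decide +kernel)
theorem rel532 : relsRange mdata bases 277 147364 = true := relsRange_strict mdata bases 277 147364 (by decide +kernel)
theorem rel533 : relsRange mdata bases 277 147641 = true := relsRange_strict mdata bases 277 147641 (by decide +kernel)
theorem rel534 : relsRange mdata bases 277 147918 = true := relsRange_strict mdata bases 277 147918 (by decide +kernel)
theorem rel535 : relsRange mdata bases 277 148195 = true := relsRange_strict mdata bases 277 148195 (by decide +kernel)

end Cfsg.Agent.Helper4.TC.HeC2B
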