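import Cfsg.Agent.Lib.Helper4.TC.HeC2BModel
import Cfsg.Agent.Lib.Helper4.TC.HeC2BData
import Cfsg.Agent.Lib.Helper4.TC.Strict

set_option autoImplicit false
set_option maxRecDepth 100000
set_option linter.unusedVariables false
set_option Elab.async false

namespace Cfsg.Agent.Helper4.TC.HeC2B

open Cfsg.Agent.Helper4.TC

theorem rel536 : relsRange mdata bases 277 148472 = true := relsRange_strict mdata bases 277 148472 (by decide +kernel)
theorem rel537 : relsRange mdata bases 277 148749 = true := relsRange_strict mdata bases 277 148749 (by decide +kernel)
theorem rel538 : relsRange mdata bases 277 149026 = true := relsRange_strict mdata bases 277 149026 (by decide +kernel)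
theorem rel539 : relsRange mdata bases 277 149303 = true := relsRange_strict mdata bases 277 149303 (by decide +kernel)
theorem rel540 : relsRange mdata bases 277 149580 = true := relsRange_strict mdata bases 277 149580 (by decide +kernel)
theorem rel541 : relsRange mdata bases 277 149857 = true := relsRange_strict mdata bases 277 149857 (by decide +kernel)
theorem rel542 : relsRange mdata bases 277 150134 = true := relsRange_strict mdata bases 277 150134 (by decide +kernel)
theorem rel543 : relsRange mdata bases 277 150411 = true := relsRange_strict mdata bases 277 150411 (by decide +kernel)

end Cfsg.Agent.Helper4.TC.HeC2B
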