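import Cfsg.Agent.Lib.Helper4.TC.HeC2BModel
import Cfsg.Agent.Lib.Helper4.TC.HeC2BData
import Cfsg.Agent.Lib.Helper4.TC.Strict

set_option autoImplicit false
set_option maxRecDepth 100000
set_option linter.unusedVariables false
set_option Elab.async false

namespace Cfsg.Agent.Helper4.TC.HeC2B

open Cfsg.Agent.Helper4.TC

theorem rel544 : relsRange mdata bases 277 150688 = true := relsRange_strict mdata bases 277 150688 (by decide +kernel)
theorem rel545 : relsRange mdata bases 277 150965 = true := relsRange_strict mdata bases 277 150965 (by decide +kernel)
theorem rel546 : relsRange mdata bases 277 151242 = true := relsRange_strict mdata bases 277 151242 (by decide +kernel)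
theorem rel547 : relsRange mdata bases 277 151519 = true := relsRange_strict mdata bases 277 151519 (by decide +kernel)
theorem rel548 : relsRange mdata bases 277 151796 = true := relsRange_strict mdata bases 277 151796 (by decide +kernel)
theorem rel549 : relsRange mdata bases 277 152073 = true := relsRange_strict mdata bases 277 152073 (by decide +kernel)
theorem rel550 : relsRange mdata bases 277 152350 = true := relsRange_strict mdata bases 277 152350 (by decide +kernel)
theorem rel551 : relsRange mdata bases 277 152627 = true := relsRange_strict mdata bases 277 152627 (by decide +kernel)

end Cfsg.Agent.Helper4.TC.HeC2B
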