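import Cfsg.Agent.Lib.Helper4.TC.HeC2BModel
import Cfsg.Agent.Lib.Helper4.TC.HeC2BData
import Cfsg.Agent.Lib.Helper4.TC.Strict

set_option autoImplicit false
set_option maxRecDepth 100000
set_option linter.unusedVariables false
set_option Elab.async false

namespace Cfsg.Agent.Helper4.TC.HeC2B

open Cfsg.Agent.Helper4.TC

theorem rel552 : relsRange mdata bases 277 152904 = true := relsRange_strict mdata bases 277 152904 (by decide +kernel)
theorem rel553 : relsRange mdata bases 277 153181 = true := relsRange_strict mdata bases 277 153181 (by decide +kernel)
theorem rel554 : relsRange mdata bases 277 153458 = true := relsRange_strict mdata bases 277 153458 (by decide +kernel)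
theorem rel555 : relsRange mdata bases 277 153735 = true := relsRange_strict mdata bases 277 153735 (by decide +kernel)
theorem rel556 : relsRange mdata bases 277 154012 = true := relsRange_strict mdata bases 277 154012 (by decide +kernel)
theorem rel557 : relsRange mdata bases 277 154289 = true := relsRange_strict mdata bases 277 154289 (by decide +kernel)
theorem rel558 : relsRange mdata bases 277 154566 = true := relsRange_strict mdata bases 277 154566 (by decide +kernel)
theorem rel559 : relsRange mdata bases 277 154843 = true := relsRange_strict mdata bases 277 154843 (by decide +kernel)

end Cfsg.Agent.Helper4.TC.HeC2B
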