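import Cfsg.Agent.Lib.Helper4.TC.HeC2BModel
import Cfsg.Agent.Lib.Helper4.TC.HeC2BData
import Cfsg.Agent.Lib.Helper4.TC.Strict

set_option autoImplicit false
set_option maxRecDepth 100000
set_option linter.unusedVariables false
set_option Elab.async false

namespace Cfsg.Agent.Helper4.TC.HeC2B

open Cfsg.Agent.Helper4.TC

theorem rel56 : relsRange mdata bases 277 15512 = true := relsRange_strict mdata bases 277 15512 (by decide +kernel)
theorem rel57 : relsRange mdata bases 277 15789 = true := relsRange_strict mdata bases 277 15789 (by decide +kernel)
theorem rel58 : relsRange mdata bases 277 16066 = true := relsRange_strict mdata bases 277 16066 (by decide +kernel)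
theorem rel59 : relsRange mdata bases 277 16343 = true := relsRange_strict mdata bases 277 16343 (by decide +kernel)
theorem rel60 : relsRange mdata bases 277 16620 = true := relsRange_strict mdata bases 277 16620 (by decide +kernel)
theorem rel61 : relsRange mdata bases 277 16897 = true := relsRange_strict mdata bases 277 16897 (by decide +kernel)
theorem rel62 : relsRange mdata bases 277 17174 = true := relsRange_strict mdata bases 277 17174 (by decide +kernel)
theorem rel63 : relsRange mdata bases 277 17451 = true := relsRange_strict mdata bases 277 17451 (by decide +kernel)

end Cfsg.Agent.Helper4.TC.HeC2B
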