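import Cfsg.Agent.Lib.Helper4.TC.HeC2BModel
import Cfsg.Agent.Lib.Helper4.TC.HeC2BData
import Cfsg.Agent.Lib.Helper4.TC.Strict

set_option autoImplicit false
set_option maxRecDepth 100000
set_option linter.unusedVariables false
set_option Elab.async false

namespace Cfsg.Agent.Helper4.TC.HeC2B

open Cfsg.Agent.Helper4.TC

theorem rel560 : relsRange mdata bases 277 155120 = true := relsRange_strict mdata bases 277 155120 (by decide +kernel)
theorem rel561 : relsRange mdata bases 277 155397 = true := relsRange_strict mdata bases 277 155397 (by decide +kernel)
theorem rel562 : relsRange mdata bases 277 155674 = true := relsRange_strict mdata bases 277 155674 (by decide +kernel)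
theorem rel563 : relsRange mdata bases 277 155951 = true := relsRange_strict mdata bases 277 155951 (by decide +kernel)
theorem rel564 : relsRange mdata bases 277 156228 = true := relsRange_strict mdata bases 277 156228 (by decide +kernel)
theorem rel565 : relsRange mdata bases 277 156505 = true := relsRange_strict mdata bases 277 156505 (by decide +kernel)
theorem rel566 : relsRange mdata bases 277 156782 = true := relsRange_strict mdata bases 277 156782 (by decide +kernel)
theorem rel567 : relsRange mdata bases 277 157059 = true := relsRange_strict mdata bases 277 157059 (by decide +kernel)

end Cfsg.Agent.Helper4.TC.HeC2B
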