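import Cfsg.Agent.Lib.Helper4.TC.HeC2BModel
import Cfsg.Agent.Lib.Helper4.TC.HeC2BData
import Cfsg.Agent.Lib.Helper4.TC.Strict

set_option autoImplicit false
set_option maxRecDepth 100000
set_option linter.unusedVariables false
set_option Elab.async false

namespace Cfsg.Agent.Helper4.TC.HeC2B

open Cfsg.Agent.Helper4.TC

theorem rel568 : relsRange mdata bases 277 157336 = true := relsRange_strict mdata bases 277 157336 (by decide +kernel)
theorem rel569 : relsRange mdata bases 277 157613 = true := relsRange_strict mdata bases 277 157613 (by decide +kernel)
theorem rel570 : relsRange mdata bases 277 157890 = true := relsRange_strict mdata bases 277 157890 (by decide +kernel)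
theorem rel571 : relsRange mdata bases 277 158167 = true := relsRange_strict mdata bases 277 158167 (by decide +kernel)
theorem rel572 : relsRange mdata bases 277 158444 = true := relsRange_strict mdata bases 277 158444 (by decide +kernel)
theorem rel573 : relsRange mdata bases 277 158721 = true := relsRange_strict mdata bases 277 158721 (by decide +kernel)
theorem rel574 : relsRange mdata bases 277 158998 = true := relsRange_strict mdata bases 277 158998 (by decide +kernel)
theorem rel575 : relsRange mdata bases 277 159275 = true := relsRange_strict mdata bases 277 159275 (by decide +kernel)

end Cfsg.Agent.Helper4.TC.HeC2B
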