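import Cfsg.Agent.Lib.Helper4.TC.HeC2BModel
import Cfsg.Agent.Lib.Helper4.TC.HeC2BData
import Cfsg.Agent.Lib.Helper4.TC.Strict

set_option autoImplicit false
set_option maxRecDepth 100000
set_option linter.unusedVariables false
set_option Elab.async false

namespace Cfsg.Agent.Helper4.TC.HeC2B

open Cfsg.Agent.Helper4.TC

theorem rel584 : relsRange mdata bases 277 161768 = true := relsRange_strict mdata bases 277 161768 (by decide +kernel)
theorem rel585 : relsRange mdata bases 277 162045 = true := relsRange_strict mdata bases 277 162045 (by decide +kernel)
theorem rel586 : relsRange mdata bases 277 162322 = true := relsRange_strict mdata bases 277 162322 (by decide +kernel)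
theorem rel587 : relsRange mdata bases 277 162599 = true := relsRange_strict mdata bases 277 162599 (by decide +kernel)
theorem rel588 : relsRange mdata bases 277 162876 = true := relsRange_strict mdata bases 277 162876 (by decide +kernel)
theorem rel589 : relsRange mdata bases 277 163153 = true := relsRange_strict mdata bases 277 163153 (by decide +kernel)
theorem rel590 : relsRange mdata bases 277 163430 = true := relsRange_strict mdata bases 277 163430 (by decide +kernel)
theorem rel591 : relsRange mdata bases 277 163707 = true := relsRange_strict mdata bases 277 163707 (by decide +kernel)

end Cfsg.Agent.Helper4.TC.HeC2B
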