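import Cfsg.Agent.Lib.Helper4.TC.HeC2BModel
import Cfsg.Agent.Lib.Helper4.TC.HeC2BData
import Cfsg.Agent.Lib.Helper4.TC.Strict

set_option autoImplicit false
set_option maxRecDepth 100000
set_option linter.unusedVariables false
set_option Elab.async false

namespace Cfsg.Agent.Helper4.TC.HeC2B

open Cfsg.Agent.Helper4.TC

theorem rel592 : relsRange mdata bases 277 163984 = true := relsRange_strict mdata bases 277 163984 (by decide +kernel)
theorem rel593 : relsRange mdata bases 277 164261 = true := relsRange_strict mdata bases 277 164261 (by decide +kernel)
theorem rel594 : relsRange mdata bases 277 164538 = true := relsRange_strict mdata bases 277 164538 (by decide +kernel)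
theorem rel595 : relsRange mdata bases 277 164815 = true := relsRange_strict mdata bases 277 164815 (by decide +kernel)
theorem rel596 : relsRange mdata bases 277 165092 = true := relsRange_strict mdata bases 277 165092 (by decide +kernel)
theorem rel597 : relsRange mdata bases 277 165369 = true := relsRange_strict mdata bases 277 165369 (by decide +kernel)
theorem rel598 : relsRange mdata bases 277 165646 = true := relsRange_strict mdata bases 277 165646 (by decide +kernel)
theorem rel599 : relsRange mdata bases 277 165923 = true := relsRange_strict mdata bases 277 165923 (by decide +kernel)

end Cfsg.Agent.Helper4.TC.HeC2B
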