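import Cfsg.Agent.Lib.Helper4.TC.HeC2BModel
import Cfsg.Agent.Lib.Helper4.TC.HeC2BData
import Cfsg.Agent.Lib.Helper4.TC.Strict

set_option autoImplicit false
set_option maxRecDepth 100000
set_option linter.unusedVariables false
set_option Elab.async false

namespace Cfsg.Agent.Helper4.TC.HeC2B

open Cfsg.Agent.Helper4.TC

theorem rel600 : relsRange mdata bases 277 166200 = true := relsRange_strict mdata bases 277 166200 (by decide +kernel)
theorem rel601 : relsRange mdata bases 277 166477 = true := relsRange_strict mdata bases 277 166477 (by decide +kernel)
theorem rel602 : relsRange mdata bases 277 166754 = true := relsRange_strict mdata bases 277 166754 (by decide +kernel)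
theorem rel603 : relsRange mdata bases 277 167031 = true := relsRange_strict mdata bases 277 167031 (by decide +kernel)
theorem rel604 : relsRange mdata bases 277 167308 = true := relsRange_strict mdata bases 277 167308 (by decide +kernel)
theorem rel605 : relsRange mdata bases 277 167585 = true := relsRange_strict mdata bases 277 167585 (by decide +kernel)
theorem rel606 : relsRange mdata bases 277 167862 = true := relsRange_strict mdata bases 277 167862 (by decide +kernel)
theorem rel607 : relsRange mdata bases 277 168139 = true := relsRange_strict mdata bases 277 168139 (by decide +kernel)

end Cfsg.Agent.Helper4.TC.HeC2B
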