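import Cfsg.Agent.Lib.Helper4.TC.HeC2BModel
import Cfsg.Agent.Lib.Helper4.TC.HeC2BData
import Cfsg.Agent.Lib.Helper4.TC.Strict

set_option autoImplicit false
set_option maxRecDepth 100000
set_option linter.unusedVariables false
set_option Elab.async false

namespace Cfsg.Agent.Helper4.TC.HeC2B

open Cfsg.Agent.Helper4.TC

theorem rel608 : relsRange mdata bases 277 168416 = true := relsRange_strict mdata bases 277 168416 (by decide +kernel)
theorem rel609 : relsRange mdata bases 277 168693 = true := relsRange_strict mdata bases 277 168693 (by decide +kernel)
theorem rel610 : relsRange mdata bases 277 168970 = true := relsRange_strict mdata bases 277 168970 (by decide +kernel)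
theorem rel611 : relsRange mdata bases 277 169247 = true := relsRange_strict mdata bases 277 169247 (by decide +kernel)
theorem rel612 : relsRange mdata bases 277 169524 = true := relsRange_strict mdata bases 277 169524 (by decide +kernel)
theorem rel613 : relsRange mdata bases 277 169801 = true := relsRange_strict mdata bases 277 169801 (by decide +kernel)
theorem rel614 : relsRange mdata bases 277 170078 = true := relsRange_strict mdata bases 277 170078 (by decide +kernel)
theorem rel615 : relsRange mdata bases 277 170355 = true := relsRange_strict mdata bases 277 170355 (by decide +kernel)

end Cfsg.Agent.Helper4.TC.HeC2B
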