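import Cfsg.Agent.Lib.Helper4.TC.HeC2BModel
import Cfsg.Agent.Lib.Helper4.TC.HeC2BData
import Cfsg.Agent.Lib.Helper4.TC.Strict

set_option autoImplicit false
set_option maxRecDepth 100000
set_option linter.unusedVariables false
set_option Elab.async false

namespace Cfsg.Agent.Helper4.TC.HeC2B

open Cfsg.Agent.Helper4.TC

theorem rel616 : relsRange mdata bases 277 170632 = true := relsRange_strict mdata bases 277 170632 (by decide +kernel)
theorem rel617 : relsRange mdata bases 277 170909 = true := relsRange_strict mdata bases 277 170909 (by decide +kernel)
theorem rel618 : relsRange mdata bases 277 171186 = true := relsRange_strict mdata bases 277 171186 (by decide +kernel)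
theorem rel619 : relsRange mdata bases 277 171463 = true := relsRange_strict mdata bases 277 171463 (by decide +kernel)
theorem rel620 : relsRange mdata bases 277 171740 = true := relsRange_strict mdata bases 277 171740 (by decide +kernel)
theorem rel621 : relsRange mdata bases 277 172017 = true := relsRange_strict mdata bases 277 172017 (by decide +kernel)
theorem rel622 : relsRange mdata bases 277 172294 = true := relsRange_strict mdata bases 277 172294 (by decide +kernel)
theorem rel623 : relsRange mdata bases 277 172571 = true := relsRange_strict mdata bases 277 172571 (by decide +kernel)

end Cfsg.Agent.Helper4.TC.HeC2B
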