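import Cfsg.Agent.Lib.Helper4.TC.HeC2BModel
import Cfsg.Agent.Lib.Helper4.TC.HeC2BData
import Cfsg.Agent.Lib.Helper4.TC.Strict

set_option autoImplicit false
set_option maxRecDepth 100000
set_option linter.unusedVariables false
set_option Elab.async false

namespace Cfsg.Agent.Helper4.TC.HeC2B

open Cfsg.Agent.Helper4.TC

theorem rel624 : relsRange mdata bases 277 172848 = true := relsRange_strict mdata bases 277 172848 (by decide +kernel)
theorem rel625 : relsRange mdata bases 277 173125 = true := relsRange_strict mdata bases 277 173125 (by decide +kernel)
theorem rel626 : relsRange mdata bases 277 173402 = true := relsRange_strict mdata bases 277 173402 (by decide +kernel)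
theorem rel627 : relsRange mdata bases 277 173679 = true := relsRange_strict mdata bases 277 173679 (by decide +kernel)
theorem rel628 : relsRange mdata bases 277 173956 = true := relsRange_strict mdata bases 277 173956 (by decide +kernel)
theorem rel629 : relsRange mdata bases 277 174233 = true := relsRange_strict mdata bases 277 174233 (by decide +kernel)
theorem rel630 : relsRange mdata bases 277 174510 = true := relsRange_strict mdata bases 277 174510 (by decide +kernel)
theorem rel631 : relsRange mdata bases 277 174787 = true := relsRange_strict mdata bases 277 174787 (by decide +kernel)

end Cfsg.Agent.Helper4.TC.HeC2B
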