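import Cfsg.Agent.Lib.Helper4.TC.HeC2BModel
import Cfsg.Agent.Lib.Helper4.TC.HeC2BData
import Cfsg.Agent.Lib.Helper4.TC.Strict

set_option autoImplicit false
set_option maxRecDepth 100000
set_option linter.unusedVariables false
set_option Elab.async false

namespace Cfsg.Agent.Helper4.TC.HeC2B

open Cfsg.Agent.Helper4.TC

theorem rel632 : relsRange mdata bases 277 175064 = true := relsRange_strict mdata bases 277 175064 (by decide +kernel)
theorem rel633 : relsRange mdata bases 277 175341 = true := relsRange_strict mdata bases 277 175341 (by decide +kernel)
theorem rel634 : relsRange mdata bases 277 175618 = true := relsRange_strict mdata bases 277 175618 (by decide +kernel)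
theorem rel635 : relsRange mdata bases 277 175895 = true := relsRange_strict mdata bases 277 175895 (by decide +kernel)
theorem rel636 : relsRange mdata bases 277 176172 = true := relsRange_strict mdata bases 277 176172 (by decide +kernel)
theorem rel637 : relsRange mdata bases 277 176449 = true := relsRange_strict mdata bases 277 176449 (by decide +kernel)
theorem rel638 : relsRange mdata bases 277 176726 = true := relsRange_strict mdata bases 277 176726 (by decide +kernel)
theorem rel639 : relsRange mdata bases 277 177003 = true := relsRange_strict mdata bases 277 177003 (by decide +kernel)

end Cfsg.Agent.Helper4.TC.HeC2B
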