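import Cfsg.Agent.Lib.Helper4.TC.HeC2BModel
import Cfsg.Agent.Lib.Helper4.TC.HeC2BData
import Cfsg.Agent.Lib.Helper4.TC.Strict

set_option autoImplicit false
set_option maxRecDepth 100000
set_option linter.unusedVariables false
set_option Elab.async false

namespace Cfsg.Agent.Helper4.TC.HeC2B

open Cfsg.Agent.Helper4.TC

theorem rel64 : relsRange mdata bases 277 17728 = true := relsRange_strict mdata bases 277 17728 (by decide +kernel)
theorem rel65 : relsRange mdata bases 277 18005 = true := relsRange_strict mdata bases 277 18005 (by decide +kernel)
theorem rel66 : relsRange mdata bases 277 18282 = true := relsRange_strict mdata bases 277 18282 (by decide +kernel)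
theorem rel67 : relsRange mdata bases 277 18559 = true := relsRange_strict mdata bases 277 18559 (by decide +kernel)
theorem rel68 : relsRange mdata bases 277 18836 = true := relsRange_strict mdata bases 277 18836 (by decide +kernel)
theorem rel69 : relsRange mdata bases 277 19113 = true := relsRange_strict mdata bases 277 19113 (by decide +kernel)
theorem rel70 : relsRange mdata bases 277 19390 = true := relsRange_strict mdata bases 277 19390 (by decide +kernel)
theorem rel71 : relsRange mdata bases 277 19667 = true := relsRange_strict mdata bases 277 19667 (by decide +kernel)

end Cfsg.Agent.Helper4.TC.HeC2B
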