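import Cfsg.Agent.Lib.Helper4.TC.HeC2BModel
import Cfsg.Agent.Lib.Helper4.TC.HeC2BData
import Cfsg.Agent.Lib.Helper4.TC.Strict

set_option autoImplicit false
set_option maxRecDepth 100000
set_option linter.unusedVariables false
set_option Elab.async false

namespace Cfsg.Agent.Helper4.TC.HeC2B

open Cfsg.Agent.Helper4.TC

theorem rel640 : relsRange mdata bases 277 177280 = true := relsRange_strict mdata bases 277 177280 (by decide +kernel)
theorem rel641 : relsRange mdata bases 277 177557 = true := relsRange_strict mdata bases 277 177557 (by decide +kernel)
theorem rel642 : relsRange mdata bases 277 177834 = true := relsRange_strict mdata bases 277 177834 (by decide +kernel)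
theorem rel643 : relsRange mdata bases 277 178111 = true := relsRange_strict mdata bases 277 178111 (by decide +kernel)
theorem rel644 : relsRange mdata bases 277 178388 = true := relsRange_strict mdata bases 277 178388 (by decide +kernel)
theorem rel645 : relsRange mdata bases 277 178665 = true := relsRange_strict mdata bases 277 178665 (by decide +kernel)
theorem rel646 : relsRange mdata bases 277 178942 = true := relsRange_strict mdata bases 277 178942 (by decide +kernel)
theorem rel647 : relsRange mdata bases 277 179219 = true := relsRange_strict mdata bases 277 179219 (by decide +kernel)

end Cfsg.Agent.Helper4.TC.HeC2B
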