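import Cfsg.Agent.Lib.Helper4.TC.HeC2BModel
import Cfsg.Agent.Lib.Helper4.TC.HeC2BData
import Cfsg.Agent.Lib.Helper4.TC.Strict

set_option autoImplicit false
set_option maxRecDepth 100000
set_option linter.unusedVariables false
set_option Elab.async false

namespace Cfsg.Agent.Helper4.TC.HeC2B

open Cfsg.Agent.Helper4.TC

theorem rel648 : relsRange mdata bases 277 179496 = true := relsRange_strict mdata bases 277 179496 (by decide +kernel)
theorem rel649 : relsRange mdata bases 277 179773 = true := relsRange_strict mdata bases 277 179773 (by decide +kernel)
theorem rel650 : relsRange mdata bases 277 180050 = true := relsRange_strict mdata bases 277 180050 (by decide +kernel)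
theorem rel651 : relsRange mdata bases 277 180327 = true := relsRange_strict mdata bases 277 180327 (by decide +kernel)
theorem rel652 : relsRange mdata bases 277 180604 = true := relsRange_strict mdata bases 277 180604 (by decide +kernel)
theorem rel653 : relsRange mdata bases 277 180881 = true := relsRange_strict mdata bases 277 180881 (by decide +kernel)
theorem rel654 : relsRange mdata bases 277 181158 = true := relsRange_strict mdata bases 277 181158 (by decide +kernel)
theorem rel655 : relsRange mdata bases 277 181435 = true := relsRange_strict mdata bases 277 181435 (by decide +kernel)

end Cfsg.Agent.Helper4.TC.HeC2B
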