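import Cfsg.Agent.Lib.Helper4.TC.HeC2BModel
import Cfsg.Agent.Lib.Helper4.TC.HeC2BData
import Cfsg.Agent.Lib.Helper4.TC.Strict

set_option autoImplicit false
set_option maxRecDepth 100000
set_option linter.unusedVariables false
set_option Elab.async false

namespace Cfsg.Agent.Helper4.TC.HeC2B

open Cfsg.Agent.Helper4.TC

theorem rel656 : relsRange mdata bases 277 181712 = true := relsRange_strict mdata bases 277 181712 (by decide +kernel)
theorem rel657 : relsRange mdata bases 277 181989 = true := relsRange_strict mdata bases 277 181989 (by decide +kernel)
theorem rel658 : relsRange mdata bases 277 182266 = true := relsRange_strict mdata bases 277 182266 (by decide +kernel)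
theorem rel659 : relsRange mdata bases 277 182543 = true := relsRange_strict mdata bases 277 182543 (by decide +kernel)
theorem rel660 : relsRange mdata bases 277 182820 = true := relsRange_strict mdata bases 277 182820 (by decide +kernel)
theorem rel661 : relsRange mdata bases 277 183097 = true := relsRange_strict mdata bases 277 183097 (by decide +kernel)
theorem rel662 : relsRange mdata bases 277 183374 = true := relsRange_strict mdata bases 277 183374 (by decide +kernel)
theorem rel663 : relsRange mdata bases 277 183651 = true := relsRange_strict mdata bases 277 183651 (by decide +kernel)

end Cfsg.Agent.Helper4.TC.HeC2B
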