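import Cfsg.Agent.Lib.Helper4.TC.HeC2BModel
import Cfsg.Agent.Lib.Helper4.TC.HeC2BData
import Cfsg.Agent.Lib.Helper4.TC.Strict

set_option autoImplicit false
set_option maxRecDepth 100000
set_option linter.unusedVariables false
set_option Elab.async false

namespace Cfsg.Agent.Helper4.TC.HeC2B

open Cfsg.Agent.Helper4.TC

theorem rel664 : relsRange mdata bases 277 183928 = true := relsRange_strict mdata bases 277 183928 (by decide +kernel)
theorem rel665 : relsRange mdata bases 277 184205 = true := relsRange_strict mdata bases 277 184205 (by decide +kernel)
theorem rel666 : relsRange mdata bases 277 184482 = true := relsRange_strict mdata bases 277 184482 (by decide +kernel)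
theorem rel667 : relsRange mdata bases 277 184759 = true := relsRange_strict mdata bases 277 184759 (by decide +kernel)
theorem rel668 : relsRange mdata bases 277 185036 = true := relsRange_strict mdata bases 277 185036 (by decide +kernel)
theorem rel669 : relsRange mdata bases 277 185313 = true := relsRange_strict mdata bases 277 185313 (by decide +kernel)
theorem rel670 : relsRange mdata bases 277 185590 = true := relsRange_strict mdata bases 277 185590 (by decide +kernel)
theorem rel671 : relsRange mdata bases 277 185867 = true := relsRange_strict mdata bases 277 185867 (by decide +kernel)

end Cfsg.Agent.Helper4.TC.HeC2B
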