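import Cfsg.Agent.Lib.Helper4.TC.HeC2BModel
import Cfsg.Agent.Lib.Helper4.TC.HeC2BData
import Cfsg.Agent.Lib.Helper4.TC.Strict

set_option autoImplicit false
set_option maxRecDepth 100000
set_option linter.unusedVariables false
set_option Elab.async false

namespace Cfsg.Agent.Helper4.TC.HeC2B

open Cfsg.Agent.Helper4.TC

theorem rel672 : relsRange mdata bases 277 186144 = true := relsRange_strict mdata bases 277 186144 (by decide +kernel)
theorem rel673 : relsRange mdata bases 277 186421 = true := relsRange_strict mdata bases 277 186421 (by decide +kernel)
theorem rel674 : relsRange mdata bases 277 186698 = true := relsRange_strict mdata bases 277 186698 (by decide +kernel)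
theorem rel675 : relsRange mdata bases 277 186975 = true := relsRange_strict mdata bases 277 186975 (by decide +kernel)
theorem rel676 : relsRange mdata bases 173 187252 = true := relsRange_strict mdata bases 173 187252 (by decide +kernel)
theorem inv0 : invRange mdata 1904 0 = true := invRange_strict mdata 1904 0 (by decide +kernel)
theorem inv1 : invRange mdata 1904 1904 = true := invRange_strict mdata 1904 1904 (by decide +kernel)
theorem inv2 : invRange mdata 1904 3808 = true := invRange_strict mdata 1904 3808 (by decide +kernel)

end Cfsg.Agent.Helper4.TC.HeC2B
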