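import Cfsg.Agent.Lib.Helper4.TC.HeC2BModel
import Cfsg.Agent.Lib.Helper4.TC.HeC2BData
import Cfsg.Agent.Lib.Helper4.TC.Strict

set_option autoImplicit false
set_option maxRecDepth 100000
set_option linter.unusedVariables false
set_option Elab.async false

namespace Cfsg.Agent.Helper4.TC.HeC2B

open Cfsg.Agent.Helper4.TC

theorem inv3 : invRange mdata 1904 5712 = true := invRange_strict mdata 1904 5712 (by decide +kernel)
theorem inv4 : invRange mdata 1904 7616 = true := invRange_strict mdata 1904 7616 (by decide +kernel)
theorem inv5 : invRange mdata 1904 9520 = true := invRange_strict mdata 1904 9520 (by decide +kernel)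
theorem inv6 : invRange mdata 1904 11424 = true := invRange_strict mdata 1904 11424 (by decide +kernel)
theorem inv7 : invRange mdata 1904 13328 = true := invRange_strict mdata 1904 13328 (by decide +kernel)
theorem inv8 : invRange mdata 1904 15232 = true := invRange_strict mdata 1904 15232 (by decide +kernel)
theorem inv9 : invRange mdata 1904 17136 = true := invRange_strict mdata 1904 17136 (by decide +kernel)
theorem inv10 : invRange mdata 1904 19040 = true := invRange_strict mdata 1904 19040 (by decide +kernel)

end Cfsg.Agent.Helper4.TC.HeC2B
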