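import Cfsg.Agent.Lib.Helper4.TC.HeC2BModel
import Cfsg.Agent.Lib.Helper4.TC.HeC2BData
import Cfsg.Agent.Lib.Helper4.TC.Strict

set_option autoImplicit false
set_option maxRecDepth 100000
set_option linter.unusedVariables false
set_option Elab.async false

namespace Cfsg.Agent.Helper4.TC.HeC2B

open Cfsg.Agent.Helper4.TC

theorem inv11 : invRange mdata 1904 20944 = true := invRange_strict mdata 1904 20944 (by decide +kernel)
theorem inv12 : invRange mdata 1904 22848 = true := invRange_strict mdata 1904 22848 (by decide +kernel)
theorem inv13 : invRange mdata 1904 24752 = true := invRange_strict mdata 1904 24752 (by decide +kernel)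
theorem inv14 : invRange mdata 1904 26656 = true := invRange_strict mdata 1904 26656 (by decide +kernel)
theorem inv15 : invRange mdata 1904 28560 = true := invRange_strict mdata 1904 28560 (by decide +kernel)
theorem inv16 : invRange mdata 1904 30464 = true := invRange_strict mdata 1904 30464 (by decide +kernel)
theorem inv17 : invRange mdata 1904 32368 = true := invRange_strict mdata 1904 32368 (by decide +kernel)
theorem inv18 : invRange mdata 1904 34272 = true := invRange_strict mdata 1904 34272 (by decide +kernel)

end Cfsg.Agent.Helper4.TC.HeC2B
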