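import Cfsg.Agent.Lib.Helper4.TC.HeC2BModel
import Cfsg.Agent.Lib.Helper4.TC.HeC2BData
import Cfsg.Agent.Lib.Helper4.TC.Strict

set_option autoImplicit false
set_option maxRecDepth 100000
set_option linter.unusedVariables false
set_option Elab.async false

namespace Cfsg.Agent.Helper4.TC.HeC2B

open Cfsg.Agent.Helper4.TC

theorem rel72 : relsRange mdata bases 277 19944 = true := relsRange_strict mdata bases 277 19944 (by decide +kernel)
theorem rel73 : relsRange mdata bases 277 20221 = true := relsRange_strict mdata bases 277 20221 (by decide +kernel)
theorem rel74 : relsRange mdata bases 277 20498 = true := relsRange_strict mdata bases 277 20498 (by decide +kernel)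
theorem rel75 : relsRange mdata bases 277 20775 = true := relsRange_strict mdata bases 277 20775 (by decide +kernel)
theorem rel76 : relsRange mdata bases 277 21052 = true := relsRange_strict mdata bases 277 21052 (by decide +kernel)
theorem rel77 : relsRange mdata bases 277 21329 = true := relsRange_strict mdata bases 277 21329 (by decide +kernel)
theorem rel78 : relsRange mdata bases 277 21606 = true := relsRange_strict mdata bases 277 21606 (by decide +kernel)
theorem rel79 : relsRange mdata bases 277 21883 = true := relsRange_strict mdata bases 277 21883 (by decide +kernel)

end Cfsg.Agent.Helper4.TC.HeC2B
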