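import Cfsg.Agent.Lib.Helper4.TC.HeC2BModel
import Cfsg.Agent.Lib.Helper4.TC.HeC2BData
import Cfsg.Agent.Lib.Helper4.TC.Strict

set_option autoImplicit false
set_option maxRecDepth 100000
set_option linter.unusedVariables false
set_option Elab.async false

namespace Cfsg.Agent.Helper4.TC.HeC2B

open Cfsg.Agent.Helper4.TC

theorem inv59 : invRange mdata 1904 112336 = true := invRange_strict mdata 1904 112336 (by decide +kernel)
theorem inv60 : invRange mdata 1904 114240 = true := invRange_strict mdata 1904 114240 (by decide +kernel)
theorem inv61 : invRange mdata 1904 116144 = true := invRange_strict mdata 1904 116144 (by decide +kernel)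
theorem inv62 : invRange mdata 1904 118048 = true := invRange_strict mdata 1904 118048 (by decide +kernel)
theorem inv63 : invRange mdata 1904 119952 = true := invRange_strict mdata 1904 119952 (by decide +kernel)
theorem inv64 : invRange mdata 1904 121856 = true := invRange_strict mdata 1904 121856 (by decide +kernel)
theorem inv65 : invRange mdata 1904 123760 = true := invRange_strict mdata 1904 123760 (by decide +kernel)
theorem inv66 : invRange mdata 1904 125664 = true := invRange_strict mdata 1904 125664 (by decide +kernel)

end Cfsg.Agent.Helper4.TC.HeC2B
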