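import Cfsg.Agent.Lib.Helper4.TC.HeC2BModel
import Cfsg.Agent.Lib.Helper4.TC.HeC2BData
import Cfsg.Agent.Lib.Helper4.TC.Strict

set_option autoImplicit false
set_option maxRecDepth 100000
set_option linter.unusedVariables false
set_option Elab.async false

namespace Cfsg.Agent.Helper4.TC.HeC2B

open Cfsg.Agent.Helper4.TC

theorem inv67 : invRange mdata 1904 127568 = true := invRange_strict mdata 1904 127568 (by decide +kernel)
theorem inv68 : invRange mdata 1904 129472 = true := invRange_strict mdata 1904 129472 (by decide +kernel)
theorem inv69 : invRange mdata 1904 131376 = true := invRange_strict mdata 1904 131376 (by decide +kernel)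
theorem inv70 : invRange mdata 1904 133280 = true := invRange_strict mdata 1904 133280 (by decide +kernel)
theorem inv71 : invRange mdata 1904 135184 = true := invRange_strict mdata 1904 135184 (by decide +kernel)
theorem inv72 : invRange mdata 1904 137088 = true := invRange_strict mdata 1904 137088 (by decide +kernel)
theorem inv73 : invRange mdata 1904 138992 = true := invRange_strict mdata 1904 138992 (by decide +kernel)
theorem inv74 : invRange mdata 1904 140896 = true := invRange_strict mdata 1904 140896 (by decide +kernel)

end Cfsg.Agent.Helper4.TC.HeC2B
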