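import Cfsg.Agent.Lib.Helper4.TC.HeC2BModel
import Cfsg.Agent.Lib.Helper4.TC.HeC2BData
import Cfsg.Agent.Lib.Helper4.TC.Strict

set_option autoImplicit false
set_option maxRecDepth 100000
set_option linter.unusedVariables false
set_option Elab.async false

namespace Cfsg.Agent.Helper4.TC.HeC2B

open Cfsg.Agent.Helper4.TC

theorem inv75 : invRange mdata 1904 142800 = true := invRange_strict mdata 1904 142800 (by decide +kernel)
theorem inv76 : invRange mdata 1904 144704 = true := invRange_strict mdata 1904 144704 (by decide +kernel)
theorem inv77 : invRange mdata 1904 146608 = true := invRange_strict mdata 1904 146608 (by decide +kernel)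
theorem inv78 : invRange mdata 1904 148512 = true := invRange_strict mdata 1904 148512 (by decide +kernel)
theorem inv79 : invRange mdata 1904 150416 = true := invRange_strict mdata 1904 150416 (by decide +kernel)
theorem inv80 : invRange mdata 1904 152320 = true := invRange_strict mdata 1904 152320 (by decide +kernel)
theorem inv81 : invRange mdata 1904 154224 = true := invRange_strict mdata 1904 154224 (by decide +kernel)
theorem inv82 : invRange mdata 1904 156128 = true := invRange_strict mdata 1904 156128 (by decide +kernel)

end Cfsg.Agent.Helper4.TC.HeC2B
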