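import Cfsg.Agent.Lib.Helper4.TC.HeC2BModel
import Cfsg.Agent.Lib.Helper4.TC.HeC2BData
import Cfsg.Agent.Lib.Helper4.TC.Strict

set_option autoImplicit false
set_option maxRecDepth 100000
set_option linter.unusedVariables false
set_option Elab.async false

namespace Cfsg.Agent.Helper4.TC.HeC2B

open Cfsg.Agent.Helper4.TC

theorem inv83 : invRange mdata 1904 158032 = true := invRange_strict mdata 1904 158032 (by decide +kernel)
theorem inv84 : invRange mdata 1904 159936 = true := invRange_strict mdata 1904 159936 (by decide +kernel)
theorem inv85 : invRange mdata 1904 161840 = true := invRange_strict mdata 1904 161840 (by decide +kernel)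
theorem inv86 : invRange mdata 1904 163744 = true := invRange_strict mdata 1904 163744 (by decide +kernel)
theorem inv87 : invRange mdata 1904 165648 = true := invRange_strict mdata 1904 165648 (by decide +kernel)
theorem inv88 : invRange mdata 1904 167552 = true := invRange_strict mdata 1904 167552 (by decide +kernel)
theorem inv89 : invRange mdata 1904 169456 = true := invRange_strict mdata 1904 169456 (by decide +kernel)
theorem inv90 : invRange mdata 1904 171360 = true := invRange_strict mdata 1904 171360 (by decide +kernel)

end Cfsg.Agent.Helper4.TC.HeC2B
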