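import Cfsg.Agent.Lib.Helper4.TC.HeC2BModel
import Cfsg.Agent.Lib.Helper4.TC.HeC2BData
import Cfsg.Agent.Lib.Helper4.TC.Strict

set_option autoImplicit false
set_option maxRecDepth 100000
set_option linter.unusedVariables false
set_option Elab.async false

namespace Cfsg.Agent.Helper4.TC.HeC2B

open Cfsg.Agent.Helper4.TC

theorem inv91 : invRange mdata 1904 173264 = true := invRange_strict mdata 1904 173264 (by decide +kernel)
theorem inv92 : invRange mdata 1904 175168 = true := invRange_strict mdata 1904 175168 (by decide +kernel)
theorem inv93 : invRange mdata 1904 177072 = true := invRange_strict mdata 1904 177072 (by decide +kernel)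
theorem inv94 : invRange mdata 1904 178976 = true := invRange_strict mdata 1904 178976 (by decide +kernel)
theorem inv95 : invRange mdata 1904 180880 = true := invRange_strict mdata 1904 180880 (by decide +kernel)
theorem inv96 : invRange mdata 1904 182784 = true := invRange_strict mdata 1904 182784 (by decide +kernel)
theorem inv97 : invRange mdata 1904 184688 = true := invRange_strict mdata 1904 184688 (by decide +kernel)
theorem inv98 : invRange mdata 833 186592 = true := invRange_strict mdata 833 186592 (by decide +kernel)

end Cfsg.Agent.Helper4.TC.HeC2B
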