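import Cfsg.Agent.Lib.Helper4.TC.HeC2BModel
import Cfsg.Agent.Lib.Helper4.TC.HeC2BData
import Cfsg.Agent.Lib.Helper4.TC.Strict

set_option autoImplicit false
set_option maxRecDepth 100000
set_option linter.unusedVariables false
set_option Elab.async false

namespace Cfsg.Agent.Helper4.TC.HeC2B

open Cfsg.Agent.Helper4.TC

theorem tree8 : treeRange mdata 13333 106665 = true := treeRange_strict mdata 13333 106665 (by decide +kernel)
theorem tree9 : treeRange mdata 13333 119998 = true := treeRange_strict mdata 13333 119998 (by decide +kernel)
theorem tree10 : treeRange mdata 13333 133331 = true := treeRange_strict mdata 13333 133331 (by decide +kernel)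
theorem tree11 : treeRange mdata 13333 146664 = true := treeRange_strict mdata 13333 146664 (by decide +kernel)
theorem tree12 : treeRange mdata 13333 159997 = true := treeRange_strict mdata 13333 159997 (by decide +kernel)
theorem tree13 : treeRange mdata 13333 173330 = true := treeRange_strict mdata 13333 173330 (by decide +kernel)
theorem tree14 : treeRange mdata 762 186663 = true := treeRange_strict mdata 762 186663 (by decide +kernel)
theorem closed1_0 : closedRange mdata subsL 1 897 896 1 = true := closedRange_strict mdata subsL 1 897 896 1 (by decide +kernel)

end Cfsg.Agent.Helper4.TC.HeC2B
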