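import Cfsg.Agent.Lib.Helper4.TC.HeC2BModel
import Cfsg.Agent.Lib.Helper4.TC.HeC2BData
import Cfsg.Agent.Lib.Helper4.TC.Strict

set_option autoImplicit false
set_option maxRecDepth 100000
set_option linter.unusedVariables false
set_option Elab.async false

namespace Cfsg.Agent.Helper4.TC.HeC2B

open Cfsg.Agent.Helper4.TC

theorem reach1_0 : reachRange mdata subsL 1 895 2 = true := reachRange_strict mdata subsL 1 895 2 (by decide +kernel)
theorem closed2_0 : closedRange mdata subsL 897 6273 3333 897 = true := closedRange_strict mdata subsL 897 6273 3333 897 (by decide +kernel)
theorem closed2_1 : closedRange mdata subsL 897 6273 2043 4230 = true := closedRange_strict mdata subsL 897 6273 2043 4230 (by decide +kernel)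
theorem reach2_0 : reachRange mdata subsL 897 5375 898 = true := reachRange_strict mdata subsL 897 5375 898 (by decide +kernel)
theorem closed3_0 : closedRange mdata subsL 6273 6287 14 6273 = true := closedRange_strict mdata subsL 6273 6287 14 6273 (by decide +kernel)
theorem reach3_0 : reachRange mdata subsL 6273 13 6274 = true := reachRange_strict mdata subsL 6273 13 6274 (by decide +kernel)
theorem closed4_0 : closedRange mdata subsL 6287 6399 112 6287 = true := closedRange_strict mdata subsL 6287 6399 112 6287 (by decide +kernel)
theorem reach4_0 : reachRange mdata subsL 6287 111 6288 = true := reachRange_strict mdata subsL 6287 111 6288 (by decide +kernel)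

end Cfsg.Agent.Helper4.TC.HeC2B
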