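import Cfsg.Agent.Lib.Helper4.TC.Std
import Cfsg.Agent.Lib.Helper4.TC.HeC2BFin
import Cfsg.Agent.Lib.Helper4.TC.HeC2BCM
import Cfsg.Agent.Lib.Helper4.TC.HeC2BCE0
import Cfsg.Agent.Lib.Helper4.TC.HeC2BCE1
import Cfsg.Agent.Lib.Helper4.TC.HeC2BCE2
import Cfsg.Agent.Lib.Helper4.TC.HeC2BCE3
import Cfsg.Agent.Lib.Helper4.TC.HeC2BCE4
import Cfsg.Agent.Lib.Helper4.TC.HeC2BCE5
import Cfsg.Agent.Lib.Helper4.TC.HeC2BCE6
import Cfsg.Agent.Lib.Helper4.TC.HeC2BCE7
import Cfsg.Agent.Lib.Helper4.TC.HeC2BCE8
import Cfsg.Agent.Lib.Helper4.TC.HeC2BCE9
import Cfsg.Agent.Lib.Helper4.TC.HeC2BCE10
import Cfsg.Agent.Lib.Helper4.TC.HeC2BCE11
import Cfsg.Agent.Lib.Helper4.TC.HeC2BCE12
import Cfsg.Agent.Lib.Helper4.TC.HeC2BCE13
import Cfsg.Agent.Lib.Helper4.TC.HeC2BCF0
import Cfsg.Agent.Lib.Helper4.TC.HeC2BCF1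
import Cfsg.Agent.Lib.Helper4.TC.HeC2BCF2
import Cfsg.Agent.Lib.Helper4.TC.HeC2BCF3
import Cfsg.Agent.Lib.Helper4.TC.HeC2BCF4
import Cfsg.Agent.Lib.Helper4.TC.HeC2BCF5
import Cfsg.Agent.Lib.Helper4.TC.HeC2BCF6
import Cfsg.Agent.Lib.Helper4.TC.HeC2BCF7
import Cfsg.Agent.Lib.Helper4.TC.HeC2BCF8
import Cfsg.Agent.Lib.Helper4.TC.HeC2BCF9
import Cfsg.Agent.Lib.Helper4.TC.HeC2BCF10
import Cfsg.Agent.Lib.Helper4.TC.HeC2BCF11
import Cfsg.Agent.Lib.Helper4.TC.HeC2BCF12
import Cfsg.Agent.Lib.Helper4.TC.HeC2BCF13
import Cfsg.Agent.Lib.Helper4.TC.HeC2BCF14
import Cfsg.Agent.Lib.Helper4.TC.HeC2BCF15
import Cfsg.Agent.Lib.Helper4.TC.HeC2BCF16
import Cfsg.Agent.Lib.Helper4.TC.HeC2BCF17
import Cfsg.Agent.Lib.Helper4.TC.HeC2BCF18
import Cfsg.Agent.Lib.Helper4.TC.HeC2BCF19
import Cfsg.Agent.Lib.Helper4.TC.HeC2BCF20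
import Cfsg.Agent.Lib.Helper4.TC.HeC2BMC0
import Cfsg.Agent.Lib.Helper4.TC.HeC2BMC1
import Cfsg.Agent.Lib.Helper4.TC.HeC2BMC2
import Cfsg.Agent.Lib.Helper4.TC.HeC2BMC3
import Cfsg.Agent.Lib.Helper4.TC.HeC2BMC4
import Cfsg.Agent.Lib.Helper4.TC.HeC2BMC5
import Cfsg.Agent.Lib.Helper4.TC.HeC2BMC6
import Cfsg.Agent.Lib.Helper4.TC.HeC2BMC7
import Cfsg.Agent.Lib.Helper4.TC.HeC2BMC8
import Cfsg.Agent.Lib.Helper4.TC.HeC2BMC9
import Cfsg.Agent.Lib.Helper4.TC.HeC2BMC10
import Cfsg.Agent.Lib.Helper4.TC.HeC2BMC11
import Cfsg.Agent.Lib.Helper4.TC.HeC2BMC12
import Cfsg.Agent.Lib.Helper4.TC.HeC2BMC13
import Cfsg.Agent.Lib.Helper4.TC.HeC2BMC14
import Cfsg.Agent.Lib.Helper4.TC.HeC2BMC15
import Cfsg.Agent.Lib.Helper4.TC.HeC2BMC16
import Cfsg.Agent.Lib.Helper4.TC.HeC2BMC17
import Cfsg.Agent.Lib.Helper4.TC.HeC2BMC18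
import Cfsg.Agent.Lib.Helper4.TC.HeC2BMC19
import Cfsg.Agent.Lib.Helper4.TC.HeC2BMC20
import Cfsg.Agent.Lib.Helper4.TC.HeC2BMC21
import Cfsg.Agent.Lib.Helper4.TC.HeC2BMC22
import Cfsg.Agent.Lib.Helper4.TC.HeC2BMC23
import Cfsg.Agent.Lib.Helper4.TC.HeC2BMC24
import Cfsg.Agent.Lib.Helper4.TC.HeC2BMC25
import Cfsg.Agent.Lib.Helper4.TC.HeC2BMC26
import Cfsg.Agent.Lib.Helper4.TC.HeC2BMC27
import Cfsg.Agent.Lib.Helper4.TC.HeC2BMC28
import Cfsg.Agent.Lib.Helper4.TC.HeC2BMC29
import Cfsg.Agent.Lib.Helper4.TC.HeC2BMC30
import Cfsg.Agent.Lib.Helper4.TC.HeC2BMC31
import Cfsg.Agent.Lib.Helper4.TC.HeC2BMC32
import Cfsg.Agent.Lib.Helper4.TC.HeC2BMC33
import Cfsg.Agent.Lib.Helper4.TC.HeC2BMC34
import Cfsg.Agent.Lib.Helper4.TC.HeC2BMC35
import Cfsg.Agent.Lib.Helper4.TC.HeC2BMC36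
import Cfsg.Agent.Lib.Helper4.TC.HeC2BMC37
import Cfsg.Agent.Lib.Helper4.TC.HeC2BMC38
import Cfsg.Agent.Lib.Helper4.TC.HeC2BMC39
import Cfsg.Agent.Lib.Helper4.TC.HeC2BMC40
import Cfsg.Agent.Lib.Helper4.TC.HeC2BMC41
import Cfsg.Agent.Lib.Helper4.TC.HeC2BMC42
import Cfsg.Agent.Lib.Helper4.TC.HeC2BMC43
import Cfsg.Agent.Lib.Helper4.TC.HeC2BMC44
import Cfsg.Agent.Lib.Helper4.TC.HeC2BMC45
import Cfsg.Agent.Lib.Helper4.TC.HeC2BMC46
import Cfsg.Agent.Lib.Helper4.TC.HeC2BMC47
import Cfsg.Agent.Lib.Helper4.TC.HeC2BMC48
import Cfsg.Agent.Lib.Helper4.TC.HeC2BMC49
import Cfsg.Agent.Lib.Helper4.TC.HeC2BMC50
import Cfsg.Agent.Lib.Helper4.TC.HeC2BMC51
import Cfsg.Agent.Lib.Helper4.TC.HeC2BMC52
import Cfsg.Agent.Lib.Helper4.TC.HeC2BMC53
import Cfsg.Agent.Lib.Helper4.TC.HeC2BMC54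
import Cfsg.Agent.Lib.Helper4.TC.HeC2BMC55
import Cfsg.Agent.Lib.Helper4.TC.HeC2BMC56
import Cfsg.Agent.Lib.Helper4.TC.HeC2BMC57
import Cfsg.Agent.Lib.Helper4.TC.HeC2BMC58
import Cfsg.Agent.Lib.Helper4.TC.HeC2BMC59
import Cfsg.Agent.Lib.Helper4.TC.HeC2BMC60
import Cfsg.Agent.Lib.Helper4.TC.HeC2BMC61
import Cfsg.Agent.Lib.Helper4.TC.HeC2BMC62
import Cfsg.Agent.Lib.Helper4.TC.HeC2BMC63
import Cfsg.Agent.Lib.Helper4.TC.HeC2BMC64
import Cfsg.Agent.Lib.Helper4.TC.HeC2BMC65
import Cfsg.Agent.Lib.Helper4.TC.HeC2BMC66
import Cfsg.Agent.Lib.Helper4.TC.HeC2BMC67
import Cfsg.Agent.Lib.Helper4.TC.HeC2BMC68
import Cfsg.Agent.Lib.Helper4.TC.HeC2BMC69
import Cfsg.Agent.Lib.Helper4.TC.HeC2BMC70
import Cfsg.Agent.Lib.Helper4.TC.HeC2BMC71
import Cfsg.Agent.Lib.Helper4.TC.HeC2BMC72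
import Cfsg.Agent.Lib.Helper4.TC.HeC2BMC73
import Cfsg.Agent.Lib.Helper4.TC.HeC2BMC74
import Cfsg.Agent.Lib.Helper4.TC.HeC2BMC75
import Cfsg.Agent.Lib.Helper4.TC.HeC2BMC76
import Cfsg.Agent.Lib.Helper4.TC.HeC2BMC77
import Cfsg.Agent.Lib.Helper4.TC.HeC2BMC78
import Cfsg.Agent.Lib.Helper4.TC.HeC2BMC79
import Cfsg.Agent.Lib.Helper4.TC.HeC2BMC80
import Cfsg.Agent.Lib.Helper4.TC.HeC2BMC81
import Cfsg.Agent.Lib.Helper4.TC.HeC2BMC82
import Cfsg.Agent.Lib.Helper4.TC.HeC2BMC83
import Cfsg.Agent.Lib.Helper4.TC.HeC2BMC84
import Cfsg.Agent.Lib.Helper4.TC.HeC2BMC85
import Cfsg.Agent.Lib.Helper4.TC.HeC2BMC86
import Cfsg.Agent.Lib.Helper4.TC.HeC2BMC87
import Cfsg.Agent.Lib.Helper4.TC.HeC2BMC88
import Cfsg.Agent.Lib.Helper4.TC.HeC2BMC89
import Cfsg.Agent.Lib.Helper4.TC.HeC2BMC90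
import Cfsg.Agent.Lib.Helper4.TC.HeC2BMC91
import Cfsg.Agent.Lib.Helper4.TC.HeC2BMC92
import Cfsg.Agent.Lib.Helper4.TC.HeC2BMC93
import Cfsg.Agent.Lib.Helper4.TC.HeC2BMC94
import Cfsg.Agent.Lib.Helper4.TC.HeC2BMC95
import Cfsg.Agent.Lib.Helper4.TC.HeC2BMC96
import Cfsg.Agent.Lib.Helper4.TC.HeC2BMC97
import Cfsg.Agent.Lib.Helper4.TC.HeC2BMC98
import Cfsg.Agent.Lib.Helper4.TC.HeC2BMC99
import Cfsg.Agent.Lib.Helper4.TC.HeC2BMC100
import Cfsg.Agent.Lib.Helper4.TC.HeC2BMC101
import Cfsg.Agent.Lib.Helper4.TC.HeC2BMC102
import Cfsg.Agent.Lib.Helper4.TC.HeC2BMC103
import Cfsg.Agent.Lib.Helper4.TC.HeC2BMC104
import Cfsg.Agent.Lib.Helper4.TC.HeC2BMC105
import Cfsg.Agent.Lib.Helper4.TC.HeC2BMC106
import Cfsg.Agent.Lib.Helper4.TC.HeC2BMC107
import Cfsg.Agent.Lib.Helper4.TC.HeC2BMC108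
import Cfsg.Agent.Lib.Helper4.TC.HeC2BMC109
import Cfsg.Agent.Lib.Helper4.TC.HeC2BMC110
import Cfsg.Agent.Lib.Helper4.TC.HeC2BMC111
import Cfsg.Agent.Lib.Helper4.TC.HeC2BMC112
import Cfsg.Agent.Lib.Helper4.TC.HeC2BMC113
import Cfsg.Agent.Lib.Helper4.TC.HeC2BMC114
import Cfsg.Prelude.Def_Spor_He

set_option autoImplicit false
set_option maxRecDepth 100000
set_option linter.unusedVariables false

namespace Cfsg.Agent.Helper4.TC.HeC2B

open Cfsg.Agent.Helper4.TC

def gens : List Cfsg.Spor.He.Gen := [.a, .b, .c, .d, .e, .f, .g]

abbrev dec : ℕ → Letter Cfsg.Spor.He.Gen := stdDec gens .a
abbrev enc : Cfsg.Spor.He.Gen → ℕ := stdEnc gens

theorem coding : Coding dec enc 14 :=
  std_coding gens .a (by decide) (by intro x; cases x <;> decide) 14 (by decide)

theorem allE0 : ∀ k, k < 262144 → justE data 0 k = true := by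
  intro k hk
  by_cases hh1 : k < 102014
  · skip
    by_cases hh2 : k < 51161
    · skip
      by_cases hh3 : k < 20570
      · skip
        by_cases hh4 : k < 10279
        · skip
          exact edgeRange_sound data 0 10279 0 e0_c0 k (by omega) (by omega)
        · skip
          exact edgeRange_sound data 0 10291 10279 e0_c1 k (by omega) (by omega)
      · skip
        by_cases hh5 : k < 30758
        · skip
          exact edgeRange_sound data 0 10188 20570 e0_c2 k (by omega) (by omega)
        · skip
          by_cases hh6 : k < 40978
          · skip
            exact edgeRange_sound data 0 10220 30758 e0_c3 k (by omega) (by omega)
          · skip
            exact edgeRange_sound data 0 10183 40978 e0_c4 k (by omega) (by omega)
    · skip
      by_cases hh7 : k < 71684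
      · skip
        by_cases hh8 : k < 61407
        · skip
          exact edgeRange_sound data 0 10246 51161 e0_c5 k (by omega) (by omega)
        · skip
          exact edgeRange_sound data 0 10277 61407 e0_c6 k (by omega) (by omega)
      · skip
        by_cases hh9 : k < 81917
        · skip
          exact edgeRange_sound data 0 10233 71684 e0_c7 k (by omega) (by omega)
        · skip
          by_cases hh10 : k < 92044
          · skip
            exact edgeRange_sound data 0 10127 81917 e0_c8 k (by omega) (by omega)
          · skip
            exact edgeRange_sound data 0 9970 92044 e0_c9 k (by omega) (by omega)
  · skip
    by_cases hh11 : k < 151877
    · skip
      by_cases hh12 : k < 122048
      · skip
        by_cases hh13 : k < 112055
        · skip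
          exact edgeRange_sound data 0 10041 102014 e0_c10 k (by omega) (by omega)
        · skip
          exact edgeRange_sound data 0 9993 112055 e0_c11 k (by omega) (by omega)
      · skip
        by_cases hh14 : k < 132020
        · skip
          exact edgeRange_sound data 0 9972 122048 e0_c12 k (by omega) (by omega)
        · skip
          by_cases hh15 : k < 141926
          · skip
            exact edgeRange_sound data 0 9906 132020 e0_c13 k (by omega) (by omega)
          · skip
            exact edgeRange_sound data 0 9951 141926 e0_c14 k (by omega) (by omega)
    · skip
      by_cases hh16 : k < 181608
      · skip
        by_cases hh17 : k < 161816
        · skip
          exact edgeRange_sound data 0 9939 151877 e0_c15 k (by omega) (by omega)
        · skip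
          by_cases hh18 : k < 171719
          · skip
            exact edgeRange_sound data 0 9903 161816 e0_c16 k (by omega) (by omega)
          · skip
            exact edgeRange_sound data 0 9889 171719 e0_c17 k (by omega) (by omega)
      · skip
        by_cases hh19 : k < 200544
        · skip
          exact edgeRange_sound data 0 18936 181608 e0_c18 k (by omega) (by omega)
        · skip
          by_cases hh20 : k < 250544
          · skip
            exact edgeRange_sound data 0 50000 200544 e0_c19 k (by omega) (by omega)
          · skip
            exact edgeRange_sound data 0 11600 250544 e0_c20 k (by omega) (by omega)

theorem allE1 : ∀ k, k < 262144 → justE data 1 k = true := by
  intro k hk
  by_cases hh1 : k < 106250
  · skip
    by_cases hh2 : k < 46784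
    · skip
      by_cases hh3 : k < 15751
      · skip
        exact edgeRange_sound data 1 15751 0 e1_c0 k (by omega) (by omega)
      · skip
        by_cases hh4 : k < 31322
        · skip
          exact edgeRange_sound data 1 15571 15751 e1_c1 k (by omega) (by omega)
        · skip
          exact edgeRange_sound data 1 15462 31322 e1_c2 k (by omega) (by omega)
    · skip
      by_cases hh5 : k < 76624
      · skip
        by_cases hh6 : k < 61900
        · skip
          exact edgeRange_sound data 1 15116 46784 e1_c3 k (by omega) (by omega)
        · skip
          exact edgeRange_sound data 1 14724 61900 e1_c4 k (by omega) (by omega)
      · skip
        by_cases hh7 : k < 91351
        · skip
          exact edgeRange_sound data 1 14727 76624 e1_c5 k (by omega) (by omega)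
        · skip
          exact edgeRange_sound data 1 14899 91351 e1_c6 k (by omega) (by omega)
  · skip
    by_cases hh8 : k < 164796
    · skip
      by_cases hh9 : k < 136077
      · skip
        by_cases hh10 : k < 121081
        · skip
          exact edgeRange_sound data 1 14831 106250 e1_c7 k (by omega) (by omega)
        · skip
          exact edgeRange_sound data 1 14996 121081 e1_c8 k (by omega) (by omega)
      · skip
        by_cases hh11 : k < 150687
        · skip
          exact edgeRange_sound data 1 14610 136077 e1_c9 k (by omega) (by omega)
        · skip
          exact edgeRange_sound data 1 14109 150687 e1_c10 k (by omega) (by omega)
    · skip
      by_cases hh12 : k < 197207
      · skip
        by_cases hh13 : k < 178239
        · skip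
          exact edgeRange_sound data 1 13443 164796 e1_c11 k (by omega) (by omega)
        · skip
          exact edgeRange_sound data 1 18968 178239 e1_c12 k (by omega) (by omega)
      · skip
        by_cases hh14 : k < 247207
        · skip
          exact edgeRange_sound data 1 50000 197207 e1_c13 k (by omega) (by omega)
        · skip
          exact edgeRange_sound data 1 14937 247207 e1_c14 k (by omega) (by omega)

theorem allE2 : ∀ k, k < 262144 → justE data 2 k = true := by
  intro k hk
  by_cases hh1 : k < 107460
  · skip
    by_cases hh2 : k < 54258
    · skip
      by_cases hh3 : k < 21761
      · skip
        by_cases hh4 : k < 10878
        · skip
          exact edgeRange_sound data 2 10878 0 e2_c0 k (by omega) (by omega)
        · skip
          exact edgeRange_sound data 2 10883 10878 e2_c1 k (by omega) (by omega)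
      · skip
        by_cases hh5 : k < 32615
        · skip
          exact edgeRange_sound data 2 10854 21761 e2_c2 k (by omega) (by omega)
        · skip
          by_cases hh6 : k < 43465
          · skip
            exact edgeRange_sound data 2 10850 32615 e2_c3 k (by omega) (by omega)
          · skip
            exact edgeRange_sound data 2 10793 43465 e2_c4 k (by omega) (by omega)
    · skip
      by_cases hh7 : k < 75644
      · skip
        by_cases hh8 : k < 64995
        · skip
          exact edgeRange_sound data 2 10737 54258 e2_c5 k (by omega) (by omega)
        · skip
          exact edgeRange_sound data 2 10649 64995 e2_c6 k (by omega) (by omega)
      · skip
        by_cases hh9 : k < 86265
        · skip
          exact edgeRange_sound data 2 10621 75644 e2_c7 k (by omega) (by omega)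
        · skip
          by_cases hh10 : k < 96890
          · skip
            exact edgeRange_sound data 2 10625 86265 e2_c8 k (by omega) (by omega)
          · skip
            exact edgeRange_sound data 2 10570 96890 e2_c9 k (by omega) (by omega)
  · skip
    by_cases hh11 : k < 159574
    · skip
      by_cases hh12 : k < 128419
      · skip
        by_cases hh13 : k < 117971
        · skip
          exact edgeRange_sound data 2 10511 107460 e2_c10 k (by omega) (by omega)
        · skip
          exact edgeRange_sound data 2 10448 117971 e2_c11 k (by omega) (by omega)
      · skip
        by_cases hh14 : k < 138892
        · skip
          exact edgeRange_sound data 2 10473 128419 e2_c12 k (by omega) (by omega)
        · skip
          by_cases hh15 : k < 149226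
          · skip
            exact edgeRange_sound data 2 10334 138892 e2_c13 k (by omega) (by omega)
          · skip
            exact edgeRange_sound data 2 10348 149226 e2_c14 k (by omega) (by omega)
    · skip
      by_cases hh16 : k < 180265
      · skip
        by_cases hh17 : k < 169984
        · skip
          exact edgeRange_sound data 2 10410 159574 e2_c15 k (by omega) (by omega)
        · skip
          exact edgeRange_sound data 2 10281 169984 e2_c16 k (by omega) (by omega)
      · skip
        by_cases hh18 : k < 196004
        · skip
          exact edgeRange_sound data 2 15739 180265 e2_c17 k (by omega) (by omega)
        · skip
          by_cases hh19 : k < 246004
          · skip
            exact edgeRange_sound data 2 50000 196004 e2_c18 k (by omega) (by omega)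
          · skip
            exact edgeRange_sound data 2 16140 246004 e2_c19 k (by omega) (by omega)

theorem allE3 : ∀ k, k < 262144 → justE data 3 k = true := by
  intro k hk
  by_cases hh1 : k < 112344
  · skip
    by_cases hh2 : k < 49042
    · skip
      by_cases hh3 : k < 16364
      · skip
        exact edgeRange_sound data 3 16364 0 e3_c0 k (by omega) (by omega)
      · skip
        by_cases hh4 : k < 32773
        · skip
          exact edgeRange_sound data 3 16409 16364 e3_c1 k (by omega) (by omega)
        · skip
          exact edgeRange_sound data 3 16269 32773 e3_c2 k (by omega) (by omega)
    · skip
      by_cases hh5 : k < 80946
      · skip
        by_cases hh6 : k < 65099
        · skip
          exact edgeRange_sound data 3 16057 49042 e3_c3 k (by omega) (by omega)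
        · skip
          exact edgeRange_sound data 3 15847 65099 e3_c4 k (by omega) (by omega)
      · skip
        by_cases hh7 : k < 96674
        · skip
          exact edgeRange_sound data 3 15728 80946 e3_c5 k (by omega) (by omega)
        · skip
          exact edgeRange_sound data 3 15670 96674 e3_c6 k (by omega) (by omega)
  · skip
    by_cases hh8 : k < 158739
    · skip
      by_cases hh9 : k < 127920
      · skip
        exact edgeRange_sound data 3 15576 112344 e3_c7 k (by omega) (by omega)
      · skip
        by_cases hh10 : k < 143336
        · skip
          exact edgeRange_sound data 3 15416 127920 e3_c8 k (by omega) (by omega)
        · skip
          exact edgeRange_sound data 3 15403 143336 e3_c9 k (by omega) (by omega)
    · skip
      by_cases hh11 : k < 191310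
      · skip
        by_cases hh12 : k < 174230
        · skip
          exact edgeRange_sound data 3 15491 158739 e3_c10 k (by omega) (by omega)
        · skip
          exact edgeRange_sound data 3 17080 174230 e3_c11 k (by omega) (by omega)
      · skip
        by_cases hh13 : k < 241310
        · skip
          exact edgeRange_sound data 3 50000 191310 e3_c12 k (by omega) (by omega)
        · skip
          exact edgeRange_sound data 3 20834 241310 e3_c13 k (by omega) (by omega)

theorem allE4 : ∀ k, k < 262144 → justE data 4 k = true := by
  intro k hk
  by_cases hh1 : k < 106585
  · skip
    by_cases hh2 : k < 47956
    · skip
      by_cases hh3 : k < 24391
      · skip
        by_cases hh4 : k < 12259
        · skip
          exact edgeRange_sound data 4 12259 0 e4_c0 k (by omega) (by omega)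
        · skip
          exact edgeRange_sound data 4 12132 12259 e4_c1 k (by omega) (by omega)
      · skip
        by_cases hh5 : k < 36214
        · skip
          exact edgeRange_sound data 4 11823 24391 e4_c2 k (by omega) (by omega)
        · skip
          exact edgeRange_sound data 4 11742 36214 e4_c3 k (by omega) (by omega)
    · skip
      by_cases hh6 : k < 71383
      · skip
        by_cases hh7 : k < 59674
        · skip
          exact edgeRange_sound data 4 11718 47956 e4_c4 k (by omega) (by omega)
        · skip
          exact edgeRange_sound data 4 11709 59674 e4_c5 k (by omega) (by omega)
      · skip
        by_cases hh8 : k < 83134
        · skip
          exact edgeRange_sound data 4 11751 71383 e4_c6 k (by omega) (by omega)
        · skip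
          by_cases hh9 : k < 94862
          · skip
            exact edgeRange_sound data 4 11728 83134 e4_c7 k (by omega) (by omega)
          · skip
            exact edgeRange_sound data 4 11723 94862 e4_c8 k (by omega) (by omega)
  · skip
    by_cases hh10 : k < 151418
    · skip
      by_cases hh11 : k < 129372
      · skip
        by_cases hh12 : k < 118012
        · skip
          exact edgeRange_sound data 4 11427 106585 e4_c9 k (by omega) (by omega)
        · skip
          exact edgeRange_sound data 4 11360 118012 e4_c10 k (by omega) (by omega)
      · skip
        by_cases hh13 : k < 140529
        · skip
          exact edgeRange_sound data 4 11157 129372 e4_c11 k (by omega) (by omega)
        · skip
          exact edgeRange_sound data 4 10889 140529 e4_c12 k (by omega) (by omega)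
    · skip
      by_cases hh14 : k < 173297
      · skip
        by_cases hh15 : k < 162415
        · skip
          exact edgeRange_sound data 4 10997 151418 e4_c13 k (by omega) (by omega)
        · skip
          exact edgeRange_sound data 4 10882 162415 e4_c14 k (by omega) (by omega)
      · skip
        by_cases hh16 : k < 184188
        · skip
          exact edgeRange_sound data 4 10891 173297 e4_c15 k (by omega) (by omega)
        · skip
          by_cases hh17 : k < 216280
          · skip
            exact edgeRange_sound data 4 32092 184188 e4_c16 k (by omega) (by omega)
          · skip
            exact edgeRange_sound data 4 45864 216280 e4_c17 k (by omega) (by omega)

theorem allE5 : ∀ k, k < 262144 → justE data 5 k = true := by
  intro k hk
  by_cases hh1 : k < 115726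
  · skip
    by_cases hh2 : k < 59510
    · skip
      by_cases hh3 : k < 30282
      · skip
        by_cases hh4 : k < 15542
        · skip
          exact edgeRange_sound data 5 15542 0 e5_c0 k (by omega) (by omega)
        · skip
          exact edgeRange_sound data 5 14740 15542 e5_c1 k (by omega) (by omega)
      · skip
        by_cases hh5 : k < 44959
        · skip
          exact edgeRange_sound data 5 14677 30282 e5_c2 k (by omega) (by omega)
        · skip
          exact edgeRange_sound data 5 14551 44959 e5_c3 k (by omega) (by omega)
    · skip
      by_cases hh6 : k < 87909
      · skip
        by_cases hh7 : k < 73799
        · skip
          exact edgeRange_sound data 5 14289 59510 e5_c4 k (by omega) (by omega)
        · skip
          exact edgeRange_sound data 5 14110 73799 e5_c5 k (by omega) (by omega)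
      · skip
        by_cases hh8 : k < 102031
        · skip
          exact edgeRange_sound data 5 14122 87909 e5_c6 k (by omega) (by omega)
        · skip
          exact edgeRange_sound data 5 13695 102031 e5_c7 k (by omega) (by omega)
  · skip
    by_cases hh9 : k < 168773
    · skip
      by_cases hh10 : k < 142504
      · skip
        by_cases hh11 : k < 129188
        · skip
          exact edgeRange_sound data 5 13462 115726 e5_c8 k (by omega) (by omega)
        · skip
          exact edgeRange_sound data 5 13316 129188 e5_c9 k (by omega) (by omega)
      · skip
        by_cases hh12 : k < 155785
        · skip
          exact edgeRange_sound data 5 13281 142504 e5_c10 k (by omega) (by omega)
        · skip
          exact edgeRange_sound data 5 12988 155785 e5_c11 k (by omega) (by omega)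
    · skip
      by_cases hh13 : k < 208309
      · skip
        by_cases hh14 : k < 181580
        · skip
          exact edgeRange_sound data 5 12807 168773 e5_c12 k (by omega) (by omega)
        · skip
          exact edgeRange_sound data 5 26729 181580 e5_c13 k (by omega) (by omega)
      · skip
        by_cases hh15 : k < 258309
        · skip
          exact edgeRange_sound data 5 50000 208309 e5_c14 k (by omega) (by omega)
        · skip
          exact edgeRange_sound data 5 3835 258309 e5_c15 k (by omega) (by omega)

theorem allE6 : ∀ k, k < 262144 → justE data 6 k = true := by
  intro k hk
  by_cases hh1 : k < 115718
  · skip
    by_cases hh2 : k < 52884
    · skip
      by_cases hh3 : k < 28266
      · skip
        by_cases hh4 : k < 14573
        · skip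
          exact edgeRange_sound data 6 14573 0 e6_c0 k (by omega) (by omega)
        · skip
          exact edgeRange_sound data 6 13693 14573 e6_c1 k (by omega) (by omega)
      · skip
        by_cases hh5 : k < 41000
        · skip
          exact edgeRange_sound data 6 12734 28266 e6_c2 k (by omega) (by omega)
        · skip
          exact edgeRange_sound data 6 11884 41000 e6_c3 k (by omega) (by omega)
    · skip
      by_cases hh6 : k < 77947
      · skip
        by_cases hh7 : k < 65413
        · skip
          exact edgeRange_sound data 6 12529 52884 e6_c4 k (by omega) (by omega)
        · skip
          exact edgeRange_sound data 6 12534 65413 e6_c5 k (by omega) (by omega)
      · skip
        by_cases hh8 : k < 90726
        · skip
          exact edgeRange_sound data 6 12779 77947 e6_c6 k (by omega) (by omega)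
        · skip
          by_cases hh9 : k < 103472
          · skip
            exact edgeRange_sound data 6 12746 90726 e6_c7 k (by omega) (by omega)
          · skip
            exact edgeRange_sound data 6 12246 103472 e6_c8 k (by omega) (by omega)
  · skip
    by_cases hh10 : k < 158377
    · skip
      by_cases hh11 : k < 137968
      · skip
        by_cases hh12 : k < 126936
        · skip
          exact edgeRange_sound data 6 11218 115718 e6_c9 k (by omega) (by omega)
        · skip
          exact edgeRange_sound data 6 11032 126936 e6_c10 k (by omega) (by omega)
      · skip
        by_cases hh13 : k < 148382
        · skip
          exact edgeRange_sound data 6 10414 137968 e6_c11 k (by omega) (by omega)
        · skip
          exact edgeRange_sound data 6 9995 148382 e6_c12 k (by omega) (by omega)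
    · skip
      by_cases hh14 : k < 177855
      · skip
        by_cases hh15 : k < 168344
        · skip
          exact edgeRange_sound data 6 9967 158377 e6_c13 k (by omega) (by omega)
        · skip
          exact edgeRange_sound data 6 9511 168344 e6_c14 k (by omega) (by omega)
      · skip
        by_cases hh16 : k < 187186
        · skip
          exact edgeRange_sound data 6 9331 177855 e6_c15 k (by omega) (by omega)
        · skip
          by_cases hh17 : k < 227807
          · skip
            exact edgeRange_sound data 6 40621 187186 e6_c16 k (by omega) (by omega)
          · skip
            exact edgeRange_sound data 6 34337 227807 e6_c17 k (by omega) (by omega)

theorem allE7 : ∀ k, k < 262144 → justE data 7 k = true := by
  intro k hk
  by_cases hh1 : k < 111477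
  · skip
    by_cases hh2 : k < 49060
    · skip
      by_cases hh3 : k < 16787
      · skip
        exact edgeRange_sound data 7 16787 0 e7_c0 k (by omega) (by omega)
      · skip
        by_cases hh4 : k < 32910
        · skip
          exact edgeRange_sound data 7 16123 16787 e7_c1 k (by omega) (by omega)
        · skip
          exact edgeRange_sound data 7 16150 32910 e7_c2 k (by omega) (by omega)
    · skip
      by_cases hh5 : k < 80964
      · skip
        by_cases hh6 : k < 65223
        · skip
          exact edgeRange_sound data 7 16163 49060 e7_c3 k (by omega) (by omega)
        · skip
          exact edgeRange_sound data 7 15741 65223 e7_c4 k (by omega) (by omega)
      · skip
        by_cases hh7 : k < 96419
        · skip
          exact edgeRange_sound data 7 15455 80964 e7_c5 k (by omega) (by omega)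
        · skip
          exact edgeRange_sound data 7 15058 96419 e7_c6 k (by omega) (by omega)
  · skip
    by_cases hh8 : k < 157033
    · skip
      by_cases hh9 : k < 126784
      · skip
        exact edgeRange_sound data 7 15307 111477 e7_c7 k (by omega) (by omega)
      · skip
        by_cases hh10 : k < 141939
        · skip
          exact edgeRange_sound data 7 15155 126784 e7_c8 k (by omega) (by omega)
        · skip
          exact edgeRange_sound data 7 15094 141939 e7_c9 k (by omega) (by omega)
    · skip
      by_cases hh11 : k < 187722
      · skip
        by_cases hh12 : k < 172243
        · skip
          exact edgeRange_sound data 7 15210 157033 e7_c10 k (by omega) (by omega)
        · skip
          exact edgeRange_sound data 7 15479 172243 e7_c11 k (by omega) (by omega)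
      · skip
        by_cases hh13 : k < 234718
        · skip
          exact edgeRange_sound data 7 46996 187722 e7_c12 k (by omega) (by omega)
        · skip
          exact edgeRange_sound data 7 27426 234718 e7_c13 k (by omega) (by omega)

theorem allE8 : ∀ k, k < 262144 → justE data 8 k = true := by
  intro k hk
  by_cases hh1 : k < 105204
  · skip
    by_cases hh2 : k < 53718
    · skip
      by_cases hh3 : k < 27575
      · skip
        by_cases hh4 : k < 14054
        · skip
          exact edgeRange_sound data 8 14054 0 e8_c0 k (by omega) (by omega)
        · skip
          exact edgeRange_sound data 8 13521 14054 e8_c1 k (by omega) (by omega)
      · skip
        by_cases hh5 : k < 40794
        · skip
          exact edgeRange_sound data 8 13219 27575 e8_c2 k (by omega) (by omega)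
        · skip
          exact edgeRange_sound data 8 12924 40794 e8_c3 k (by omega) (by omega)
    · skip
      by_cases hh6 : k < 79630
      · skip
        by_cases hh7 : k < 66806
        · skip
          exact edgeRange_sound data 8 13088 53718 e8_c4 k (by omega) (by omega)
        · skip
          exact edgeRange_sound data 8 12824 66806 e8_c5 k (by omega) (by omega)
      · skip
        by_cases hh8 : k < 92447
        · skip
          exact edgeRange_sound data 8 12817 79630 e8_c6 k (by omega) (by omega)
        · skip
          exact edgeRange_sound data 8 12757 92447 e8_c7 k (by omega) (by omega)
  · skip
    by_cases hh9 : k < 153726
    · skip
      by_cases hh10 : k < 130009
      · skip
        by_cases hh11 : k < 117836
        · skip
          exact edgeRange_sound data 8 12632 105204 e8_c8 k (by omega) (by omega)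
        · skip
          exact edgeRange_sound data 8 12173 117836 e8_c9 k (by omega) (by omega)
      · skip
        by_cases hh12 : k < 141990
        · skip
          exact edgeRange_sound data 8 11981 130009 e8_c10 k (by omega) (by omega)
        · skip
          exact edgeRange_sound data 8 11736 141990 e8_c11 k (by omega) (by omega)
    · skip
      by_cases hh13 : k < 177068
      · skip
        by_cases hh14 : k < 165420
        · skip
          exact edgeRange_sound data 8 11694 153726 e8_c12 k (by omega) (by omega)
        · skip
          exact edgeRange_sound data 8 11648 165420 e8_c13 k (by omega) (by omega)
      · skip
        by_cases hh15 : k < 188665
        · skip
          exact edgeRange_sound data 8 11597 177068 e8_c14 k (by omega) (by omega)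
        · skip
          by_cases hh16 : k < 237147
          · skip
            exact edgeRange_sound data 8 48482 188665 e8_c15 k (by omega) (by omega)
          · skip
            exact edgeRange_sound data 8 24997 237147 e8_c16 k (by omega) (by omega)

theorem allE9 : ∀ k, k < 262144 → justE data 9 k = true := by
  intro k hk
  by_cases hh1 : k < 105406
  · skip
    by_cases hh2 : k < 52757
    · skip
      by_cases hh3 : k < 17603
      · skip
        exact edgeRange_sound data 9 17603 0 e9_c0 k (by omega) (by omega)
      · skip
        by_cases hh4 : k < 35171
        · skip
          exact edgeRange_sound data 9 17568 17603 e9_c1 k (by omega) (by omega)
        · skip
          exact edgeRange_sound data 9 17586 35171 e9_c2 k (by omega) (by omega)
    · skip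
      by_cases hh5 : k < 70338
      · skip
        exact edgeRange_sound data 9 17581 52757 e9_c3 k (by omega) (by omega)
      · skip
        by_cases hh6 : k < 87884
        · skip
          exact edgeRange_sound data 9 17546 70338 e9_c4 k (by omega) (by omega)
        · skip
          exact edgeRange_sound data 9 17522 87884 e9_c5 k (by omega) (by omega)
  · skip
    by_cases hh7 : k < 157933
    · skip
      by_cases hh8 : k < 122911
      · skip
        exact edgeRange_sound data 9 17505 105406 e9_c6 k (by omega) (by omega)
      · skip
        by_cases hh9 : k < 140418
        · skip
          exact edgeRange_sound data 9 17507 122911 e9_c7 k (by omega) (by omega)
        · skip
          exact edgeRange_sound data 9 17515 140418 e9_c8 k (by omega) (by omega)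
    · skip
      by_cases hh10 : k < 200001
      · skip
        by_cases hh11 : k < 175447
        · skip
          exact edgeRange_sound data 9 17514 157933 e9_c9 k (by omega) (by omega)
        · skip
          exact edgeRange_sound data 9 24554 175447 e9_c10 k (by omega) (by omega)
      · skip
        by_cases hh12 : k < 250001
        · skip
          exact edgeRange_sound data 9 50000 200001 e9_c11 k (by omega) (by omega)
        · skip
          exact edgeRange_sound data 9 12143 250001 e9_c12 k (by omega) (by omega)

theorem allE10 : ∀ k, k < 262144 → justE data 10 k = true := by
  intro k hk
  by_cases hh1 : k < 106111
  · skip
    by_cases hh2 : k < 47062
    · skip
      by_cases hh3 : k < 16543
      · skip
        exact edgeRange_sound data 10 16543 0 e10_c0 k (by omega) (by omega)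
      · skip
        by_cases hh4 : k < 32036
        · skip
          exact edgeRange_sound data 10 15493 16543 e10_c1 k (by omega) (by omega)
        · skip
          exact edgeRange_sound data 10 15026 32036 e10_c2 k (by omega) (by omega)
    · skip
      by_cases hh5 : k < 76606
      · skip
        by_cases hh6 : k < 61767
        · skip
          exact edgeRange_sound data 10 14705 47062 e10_c3 k (by omega) (by omega)
        · skip
          exact edgeRange_sound data 10 14839 61767 e10_c4 k (by omega) (by omega)
      · skip
        by_cases hh7 : k < 91350
        · skip
          exact edgeRange_sound data 10 14744 76606 e10_c5 k (by omega) (by omega)
        · skip
          exact edgeRange_sound data 10 14761 91350 e10_c6 k (by omega) (by omega)
  · skip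
    by_cases hh8 : k < 160054
    · skip
      by_cases hh9 : k < 134076
      · skip
        by_cases hh10 : k < 120384
        · skip
          exact edgeRange_sound data 10 14273 106111 e10_c7 k (by omega) (by omega)
        · skip
          exact edgeRange_sound data 10 13692 120384 e10_c8 k (by omega) (by omega)
      · skip
        by_cases hh11 : k < 147285
        · skip
          exact edgeRange_sound data 10 13209 134076 e10_c9 k (by omega) (by omega)
        · skip
          exact edgeRange_sound data 10 12769 147285 e10_c10 k (by omega) (by omega)
    · skip
      by_cases hh12 : k < 184815
      · skip
        by_cases hh13 : k < 172605
        · skip
          exact edgeRange_sound data 10 12551 160054 e10_c11 k (by omega) (by omega)
        · skip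
          exact edgeRange_sound data 10 12210 172605 e10_c12 k (by omega) (by omega)
      · skip
        by_cases hh14 : k < 220732
        · skip
          exact edgeRange_sound data 10 35917 184815 e10_c13 k (by omega) (by omega)
        · skip
          exact edgeRange_sound data 10 41412 220732 e10_c14 k (by omega) (by omega)

theorem allE11 : ∀ k, k < 262144 → justE data 11 k = true := by
  intro k hk
  by_cases hh1 : k < 102463
  · skip
    by_cases hh2 : k < 43985
    · skip
      by_cases hh3 : k < 14723
      · skip
        exact edgeRange_sound data 11 14723 0 e11_c0 k (by omega) (by omega)
      · skip
        by_cases hh4 : k < 29380
        · skip
          exact edgeRange_sound data 11 14657 14723 e11_c1 k (by omega) (by omega)
        · skip
          exact edgeRange_sound data 11 14605 29380 e11_c2 k (by omega) (by omega)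
    · skip
      by_cases hh5 : k < 73165
      · skip
        by_cases hh6 : k < 58561
        · skip
          exact edgeRange_sound data 11 14576 43985 e11_c3 k (by omega) (by omega)
        · skip
          exact edgeRange_sound data 11 14604 58561 e11_c4 k (by omega) (by omega)
      · skip
        by_cases hh7 : k < 87852
        · skip
          exact edgeRange_sound data 11 14687 73165 e11_c5 k (by omega) (by omega)
        · skip
          exact edgeRange_sound data 11 14611 87852 e11_c6 k (by omega) (by omega)
  · skip
    by_cases hh8 : k < 160309
    · skip
      by_cases hh9 : k < 131471
      · skip
        by_cases hh10 : k < 116981
        · skip
          exact edgeRange_sound data 11 14518 102463 e11_c7 k (by omega) (by omega)
        · skip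
          exact edgeRange_sound data 11 14490 116981 e11_c8 k (by omega) (by omega)
      · skip
        by_cases hh11 : k < 145858
        · skip
          exact edgeRange_sound data 11 14387 131471 e11_c9 k (by omega) (by omega)
        · skip
          exact edgeRange_sound data 11 14451 145858 e11_c10 k (by omega) (by omega)
    · skip
      by_cases hh12 : k < 189829
      · skip
        by_cases hh13 : k < 174805
        · skip
          exact edgeRange_sound data 11 14496 160309 e11_c11 k (by omega) (by omega)
        · skip
          exact edgeRange_sound data 11 15024 174805 e11_c12 k (by omega) (by omega)
      · skip
        by_cases hh14 : k < 239829
        · skip
          exact edgeRange_sound data 11 50000 189829 e11_c13 k (by omega) (by omega)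
        · skip
          exact edgeRange_sound data 11 22315 239829 e11_c14 k (by omega) (by omega)

theorem allE12 : ∀ k, k < 262144 → justE data 12 k = true := by
  intro k hk
  by_cases hh1 : k < 117844
  · skip
    by_cases hh2 : k < 60701
    · skip
      by_cases hh3 : k < 31559
      · skip
        by_cases hh4 : k < 16365
        · skip
          exact edgeRange_sound data 12 16365 0 e12_c0 k (by omega) (by omega)
        · skip
          exact edgeRange_sound data 12 15194 16365 e12_c1 k (by omega) (by omega)
      · skip
        by_cases hh5 : k < 46337
        · skip
          exact edgeRange_sound data 12 14778 31559 e12_c2 k (by omega) (by omega)
        · skip
          exact edgeRange_sound data 12 14364 46337 e12_c3 k (by omega) (by omega)
    · skip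
      by_cases hh6 : k < 89621
      · skip
        by_cases hh7 : k < 75207
        · skip
          exact edgeRange_sound data 12 14506 60701 e12_c4 k (by omega) (by omega)
        · skip
          exact edgeRange_sound data 12 14414 75207 e12_c5 k (by omega) (by omega)
      · skip
        by_cases hh8 : k < 103841
        · skip
          exact edgeRange_sound data 12 14220 89621 e12_c6 k (by omega) (by omega)
        · skip
          exact edgeRange_sound data 12 14003 103841 e12_c7 k (by omega) (by omega)
  · skip
    by_cases hh9 : k < 169050
    · skip
      by_cases hh10 : k < 144090
      · skip
        by_cases hh11 : k < 131244
        · skip
          exact edgeRange_sound data 12 13400 117844 e12_c8 k (by omega) (by omega)
        · skip
          exact edgeRange_sound data 12 12846 131244 e12_c9 k (by omega) (by omega)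
      · skip
        by_cases hh12 : k < 156630
        · skip
          exact edgeRange_sound data 12 12540 144090 e12_c10 k (by omega) (by omega)
        · skip
          exact edgeRange_sound data 12 12420 156630 e12_c11 k (by omega) (by omega)
    · skip
      by_cases hh13 : k < 203940
      · skip
        by_cases hh14 : k < 180927
        · skip
          exact edgeRange_sound data 12 11877 169050 e12_c12 k (by omega) (by omega)
        · skip
          exact edgeRange_sound data 12 23013 180927 e12_c13 k (by omega) (by omega)
      · skip
        by_cases hh15 : k < 253940
        · skip
          exact edgeRange_sound data 12 50000 203940 e12_c14 k (by omega) (by omega)
        · skip
          exact edgeRange_sound data 12 8204 253940 e12_c15 k (by omega) (by omega)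

theorem allE13 : ∀ k, k < 262144 → justE data 13 k = true := by
  intro k hk
  by_cases hh1 : k < 107190
  · skip
    by_cases hh2 : k < 45763
    · skip
      by_cases hh3 : k < 15283
      · skip
        exact edgeRange_sound data 13 15283 0 e13_c0 k (by omega) (by omega)
      · skip
        by_cases hh4 : k < 30534
        · skip
          exact edgeRange_sound data 13 15251 15283 e13_c1 k (by omega) (by omega)
        · skip
          exact edgeRange_sound data 13 15229 30534 e13_c2 k (by omega) (by omega)
    · skip
      by_cases hh5 : k < 76521
      · skip
        by_cases hh6 : k < 61102
        · skip
          exact edgeRange_sound data 13 15339 45763 e13_c3 k (by omega) (by omega)
        · skip
          exact edgeRange_sound data 13 15419 61102 e13_c4 k (by omega) (by omega)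
      · skip
        by_cases hh7 : k < 91883
        · skip
          exact edgeRange_sound data 13 15362 76521 e13_c5 k (by omega) (by omega)
        · skip
          exact edgeRange_sound data 13 15307 91883 e13_c6 k (by omega) (by omega)
  · skip
    by_cases hh8 : k < 153062
    · skip
      by_cases hh9 : k < 122397
      · skip
        exact edgeRange_sound data 13 15207 107190 e13_c7 k (by omega) (by omega)
      · skip
        by_cases hh10 : k < 137693
        · skip
          exact edgeRange_sound data 13 15296 122397 e13_c8 k (by omega) (by omega)
        · skip
          exact edgeRange_sound data 13 15369 137693 e13_c9 k (by omega) (by omega)
    · skip
      by_cases hh11 : k < 184380
      · skip
        by_cases hh12 : k < 168564
        · skip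
          exact edgeRange_sound data 13 15502 153062 e13_c10 k (by omega) (by omega)
        · skip
          exact edgeRange_sound data 13 15816 168564 e13_c11 k (by omega) (by omega)
      · skip
        by_cases hh13 : k < 224310
        · skip
          exact edgeRange_sound data 13 39930 184380 e13_c12 k (by omega) (by omega)
        · skip
          exact edgeRange_sound data 13 37834 224310 e13_c13 k (by omega) (by omega)

theorem allE : ∀ c k, c < data.nc → k ≤ data.mask → justE data c k = true := by
  intro c k hc hk
  have hc' : c < 14 := hc
  have hk' : k < 262144 := Nat.lt_succ_of_le hk
  interval_cases c
  · exact allE0 k hk'
  · exact allE1 k hk'
  · exact allE2 k hk'
  · exact allE3 k hk'
  · exact allE4 k hk'
  · exact allE5 k hk'
  · exact allE6 k hk'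
  · exact allE7 k hk'
  · exact allE8 k hk'
  · exact allE9 k hk'
  · exact allE10 k hk'
  · exact allE11 k hk'
  · exact allE12 k hk'
  · exact allE13 k hk'

theorem allM : ∀ k, k ≤ data.mask → justM data k = true := by
  intro k hk
  have hk' : k < 262144 := Nat.lt_succ_of_le hk
  by_cases hh1 : k < 141715
  · skip
    by_cases hh2 : k < 46832
    · skip
      exact mergeRange_sound data 46832 0 m_c0 k (by omega) (by omega)
    · skip
      by_cases hh3 : k < 93854
      · skip
        exact mergeRange_sound data 47022 46832 m_c1 k (by omega) (by omega)
      · skip
        exact mergeRange_sound data 47861 93854 m_c2 k (by omega) (by omega)
  · skip
    by_cases hh4 : k < 191230
    · skip
      exact mergeRange_sound data 49515 141715 m_c3 k (by omega) (by omega)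
    · skip
      by_cases hh5 : k < 241230
      · skip
        exact mergeRange_sound data 50000 191230 m_c4 k (by omega) (by omega)
      · skip
        exact mergeRange_sound data 20914 241230 m_c5 k (by omega) (by omega)

theorem rows_all : ∀ k, k < M → isFinal data k = true → rowOK data M k data.nc = true := by
  intro k hk
  have hk' : k < 189168 := hk
  by_cases hh1 : k < 95521
  · skip
    by_cases hh2 : k < 47245
    · skip
      by_cases hh3 : k < 23672
      · skip
        by_cases hh4 : k < 11794
        · skip
          by_cases hh5 : k < 5895
          · skip
            by_cases hh6 : k < 2395
            · skip
              by_cases hh7 : k < 1230
              · skip
                exact rowsRange_sound data M 1230 0 rows0 k (by omega) (by omega)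
              · skip
                exact rowsRange_sound data M 1165 1230 rows1 k (by omega) (by omega)
            · skip
              by_cases hh8 : k < 3559
              · skip
                exact rowsRange_sound data M 1164 2395 rows2 k (by omega) (by omega)
              · skip
                by_cases hh9 : k < 4725
                · skip
                  exact rowsRange_sound data M 1166 3559 rows3 k (by omega) (by omega)
                · skip
                  exact rowsRange_sound data M 1170 4725 rows4 k (by omega) (by omega)
          · skip
            by_cases hh10 : k < 8238
            · skip
              by_cases hh11 : k < 7059
              · skip
                exact rowsRange_sound data M 1164 5895 rows5 k (by omega) (by omega)
              · skip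
                exact rowsRange_sound data M 1179 7059 rows6 k (by omega) (by omega)
            · skip
              by_cases hh12 : k < 9429
              · skip
                exact rowsRange_sound data M 1191 8238 rows7 k (by omega) (by omega)
              · skip
                by_cases hh13 : k < 10625
                · skip
                  exact rowsRange_sound data M 1196 9429 rows8 k (by omega) (by omega)
                · skip
                  exact rowsRange_sound data M 1169 10625 rows9 k (by omega) (by omega)
        · skip
          by_cases hh14 : k < 17745
          · skip
            by_cases hh15 : k < 14162
            · skip
              by_cases hh16 : k < 12966
              · skip
                exact rowsRange_sound data M 1172 11794 rows10 k (by omega) (by omega)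
              · skip
                exact rowsRange_sound data M 1196 12966 rows11 k (by omega) (by omega)
            · skip
              by_cases hh17 : k < 15363
              · skip
                exact rowsRange_sound data M 1201 14162 rows12 k (by omega) (by omega)
              · skip
                by_cases hh18 : k < 16555
                · skip
                  exact rowsRange_sound data M 1192 15363 rows13 k (by omega) (by omega)
                · skip
                  exact rowsRange_sound data M 1190 16555 rows14 k (by omega) (by omega)
          · skip
            by_cases hh19 : k < 20126
            · skip
              by_cases hh20 : k < 18934
              · skip
                exact rowsRange_sound data M 1189 17745 rows15 k (by omega) (by omega)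
              · skip
                exact rowsRange_sound data M 1192 18934 rows16 k (by omega) (by omega)
            · skip
              by_cases hh21 : k < 21308
              · skip
                exact rowsRange_sound data M 1182 20126 rows17 k (by omega) (by omega)
              · skip
                by_cases hh22 : k < 22497
                · skip
                  exact rowsRange_sound data M 1189 21308 rows18 k (by omega) (by omega)
                · skip
                  exact rowsRange_sound data M 1175 22497 rows19 k (by omega) (by omega)
      · skip
        by_cases hh23 : k < 35442
        · skip
          by_cases hh24 : k < 29576
          · skip
            by_cases hh25 : k < 26034
            · skip
              by_cases hh26 : k < 24851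
              · skip
                exact rowsRange_sound data M 1179 23672 rows20 k (by omega) (by omega)
              · skip
                exact rowsRange_sound data M 1183 24851 rows21 k (by omega) (by omega)
            · skip
              by_cases hh27 : k < 27220
              · skip
                exact rowsRange_sound data M 1186 26034 rows22 k (by omega) (by omega)
              · skip
                by_cases hh28 : k < 28397
                · skip
                  exact rowsRange_sound data M 1177 27220 rows23 k (by omega) (by omega)
                · skip
                  exact rowsRange_sound data M 1179 28397 rows24 k (by omega) (by omega)
          · skip
            by_cases hh29 : k < 31930
            · skip
              by_cases hh30 : k < 30754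
              · skip
                exact rowsRange_sound data M 1178 29576 rows25 k (by omega) (by omega)
              · skip
                exact rowsRange_sound data M 1176 30754 rows26 k (by omega) (by omega)
            · skip
              by_cases hh31 : k < 33098
              · skip
                exact rowsRange_sound data M 1168 31930 rows27 k (by omega) (by omega)
              · skip
                by_cases hh32 : k < 34264
                · skip
                  exact rowsRange_sound data M 1166 33098 rows28 k (by omega) (by omega)
                · skip
                  exact rowsRange_sound data M 1178 34264 rows29 k (by omega) (by omega)
        · skip
          by_cases hh33 : k < 41370
          · skip
            by_cases hh34 : k < 37802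
            · skip
              by_cases hh35 : k < 36614
              · skip
                exact rowsRange_sound data M 1172 35442 rows30 k (by omega) (by omega)
              · skip
                exact rowsRange_sound data M 1188 36614 rows31 k (by omega) (by omega)
            · skip
              by_cases hh36 : k < 39007
              · skip
                exact rowsRange_sound data M 1205 37802 rows32 k (by omega) (by omega)
              · skip
                by_cases hh37 : k < 40183
                · skip
                  exact rowsRange_sound data M 1176 39007 rows33 k (by omega) (by omega)
                · skip
                  exact rowsRange_sound data M 1187 40183 rows34 k (by omega) (by omega)
          · skip
            by_cases hh38 : k < 43716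
            · skip
              by_cases hh39 : k < 42540
              · skip
                exact rowsRange_sound data M 1170 41370 rows35 k (by omega) (by omega)
              · skip
                exact rowsRange_sound data M 1176 42540 rows36 k (by omega) (by omega)
            · skip
              by_cases hh40 : k < 44885
              · skip
                exact rowsRange_sound data M 1169 43716 rows37 k (by omega) (by omega)
              · skip
                by_cases hh41 : k < 46070
                · skip
                  exact rowsRange_sound data M 1185 44885 rows38 k (by omega) (by omega)
                · skip
                  exact rowsRange_sound data M 1175 46070 rows39 k (by omega) (by omega)
    · skip
      by_cases hh42 : k < 70814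
      · skip
        by_cases hh43 : k < 59017
        · skip
          by_cases hh44 : k < 53139
          · skip
            by_cases hh45 : k < 49587
            · skip
              by_cases hh46 : k < 48424
              · skip
                exact rowsRange_sound data M 1179 47245 rows40 k (by omega) (by omega)
              · skip
                exact rowsRange_sound data M 1163 48424 rows41 k (by omega) (by omega)
            · skip
              by_cases hh47 : k < 50755
              · skip
                exact rowsRange_sound data M 1168 49587 rows42 k (by omega) (by omega)
              · skip
                by_cases hh48 : k < 51941
                · skip
                  exact rowsRange_sound data M 1186 50755 rows43 k (by omega) (by omega)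
                · skip
                  exact rowsRange_sound data M 1198 51941 rows44 k (by omega) (by omega)
          · skip
            by_cases hh49 : k < 55484
            · skip
              by_cases hh50 : k < 54318
              · skip
                exact rowsRange_sound data M 1179 53139 rows45 k (by omega) (by omega)
              · skip
                exact rowsRange_sound data M 1166 54318 rows46 k (by omega) (by omega)
            · skip
              by_cases hh51 : k < 56663
              · skip
                exact rowsRange_sound data M 1179 55484 rows47 k (by omega) (by omega)
              · skip
                by_cases hh52 : k < 57849
                · skip
                  exact rowsRange_sound data M 1186 56663 rows48 k (by omega) (by omega)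
                · skip
                  exact rowsRange_sound data M 1168 57849 rows49 k (by omega) (by omega)
        · skip
          by_cases hh53 : k < 64929
          · skip
            by_cases hh54 : k < 61379
            · skip
              by_cases hh55 : k < 60188
              · skip
                exact rowsRange_sound data M 1171 59017 rows50 k (by omega) (by omega)
              · skip
                exact rowsRange_sound data M 1191 60188 rows51 k (by omega) (by omega)
            · skip
              by_cases hh56 : k < 62556
              · skip
                exact rowsRange_sound data M 1177 61379 rows52 k (by omega) (by omega)
              · skip
                by_cases hh57 : k < 63755
                · skip
                  exact rowsRange_sound data M 1199 62556 rows53 k (by omega) (by omega)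
                · skip
                  exact rowsRange_sound data M 1174 63755 rows54 k (by omega) (by omega)
          · skip
            by_cases hh58 : k < 67291
            · skip
              by_cases hh59 : k < 66104
              · skip
                exact rowsRange_sound data M 1175 64929 rows55 k (by omega) (by omega)
              · skip
                exact rowsRange_sound data M 1187 66104 rows56 k (by omega) (by omega)
            · skip
              by_cases hh60 : k < 68474
              · skip
                exact rowsRange_sound data M 1183 67291 rows57 k (by omega) (by omega)
              · skip
                by_cases hh61 : k < 69645
                · skip
                  exact rowsRange_sound data M 1171 68474 rows58 k (by omega) (by omega)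
                · skip
                  exact rowsRange_sound data M 1169 69645 rows59 k (by omega) (by omega)
      · skip
        by_cases hh62 : k < 82586
        · skip
          by_cases hh63 : k < 76700
          · skip
            by_cases hh64 : k < 73160
            · skip
              by_cases hh65 : k < 71986
              · skip
                exact rowsRange_sound data M 1172 70814 rows60 k (by omega) (by omega)
              · skip
                exact rowsRange_sound data M 1174 71986 rows61 k (by omega) (by omega)
            · skip
              by_cases hh66 : k < 74347
              · skip
                exact rowsRange_sound data M 1187 73160 rows62 k (by omega) (by omega)
              · skip
                by_cases hh67 : k < 75522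
                · skip
                  exact rowsRange_sound data M 1175 74347 rows63 k (by omega) (by omega)
                · skip
                  exact rowsRange_sound data M 1178 75522 rows64 k (by omega) (by omega)
          · skip
            by_cases hh68 : k < 79040
            · skip
              by_cases hh69 : k < 77870
              · skip
                exact rowsRange_sound data M 1170 76700 rows65 k (by omega) (by omega)
              · skip
                exact rowsRange_sound data M 1170 77870 rows66 k (by omega) (by omega)
            · skip
              by_cases hh70 : k < 80220
              · skip
                exact rowsRange_sound data M 1180 79040 rows67 k (by omega) (by omega)
              · skip
                by_cases hh71 : k < 81413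
                · skip
                  exact rowsRange_sound data M 1193 80220 rows68 k (by omega) (by omega)
                · skip
                  exact rowsRange_sound data M 1173 81413 rows69 k (by omega) (by omega)
        · skip
          by_cases hh72 : k < 88454
          · skip
            by_cases hh73 : k < 84942
            · skip
              by_cases hh74 : k < 83772
              · skip
                exact rowsRange_sound data M 1186 82586 rows70 k (by omega) (by omega)
              · skip
                exact rowsRange_sound data M 1170 83772 rows71 k (by omega) (by omega)
            · skip
              by_cases hh75 : k < 86109
              · skip
                exact rowsRange_sound data M 1167 84942 rows72 k (by omega) (by omega)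
              · skip
                by_cases hh76 : k < 87283
                · skip
                  exact rowsRange_sound data M 1174 86109 rows73 k (by omega) (by omega)
                · skip
                  exact rowsRange_sound data M 1171 87283 rows74 k (by omega) (by omega)
          · skip
            by_cases hh77 : k < 91984
            · skip
              by_cases hh78 : k < 89633
              · skip
                exact rowsRange_sound data M 1179 88454 rows75 k (by omega) (by omega)
              · skip
                by_cases hh79 : k < 90818
                · skip
                  exact rowsRange_sound data M 1185 89633 rows76 k (by omega) (by omega)
                · skip
                  exact rowsRange_sound data M 1166 90818 rows77 k (by omega) (by omega)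
            · skip
              by_cases hh80 : k < 93157
              · skip
                exact rowsRange_sound data M 1173 91984 rows78 k (by omega) (by omega)
              · skip
                by_cases hh81 : k < 94348
                · skip
                  exact rowsRange_sound data M 1191 93157 rows79 k (by omega) (by omega)
                · skip
                  exact rowsRange_sound data M 1173 94348 rows80 k (by omega) (by omega)
  · skip
    by_cases hh82 : k < 142375
    · skip
      by_cases hh83 : k < 119012
      · skip
        by_cases hh84 : k < 107264
        · skip
          by_cases hh85 : k < 101374
          · skip
            by_cases hh86 : k < 97860
            · skip
              by_cases hh87 : k < 96686
              · skip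
                exact rowsRange_sound data M 1165 95521 rows81 k (by omega) (by omega)
              · skip
                exact rowsRange_sound data M 1174 96686 rows82 k (by omega) (by omega)
            · skip
              by_cases hh88 : k < 99031
              · skip
                exact rowsRange_sound data M 1171 97860 rows83 k (by omega) (by omega)
              · skip
                by_cases hh89 : k < 100205
                · skip
                  exact rowsRange_sound data M 1174 99031 rows84 k (by omega) (by omega)
                · skip
                  exact rowsRange_sound data M 1169 100205 rows85 k (by omega) (by omega)
          · skip
            by_cases hh90 : k < 103723
            · skip
              by_cases hh91 : k < 102542
              · skip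
                exact rowsRange_sound data M 1168 101374 rows86 k (by omega) (by omega)
              · skip
                exact rowsRange_sound data M 1181 102542 rows87 k (by omega) (by omega)
            · skip
              by_cases hh92 : k < 104907
              · skip
                exact rowsRange_sound data M 1184 103723 rows88 k (by omega) (by omega)
              · skip
                by_cases hh93 : k < 106083
                · skip
                  exact rowsRange_sound data M 1176 104907 rows89 k (by omega) (by omega)
                · skip
                  exact rowsRange_sound data M 1181 106083 rows90 k (by omega) (by omega)
        · skip
          by_cases hh94 : k < 113123
          · skip
            by_cases hh95 : k < 109607
            · skip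
              by_cases hh96 : k < 108437
              · skip
                exact rowsRange_sound data M 1173 107264 rows91 k (by omega) (by omega)
              · skip
                exact rowsRange_sound data M 1170 108437 rows92 k (by omega) (by omega)
            · skip
              by_cases hh97 : k < 110773
              · skip
                exact rowsRange_sound data M 1166 109607 rows93 k (by omega) (by omega)
              · skip
                by_cases hh98 : k < 111948
                · skip
                  exact rowsRange_sound data M 1175 110773 rows94 k (by omega) (by omega)
                · skip
                  exact rowsRange_sound data M 1175 111948 rows95 k (by omega) (by omega)
          · skip
            by_cases hh99 : k < 115479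
            · skip
              by_cases hh100 : k < 114311
              · skip
                exact rowsRange_sound data M 1188 113123 rows96 k (by omega) (by omega)
              · skip
                exact rowsRange_sound data M 1168 114311 rows97 k (by omega) (by omega)
            · skip
              by_cases hh101 : k < 116645
              · skip
                exact rowsRange_sound data M 1166 115479 rows98 k (by omega) (by omega)
              · skip
                by_cases hh102 : k < 117816
                · skip
                  exact rowsRange_sound data M 1171 116645 rows99 k (by omega) (by omega)
                · skip
                  exact rowsRange_sound data M 1196 117816 rows100 k (by omega) (by omega)
      · skip
        by_cases hh103 : k < 130701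
        · skip
          by_cases hh104 : k < 124860
          · skip
            by_cases hh105 : k < 121353
            · skip
              by_cases hh106 : k < 120186
              · skip
                exact rowsRange_sound data M 1174 119012 rows101 k (by omega) (by omega)
              · skip
                exact rowsRange_sound data M 1167 120186 rows102 k (by omega) (by omega)
            · skip
              by_cases hh107 : k < 122520
              · skip
                exact rowsRange_sound data M 1167 121353 rows103 k (by omega) (by omega)
              · skip
                by_cases hh108 : k < 123691
                · skip
                  exact rowsRange_sound data M 1171 122520 rows104 k (by omega) (by omega)
                · skip
                  exact rowsRange_sound data M 1169 123691 rows105 k (by omega) (by omega)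
          · skip
            by_cases hh109 : k < 127187
            · skip
              by_cases hh110 : k < 126024
              · skip
                exact rowsRange_sound data M 1164 124860 rows106 k (by omega) (by omega)
              · skip
                exact rowsRange_sound data M 1163 126024 rows107 k (by omega) (by omega)
            · skip
              by_cases hh111 : k < 128358
              · skip
                exact rowsRange_sound data M 1171 127187 rows108 k (by omega) (by omega)
              · skip
                by_cases hh112 : k < 129530
                · skip
                  exact rowsRange_sound data M 1172 128358 rows109 k (by omega) (by omega)
                · skip
                  exact rowsRange_sound data M 1171 129530 rows110 k (by omega) (by omega)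
        · skip
          by_cases hh113 : k < 136543
          · skip
            by_cases hh114 : k < 133036
            · skip
              by_cases hh115 : k < 131870
              · skip
                exact rowsRange_sound data M 1169 130701 rows111 k (by omega) (by omega)
              · skip
                exact rowsRange_sound data M 1166 131870 rows112 k (by omega) (by omega)
            · skip
              by_cases hh116 : k < 134207
              · skip
                exact rowsRange_sound data M 1171 133036 rows113 k (by omega) (by omega)
              · skip
                by_cases hh117 : k < 135375
                · skip
                  exact rowsRange_sound data M 1168 134207 rows114 k (by omega) (by omega)
                · skip
                  exact rowsRange_sound data M 1168 135375 rows115 k (by omega) (by omega)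
          · skip
            by_cases hh118 : k < 138877
            · skip
              by_cases hh119 : k < 137708
              · skip
                exact rowsRange_sound data M 1165 136543 rows116 k (by omega) (by omega)
              · skip
                exact rowsRange_sound data M 1169 137708 rows117 k (by omega) (by omega)
            · skip
              by_cases hh120 : k < 140048
              · skip
                exact rowsRange_sound data M 1171 138877 rows118 k (by omega) (by omega)
              · skip
                by_cases hh121 : k < 141212
                · skip
                  exact rowsRange_sound data M 1164 140048 rows119 k (by omega) (by omega)
                · skip
                  exact rowsRange_sound data M 1163 141212 rows120 k (by omega) (by omega)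
    · skip
      by_cases hh122 : k < 165703
      · skip
        by_cases hh123 : k < 154034
        · skip
          by_cases hh124 : k < 148203
          · skip
            by_cases hh125 : k < 144706
            · skip
              by_cases hh126 : k < 143541
              · skip
                exact rowsRange_sound data M 1166 142375 rows121 k (by omega) (by omega)
              · skip
                exact rowsRange_sound data M 1165 143541 rows122 k (by omega) (by omega)
            · skip
              by_cases hh127 : k < 145873
              · skip
                exact rowsRange_sound data M 1167 144706 rows123 k (by omega) (by omega)
              · skip
                by_cases hh128 : k < 147039
                · skip
                  exact rowsRange_sound data M 1166 145873 rows124 k (by omega) (by omega)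
                · skip
                  exact rowsRange_sound data M 1164 147039 rows125 k (by omega) (by omega)
          · skip
            by_cases hh129 : k < 150539
            · skip
              by_cases hh130 : k < 149370
              · skip
                exact rowsRange_sound data M 1167 148203 rows126 k (by omega) (by omega)
              · skip
                exact rowsRange_sound data M 1169 149370 rows127 k (by omega) (by omega)
            · skip
              by_cases hh131 : k < 151705
              · skip
                exact rowsRange_sound data M 1166 150539 rows128 k (by omega) (by omega)
              · skip
                by_cases hh132 : k < 152870
                · skip
                  exact rowsRange_sound data M 1165 151705 rows129 k (by omega) (by omega)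
                · skip
                  exact rowsRange_sound data M 1164 152870 rows130 k (by omega) (by omega)
        · skip
          by_cases hh133 : k < 159874
          · skip
            by_cases hh134 : k < 156371
            · skip
              by_cases hh135 : k < 155202
              · skip
                exact rowsRange_sound data M 1168 154034 rows131 k (by omega) (by omega)
              · skip
                exact rowsRange_sound data M 1169 155202 rows132 k (by omega) (by omega)
            · skip
              by_cases hh136 : k < 157542
              · skip
                exact rowsRange_sound data M 1171 156371 rows133 k (by omega) (by omega)
              · skip
                by_cases hh137 : k < 158709
                · skip
                  exact rowsRange_sound data M 1167 157542 rows134 k (by omega) (by omega)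
                · skip
                  exact rowsRange_sound data M 1165 158709 rows135 k (by omega) (by omega)
          · skip
            by_cases hh138 : k < 162207
            · skip
              by_cases hh139 : k < 161044
              · skip
                exact rowsRange_sound data M 1170 159874 rows136 k (by omega) (by omega)
              · skip
                exact rowsRange_sound data M 1163 161044 rows137 k (by omega) (by omega)
            · skip
              by_cases hh140 : k < 163373
              · skip
                exact rowsRange_sound data M 1166 162207 rows138 k (by omega) (by omega)
              · skip
                by_cases hh141 : k < 164536
                · skip
                  exact rowsRange_sound data M 1163 163373 rows139 k (by omega) (by omega)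
                · skip
                  exact rowsRange_sound data M 1167 164536 rows140 k (by omega) (by omega)
      · skip
        by_cases hh142 : k < 177343
        · skip
          by_cases hh143 : k < 171525
          · skip
            by_cases hh144 : k < 168034
            · skip
              by_cases hh145 : k < 166866
              · skip
                exact rowsRange_sound data M 1163 165703 rows141 k (by omega) (by omega)
              · skip
                exact rowsRange_sound data M 1168 166866 rows142 k (by omega) (by omega)
            · skip
              by_cases hh146 : k < 169199
              · skip
                exact rowsRange_sound data M 1165 168034 rows143 k (by omega) (by omega)
              · skip
                by_cases hh147 : k < 170362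
                · skip
                  exact rowsRange_sound data M 1163 169199 rows144 k (by omega) (by omega)
                · skip
                  exact rowsRange_sound data M 1163 170362 rows145 k (by omega) (by omega)
          · skip
            by_cases hh148 : k < 173853
            · skip
              by_cases hh149 : k < 172689
              · skip
                exact rowsRange_sound data M 1164 171525 rows146 k (by omega) (by omega)
              · skip
                exact rowsRange_sound data M 1164 172689 rows147 k (by omega) (by omega)
            · skip
              by_cases hh150 : k < 175017
              · skip
                exact rowsRange_sound data M 1164 173853 rows148 k (by omega) (by omega)
              · skip
                by_cases hh151 : k < 176180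
                · skip
                  exact rowsRange_sound data M 1163 175017 rows149 k (by omega) (by omega)
                · skip
                  exact rowsRange_sound data M 1163 176180 rows150 k (by omega) (by omega)
        · skip
          by_cases hh152 : k < 183165
          · skip
            by_cases hh153 : k < 179669
            · skip
              by_cases hh154 : k < 178506
              · skip
                exact rowsRange_sound data M 1163 177343 rows151 k (by omega) (by omega)
              · skip
                exact rowsRange_sound data M 1163 178506 rows152 k (by omega) (by omega)
            · skip
              by_cases hh155 : k < 180837
              · skip
                exact rowsRange_sound data M 1168 179669 rows153 k (by omega) (by omega)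
              · skip
                by_cases hh156 : k < 182000
                · skip
                  exact rowsRange_sound data M 1163 180837 rows154 k (by omega) (by omega)
                · skip
                  exact rowsRange_sound data M 1165 182000 rows155 k (by omega) (by omega)
          · skip
            by_cases hh157 : k < 186654
            · skip
              by_cases hh158 : k < 184328
              · skip
                exact rowsRange_sound data M 1163 183165 rows156 k (by omega) (by omega)
              · skip
                by_cases hh159 : k < 185491
                · skip
                  exact rowsRange_sound data M 1163 184328 rows157 k (by omega) (by omega)
                · skip
                  exact rowsRange_sound data M 1163 185491 rows158 k (by omega) (by omega)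
            · skip
              by_cases hh160 : k < 187817
              · skip
                exact rowsRange_sound data M 1163 186654 rows159 k (by omega) (by omega)
              · skip
                by_cases hh161 : k < 188980
                · skip
                  exact rowsRange_sound data M 1163 187817 rows160 k (by omega) (by omega)
                · skip
                  exact rowsRange_sound data M 188 188980 rows161 k (by omega) (by omega)

theorem cnt_ok : countFinal data M 0 0 = n := by
  have c0 : countFinal data 50000 0 0 = 49253 := cnt0
  have c1 : countFinal data (50000 + 50000) 0 0 = 49253 + 49391 :=
    countFinal_split data (50000) 50000 0 50000 (49253) 49391 (by norm_num) c0 cnt1
  have c2 : countFinal data (50000 + 50000 + 50000) 0 0 = 49253 + 49391 + 49675 :=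
    countFinal_split data (50000 + 50000) 50000 0 100000 (49253 + 49391) 49675 (by norm_num) c1 cnt2
  have c3 : countFinal data (50000 + 50000 + 50000 + 39168) 0 0 = 49253 + 49391 + 49675 + 39106 :=
    countFinal_split data (50000 + 50000 + 50000) 39168 0 150000 (49253 + 49391 + 49675) 39106 (by norm_num) c2 cnt3
  have e1 : 50000 + 50000 + 50000 + 39168 = M := by norm_num [M]
  have e2 : 49253 + 49391 + 49675 + 39106 = n := by norm_num [n]
  rw [← e1, ← e2]
  exact c3

abbrev Rset : Set (FreeGroup Cfsg.Spor.He.Gen) := Cfsg.Spor.coxRelators Cfsg.Spor.He.edges ∪ {r | r ∈ Cfsg.Spor.He.extra}
abbrev Sset : Set (FreeGroup Cfsg.Spor.He.Gen) := {Cfsg.Spor.He.a, Cfsg.Spor.He.b, Cfsg.Spor.He.f * Cfsg.Spor.He.d * Cfsg.Spor.He.c * Cfsg.Spor.He.d * Cfsg.Spor.He.f, Cfsg.Spor.He.g * Cfsg.Spor.He.d * Cfsg.Spor.He.c * Cfsg.Spor.He.d * Cfsg.Spor.He.g}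
def SL : List (FreeGroup Cfsg.Spor.He.Gen) := [Cfsg.Spor.He.a, Cfsg.Spor.He.b, Cfsg.Spor.He.f * Cfsg.Spor.He.d * Cfsg.Spor.He.c * Cfsg.Spor.He.d * Cfsg.Spor.He.f, Cfsg.Spor.He.g * Cfsg.Spor.He.d * Cfsg.Spor.He.c * Cfsg.Spor.He.d * Cfsg.Spor.He.g]

theorem mem_S (s : FreeGroup Cfsg.Spor.He.Gen) : s ∈ Sset ↔ s ∈ SL := by
  simp only [Sset, SL, Set.mem_insert_iff, Set.mem_singleton_iff, List.mem_cons, List.not_mem_nil, or_false]

theorem hR1 : ∀ r ∈ Rset, ∃ b ∈ bases, r = wordF dec b := by
  intro r hr
  rw [mem_rels_iff] at hr
  revert r
  decide +kernel

theorem hR2 : ∀ b ∈ bases, wordF dec b ∈ Rset := by
  intro b hb
  rw [mem_rels_iff]
  revert b
  decide +kernel

theorem hS1 : ∀ s ∈ Sset, ∃ b ∈ subsL, s = wordF dec b := by
  intro s hs
  rw [mem_S] at hs
  revert s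
  decide +kernel

theorem hS2 : ∀ b ∈ subsL, wordF dec b ∈ Sset := by
  intro b hb
  rw [mem_S]
  revert b
  decide +kernel

theorem bound : Finite (PresentedGroup Rset ⧸ (Subgroup.closure Sset).map (PresentedGroup.mk Rset)) ∧
    Nat.card (PresentedGroup Rset ⧸ (Subgroup.closure Sset).map (PresentedGroup.mk Rset)) ≤ n :=
  tc_bound data bases subsL rots coding hR2 hS2 words_ok allE allM M n fin0_ok (by decide) (by decide) cnt_ok rows_all

theorem model_ok : ModelOK mdata bases subsL := by
  refine ⟨by decide, ?_, ?_, wordsLettersOK_sound _ _ relc_ok, wordsLettersOK_sound _ _ subc_ok,
    sub0OK_sound _ _ sub0_ok, ?_⟩
  · intro k hk
    have hk' : k < 187425 := hk
    by_cases hh1 : k < 93296
    · skip
      by_cases hh2 : k < 45696
      · skip
        by_cases hh3 : k < 22848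
        · skip
          by_cases hh4 : k < 11424
          · skip
            by_cases hh5 : k < 5712
            · skip
              by_cases hh6 : k < 1904
              · skip
                exact invRange_sound mdata 1904 0 inv0 k (by omega) (by omega)
              · skip
                by_cases hh7 : k < 3808
                · skip
                  exact invRange_sound mdata 1904 1904 inv1 k (by omega) (by omega)
                · skip
                  exact invRange_sound mdata 1904 3808 inv2 k (by omega) (by omega)
            · skip
              by_cases hh8 : k < 7616
              · skip
                exact invRange_sound mdata 1904 5712 inv3 k (by omega) (by omega)
              · skip
                by_cases hh9 : k < 9520
                · skip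
                  exact invRange_sound mdata 1904 7616 inv4 k (by omega) (by omega)
                · skip
                  exact invRange_sound mdata 1904 9520 inv5 k (by omega) (by omega)
          · skip
            by_cases hh10 : k < 17136
            · skip
              by_cases hh11 : k < 13328
              · skip
                exact invRange_sound mdata 1904 11424 inv6 k (by omega) (by omega)
              · skip
                by_cases hh12 : k < 15232
                · skip
                  exact invRange_sound mdata 1904 13328 inv7 k (by omega) (by omega)
                · skip
                  exact invRange_sound mdata 1904 15232 inv8 k (by omega) (by omega)
            · skip
              by_cases hh13 : k < 19040
              · skip
                exact invRange_sound mdata 1904 17136 inv9 k (by omega) (by omega)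
              · skip
                by_cases hh14 : k < 20944
                · skip
                  exact invRange_sound mdata 1904 19040 inv10 k (by omega) (by omega)
                · skip
                  exact invRange_sound mdata 1904 20944 inv11 k (by omega) (by omega)
        · skip
          by_cases hh15 : k < 34272
          · skip
            by_cases hh16 : k < 28560
            · skip
              by_cases hh17 : k < 24752
              · skip
                exact invRange_sound mdata 1904 22848 inv12 k (by omega) (by omega)
              · skip
                by_cases hh18 : k < 26656
                · skip
                  exact invRange_sound mdata 1904 24752 inv13 k (by omega) (by omega)
                · skip
                  exact invRange_sound mdata 1904 26656 inv14 k (by omega) (by omega)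
            · skip
              by_cases hh19 : k < 30464
              · skip
                exact invRange_sound mdata 1904 28560 inv15 k (by omega) (by omega)
              · skip
                by_cases hh20 : k < 32368
                · skip
                  exact invRange_sound mdata 1904 30464 inv16 k (by omega) (by omega)
                · skip
                  exact invRange_sound mdata 1904 32368 inv17 k (by omega) (by omega)
          · skip
            by_cases hh21 : k < 39984
            · skip
              by_cases hh22 : k < 36176
              · skip
                exact invRange_sound mdata 1904 34272 inv18 k (by omega) (by omega)
              · skip
                by_cases hh23 : k < 38080
                · skip
                  exact invRange_sound mdata 1904 36176 inv19 k (by omega) (by omega)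
                · skip
                  exact invRange_sound mdata 1904 38080 inv20 k (by omega) (by omega)
            · skip
              by_cases hh24 : k < 41888
              · skip
                exact invRange_sound mdata 1904 39984 inv21 k (by omega) (by omega)
              · skip
                by_cases hh25 : k < 43792
                · skip
                  exact invRange_sound mdata 1904 41888 inv22 k (by omega) (by omega)
                · skip
                  exact invRange_sound mdata 1904 43792 inv23 k (by omega) (by omega)
      · skip
        by_cases hh26 : k < 68544
        · skip
          by_cases hh27 : k < 57120
          · skip
            by_cases hh28 : k < 51408
            · skip
              by_cases hh29 : k < 47600
              · skip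
                exact invRange_sound mdata 1904 45696 inv24 k (by omega) (by omega)
              · skip
                by_cases hh30 : k < 49504
                · skip
                  exact invRange_sound mdata 1904 47600 inv25 k (by omega) (by omega)
                · skip
                  exact invRange_sound mdata 1904 49504 inv26 k (by omega) (by omega)
            · skip
              by_cases hh31 : k < 53312
              · skip
                exact invRange_sound mdata 1904 51408 inv27 k (by omega) (by omega)
              · skip
                by_cases hh32 : k < 55216
                · skip
                  exact invRange_sound mdata 1904 53312 inv28 k (by omega) (by omega)
                · skip
                  exact invRange_sound mdata 1904 55216 inv29 k (by omega) (by omega)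
          · skip
            by_cases hh33 : k < 62832
            · skip
              by_cases hh34 : k < 59024
              · skip
                exact invRange_sound mdata 1904 57120 inv30 k (by omega) (by omega)
              · skip
                by_cases hh35 : k < 60928
                · skip
                  exact invRange_sound mdata 1904 59024 inv31 k (by omega) (by omega)
                · skip
                  exact invRange_sound mdata 1904 60928 inv32 k (by omega) (by omega)
            · skip
              by_cases hh36 : k < 64736
              · skip
                exact invRange_sound mdata 1904 62832 inv33 k (by omega) (by omega)
              · skip
                by_cases hh37 : k < 66640
                · skip
                  exact invRange_sound mdata 1904 64736 inv34 k (by omega) (by omega)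
                · skip
                  exact invRange_sound mdata 1904 66640 inv35 k (by omega) (by omega)
        · skip
          by_cases hh38 : k < 79968
          · skip
            by_cases hh39 : k < 74256
            · skip
              by_cases hh40 : k < 70448
              · skip
                exact invRange_sound mdata 1904 68544 inv36 k (by omega) (by omega)
              · skip
                by_cases hh41 : k < 72352
                · skip
                  exact invRange_sound mdata 1904 70448 inv37 k (by omega) (by omega)
                · skip
                  exact invRange_sound mdata 1904 72352 inv38 k (by omega) (by omega)
            · skip
              by_cases hh42 : k < 76160
              · skip
                exact invRange_sound mdata 1904 74256 inv39 k (by omega) (by omega)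
              · skip
                by_cases hh43 : k < 78064
                · skip
                  exact invRange_sound mdata 1904 76160 inv40 k (by omega) (by omega)
                · skip
                  exact invRange_sound mdata 1904 78064 inv41 k (by omega) (by omega)
          · skip
            by_cases hh44 : k < 85680
            · skip
              by_cases hh45 : k < 81872
              · skip
                exact invRange_sound mdata 1904 79968 inv42 k (by omega) (by omega)
              · skip
                by_cases hh46 : k < 83776
                · skip
                  exact invRange_sound mdata 1904 81872 inv43 k (by omega) (by omega)
                · skip
                  exact invRange_sound mdata 1904 83776 inv44 k (by omega) (by omega)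
            · skip
              by_cases hh47 : k < 89488
              · skip
                by_cases hh48 : k < 87584
                · skip
                  exact invRange_sound mdata 1904 85680 inv45 k (by omega) (by omega)
                · skip
                  exact invRange_sound mdata 1904 87584 inv46 k (by omega) (by omega)
              · skip
                by_cases hh49 : k < 91392
                · skip
                  exact invRange_sound mdata 1904 89488 inv47 k (by omega) (by omega)
                · skip
                  exact invRange_sound mdata 1904 91392 inv48 k (by omega) (by omega)
    · skip
      by_cases hh50 : k < 140896
      · skip
        by_cases hh51 : k < 116144
        · skip
          by_cases hh52 : k < 104720
          · skip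
            by_cases hh53 : k < 99008
            · skip
              by_cases hh54 : k < 95200
              · skip
                exact invRange_sound mdata 1904 93296 inv49 k (by omega) (by omega)
              · skip
                by_cases hh55 : k < 97104
                · skip
                  exact invRange_sound mdata 1904 95200 inv50 k (by omega) (by omega)
                · skip
                  exact invRange_sound mdata 1904 97104 inv51 k (by omega) (by omega)
            · skip
              by_cases hh56 : k < 100912
              · skip
                exact invRange_sound mdata 1904 99008 inv52 k (by omega) (by omega)
              · skip
                by_cases hh57 : k < 102816
                · skip
                  exact invRange_sound mdata 1904 100912 inv53 k (by omega) (by omega)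
                · skip
                  exact invRange_sound mdata 1904 102816 inv54 k (by omega) (by omega)
          · skip
            by_cases hh58 : k < 110432
            · skip
              by_cases hh59 : k < 106624
              · skip
                exact invRange_sound mdata 1904 104720 inv55 k (by omega) (by omega)
              · skip
                by_cases hh60 : k < 108528
                · skip
                  exact invRange_sound mdata 1904 106624 inv56 k (by omega) (by omega)
                · skip
                  exact invRange_sound mdata 1904 108528 inv57 k (by omega) (by omega)
            · skip
              by_cases hh61 : k < 112336
              · skip
                exact invRange_sound mdata 1904 110432 inv58 k (by omega) (by omega)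
              · skip
                by_cases hh62 : k < 114240
                · skip
                  exact invRange_sound mdata 1904 112336 inv59 k (by omega) (by omega)
                · skip
                  exact invRange_sound mdata 1904 114240 inv60 k (by omega) (by omega)
        · skip
          by_cases hh63 : k < 127568
          · skip
            by_cases hh64 : k < 121856
            · skip
              by_cases hh65 : k < 118048
              · skip
                exact invRange_sound mdata 1904 116144 inv61 k (by omega) (by omega)
              · skip
                by_cases hh66 : k < 119952
                · skip
                  exact invRange_sound mdata 1904 118048 inv62 k (by omega) (by omega)
                · skip
                  exact invRange_sound mdata 1904 119952 inv63 k (by omega) (by omega)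
            · skip
              by_cases hh67 : k < 123760
              · skip
                exact invRange_sound mdata 1904 121856 inv64 k (by omega) (by omega)
              · skip
                by_cases hh68 : k < 125664
                · skip
                  exact invRange_sound mdata 1904 123760 inv65 k (by omega) (by omega)
                · skip
                  exact invRange_sound mdata 1904 125664 inv66 k (by omega) (by omega)
          · skip
            by_cases hh69 : k < 133280
            · skip
              by_cases hh70 : k < 129472
              · skip
                exact invRange_sound mdata 1904 127568 inv67 k (by omega) (by omega)
              · skip
                by_cases hh71 : k < 131376
                · skip
                  exact invRange_sound mdata 1904 129472 inv68 k (by omega) (by omega)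
                · skip
                  exact invRange_sound mdata 1904 131376 inv69 k (by omega) (by omega)
            · skip
              by_cases hh72 : k < 137088
              · skip
                by_cases hh73 : k < 135184
                · skip
                  exact invRange_sound mdata 1904 133280 inv70 k (by omega) (by omega)
                · skip
                  exact invRange_sound mdata 1904 135184 inv71 k (by omega) (by omega)
              · skip
                by_cases hh74 : k < 138992
                · skip
                  exact invRange_sound mdata 1904 137088 inv72 k (by omega) (by omega)
                · skip
                  exact invRange_sound mdata 1904 138992 inv73 k (by omega) (by omega)
      · skip
        by_cases hh75 : k < 163744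
        · skip
          by_cases hh76 : k < 152320
          · skip
            by_cases hh77 : k < 146608
            · skip
              by_cases hh78 : k < 142800
              · skip
                exact invRange_sound mdata 1904 140896 inv74 k (by omega) (by omega)
              · skip
                by_cases hh79 : k < 144704
                · skip
                  exact invRange_sound mdata 1904 142800 inv75 k (by omega) (by omega)
                · skip
                  exact invRange_sound mdata 1904 144704 inv76 k (by omega) (by omega)
            · skip
              by_cases hh80 : k < 148512
              · skip
                exact invRange_sound mdata 1904 146608 inv77 k (by omega) (by omega)
              · skip
                by_cases hh81 : k < 150416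
                · skip
                  exact invRange_sound mdata 1904 148512 inv78 k (by omega) (by omega)
                · skip
                  exact invRange_sound mdata 1904 150416 inv79 k (by omega) (by omega)
          · skip
            by_cases hh82 : k < 158032
            · skip
              by_cases hh83 : k < 154224
              · skip
                exact invRange_sound mdata 1904 152320 inv80 k (by omega) (by omega)
              · skip
                by_cases hh84 : k < 156128
                · skip
                  exact invRange_sound mdata 1904 154224 inv81 k (by omega) (by omega)
                · skip
                  exact invRange_sound mdata 1904 156128 inv82 k (by omega) (by omega)
            · skip
              by_cases hh85 : k < 159936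
              · skip
                exact invRange_sound mdata 1904 158032 inv83 k (by omega) (by omega)
              · skip
                by_cases hh86 : k < 161840
                · skip
                  exact invRange_sound mdata 1904 159936 inv84 k (by omega) (by omega)
                · skip
                  exact invRange_sound mdata 1904 161840 inv85 k (by omega) (by omega)
        · skip
          by_cases hh87 : k < 175168
          · skip
            by_cases hh88 : k < 169456
            · skip
              by_cases hh89 : k < 165648
              · skip
                exact invRange_sound mdata 1904 163744 inv86 k (by omega) (by omega)
              · skip
                by_cases hh90 : k < 167552
                · skip
                  exact invRange_sound mdata 1904 165648 inv87 k (by omega) (by omega)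
                · skip
                  exact invRange_sound mdata 1904 167552 inv88 k (by omega) (by omega)
            · skip
              by_cases hh91 : k < 171360
              · skip
                exact invRange_sound mdata 1904 169456 inv89 k (by omega) (by omega)
              · skip
                by_cases hh92 : k < 173264
                · skip
                  exact invRange_sound mdata 1904 171360 inv90 k (by omega) (by omega)
                · skip
                  exact invRange_sound mdata 1904 173264 inv91 k (by omega) (by omega)
          · skip
            by_cases hh93 : k < 180880
            · skip
              by_cases hh94 : k < 177072
              · skip
                exact invRange_sound mdata 1904 175168 inv92 k (by omega) (by omega)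
              · skip
                by_cases hh95 : k < 178976
                · skip
                  exact invRange_sound mdata 1904 177072 inv93 k (by omega) (by omega)
                · skip
                  exact invRange_sound mdata 1904 178976 inv94 k (by omega) (by omega)
            · skip
              by_cases hh96 : k < 184688
              · skip
                by_cases hh97 : k < 182784
                · skip
                  exact invRange_sound mdata 1904 180880 inv95 k (by omega) (by omega)
                · skip
                  exact invRange_sound mdata 1904 182784 inv96 k (by omega) (by omega)
              · skip
                by_cases hh98 : k < 186592
                · skip
                  exact invRange_sound mdata 1904 184688 inv97 k (by omega) (by omega)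
                · skip
                  exact invRange_sound mdata 833 186592 inv98 k (by omega) (by omega)
  · intro k hk
    have hk' : k < 187425 := hk
    by_cases hh1 : k < 93626
    · skip
      by_cases hh2 : k < 46813
      · skip
        by_cases hh3 : k < 23268
        · skip
          by_cases hh4 : k < 11634
          · skip
            by_cases hh5 : k < 5817
            · skip
              by_cases hh6 : k < 2770
              · skip
                by_cases hh7 : k < 1385
                · skip
                  by_cases hh8 : k < 554
                  · skip
                    by_cases hh9 : k < 277
                    · skip
                      exact relsRange_sound mdata bases 277 0 rel0 k (by omega) (by omega)
                    · skip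
                      exact relsRange_sound mdata bases 277 277 rel1 k (by omega) (by omega)
                  · skip
                    by_cases hh10 : k < 831
                    · skip
                      exact relsRange_sound mdata bases 277 554 rel2 k (by omega) (by omega)
                    · skip
                      by_cases hh11 : k < 1108
                      · skip
                        exact relsRange_sound mdata bases 277 831 rel3 k (by omega) (by omega)
                      · skip
                        exact relsRange_sound mdata bases 277 1108 rel4 k (by omega) (by omega)
                · skip
                  by_cases hh12 : k < 1939
                  · skip
                    by_cases hh13 : k < 1662
                    · skip
                      exact relsRange_sound mdata bases 277 1385 rel5 k (by omega) (by omega)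
                    · skip
                      exact relsRange_sound mdata bases 277 1662 rel6 k (by omega) (by omega)
                  · skip
                    by_cases hh14 : k < 2216
                    · skip
                      exact relsRange_sound mdata bases 277 1939 rel7 k (by omega) (by omega)
                    · skip
                      by_cases hh15 : k < 2493
                      · skip
                        exact relsRange_sound mdata bases 277 2216 rel8 k (by omega) (by omega)
                      · skip
                        exact relsRange_sound mdata bases 277 2493 rel9 k (by omega) (by omega)
              · skip
                by_cases hh16 : k < 4155
                · skip
                  by_cases hh17 : k < 3324
                  · skip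
                    by_cases hh18 : k < 3047
                    · skip
                      exact relsRange_sound mdata bases 277 2770 rel10 k (by omega) (by omega)
                    · skip
                      exact relsRange_sound mdata bases 277 3047 rel11 k (by omega) (by omega)
                  · skip
                    by_cases hh19 : k < 3601
                    · skip
                      exact relsRange_sound mdata bases 277 3324 rel12 k (by omega) (by omega)
                    · skip
                      by_cases hh20 : k < 3878
                      · skip
                        exact relsRange_sound mdata bases 277 3601 rel13 k (by omega) (by omega)
                      · skip
                        exact relsRange_sound mdata bases 277 3878 rel14 k (by omega) (by omega)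
                · skip
                  by_cases hh21 : k < 4986
                  · skip
                    by_cases hh22 : k < 4432
                    · skip
                      exact relsRange_sound mdata bases 277 4155 rel15 k (by omega) (by omega)
                    · skip
                      by_cases hh23 : k < 4709
                      · skip
                        exact relsRange_sound mdata bases 277 4432 rel16 k (by omega) (by omega)
                      · skip
                        exact relsRange_sound mdata bases 277 4709 rel17 k (by omega) (by omega)
                  · skip
                    by_cases hh24 : k < 5263
                    · skip
                      exact relsRange_sound mdata bases 277 4986 rel18 k (by omega) (by omega)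
                    · skip
                      by_cases hh25 : k < 5540
                      · skip
                        exact relsRange_sound mdata bases 277 5263 rel19 k (by omega) (by omega)
                      · skip
                        exact relsRange_sound mdata bases 277 5540 rel20 k (by omega) (by omega)
            · skip
              by_cases hh26 : k < 8587
              · skip
                by_cases hh27 : k < 7202
                · skip
                  by_cases hh28 : k < 6371
                  · skip
                    by_cases hh29 : k < 6094
                    · skip
                      exact relsRange_sound mdata bases 277 5817 rel21 k (by omega) (by omega)
                    · skip
                      exact relsRange_sound mdata bases 277 6094 rel22 k (by omega) (by omega)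
                  · skip
                    by_cases hh30 : k < 6648
                    · skip
                      exact relsRange_sound mdata bases 277 6371 rel23 k (by omega) (by omega)
                    · skip
                      by_cases hh31 : k < 6925
                      · skip
                        exact relsRange_sound mdata bases 277 6648 rel24 k (by omega) (by omega)
                      · skip
                        exact relsRange_sound mdata bases 277 6925 rel25 k (by omega) (by omega)
                · skip
                  by_cases hh32 : k < 7756
                  · skip
                    by_cases hh33 : k < 7479
                    · skip
                      exact relsRange_sound mdata bases 277 7202 rel26 k (by omega) (by omega)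
                    · skip
                      exact relsRange_sound mdata bases 277 7479 rel27 k (by omega) (by omega)
                  · skip
                    by_cases hh34 : k < 8033
                    · skip
                      exact relsRange_sound mdata bases 277 7756 rel28 k (by omega) (by omega)
                    · skip
                      by_cases hh35 : k < 8310
                      · skip
                        exact relsRange_sound mdata bases 277 8033 rel29 k (by omega) (by omega)
                      · skip
                        exact relsRange_sound mdata bases 277 8310 rel30 k (by omega) (by omega)
              · skip
                by_cases hh36 : k < 9972
                · skip
                  by_cases hh37 : k < 9141
                  · skip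
                    by_cases hh38 : k < 8864
                    · skip
                      exact relsRange_sound mdata bases 277 8587 rel31 k (by omega) (by omega)
                    · skip
                      exact relsRange_sound mdata bases 277 8864 rel32 k (by omega) (by omega)
                  · skip
                    by_cases hh39 : k < 9418
                    · skip
                      exact relsRange_sound mdata bases 277 9141 rel33 k (by omega) (by omega)
                    · skip
                      by_cases hh40 : k < 9695
                      · skip
                        exact relsRange_sound mdata bases 277 9418 rel34 k (by omega) (by omega)
                      · skip
                        exact relsRange_sound mdata bases 277 9695 rel35 k (by omega) (by omega)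
                · skip
                  by_cases hh41 : k < 10803
                  · skip
                    by_cases hh42 : k < 10249
                    · skip
                      exact relsRange_sound mdata bases 277 9972 rel36 k (by omega) (by omega)
                    · skip
                      by_cases hh43 : k < 10526
                      · skip
                        exact relsRange_sound mdata bases 277 10249 rel37 k (by omega) (by omega)
                      · skip
                        exact relsRange_sound mdata bases 277 10526 rel38 k (by omega) (by omega)
                  · skip
                    by_cases hh44 : k < 11080
                    · skip
                      exact relsRange_sound mdata bases 277 10803 rel39 k (by omega) (by omega)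
                    · skip
                      by_cases hh45 : k < 11357
                      · skip
                        exact relsRange_sound mdata bases 277 11080 rel40 k (by omega) (by omega)
                      · skip
                        exact relsRange_sound mdata bases 277 11357 rel41 k (by omega) (by omega)
          · skip
            by_cases hh46 : k < 17451
            · skip
              by_cases hh47 : k < 14404
              · skip
                by_cases hh48 : k < 13019
                · skip
                  by_cases hh49 : k < 12188
                  · skip
                    by_cases hh50 : k < 11911
                    · skip
                      exact relsRange_sound mdata bases 277 11634 rel42 k (by omega) (by omega)
                    · skip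
                      exact relsRange_sound mdata bases 277 11911 rel43 k (by omega) (by omega)
                  · skip
                    by_cases hh51 : k < 12465
                    · skip
                      exact relsRange_sound mdata bases 277 12188 rel44 k (by omega) (by omega)
                    · skip
                      by_cases hh52 : k < 12742
                      · skip
                        exact relsRange_sound mdata bases 277 12465 rel45 k (by omega) (by omega)
                      · skip
                        exact relsRange_sound mdata bases 277 12742 rel46 k (by omega) (by omega)
                · skip
                  by_cases hh53 : k < 13573
                  · skip
                    by_cases hh54 : k < 13296
                    · skip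
                      exact relsRange_sound mdata bases 277 13019 rel47 k (by omega) (by omega)
                    · skip
                      exact relsRange_sound mdata bases 277 13296 rel48 k (by omega) (by omega)
                  · skip
                    by_cases hh55 : k < 13850
                    · skip
                      exact relsRange_sound mdata bases 277 13573 rel49 k (by omega) (by omega)
                    · skip
                      by_cases hh56 : k < 14127
                      · skip
                        exact relsRange_sound mdata bases 277 13850 rel50 k (by omega) (by omega)
                      · skip
                        exact relsRange_sound mdata bases 277 14127 rel51 k (by omega) (by omega)
              · skip
                by_cases hh57 : k < 15789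
                · skip
                  by_cases hh58 : k < 14958
                  · skip
                    by_cases hh59 : k < 14681
                    · skip
                      exact relsRange_sound mdata bases 277 14404 rel52 k (by omega) (by omega)
                    · skip
                      exact relsRange_sound mdata bases 277 14681 rel53 k (by omega) (by omega)
                  · skip
                    by_cases hh60 : k < 15235
                    · skip
                      exact relsRange_sound mdata bases 277 14958 rel54 k (by omega) (by omega)
                    · skip
                      by_cases hh61 : k < 15512
                      · skip
                        exact relsRange_sound mdata bases 277 15235 rel55 k (by omega) (by omega)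
                      · skip
                        exact relsRange_sound mdata bases 277 15512 rel56 k (by omega) (by omega)
                · skip
                  by_cases hh62 : k < 16620
                  · skip
                    by_cases hh63 : k < 16066
                    · skip
                      exact relsRange_sound mdata bases 277 15789 rel57 k (by omega) (by omega)
                    · skip
                      by_cases hh64 : k < 16343
                      · skip
                        exact relsRange_sound mdata bases 277 16066 rel58 k (by omega) (by omega)
                      · skip
                        exact relsRange_sound mdata bases 277 16343 rel59 k (by omega) (by omega)
                  · skip
                    by_cases hh65 : k < 16897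
                    · skip
                      exact relsRange_sound mdata bases 277 16620 rel60 k (by omega) (by omega)
                    · skip
                      by_cases hh66 : k < 17174
                      · skip
                        exact relsRange_sound mdata bases 277 16897 rel61 k (by omega) (by omega)
                      · skip
                        exact relsRange_sound mdata bases 277 17174 rel62 k (by omega) (by omega)
            · skip
              by_cases hh67 : k < 20221
              · skip
                by_cases hh68 : k < 18836
                · skip
                  by_cases hh69 : k < 18005
                  · skip
                    by_cases hh70 : k < 17728
                    · skip
                      exact relsRange_sound mdata bases 277 17451 rel63 k (by omega) (by omega)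
                    · skip
                      exact relsRange_sound mdata bases 277 17728 rel64 k (by omega) (by omega)
                  · skip
                    by_cases hh71 : k < 18282
                    · skip
                      exact relsRange_sound mdata bases 277 18005 rel65 k (by omega) (by omega)
                    · skip
                      by_cases hh72 : k < 18559
                      · skip
                        exact relsRange_sound mdata bases 277 18282 rel66 k (by omega) (by omega)
                      · skip
                        exact relsRange_sound mdata bases 277 18559 rel67 k (by omega) (by omega)
                · skip
                  by_cases hh73 : k < 19390
                  · skip
                    by_cases hh74 : k < 19113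
                    · skip
                      exact relsRange_sound mdata bases 277 18836 rel68 k (by omega) (by omega)
                    · skip
                      exact relsRange_sound mdata bases 277 19113 rel69 k (by omega) (by omega)
                  · skip
                    by_cases hh75 : k < 19667
                    · skip
                      exact relsRange_sound mdata bases 277 19390 rel70 k (by omega) (by omega)
                    · skip
                      by_cases hh76 : k < 19944
                      · skip
                        exact relsRange_sound mdata bases 277 19667 rel71 k (by omega) (by omega)
                      · skip
                        exact relsRange_sound mdata bases 277 19944 rel72 k (by omega) (by omega)
              · skip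
                by_cases hh77 : k < 21606
                · skip
                  by_cases hh78 : k < 20775
                  · skip
                    by_cases hh79 : k < 20498
                    · skip
                      exact relsRange_sound mdata bases 277 20221 rel73 k (by omega) (by omega)
                    · skip
                      exact relsRange_sound mdata bases 277 20498 rel74 k (by omega) (by omega)
                  · skip
                    by_cases hh80 : k < 21052
                    · skip
                      exact relsRange_sound mdata bases 277 20775 rel75 k (by omega) (by omega)
                    · skip
                      by_cases hh81 : k < 21329
                      · skip
                        exact relsRange_sound mdata bases 277 21052 rel76 k (by omega) (by omega)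
                      · skip
                        exact relsRange_sound mdata bases 277 21329 rel77 k (by omega) (by omega)
                · skip
                  by_cases hh82 : k < 22437
                  · skip
                    by_cases hh83 : k < 21883
                    · skip
                      exact relsRange_sound mdata bases 277 21606 rel78 k (by omega) (by omega)
                    · skip
                      by_cases hh84 : k < 22160
                      · skip
                        exact relsRange_sound mdata bases 277 21883 rel79 k (by omega) (by omega)
                      · skip
                        exact relsRange_sound mdata bases 277 22160 rel80 k (by omega) (by omega)
                  · skip
                    by_cases hh85 : k < 22714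
                    · skip
                      exact relsRange_sound mdata bases 277 22437 rel81 k (by omega) (by omega)
                    · skip
                      by_cases hh86 : k < 22991
                      · skip
                        exact relsRange_sound mdata bases 277 22714 rel82 k (by omega) (by omega)
                      · skip
                        exact relsRange_sound mdata bases 277 22991 rel83 k (by omega) (by omega)
        · skip
          by_cases hh87 : k < 34902
          · skip
            by_cases hh88 : k < 29085
            · skip
              by_cases hh89 : k < 26038
              · skip
                by_cases hh90 : k < 24653
                · skip
                  by_cases hh91 : k < 23822
                  · skip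
                    by_cases hh92 : k < 23545
                    · skip
                      exact relsRange_sound mdata bases 277 23268 rel84 k (by omega) (by omega)
                    · skip
                      exact relsRange_sound mdata bases 277 23545 rel85 k (by omega) (by omega)
                  · skip
                    by_cases hh93 : k < 24099
                    · skip
                      exact relsRange_sound mdata bases 277 23822 rel86 k (by omega) (by omega)
                    · skip
                      by_cases hh94 : k < 24376
                      · skip
                        exact relsRange_sound mdata bases 277 24099 rel87 k (by omega) (by omega)
                      · skip
                        exact relsRange_sound mdata bases 277 24376 rel88 k (by omega) (by omega)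
                · skip
                  by_cases hh95 : k < 25207
                  · skip
                    by_cases hh96 : k < 24930
                    · skip
                      exact relsRange_sound mdata bases 277 24653 rel89 k (by omega) (by omega)
                    · skip
                      exact relsRange_sound mdata bases 277 24930 rel90 k (by omega) (by omega)
                  · skip
                    by_cases hh97 : k < 25484
                    · skip
                      exact relsRange_sound mdata bases 277 25207 rel91 k (by omega) (by omega)
                    · skip
                      by_cases hh98 : k < 25761
                      · skip
                        exact relsRange_sound mdata bases 277 25484 rel92 k (by omega) (by omega)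
                      · skip
                        exact relsRange_sound mdata bases 277 25761 rel93 k (by omega) (by omega)
              · skip
                by_cases hh99 : k < 27423
                · skip
                  by_cases hh100 : k < 26592
                  · skip
                    by_cases hh101 : k < 26315
                    · skip
                      exact relsRange_sound mdata bases 277 26038 rel94 k (by omega) (by omega)
                    · skip
                      exact relsRange_sound mdata bases 277 26315 rel95 k (by omega) (by omega)
                  · skip
                    by_cases hh102 : k < 26869
                    · skip
                      exact relsRange_sound mdata bases 277 26592 rel96 k (by omega) (by omega)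
                    · skip
                      by_cases hh103 : k < 27146
                      · skip
                        exact relsRange_sound mdata bases 277 26869 rel97 k (by omega) (by omega)
                      · skip
                        exact relsRange_sound mdata bases 277 27146 rel98 k (by omega) (by omega)
                · skip
                  by_cases hh104 : k < 28254
                  · skip
                    by_cases hh105 : k < 27700
                    · skip
                      exact relsRange_sound mdata bases 277 27423 rel99 k (by omega) (by omega)
                    · skip
                      by_cases hh106 : k < 27977
                      · skip
                        exact relsRange_sound mdata bases 277 27700 rel100 k (by omega) (by omega)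
                      · skip
                        exact relsRange_sound mdata bases 277 27977 rel101 k (by omega) (by omega)
                  · skip
                    by_cases hh107 : k < 28531
                    · skip
                      exact relsRange_sound mdata bases 277 28254 rel102 k (by omega) (by omega)
                    · skip
                      by_cases hh108 : k < 28808
                      · skip
                        exact relsRange_sound mdata bases 277 28531 rel103 k (by omega) (by omega)
                      · skip
                        exact relsRange_sound mdata bases 277 28808 rel104 k (by omega) (by omega)
            · skip
              by_cases hh109 : k < 31855
              · skip
                by_cases hh110 : k < 30470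
                · skip
                  by_cases hh111 : k < 29639
                  · skip
                    by_cases hh112 : k < 29362
                    · skip
                      exact relsRange_sound mdata bases 277 29085 rel105 k (by omega) (by omega)
                    · skip
                      exact relsRange_sound mdata bases 277 29362 rel106 k (by omega) (by omega)
                  · skip
                    by_cases hh113 : k < 29916
                    · skip
                      exact relsRange_sound mdata bases 277 29639 rel107 k (by omega) (by omega)
                    · skip
                      by_cases hh114 : k < 30193
                      · skip
                        exact relsRange_sound mdata bases 277 29916 rel108 k (by omega) (by omega)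
                      · skip
                        exact relsRange_sound mdata bases 277 30193 rel109 k (by omega) (by omega)
                · skip
                  by_cases hh115 : k < 31024
                  · skip
                    by_cases hh116 : k < 30747
                    · skip
                      exact relsRange_sound mdata bases 277 30470 rel110 k (by omega) (by omega)
                    · skip
                      exact relsRange_sound mdata bases 277 30747 rel111 k (by omega) (by omega)
                  · skip
                    by_cases hh117 : k < 31301
                    · skip
                      exact relsRange_sound mdata bases 277 31024 rel112 k (by omega) (by omega)
                    · skip
                      by_cases hh118 : k < 31578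
                      · skip
                        exact relsRange_sound mdata bases 277 31301 rel113 k (by omega) (by omega)
                      · skip
                        exact relsRange_sound mdata bases 277 31578 rel114 k (by omega) (by omega)
              · skip
                by_cases hh119 : k < 33240
                · skip
                  by_cases hh120 : k < 32409
                  · skip
                    by_cases hh121 : k < 32132
                    · skip
                      exact relsRange_sound mdata bases 277 31855 rel115 k (by omega) (by omega)
                    · skip
                      exact relsRange_sound mdata bases 277 32132 rel116 k (by omega) (by omega)
                  · skip
                    by_cases hh122 : k < 32686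
                    · skip
                      exact relsRange_sound mdata bases 277 32409 rel117 k (by omega) (by omega)
                    · skip
                      by_cases hh123 : k < 32963
                      · skip
                        exact relsRange_sound mdata bases 277 32686 rel118 k (by omega) (by omega)
                      · skip
                        exact relsRange_sound mdata bases 277 32963 rel119 k (by omega) (by omega)
                · skip
                  by_cases hh124 : k < 34071
                  · skip
                    by_cases hh125 : k < 33517
                    · skip
                      exact relsRange_sound mdata bases 277 33240 rel120 k (by omega) (by omega)
                    · skip
                      by_cases hh126 : k < 33794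
                      · skip
                        exact relsRange_sound mdata bases 277 33517 rel121 k (by omega) (by omega)
                      · skip
                        exact relsRange_sound mdata bases 277 33794 rel122 k (by omega) (by omega)
                  · skip
                    by_cases hh127 : k < 34348
                    · skip
                      exact relsRange_sound mdata bases 277 34071 rel123 k (by omega) (by omega)
                    · skip
                      by_cases hh128 : k < 34625
                      · skip
                        exact relsRange_sound mdata bases 277 34348 rel124 k (by omega) (by omega)
                      · skip
                        exact relsRange_sound mdata bases 277 34625 rel125 k (by omega) (by omega)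
          · skip
            by_cases hh129 : k < 40719
            · skip
              by_cases hh130 : k < 37672
              · skip
                by_cases hh131 : k < 36287
                · skip
                  by_cases hh132 : k < 35456
                  · skip
                    by_cases hh133 : k < 35179
                    · skip
                      exact relsRange_sound mdata bases 277 34902 rel126 k (by omega) (by omega)
                    · skip
                      exact relsRange_sound mdata bases 277 35179 rel127 k (by omega) (by omega)
                  · skip
                    by_cases hh134 : k < 35733
                    · skip
                      exact relsRange_sound mdata bases 277 35456 rel128 k (by omega) (by omega)
                    · skip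
                      by_cases hh135 : k < 36010
                      · skip
                        exact relsRange_sound mdata bases 277 35733 rel129 k (by omega) (by omega)
                      · skip
                        exact relsRange_sound mdata bases 277 36010 rel130 k (by omega) (by omega)
                · skip
                  by_cases hh136 : k < 36841
                  · skip
                    by_cases hh137 : k < 36564
                    · skip
                      exact relsRange_sound mdata bases 277 36287 rel131 k (by omega) (by omega)
                    · skip
                      exact relsRange_sound mdata bases 277 36564 rel132 k (by omega) (by omega)
                  · skip
                    by_cases hh138 : k < 37118
                    · skip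
                      exact relsRange_sound mdata bases 277 36841 rel133 k (by omega) (by omega)
                    · skip
                      by_cases hh139 : k < 37395
                      · skip
                        exact relsRange_sound mdata bases 277 37118 rel134 k (by omega) (by omega)
                      · skip
                        exact relsRange_sound mdata bases 277 37395 rel135 k (by omega) (by omega)
              · skip
                by_cases hh140 : k < 39057
                · skip
                  by_cases hh141 : k < 38226
                  · skip
                    by_cases hh142 : k < 37949
                    · skip
                      exact relsRange_sound mdata bases 277 37672 rel136 k (by omega) (by omega)
                    · skip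
                      exact relsRange_sound mdata bases 277 37949 rel137 k (by omega) (by omega)
                  · skip
                    by_cases hh143 : k < 38503
                    · skip
                      exact relsRange_sound mdata bases 277 38226 rel138 k (by omega) (by omega)
                    · skip
                      by_cases hh144 : k < 38780
                      · skip
                        exact relsRange_sound mdata bases 277 38503 rel139 k (by omega) (by omega)
                      · skip
                        exact relsRange_sound mdata bases 277 38780 rel140 k (by omega) (by omega)
                · skip
                  by_cases hh145 : k < 39888
                  · skip
                    by_cases hh146 : k < 39334
                    · skip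
                      exact relsRange_sound mdata bases 277 39057 rel141 k (by omega) (by omega)
                    · skip
                      by_cases hh147 : k < 39611
                      · skip
                        exact relsRange_sound mdata bases 277 39334 rel142 k (by omega) (by omega)
                      · skip
                        exact relsRange_sound mdata bases 277 39611 rel143 k (by omega) (by omega)
                  · skip
                    by_cases hh148 : k < 40165
                    · skip
                      exact relsRange_sound mdata bases 277 39888 rel144 k (by omega) (by omega)
                    · skip
                      by_cases hh149 : k < 40442
                      · skip
                        exact relsRange_sound mdata bases 277 40165 rel145 k (by omega) (by omega)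
                      · skip
                        exact relsRange_sound mdata bases 277 40442 rel146 k (by omega) (by omega)
            · skip
              by_cases hh150 : k < 43766
              · skip
                by_cases hh151 : k < 42104
                · skip
                  by_cases hh152 : k < 41273
                  · skip
                    by_cases hh153 : k < 40996
                    · skip
                      exact relsRange_sound mdata bases 277 40719 rel147 k (by omega) (by omega)
                    · skip
                      exact relsRange_sound mdata bases 277 40996 rel148 k (by omega) (by omega)
                  · skip
                    by_cases hh154 : k < 41550
                    · skip
                      exact relsRange_sound mdata bases 277 41273 rel149 k (by omega) (by omega)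
                    · skip
                      by_cases hh155 : k < 41827
                      · skip
                        exact relsRange_sound mdata bases 277 41550 rel150 k (by omega) (by omega)
                      · skip
                        exact relsRange_sound mdata bases 277 41827 rel151 k (by omega) (by omega)
                · skip
                  by_cases hh156 : k < 42935
                  · skip
                    by_cases hh157 : k < 42381
                    · skip
                      exact relsRange_sound mdata bases 277 42104 rel152 k (by omega) (by omega)
                    · skip
                      by_cases hh158 : k < 42658
                      · skip
                        exact relsRange_sound mdata bases 277 42381 rel153 k (by omega) (by omega)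
                      · skip
                        exact relsRange_sound mdata bases 277 42658 rel154 k (by omega) (by omega)
                  · skip
                    by_cases hh159 : k < 43212
                    · skip
                      exact relsRange_sound mdata bases 277 42935 rel155 k (by omega) (by omega)
                    · skip
                      by_cases hh160 : k < 43489
                      · skip
                        exact relsRange_sound mdata bases 277 43212 rel156 k (by omega) (by omega)
                      · skip
                        exact relsRange_sound mdata bases 277 43489 rel157 k (by omega) (by omega)
              · skip
                by_cases hh161 : k < 45151
                · skip
                  by_cases hh162 : k < 44320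
                  · skip
                    by_cases hh163 : k < 44043
                    · skip
                      exact relsRange_sound mdata bases 277 43766 rel158 k (by omega) (by omega)
                    · skip
                      exact relsRange_sound mdata bases 277 44043 rel159 k (by omega) (by omega)
                  · skip
                    by_cases hh164 : k < 44597
                    · skip
                      exact relsRange_sound mdata bases 277 44320 rel160 k (by omega) (by omega)
                    · skip
                      by_cases hh165 : k < 44874
                      · skip
                        exact relsRange_sound mdata bases 277 44597 rel161 k (by omega) (by omega)
                      · skip
                        exact relsRange_sound mdata bases 277 44874 rel162 k (by omega) (by omega)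
                · skip
                  by_cases hh166 : k < 45982
                  · skip
                    by_cases hh167 : k < 45428
                    · skip
                      exact relsRange_sound mdata bases 277 45151 rel163 k (by omega) (by omega)
                    · skip
                      by_cases hh168 : k < 45705
                      · skip
                        exact relsRange_sound mdata bases 277 45428 rel164 k (by omega) (by omega)
                      · skip
                        exact relsRange_sound mdata bases 277 45705 rel165 k (by omega) (by omega)
                  · skip
                    by_cases hh169 : k < 46259
                    · skip
                      exact relsRange_sound mdata bases 277 45982 rel166 k (by omega) (by omega)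
                    · skip
                      by_cases hh170 : k < 46536
                      · skip
                        exact relsRange_sound mdata bases 277 46259 rel167 k (by omega) (by omega)
                      · skip
                        exact relsRange_sound mdata bases 277 46536 rel168 k (by omega) (by omega)
      · skip
        by_cases hh171 : k < 70081
        · skip
          by_cases hh172 : k < 58447
          · skip
            by_cases hh173 : k < 52630
            · skip
              by_cases hh174 : k < 49583
              · skip
                by_cases hh175 : k < 48198
                · skip
                  by_cases hh176 : k < 47367
                  · skip
                    by_cases hh177 : k < 47090
                    · skip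
                      exact relsRange_sound mdata bases 277 46813 rel169 k (by omega) (by omega)
                    · skip
                      exact relsRange_sound mdata bases 277 47090 rel170 k (by omega) (by omega)
                  · skip
                    by_cases hh178 : k < 47644
                    · skip
                      exact relsRange_sound mdata bases 277 47367 rel171 k (by omega) (by omega)
                    · skip
                      by_cases hh179 : k < 47921
                      · skip
                        exact relsRange_sound mdata bases 277 47644 rel172 k (by omega) (by omega)
                      · skip
                        exact relsRange_sound mdata bases 277 47921 rel173 k (by omega) (by omega)
                · skip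
                  by_cases hh180 : k < 48752
                  · skip
                    by_cases hh181 : k < 48475
                    · skip
                      exact relsRange_sound mdata bases 277 48198 rel174 k (by omega) (by omega)
                    · skip
                      exact relsRange_sound mdata bases 277 48475 rel175 k (by omega) (by omega)
                  · skip
                    by_cases hh182 : k < 49029
                    · skip
                      exact relsRange_sound mdata bases 277 48752 rel176 k (by omega) (by omega)
                    · skip
                      by_cases hh183 : k < 49306
                      · skip
                        exact relsRange_sound mdata bases 277 49029 rel177 k (by omega) (by omega)
                      · skip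
                        exact relsRange_sound mdata bases 277 49306 rel178 k (by omega) (by omega)
              · skip
                by_cases hh184 : k < 50968
                · skip
                  by_cases hh185 : k < 50137
                  · skip
                    by_cases hh186 : k < 49860
                    · skip
                      exact relsRange_sound mdata bases 277 49583 rel179 k (by omega) (by omega)
                    · skip
                      exact relsRange_sound mdata bases 277 49860 rel180 k (by omega) (by omega)
                  · skip
                    by_cases hh187 : k < 50414
                    · skip
                      exact relsRange_sound mdata bases 277 50137 rel181 k (by omega) (by omega)
                    · skip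
                      by_cases hh188 : k < 50691
                      · skip
                        exact relsRange_sound mdata bases 277 50414 rel182 k (by omega) (by omega)
                      · skip
                        exact relsRange_sound mdata bases 277 50691 rel183 k (by omega) (by omega)
                · skip
                  by_cases hh189 : k < 51799
                  · skip
                    by_cases hh190 : k < 51245
                    · skip
                      exact relsRange_sound mdata bases 277 50968 rel184 k (by omega) (by omega)
                    · skip
                      by_cases hh191 : k < 51522
                      · skip
                        exact relsRange_sound mdata bases 277 51245 rel185 k (by omega) (by omega)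
                      · skip
                        exact relsRange_sound mdata bases 277 51522 rel186 k (by omega) (by omega)
                  · skip
                    by_cases hh192 : k < 52076
                    · skip
                      exact relsRange_sound mdata bases 277 51799 rel187 k (by omega) (by omega)
                    · skip
                      by_cases hh193 : k < 52353
                      · skip
                        exact relsRange_sound mdata bases 277 52076 rel188 k (by omega) (by omega)
                      · skip
                        exact relsRange_sound mdata bases 277 52353 rel189 k (by omega) (by omega)
            · skip
              by_cases hh194 : k < 55400
              · skip
                by_cases hh195 : k < 54015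
                · skip
                  by_cases hh196 : k < 53184
                  · skip
                    by_cases hh197 : k < 52907
                    · skip
                      exact relsRange_sound mdata bases 277 52630 rel190 k (by omega) (by omega)
                    · skip
                      exact relsRange_sound mdata bases 277 52907 rel191 k (by omega) (by omega)
                  · skip
                    by_cases hh198 : k < 53461
                    · skip
                      exact relsRange_sound mdata bases 277 53184 rel192 k (by omega) (by omega)
                    · skip
                      by_cases hh199 : k < 53738
                      · skip
                        exact relsRange_sound mdata bases 277 53461 rel193 k (by omega) (by omega)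
                      · skip
                        exact relsRange_sound mdata bases 277 53738 rel194 k (by omega) (by omega)
                · skip
                  by_cases hh200 : k < 54569
                  · skip
                    by_cases hh201 : k < 54292
                    · skip
                      exact relsRange_sound mdata bases 277 54015 rel195 k (by omega) (by omega)
                    · skip
                      exact relsRange_sound mdata bases 277 54292 rel196 k (by omega) (by omega)
                  · skip
                    by_cases hh202 : k < 54846
                    · skip
                      exact relsRange_sound mdata bases 277 54569 rel197 k (by omega) (by omega)
                    · skip
                      by_cases hh203 : k < 55123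
                      · skip
                        exact relsRange_sound mdata bases 277 54846 rel198 k (by omega) (by omega)
                      · skip
                        exact relsRange_sound mdata bases 277 55123 rel199 k (by omega) (by omega)
              · skip
                by_cases hh204 : k < 56785
                · skip
                  by_cases hh205 : k < 55954
                  · skip
                    by_cases hh206 : k < 55677
                    · skip
                      exact relsRange_sound mdata bases 277 55400 rel200 k (by omega) (by omega)
                    · skip
                      exact relsRange_sound mdata bases 277 55677 rel201 k (by omega) (by omega)
                  · skip
                    by_cases hh207 : k < 56231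
                    · skip
                      exact relsRange_sound mdata bases 277 55954 rel202 k (by omega) (by omega)
                    · skip
                      by_cases hh208 : k < 56508
                      · skip
                        exact relsRange_sound mdata bases 277 56231 rel203 k (by omega) (by omega)
                      · skip
                        exact relsRange_sound mdata bases 277 56508 rel204 k (by omega) (by omega)
                · skip
                  by_cases hh209 : k < 57616
                  · skip
                    by_cases hh210 : k < 57062
                    · skip
                      exact relsRange_sound mdata bases 277 56785 rel205 k (by omega) (by omega)
                    · skip
                      by_cases hh211 : k < 57339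
                      · skip
                        exact relsRange_sound mdata bases 277 57062 rel206 k (by omega) (by omega)
                      · skip
                        exact relsRange_sound mdata bases 277 57339 rel207 k (by omega) (by omega)
                  · skip
                    by_cases hh212 : k < 57893
                    · skip
                      exact relsRange_sound mdata bases 277 57616 rel208 k (by omega) (by omega)
                    · skip
                      by_cases hh213 : k < 58170
                      · skip
                        exact relsRange_sound mdata bases 277 57893 rel209 k (by omega) (by omega)
                      · skip
                        exact relsRange_sound mdata bases 277 58170 rel210 k (by omega) (by omega)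
          · skip
            by_cases hh214 : k < 64264
            · skip
              by_cases hh215 : k < 61217
              · skip
                by_cases hh216 : k < 59832
                · skip
                  by_cases hh217 : k < 59001
                  · skip
                    by_cases hh218 : k < 58724
                    · skip
                      exact relsRange_sound mdata bases 277 58447 rel211 k (by omega) (by omega)
                    · skip
                      exact relsRange_sound mdata bases 277 58724 rel212 k (by omega) (by omega)
                  · skip
                    by_cases hh219 : k < 59278
                    · skip
                      exact relsRange_sound mdata bases 277 59001 rel213 k (by omega) (by omega)
                    · skip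
                      by_cases hh220 : k < 59555
                      · skip
                        exact relsRange_sound mdata bases 277 59278 rel214 k (by omega) (by omega)
                      · skip
                        exact relsRange_sound mdata bases 277 59555 rel215 k (by omega) (by omega)
                · skip
                  by_cases hh221 : k < 60386
                  · skip
                    by_cases hh222 : k < 60109
                    · skip
                      exact relsRange_sound mdata bases 277 59832 rel216 k (by omega) (by omega)
                    · skip
                      exact relsRange_sound mdata bases 277 60109 rel217 k (by omega) (by omega)
                  · skip
                    by_cases hh223 : k < 60663
                    · skip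
                      exact relsRange_sound mdata bases 277 60386 rel218 k (by omega) (by omega)
                    · skip
                      by_cases hh224 : k < 60940
                      · skip
                        exact relsRange_sound mdata bases 277 60663 rel219 k (by omega) (by omega)
                      · skip
                        exact relsRange_sound mdata bases 277 60940 rel220 k (by omega) (by omega)
              · skip
                by_cases hh225 : k < 62602
                · skip
                  by_cases hh226 : k < 61771
                  · skip
                    by_cases hh227 : k < 61494
                    · skip
                      exact relsRange_sound mdata bases 277 61217 rel221 k (by omega) (by omega)
                    · skip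
                      exact relsRange_sound mdata bases 277 61494 rel222 k (by omega) (by omega)
                  · skip
                    by_cases hh228 : k < 62048
                    · skip
                      exact relsRange_sound mdata bases 277 61771 rel223 k (by omega) (by omega)
                    · skip
                      by_cases hh229 : k < 62325
                      · skip
                        exact relsRange_sound mdata bases 277 62048 rel224 k (by omega) (by omega)
                      · skip
                        exact relsRange_sound mdata bases 277 62325 rel225 k (by omega) (by omega)
                · skip
                  by_cases hh230 : k < 63433
                  · skip
                    by_cases hh231 : k < 62879
                    · skip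
                      exact relsRange_sound mdata bases 277 62602 rel226 k (by omega) (by omega)
                    · skip
                      by_cases hh232 : k < 63156
                      · skip
                        exact relsRange_sound mdata bases 277 62879 rel227 k (by omega) (by omega)
                      · skip
                        exact relsRange_sound mdata bases 277 63156 rel228 k (by omega) (by omega)
                  · skip
                    by_cases hh233 : k < 63710
                    · skip
                      exact relsRange_sound mdata bases 277 63433 rel229 k (by omega) (by omega)
                    · skip
                      by_cases hh234 : k < 63987
                      · skip
                        exact relsRange_sound mdata bases 277 63710 rel230 k (by omega) (by omega)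
                      · skip
                        exact relsRange_sound mdata bases 277 63987 rel231 k (by omega) (by omega)
            · skip
              by_cases hh235 : k < 67034
              · skip
                by_cases hh236 : k < 65649
                · skip
                  by_cases hh237 : k < 64818
                  · skip
                    by_cases hh238 : k < 64541
                    · skip
                      exact relsRange_sound mdata bases 277 64264 rel232 k (by omega) (by omega)
                    · skip
                      exact relsRange_sound mdata bases 277 64541 rel233 k (by omega) (by omega)
                  · skip
                    by_cases hh239 : k < 65095
                    · skip
                      exact relsRange_sound mdata bases 277 64818 rel234 k (by omega) (by omega)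
                    · skip
                      by_cases hh240 : k < 65372
                      · skip
                        exact relsRange_sound mdata bases 277 65095 rel235 k (by omega) (by omega)
                      · skip
                        exact relsRange_sound mdata bases 277 65372 rel236 k (by omega) (by omega)
                · skip
                  by_cases hh241 : k < 66203
                  · skip
                    by_cases hh242 : k < 65926
                    · skip
                      exact relsRange_sound mdata bases 277 65649 rel237 k (by omega) (by omega)
                    · skip
                      exact relsRange_sound mdata bases 277 65926 rel238 k (by omega) (by omega)
                  · skip
                    by_cases hh243 : k < 66480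
                    · skip
                      exact relsRange_sound mdata bases 277 66203 rel239 k (by omega) (by omega)
                    · skip
                      by_cases hh244 : k < 66757
                      · skip
                        exact relsRange_sound mdata bases 277 66480 rel240 k (by omega) (by omega)
                      · skip
                        exact relsRange_sound mdata bases 277 66757 rel241 k (by omega) (by omega)
              · skip
                by_cases hh245 : k < 68419
                · skip
                  by_cases hh246 : k < 67588
                  · skip
                    by_cases hh247 : k < 67311
                    · skip
                      exact relsRange_sound mdata bases 277 67034 rel242 k (by omega) (by omega)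
                    · skip
                      exact relsRange_sound mdata bases 277 67311 rel243 k (by omega) (by omega)
                  · skip
                    by_cases hh248 : k < 67865
                    · skip
                      exact relsRange_sound mdata bases 277 67588 rel244 k (by omega) (by omega)
                    · skip
                      by_cases hh249 : k < 68142
                      · skip
                        exact relsRange_sound mdata bases 277 67865 rel245 k (by omega) (by omega)
                      · skip
                        exact relsRange_sound mdata bases 277 68142 rel246 k (by omega) (by omega)
                · skip
                  by_cases hh250 : k < 69250
                  · skip
                    by_cases hh251 : k < 68696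
                    · skip
                      exact relsRange_sound mdata bases 277 68419 rel247 k (by omega) (by omega)
                    · skip
                      by_cases hh252 : k < 68973
                      · skip
                        exact relsRange_sound mdata bases 277 68696 rel248 k (by omega) (by omega)
                      · skip
                        exact relsRange_sound mdata bases 277 68973 rel249 k (by omega) (by omega)
                  · skip
                    by_cases hh253 : k < 69527
                    · skip
                      exact relsRange_sound mdata bases 277 69250 rel250 k (by omega) (by omega)
                    · skip
                      by_cases hh254 : k < 69804
                      · skip
                        exact relsRange_sound mdata bases 277 69527 rel251 k (by omega) (by omega)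
                      · skip
                        exact relsRange_sound mdata bases 277 69804 rel252 k (by omega) (by omega)
        · skip
          by_cases hh255 : k < 81715
          · skip
            by_cases hh256 : k < 75898
            · skip
              by_cases hh257 : k < 72851
              · skip
                by_cases hh258 : k < 71466
                · skip
                  by_cases hh259 : k < 70635
                  · skip
                    by_cases hh260 : k < 70358
                    · skip
                      exact relsRange_sound mdata bases 277 70081 rel253 k (by omega) (by omega)
                    · skip
                      exact relsRange_sound mdata bases 277 70358 rel254 k (by omega) (by omega)
                  · skip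
                    by_cases hh261 : k < 70912
                    · skip
                      exact relsRange_sound mdata bases 277 70635 rel255 k (by omega) (by omega)
                    · skip
                      by_cases hh262 : k < 71189
                      · skip
                        exact relsRange_sound mdata bases 277 70912 rel256 k (by omega) (by omega)
                      · skip
                        exact relsRange_sound mdata bases 277 71189 rel257 k (by omega) (by omega)
                · skip
                  by_cases hh263 : k < 72020
                  · skip
                    by_cases hh264 : k < 71743
                    · skip
                      exact relsRange_sound mdata bases 277 71466 rel258 k (by omega) (by omega)
                    · skip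
                      exact relsRange_sound mdata bases 277 71743 rel259 k (by omega) (by omega)
                  · skip
                    by_cases hh265 : k < 72297
                    · skip
                      exact relsRange_sound mdata bases 277 72020 rel260 k (by omega) (by omega)
                    · skip
                      by_cases hh266 : k < 72574
                      · skip
                        exact relsRange_sound mdata bases 277 72297 rel261 k (by omega) (by omega)
                      · skip
                        exact relsRange_sound mdata bases 277 72574 rel262 k (by omega) (by omega)
              · skip
                by_cases hh267 : k < 74236
                · skip
                  by_cases hh268 : k < 73405
                  · skip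
                    by_cases hh269 : k < 73128
                    · skip
                      exact relsRange_sound mdata bases 277 72851 rel263 k (by omega) (by omega)
                    · skip
                      exact relsRange_sound mdata bases 277 73128 rel264 k (by omega) (by omega)
                  · skip
                    by_cases hh270 : k < 73682
                    · skip
                      exact relsRange_sound mdata bases 277 73405 rel265 k (by omega) (by omega)
                    · skip
                      by_cases hh271 : k < 73959
                      · skip
                        exact relsRange_sound mdata bases 277 73682 rel266 k (by omega) (by omega)
                      · skip
                        exact relsRange_sound mdata bases 277 73959 rel267 k (by omega) (by omega)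
                · skip
                  by_cases hh272 : k < 75067
                  · skip
                    by_cases hh273 : k < 74513
                    · skip
                      exact relsRange_sound mdata bases 277 74236 rel268 k (by omega) (by omega)
                    · skip
                      by_cases hh274 : k < 74790
                      · skip
                        exact relsRange_sound mdata bases 277 74513 rel269 k (by omega) (by omega)
                      · skip
                        exact relsRange_sound mdata bases 277 74790 rel270 k (by omega) (by omega)
                  · skip
                    by_cases hh275 : k < 75344
                    · skip
                      exact relsRange_sound mdata bases 277 75067 rel271 k (by omega) (by omega)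
                    · skip
                      by_cases hh276 : k < 75621
                      · skip
                        exact relsRange_sound mdata bases 277 75344 rel272 k (by omega) (by omega)
                      · skip
                        exact relsRange_sound mdata bases 277 75621 rel273 k (by omega) (by omega)
            · skip
              by_cases hh277 : k < 78668
              · skip
                by_cases hh278 : k < 77283
                · skip
                  by_cases hh279 : k < 76452
                  · skip
                    by_cases hh280 : k < 76175
                    · skip
                      exact relsRange_sound mdata bases 277 75898 rel274 k (by omega) (by omega)
                    · skip
                      exact relsRange_sound mdata bases 277 76175 rel275 k (by omega) (by omega)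
                  · skip
                    by_cases hh281 : k < 76729
                    · skip
                      exact relsRange_sound mdata bases 277 76452 rel276 k (by omega) (by omega)
                    · skip
                      by_cases hh282 : k < 77006
                      · skip
                        exact relsRange_sound mdata bases 277 76729 rel277 k (by omega) (by omega)
                      · skip
                        exact relsRange_sound mdata bases 277 77006 rel278 k (by omega) (by omega)
                · skip
                  by_cases hh283 : k < 77837
                  · skip
                    by_cases hh284 : k < 77560
                    · skip
                      exact relsRange_sound mdata bases 277 77283 rel279 k (by omega) (by omega)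
                    · skip
                      exact relsRange_sound mdata bases 277 77560 rel280 k (by omega) (by omega)
                  · skip
                    by_cases hh285 : k < 78114
                    · skip
                      exact relsRange_sound mdata bases 277 77837 rel281 k (by omega) (by omega)
                    · skip
                      by_cases hh286 : k < 78391
                      · skip
                        exact relsRange_sound mdata bases 277 78114 rel282 k (by omega) (by omega)
                      · skip
                        exact relsRange_sound mdata bases 277 78391 rel283 k (by omega) (by omega)
              · skip
                by_cases hh287 : k < 80053
                · skip
                  by_cases hh288 : k < 79222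
                  · skip
                    by_cases hh289 : k < 78945
                    · skip
                      exact relsRange_sound mdata bases 277 78668 rel284 k (by omega) (by omega)
                    · skip
                      exact relsRange_sound mdata bases 277 78945 rel285 k (by omega) (by omega)
                  · skip
                    by_cases hh290 : k < 79499
                    · skip
                      exact relsRange_sound mdata bases 277 79222 rel286 k (by omega) (by omega)
                    · skip
                      by_cases hh291 : k < 79776
                      · skip
                        exact relsRange_sound mdata bases 277 79499 rel287 k (by omega) (by omega)
                      · skip
                        exact relsRange_sound mdata bases 277 79776 rel288 k (by omega) (by omega)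
                · skip
                  by_cases hh292 : k < 80884
                  · skip
                    by_cases hh293 : k < 80330
                    · skip
                      exact relsRange_sound mdata bases 277 80053 rel289 k (by omega) (by omega)
                    · skip
                      by_cases hh294 : k < 80607
                      · skip
                        exact relsRange_sound mdata bases 277 80330 rel290 k (by omega) (by omega)
                      · skip
                        exact relsRange_sound mdata bases 277 80607 rel291 k (by omega) (by omega)
                  · skip
                    by_cases hh295 : k < 81161
                    · skip
                      exact relsRange_sound mdata bases 277 80884 rel292 k (by omega) (by omega)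
                    · skip
                      by_cases hh296 : k < 81438
                      · skip
                        exact relsRange_sound mdata bases 277 81161 rel293 k (by omega) (by omega)
                      · skip
                        exact relsRange_sound mdata bases 277 81438 rel294 k (by omega) (by omega)
          · skip
            by_cases hh297 : k < 87532
            · skip
              by_cases hh298 : k < 84485
              · skip
                by_cases hh299 : k < 83100
                · skip
                  by_cases hh300 : k < 82269
                  · skip
                    by_cases hh301 : k < 81992
                    · skip
                      exact relsRange_sound mdata bases 277 81715 rel295 k (by omega) (by omega)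
                    · skip
                      exact relsRange_sound mdata bases 277 81992 rel296 k (by omega) (by omega)
                  · skip
                    by_cases hh302 : k < 82546
                    · skip
                      exact relsRange_sound mdata bases 277 82269 rel297 k (by omega) (by omega)
                    · skip
                      by_cases hh303 : k < 82823
                      · skip
                        exact relsRange_sound mdata bases 277 82546 rel298 k (by omega) (by omega)
                      · skip
                        exact relsRange_sound mdata bases 277 82823 rel299 k (by omega) (by omega)
                · skip
                  by_cases hh304 : k < 83654
                  · skip
                    by_cases hh305 : k < 83377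
                    · skip
                      exact relsRange_sound mdata bases 277 83100 rel300 k (by omega) (by omega)
                    · skip
                      exact relsRange_sound mdata bases 277 83377 rel301 k (by omega) (by omega)
                  · skip
                    by_cases hh306 : k < 83931
                    · skip
                      exact relsRange_sound mdata bases 277 83654 rel302 k (by omega) (by omega)
                    · skip
                      by_cases hh307 : k < 84208
                      · skip
                        exact relsRange_sound mdata bases 277 83931 rel303 k (by omega) (by omega)
                      · skip
                        exact relsRange_sound mdata bases 277 84208 rel304 k (by omega) (by omega)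
              · skip
                by_cases hh308 : k < 85870
                · skip
                  by_cases hh309 : k < 85039
                  · skip
                    by_cases hh310 : k < 84762
                    · skip
                      exact relsRange_sound mdata bases 277 84485 rel305 k (by omega) (by omega)
                    · skip
                      exact relsRange_sound mdata bases 277 84762 rel306 k (by omega) (by omega)
                  · skip
                    by_cases hh311 : k < 85316
                    · skip
                      exact relsRange_sound mdata bases 277 85039 rel307 k (by omega) (by omega)
                    · skip
                      by_cases hh312 : k < 85593
                      · skip
                        exact relsRange_sound mdata bases 277 85316 rel308 k (by omega) (by omega)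
                      · skip
                        exact relsRange_sound mdata bases 277 85593 rel309 k (by omega) (by omega)
                · skip
                  by_cases hh313 : k < 86701
                  · skip
                    by_cases hh314 : k < 86147
                    · skip
                      exact relsRange_sound mdata bases 277 85870 rel310 k (by omega) (by omega)
                    · skip
                      by_cases hh315 : k < 86424
                      · skip
                        exact relsRange_sound mdata bases 277 86147 rel311 k (by omega) (by omega)
                      · skip
                        exact relsRange_sound mdata bases 277 86424 rel312 k (by omega) (by omega)
                  · skip
                    by_cases hh316 : k < 86978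
                    · skip
                      exact relsRange_sound mdata bases 277 86701 rel313 k (by omega) (by omega)
                    · skip
                      by_cases hh317 : k < 87255
                      · skip
                        exact relsRange_sound mdata bases 277 86978 rel314 k (by omega) (by omega)
                      · skip
                        exact relsRange_sound mdata bases 277 87255 rel315 k (by omega) (by omega)
            · skip
              by_cases hh318 : k < 90579
              · skip
                by_cases hh319 : k < 88917
                · skip
                  by_cases hh320 : k < 88086
                  · skip
                    by_cases hh321 : k < 87809
                    · skip
                      exact relsRange_sound mdata bases 277 87532 rel316 k (by omega) (by omega)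
                    · skip
                      exact relsRange_sound mdata bases 277 87809 rel317 k (by omega) (by omega)
                  · skip
                    by_cases hh322 : k < 88363
                    · skip
                      exact relsRange_sound mdata bases 277 88086 rel318 k (by omega) (by omega)
                    · skip
                      by_cases hh323 : k < 88640
                      · skip
                        exact relsRange_sound mdata bases 277 88363 rel319 k (by omega) (by omega)
                      · skip
                        exact relsRange_sound mdata bases 277 88640 rel320 k (by omega) (by omega)
                · skip
                  by_cases hh324 : k < 89748
                  · skip
                    by_cases hh325 : k < 89194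
                    · skip
                      exact relsRange_sound mdata bases 277 88917 rel321 k (by omega) (by omega)
                    · skip
                      by_cases hh326 : k < 89471
                      · skip
                        exact relsRange_sound mdata bases 277 89194 rel322 k (by omega) (by omega)
                      · skip
                        exact relsRange_sound mdata bases 277 89471 rel323 k (by omega) (by omega)
                  · skip
                    by_cases hh327 : k < 90025
                    · skip
                      exact relsRange_sound mdata bases 277 89748 rel324 k (by omega) (by omega)
                    · skip
                      by_cases hh328 : k < 90302
                      · skip
                        exact relsRange_sound mdata bases 277 90025 rel325 k (by omega) (by omega)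
                      · skip
                        exact relsRange_sound mdata bases 277 90302 rel326 k (by omega) (by omega)
              · skip
                by_cases hh329 : k < 91964
                · skip
                  by_cases hh330 : k < 91133
                  · skip
                    by_cases hh331 : k < 90856
                    · skip
                      exact relsRange_sound mdata bases 277 90579 rel327 k (by omega) (by omega)
                    · skip
                      exact relsRange_sound mdata bases 277 90856 rel328 k (by omega) (by omega)
                  · skip
                    by_cases hh332 : k < 91410
                    · skip
                      exact relsRange_sound mdata bases 277 91133 rel329 k (by omega) (by omega)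
                    · skip
                      by_cases hh333 : k < 91687
                      · skip
                        exact relsRange_sound mdata bases 277 91410 rel330 k (by omega) (by omega)
                      · skip
                        exact relsRange_sound mdata bases 277 91687 rel331 k (by omega) (by omega)
                · skip
                  by_cases hh334 : k < 92795
                  · skip
                    by_cases hh335 : k < 92241
                    · skip
                      exact relsRange_sound mdata bases 277 91964 rel332 k (by omega) (by omega)
                    · skip
                      by_cases hh336 : k < 92518
                      · skip
                        exact relsRange_sound mdata bases 277 92241 rel333 k (by omega) (by omega)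
                      · skip
                        exact relsRange_sound mdata bases 277 92518 rel334 k (by omega) (by omega)
                  · skip
                    by_cases hh337 : k < 93072
                    · skip
                      exact relsRange_sound mdata bases 277 92795 rel335 k (by omega) (by omega)
                    · skip
                      by_cases hh338 : k < 93349
                      · skip
                        exact relsRange_sound mdata bases 277 93072 rel336 k (by omega) (by omega)
                      · skip
                        exact relsRange_sound mdata bases 277 93349 rel337 k (by omega) (by omega)
    · skip
      by_cases hh339 : k < 140439
      · skip
        by_cases hh340 : k < 116894
        · skip
          by_cases hh341 : k < 105260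
          · skip
            by_cases hh342 : k < 99443
            · skip
              by_cases hh343 : k < 96396
              · skip
                by_cases hh344 : k < 95011
                · skip
                  by_cases hh345 : k < 94180
                  · skip
                    by_cases hh346 : k < 93903
                    · skip
                      exact relsRange_sound mdata bases 277 93626 rel338 k (by omega) (by omega)
                    · skip
                      exact relsRange_sound mdata bases 277 93903 rel339 k (by omega) (by omega)
                  · skip
                    by_cases hh347 : k < 94457
                    · skip
                      exact relsRange_sound mdata bases 277 94180 rel340 k (by omega) (by omega)
                    · skip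
                      by_cases hh348 : k < 94734
                      · skip
                        exact relsRange_sound mdata bases 277 94457 rel341 k (by omega) (by omega)
                      · skip
                        exact relsRange_sound mdata bases 277 94734 rel342 k (by omega) (by omega)
                · skip
                  by_cases hh349 : k < 95565
                  · skip
                    by_cases hh350 : k < 95288
                    · skip
                      exact relsRange_sound mdata bases 277 95011 rel343 k (by omega) (by omega)
                    · skip
                      exact relsRange_sound mdata bases 277 95288 rel344 k (by omega) (by omega)
                  · skip
                    by_cases hh351 : k < 95842
                    · skip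
                      exact relsRange_sound mdata bases 277 95565 rel345 k (by omega) (by omega)
                    · skip
                      by_cases hh352 : k < 96119
                      · skip
                        exact relsRange_sound mdata bases 277 95842 rel346 k (by omega) (by omega)
                      · skip
                        exact relsRange_sound mdata bases 277 96119 rel347 k (by omega) (by omega)
              · skip
                by_cases hh353 : k < 97781
                · skip
                  by_cases hh354 : k < 96950
                  · skip
                    by_cases hh355 : k < 96673
                    · skip
                      exact relsRange_sound mdata bases 277 96396 rel348 k (by omega) (by omega)
                    · skip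
                      exact relsRange_sound mdata bases 277 96673 rel349 k (by omega) (by omega)
                  · skip
                    by_cases hh356 : k < 97227
                    · skip
                      exact relsRange_sound mdata bases 277 96950 rel350 k (by omega) (by omega)
                    · skip
                      by_cases hh357 : k < 97504
                      · skip
                        exact relsRange_sound mdata bases 277 97227 rel351 k (by omega) (by omega)
                      · skip
                        exact relsRange_sound mdata bases 277 97504 rel352 k (by omega) (by omega)
                · skip
                  by_cases hh358 : k < 98612
                  · skip
                    by_cases hh359 : k < 98058
                    · skip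
                      exact relsRange_sound mdata bases 277 97781 rel353 k (by omega) (by omega)
                    · skip
                      by_cases hh360 : k < 98335
                      · skip
                        exact relsRange_sound mdata bases 277 98058 rel354 k (by omega) (by omega)
                      · skip
                        exact relsRange_sound mdata bases 277 98335 rel355 k (by omega) (by omega)
                  · skip
                    by_cases hh361 : k < 98889
                    · skip
                      exact relsRange_sound mdata bases 277 98612 rel356 k (by omega) (by omega)
                    · skip
                      by_cases hh362 : k < 99166
                      · skip
                        exact relsRange_sound mdata bases 277 98889 rel357 k (by omega) (by omega)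
                      · skip
                        exact relsRange_sound mdata bases 277 99166 rel358 k (by omega) (by omega)
            · skip
              by_cases hh363 : k < 102213
              · skip
                by_cases hh364 : k < 100828
                · skip
                  by_cases hh365 : k < 99997
                  · skip
                    by_cases hh366 : k < 99720
                    · skip
                      exact relsRange_sound mdata bases 277 99443 rel359 k (by omega) (by omega)
                    · skip
                      exact relsRange_sound mdata bases 277 99720 rel360 k (by omega) (by omega)
                  · skip
                    by_cases hh367 : k < 100274
                    · skip
                      exact relsRange_sound mdata bases 277 99997 rel361 k (by omega) (by omega)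
                    · skip
                      by_cases hh368 : k < 100551
                      · skip
                        exact relsRange_sound mdata bases 277 100274 rel362 k (by omega) (by omega)
                      · skip
                        exact relsRange_sound mdata bases 277 100551 rel363 k (by omega) (by omega)
                · skip
                  by_cases hh369 : k < 101382
                  · skip
                    by_cases hh370 : k < 101105
                    · skip
                      exact relsRange_sound mdata bases 277 100828 rel364 k (by omega) (by omega)
                    · skip
                      exact relsRange_sound mdata bases 277 101105 rel365 k (by omega) (by omega)
                  · skip
                    by_cases hh371 : k < 101659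
                    · skip
                      exact relsRange_sound mdata bases 277 101382 rel366 k (by omega) (by omega)
                    · skip
                      by_cases hh372 : k < 101936
                      · skip
                        exact relsRange_sound mdata bases 277 101659 rel367 k (by omega) (by omega)
                      · skip
                        exact relsRange_sound mdata bases 277 101936 rel368 k (by omega) (by omega)
              · skip
                by_cases hh373 : k < 103598
                · skip
                  by_cases hh374 : k < 102767
                  · skip
                    by_cases hh375 : k < 102490
                    · skip
                      exact relsRange_sound mdata bases 277 102213 rel369 k (by omega) (by omega)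
                    · skip
                      exact relsRange_sound mdata bases 277 102490 rel370 k (by omega) (by omega)
                  · skip
                    by_cases hh376 : k < 103044
                    · skip
                      exact relsRange_sound mdata bases 277 102767 rel371 k (by omega) (by omega)
                    · skip
                      by_cases hh377 : k < 103321
                      · skip
                        exact relsRange_sound mdata bases 277 103044 rel372 k (by omega) (by omega)
                      · skip
                        exact relsRange_sound mdata bases 277 103321 rel373 k (by omega) (by omega)
                · skip
                  by_cases hh378 : k < 104429
                  · skip
                    by_cases hh379 : k < 103875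
                    · skip
                      exact relsRange_sound mdata bases 277 103598 rel374 k (by omega) (by omega)
                    · skip
                      by_cases hh380 : k < 104152
                      · skip
                        exact relsRange_sound mdata bases 277 103875 rel375 k (by omega) (by omega)
                      · skip
                        exact relsRange_sound mdata bases 277 104152 rel376 k (by omega) (by omega)
                  · skip
                    by_cases hh381 : k < 104706
                    · skip
                      exact relsRange_sound mdata bases 277 104429 rel377 k (by omega) (by omega)
                    · skip
                      by_cases hh382 : k < 104983
                      · skip
                        exact relsRange_sound mdata bases 277 104706 rel378 k (by omega) (by omega)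
                      · skip
                        exact relsRange_sound mdata bases 277 104983 rel379 k (by omega) (by omega)
          · skip
            by_cases hh383 : k < 111077
            · skip
              by_cases hh384 : k < 108030
              · skip
                by_cases hh385 : k < 106645
                · skip
                  by_cases hh386 : k < 105814
                  · skip
                    by_cases hh387 : k < 105537
                    · skip
                      exact relsRange_sound mdata bases 277 105260 rel380 k (by omega) (by omega)
                    · skip
                      exact relsRange_sound mdata bases 277 105537 rel381 k (by omega) (by omega)
                  · skip
                    by_cases hh388 : k < 106091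
                    · skip
                      exact relsRange_sound mdata bases 277 105814 rel382 k (by omega) (by omega)
                    · skip
                      by_cases hh389 : k < 106368
                      · skip
                        exact relsRange_sound mdata bases 277 106091 rel383 k (by omega) (by omega)
                      · skip
                        exact relsRange_sound mdata bases 277 106368 rel384 k (by omega) (by omega)
                · skip
                  by_cases hh390 : k < 107199
                  · skip
                    by_cases hh391 : k < 106922
                    · skip
                      exact relsRange_sound mdata bases 277 106645 rel385 k (by omega) (by omega)
                    · skip
                      exact relsRange_sound mdata bases 277 106922 rel386 k (by omega) (by omega)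
                  · skip
                    by_cases hh392 : k < 107476
                    · skip
                      exact relsRange_sound mdata bases 277 107199 rel387 k (by omega) (by omega)
                    · skip
                      by_cases hh393 : k < 107753
                      · skip
                        exact relsRange_sound mdata bases 277 107476 rel388 k (by omega) (by omega)
                      · skip
                        exact relsRange_sound mdata bases 277 107753 rel389 k (by omega) (by omega)
              · skip
                by_cases hh394 : k < 109415
                · skip
                  by_cases hh395 : k < 108584
                  · skip
                    by_cases hh396 : k < 108307
                    · skip
                      exact relsRange_sound mdata bases 277 108030 rel390 k (by omega) (by omega)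
                    · skip
                      exact relsRange_sound mdata bases 277 108307 rel391 k (by omega) (by omega)
                  · skip
                    by_cases hh397 : k < 108861
                    · skip
                      exact relsRange_sound mdata bases 277 108584 rel392 k (by omega) (by omega)
                    · skip
                      by_cases hh398 : k < 109138
                      · skip
                        exact relsRange_sound mdata bases 277 108861 rel393 k (by omega) (by omega)
                      · skip
                        exact relsRange_sound mdata bases 277 109138 rel394 k (by omega) (by omega)
                · skip
                  by_cases hh399 : k < 110246
                  · skip
                    by_cases hh400 : k < 109692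
                    · skip
                      exact relsRange_sound mdata bases 277 109415 rel395 k (by omega) (by omega)
                    · skip
                      by_cases hh401 : k < 109969
                      · skip
                        exact relsRange_sound mdata bases 277 109692 rel396 k (by omega) (by omega)
                      · skip
                        exact relsRange_sound mdata bases 277 109969 rel397 k (by omega) (by omega)
                  · skip
                    by_cases hh402 : k < 110523
                    · skip
                      exact relsRange_sound mdata bases 277 110246 rel398 k (by omega) (by omega)
                    · skip
                      by_cases hh403 : k < 110800
                      · skip
                        exact relsRange_sound mdata bases 277 110523 rel399 k (by omega) (by omega)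
                      · skip
                        exact relsRange_sound mdata bases 277 110800 rel400 k (by omega) (by omega)
            · skip
              by_cases hh404 : k < 113847
              · skip
                by_cases hh405 : k < 112462
                · skip
                  by_cases hh406 : k < 111631
                  · skip
                    by_cases hh407 : k < 111354
                    · skip
                      exact relsRange_sound mdata bases 277 111077 rel401 k (by omega) (by omega)
                    · skip
                      exact relsRange_sound mdata bases 277 111354 rel402 k (by omega) (by omega)
                  · skip
                    by_cases hh408 : k < 111908
                    · skip
                      exact relsRange_sound mdata bases 277 111631 rel403 k (by omega) (by omega)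
                    · skip
                      by_cases hh409 : k < 112185
                      · skip
                        exact relsRange_sound mdata bases 277 111908 rel404 k (by omega) (by omega)
                      · skip
                        exact relsRange_sound mdata bases 277 112185 rel405 k (by omega) (by omega)
                · skip
                  by_cases hh410 : k < 113016
                  · skip
                    by_cases hh411 : k < 112739
                    · skip
                      exact relsRange_sound mdata bases 277 112462 rel406 k (by omega) (by omega)
                    · skip
                      exact relsRange_sound mdata bases 277 112739 rel407 k (by omega) (by omega)
                  · skip
                    by_cases hh412 : k < 113293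
                    · skip
                      exact relsRange_sound mdata bases 277 113016 rel408 k (by omega) (by omega)
                    · skip
                      by_cases hh413 : k < 113570
                      · skip
                        exact relsRange_sound mdata bases 277 113293 rel409 k (by omega) (by omega)
                      · skip
                        exact relsRange_sound mdata bases 277 113570 rel410 k (by omega) (by omega)
              · skip
                by_cases hh414 : k < 115232
                · skip
                  by_cases hh415 : k < 114401
                  · skip
                    by_cases hh416 : k < 114124
                    · skip
                      exact relsRange_sound mdata bases 277 113847 rel411 k (by omega) (by omega)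
                    · skip
                      exact relsRange_sound mdata bases 277 114124 rel412 k (by omega) (by omega)
                  · skip
                    by_cases hh417 : k < 114678
                    · skip
                      exact relsRange_sound mdata bases 277 114401 rel413 k (by omega) (by omega)
                    · skip
                      by_cases hh418 : k < 114955
                      · skip
                        exact relsRange_sound mdata bases 277 114678 rel414 k (by omega) (by omega)
                      · skip
                        exact relsRange_sound mdata bases 277 114955 rel415 k (by omega) (by omega)
                · skip
                  by_cases hh419 : k < 116063
                  · skip
                    by_cases hh420 : k < 115509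
                    · skip
                      exact relsRange_sound mdata bases 277 115232 rel416 k (by omega) (by omega)
                    · skip
                      by_cases hh421 : k < 115786
                      · skip
                        exact relsRange_sound mdata bases 277 115509 rel417 k (by omega) (by omega)
                      · skip
                        exact relsRange_sound mdata bases 277 115786 rel418 k (by omega) (by omega)
                  · skip
                    by_cases hh422 : k < 116340
                    · skip
                      exact relsRange_sound mdata bases 277 116063 rel419 k (by omega) (by omega)
                    · skip
                      by_cases hh423 : k < 116617
                      · skip
                        exact relsRange_sound mdata bases 277 116340 rel420 k (by omega) (by omega)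
                      · skip
                        exact relsRange_sound mdata bases 277 116617 rel421 k (by omega) (by omega)
        · skip
          by_cases hh424 : k < 128528
          · skip
            by_cases hh425 : k < 122711
            · skip
              by_cases hh426 : k < 119664
              · skip
                by_cases hh427 : k < 118279
                · skip
                  by_cases hh428 : k < 117448
                  · skip
                    by_cases hh429 : k < 117171
                    · skip
                      exact relsRange_sound mdata bases 277 116894 rel422 k (by omega) (by omega)
                    · skip
                      exact relsRange_sound mdata bases 277 117171 rel423 k (by omega) (by omega)
                  · skip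
                    by_cases hh430 : k < 117725
                    · skip
                      exact relsRange_sound mdata bases 277 117448 rel424 k (by omega) (by omega)
                    · skip
                      by_cases hh431 : k < 118002
                      · skip
                        exact relsRange_sound mdata bases 277 117725 rel425 k (by omega) (by omega)
                      · skip
                        exact relsRange_sound mdata bases 277 118002 rel426 k (by omega) (by omega)
                · skip
                  by_cases hh432 : k < 118833
                  · skip
                    by_cases hh433 : k < 118556
                    · skip
                      exact relsRange_sound mdata bases 277 118279 rel427 k (by omega) (by omega)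
                    · skip
                      exact relsRange_sound mdata bases 277 118556 rel428 k (by omega) (by omega)
                  · skip
                    by_cases hh434 : k < 119110
                    · skip
                      exact relsRange_sound mdata bases 277 118833 rel429 k (by omega) (by omega)
                    · skip
                      by_cases hh435 : k < 119387
                      · skip
                        exact relsRange_sound mdata bases 277 119110 rel430 k (by omega) (by omega)
                      · skip
                        exact relsRange_sound mdata bases 277 119387 rel431 k (by omega) (by omega)
              · skip
                by_cases hh436 : k < 121049
                · skip
                  by_cases hh437 : k < 120218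
                  · skip
                    by_cases hh438 : k < 119941
                    · skip
                      exact relsRange_sound mdata bases 277 119664 rel432 k (by omega) (by omega)
                    · skip
                      exact relsRange_sound mdata bases 277 119941 rel433 k (by omega) (by omega)
                  · skip
                    by_cases hh439 : k < 120495
                    · skip
                      exact relsRange_sound mdata bases 277 120218 rel434 k (by omega) (by omega)
                    · skip
                      by_cases hh440 : k < 120772
                      · skip
                        exact relsRange_sound mdata bases 277 120495 rel435 k (by omega) (by omega)
                      · skip
                        exact relsRange_sound mdata bases 277 120772 rel436 k (by omega) (by omega)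
                · skip
                  by_cases hh441 : k < 121880
                  · skip
                    by_cases hh442 : k < 121326
                    · skip
                      exact relsRange_sound mdata bases 277 121049 rel437 k (by omega) (by omega)
                    · skip
                      by_cases hh443 : k < 121603
                      · skip
                        exact relsRange_sound mdata bases 277 121326 rel438 k (by omega) (by omega)
                      · skip
                        exact relsRange_sound mdata bases 277 121603 rel439 k (by omega) (by omega)
                  · skip
                    by_cases hh444 : k < 122157
                    · skip
                      exact relsRange_sound mdata bases 277 121880 rel440 k (by omega) (by omega)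
                    · skip
                      by_cases hh445 : k < 122434
                      · skip
                        exact relsRange_sound mdata bases 277 122157 rel441 k (by omega) (by omega)
                      · skip
                        exact relsRange_sound mdata bases 277 122434 rel442 k (by omega) (by omega)
            · skip
              by_cases hh446 : k < 125481
              · skip
                by_cases hh447 : k < 124096
                · skip
                  by_cases hh448 : k < 123265
                  · skip
                    by_cases hh449 : k < 122988
                    · skip
                      exact relsRange_sound mdata bases 277 122711 rel443 k (by omega) (by omega)
                    · skip
                      exact relsRange_sound mdata bases 277 122988 rel444 k (by omega) (by omega)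
                  · skip
                    by_cases hh450 : k < 123542
                    · skip
                      exact relsRange_sound mdata bases 277 123265 rel445 k (by omega) (by omega)
                    · skip
                      by_cases hh451 : k < 123819
                      · skip
                        exact relsRange_sound mdata bases 277 123542 rel446 k (by omega) (by omega)
                      · skip
                        exact relsRange_sound mdata bases 277 123819 rel447 k (by omega) (by omega)
                · skip
                  by_cases hh452 : k < 124650
                  · skip
                    by_cases hh453 : k < 124373
                    · skip
                      exact relsRange_sound mdata bases 277 124096 rel448 k (by omega) (by omega)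
                    · skip
                      exact relsRange_sound mdata bases 277 124373 rel449 k (by omega) (by omega)
                  · skip
                    by_cases hh454 : k < 124927
                    · skip
                      exact relsRange_sound mdata bases 277 124650 rel450 k (by omega) (by omega)
                    · skip
                      by_cases hh455 : k < 125204
                      · skip
                        exact relsRange_sound mdata bases 277 124927 rel451 k (by omega) (by omega)
                      · skip
                        exact relsRange_sound mdata bases 277 125204 rel452 k (by omega) (by omega)
              · skip
                by_cases hh456 : k < 126866
                · skip
                  by_cases hh457 : k < 126035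
                  · skip
                    by_cases hh458 : k < 125758
                    · skip
                      exact relsRange_sound mdata bases 277 125481 rel453 k (by omega) (by omega)
                    · skip
                      exact relsRange_sound mdata bases 277 125758 rel454 k (by omega) (by omega)
                  · skip
                    by_cases hh459 : k < 126312
                    · skip
                      exact relsRange_sound mdata bases 277 126035 rel455 k (by omega) (by omega)
                    · skip
                      by_cases hh460 : k < 126589
                      · skip
                        exact relsRange_sound mdata bases 277 126312 rel456 k (by omega) (by omega)
                      · skip
                        exact relsRange_sound mdata bases 277 126589 rel457 k (by omega) (by omega)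
                · skip
                  by_cases hh461 : k < 127697
                  · skip
                    by_cases hh462 : k < 127143
                    · skip
                      exact relsRange_sound mdata bases 277 126866 rel458 k (by omega) (by omega)
                    · skip
                      by_cases hh463 : k < 127420
                      · skip
                        exact relsRange_sound mdata bases 277 127143 rel459 k (by omega) (by omega)
                      · skip
                        exact relsRange_sound mdata bases 277 127420 rel460 k (by omega) (by omega)
                  · skip
                    by_cases hh464 : k < 127974
                    · skip
                      exact relsRange_sound mdata bases 277 127697 rel461 k (by omega) (by omega)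
                    · skip
                      by_cases hh465 : k < 128251
                      · skip
                        exact relsRange_sound mdata bases 277 127974 rel462 k (by omega) (by omega)
                      · skip
                        exact relsRange_sound mdata bases 277 128251 rel463 k (by omega) (by omega)
          · skip
            by_cases hh466 : k < 134345
            · skip
              by_cases hh467 : k < 131298
              · skip
                by_cases hh468 : k < 129913
                · skip
                  by_cases hh469 : k < 129082
                  · skip
                    by_cases hh470 : k < 128805
                    · skip
                      exact relsRange_sound mdata bases 277 128528 rel464 k (by omega) (by omega)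
                    · skip
                      exact relsRange_sound mdata bases 277 128805 rel465 k (by omega) (by omega)
                  · skip
                    by_cases hh471 : k < 129359
                    · skip
                      exact relsRange_sound mdata bases 277 129082 rel466 k (by omega) (by omega)
                    · skip
                      by_cases hh472 : k < 129636
                      · skip
                        exact relsRange_sound mdata bases 277 129359 rel467 k (by omega) (by omega)
                      · skip
                        exact relsRange_sound mdata bases 277 129636 rel468 k (by omega) (by omega)
                · skip
                  by_cases hh473 : k < 130467
                  · skip
                    by_cases hh474 : k < 130190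
                    · skip
                      exact relsRange_sound mdata bases 277 129913 rel469 k (by omega) (by omega)
                    · skip
                      exact relsRange_sound mdata bases 277 130190 rel470 k (by omega) (by omega)
                  · skip
                    by_cases hh475 : k < 130744
                    · skip
                      exact relsRange_sound mdata bases 277 130467 rel471 k (by omega) (by omega)
                    · skip
                      by_cases hh476 : k < 131021
                      · skip
                        exact relsRange_sound mdata bases 277 130744 rel472 k (by omega) (by omega)
                      · skip
                        exact relsRange_sound mdata bases 277 131021 rel473 k (by omega) (by omega)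
              · skip
                by_cases hh477 : k < 132683
                · skip
                  by_cases hh478 : k < 131852
                  · skip
                    by_cases hh479 : k < 131575
                    · skip
                      exact relsRange_sound mdata bases 277 131298 rel474 k (by omega) (by omega)
                    · skip
                      exact relsRange_sound mdata bases 277 131575 rel475 k (by omega) (by omega)
                  · skip
                    by_cases hh480 : k < 132129
                    · skip
                      exact relsRange_sound mdata bases 277 131852 rel476 k (by omega) (by omega)
                    · skip
                      by_cases hh481 : k < 132406
                      · skip
                        exact relsRange_sound mdata bases 277 132129 rel477 k (by omega) (by omega)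
                      · skip
                        exact relsRange_sound mdata bases 277 132406 rel478 k (by omega) (by omega)
                · skip
                  by_cases hh482 : k < 133514
                  · skip
                    by_cases hh483 : k < 132960
                    · skip
                      exact relsRange_sound mdata bases 277 132683 rel479 k (by omega) (by omega)
                    · skip
                      by_cases hh484 : k < 133237
                      · skip
                        exact relsRange_sound mdata bases 277 132960 rel480 k (by omega) (by omega)
                      · skip
                        exact relsRange_sound mdata bases 277 133237 rel481 k (by omega) (by omega)
                  · skip
                    by_cases hh485 : k < 133791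
                    · skip
                      exact relsRange_sound mdata bases 277 133514 rel482 k (by omega) (by omega)
                    · skip
                      by_cases hh486 : k < 134068
                      · skip
                        exact relsRange_sound mdata bases 277 133791 rel483 k (by omega) (by omega)
                      · skip
                        exact relsRange_sound mdata bases 277 134068 rel484 k (by omega) (by omega)
            · skip
              by_cases hh487 : k < 137392
              · skip
                by_cases hh488 : k < 135730
                · skip
                  by_cases hh489 : k < 134899
                  · skip
                    by_cases hh490 : k < 134622
                    · skip
                      exact relsRange_sound mdata bases 277 134345 rel485 k (by omega) (by omega)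
                    · skip
                      exact relsRange_sound mdata bases 277 134622 rel486 k (by omega) (by omega)
                  · skip
                    by_cases hh491 : k < 135176
                    · skip
                      exact relsRange_sound mdata bases 277 134899 rel487 k (by omega) (by omega)
                    · skip
                      by_cases hh492 : k < 135453
                      · skip
                        exact relsRange_sound mdata bases 277 135176 rel488 k (by omega) (by omega)
                      · skip
                        exact relsRange_sound mdata bases 277 135453 rel489 k (by omega) (by omega)
                · skip
                  by_cases hh493 : k < 136561
                  · skip
                    by_cases hh494 : k < 136007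
                    · skip
                      exact relsRange_sound mdata bases 277 135730 rel490 k (by omega) (by omega)
                    · skip
                      by_cases hh495 : k < 136284
                      · skip
                        exact relsRange_sound mdata bases 277 136007 rel491 k (by omega) (by omega)
                      · skip
                        exact relsRange_sound mdata bases 277 136284 rel492 k (by omega) (by omega)
                  · skip
                    by_cases hh496 : k < 136838
                    · skip
                      exact relsRange_sound mdata bases 277 136561 rel493 k (by omega) (by omega)
                    · skip
                      by_cases hh497 : k < 137115
                      · skip
                        exact relsRange_sound mdata bases 277 136838 rel494 k (by omega) (by omega)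
                      · skip
                        exact relsRange_sound mdata bases 277 137115 rel495 k (by omega) (by omega)
              · skip
                by_cases hh498 : k < 138777
                · skip
                  by_cases hh499 : k < 137946
                  · skip
                    by_cases hh500 : k < 137669
                    · skip
                      exact relsRange_sound mdata bases 277 137392 rel496 k (by omega) (by omega)
                    · skip
                      exact relsRange_sound mdata bases 277 137669 rel497 k (by omega) (by omega)
                  · skip
                    by_cases hh501 : k < 138223
                    · skip
                      exact relsRange_sound mdata bases 277 137946 rel498 k (by omega) (by omega)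
                    · skip
                      by_cases hh502 : k < 138500
                      · skip
                        exact relsRange_sound mdata bases 277 138223 rel499 k (by omega) (by omega)
                      · skip
                        exact relsRange_sound mdata bases 277 138500 rel500 k (by omega) (by omega)
                · skip
                  by_cases hh503 : k < 139608
                  · skip
                    by_cases hh504 : k < 139054
                    · skip
                      exact relsRange_sound mdata bases 277 138777 rel501 k (by omega) (by omega)
                    · skip
                      by_cases hh505 : k < 139331
                      · skip
                        exact relsRange_sound mdata bases 277 139054 rel502 k (by omega) (by omega)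
                      · skip
                        exact relsRange_sound mdata bases 277 139331 rel503 k (by omega) (by omega)
                  · skip
                    by_cases hh506 : k < 139885
                    · skip
                      exact relsRange_sound mdata bases 277 139608 rel504 k (by omega) (by omega)
                    · skip
                      by_cases hh507 : k < 140162
                      · skip
                        exact relsRange_sound mdata bases 277 139885 rel505 k (by omega) (by omega)
                      · skip
                        exact relsRange_sound mdata bases 277 140162 rel506 k (by omega) (by omega)
      · skip
        by_cases hh508 : k < 163984
        · skip
          by_cases hh509 : k < 152073
          · skip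
            by_cases hh510 : k < 146256
            · skip
              by_cases hh511 : k < 143209
              · skip
                by_cases hh512 : k < 141824
                · skip
                  by_cases hh513 : k < 140993
                  · skip
                    by_cases hh514 : k < 140716
                    · skip
                      exact relsRange_sound mdata bases 277 140439 rel507 k (by omega) (by omega)
                    · skip
                      exact relsRange_sound mdata bases 277 140716 rel508 k (by omega) (by omega)
                  · skip
                    by_cases hh515 : k < 141270
                    · skip
                      exact relsRange_sound mdata bases 277 140993 rel509 k (by omega) (by omega)
                    · skip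
                      by_cases hh516 : k < 141547
                      · skip
                        exact relsRange_sound mdata bases 277 141270 rel510 k (by omega) (by omega)
                      · skip
                        exact relsRange_sound mdata bases 277 141547 rel511 k (by omega) (by omega)
                · skip
                  by_cases hh517 : k < 142378
                  · skip
                    by_cases hh518 : k < 142101
                    · skip
                      exact relsRange_sound mdata bases 277 141824 rel512 k (by omega) (by omega)
                    · skip
                      exact relsRange_sound mdata bases 277 142101 rel513 k (by omega) (by omega)
                  · skip
                    by_cases hh519 : k < 142655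
                    · skip
                      exact relsRange_sound mdata bases 277 142378 rel514 k (by omega) (by omega)
                    · skip
                      by_cases hh520 : k < 142932
                      · skip
                        exact relsRange_sound mdata bases 277 142655 rel515 k (by omega) (by omega)
                      · skip
                        exact relsRange_sound mdata bases 277 142932 rel516 k (by omega) (by omega)
              · skip
                by_cases hh521 : k < 144594
                · skip
                  by_cases hh522 : k < 143763
                  · skip
                    by_cases hh523 : k < 143486
                    · skip
                      exact relsRange_sound mdata bases 277 143209 rel517 k (by omega) (by omega)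
                    · skip
                      exact relsRange_sound mdata bases 277 143486 rel518 k (by omega) (by omega)
                  · skip
                    by_cases hh524 : k < 144040
                    · skip
                      exact relsRange_sound mdata bases 277 143763 rel519 k (by omega) (by omega)
                    · skip
                      by_cases hh525 : k < 144317
                      · skip
                        exact relsRange_sound mdata bases 277 144040 rel520 k (by omega) (by omega)
                      · skip
                        exact relsRange_sound mdata bases 277 144317 rel521 k (by omega) (by omega)
                · skip
                  by_cases hh526 : k < 145425
                  · skip
                    by_cases hh527 : k < 144871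
                    · skip
                      exact relsRange_sound mdata bases 277 144594 rel522 k (by omega) (by omega)
                    · skip
                      by_cases hh528 : k < 145148
                      · skip
                        exact relsRange_sound mdata bases 277 144871 rel523 k (by omega) (by omega)
                      · skip
                        exact relsRange_sound mdata bases 277 145148 rel524 k (by omega) (by omega)
                  · skip
                    by_cases hh529 : k < 145702
                    · skip
                      exact relsRange_sound mdata bases 277 145425 rel525 k (by omega) (by omega)
                    · skip
                      by_cases hh530 : k < 145979
                      · skip
                        exact relsRange_sound mdata bases 277 145702 rel526 k (by omega) (by omega)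
                      · skip
                        exact relsRange_sound mdata bases 277 145979 rel527 k (by omega) (by omega)
            · skip
              by_cases hh531 : k < 149026
              · skip
                by_cases hh532 : k < 147641
                · skip
                  by_cases hh533 : k < 146810
                  · skip
                    by_cases hh534 : k < 146533
                    · skip
                      exact relsRange_sound mdata bases 277 146256 rel528 k (by omega) (by omega)
                    · skip
                      exact relsRange_sound mdata bases 277 146533 rel529 k (by omega) (by omega)
                  · skip
                    by_cases hh535 : k < 147087
                    · skip
                      exact relsRange_sound mdata bases 277 146810 rel530 k (by omega) (by omega)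
                    · skip
                      by_cases hh536 : k < 147364
                      · skip
                        exact relsRange_sound mdata bases 277 147087 rel531 k (by omega) (by omega)
                      · skip
                        exact relsRange_sound mdata bases 277 147364 rel532 k (by omega) (by omega)
                · skip
                  by_cases hh537 : k < 148195
                  · skip
                    by_cases hh538 : k < 147918
                    · skip
                      exact relsRange_sound mdata bases 277 147641 rel533 k (by omega) (by omega)
                    · skip
                      exact relsRange_sound mdata bases 277 147918 rel534 k (by omega) (by omega)
                  · skip
                    by_cases hh539 : k < 148472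
                    · skip
                      exact relsRange_sound mdata bases 277 148195 rel535 k (by omega) (by omega)
                    · skip
                      by_cases hh540 : k < 148749
                      · skip
                        exact relsRange_sound mdata bases 277 148472 rel536 k (by omega) (by omega)
                      · skip
                        exact relsRange_sound mdata bases 277 148749 rel537 k (by omega) (by omega)
              · skip
                by_cases hh541 : k < 150411
                · skip
                  by_cases hh542 : k < 149580
                  · skip
                    by_cases hh543 : k < 149303
                    · skip
                      exact relsRange_sound mdata bases 277 149026 rel538 k (by omega) (by omega)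
                    · skip
                      exact relsRange_sound mdata bases 277 149303 rel539 k (by omega) (by omega)
                  · skip
                    by_cases hh544 : k < 149857
                    · skip
                      exact relsRange_sound mdata bases 277 149580 rel540 k (by omega) (by omega)
                    · skip
                      by_cases hh545 : k < 150134
                      · skip
                        exact relsRange_sound mdata bases 277 149857 rel541 k (by omega) (by omega)
                      · skip
                        exact relsRange_sound mdata bases 277 150134 rel542 k (by omega) (by omega)
                · skip
                  by_cases hh546 : k < 151242
                  · skip
                    by_cases hh547 : k < 150688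
                    · skip
                      exact relsRange_sound mdata bases 277 150411 rel543 k (by omega) (by omega)
                    · skip
                      by_cases hh548 : k < 150965
                      · skip
                        exact relsRange_sound mdata bases 277 150688 rel544 k (by omega) (by omega)
                      · skip
                        exact relsRange_sound mdata bases 277 150965 rel545 k (by omega) (by omega)
                  · skip
                    by_cases hh549 : k < 151519
                    · skip
                      exact relsRange_sound mdata bases 277 151242 rel546 k (by omega) (by omega)
                    · skip
                      by_cases hh550 : k < 151796
                      · skip
                        exact relsRange_sound mdata bases 277 151519 rel547 k (by omega) (by omega)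
                      · skip
                        exact relsRange_sound mdata bases 277 151796 rel548 k (by omega) (by omega)
          · skip
            by_cases hh551 : k < 157890
            · skip
              by_cases hh552 : k < 154843
              · skip
                by_cases hh553 : k < 153458
                · skip
                  by_cases hh554 : k < 152627
                  · skip
                    by_cases hh555 : k < 152350
                    · skip
                      exact relsRange_sound mdata bases 277 152073 rel549 k (by omega) (by omega)
                    · skip
                      exact relsRange_sound mdata bases 277 152350 rel550 k (by omega) (by omega)
                  · skip
                    by_cases hh556 : k < 152904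
                    · skip
                      exact relsRange_sound mdata bases 277 152627 rel551 k (by omega) (by omega)
                    · skip
                      by_cases hh557 : k < 153181
                      · skip
                        exact relsRange_sound mdata bases 277 152904 rel552 k (by omega) (by omega)
                      · skip
                        exact relsRange_sound mdata bases 277 153181 rel553 k (by omega) (by omega)
                · skip
                  by_cases hh558 : k < 154012
                  · skip
                    by_cases hh559 : k < 153735
                    · skip
                      exact relsRange_sound mdata bases 277 153458 rel554 k (by omega) (by omega)
                    · skip
                      exact relsRange_sound mdata bases 277 153735 rel555 k (by omega) (by omega)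
                  · skip
                    by_cases hh560 : k < 154289
                    · skip
                      exact relsRange_sound mdata bases 277 154012 rel556 k (by omega) (by omega)
                    · skip
                      by_cases hh561 : k < 154566
                      · skip
                        exact relsRange_sound mdata bases 277 154289 rel557 k (by omega) (by omega)
                      · skip
                        exact relsRange_sound mdata bases 277 154566 rel558 k (by omega) (by omega)
              · skip
                by_cases hh562 : k < 156228
                · skip
                  by_cases hh563 : k < 155397
                  · skip
                    by_cases hh564 : k < 155120
                    · skip
                      exact relsRange_sound mdata bases 277 154843 rel559 k (by omega) (by omega)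
                    · skip
                      exact relsRange_sound mdata bases 277 155120 rel560 k (by omega) (by omega)
                  · skip
                    by_cases hh565 : k < 155674
                    · skip
                      exact relsRange_sound mdata bases 277 155397 rel561 k (by omega) (by omega)
                    · skip
                      by_cases hh566 : k < 155951
                      · skip
                        exact relsRange_sound mdata bases 277 155674 rel562 k (by omega) (by omega)
                      · skip
                        exact relsRange_sound mdata bases 277 155951 rel563 k (by omega) (by omega)
                · skip
                  by_cases hh567 : k < 157059
                  · skip
                    by_cases hh568 : k < 156505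
                    · skip
                      exact relsRange_sound mdata bases 277 156228 rel564 k (by omega) (by omega)
                    · skip
                      by_cases hh569 : k < 156782
                      · skip
                        exact relsRange_sound mdata bases 277 156505 rel565 k (by omega) (by omega)
                      · skip
                        exact relsRange_sound mdata bases 277 156782 rel566 k (by omega) (by omega)
                  · skip
                    by_cases hh570 : k < 157336
                    · skip
                      exact relsRange_sound mdata bases 277 157059 rel567 k (by omega) (by omega)
                    · skip
                      by_cases hh571 : k < 157613
                      · skip
                        exact relsRange_sound mdata bases 277 157336 rel568 k (by omega) (by omega)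
                      · skip
                        exact relsRange_sound mdata bases 277 157613 rel569 k (by omega) (by omega)
            · skip
              by_cases hh572 : k < 160937
              · skip
                by_cases hh573 : k < 159275
                · skip
                  by_cases hh574 : k < 158444
                  · skip
                    by_cases hh575 : k < 158167
                    · skip
                      exact relsRange_sound mdata bases 277 157890 rel570 k (by omega) (by omega)
                    · skip
                      exact relsRange_sound mdata bases 277 158167 rel571 k (by omega) (by omega)
                  · skip
                    by_cases hh576 : k < 158721
                    · skip
                      exact relsRange_sound mdata bases 277 158444 rel572 k (by omega) (by omega)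
                    · skip
                      by_cases hh577 : k < 158998
                      · skip
                        exact relsRange_sound mdata bases 277 158721 rel573 k (by omega) (by omega)
                      · skip
                        exact relsRange_sound mdata bases 277 158998 rel574 k (by omega) (by omega)
                · skip
                  by_cases hh578 : k < 160106
                  · skip
                    by_cases hh579 : k < 159552
                    · skip
                      exact relsRange_sound mdata bases 277 159275 rel575 k (by omega) (by omega)
                    · skip
                      by_cases hh580 : k < 159829
                      · skip
                        exact relsRange_sound mdata bases 277 159552 rel576 k (by omega) (by omega)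
                      · skip
                        exact relsRange_sound mdata bases 277 159829 rel577 k (by omega) (by omega)
                  · skip
                    by_cases hh581 : k < 160383
                    · skip
                      exact relsRange_sound mdata bases 277 160106 rel578 k (by omega) (by omega)
                    · skip
                      by_cases hh582 : k < 160660
                      · skip
                        exact relsRange_sound mdata bases 277 160383 rel579 k (by omega) (by omega)
                      · skip
                        exact relsRange_sound mdata bases 277 160660 rel580 k (by omega) (by omega)
              · skip
                by_cases hh583 : k < 162322
                · skip
                  by_cases hh584 : k < 161491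
                  · skip
                    by_cases hh585 : k < 161214
                    · skip
                      exact relsRange_sound mdata bases 277 160937 rel581 k (by omega) (by omega)
                    · skip
                      exact relsRange_sound mdata bases 277 161214 rel582 k (by omega) (by omega)
                  · skip
                    by_cases hh586 : k < 161768
                    · skip
                      exact relsRange_sound mdata bases 277 161491 rel583 k (by omega) (by omega)
                    · skip
                      by_cases hh587 : k < 162045
                      · skip
                        exact relsRange_sound mdata bases 277 161768 rel584 k (by omega) (by omega)
                      · skip
                        exact relsRange_sound mdata bases 277 162045 rel585 k (by omega) (by omega)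
                · skip
                  by_cases hh588 : k < 163153
                  · skip
                    by_cases hh589 : k < 162599
                    · skip
                      exact relsRange_sound mdata bases 277 162322 rel586 k (by omega) (by omega)
                    · skip
                      by_cases hh590 : k < 162876
                      · skip
                        exact relsRange_sound mdata bases 277 162599 rel587 k (by omega) (by omega)
                      · skip
                        exact relsRange_sound mdata bases 277 162876 rel588 k (by omega) (by omega)
                  · skip
                    by_cases hh591 : k < 163430
                    · skip
                      exact relsRange_sound mdata bases 277 163153 rel589 k (by omega) (by omega)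
                    · skip
                      by_cases hh592 : k < 163707
                      · skip
                        exact relsRange_sound mdata bases 277 163430 rel590 k (by omega) (by omega)
                      · skip
                        exact relsRange_sound mdata bases 277 163707 rel591 k (by omega) (by omega)
        · skip
          by_cases hh593 : k < 175618
          · skip
            by_cases hh594 : k < 169801
            · skip
              by_cases hh595 : k < 166754
              · skip
                by_cases hh596 : k < 165369
                · skip
                  by_cases hh597 : k < 164538
                  · skip
                    by_cases hh598 : k < 164261
                    · skip
                      exact relsRange_sound mdata bases 277 163984 rel592 k (by omega) (by omega)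
                    · skip
                      exact relsRange_sound mdata bases 277 164261 rel593 k (by omega) (by omega)
                  · skip
                    by_cases hh599 : k < 164815
                    · skip
                      exact relsRange_sound mdata bases 277 164538 rel594 k (by omega) (by omega)
                    · skip
                      by_cases hh600 : k < 165092
                      · skip
                        exact relsRange_sound mdata bases 277 164815 rel595 k (by omega) (by omega)
                      · skip
                        exact relsRange_sound mdata bases 277 165092 rel596 k (by omega) (by omega)
                · skip
                  by_cases hh601 : k < 165923
                  · skip
                    by_cases hh602 : k < 165646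
                    · skip
                      exact relsRange_sound mdata bases 277 165369 rel597 k (by omega) (by omega)
                    · skip
                      exact relsRange_sound mdata bases 277 165646 rel598 k (by omega) (by omega)
                  · skip
                    by_cases hh603 : k < 166200
                    · skip
                      exact relsRange_sound mdata bases 277 165923 rel599 k (by omega) (by omega)
                    · skip
                      by_cases hh604 : k < 166477
                      · skip
                        exact relsRange_sound mdata bases 277 166200 rel600 k (by omega) (by omega)
                      · skip
                        exact relsRange_sound mdata bases 277 166477 rel601 k (by omega) (by omega)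
              · skip
                by_cases hh605 : k < 168139
                · skip
                  by_cases hh606 : k < 167308
                  · skip
                    by_cases hh607 : k < 167031
                    · skip
                      exact relsRange_sound mdata bases 277 166754 rel602 k (by omega) (by omega)
                    · skip
                      exact relsRange_sound mdata bases 277 167031 rel603 k (by omega) (by omega)
                  · skip
                    by_cases hh608 : k < 167585
                    · skip
                      exact relsRange_sound mdata bases 277 167308 rel604 k (by omega) (by omega)
                    · skip
                      by_cases hh609 : k < 167862
                      · skip
                        exact relsRange_sound mdata bases 277 167585 rel605 k (by omega) (by omega)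
                      · skip
                        exact relsRange_sound mdata bases 277 167862 rel606 k (by omega) (by omega)
                · skip
                  by_cases hh610 : k < 168970
                  · skip
                    by_cases hh611 : k < 168416
                    · skip
                      exact relsRange_sound mdata bases 277 168139 rel607 k (by omega) (by omega)
                    · skip
                      by_cases hh612 : k < 168693
                      · skip
                        exact relsRange_sound mdata bases 277 168416 rel608 k (by omega) (by omega)
                      · skip
                        exact relsRange_sound mdata bases 277 168693 rel609 k (by omega) (by omega)
                  · skip
                    by_cases hh613 : k < 169247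
                    · skip
                      exact relsRange_sound mdata bases 277 168970 rel610 k (by omega) (by omega)
                    · skip
                      by_cases hh614 : k < 169524
                      · skip
                        exact relsRange_sound mdata bases 277 169247 rel611 k (by omega) (by omega)
                      · skip
                        exact relsRange_sound mdata bases 277 169524 rel612 k (by omega) (by omega)
            · skip
              by_cases hh615 : k < 172571
              · skip
                by_cases hh616 : k < 171186
                · skip
                  by_cases hh617 : k < 170355
                  · skip
                    by_cases hh618 : k < 170078
                    · skip
                      exact relsRange_sound mdata bases 277 169801 rel613 k (by omega) (by omega)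
                    · skip
                      exact relsRange_sound mdata bases 277 170078 rel614 k (by omega) (by omega)
                  · skip
                    by_cases hh619 : k < 170632
                    · skip
                      exact relsRange_sound mdata bases 277 170355 rel615 k (by omega) (by omega)
                    · skip
                      by_cases hh620 : k < 170909
                      · skip
                        exact relsRange_sound mdata bases 277 170632 rel616 k (by omega) (by omega)
                      · skip
                        exact relsRange_sound mdata bases 277 170909 rel617 k (by omega) (by omega)
                · skip
                  by_cases hh621 : k < 171740
                  · skip
                    by_cases hh622 : k < 171463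
                    · skip
                      exact relsRange_sound mdata bases 277 171186 rel618 k (by omega) (by omega)
                    · skip
                      exact relsRange_sound mdata bases 277 171463 rel619 k (by omega) (by omega)
                  · skip
                    by_cases hh623 : k < 172017
                    · skip
                      exact relsRange_sound mdata bases 277 171740 rel620 k (by omega) (by omega)
                    · skip
                      by_cases hh624 : k < 172294
                      · skip
                        exact relsRange_sound mdata bases 277 172017 rel621 k (by omega) (by omega)
                      · skip
                        exact relsRange_sound mdata bases 277 172294 rel622 k (by omega) (by omega)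
              · skip
                by_cases hh625 : k < 173956
                · skip
                  by_cases hh626 : k < 173125
                  · skip
                    by_cases hh627 : k < 172848
                    · skip
                      exact relsRange_sound mdata bases 277 172571 rel623 k (by omega) (by omega)
                    · skip
                      exact relsRange_sound mdata bases 277 172848 rel624 k (by omega) (by omega)
                  · skip
                    by_cases hh628 : k < 173402
                    · skip
                      exact relsRange_sound mdata bases 277 173125 rel625 k (by omega) (by omega)
                    · skip
                      by_cases hh629 : k < 173679
                      · skip
                        exact relsRange_sound mdata bases 277 173402 rel626 k (by omega) (by omega)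
                      · skip
                        exact relsRange_sound mdata bases 277 173679 rel627 k (by omega) (by omega)
                · skip
                  by_cases hh630 : k < 174787
                  · skip
                    by_cases hh631 : k < 174233
                    · skip
                      exact relsRange_sound mdata bases 277 173956 rel628 k (by omega) (by omega)
                    · skip
                      by_cases hh632 : k < 174510
                      · skip
                        exact relsRange_sound mdata bases 277 174233 rel629 k (by omega) (by omega)
                      · skip
                        exact relsRange_sound mdata bases 277 174510 rel630 k (by omega) (by omega)
                  · skip
                    by_cases hh633 : k < 175064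
                    · skip
                      exact relsRange_sound mdata bases 277 174787 rel631 k (by omega) (by omega)
                    · skip
                      by_cases hh634 : k < 175341
                      · skip
                        exact relsRange_sound mdata bases 277 175064 rel632 k (by omega) (by omega)
                      · skip
                        exact relsRange_sound mdata bases 277 175341 rel633 k (by omega) (by omega)
          · skip
            by_cases hh635 : k < 181435
            · skip
              by_cases hh636 : k < 178388
              · skip
                by_cases hh637 : k < 177003
                · skip
                  by_cases hh638 : k < 176172
                  · skip
                    by_cases hh639 : k < 175895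
                    · skip
                      exact relsRange_sound mdata bases 277 175618 rel634 k (by omega) (by omega)
                    · skip
                      exact relsRange_sound mdata bases 277 175895 rel635 k (by omega) (by omega)
                  · skip
                    by_cases hh640 : k < 176449
                    · skip
                      exact relsRange_sound mdata bases 277 176172 rel636 k (by omega) (by omega)
                    · skip
                      by_cases hh641 : k < 176726
                      · skip
                        exact relsRange_sound mdata bases 277 176449 rel637 k (by omega) (by omega)
                      · skip
                        exact relsRange_sound mdata bases 277 176726 rel638 k (by omega) (by omega)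
                · skip
                  by_cases hh642 : k < 177557
                  · skip
                    by_cases hh643 : k < 177280
                    · skip
                      exact relsRange_sound mdata bases 277 177003 rel639 k (by omega) (by omega)
                    · skip
                      exact relsRange_sound mdata bases 277 177280 rel640 k (by omega) (by omega)
                  · skip
                    by_cases hh644 : k < 177834
                    · skip
                      exact relsRange_sound mdata bases 277 177557 rel641 k (by omega) (by omega)
                    · skip
                      by_cases hh645 : k < 178111
                      · skip
                        exact relsRange_sound mdata bases 277 177834 rel642 k (by omega) (by omega)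
                      · skip
                        exact relsRange_sound mdata bases 277 178111 rel643 k (by omega) (by omega)
              · skip
                by_cases hh646 : k < 179773
                · skip
                  by_cases hh647 : k < 178942
                  · skip
                    by_cases hh648 : k < 178665
                    · skip
                      exact relsRange_sound mdata bases 277 178388 rel644 k (by omega) (by omega)
                    · skip
                      exact relsRange_sound mdata bases 277 178665 rel645 k (by omega) (by omega)
                  · skip
                    by_cases hh649 : k < 179219
                    · skip
                      exact relsRange_sound mdata bases 277 178942 rel646 k (by omega) (by omega)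
                    · skip
                      by_cases hh650 : k < 179496
                      · skip
                        exact relsRange_sound mdata bases 277 179219 rel647 k (by omega) (by omega)
                      · skip
                        exact relsRange_sound mdata bases 277 179496 rel648 k (by omega) (by omega)
                · skip
                  by_cases hh651 : k < 180604
                  · skip
                    by_cases hh652 : k < 180050
                    · skip
                      exact relsRange_sound mdata bases 277 179773 rel649 k (by omega) (by omega)
                    · skip
                      by_cases hh653 : k < 180327
                      · skip
                        exact relsRange_sound mdata bases 277 180050 rel650 k (by omega) (by omega)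
                      · skip
                        exact relsRange_sound mdata bases 277 180327 rel651 k (by omega) (by omega)
                  · skip
                    by_cases hh654 : k < 180881
                    · skip
                      exact relsRange_sound mdata bases 277 180604 rel652 k (by omega) (by omega)
                    · skip
                      by_cases hh655 : k < 181158
                      · skip
                        exact relsRange_sound mdata bases 277 180881 rel653 k (by omega) (by omega)
                      · skip
                        exact relsRange_sound mdata bases 277 181158 rel654 k (by omega) (by omega)
            · skip
              by_cases hh656 : k < 184482
              · skip
                by_cases hh657 : k < 182820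
                · skip
                  by_cases hh658 : k < 181989
                  · skip
                    by_cases hh659 : k < 181712
                    · skip
                      exact relsRange_sound mdata bases 277 181435 rel655 k (by omega) (by omega)
                    · skip
                      exact relsRange_sound mdata bases 277 181712 rel656 k (by omega) (by omega)
                  · skip
                    by_cases hh660 : k < 182266
                    · skip
                      exact relsRange_sound mdata bases 277 181989 rel657 k (by omega) (by omega)
                    · skip
                      by_cases hh661 : k < 182543
                      · skip
                        exact relsRange_sound mdata bases 277 182266 rel658 k (by omega) (by omega)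
                      · skip
                        exact relsRange_sound mdata bases 277 182543 rel659 k (by omega) (by omega)
                · skip
                  by_cases hh662 : k < 183651
                  · skip
                    by_cases hh663 : k < 183097
                    · skip
                      exact relsRange_sound mdata bases 277 182820 rel660 k (by omega) (by omega)
                    · skip
                      by_cases hh664 : k < 183374
                      · skip
                        exact relsRange_sound mdata bases 277 183097 rel661 k (by omega) (by omega)
                      · skip
                        exact relsRange_sound mdata bases 277 183374 rel662 k (by omega) (by omega)
                  · skip
                    by_cases hh665 : k < 183928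
                    · skip
                      exact relsRange_sound mdata bases 277 183651 rel663 k (by omega) (by omega)
                    · skip
                      by_cases hh666 : k < 184205
                      · skip
                        exact relsRange_sound mdata bases 277 183928 rel664 k (by omega) (by omega)
                      · skip
                        exact relsRange_sound mdata bases 277 184205 rel665 k (by omega) (by omega)
              · skip
                by_cases hh667 : k < 185867
                · skip
                  by_cases hh668 : k < 185036
                  · skip
                    by_cases hh669 : k < 184759
                    · skip
                      exact relsRange_sound mdata bases 277 184482 rel666 k (by omega) (by omega)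
                    · skip
                      exact relsRange_sound mdata bases 277 184759 rel667 k (by omega) (by omega)
                  · skip
                    by_cases hh670 : k < 185313
                    · skip
                      exact relsRange_sound mdata bases 277 185036 rel668 k (by omega) (by omega)
                    · skip
                      by_cases hh671 : k < 185590
                      · skip
                        exact relsRange_sound mdata bases 277 185313 rel669 k (by omega) (by omega)
                      · skip
                        exact relsRange_sound mdata bases 277 185590 rel670 k (by omega) (by omega)
                · skip
                  by_cases hh672 : k < 186698
                  · skip
                    by_cases hh673 : k < 186144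
                    · skip
                      exact relsRange_sound mdata bases 277 185867 rel671 k (by omega) (by omega)
                    · skip
                      by_cases hh674 : k < 186421
                      · skip
                        exact relsRange_sound mdata bases 277 186144 rel672 k (by omega) (by omega)
                      · skip
                        exact relsRange_sound mdata bases 277 186421 rel673 k (by omega) (by omega)
                  · skip
                    by_cases hh675 : k < 186975
                    · skip
                      exact relsRange_sound mdata bases 277 186698 rel674 k (by omega) (by omega)
                    · skip
                      by_cases hh676 : k < 187252
                      · skip
                        exact relsRange_sound mdata bases 277 186975 rel675 k (by omega) (by omega)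
                      · skip
                        exact relsRange_sound mdata bases 173 187252 rel676 k (by omega) (by omega)
  · intro k h1 h2
    have h2' : k < 1 + (187425 - 1) := h2
    by_cases hh1 : k < 93332
    · skip
      by_cases hh2 : k < 40000
      · skip
        by_cases hh3 : k < 13334
        · skip
          exact treeRange_sound mdata 13333 1 tree0 k (by omega) (by omega)
        · skip
          by_cases hh4 : k < 26667
          · skip
            exact treeRange_sound mdata 13333 13334 tree1 k (by omega) (by omega)
          · skip
            exact treeRange_sound mdata 13333 26667 tree2 k (by omega) (by omega)
      · skip
        by_cases hh5 : k < 66666
        · skip
          by_cases hh6 : k < 53333
          · skip
            exact treeRange_sound mdata 13333 40000 tree3 k (by omega) (by omega)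
          · skip
            exact treeRange_sound mdata 13333 53333 tree4 k (by omega) (by omega)
        · skip
          by_cases hh7 : k < 79999
          · skip
            exact treeRange_sound mdata 13333 66666 tree5 k (by omega) (by omega)
          · skip
            exact treeRange_sound mdata 13333 79999 tree6 k (by omega) (by omega)
    · skip
      by_cases hh8 : k < 146664
      · skip
        by_cases hh9 : k < 119998
        · skip
          by_cases hh10 : k < 106665
          · skip
            exact treeRange_sound mdata 13333 93332 tree7 k (by omega) (by omega)
          · skip
            exact treeRange_sound mdata 13333 106665 tree8 k (by omega) (by omega)
        · skip
          by_cases hh11 : k < 133331
          · skip
            exact treeRange_sound mdata 13333 119998 tree9 k (by omega) (by omega)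
          · skip
            exact treeRange_sound mdata 13333 133331 tree10 k (by omega) (by omega)
      · skip
        by_cases hh12 : k < 173330
        · skip
          by_cases hh13 : k < 159997
          · skip
            exact treeRange_sound mdata 13333 146664 tree11 k (by omega) (by omega)
          · skip
            exact treeRange_sound mdata 13333 159997 tree12 k (by omega) (by omega)
        · skip
          by_cases hh14 : k < 186663
          · skip
            exact treeRange_sound mdata 13333 173330 tree13 k (by omega) (by omega)
          · skip
            exact treeRange_sound mdata 762 186663 tree14 k (by omega) (by omega)

theorem orb1 : OrbOK mdata subsL 1 897 := by
  refine ⟨by decide, by decide, ?_, ?_⟩
  · intro k h1 h2
    exact closedRange_sound mdata subsL 1 897 896 1 closed1_0 k (by omega) (by omega)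
  · intro k h1 h2
    exact reachRange_sound mdata subsL 1 895 2 reach1_0 k (by omega) (by omega)

theorem orb2 : OrbOK mdata subsL 897 6273 := by
  refine ⟨by decide, by decide, ?_, ?_⟩
  · intro k h1 h2
    by_cases hh1 : k < 4230
    · skip
      exact closedRange_sound mdata subsL 897 6273 3333 897 closed2_0 k (by omega) (by omega)
    · skip
      exact closedRange_sound mdata subsL 897 6273 2043 4230 closed2_1 k (by omega) (by omega)
  · intro k h1 h2
    exact reachRange_sound mdata subsL 897 5375 898 reach2_0 k (by omega) (by omega)

theorem orb3 : OrbOK mdata subsL 6273 6287 := by
  refine ⟨by decide, by decide, ?_, ?_⟩
  · intro k h1 h2
    exact closedRange_sound mdata subsL 6273 6287 14 6273 closed3_0 k (by omega) (by omega)
  · intro k h1 h2
    exact reachRange_sound mdata subsL 6273 13 6274 reach3_0 k (by omega) (by omega)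

theorem orb4 : OrbOK mdata subsL 6287 6399 := by
  refine ⟨by decide, by decide, ?_, ?_⟩
  · intro k h1 h2
    exact closedRange_sound mdata subsL 6287 6399 112 6287 closed4_0 k (by omega) (by omega)
  · intro k h1 h2
    exact reachRange_sound mdata subsL 6287 111 6288 reach4_0 k (by omega) (by omega)

theorem orb5 : OrbOK mdata subsL 6399 6511 := by
  refine ⟨by decide, by decide, ?_, ?_⟩
  · intro k h1 h2
    exact closedRange_sound mdata subsL 6399 6511 112 6399 closed5_0 k (by omega) (by omega)
  · intro k h1 h2
    exact reachRange_sound mdata subsL 6399 111 6400 reach5_0 k (by omega) (by omega)

theorem orb6 : OrbOK mdata subsL 6511 6525 := by
  refine ⟨by decide, by decide, ?_, ?_⟩
  · intro k h1 h2
    exact closedRange_sound mdata subsL 6511 6525 14 6511 closed6_0 k (by omega) (by omega)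
  · intro k h1 h2
    exact reachRange_sound mdata subsL 6511 13 6512 reach6_0 k (by omega) (by omega)

theorem orb7 : OrbOK mdata subsL 6525 6693 := by
  refine ⟨by decide, by decide, ?_, ?_⟩
  · intro k h1 h2
    exact closedRange_sound mdata subsL 6525 6693 168 6525 closed7_0 k (by omega) (by omega)
  · intro k h1 h2
    exact reachRange_sound mdata subsL 6525 167 6526 reach7_0 k (by omega) (by omega)

theorem orb8 : OrbOK mdata subsL 6693 8037 := by
  refine ⟨by decide, by decide, ?_, ?_⟩
  · intro k h1 h2
    exact closedRange_sound mdata subsL 6693 8037 1344 6693 closed8_0 k (by omega) (by omega)
  · intro k h1 h2
    exact reachRange_sound mdata subsL 6693 1343 6694 reach8_0 k (by omega) (by omega)

theorem orb9 : OrbOK mdata subsL 8037 8205 := by
  refine ⟨by decide, by decide, ?_, ?_⟩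
  · intro k h1 h2
    exact closedRange_sound mdata subsL 8037 8205 168 8037 closed9_0 k (by omega) (by omega)
  · intro k h1 h2
    exact reachRange_sound mdata subsL 8037 167 8038 reach9_0 k (by omega) (by omega)

theorem orb10 : OrbOK mdata subsL 8205 9549 := by
  refine ⟨by decide, by decide, ?_, ?_⟩
  · intro k h1 h2
    exact closedRange_sound mdata subsL 8205 9549 1344 8205 closed10_0 k (by omega) (by omega)
  · intro k h1 h2
    exact reachRange_sound mdata subsL 8205 1343 8206 reach10_0 k (by omega) (by omega)

theorem orb11 : OrbOK mdata subsL 9549 31053 := by
  refine ⟨by decide, by decide, ?_, ?_⟩
  · intro k h1 h2
    by_cases hh1 : k < 19548
    · skip
      by_cases hh2 : k < 12882
      · skip
        exact closedRange_sound mdata subsL 9549 31053 3333 9549 closed11_0 k (by omega) (by omega)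
      · skip
        by_cases hh3 : k < 16215
        · skip
          exact closedRange_sound mdata subsL 9549 31053 3333 12882 closed11_1 k (by omega) (by omega)
        · skip
          exact closedRange_sound mdata subsL 9549 31053 3333 16215 closed11_2 k (by omega) (by omega)
    · skip
      by_cases hh4 : k < 26214
      · skip
        by_cases hh5 : k < 22881
        · skip
          exact closedRange_sound mdata subsL 9549 31053 3333 19548 closed11_3 k (by omega) (by omega)
        · skip
          exact closedRange_sound mdata subsL 9549 31053 3333 22881 closed11_4 k (by omega) (by omega)
      · skip
        by_cases hh6 : k < 29547
        · skip
          exact closedRange_sound mdata subsL 9549 31053 3333 26214 closed11_5 k (by omega) (by omega)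
        · skip
          exact closedRange_sound mdata subsL 9549 31053 1506 29547 closed11_6 k (by omega) (by omega)
  · intro k h1 h2
    by_cases hh1 : k < 18438
    · skip
      exact reachRange_sound mdata subsL 9549 8888 9550 reach11_0 k (by omega) (by omega)
    · skip
      by_cases hh2 : k < 27326
      · skip
        exact reachRange_sound mdata subsL 9549 8888 18438 reach11_1 k (by omega) (by omega)
      · skip
        exact reachRange_sound mdata subsL 9549 3727 27326 reach11_2 k (by omega) (by omega)

theorem orb12 : OrbOK mdata subsL 31053 31137 := by
  refine ⟨by decide, by decide, ?_, ?_⟩
  · intro k h1 h2
    exact closedRange_sound mdata subsL 31053 31137 84 31053 closed12_0 k (by omega) (by omega)
  · intro k h1 h2
    exact reachRange_sound mdata subsL 31053 83 31054 reach12_0 k (by omega) (by omega)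

theorem orb13 : OrbOK mdata subsL 31137 52641 := by
  refine ⟨by decide, by decide, ?_, ?_⟩
  · intro k h1 h2
    by_cases hh1 : k < 41136
    · skip
      by_cases hh2 : k < 34470
      · skip
        exact closedRange_sound mdata subsL 31137 52641 3333 31137 closed13_0 k (by omega) (by omega)
      · skip
        by_cases hh3 : k < 37803
        · skip
          exact closedRange_sound mdata subsL 31137 52641 3333 34470 closed13_1 k (by omega) (by omega)
        · skip
          exact closedRange_sound mdata subsL 31137 52641 3333 37803 closed13_2 k (by omega) (by omega)
    · skip
      by_cases hh4 : k < 47802
      · skip
        by_cases hh5 : k < 44469
        · skip
          exact closedRange_sound mdata subsL 31137 52641 3333 41136 closed13_3 k (by omega) (by omega)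
        · skip
          exact closedRange_sound mdata subsL 31137 52641 3333 44469 closed13_4 k (by omega) (by omega)
      · skip
        by_cases hh6 : k < 51135
        · skip
          exact closedRange_sound mdata subsL 31137 52641 3333 47802 closed13_5 k (by omega) (by omega)
        · skip
          exact closedRange_sound mdata subsL 31137 52641 1506 51135 closed13_6 k (by omega) (by omega)
  · intro k h1 h2
    by_cases hh1 : k < 40026
    · skip
      exact reachRange_sound mdata subsL 31137 8888 31138 reach13_0 k (by omega) (by omega)
    · skip
      by_cases hh2 : k < 48914
      · skip
        exact reachRange_sound mdata subsL 31137 8888 40026 reach13_1 k (by omega) (by omega)
      · skip
        exact reachRange_sound mdata subsL 31137 3727 48914 reach13_2 k (by omega) (by omega)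

theorem orb14 : OrbOK mdata subsL 52641 74145 := by
  refine ⟨by decide, by decide, ?_, ?_⟩
  · intro k h1 h2
    by_cases hh1 : k < 62640
    · skip
      by_cases hh2 : k < 55974
      · skip
        exact closedRange_sound mdata subsL 52641 74145 3333 52641 closed14_0 k (by omega) (by omega)
      · skip
        by_cases hh3 : k < 59307
        · skip
          exact closedRange_sound mdata subsL 52641 74145 3333 55974 closed14_1 k (by omega) (by omega)
        · skip
          exact closedRange_sound mdata subsL 52641 74145 3333 59307 closed14_2 k (by omega) (by omega)
    · skip
      by_cases hh4 : k < 69306
      · skip
        by_cases hh5 : k < 65973
        · skip
          exact closedRange_sound mdata subsL 52641 74145 3333 62640 closed14_3 k (by omega) (by omega)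
        · skip
          exact closedRange_sound mdata subsL 52641 74145 3333 65973 closed14_4 k (by omega) (by omega)
      · skip
        by_cases hh6 : k < 72639
        · skip
          exact closedRange_sound mdata subsL 52641 74145 3333 69306 closed14_5 k (by omega) (by omega)
        · skip
          exact closedRange_sound mdata subsL 52641 74145 1506 72639 closed14_6 k (by omega) (by omega)
  · intro k h1 h2
    by_cases hh1 : k < 61530
    · skip
      exact reachRange_sound mdata subsL 52641 8888 52642 reach14_0 k (by omega) (by omega)
    · skip
      by_cases hh2 : k < 70418
      · skip
        exact reachRange_sound mdata subsL 52641 8888 61530 reach14_1 k (by omega) (by omega)
      · skip
        exact reachRange_sound mdata subsL 52641 3727 70418 reach14_2 k (by omega) (by omega)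

theorem orb15 : OrbOK mdata subsL 74145 95649 := by
  refine ⟨by decide, by decide, ?_, ?_⟩
  · intro k h1 h2
    by_cases hh1 : k < 84144
    · skip
      by_cases hh2 : k < 77478
      · skip
        exact closedRange_sound mdata subsL 74145 95649 3333 74145 closed15_0 k (by omega) (by omega)
      · skip
        by_cases hh3 : k < 80811
        · skip
          exact closedRange_sound mdata subsL 74145 95649 3333 77478 closed15_1 k (by omega) (by omega)
        · skip
          exact closedRange_sound mdata subsL 74145 95649 3333 80811 closed15_2 k (by omega) (by omega)
    · skip
      by_cases hh4 : k < 90810
      · skip
        by_cases hh5 : k < 87477
        · skip
          exact closedRange_sound mdata subsL 74145 95649 3333 84144 closed15_3 k (by omega) (by omega)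
        · skip
          exact closedRange_sound mdata subsL 74145 95649 3333 87477 closed15_4 k (by omega) (by omega)
      · skip
        by_cases hh6 : k < 94143
        · skip
          exact closedRange_sound mdata subsL 74145 95649 3333 90810 closed15_5 k (by omega) (by omega)
        · skip
          exact closedRange_sound mdata subsL 74145 95649 1506 94143 closed15_6 k (by omega) (by omega)
  · intro k h1 h2
    by_cases hh1 : k < 83034
    · skip
      exact reachRange_sound mdata subsL 74145 8888 74146 reach15_0 k (by omega) (by omega)
    · skip
      by_cases hh2 : k < 91922
      · skip
        exact reachRange_sound mdata subsL 74145 8888 83034 reach15_1 k (by omega) (by omega)
      · skip
        exact reachRange_sound mdata subsL 74145 3727 91922 reach15_2 k (by omega) (by omega)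

theorem orb16 : OrbOK mdata subsL 95649 101025 := by
  refine ⟨by decide, by decide, ?_, ?_⟩
  · intro k h1 h2
    by_cases hh1 : k < 98982
    · skip
      exact closedRange_sound mdata subsL 95649 101025 3333 95649 closed16_0 k (by omega) (by omega)
    · skip
      exact closedRange_sound mdata subsL 95649 101025 2043 98982 closed16_1 k (by omega) (by omega)
  · intro k h1 h2
    exact reachRange_sound mdata subsL 95649 5375 95650 reach16_0 k (by omega) (by omega)

theorem orb17 : OrbOK mdata subsL 101025 106401 := by
  refine ⟨by decide, by decide, ?_, ?_⟩
  · intro k h1 h2
    by_cases hh1 : k < 104358
    · skip
      exact closedRange_sound mdata subsL 101025 106401 3333 101025 closed17_0 k (by omega) (by omega)
    · skip
      exact closedRange_sound mdata subsL 101025 106401 2043 104358 closed17_1 k (by omega) (by omega)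
  · intro k h1 h2
    exact reachRange_sound mdata subsL 101025 5375 101026 reach17_0 k (by omega) (by omega)

theorem orb18 : OrbOK mdata subsL 106401 111777 := by
  refine ⟨by decide, by decide, ?_, ?_⟩
  · intro k h1 h2
    by_cases hh1 : k < 109734
    · skip
      exact closedRange_sound mdata subsL 106401 111777 3333 106401 closed18_0 k (by omega) (by omega)
    · skip
      exact closedRange_sound mdata subsL 106401 111777 2043 109734 closed18_1 k (by omega) (by omega)
  · intro k h1 h2
    exact reachRange_sound mdata subsL 106401 5375 106402 reach18_0 k (by omega) (by omega)

theorem orb19 : OrbOK mdata subsL 111777 122529 := by
  refine ⟨by decide, by decide, ?_, ?_⟩
  · intro k h1 h2
    by_cases hh1 : k < 118443
    · skip
      by_cases hh2 : k < 115110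
      · skip
        exact closedRange_sound mdata subsL 111777 122529 3333 111777 closed19_0 k (by omega) (by omega)
      · skip
        exact closedRange_sound mdata subsL 111777 122529 3333 115110 closed19_1 k (by omega) (by omega)
    · skip
      by_cases hh3 : k < 121776
      · skip
        exact closedRange_sound mdata subsL 111777 122529 3333 118443 closed19_2 k (by omega) (by omega)
      · skip
        exact closedRange_sound mdata subsL 111777 122529 753 121776 closed19_3 k (by omega) (by omega)
  · intro k h1 h2
    by_cases hh1 : k < 120666
    · skip
      exact reachRange_sound mdata subsL 111777 8888 111778 reach19_0 k (by omega) (by omega)
    · skip
      exact reachRange_sound mdata subsL 111777 1863 120666 reach19_1 k (by omega) (by omega)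

theorem orb20 : OrbOK mdata subsL 122529 133281 := by
  refine ⟨by decide, by decide, ?_, ?_⟩
  · intro k h1 h2
    by_cases hh1 : k < 129195
    · skip
      by_cases hh2 : k < 125862
      · skip
        exact closedRange_sound mdata subsL 122529 133281 3333 122529 closed20_0 k (by omega) (by omega)
      · skip
        exact closedRange_sound mdata subsL 122529 133281 3333 125862 closed20_1 k (by omega) (by omega)
    · skip
      by_cases hh3 : k < 132528
      · skip
        exact closedRange_sound mdata subsL 122529 133281 3333 129195 closed20_2 k (by omega) (by omega)
      · skip
        exact closedRange_sound mdata subsL 122529 133281 753 132528 closed20_3 k (by omega) (by omega)
  · intro k h1 h2
    by_cases hh1 : k < 131418
    · skip
      exact reachRange_sound mdata subsL 122529 8888 122530 reach20_0 k (by omega) (by omega)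
    · skip
      exact reachRange_sound mdata subsL 122529 1863 131418 reach20_1 k (by omega) (by omega)

theorem orb21 : OrbOK mdata subsL 133281 135969 := by
  refine ⟨by decide, by decide, ?_, ?_⟩
  · intro k h1 h2
    exact closedRange_sound mdata subsL 133281 135969 2688 133281 closed21_0 k (by omega) (by omega)
  · intro k h1 h2
    exact reachRange_sound mdata subsL 133281 2687 133282 reach21_0 k (by omega) (by omega)

theorem orb22 : OrbOK mdata subsL 135969 141345 := by
  refine ⟨by decide, by decide, ?_, ?_⟩
  · intro k h1 h2
    by_cases hh1 : k < 139302
    · skip
      exact closedRange_sound mdata subsL 135969 141345 3333 135969 closed22_0 k (by omega) (by omega)
    · skip
      exact closedRange_sound mdata subsL 135969 141345 2043 139302 closed22_1 k (by omega) (by omega)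
  · intro k h1 h2
    exact reachRange_sound mdata subsL 135969 5375 135970 reach22_0 k (by omega) (by omega)

theorem orb23 : OrbOK mdata subsL 141345 146721 := by
  refine ⟨by decide, by decide, ?_, ?_⟩
  · intro k h1 h2
    by_cases hh1 : k < 144678
    · skip
      exact closedRange_sound mdata subsL 141345 146721 3333 141345 closed23_0 k (by omega) (by omega)
    · skip
      exact closedRange_sound mdata subsL 141345 146721 2043 144678 closed23_1 k (by omega) (by omega)
  · intro k h1 h2
    exact reachRange_sound mdata subsL 141345 5375 141346 reach23_0 k (by omega) (by omega)

theorem orb24 : OrbOK mdata subsL 146721 168225 := by
  refine ⟨by decide, by decide, ?_, ?_⟩
  · intro k h1 h2
    by_cases hh1 : k < 156720
    · skip
      by_cases hh2 : k < 150054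
      · skip
        exact closedRange_sound mdata subsL 146721 168225 3333 146721 closed24_0 k (by omega) (by omega)
      · skip
        by_cases hh3 : k < 153387
        · skip
          exact closedRange_sound mdata subsL 146721 168225 3333 150054 closed24_1 k (by omega) (by omega)
        · skip
          exact closedRange_sound mdata subsL 146721 168225 3333 153387 closed24_2 k (by omega) (by omega)
    · skip
      by_cases hh4 : k < 163386
      · skip
        by_cases hh5 : k < 160053
        · skip
          exact closedRange_sound mdata subsL 146721 168225 3333 156720 closed24_3 k (by omega) (by omega)
        · skip
          exact closedRange_sound mdata subsL 146721 168225 3333 160053 closed24_4 k (by omega) (by omega)
      · skip
        by_cases hh6 : k < 166719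
        · skip
          exact closedRange_sound mdata subsL 146721 168225 3333 163386 closed24_5 k (by omega) (by omega)
        · skip
          exact closedRange_sound mdata subsL 146721 168225 1506 166719 closed24_6 k (by omega) (by omega)
  · intro k h1 h2
    by_cases hh1 : k < 155610
    · skip
      exact reachRange_sound mdata subsL 146721 8888 146722 reach24_0 k (by omega) (by omega)
    · skip
      by_cases hh2 : k < 164498
      · skip
        exact reachRange_sound mdata subsL 146721 8888 155610 reach24_1 k (by omega) (by omega)
      · skip
        exact reachRange_sound mdata subsL 146721 3727 164498 reach24_2 k (by omega) (by omega)

theorem orb25 : OrbOK mdata subsL 168225 171297 := by
  refine ⟨by decide, by decide, ?_, ?_⟩
  · intro k h1 h2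
    exact closedRange_sound mdata subsL 168225 171297 3072 168225 closed25_0 k (by omega) (by omega)
  · intro k h1 h2
    exact reachRange_sound mdata subsL 168225 3071 168226 reach25_0 k (by omega) (by omega)

theorem orb26 : OrbOK mdata subsL 171297 172641 := by
  refine ⟨by decide, by decide, ?_, ?_⟩
  · intro k h1 h2
    exact closedRange_sound mdata subsL 171297 172641 1344 171297 closed26_0 k (by omega) (by omega)
  · intro k h1 h2
    exact reachRange_sound mdata subsL 171297 1343 171298 reach26_0 k (by omega) (by omega)

theorem orb27 : OrbOK mdata subsL 172641 173313 := by
  refine ⟨by decide, by decide, ?_, ?_⟩
  · intro k h1 h2
    exact closedRange_sound mdata subsL 172641 173313 672 172641 closed27_0 k (by omega) (by omega)
  · intro k h1 h2
    exact reachRange_sound mdata subsL 172641 671 172642 reach27_0 k (by omega) (by omega)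

theorem orb28 : OrbOK mdata subsL 173313 173985 := by
  refine ⟨by decide, by decide, ?_, ?_⟩
  · intro k h1 h2
    exact closedRange_sound mdata subsL 173313 173985 672 173313 closed28_0 k (by omega) (by omega)
  · intro k h1 h2
    exact reachRange_sound mdata subsL 173313 671 173314 reach28_0 k (by omega) (by omega)

theorem orb29 : OrbOK mdata subsL 173985 179361 := by
  refine ⟨by decide, by decide, ?_, ?_⟩
  · intro k h1 h2
    by_cases hh1 : k < 177318
    · skip
      exact closedRange_sound mdata subsL 173985 179361 3333 173985 closed29_0 k (by omega) (by omega)
    · skip
      exact closedRange_sound mdata subsL 173985 179361 2043 177318 closed29_1 k (by omega) (by omega)
  · intro k h1 h2
    exact reachRange_sound mdata subsL 173985 5375 173986 reach29_0 k (by omega) (by omega)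

theorem orb30 : OrbOK mdata subsL 179361 180033 := by
  refine ⟨by decide, by decide, ?_, ?_⟩
  · intro k h1 h2
    exact closedRange_sound mdata subsL 179361 180033 672 179361 closed30_0 k (by omega) (by omega)
  · intro k h1 h2
    exact reachRange_sound mdata subsL 179361 671 179362 reach30_0 k (by omega) (by omega)

theorem orb31 : OrbOK mdata subsL 180033 185409 := by
  refine ⟨by decide, by decide, ?_, ?_⟩
  · intro k h1 h2
    by_cases hh1 : k < 183366
    · skip
      exact closedRange_sound mdata subsL 180033 185409 3333 180033 closed31_0 k (by omega) (by omega)
    · skip
      exact closedRange_sound mdata subsL 180033 185409 2043 183366 closed31_1 k (by omega) (by omega)
  · intro k h1 h2
    exact reachRange_sound mdata subsL 180033 5375 180034 reach31_0 k (by omega) (by omega)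

theorem orb32 : OrbOK mdata subsL 185409 186753 := by
  refine ⟨by decide, by decide, ?_, ?_⟩
  · intro k h1 h2
    exact closedRange_sound mdata subsL 185409 186753 1344 185409 closed32_0 k (by omega) (by omega)
  · intro k h1 h2
    exact reachRange_sound mdata subsL 185409 1343 185410 reach32_0 k (by omega) (by omega)

theorem orb33 : OrbOK mdata subsL 186753 187425 := by
  refine ⟨by decide, by decide, ?_, ?_⟩
  · intro k h1 h2
    exact closedRange_sound mdata subsL 186753 187425 672 186753 closed33_0 k (by omega) (by omega)
  · intro k h1 h2
    exact reachRange_sound mdata subsL 186753 671 186754 reach33_0 k (by omega) (by omega)

theorem main : ((Subgroup.closure Sset).map (PresentedGroup.mk Rset)).index = 187425 ∧
    ∃ e : (PresentedGroup Rset ⧸ (Subgroup.closure Sset).map (PresentedGroup.mk Rset)) ≃ Fin 187425,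
      ∀ lo hi, OrbOK mdata subsL lo hi → ∀ q, (e q).val = lo →
        e '' (MulAction.orbit ((Subgroup.closure Sset).map (PresentedGroup.mk Rset)) q) =
          {x : Fin 187425 | lo ≤ x.val ∧ x.val < hi} :=
  model_main mdata bases subsL coding hR1 hS1 hS2 model_ok bound

end Cfsg.Agent.Helper4.TC.HeC2B
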