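import Cfsg.Agent.Lib.Helper4.TC.HeC2BModel
import Cfsg.Agent.Lib.Helper4.TC.HeC2BData
import Cfsg.Agent.Lib.Helper4.TC.Strict

set_option autoImplicit false
set_option maxRecDepth 100000
set_option linter.unusedVariables false
set_option Elab.async false

namespace Cfsg.Agent.Helper4.TC.HeC2B

open Cfsg.Agent.Helper4.TC

theorem closed19_1 : closedRange mdata subsL 111777 122529 3333 115110 = true := closedRange_strict mdata subsL 111777 122529 3333 115110 (by decide +kernel)
theorem closed19_2 : closedRange mdata subsL 111777 122529 3333 118443 = true := closedRange_strict mdata subsL 111777 122529 3333 118443 (by decide +kernel)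
theorem closed19_3 : closedRange mdata subsL 111777 122529 753 121776 = true := closedRange_strict mdata subsL 111777 122529 753 121776 (by decide +kernel)
theorem reach19_0 : reachRange mdata subsL 111777 8888 111778 = true := reachRange_strict mdata subsL 111777 8888 111778 (by decide +kernel)
theorem reach19_1 : reachRange mdata subsL 111777 1863 120666 = true := reachRange_strict mdata subsL 111777 1863 120666 (by decide +kernel)
theorem closed20_0 : closedRange mdata subsL 122529 133281 3333 122529 = true := closedRange_strict mdata subsL 122529 133281 3333 122529 (by decide +kernel)
theorem closed20_1 : closedRange mdata subsL 122529 133281 3333 125862 = true := closedRange_strict mdata subsL 122529 133281 3333 125862 (by decide +kernel)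
theorem closed20_2 : closedRange mdata subsL 122529 133281 3333 129195 = true := closedRange_strict mdata subsL 122529 133281 3333 129195 (by decide +kernel)

end Cfsg.Agent.Helper4.TC.HeC2B
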