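import Cfsg.Agent.Lib.Helper4.TC.HeC2BModel
import Cfsg.Agent.Lib.Helper4.TC.HeC2BData
import Cfsg.Agent.Lib.Helper4.TC.Strict

set_option autoImplicit false
set_option maxRecDepth 100000
set_option linter.unusedVariables false
set_option Elab.async false

namespace Cfsg.Agent.Helper4.TC.HeC2B

open Cfsg.Agent.Helper4.TC

theorem rel144 : relsRange mdata bases 277 39888 = true := relsRange_strict mdata bases 277 39888 (by decide +kernel)
theorem rel145 : relsRange mdata bases 277 40165 = true := relsRange_strict mdata bases 277 40165 (by decide +kernel)
theorem rel146 : relsRange mdata bases 277 40442 = true := relsRange_strict mdata bases 277 40442 (by decide +kernel)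
theorem rel147 : relsRange mdata bases 277 40719 = true := relsRange_strict mdata bases 277 40719 (by decide +kernel)
theorem rel148 : relsRange mdata bases 277 40996 = true := relsRange_strict mdata bases 277 40996 (by decide +kernel)
theorem rel149 : relsRange mdata bases 277 41273 = true := relsRange_strict mdata bases 277 41273 (by decide +kernel)
theorem rel150 : relsRange mdata bases 277 41550 = true := relsRange_strict mdata bases 277 41550 (by decide +kernel)
theorem rel151 : relsRange mdata bases 277 41827 = true := relsRange_strict mdata bases 277 41827 (by decide +kernel)

end Cfsg.Agent.Helper4.TC.HeC2B
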