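import Cfsg.Agent.Lib.Helper4.TC.HeC2BModel
import Cfsg.Agent.Lib.Helper4.TC.HeC2BData
import Cfsg.Agent.Lib.Helper4.TC.Strict

set_option autoImplicit false
set_option maxRecDepth 100000
set_option linter.unusedVariables false
set_option Elab.async false

namespace Cfsg.Agent.Helper4.TC.HeC2B

open Cfsg.Agent.Helper4.TC

theorem rel288 : relsRange mdata bases 277 79776 = true := relsRange_strict mdata bases 277 79776 (by decide +kernel)
theorem rel289 : relsRange mdata bases 277 80053 = true := relsRange_strict mdata bases 277 80053 (by decide +kernel)
theorem rel290 : relsRange mdata bases 277 80330 = true := relsRange_strict mdata bases 277 80330 (by decide +kernel)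
theorem rel291 : relsRange mdata bases 277 80607 = true := relsRange_strict mdata bases 277 80607 (by decide +kernel)
theorem rel292 : relsRange mdata bases 277 80884 = true := relsRange_strict mdata bases 277 80884 (by decide +kernel)
theorem rel293 : relsRange mdata bases 277 81161 = true := relsRange_strict mdata bases 277 81161 (by decide +kernel)
theorem rel294 : relsRange mdata bases 277 81438 = true := relsRange_strict mdata bases 277 81438 (by decide +kernel)
theorem rel295 : relsRange mdata bases 277 81715 = true := relsRange_strict mdata bases 277 81715 (by decide +kernel)

end Cfsg.Agent.Helper4.TC.HeC2B
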