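import Cfsg.Agent.Lib.Helper4.TC.HeC2BModel
import Cfsg.Agent.Lib.Helper4.TC.HeC2BData
import Cfsg.Agent.Lib.Helper4.TC.Strict

set_option autoImplicit false
set_option maxRecDepth 100000
set_option linter.unusedVariables false
set_option Elab.async false

namespace Cfsg.Agent.Helper4.TC.HeC2B

open Cfsg.Agent.Helper4.TC

theorem rel432 : relsRange mdata bases 277 119664 = true := relsRange_strict mdata bases 277 119664 (by decide +kernel)
theorem rel433 : relsRange mdata bases 277 119941 = true := relsRange_strict mdata bases 277 119941 (by decide +kernel)
theorem rel434 : relsRange mdata bases 277 120218 = true := relsRange_strict mdata bases 277 120218 (by decide +kernel)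
theorem rel435 : relsRange mdata bases 277 120495 = true := relsRange_strict mdata bases 277 120495 (by decide +kernel)
theorem rel436 : relsRange mdata bases 277 120772 = true := relsRange_strict mdata bases 277 120772 (by decide +kernel)
theorem rel437 : relsRange mdata bases 277 121049 = true := relsRange_strict mdata bases 277 121049 (by decide +kernel)
theorem rel438 : relsRange mdata bases 277 121326 = true := relsRange_strict mdata bases 277 121326 (by decide +kernel)
theorem rel439 : relsRange mdata bases 277 121603 = true := relsRange_strict mdata bases 277 121603 (by decide +kernel)

end Cfsg.Agent.Helper4.TC.HeC2B
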