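import Cfsg.Agent.Lib.Helper4.TC.HeC2BModel
import Cfsg.Agent.Lib.Helper4.TC.HeC2BData
import Cfsg.Agent.Lib.Helper4.TC.Strict

set_option autoImplicit false
set_option maxRecDepth 100000
set_option linter.unusedVariables false
set_option Elab.async false

namespace Cfsg.Agent.Helper4.TC.HeC2B

open Cfsg.Agent.Helper4.TC

theorem rel576 : relsRange mdata bases 277 159552 = true := relsRange_strict mdata bases 277 159552 (by decide +kernel)
theorem rel577 : relsRange mdata bases 277 159829 = true := relsRange_strict mdata bases 277 159829 (by decide +kernel)
theorem rel578 : relsRange mdata bases 277 160106 = true := relsRange_strict mdata bases 277 160106 (by decide +kernel)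
theorem rel579 : relsRange mdata bases 277 160383 = true := relsRange_strict mdata bases 277 160383 (by decide +kernel)
theorem rel580 : relsRange mdata bases 277 160660 = true := relsRange_strict mdata bases 277 160660 (by decide +kernel)
theorem rel581 : relsRange mdata bases 277 160937 = true := relsRange_strict mdata bases 277 160937 (by decide +kernel)
theorem rel582 : relsRange mdata bases 277 161214 = true := relsRange_strict mdata bases 277 161214 (by decide +kernel)
theorem rel583 : relsRange mdata bases 277 161491 = true := relsRange_strict mdata bases 277 161491 (by decide +kernel)

end Cfsg.Agent.Helper4.TC.HeC2B
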