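import Cfsg.Agent.Lib.Helper4.TC.HeSMain
import Cfsg.Agent.Lib.Helper4.TC.HeC2BGlue
import Cfsg.Agent.Lib.Helper4.TC.C2BPCMain
import Cfsg.Agent.Lib.Helper4.TC.Centr
import Cfsg.Agent.Lib.Helper4.TC.Embed
import Cfsg.Agent.Lib.Helper4.TC.Embed2

set_option autoImplicit false
set_option maxRecDepth 100000
set_option maxHeartbeats 0
set_option linter.unusedVariables false
set_option linter.style.haveILetI false

/-! The centraliser of the generator `d` of the presented Held group: it is the subgroup generated by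
`a`, `b`, `f d c d f` and `g d c d g`, of order 21504, and it is isomorphic to a group given by a
presentation on four involutions. -/

namespace Cfsg.Agent.Helper4.TC.HeC2

open Cfsg.Agent.Helper4.TC

abbrev Rset : Set (FreeGroup Cfsg.Spor.He.Gen) := Cfsg.Spor.coxRelators Cfsg.Spor.He.edges ∪ {r | r ∈ Cfsg.Spor.He.extra}
abbrev PR : Set (FreeGroup Cfsg.Agent.Helper4.Pres.C2B.Gen) := C2BPC.Rset

def zw : List ℕ := [6]
def pts : List ℕ := [0, 1, 7, 11, 6]
def rs : List (ℕ × ℕ) := [(1, 897), (897, 6273), (6273, 6287), (6287, 6399), (6399, 6511), (6511, 6525), (6525, 6693), (6693, 8037), (8037, 8205), (8205, 9549), (9549, 31053), (31053, 31137), (31137, 52641), (52641, 74145), (74145, 95649), (95649, 101025), (101025, 106401), (106401, 111777), (111777, 122529), (122529, 133281), (133281, 135969), (135969, 141345), (141345, 146721), (146721, 168225), (168225, 171297), (171297, 172641), (172641, 173313), (173313, 173985), (173985, 179361), (179361,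 180033), (180033, 185409), (185409, 186753), (186753, 187425)]
def ws : List (List ℕ × ℕ) := [([10], 0), ([4], 0), ([8, 10], 1), ([10, 12], 0), ([10, 6, 12], 0), ([8, 12], 1), ([4, 10, 6, 4], 1), ([10, 6, 12, 6, 4], 0), ([4, 12, 6, 4], 1), ([12, 6, 10, 6, 4], 0), ([4, 2, 6, 4], 0), ([4, 6, 4, 8], 1), ([4, 2, 10, 6, 4], 0), ([4, 2, 12, 6, 4], 0), ([4, 2, 6, 10, 6, 4], 0), ([4, 2, 10, 6, 4, 12], 0), ([4, 2, 12, 6, 4, 10], 0), ([4, 2, 6, 4, 6, 4], 0), ([10, 6, 12, 6, 4, 2, 6, 4], 0), ([12, 6, 10, 6, 4, 2, 6, 4], 0), ([4, 2, 6, 4, 2, 6, 4], 0), ([4, 2, 6, 8, 10, 6, 4], 0), ([4, 2, 6, 8, 12, 6, 4], 0), ([4, 2, 6, 10, 12, 6, 4], 0), ([4, 2, 6, 10, 6, 12, 6, 4], 0), ([4, 2, 0, 10, 6, 4, 2, 6, 4], 0), ([4, 2, 6, 10, 6, 4, 2, 6, 4], 0), ([4, 2, 10, 6, 4, 6, 4, 8, 12], 0), ([4, 2, 10, 6, 4, 6, 4, 12, 10], 0), ([4, 10, 6, 4, 2, 8, 6, 4, 12], 0), ([4, 10, 12, 6, 4, 2, 6, 4, 10], 0), ([4, 2, 0, 12, 6, 4, 2, 6, 4], 0), ([4, 12, 6, 4, 2, 8, 6, 4, 10], 0)]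

def sig : Cfsg.Agent.Helper4.Pres.C2B.Gen → List ℕ
  | .a => [0]
  | .b => [2]
  | .p => [10, 6, 4, 6, 10]
  | .q => [12, 6, 4, 6, 12]

theorem chk : ∀ b ∈ C2BPZ0.bases, fixesB HeS44.mdata pts (substW sig C2BPCod.dec b) = true := by decide +kernel
theorem hcommB : ∀ b ∈ HeC2B.subsL, fixesB HeS44.mdata pts (b ++ zw ++ invW b ++ invW zw) = true := by decide +kernel
theorem hz2 : fixesB HeS44.mdata pts (zw ++ zw) = true := by decide +kernel
theorem hz1 : (∀ c ∈ zw, c < HeS44.mdata.nc) ∧ mtrace HeS44.mdata zw 2 ≠ 2 := by decide +kernel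
theorem hzc : ∀ c ∈ zw, c < HeC2B.mdata.nc := by decide
theorem hws : ∀ r ∈ rs, ∃ wk ∈ ws, mtrace HeC2B.mdata wk.1 0 = r.1 := by decide +kernel
theorem hP : ∀ wk ∈ ws, noncommB HeC2B.mdata zw wk = true := by decide +kernel
theorem hsig : ∀ x, sig x ∈ HeC2B.subsL := by intro x; cases x <;> decide
def gensC : List Cfsg.Agent.Helper4.Pres.C2B.Gen := [.a, .b, .p, .q]
theorem hsub' : ∀ b ∈ HeC2B.subsL, b ∈ gensC.map sig := by decide
theorem hsub (b : List ℕ) (hb : b ∈ HeC2B.subsL) : ∃ x, sig x = b := by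
  obtain ⟨x, _, hx⟩ := List.mem_map.mp (hsub' b hb)
  exact ⟨x, hx⟩
theorem hcon : Consec rs 1 HeC2B.mdata.n := by decide

theorem hone (w : List ℕ) (hw : fixesB HeS44.mdata pts w = true) :
    PresentedGroup.mk Rset (wordF HeS44.dec w) = 1 := by
  obtain ⟨h1, h2⟩ := fixesB_sound hw
  refine word_eq_one_of_base HeS44.coding HeS44.hR1 HeS44.model_ok 4030387200 (by norm_num) HeS.card_top
    HeS.specs HeS.levels_ok (by decide) w h1 ?_ ?_
  · exact h2 0 (by decide)
  · intro s hs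
    exact h2 s.b (List.mem_cons_of_mem _ (List.mem_map_of_mem hs))

/-- the involution -/
noncomputable def z : PresentedGroup Rset := PresentedGroup.mk Rset (wordF HeS44.dec zw)

/-- the subgroup -/
abbrev H : Subgroup (PresentedGroup Rset) := (Subgroup.closure HeC2B.Sset).map (PresentedGroup.mk Rset)

theorem z_sq : z ^ 2 = 1 := by
  unfold z
  rw [pow_two, ← evc_of, ← evc_append, evc_of]
  exact hone _ hz2

theorem z_ne : z ≠ 1 := by
  intro h
  have h1 := modelHom_word HeS44.coding HeS44.hR1 HeS44.model_ok zw hz1.1 ⟨2, by decide⟩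
  unfold z at h
  rw [h, map_one] at h1
  exact hz1.2 h1.symm

theorem order_z : orderOf z = 2 := by
  haveI : Fact (Nat.Prime 2) := ⟨Nat.prime_two⟩
  exact orderOf_eq_prime z_sq z_ne

theorem hcomm : ∀ b ∈ HeC2B.subsL, PresentedGroup.mk Rset (wordF HeS44.dec b) * z = z * PresentedGroup.mk Rset (wordF HeS44.dec b) := by
  intro b hb
  have h1 := hone _ (hcommB b hb)
  rw [← evc_of, evc_append, evc_append, evc_append, evc_invW _ HeS44.coding, evc_invW _ HeS44.coding, evc_of,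
    evc_of] at h1
  set s' := PresentedGroup.mk Rset (wordF HeS44.dec b) with hs'
  have h1' : z⁻¹ * (s'⁻¹ * (z * s')) = 1 := h1
  have h2 : z * s' = s' * z := by
    have : z⁻¹ * s'⁻¹ * (z * s') = 1 := by rw [← h1']; group
    calc z * s' = s' * z * (z⁻¹ * s'⁻¹ * (z * s')) := by group
      _ = s' * z := by rw [this, mul_one]
  exact h2.symm

theorem horb : ∀ r ∈ rs, OrbOK HeC2B.mdata HeC2B.subsL r.1 r.2 := by
  intro r hr
  simp only [rs, List.mem_cons, List.not_mem_nil, or_false] at hr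
  rcases hr with rfl | rfl | rfl | rfl | rfl | rfl | rfl | rfl | rfl | rfl | rfl | rfl | rfl | rfl | rfl | rfl | rfl | rfl | rfl | rfl | rfl | rfl | rfl | rfl | rfl | rfl | rfl | rfl | rfl | rfl | rfl | rfl | rfl
  · exact HeC2B.orb1
  · exact HeC2B.orb2
  · exact HeC2B.orb3
  · exact HeC2B.orb4
  · exact HeC2B.orb5
  · exact HeC2B.orb6
  · exact HeC2B.orb7
  · exact HeC2B.orb8
  · exact HeC2B.orb9
  · exact HeC2B.orb10
  · exact HeC2B.orb11
  · exact HeC2B.orb12
  · exact HeC2B.orb13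
  · exact HeC2B.orb14
  · exact HeC2B.orb15
  · exact HeC2B.orb16
  · exact HeC2B.orb17
  · exact HeC2B.orb18
  · exact HeC2B.orb19
  · exact HeC2B.orb20
  · exact HeC2B.orb21
  · exact HeC2B.orb22
  · exact HeC2B.orb23
  · exact HeC2B.orb24
  · exact HeC2B.orb25
  · exact HeC2B.orb26
  · exact HeC2B.orb27
  · exact HeC2B.orb28
  · exact HeC2B.orb29
  · exact HeC2B.orb30
  · exact HeC2B.orb31
  · exact HeC2B.orb32
  · exact HeC2B.orb33

set_option maxRecDepth 1000000 in
theorem centr : Subgroup.centralizer {z} = H := by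
  haveI : Finite (PresentedGroup Rset) := HeS.card_top.1
  exact centralizer_model HeC2B.coding HeC2B.hR1 HeC2B.model_ok HeC2B.Sset HeC2B.hS1 HeC2B.main.1
    rs hcon horb zw hzc hcomm ws hws hP

theorem card_H : Nat.card H = 21504 := by
  have h1 := H.card_mul_index
  rw [HeC2B.main.1, HeS.main.2] at h1
  have h2 : 21504 * 187425 = 4030387200 := by norm_num
  exact Nat.eq_of_mul_eq_mul_right (by norm_num : 0 < 187425) (h1.trans h2.symm)

/-- the homomorphism from the presented group of order 21504 -/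
theorem exists_psi : ∃ ψ : PresentedGroup PR →* PresentedGroup Rset,
    ∀ x, ψ (PresentedGroup.of x) = PresentedGroup.mk Rset (wordF HeS44.dec (sig x)) :=
  exists_hom_of_subst HeS44.coding HeS44.hR1 HeS44.model_ok 4030387200 (by norm_num) HeS.card_top
    HeS.specs HeS.levels_ok (by decide) PR C2BPZ0.bases C2BPC.hR1 sig pts rfl chk

theorem iso_H : Nat.card (PresentedGroup PR) = 21504 ∧ Nonempty (PresentedGroup PR ≃* H) := by
  haveI : Finite (PresentedGroup PR) := C2BPC.card_top.1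
  obtain ⟨ψ, hψ⟩ := exists_psi
  have hgen : ∀ b ∈ HeC2B.subsL, PresentedGroup.mk Rset (wordF HeS44.dec b) ∈ H :=
    fun b hb => Subgroup.mem_map_of_mem _ (Subgroup.subset_closure (HeC2B.hS2 b hb))
  have hle : ψ.range ≤ H := by
    refine range_le_of_gens ψ _ fun x => ?_
    rw [hψ]
    exact hgen _ (hsig x)
  have hge : H ≤ ψ.range := by
    show (Subgroup.closure HeC2B.Sset).map (PresentedGroup.mk Rset) ≤ ψ.range
    rw [Subgroup.map_le_iff_le_comap, Subgroup.closure_le]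
    intro s hs
    obtain ⟨b, hb, rfl⟩ := HeC2B.hS1 s hs
    obtain ⟨x, hx⟩ := hsub b hb
    refine ⟨PresentedGroup.of x, ?_⟩
    rw [hψ, hx]
    rfl
  have heq : ψ.range = H := le_antisymm hle hge
  let θ : PresentedGroup PR →* H := ψ.codRestrict H fun p => hle ⟨p, rfl⟩
  have hsurj : Function.Surjective θ := by
    rintro ⟨y, hy⟩
    obtain ⟨p, rfl⟩ := hge hy
    exact ⟨p, rfl⟩
  haveI : Finite H := Nat.finite_of_card_ne_zero (by rw [card_H]; norm_num)
  have hcard : Nat.card (PresentedGroup PR) = 21504 := by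
    have h1 := Nat.card_le_card_of_surjective θ hsurj
    rw [card_H] at h1
    exact le_antisymm C2BPC.card_top.2 h1
  have hbij : Function.Bijective θ := by
    rw [Nat.bijective_iff_surjective_and_card]
    exact ⟨hsurj, hcard.trans card_H.symm⟩
  exact ⟨hcard, ⟨MulEquiv.ofBijective θ hbij⟩⟩

end Cfsg.Agent.Helper4.TC.HeC2
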