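import Cfsg.Agent.Lib.Helper4.TC.HeZ0D
import Cfsg.Agent.Lib.Helper4.TC.Strict

set_option autoImplicit false
set_option maxRecDepth 100000
set_option linter.unusedVariables false
set_option Elab.async false

namespace Cfsg.Agent.Helper4.TC.HeZ0

open Cfsg.Agent.Helper4.TC

theorem e0_c0 : edgeRange data 0 10262 0 = true := edgeRange_strict data 0 10262 0 (by decide +kernel)
theorem e0_c1 : edgeRange data 0 10342 10262 = true := edgeRange_strict data 0 10342 10262 (by decide +kernel)
theorem e0_c2 : edgeRange data 0 10328 20604 = true := edgeRange_strict data 0 10328 20604 (by decide +kernel)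
theorem e0_c3 : edgeRange data 0 10237 30932 = true := edgeRange_strict data 0 10237 30932 (by decide +kernel)
theorem e0_c4 : edgeRange data 0 10175 41169 = true := edgeRange_strict data 0 10175 41169 (by decide +kernel)
theorem e0_c5 : edgeRange data 0 10223 51344 = true := edgeRange_strict data 0 10223 51344 (by decide +kernel)
theorem e0_c6 : edgeRange data 0 10220 61567 = true := edgeRange_strict data 0 10220 61567 (by decide +kernel)
theorem e0_c7 : edgeRange data 0 10238 71787 = true := edgeRange_strict data 0 10238 71787 (by decide +kernel)
theorem e0_c8 : edgeRange data 0 10226 82025 = true := edgeRange_strict data 0 10226 82025 (by decide +kernel)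
theorem e0_c9 : edgeRange data 0 10259 92251 = true := edgeRange_strict data 0 10259 92251 (by decide +kernel)
theorem e0_c10 : edgeRange data 0 10236 102510 = true := edgeRange_strict data 0 10236 102510 (by decide +kernel)
theorem e0_c11 : edgeRange data 0 10145 112746 = true := edgeRange_strict data 0 10145 112746 (by decide +kernel)
theorem e0_c12 : edgeRange data 0 10164 122891 = true := edgeRange_strict data 0 10164 122891 (by decide +kernel)
theorem e0_c13 : edgeRange data 0 10120 133055 = true := edgeRange_strict data 0 10120 133055 (by decide +kernel)
theorem e0_c14 : edgeRange data 0 10034 143175 = true := edgeRange_strict data 0 10034 143175 (by decide +kernel)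
theorem e0_c15 : edgeRange data 0 9968 153209 = true := edgeRange_strict data 0 9968 153209 (by decide +kernel)
theorem e0_c16 : edgeRange data 0 10057 163177 = true := edgeRange_strict data 0 10057 163177 (by decide +kernel)
theorem e0_c17 : edgeRange data 0 10042 173234 = true := edgeRange_strict data 0 10042 173234 (by decide +kernel)
theorem e0_c18 : edgeRange data 0 9946 183276 = true := edgeRange_strict data 0 9946 183276 (by decide +kernel)
theorem e0_c19 : edgeRange data 0 9939 193222 = true := edgeRange_strict data 0 9939 193222 (by decide +kernel)
theorem e0_c20 : edgeRange data 0 9984 203161 = true := edgeRange_strict data 0 9984 203161 (by decide +kernel)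
theorem e0_c21 : edgeRange data 0 9905 213145 = true := edgeRange_strict data 0 9905 213145 (by decide +kernel)
theorem e0_c22 : edgeRange data 0 9887 223050 = true := edgeRange_strict data 0 9887 223050 (by decide +kernel)
theorem e0_c23 : edgeRange data 0 9936 232937 = true := edgeRange_strict data 0 9936 232937 (by decide +kernel)
theorem e0_c24 : edgeRange data 0 9863 242873 = true := edgeRange_strict data 0 9863 242873 (by decide +kernel)
theorem e0_c25 : edgeRange data 0 9902 252736 = true := edgeRange_strict data 0 9902 252736 (by decide +kernel)
theorem e0_c26 : edgeRange data 0 23273 262638 = true := edgeRange_strict data 0 23273 262638 (by decide +kernel)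
theorem e0_c27 : edgeRange data 0 50000 285911 = true := edgeRange_strict data 0 50000 285911 (by decide +kernel)
theorem e0_c28 : edgeRange data 0 50000 335911 = true := edgeRange_strict data 0 50000 335911 (by decide +kernel)
theorem e0_c29 : edgeRange data 0 50000 385911 = true := edgeRange_strict data 0 50000 385911 (by decide +kernel)
theorem e0_c30 : edgeRange data 0 50000 435911 = true := edgeRange_strict data 0 50000 435911 (by decide +kernel)
theorem e0_c31 : edgeRange data 0 38377 485911 = true := edgeRange_strict data 0 38377 485911 (by decide +kernel)

end Cfsg.Agent.Helper4.TC.HeZ0
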