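import Cfsg.Agent.Lib.Helper4.TC.HeZ0D
import Cfsg.Agent.Lib.Helper4.TC.Strict

set_option autoImplicit false
set_option maxRecDepth 100000
set_option linter.unusedVariables false
set_option Elab.async false

namespace Cfsg.Agent.Helper4.TC.HeZ0

open Cfsg.Agent.Helper4.TC

theorem e1_c0 : edgeRange data 1 15803 0 = true := edgeRange_strict data 1 15803 0 (by decide +kernel)
theorem e1_c1 : edgeRange data 1 15683 15803 = true := edgeRange_strict data 1 15683 15803 (by decide +kernel)
theorem e1_c2 : edgeRange data 1 15529 31486 = true := edgeRange_strict data 1 15529 31486 (by decide +kernel)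
theorem e1_c3 : edgeRange data 1 15419 47015 = true := edgeRange_strict data 1 15419 47015 (by decide +kernel)
theorem e1_c4 : edgeRange data 1 15191 62434 = true := edgeRange_strict data 1 15191 62434 (by decide +kernel)
theorem e1_c5 : edgeRange data 1 14836 77625 = true := edgeRange_strict data 1 14836 77625 (by decide +kernel)
theorem e1_c6 : edgeRange data 1 14718 92461 = true := edgeRange_strict data 1 14718 92461 (by decide +kernel)
theorem e1_c7 : edgeRange data 1 14706 107179 = true := edgeRange_strict data 1 14706 107179 (by decide +kernel)
theorem e1_c8 : edgeRange data 1 14610 121885 = true := edgeRange_strict data 1 14610 121885 (by decide +kernel)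
theorem e1_c9 : edgeRange data 1 14585 136495 = true := edgeRange_strict data 1 14585 136495 (by decide +kernel)
theorem e1_c10 : edgeRange data 1 14942 151080 = true := edgeRange_strict data 1 14942 151080 (by decide +kernel)
theorem e1_c11 : edgeRange data 1 14532 166022 = true := edgeRange_strict data 1 14532 166022 (by decide +kernel)
theorem e1_c12 : edgeRange data 1 14701 180554 = true := edgeRange_strict data 1 14701 180554 (by decide +kernel)
theorem e1_c13 : edgeRange data 1 14664 195255 = true := edgeRange_strict data 1 14664 195255 (by decide +kernel)
theorem e1_c14 : edgeRange data 1 14262 209919 = true := edgeRange_strict data 1 14262 209919 (by decide +kernel)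
theorem e1_c15 : edgeRange data 1 14105 224181 = true := edgeRange_strict data 1 14105 224181 (by decide +kernel)
theorem e1_c16 : edgeRange data 1 13440 238286 = true := edgeRange_strict data 1 13440 238286 (by decide +kernel)
theorem e1_c17 : edgeRange data 1 13088 251726 = true := edgeRange_strict data 1 13088 251726 (by decide +kernel)
theorem e1_c18 : edgeRange data 1 36755 264814 = true := edgeRange_strict data 1 36755 264814 (by decide +kernel)
theorem e1_c19 : edgeRange data 1 50000 301569 = true := edgeRange_strict data 1 50000 301569 (by decide +kernel)
theorem e1_c20 : edgeRange data 1 50000 351569 = true := edgeRange_strict data 1 50000 351569 (by decide +kernel)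
theorem e1_c21 : edgeRange data 1 50000 401569 = true := edgeRange_strict data 1 50000 401569 (by decide +kernel)
theorem e1_c22 : edgeRange data 1 50000 451569 = true := edgeRange_strict data 1 50000 451569 (by decide +kernel)
theorem e1_c23 : edgeRange data 1 22719 501569 = true := edgeRange_strict data 1 22719 501569 (by decide +kernel)

end Cfsg.Agent.Helper4.TC.HeZ0
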