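import Cfsg.Agent.Lib.Helper4.TC.HeZ0D
import Cfsg.Agent.Lib.Helper4.TC.Strict

set_option autoImplicit false
set_option maxRecDepth 100000
set_option linter.unusedVariables false
set_option Elab.async false

namespace Cfsg.Agent.Helper4.TC.HeZ0

open Cfsg.Agent.Helper4.TC

theorem e10_c0 : edgeRange data 10 16787 0 = true := edgeRange_strict data 10 16787 0 (by decide +kernel)
theorem e10_c1 : edgeRange data 10 15951 16787 = true := edgeRange_strict data 10 15951 16787 (by decide +kernel)
theorem e10_c2 : edgeRange data 10 15371 32738 = true := edgeRange_strict data 10 15371 32738 (by decide +kernel)
theorem e10_c3 : edgeRange data 10 14894 48109 = true := edgeRange_strict data 10 14894 48109 (by decide +kernel)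
theorem e10_c4 : edgeRange data 10 14517 63003 = true := edgeRange_strict data 10 14517 63003 (by decide +kernel)
theorem e10_c5 : edgeRange data 10 14272 77520 = true := edgeRange_strict data 10 14272 77520 (by decide +kernel)
theorem e10_c6 : edgeRange data 10 14351 91792 = true := edgeRange_strict data 10 14351 91792 (by decide +kernel)
theorem e10_c7 : edgeRange data 10 14717 106143 = true := edgeRange_strict data 10 14717 106143 (by decide +kernel)
theorem e10_c8 : edgeRange data 10 14102 120860 = true := edgeRange_strict data 10 14102 120860 (by decide +kernel)
theorem e10_c9 : edgeRange data 10 14456 134962 = true := edgeRange_strict data 10 14456 134962 (by decide +kernel)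
theorem e10_c10 : edgeRange data 10 14570 149418 = true := edgeRange_strict data 10 14570 149418 (by decide +kernel)
theorem e10_c11 : edgeRange data 10 13824 163988 = true := edgeRange_strict data 10 13824 163988 (by decide +kernel)
theorem e10_c12 : edgeRange data 10 13756 177812 = true := edgeRange_strict data 10 13756 177812 (by decide +kernel)
theorem e10_c13 : edgeRange data 10 13572 191568 = true := edgeRange_strict data 10 13572 191568 (by decide +kernel)
theorem e10_c14 : edgeRange data 10 13305 205140 = true := edgeRange_strict data 10 13305 205140 (by decide +kernel)
theorem e10_c15 : edgeRange data 10 12807 218445 = true := edgeRange_strict data 10 12807 218445 (by decide +kernel)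
theorem e10_c16 : edgeRange data 10 12735 231252 = true := edgeRange_strict data 10 12735 231252 (by decide +kernel)
theorem e10_c17 : edgeRange data 10 12285 243987 = true := edgeRange_strict data 10 12285 243987 (by decide +kernel)
theorem e10_c18 : edgeRange data 10 11988 256272 = true := edgeRange_strict data 10 11988 256272 (by decide +kernel)
theorem e10_c19 : edgeRange data 10 47206 268260 = true := edgeRange_strict data 10 47206 268260 (by decide +kernel)
theorem e10_c20 : edgeRange data 10 50000 315466 = true := edgeRange_strict data 10 50000 315466 (by decide +kernel)
theorem e10_c21 : edgeRange data 10 50000 365466 = true := edgeRange_strict data 10 50000 365466 (by decide +kernel)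
theorem e10_c22 : edgeRange data 10 50000 415466 = true := edgeRange_strict data 10 50000 415466 (by decide +kernel)
theorem e10_c23 : edgeRange data 10 50000 465466 = true := edgeRange_strict data 10 50000 465466 (by decide +kernel)
theorem e10_c24 : edgeRange data 10 8822 515466 = true := edgeRange_strict data 10 8822 515466 (by decide +kernel)

end Cfsg.Agent.Helper4.TC.HeZ0
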