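import Cfsg.Agent.Lib.Helper4.TC.HeZ0D
import Cfsg.Agent.Lib.Helper4.TC.Strict

set_option autoImplicit false
set_option maxRecDepth 100000
set_option linter.unusedVariables false
set_option Elab.async false

namespace Cfsg.Agent.Helper4.TC.HeZ0

open Cfsg.Agent.Helper4.TC

theorem e11_c0 : edgeRange data 11 14772 0 = true := edgeRange_strict data 11 14772 0 (by decide +kernel)
theorem e11_c1 : edgeRange data 11 14771 14772 = true := edgeRange_strict data 11 14771 14772 (by decide +kernel)
theorem e11_c2 : edgeRange data 11 14643 29543 = true := edgeRange_strict data 11 14643 29543 (by decide +kernel)
theorem e11_c3 : edgeRange data 11 14591 44186 = true := edgeRange_strict data 11 14591 44186 (by decide +kernel)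
theorem e11_c4 : edgeRange data 11 14581 58777 = true := edgeRange_strict data 11 14581 58777 (by decide +kernel)
theorem e11_c5 : edgeRange data 11 14579 73358 = true := edgeRange_strict data 11 14579 73358 (by decide +kernel)
theorem e11_c6 : edgeRange data 11 14587 87937 = true := edgeRange_strict data 11 14587 87937 (by decide +kernel)
theorem e11_c7 : edgeRange data 11 14630 102524 = true := edgeRange_strict data 11 14630 102524 (by decide +kernel)
theorem e11_c8 : edgeRange data 11 14508 117154 = true := edgeRange_strict data 11 14508 117154 (by decide +kernel)
theorem e11_c9 : edgeRange data 11 14630 131662 = true := edgeRange_strict data 11 14630 131662 (by decide +kernel)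
theorem e11_c10 : edgeRange data 11 14595 146292 = true := edgeRange_strict data 11 14595 146292 (by decide +kernel)
theorem e11_c11 : edgeRange data 11 14455 160887 = true := edgeRange_strict data 11 14455 160887 (by decide +kernel)
theorem e11_c12 : edgeRange data 11 14485 175342 = true := edgeRange_strict data 11 14485 175342 (by decide +kernel)
theorem e11_c13 : edgeRange data 11 14396 189827 = true := edgeRange_strict data 11 14396 189827 (by decide +kernel)
theorem e11_c14 : edgeRange data 11 14460 204223 = true := edgeRange_strict data 11 14460 204223 (by decide +kernel)
theorem e11_c15 : edgeRange data 11 14362 218683 = true := edgeRange_strict data 11 14362 218683 (by decide +kernel)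
theorem e11_c16 : edgeRange data 11 14485 233045 = true := edgeRange_strict data 11 14485 233045 (by decide +kernel)
theorem e11_c17 : edgeRange data 11 14596 247530 = true := edgeRange_strict data 11 14596 247530 (by decide +kernel)
theorem e11_c18 : edgeRange data 11 32974 262126 = true := edgeRange_strict data 11 32974 262126 (by decide +kernel)
theorem e11_c19 : edgeRange data 11 50000 295100 = true := edgeRange_strict data 11 50000 295100 (by decide +kernel)
theorem e11_c20 : edgeRange data 11 50000 345100 = true := edgeRange_strict data 11 50000 345100 (by decide +kernel)
theorem e11_c21 : edgeRange data 11 50000 395100 = true := edgeRange_strict data 11 50000 395100 (by decide +kernel)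
theorem e11_c22 : edgeRange data 11 50000 445100 = true := edgeRange_strict data 11 50000 445100 (by decide +kernel)
theorem e11_c23 : edgeRange data 11 29188 495100 = true := edgeRange_strict data 11 29188 495100 (by decide +kernel)

end Cfsg.Agent.Helper4.TC.HeZ0
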