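import Cfsg.Agent.Lib.Helper4.TC.HeZ0D
import Cfsg.Agent.Lib.Helper4.TC.Strict

set_option autoImplicit false
set_option maxRecDepth 100000
set_option linter.unusedVariables false
set_option Elab.async false

namespace Cfsg.Agent.Helper4.TC.HeZ0

open Cfsg.Agent.Helper4.TC

theorem e12_c0 : edgeRange data 12 16448 0 = true := edgeRange_strict data 12 16448 0 (by decide +kernel)
theorem e12_c1 : edgeRange data 12 15672 16448 = true := edgeRange_strict data 12 15672 16448 (by decide +kernel)
theorem e12_c2 : edgeRange data 12 15011 32120 = true := edgeRange_strict data 12 15011 32120 (by decide +kernel)
theorem e12_c3 : edgeRange data 12 14492 47131 = true := edgeRange_strict data 12 14492 47131 (by decide +kernel)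
theorem e12_c4 : edgeRange data 12 14275 61623 = true := edgeRange_strict data 12 14275 61623 (by decide +kernel)
theorem e12_c5 : edgeRange data 12 13920 75898 = true := edgeRange_strict data 12 13920 75898 (by decide +kernel)
theorem e12_c6 : edgeRange data 12 13990 89818 = true := edgeRange_strict data 12 13990 89818 (by decide +kernel)
theorem e12_c7 : edgeRange data 12 14384 103808 = true := edgeRange_strict data 12 14384 103808 (by decide +kernel)
theorem e12_c8 : edgeRange data 12 13723 118192 = true := edgeRange_strict data 12 13723 118192 (by decide +kernel)
theorem e12_c9 : edgeRange data 12 14007 131915 = true := edgeRange_strict data 12 14007 131915 (by decide +kernel)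
theorem e12_c10 : edgeRange data 12 14143 145922 = true := edgeRange_strict data 12 14143 145922 (by decide +kernel)
theorem e12_c11 : edgeRange data 12 13699 160065 = true := edgeRange_strict data 12 13699 160065 (by decide +kernel)
theorem e12_c12 : edgeRange data 12 13512 173764 = true := edgeRange_strict data 12 13512 173764 (by decide +kernel)
theorem e12_c13 : edgeRange data 12 13210 187276 = true := edgeRange_strict data 12 13210 187276 (by decide +kernel)
theorem e12_c14 : edgeRange data 12 12908 200486 = true := edgeRange_strict data 12 12908 200486 (by decide +kernel)
theorem e12_c15 : edgeRange data 12 12541 213394 = true := edgeRange_strict data 12 12541 213394 (by decide +kernel)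
theorem e12_c16 : edgeRange data 12 12523 225935 = true := edgeRange_strict data 12 12523 225935 (by decide +kernel)
theorem e12_c17 : edgeRange data 12 12203 238458 = true := edgeRange_strict data 12 12203 238458 (by decide +kernel)
theorem e12_c18 : edgeRange data 12 11807 250661 = true := edgeRange_strict data 12 11807 250661 (by decide +kernel)
theorem e12_c19 : edgeRange data 12 28031 262468 = true := edgeRange_strict data 12 28031 262468 (by decide +kernel)
theorem e12_c20 : edgeRange data 12 50000 290499 = true := edgeRange_strict data 12 50000 290499 (by decide +kernel)
theorem e12_c21 : edgeRange data 12 50000 340499 = true := edgeRange_strict data 12 50000 340499 (by decide +kernel)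
theorem e12_c22 : edgeRange data 12 50000 390499 = true := edgeRange_strict data 12 50000 390499 (by decide +kernel)
theorem e12_c23 : edgeRange data 12 50000 440499 = true := edgeRange_strict data 12 50000 440499 (by decide +kernel)
theorem e12_c24 : edgeRange data 12 33789 490499 = true := edgeRange_strict data 12 33789 490499 (by decide +kernel)

end Cfsg.Agent.Helper4.TC.HeZ0
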