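import Cfsg.Agent.Lib.Helper4.TC.HeZ0D
import Cfsg.Agent.Lib.Helper4.TC.Strict

set_option autoImplicit false
set_option maxRecDepth 100000
set_option linter.unusedVariables false
set_option Elab.async false

namespace Cfsg.Agent.Helper4.TC.HeZ0

open Cfsg.Agent.Helper4.TC

theorem e2_c0 : edgeRange data 2 10876 0 = true := edgeRange_strict data 2 10876 0 (by decide +kernel)
theorem e2_c1 : edgeRange data 2 10985 10876 = true := edgeRange_strict data 2 10985 10876 (by decide +kernel)
theorem e2_c2 : edgeRange data 2 10856 21861 = true := edgeRange_strict data 2 10856 21861 (by decide +kernel)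
theorem e2_c3 : edgeRange data 2 10840 32717 = true := edgeRange_strict data 2 10840 32717 (by decide +kernel)
theorem e2_c4 : edgeRange data 2 10838 43557 = true := edgeRange_strict data 2 10838 43557 (by decide +kernel)
theorem e2_c5 : edgeRange data 2 10833 54395 = true := edgeRange_strict data 2 10833 54395 (by decide +kernel)
theorem e2_c6 : edgeRange data 2 10794 65228 = true := edgeRange_strict data 2 10794 65228 (by decide +kernel)
theorem e2_c7 : edgeRange data 2 10813 76022 = true := edgeRange_strict data 2 10813 76022 (by decide +kernel)
theorem e2_c8 : edgeRange data 2 10800 86835 = true := edgeRange_strict data 2 10800 86835 (by decide +kernel)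
theorem e2_c9 : edgeRange data 2 10732 97635 = true := edgeRange_strict data 2 10732 97635 (by decide +kernel)
theorem e2_c10 : edgeRange data 2 10754 108367 = true := edgeRange_strict data 2 10754 108367 (by decide +kernel)
theorem e2_c11 : edgeRange data 2 10759 119121 = true := edgeRange_strict data 2 10759 119121 (by decide +kernel)
theorem e2_c12 : edgeRange data 2 10677 129880 = true := edgeRange_strict data 2 10677 129880 (by decide +kernel)
theorem e2_c13 : edgeRange data 2 10697 140557 = true := edgeRange_strict data 2 10697 140557 (by decide +kernel)
theorem e2_c14 : edgeRange data 2 10652 151254 = true := edgeRange_strict data 2 10652 151254 (by decide +kernel)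
theorem e2_c15 : edgeRange data 2 10659 161906 = true := edgeRange_strict data 2 10659 161906 (by decide +kernel)
theorem e2_c16 : edgeRange data 2 10543 172565 = true := edgeRange_strict data 2 10543 172565 (by decide +kernel)
theorem e2_c17 : edgeRange data 2 10518 183108 = true := edgeRange_strict data 2 10518 183108 (by decide +kernel)
theorem e2_c18 : edgeRange data 2 10476 193626 = true := edgeRange_strict data 2 10476 193626 (by decide +kernel)
theorem e2_c19 : edgeRange data 2 10400 204102 = true := edgeRange_strict data 2 10400 204102 (by decide +kernel)
theorem e2_c20 : edgeRange data 2 10410 214502 = true := edgeRange_strict data 2 10410 214502 (by decide +kernel)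
theorem e2_c21 : edgeRange data 2 10334 224912 = true := edgeRange_strict data 2 10334 224912 (by decide +kernel)
theorem e2_c22 : edgeRange data 2 10309 235246 = true := edgeRange_strict data 2 10309 235246 (by decide +kernel)
theorem e2_c23 : edgeRange data 2 10271 245555 = true := edgeRange_strict data 2 10271 245555 (by decide +kernel)
theorem e2_c24 : edgeRange data 2 10261 255826 = true := edgeRange_strict data 2 10261 255826 (by decide +kernel)
theorem e2_c25 : edgeRange data 2 38586 266087 = true := edgeRange_strict data 2 38586 266087 (by decide +kernel)
theorem e2_c26 : edgeRange data 2 50000 304673 = true := edgeRange_strict data 2 50000 304673 (by decide +kernel)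
theorem e2_c27 : edgeRange data 2 50000 354673 = true := edgeRange_strict data 2 50000 354673 (by decide +kernel)
theorem e2_c28 : edgeRange data 2 50000 404673 = true := edgeRange_strict data 2 50000 404673 (by decide +kernel)
theorem e2_c29 : edgeRange data 2 50000 454673 = true := edgeRange_strict data 2 50000 454673 (by decide +kernel)
theorem e2_c30 : edgeRange data 2 19615 504673 = true := edgeRange_strict data 2 19615 504673 (by decide +kernel)

end Cfsg.Agent.Helper4.TC.HeZ0
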