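import Cfsg.Agent.Lib.Helper4.TC.HeZ0D
import Cfsg.Agent.Lib.Helper4.TC.Strict

set_option autoImplicit false
set_option maxRecDepth 100000
set_option linter.unusedVariables false
set_option Elab.async false

namespace Cfsg.Agent.Helper4.TC.HeZ0

open Cfsg.Agent.Helper4.TC

theorem e3_c0 : edgeRange data 3 16423 0 = true := edgeRange_strict data 3 16423 0 (by decide +kernel)
theorem e3_c1 : edgeRange data 3 16447 16423 = true := edgeRange_strict data 3 16447 16423 (by decide +kernel)
theorem e3_c2 : edgeRange data 3 16399 32870 = true := edgeRange_strict data 3 16399 32870 (by decide +kernel)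
theorem e3_c3 : edgeRange data 3 16206 49269 = true := edgeRange_strict data 3 16206 49269 (by decide +kernel)
theorem e3_c4 : edgeRange data 3 16112 65475 = true := edgeRange_strict data 3 16112 65475 (by decide +kernel)
theorem e3_c5 : edgeRange data 3 16102 81587 = true := edgeRange_strict data 3 16102 81587 (by decide +kernel)
theorem e3_c6 : edgeRange data 3 15948 97689 = true := edgeRange_strict data 3 15948 97689 (by decide +kernel)
theorem e3_c7 : edgeRange data 3 15909 113637 = true := edgeRange_strict data 3 15909 113637 (by decide +kernel)
theorem e3_c8 : edgeRange data 3 15782 129546 = true := edgeRange_strict data 3 15782 129546 (by decide +kernel)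
theorem e3_c9 : edgeRange data 3 15760 145328 = true := edgeRange_strict data 3 15760 145328 (by decide +kernel)
theorem e3_c10 : edgeRange data 3 15663 161088 = true := edgeRange_strict data 3 15663 161088 (by decide +kernel)
theorem e3_c11 : edgeRange data 3 15556 176751 = true := edgeRange_strict data 3 15556 176751 (by decide +kernel)
theorem e3_c12 : edgeRange data 3 15531 192307 = true := edgeRange_strict data 3 15531 192307 (by decide +kernel)
theorem e3_c13 : edgeRange data 3 15398 207838 = true := edgeRange_strict data 3 15398 207838 (by decide +kernel)
theorem e3_c14 : edgeRange data 3 15523 223236 = true := edgeRange_strict data 3 15523 223236 (by decide +kernel)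
theorem e3_c15 : edgeRange data 3 15705 238759 = true := edgeRange_strict data 3 15705 238759 (by decide +kernel)
theorem e3_c16 : edgeRange data 3 17950 254464 = true := edgeRange_strict data 3 17950 254464 (by decide +kernel)
theorem e3_c17 : edgeRange data 3 50000 272414 = true := edgeRange_strict data 3 50000 272414 (by decide +kernel)
theorem e3_c18 : edgeRange data 3 50000 322414 = true := edgeRange_strict data 3 50000 322414 (by decide +kernel)
theorem e3_c19 : edgeRange data 3 50000 372414 = true := edgeRange_strict data 3 50000 372414 (by decide +kernel)
theorem e3_c20 : edgeRange data 3 50000 422414 = true := edgeRange_strict data 3 50000 422414 (by decide +kernel)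
theorem e3_c21 : edgeRange data 3 50000 472414 = true := edgeRange_strict data 3 50000 472414 (by decide +kernel)
theorem e3_c22 : edgeRange data 3 1874 522414 = true := edgeRange_strict data 3 1874 522414 (by decide +kernel)

end Cfsg.Agent.Helper4.TC.HeZ0
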