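import Cfsg.Agent.Lib.Helper4.TC.HeZ0D
import Cfsg.Agent.Lib.Helper4.TC.Strict

set_option autoImplicit false
set_option maxRecDepth 100000
set_option linter.unusedVariables false
set_option Elab.async false

namespace Cfsg.Agent.Helper4.TC.HeZ0

open Cfsg.Agent.Helper4.TC

theorem e4_c0 : edgeRange data 4 12323 0 = true := edgeRange_strict data 4 12323 0 (by decide +kernel)
theorem e4_c1 : edgeRange data 4 12149 12323 = true := edgeRange_strict data 4 12149 12323 (by decide +kernel)
theorem e4_c2 : edgeRange data 4 12030 24472 = true := edgeRange_strict data 4 12030 24472 (by decide +kernel)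
theorem e4_c3 : edgeRange data 4 11899 36502 = true := edgeRange_strict data 4 11899 36502 (by decide +kernel)
theorem e4_c4 : edgeRange data 4 11840 48401 = true := edgeRange_strict data 4 11840 48401 (by decide +kernel)
theorem e4_c5 : edgeRange data 4 11711 60241 = true := edgeRange_strict data 4 11711 60241 (by decide +kernel)
theorem e4_c6 : edgeRange data 4 11767 71952 = true := edgeRange_strict data 4 11767 71952 (by decide +kernel)
theorem e4_c7 : edgeRange data 4 11650 83719 = true := edgeRange_strict data 4 11650 83719 (by decide +kernel)
theorem e4_c8 : edgeRange data 4 11658 95369 = true := edgeRange_strict data 4 11658 95369 (by decide +kernel)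
theorem e4_c9 : edgeRange data 4 11851 107027 = true := edgeRange_strict data 4 11851 107027 (by decide +kernel)
theorem e4_c10 : edgeRange data 4 11710 118878 = true := edgeRange_strict data 4 11710 118878 (by decide +kernel)
theorem e4_c11 : edgeRange data 4 11737 130588 = true := edgeRange_strict data 4 11737 130588 (by decide +kernel)
theorem e4_c12 : edgeRange data 4 11628 142325 = true := edgeRange_strict data 4 11628 142325 (by decide +kernel)
theorem e4_c13 : edgeRange data 4 11610 153953 = true := edgeRange_strict data 4 11610 153953 (by decide +kernel)
theorem e4_c14 : edgeRange data 4 11516 165563 = true := edgeRange_strict data 4 11516 165563 (by decide +kernel)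
theorem e4_c15 : edgeRange data 4 11362 177079 = true := edgeRange_strict data 4 11362 177079 (by decide +kernel)
theorem e4_c16 : edgeRange data 4 11181 188441 = true := edgeRange_strict data 4 11181 188441 (by decide +kernel)
theorem e4_c17 : edgeRange data 4 11002 199622 = true := edgeRange_strict data 4 11002 199622 (by decide +kernel)
theorem e4_c18 : edgeRange data 4 10946 210624 = true := edgeRange_strict data 4 10946 210624 (by decide +kernel)
theorem e4_c19 : edgeRange data 4 10842 221570 = true := edgeRange_strict data 4 10842 221570 (by decide +kernel)
theorem e4_c20 : edgeRange data 4 10747 232412 = true := edgeRange_strict data 4 10747 232412 (by decide +kernel)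
theorem e4_c21 : edgeRange data 4 10678 243159 = true := edgeRange_strict data 4 10678 243159 (by decide +kernel)
theorem e4_c22 : edgeRange data 4 10802 253837 = true := edgeRange_strict data 4 10802 253837 (by decide +kernel)
theorem e4_c23 : edgeRange data 4 33916 264639 = true := edgeRange_strict data 4 33916 264639 (by decide +kernel)
theorem e4_c24 : edgeRange data 4 50000 298555 = true := edgeRange_strict data 4 50000 298555 (by decide +kernel)
theorem e4_c25 : edgeRange data 4 50000 348555 = true := edgeRange_strict data 4 50000 348555 (by decide +kernel)
theorem e4_c26 : edgeRange data 4 50000 398555 = true := edgeRange_strict data 4 50000 398555 (by decide +kernel)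
theorem e4_c27 : edgeRange data 4 50000 448555 = true := edgeRange_strict data 4 50000 448555 (by decide +kernel)
theorem e4_c28 : edgeRange data 4 25733 498555 = true := edgeRange_strict data 4 25733 498555 (by decide +kernel)

end Cfsg.Agent.Helper4.TC.HeZ0
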