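import Cfsg.Agent.Lib.Helper4.TC.HeZ0D
import Cfsg.Agent.Lib.Helper4.TC.Strict

set_option autoImplicit false
set_option maxRecDepth 100000
set_option linter.unusedVariables false
set_option Elab.async false

namespace Cfsg.Agent.Helper4.TC.HeZ0

open Cfsg.Agent.Helper4.TC

theorem e5_c0 : edgeRange data 5 15638 0 = true := edgeRange_strict data 5 15638 0 (by decide +kernel)
theorem e5_c1 : edgeRange data 5 15068 15638 = true := edgeRange_strict data 5 15068 15638 (by decide +kernel)
theorem e5_c2 : edgeRange data 5 14726 30706 = true := edgeRange_strict data 5 14726 30706 (by decide +kernel)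
theorem e5_c3 : edgeRange data 5 14637 45432 = true := edgeRange_strict data 5 14637 45432 (by decide +kernel)
theorem e5_c4 : edgeRange data 5 14369 60069 = true := edgeRange_strict data 5 14369 60069 (by decide +kernel)
theorem e5_c5 : edgeRange data 5 14395 74438 = true := edgeRange_strict data 5 14395 74438 (by decide +kernel)
theorem e5_c6 : edgeRange data 5 14432 88833 = true := edgeRange_strict data 5 14432 88833 (by decide +kernel)
theorem e5_c7 : edgeRange data 5 14399 103265 = true := edgeRange_strict data 5 14399 103265 (by decide +kernel)
theorem e5_c8 : edgeRange data 5 14086 117664 = true := edgeRange_strict data 5 14086 117664 (by decide +kernel)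
theorem e5_c9 : edgeRange data 5 14034 131750 = true := edgeRange_strict data 5 14034 131750 (by decide +kernel)
theorem e5_c10 : edgeRange data 5 13988 145784 = true := edgeRange_strict data 5 13988 145784 (by decide +kernel)
theorem e5_c11 : edgeRange data 5 13862 159772 = true := edgeRange_strict data 5 13862 159772 (by decide +kernel)
theorem e5_c12 : edgeRange data 5 13453 173634 = true := edgeRange_strict data 5 13453 173634 (by decide +kernel)
theorem e5_c13 : edgeRange data 5 13370 187087 = true := edgeRange_strict data 5 13370 187087 (by decide +kernel)
theorem e5_c14 : edgeRange data 5 13238 200457 = true := edgeRange_strict data 5 13238 200457 (by decide +kernel)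
theorem e5_c15 : edgeRange data 5 13026 213695 = true := edgeRange_strict data 5 13026 213695 (by decide +kernel)
theorem e5_c16 : edgeRange data 5 13026 226721 = true := edgeRange_strict data 5 13026 226721 (by decide +kernel)
theorem e5_c17 : edgeRange data 5 12874 239747 = true := edgeRange_strict data 5 12874 239747 (by decide +kernel)
theorem e5_c18 : edgeRange data 5 12674 252621 = true := edgeRange_strict data 5 12674 252621 (by decide +kernel)
theorem e5_c19 : edgeRange data 5 38740 265295 = true := edgeRange_strict data 5 38740 265295 (by decide +kernel)
theorem e5_c20 : edgeRange data 5 50000 304035 = true := edgeRange_strict data 5 50000 304035 (by decide +kernel)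
theorem e5_c21 : edgeRange data 5 50000 354035 = true := edgeRange_strict data 5 50000 354035 (by decide +kernel)
theorem e5_c22 : edgeRange data 5 50000 404035 = true := edgeRange_strict data 5 50000 404035 (by decide +kernel)
theorem e5_c23 : edgeRange data 5 50000 454035 = true := edgeRange_strict data 5 50000 454035 (by decide +kernel)
theorem e5_c24 : edgeRange data 5 20253 504035 = true := edgeRange_strict data 5 20253 504035 (by decide +kernel)

end Cfsg.Agent.Helper4.TC.HeZ0
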