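import Cfsg.Agent.Lib.Helper4.TC.HeZ0D
import Cfsg.Agent.Lib.Helper4.TC.Strict

set_option autoImplicit false
set_option maxRecDepth 100000
set_option linter.unusedVariables false
set_option Elab.async false

namespace Cfsg.Agent.Helper4.TC.HeZ0

open Cfsg.Agent.Helper4.TC

theorem e6_c0 : edgeRange data 6 14807 0 = true := edgeRange_strict data 6 14807 0 (by decide +kernel)
theorem e6_c1 : edgeRange data 6 14117 14807 = true := edgeRange_strict data 6 14117 14807 (by decide +kernel)
theorem e6_c2 : edgeRange data 6 13257 28924 = true := edgeRange_strict data 6 13257 28924 (by decide +kernel)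
theorem e6_c3 : edgeRange data 6 12411 42181 = true := edgeRange_strict data 6 12411 42181 (by decide +kernel)
theorem e6_c4 : edgeRange data 6 12393 54592 = true := edgeRange_strict data 6 12393 54592 (by decide +kernel)
theorem e6_c5 : edgeRange data 6 12234 66985 = true := edgeRange_strict data 6 12234 66985 (by decide +kernel)
theorem e6_c6 : edgeRange data 6 11974 79219 = true := edgeRange_strict data 6 11974 79219 (by decide +kernel)
theorem e6_c7 : edgeRange data 6 11960 91193 = true := edgeRange_strict data 6 11960 91193 (by decide +kernel)
theorem e6_c8 : edgeRange data 6 12506 103153 = true := edgeRange_strict data 6 12506 103153 (by decide +kernel)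
theorem e6_c9 : edgeRange data 6 12467 115659 = true := edgeRange_strict data 6 12467 115659 (by decide +kernel)
theorem e6_c10 : edgeRange data 6 12391 128126 = true := edgeRange_strict data 6 12391 128126 (by decide +kernel)
theorem e6_c11 : edgeRange data 6 12624 140517 = true := edgeRange_strict data 6 12624 140517 (by decide +kernel)
theorem e6_c12 : edgeRange data 6 12139 153141 = true := edgeRange_strict data 6 12139 153141 (by decide +kernel)
theorem e6_c13 : edgeRange data 6 11539 165280 = true := edgeRange_strict data 6 11539 165280 (by decide +kernel)
theorem e6_c14 : edgeRange data 6 11469 176819 = true := edgeRange_strict data 6 11469 176819 (by decide +kernel)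
theorem e6_c15 : edgeRange data 6 10935 188288 = true := edgeRange_strict data 6 10935 188288 (by decide +kernel)
theorem e6_c16 : edgeRange data 6 10657 199223 = true := edgeRange_strict data 6 10657 199223 (by decide +kernel)
theorem e6_c17 : edgeRange data 6 10305 209880 = true := edgeRange_strict data 6 10305 209880 (by decide +kernel)
theorem e6_c18 : edgeRange data 6 10077 220185 = true := edgeRange_strict data 6 10077 220185 (by decide +kernel)
theorem e6_c19 : edgeRange data 6 9802 230262 = true := edgeRange_strict data 6 9802 230262 (by decide +kernel)
theorem e6_c20 : edgeRange data 6 9583 240064 = true := edgeRange_strict data 6 9583 240064 (by decide +kernel)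
theorem e6_c21 : edgeRange data 6 9195 249647 = true := edgeRange_strict data 6 9195 249647 (by decide +kernel)
theorem e6_c22 : edgeRange data 6 8870 258842 = true := edgeRange_strict data 6 8870 258842 (by decide +kernel)
theorem e6_c23 : edgeRange data 6 43600 267712 = true := edgeRange_strict data 6 43600 267712 (by decide +kernel)
theorem e6_c24 : edgeRange data 6 50000 311312 = true := edgeRange_strict data 6 50000 311312 (by decide +kernel)
theorem e6_c25 : edgeRange data 6 50000 361312 = true := edgeRange_strict data 6 50000 361312 (by decide +kernel)
theorem e6_c26 : edgeRange data 6 50000 411312 = true := edgeRange_strict data 6 50000 411312 (by decide +kernel)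
theorem e6_c27 : edgeRange data 6 50000 461312 = true := edgeRange_strict data 6 50000 461312 (by decide +kernel)
theorem e6_c28 : edgeRange data 6 12976 511312 = true := edgeRange_strict data 6 12976 511312 (by decide +kernel)

end Cfsg.Agent.Helper4.TC.HeZ0
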