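import Cfsg.Agent.Lib.Helper4.TC.HeZ0D
import Cfsg.Agent.Lib.Helper4.TC.Strict

set_option autoImplicit false
set_option maxRecDepth 100000
set_option linter.unusedVariables false
set_option Elab.async false

namespace Cfsg.Agent.Helper4.TC.HeZ0

open Cfsg.Agent.Helper4.TC

theorem e7_c0 : edgeRange data 7 16865 0 = true := edgeRange_strict data 7 16865 0 (by decide +kernel)
theorem e7_c1 : edgeRange data 7 16460 16865 = true := edgeRange_strict data 7 16460 16865 (by decide +kernel)
theorem e7_c2 : edgeRange data 7 16227 33325 = true := edgeRange_strict data 7 16227 33325 (by decide +kernel)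
theorem e7_c3 : edgeRange data 7 15898 49552 = true := edgeRange_strict data 7 15898 49552 (by decide +kernel)
theorem e7_c4 : edgeRange data 7 15937 65450 = true := edgeRange_strict data 7 15937 65450 (by decide +kernel)
theorem e7_c5 : edgeRange data 7 15687 81387 = true := edgeRange_strict data 7 15687 81387 (by decide +kernel)
theorem e7_c6 : edgeRange data 7 15910 97074 = true := edgeRange_strict data 7 15910 97074 (by decide +kernel)
theorem e7_c7 : edgeRange data 7 15410 112984 = true := edgeRange_strict data 7 15410 112984 (by decide +kernel)
theorem e7_c8 : edgeRange data 7 15237 128394 = true := edgeRange_strict data 7 15237 128394 (by decide +kernel)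
theorem e7_c9 : edgeRange data 7 15005 143631 = true := edgeRange_strict data 7 15005 143631 (by decide +kernel)
theorem e7_c10 : edgeRange data 7 15083 158636 = true := edgeRange_strict data 7 15083 158636 (by decide +kernel)
theorem e7_c11 : edgeRange data 7 14991 173719 = true := edgeRange_strict data 7 14991 173719 (by decide +kernel)
theorem e7_c12 : edgeRange data 7 14895 188710 = true := edgeRange_strict data 7 14895 188710 (by decide +kernel)
theorem e7_c13 : edgeRange data 7 14868 203605 = true := edgeRange_strict data 7 14868 203605 (by decide +kernel)
theorem e7_c14 : edgeRange data 7 15082 218473 = true := edgeRange_strict data 7 15082 218473 (by decide +kernel)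
theorem e7_c15 : edgeRange data 7 15267 233555 = true := edgeRange_strict data 7 15267 233555 (by decide +kernel)
theorem e7_c16 : edgeRange data 7 15724 248822 = true := edgeRange_strict data 7 15724 248822 (by decide +kernel)
theorem e7_c17 : edgeRange data 7 39974 264546 = true := edgeRange_strict data 7 39974 264546 (by decide +kernel)
theorem e7_c18 : edgeRange data 7 50000 304520 = true := edgeRange_strict data 7 50000 304520 (by decide +kernel)
theorem e7_c19 : edgeRange data 7 50000 354520 = true := edgeRange_strict data 7 50000 354520 (by decide +kernel)
theorem e7_c20 : edgeRange data 7 50000 404520 = true := edgeRange_strict data 7 50000 404520 (by decide +kernel)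
theorem e7_c21 : edgeRange data 7 50000 454520 = true := edgeRange_strict data 7 50000 454520 (by decide +kernel)
theorem e7_c22 : edgeRange data 7 19768 504520 = true := edgeRange_strict data 7 19768 504520 (by decide +kernel)

end Cfsg.Agent.Helper4.TC.HeZ0
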