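import Cfsg.Agent.Lib.Helper4.TC.HeZ0D
import Cfsg.Agent.Lib.Helper4.TC.Strict

set_option autoImplicit false
set_option maxRecDepth 100000
set_option linter.unusedVariables false
set_option Elab.async false

namespace Cfsg.Agent.Helper4.TC.HeZ0

open Cfsg.Agent.Helper4.TC

theorem e8_c0 : edgeRange data 8 14195 0 = true := edgeRange_strict data 8 14195 0 (by decide +kernel)
theorem e8_c1 : edgeRange data 8 13830 14195 = true := edgeRange_strict data 8 13830 14195 (by decide +kernel)
theorem e8_c2 : edgeRange data 8 13437 28025 = true := edgeRange_strict data 8 13437 28025 (by decide +kernel)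
theorem e8_c3 : edgeRange data 8 13055 41462 = true := edgeRange_strict data 8 13055 41462 (by decide +kernel)
theorem e8_c4 : edgeRange data 8 13063 54517 = true := edgeRange_strict data 8 13063 54517 (by decide +kernel)
theorem e8_c5 : edgeRange data 8 12792 67580 = true := edgeRange_strict data 8 12792 67580 (by decide +kernel)
theorem e8_c6 : edgeRange data 8 12931 80372 = true := edgeRange_strict data 8 12931 80372 (by decide +kernel)
theorem e8_c7 : edgeRange data 8 12637 93303 = true := edgeRange_strict data 8 12637 93303 (by decide +kernel)
theorem e8_c8 : edgeRange data 8 13052 105940 = true := edgeRange_strict data 8 13052 105940 (by decide +kernel)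
theorem e8_c9 : edgeRange data 8 12659 118992 = true := edgeRange_strict data 8 12659 118992 (by decide +kernel)
theorem e8_c10 : edgeRange data 8 12789 131651 = true := edgeRange_strict data 8 12789 131651 (by decide +kernel)
theorem e8_c11 : edgeRange data 8 12900 144440 = true := edgeRange_strict data 8 12900 144440 (by decide +kernel)
theorem e8_c12 : edgeRange data 8 12696 157340 = true := edgeRange_strict data 8 12696 157340 (by decide +kernel)
theorem e8_c13 : edgeRange data 8 12326 170036 = true := edgeRange_strict data 8 12326 170036 (by decide +kernel)
theorem e8_c14 : edgeRange data 8 12345 182362 = true := edgeRange_strict data 8 12345 182362 (by decide +kernel)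
theorem e8_c15 : edgeRange data 8 12115 194707 = true := edgeRange_strict data 8 12115 194707 (by decide +kernel)
theorem e8_c16 : edgeRange data 8 11816 206822 = true := edgeRange_strict data 8 11816 206822 (by decide +kernel)
theorem e8_c17 : edgeRange data 8 11690 218638 = true := edgeRange_strict data 8 11690 218638 (by decide +kernel)
theorem e8_c18 : edgeRange data 8 11600 230328 = true := edgeRange_strict data 8 11600 230328 (by decide +kernel)
theorem e8_c19 : edgeRange data 8 11616 241928 = true := edgeRange_strict data 8 11616 241928 (by decide +kernel)
theorem e8_c20 : edgeRange data 8 11600 253544 = true := edgeRange_strict data 8 11600 253544 (by decide +kernel)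
theorem e8_c21 : edgeRange data 8 37417 265144 = true := edgeRange_strict data 8 37417 265144 (by decide +kernel)
theorem e8_c22 : edgeRange data 8 50000 302561 = true := edgeRange_strict data 8 50000 302561 (by decide +kernel)
theorem e8_c23 : edgeRange data 8 50000 352561 = true := edgeRange_strict data 8 50000 352561 (by decide +kernel)
theorem e8_c24 : edgeRange data 8 50000 402561 = true := edgeRange_strict data 8 50000 402561 (by decide +kernel)
theorem e8_c25 : edgeRange data 8 50000 452561 = true := edgeRange_strict data 8 50000 452561 (by decide +kernel)
theorem e8_c26 : edgeRange data 8 21727 502561 = true := edgeRange_strict data 8 21727 502561 (by decide +kernel)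

end Cfsg.Agent.Helper4.TC.HeZ0
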