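import Cfsg.Agent.Lib.Helper4.TC.HeZ0D
import Cfsg.Agent.Lib.Helper4.TC.Strict

set_option autoImplicit false
set_option maxRecDepth 100000
set_option linter.unusedVariables false
set_option Elab.async false

namespace Cfsg.Agent.Helper4.TC.HeZ0

open Cfsg.Agent.Helper4.TC

theorem e9_c0 : edgeRange data 9 17587 0 = true := edgeRange_strict data 9 17587 0 (by decide +kernel)
theorem e9_c1 : edgeRange data 9 17608 17587 = true := edgeRange_strict data 9 17608 17587 (by decide +kernel)
theorem e9_c2 : edgeRange data 9 17582 35195 = true := edgeRange_strict data 9 17582 35195 (by decide +kernel)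
theorem e9_c3 : edgeRange data 9 17572 52777 = true := edgeRange_strict data 9 17572 52777 (by decide +kernel)
theorem e9_c4 : edgeRange data 9 17548 70349 = true := edgeRange_strict data 9 17548 70349 (by decide +kernel)
theorem e9_c5 : edgeRange data 9 17547 87897 = true := edgeRange_strict data 9 17547 87897 (by decide +kernel)
theorem e9_c6 : edgeRange data 9 17527 105444 = true := edgeRange_strict data 9 17527 105444 (by decide +kernel)
theorem e9_c7 : edgeRange data 9 17540 122971 = true := edgeRange_strict data 9 17540 122971 (by decide +kernel)
theorem e9_c8 : edgeRange data 9 17523 140511 = true := edgeRange_strict data 9 17523 140511 (by decide +kernel)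
theorem e9_c9 : edgeRange data 9 17538 158034 = true := edgeRange_strict data 9 17538 158034 (by decide +kernel)
theorem e9_c10 : edgeRange data 9 17512 175572 = true := edgeRange_strict data 9 17512 175572 (by decide +kernel)
theorem e9_c11 : edgeRange data 9 17566 193084 = true := edgeRange_strict data 9 17566 193084 (by decide +kernel)
theorem e9_c12 : edgeRange data 9 17507 210650 = true := edgeRange_strict data 9 17507 210650 (by decide +kernel)
theorem e9_c13 : edgeRange data 9 17544 228157 = true := edgeRange_strict data 9 17544 228157 (by decide +kernel)
theorem e9_c14 : edgeRange data 9 17545 245701 = true := edgeRange_strict data 9 17545 245701 (by decide +kernel)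
theorem e9_c15 : edgeRange data 9 39183 263246 = true := edgeRange_strict data 9 39183 263246 (by decide +kernel)
theorem e9_c16 : edgeRange data 9 50000 302429 = true := edgeRange_strict data 9 50000 302429 (by decide +kernel)
theorem e9_c17 : edgeRange data 9 50000 352429 = true := edgeRange_strict data 9 50000 352429 (by decide +kernel)
theorem e9_c18 : edgeRange data 9 50000 402429 = true := edgeRange_strict data 9 50000 402429 (by decide +kernel)
theorem e9_c19 : edgeRange data 9 50000 452429 = true := edgeRange_strict data 9 50000 452429 (by decide +kernel)
theorem e9_c20 : edgeRange data 9 21859 502429 = true := edgeRange_strict data 9 21859 502429 (by decide +kernel)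

end Cfsg.Agent.Helper4.TC.HeZ0
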