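import Cfsg.Agent.Lib.Helper4.TC.HeZ0D
import Cfsg.Agent.Lib.Helper4.TC.Strict

set_option autoImplicit false
set_option maxRecDepth 100000
set_option linter.unusedVariables false
set_option Elab.async false

namespace Cfsg.Agent.Helper4.TC.HeZ0

open Cfsg.Agent.Helper4.TC

theorem cnt0 : countFinal data 50000 0 0 = 48977 := countFinal_strict data 50000 0 0 48977 (by decide +kernel)
theorem cnt1 : countFinal data 50000 50000 0 = 49483 := countFinal_strict data 50000 50000 0 49483 (by decide +kernel)
theorem cnt2 : countFinal data 50000 100000 0 = 49577 := countFinal_strict data 50000 100000 0 49577 (by decide +kernel)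
theorem cnt3 : countFinal data 50000 150000 0 = 49568 := countFinal_strict data 50000 150000 0 49568 (by decide +kernel)
theorem cnt4 : countFinal data 50000 200000 0 = 49836 := countFinal_strict data 50000 200000 0 49836 (by decide +kernel)
theorem cnt5 : countFinal data 19124 250000 0 = 19119 := countFinal_strict data 19124 250000 0 19119 (by decide +kernel)
theorem rows0 : rowsRange data 269124 1182 0 = true := rowsRange_strict data 269124 1182 0 (by decide +kernel)
theorem rows1 : rowsRange data 269124 1174 1182 = true := rowsRange_strict data 269124 1174 1182 (by decide +kernel)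

end Cfsg.Agent.Helper4.TC.HeZ0
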