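import Cfsg.Agent.Lib.Helper4.TC.HeZ0D
import Cfsg.Agent.Lib.Helper4.TC.Strict

set_option autoImplicit false
set_option maxRecDepth 100000
set_option linter.unusedVariables false
set_option Elab.async false

namespace Cfsg.Agent.Helper4.TC.HeZ0

open Cfsg.Agent.Helper4.TC

theorem rows2 : rowsRange data 269124 1163 2356 = true := rowsRange_strict data 269124 1163 2356 (by decide +kernel)
theorem rows3 : rowsRange data 269124 1169 3519 = true := rowsRange_strict data 269124 1169 3519 (by decide +kernel)
theorem rows4 : rowsRange data 269124 1169 4688 = true := rowsRange_strict data 269124 1169 4688 (by decide +kernel)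
theorem rows5 : rowsRange data 269124 1199 5857 = true := rowsRange_strict data 269124 1199 5857 (by decide +kernel)
theorem rows6 : rowsRange data 269124 1170 7056 = true := rowsRange_strict data 269124 1170 7056 (by decide +kernel)
theorem rows7 : rowsRange data 269124 1185 8226 = true := rowsRange_strict data 269124 1185 8226 (by decide +kernel)
theorem rows8 : rowsRange data 269124 1201 9411 = true := rowsRange_strict data 269124 1201 9411 (by decide +kernel)
theorem rows9 : rowsRange data 269124 1186 10612 = true := rowsRange_strict data 269124 1186 10612 (by decide +kernel)

end Cfsg.Agent.Helper4.TC.HeZ0
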