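import Cfsg.Agent.Lib.Helper4.TC.HeZ0D
import Cfsg.Agent.Lib.Helper4.TC.Strict

set_option autoImplicit false
set_option maxRecDepth 100000
set_option linter.unusedVariables false
set_option Elab.async false

namespace Cfsg.Agent.Helper4.TC.HeZ0

open Cfsg.Agent.Helper4.TC

theorem rows74 : rowsRange data 269124 1175 87460 = true := rowsRange_strict data 269124 1175 87460 (by decide +kernel)
theorem rows75 : rowsRange data 269124 1189 88635 = true := rowsRange_strict data 269124 1189 88635 (by decide +kernel)
theorem rows76 : rowsRange data 269124 1168 89824 = true := rowsRange_strict data 269124 1168 89824 (by decide +kernel)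
theorem rows77 : rowsRange data 269124 1168 90992 = true := rowsRange_strict data 269124 1168 90992 (by decide +kernel)
theorem rows78 : rowsRange data 269124 1169 92160 = true := rowsRange_strict data 269124 1169 92160 (by decide +kernel)
theorem rows79 : rowsRange data 269124 1169 93329 = true := rowsRange_strict data 269124 1169 93329 (by decide +kernel)
theorem rows80 : rowsRange data 269124 1167 94498 = true := rowsRange_strict data 269124 1167 94498 (by decide +kernel)
theorem rows81 : rowsRange data 269124 1169 95665 = true := rowsRange_strict data 269124 1169 95665 (by decide +kernel)

end Cfsg.Agent.Helper4.TC.HeZ0
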