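import Cfsg.Agent.Lib.Helper4.TC.HeZ0D
import Cfsg.Agent.Lib.Helper4.TC.Strict

set_option autoImplicit false
set_option maxRecDepth 100000
set_option linter.unusedVariables false
set_option Elab.async false

namespace Cfsg.Agent.Helper4.TC.HeZ0

open Cfsg.Agent.Helper4.TC

theorem rows82 : rowsRange data 269124 1194 96834 = true := rowsRange_strict data 269124 1194 96834 (by decide +kernel)
theorem rows83 : rowsRange data 269124 1174 98028 = true := rowsRange_strict data 269124 1174 98028 (by decide +kernel)
theorem rows84 : rowsRange data 269124 1183 99202 = true := rowsRange_strict data 269124 1183 99202 (by decide +kernel)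
theorem rows85 : rowsRange data 269124 1187 100385 = true := rowsRange_strict data 269124 1187 100385 (by decide +kernel)
theorem rows86 : rowsRange data 269124 1175 101572 = true := rowsRange_strict data 269124 1175 101572 (by decide +kernel)
theorem rows87 : rowsRange data 269124 1183 102747 = true := rowsRange_strict data 269124 1183 102747 (by decide +kernel)
theorem rows88 : rowsRange data 269124 1171 103930 = true := rowsRange_strict data 269124 1171 103930 (by decide +kernel)
theorem rows89 : rowsRange data 269124 1174 105101 = true := rowsRange_strict data 269124 1174 105101 (by decide +kernel)

end Cfsg.Agent.Helper4.TC.HeZ0
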