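import Cfsg.Agent.Lib.Helper4.TC.HeZ0D
import Cfsg.Agent.Lib.Helper4.TC.Strict

set_option autoImplicit false
set_option maxRecDepth 100000
set_option linter.unusedVariables false
set_option Elab.async false

namespace Cfsg.Agent.Helper4.TC.HeZ0

open Cfsg.Agent.Helper4.TC

theorem rows90 : rowsRange data 269124 1168 106275 = true := rowsRange_strict data 269124 1168 106275 (by decide +kernel)
theorem rows91 : rowsRange data 269124 1174 107443 = true := rowsRange_strict data 269124 1174 107443 (by decide +kernel)
theorem rows92 : rowsRange data 269124 1167 108617 = true := rowsRange_strict data 269124 1167 108617 (by decide +kernel)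
theorem rows93 : rowsRange data 269124 1174 109784 = true := rowsRange_strict data 269124 1174 109784 (by decide +kernel)
theorem rows94 : rowsRange data 269124 1169 110958 = true := rowsRange_strict data 269124 1169 110958 (by decide +kernel)
theorem rows95 : rowsRange data 269124 1169 112127 = true := rowsRange_strict data 269124 1169 112127 (by decide +kernel)
theorem rows96 : rowsRange data 269124 1185 113296 = true := rowsRange_strict data 269124 1185 113296 (by decide +kernel)
theorem rows97 : rowsRange data 269124 1185 114481 = true := rowsRange_strict data 269124 1185 114481 (by decide +kernel)

end Cfsg.Agent.Helper4.TC.HeZ0
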