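import Cfsg.Agent.Lib.Helper4.TC.HeZ0D
import Cfsg.Agent.Lib.Helper4.TC.Strict

set_option autoImplicit false
set_option maxRecDepth 100000
set_option linter.unusedVariables false
set_option Elab.async false

namespace Cfsg.Agent.Helper4.TC.HeZ0

open Cfsg.Agent.Helper4.TC

theorem rows98 : rowsRange data 269124 1180 115666 = true := rowsRange_strict data 269124 1180 115666 (by decide +kernel)
theorem rows99 : rowsRange data 269124 1175 116846 = true := rowsRange_strict data 269124 1175 116846 (by decide +kernel)
theorem rows100 : rowsRange data 269124 1172 118021 = true := rowsRange_strict data 269124 1172 118021 (by decide +kernel)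
theorem rows101 : rowsRange data 269124 1174 119193 = true := rowsRange_strict data 269124 1174 119193 (by decide +kernel)
theorem rows102 : rowsRange data 269124 1179 120367 = true := rowsRange_strict data 269124 1179 120367 (by decide +kernel)
theorem rows103 : rowsRange data 269124 1179 121546 = true := rowsRange_strict data 269124 1179 121546 (by decide +kernel)
theorem rows104 : rowsRange data 269124 1167 122725 = true := rowsRange_strict data 269124 1167 122725 (by decide +kernel)
theorem rows105 : rowsRange data 269124 1163 123892 = true := rowsRange_strict data 269124 1163 123892 (by decide +kernel)

end Cfsg.Agent.Helper4.TC.HeZ0
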