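import Cfsg.Agent.Lib.Helper4.TC.HeZ0D
import Cfsg.Agent.Lib.Helper4.TC.Strict

set_option autoImplicit false
set_option maxRecDepth 100000
set_option linter.unusedVariables false
set_option Elab.async false

namespace Cfsg.Agent.Helper4.TC.HeZ0

open Cfsg.Agent.Helper4.TC

theorem rows106 : rowsRange data 269124 1169 125055 = true := rowsRange_strict data 269124 1169 125055 (by decide +kernel)
theorem rows107 : rowsRange data 269124 1174 126224 = true := rowsRange_strict data 269124 1174 126224 (by decide +kernel)
theorem rows108 : rowsRange data 269124 1168 127398 = true := rowsRange_strict data 269124 1168 127398 (by decide +kernel)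
theorem rows109 : rowsRange data 269124 1173 128566 = true := rowsRange_strict data 269124 1173 128566 (by decide +kernel)
theorem rows110 : rowsRange data 269124 1173 129739 = true := rowsRange_strict data 269124 1173 129739 (by decide +kernel)
theorem rows111 : rowsRange data 269124 1169 130912 = true := rowsRange_strict data 269124 1169 130912 (by decide +kernel)
theorem rows112 : rowsRange data 269124 1167 132081 = true := rowsRange_strict data 269124 1167 132081 (by decide +kernel)
theorem rows113 : rowsRange data 269124 1172 133248 = true := rowsRange_strict data 269124 1172 133248 (by decide +kernel)

end Cfsg.Agent.Helper4.TC.HeZ0
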