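import Cfsg.Agent.Lib.Helper4.TC.HeZ0D
import Cfsg.Agent.Lib.Helper4.TC.Strict

set_option autoImplicit false
set_option maxRecDepth 100000
set_option linter.unusedVariables false
set_option Elab.async false

namespace Cfsg.Agent.Helper4.TC.HeZ0

open Cfsg.Agent.Helper4.TC

theorem rows114 : rowsRange data 269124 1170 134420 = true := rowsRange_strict data 269124 1170 134420 (by decide +kernel)
theorem rows115 : rowsRange data 269124 1166 135590 = true := rowsRange_strict data 269124 1166 135590 (by decide +kernel)
theorem rows116 : rowsRange data 269124 1169 136756 = true := rowsRange_strict data 269124 1169 136756 (by decide +kernel)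
theorem rows117 : rowsRange data 269124 1175 137925 = true := rowsRange_strict data 269124 1175 137925 (by decide +kernel)
theorem rows118 : rowsRange data 269124 1176 139100 = true := rowsRange_strict data 269124 1176 139100 (by decide +kernel)
theorem rows119 : rowsRange data 269124 1174 140276 = true := rowsRange_strict data 269124 1174 140276 (by decide +kernel)
theorem rows120 : rowsRange data 269124 1164 141450 = true := rowsRange_strict data 269124 1164 141450 (by decide +kernel)
theorem rows121 : rowsRange data 269124 1167 142614 = true := rowsRange_strict data 269124 1167 142614 (by decide +kernel)

end Cfsg.Agent.Helper4.TC.HeZ0
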