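import Cfsg.Agent.Lib.Helper4.TC.HeZ0D
import Cfsg.Agent.Lib.Helper4.TC.Strict

set_option autoImplicit false
set_option maxRecDepth 100000
set_option linter.unusedVariables false
set_option Elab.async false

namespace Cfsg.Agent.Helper4.TC.HeZ0

open Cfsg.Agent.Helper4.TC

theorem rows122 : rowsRange data 269124 1170 143781 = true := rowsRange_strict data 269124 1170 143781 (by decide +kernel)
theorem rows123 : rowsRange data 269124 1164 144951 = true := rowsRange_strict data 269124 1164 144951 (by decide +kernel)
theorem rows124 : rowsRange data 269124 1177 146115 = true := rowsRange_strict data 269124 1177 146115 (by decide +kernel)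
theorem rows125 : rowsRange data 269124 1185 147292 = true := rowsRange_strict data 269124 1185 147292 (by decide +kernel)
theorem rows126 : rowsRange data 269124 1173 148477 = true := rowsRange_strict data 269124 1173 148477 (by decide +kernel)
theorem rows127 : rowsRange data 269124 1179 149650 = true := rowsRange_strict data 269124 1179 149650 (by decide +kernel)
theorem rows128 : rowsRange data 269124 1166 150829 = true := rowsRange_strict data 269124 1166 150829 (by decide +kernel)
theorem rows129 : rowsRange data 269124 1171 151995 = true := rowsRange_strict data 269124 1171 151995 (by decide +kernel)

end Cfsg.Agent.Helper4.TC.HeZ0
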