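import Cfsg.Agent.Lib.Helper4.TC.HeZ0D
import Cfsg.Agent.Lib.Helper4.TC.Strict

set_option autoImplicit false
set_option maxRecDepth 100000
set_option linter.unusedVariables false
set_option Elab.async false

namespace Cfsg.Agent.Helper4.TC.HeZ0

open Cfsg.Agent.Helper4.TC

theorem rows138 : rowsRange data 269124 1179 162569 = true := rowsRange_strict data 269124 1179 162569 (by decide +kernel)
theorem rows139 : rowsRange data 269124 1176 163748 = true := rowsRange_strict data 269124 1176 163748 (by decide +kernel)
theorem rows140 : rowsRange data 269124 1168 164924 = true := rowsRange_strict data 269124 1168 164924 (by decide +kernel)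
theorem rows141 : rowsRange data 269124 1177 166092 = true := rowsRange_strict data 269124 1177 166092 (by decide +kernel)
theorem rows142 : rowsRange data 269124 1163 167269 = true := rowsRange_strict data 269124 1163 167269 (by decide +kernel)
theorem rows143 : rowsRange data 269124 1179 168432 = true := rowsRange_strict data 269124 1179 168432 (by decide +kernel)
theorem rows144 : rowsRange data 269124 1170 169611 = true := rowsRange_strict data 269124 1170 169611 (by decide +kernel)
theorem rows145 : rowsRange data 269124 1170 170781 = true := rowsRange_strict data 269124 1170 170781 (by decide +kernel)

end Cfsg.Agent.Helper4.TC.HeZ0
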