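import Cfsg.Agent.Lib.Helper4.TC.HeZ0D
import Cfsg.Agent.Lib.Helper4.TC.Strict

set_option autoImplicit false
set_option maxRecDepth 100000
set_option linter.unusedVariables false
set_option Elab.async false

namespace Cfsg.Agent.Helper4.TC.HeZ0

open Cfsg.Agent.Helper4.TC

theorem rows146 : rowsRange data 269124 1187 171951 = true := rowsRange_strict data 269124 1187 171951 (by decide +kernel)
theorem rows147 : rowsRange data 269124 1170 173138 = true := rowsRange_strict data 269124 1170 173138 (by decide +kernel)
theorem rows148 : rowsRange data 269124 1175 174308 = true := rowsRange_strict data 269124 1175 174308 (by decide +kernel)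
theorem rows149 : rowsRange data 269124 1195 175483 = true := rowsRange_strict data 269124 1195 175483 (by decide +kernel)
theorem rows150 : rowsRange data 269124 1170 176678 = true := rowsRange_strict data 269124 1170 176678 (by decide +kernel)
theorem rows151 : rowsRange data 269124 1176 177848 = true := rowsRange_strict data 269124 1176 177848 (by decide +kernel)
theorem rows152 : rowsRange data 269124 1175 179024 = true := rowsRange_strict data 269124 1175 179024 (by decide +kernel)
theorem rows153 : rowsRange data 269124 1169 180199 = true := rowsRange_strict data 269124 1169 180199 (by decide +kernel)

end Cfsg.Agent.Helper4.TC.HeZ0
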