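import Cfsg.Agent.Lib.Helper4.TC.HeZ0D
import Cfsg.Agent.Lib.Helper4.TC.Strict

set_option autoImplicit false
set_option maxRecDepth 100000
set_option linter.unusedVariables false
set_option Elab.async false

namespace Cfsg.Agent.Helper4.TC.HeZ0

open Cfsg.Agent.Helper4.TC

theorem rows10 : rowsRange data 269124 1221 11798 = true := rowsRange_strict data 269124 1221 11798 (by decide +kernel)
theorem rows11 : rowsRange data 269124 1236 13019 = true := rowsRange_strict data 269124 1236 13019 (by decide +kernel)
theorem rows12 : rowsRange data 269124 1182 14255 = true := rowsRange_strict data 269124 1182 14255 (by decide +kernel)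
theorem rows13 : rowsRange data 269124 1187 15437 = true := rowsRange_strict data 269124 1187 15437 (by decide +kernel)
theorem rows14 : rowsRange data 269124 1179 16624 = true := rowsRange_strict data 269124 1179 16624 (by decide +kernel)
theorem rows15 : rowsRange data 269124 1198 17803 = true := rowsRange_strict data 269124 1198 17803 (by decide +kernel)
theorem rows16 : rowsRange data 269124 1247 19001 = true := rowsRange_strict data 269124 1247 19001 (by decide +kernel)
theorem rows17 : rowsRange data 269124 1186 20248 = true := rowsRange_strict data 269124 1186 20248 (by decide +kernel)

end Cfsg.Agent.Helper4.TC.HeZ0
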