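import Cfsg.Agent.Lib.Helper4.TC.HeZ0D
import Cfsg.Agent.Lib.Helper4.TC.Strict

set_option autoImplicit false
set_option maxRecDepth 100000
set_option linter.unusedVariables false
set_option Elab.async false

namespace Cfsg.Agent.Helper4.TC.HeZ0

open Cfsg.Agent.Helper4.TC

theorem rows154 : rowsRange data 269124 1166 181368 = true := rowsRange_strict data 269124 1166 181368 (by decide +kernel)
theorem rows155 : rowsRange data 269124 1166 182534 = true := rowsRange_strict data 269124 1166 182534 (by decide +kernel)
theorem rows156 : rowsRange data 269124 1168 183700 = true := rowsRange_strict data 269124 1168 183700 (by decide +kernel)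
theorem rows157 : rowsRange data 269124 1172 184868 = true := rowsRange_strict data 269124 1172 184868 (by decide +kernel)
theorem rows158 : rowsRange data 269124 1172 186040 = true := rowsRange_strict data 269124 1172 186040 (by decide +kernel)
theorem rows159 : rowsRange data 269124 1171 187212 = true := rowsRange_strict data 269124 1171 187212 (by decide +kernel)
theorem rows160 : rowsRange data 269124 1169 188383 = true := rowsRange_strict data 269124 1169 188383 (by decide +kernel)
theorem rows161 : rowsRange data 269124 1172 189552 = true := rowsRange_strict data 269124 1172 189552 (by decide +kernel)

end Cfsg.Agent.Helper4.TC.HeZ0
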