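import Cfsg.Agent.Lib.Helper4.TC.HeZ0D
import Cfsg.Agent.Lib.Helper4.TC.Strict

set_option autoImplicit false
set_option maxRecDepth 100000
set_option linter.unusedVariables false
set_option Elab.async false

namespace Cfsg.Agent.Helper4.TC.HeZ0

open Cfsg.Agent.Helper4.TC

theorem rows162 : rowsRange data 269124 1165 190724 = true := rowsRange_strict data 269124 1165 190724 (by decide +kernel)
theorem rows163 : rowsRange data 269124 1177 191889 = true := rowsRange_strict data 269124 1177 191889 (by decide +kernel)
theorem rows164 : rowsRange data 269124 1171 193066 = true := rowsRange_strict data 269124 1171 193066 (by decide +kernel)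
theorem rows165 : rowsRange data 269124 1170 194237 = true := rowsRange_strict data 269124 1170 194237 (by decide +kernel)
theorem rows166 : rowsRange data 269124 1171 195407 = true := rowsRange_strict data 269124 1171 195407 (by decide +kernel)
theorem rows167 : rowsRange data 269124 1178 196578 = true := rowsRange_strict data 269124 1178 196578 (by decide +kernel)
theorem rows168 : rowsRange data 269124 1175 197756 = true := rowsRange_strict data 269124 1175 197756 (by decide +kernel)
theorem rows169 : rowsRange data 269124 1166 198931 = true := rowsRange_strict data 269124 1166 198931 (by decide +kernel)

end Cfsg.Agent.Helper4.TC.HeZ0
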