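import Cfsg.Agent.Lib.Helper4.TC.HeZ0D
import Cfsg.Agent.Lib.Helper4.TC.Strict

set_option autoImplicit false
set_option maxRecDepth 100000
set_option linter.unusedVariables false
set_option Elab.async false

namespace Cfsg.Agent.Helper4.TC.HeZ0

open Cfsg.Agent.Helper4.TC

theorem rows170 : rowsRange data 269124 1170 200097 = true := rowsRange_strict data 269124 1170 200097 (by decide +kernel)
theorem rows171 : rowsRange data 269124 1173 201267 = true := rowsRange_strict data 269124 1173 201267 (by decide +kernel)
theorem rows172 : rowsRange data 269124 1168 202440 = true := rowsRange_strict data 269124 1168 202440 (by decide +kernel)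
theorem rows173 : rowsRange data 269124 1166 203608 = true := rowsRange_strict data 269124 1166 203608 (by decide +kernel)
theorem rows174 : rowsRange data 269124 1171 204774 = true := rowsRange_strict data 269124 1171 204774 (by decide +kernel)
theorem rows175 : rowsRange data 269124 1169 205945 = true := rowsRange_strict data 269124 1169 205945 (by decide +kernel)
theorem rows176 : rowsRange data 269124 1170 207114 = true := rowsRange_strict data 269124 1170 207114 (by decide +kernel)
theorem rows177 : rowsRange data 269124 1174 208284 = true := rowsRange_strict data 269124 1174 208284 (by decide +kernel)

end Cfsg.Agent.Helper4.TC.HeZ0
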