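import Cfsg.Agent.Lib.Helper4.TC.HeZ0D
import Cfsg.Agent.Lib.Helper4.TC.Strict

set_option autoImplicit false
set_option maxRecDepth 100000
set_option linter.unusedVariables false
set_option Elab.async false

namespace Cfsg.Agent.Helper4.TC.HeZ0

open Cfsg.Agent.Helper4.TC

theorem rows178 : rowsRange data 269124 1168 209458 = true := rowsRange_strict data 269124 1168 209458 (by decide +kernel)
theorem rows179 : rowsRange data 269124 1166 210626 = true := rowsRange_strict data 269124 1166 210626 (by decide +kernel)
theorem rows180 : rowsRange data 269124 1169 211792 = true := rowsRange_strict data 269124 1169 211792 (by decide +kernel)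
theorem rows181 : rowsRange data 269124 1166 212961 = true := rowsRange_strict data 269124 1166 212961 (by decide +kernel)
theorem rows182 : rowsRange data 269124 1168 214127 = true := rowsRange_strict data 269124 1168 214127 (by decide +kernel)
theorem rows183 : rowsRange data 269124 1165 215295 = true := rowsRange_strict data 269124 1165 215295 (by decide +kernel)
theorem rows184 : rowsRange data 269124 1171 216460 = true := rowsRange_strict data 269124 1171 216460 (by decide +kernel)
theorem rows185 : rowsRange data 269124 1168 217631 = true := rowsRange_strict data 269124 1168 217631 (by decide +kernel)

end Cfsg.Agent.Helper4.TC.HeZ0
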