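import Cfsg.Agent.Lib.Helper4.TC.HeZ0D
import Cfsg.Agent.Lib.Helper4.TC.Strict

set_option autoImplicit false
set_option maxRecDepth 100000
set_option linter.unusedVariables false
set_option Elab.async false

namespace Cfsg.Agent.Helper4.TC.HeZ0

open Cfsg.Agent.Helper4.TC

theorem rows186 : rowsRange data 269124 1170 218799 = true := rowsRange_strict data 269124 1170 218799 (by decide +kernel)
theorem rows187 : rowsRange data 269124 1165 219969 = true := rowsRange_strict data 269124 1165 219969 (by decide +kernel)
theorem rows188 : rowsRange data 269124 1165 221134 = true := rowsRange_strict data 269124 1165 221134 (by decide +kernel)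
theorem rows189 : rowsRange data 269124 1166 222299 = true := rowsRange_strict data 269124 1166 222299 (by decide +kernel)
theorem rows190 : rowsRange data 269124 1166 223465 = true := rowsRange_strict data 269124 1166 223465 (by decide +kernel)
theorem rows191 : rowsRange data 269124 1172 224631 = true := rowsRange_strict data 269124 1172 224631 (by decide +kernel)
theorem rows192 : rowsRange data 269124 1163 225803 = true := rowsRange_strict data 269124 1163 225803 (by decide +kernel)
theorem rows193 : rowsRange data 269124 1163 226966 = true := rowsRange_strict data 269124 1163 226966 (by decide +kernel)

end Cfsg.Agent.Helper4.TC.HeZ0
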