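import Cfsg.Agent.Lib.Helper4.TC.HeZ0D
import Cfsg.Agent.Lib.Helper4.TC.Strict

set_option autoImplicit false
set_option maxRecDepth 100000
set_option linter.unusedVariables false
set_option Elab.async false

namespace Cfsg.Agent.Helper4.TC.HeZ0

open Cfsg.Agent.Helper4.TC

theorem rows194 : rowsRange data 269124 1166 228129 = true := rowsRange_strict data 269124 1166 228129 (by decide +kernel)
theorem rows195 : rowsRange data 269124 1165 229295 = true := rowsRange_strict data 269124 1165 229295 (by decide +kernel)
theorem rows196 : rowsRange data 269124 1167 230460 = true := rowsRange_strict data 269124 1167 230460 (by decide +kernel)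
theorem rows197 : rowsRange data 269124 1170 231627 = true := rowsRange_strict data 269124 1170 231627 (by decide +kernel)
theorem rows198 : rowsRange data 269124 1165 232797 = true := rowsRange_strict data 269124 1165 232797 (by decide +kernel)
theorem rows199 : rowsRange data 269124 1166 233962 = true := rowsRange_strict data 269124 1166 233962 (by decide +kernel)
theorem rows200 : rowsRange data 269124 1166 235128 = true := rowsRange_strict data 269124 1166 235128 (by decide +kernel)
theorem rows201 : rowsRange data 269124 1165 236294 = true := rowsRange_strict data 269124 1165 236294 (by decide +kernel)

end Cfsg.Agent.Helper4.TC.HeZ0
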