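import Cfsg.Agent.Lib.Helper4.TC.HeZ0D
import Cfsg.Agent.Lib.Helper4.TC.Strict

set_option autoImplicit false
set_option maxRecDepth 100000
set_option linter.unusedVariables false
set_option Elab.async false

namespace Cfsg.Agent.Helper4.TC.HeZ0

open Cfsg.Agent.Helper4.TC

theorem rows202 : rowsRange data 269124 1166 237459 = true := rowsRange_strict data 269124 1166 237459 (by decide +kernel)
theorem rows203 : rowsRange data 269124 1164 238625 = true := rowsRange_strict data 269124 1164 238625 (by decide +kernel)
theorem rows204 : rowsRange data 269124 1164 239789 = true := rowsRange_strict data 269124 1164 239789 (by decide +kernel)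
theorem rows205 : rowsRange data 269124 1163 240953 = true := rowsRange_strict data 269124 1163 240953 (by decide +kernel)
theorem rows206 : rowsRange data 269124 1166 242116 = true := rowsRange_strict data 269124 1166 242116 (by decide +kernel)
theorem rows207 : rowsRange data 269124 1165 243282 = true := rowsRange_strict data 269124 1165 243282 (by decide +kernel)
theorem rows208 : rowsRange data 269124 1163 244447 = true := rowsRange_strict data 269124 1163 244447 (by decide +kernel)
theorem rows209 : rowsRange data 269124 1163 245610 = true := rowsRange_strict data 269124 1163 245610 (by decide +kernel)

end Cfsg.Agent.Helper4.TC.HeZ0
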