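import Cfsg.Agent.Lib.Helper4.TC.HeZ0D
import Cfsg.Agent.Lib.Helper4.TC.Strict

set_option autoImplicit false
set_option maxRecDepth 100000
set_option linter.unusedVariables false
set_option Elab.async false

namespace Cfsg.Agent.Helper4.TC.HeZ0

open Cfsg.Agent.Helper4.TC

theorem rows210 : rowsRange data 269124 1163 246773 = true := rowsRange_strict data 269124 1163 246773 (by decide +kernel)
theorem rows211 : rowsRange data 269124 1169 247936 = true := rowsRange_strict data 269124 1169 247936 (by decide +kernel)
theorem rows212 : rowsRange data 269124 1163 249105 = true := rowsRange_strict data 269124 1163 249105 (by decide +kernel)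
theorem rows213 : rowsRange data 269124 1164 250268 = true := rowsRange_strict data 269124 1164 250268 (by decide +kernel)
theorem rows214 : rowsRange data 269124 1163 251432 = true := rowsRange_strict data 269124 1163 251432 (by decide +kernel)
theorem rows215 : rowsRange data 269124 1163 252595 = true := rowsRange_strict data 269124 1163 252595 (by decide +kernel)
theorem rows216 : rowsRange data 269124 1164 253758 = true := rowsRange_strict data 269124 1164 253758 (by decide +kernel)
theorem rows217 : rowsRange data 269124 1163 254922 = true := rowsRange_strict data 269124 1163 254922 (by decide +kernel)

end Cfsg.Agent.Helper4.TC.HeZ0
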