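import Cfsg.Agent.Lib.Helper4.TC.HeZ0D
import Cfsg.Agent.Lib.Helper4.TC.Strict

set_option autoImplicit false
set_option maxRecDepth 100000
set_option linter.unusedVariables false
set_option Elab.async false

namespace Cfsg.Agent.Helper4.TC.HeZ0

open Cfsg.Agent.Helper4.TC

theorem rows218 : rowsRange data 269124 1165 256085 = true := rowsRange_strict data 269124 1165 256085 (by decide +kernel)
theorem rows219 : rowsRange data 269124 1163 257250 = true := rowsRange_strict data 269124 1163 257250 (by decide +kernel)
theorem rows220 : rowsRange data 269124 1163 258413 = true := rowsRange_strict data 269124 1163 258413 (by decide +kernel)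
theorem rows221 : rowsRange data 269124 1163 259576 = true := rowsRange_strict data 269124 1163 259576 (by decide +kernel)
theorem rows222 : rowsRange data 269124 1163 260739 = true := rowsRange_strict data 269124 1163 260739 (by decide +kernel)
theorem rows223 : rowsRange data 269124 1163 261902 = true := rowsRange_strict data 269124 1163 261902 (by decide +kernel)
theorem rows224 : rowsRange data 269124 1163 263065 = true := rowsRange_strict data 269124 1163 263065 (by decide +kernel)
theorem rows225 : rowsRange data 269124 1164 264228 = true := rowsRange_strict data 269124 1164 264228 (by decide +kernel)

end Cfsg.Agent.Helper4.TC.HeZ0
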