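import Cfsg.Agent.Lib.Helper4.TC.HeZ0D
import Cfsg.Agent.Lib.Helper4.TC.Strict

set_option autoImplicit false
set_option maxRecDepth 100000
set_option linter.unusedVariables false
set_option Elab.async false

namespace Cfsg.Agent.Helper4.TC.HeZ0

open Cfsg.Agent.Helper4.TC

theorem rows226 : rowsRange data 269124 1163 265392 = true := rowsRange_strict data 269124 1163 265392 (by decide +kernel)
theorem rows227 : rowsRange data 269124 1163 266555 = true := rowsRange_strict data 269124 1163 266555 (by decide +kernel)
theorem rows228 : rowsRange data 269124 1163 267718 = true := rowsRange_strict data 269124 1163 267718 (by decide +kernel)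
theorem rows229 : rowsRange data 269124 243 268881 = true := rowsRange_strict data 269124 243 268881 (by decide +kernel)

end Cfsg.Agent.Helper4.TC.HeZ0
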