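import Cfsg.Agent.Lib.Helper4.TC.HeZ0D
import Cfsg.Agent.Lib.Helper4.TC.Strict

set_option autoImplicit false
set_option maxRecDepth 100000
set_option linter.unusedVariables false
set_option Elab.async false

namespace Cfsg.Agent.Helper4.TC.HeZ0

open Cfsg.Agent.Helper4.TC

theorem rows18 : rowsRange data 269124 1196 21434 = true := rowsRange_strict data 269124 1196 21434 (by decide +kernel)
theorem rows19 : rowsRange data 269124 1213 22630 = true := rowsRange_strict data 269124 1213 22630 (by decide +kernel)
theorem rows20 : rowsRange data 269124 1218 23843 = true := rowsRange_strict data 269124 1218 23843 (by decide +kernel)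
theorem rows21 : rowsRange data 269124 1204 25061 = true := rowsRange_strict data 269124 1204 25061 (by decide +kernel)
theorem rows22 : rowsRange data 269124 1191 26265 = true := rowsRange_strict data 269124 1191 26265 (by decide +kernel)
theorem rows23 : rowsRange data 269124 1188 27456 = true := rowsRange_strict data 269124 1188 27456 (by decide +kernel)
theorem rows24 : rowsRange data 269124 1174 28644 = true := rowsRange_strict data 269124 1174 28644 (by decide +kernel)
theorem rows25 : rowsRange data 269124 1184 29818 = true := rowsRange_strict data 269124 1184 29818 (by decide +kernel)

end Cfsg.Agent.Helper4.TC.HeZ0
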