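import Cfsg.Agent.Lib.Helper4.TC.HeZ0D
import Cfsg.Agent.Lib.Helper4.TC.Strict

set_option autoImplicit false
set_option maxRecDepth 100000
set_option linter.unusedVariables false
set_option Elab.async false

namespace Cfsg.Agent.Helper4.TC.HeZ0

open Cfsg.Agent.Helper4.TC

theorem rows26 : rowsRange data 269124 1168 31002 = true := rowsRange_strict data 269124 1168 31002 (by decide +kernel)
theorem rows27 : rowsRange data 269124 1163 32170 = true := rowsRange_strict data 269124 1163 32170 (by decide +kernel)
theorem rows28 : rowsRange data 269124 1165 33333 = true := rowsRange_strict data 269124 1165 33333 (by decide +kernel)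
theorem rows29 : rowsRange data 269124 1189 34498 = true := rowsRange_strict data 269124 1189 34498 (by decide +kernel)
theorem rows30 : rowsRange data 269124 1183 35687 = true := rowsRange_strict data 269124 1183 35687 (by decide +kernel)
theorem rows31 : rowsRange data 269124 1181 36870 = true := rowsRange_strict data 269124 1181 36870 (by decide +kernel)
theorem rows32 : rowsRange data 269124 1185 38051 = true := rowsRange_strict data 269124 1185 38051 (by decide +kernel)
theorem rows33 : rowsRange data 269124 1183 39236 = true := rowsRange_strict data 269124 1183 39236 (by decide +kernel)

end Cfsg.Agent.Helper4.TC.HeZ0
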