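import Cfsg.Agent.Lib.Helper4.TC.HeZ0D
import Cfsg.Agent.Lib.Helper4.TC.Strict

set_option autoImplicit false
set_option maxRecDepth 100000
set_option linter.unusedVariables false
set_option Elab.async false

namespace Cfsg.Agent.Helper4.TC.HeZ0

open Cfsg.Agent.Helper4.TC

theorem rows34 : rowsRange data 269124 1172 40419 = true := rowsRange_strict data 269124 1172 40419 (by decide +kernel)
theorem rows35 : rowsRange data 269124 1179 41591 = true := rowsRange_strict data 269124 1179 41591 (by decide +kernel)
theorem rows36 : rowsRange data 269124 1180 42770 = true := rowsRange_strict data 269124 1180 42770 (by decide +kernel)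
theorem rows37 : rowsRange data 269124 1172 43950 = true := rowsRange_strict data 269124 1172 43950 (by decide +kernel)
theorem rows38 : rowsRange data 269124 1193 45122 = true := rowsRange_strict data 269124 1193 45122 (by decide +kernel)
theorem rows39 : rowsRange data 269124 1173 46315 = true := rowsRange_strict data 269124 1173 46315 (by decide +kernel)
theorem rows40 : rowsRange data 269124 1183 47488 = true := rowsRange_strict data 269124 1183 47488 (by decide +kernel)
theorem rows41 : rowsRange data 269124 1183 48671 = true := rowsRange_strict data 269124 1183 48671 (by decide +kernel)

end Cfsg.Agent.Helper4.TC.HeZ0
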