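import Cfsg.Agent.Lib.Helper4.TC.HeZ0D
import Cfsg.Agent.Lib.Helper4.TC.Strict

set_option autoImplicit false
set_option maxRecDepth 100000
set_option linter.unusedVariables false
set_option Elab.async false

namespace Cfsg.Agent.Helper4.TC.HeZ0

open Cfsg.Agent.Helper4.TC

theorem rows42 : rowsRange data 269124 1185 49854 = true := rowsRange_strict data 269124 1185 49854 (by decide +kernel)
theorem rows43 : rowsRange data 269124 1168 51039 = true := rowsRange_strict data 269124 1168 51039 (by decide +kernel)
theorem rows44 : rowsRange data 269124 1176 52207 = true := rowsRange_strict data 269124 1176 52207 (by decide +kernel)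
theorem rows45 : rowsRange data 269124 1179 53383 = true := rowsRange_strict data 269124 1179 53383 (by decide +kernel)
theorem rows46 : rowsRange data 269124 1168 54562 = true := rowsRange_strict data 269124 1168 54562 (by decide +kernel)
theorem rows47 : rowsRange data 269124 1168 55730 = true := rowsRange_strict data 269124 1168 55730 (by decide +kernel)
theorem rows48 : rowsRange data 269124 1191 56898 = true := rowsRange_strict data 269124 1191 56898 (by decide +kernel)
theorem rows49 : rowsRange data 269124 1168 58089 = true := rowsRange_strict data 269124 1168 58089 (by decide +kernel)

end Cfsg.Agent.Helper4.TC.HeZ0
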