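import Cfsg.Agent.Lib.Helper4.TC.HeZ0D
import Cfsg.Agent.Lib.Helper4.TC.Strict

set_option autoImplicit false
set_option maxRecDepth 100000
set_option linter.unusedVariables false
set_option Elab.async false

namespace Cfsg.Agent.Helper4.TC.HeZ0

open Cfsg.Agent.Helper4.TC

theorem rows50 : rowsRange data 269124 1170 59257 = true := rowsRange_strict data 269124 1170 59257 (by decide +kernel)
theorem rows51 : rowsRange data 269124 1171 60427 = true := rowsRange_strict data 269124 1171 60427 (by decide +kernel)
theorem rows52 : rowsRange data 269124 1184 61598 = true := rowsRange_strict data 269124 1184 61598 (by decide +kernel)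
theorem rows53 : rowsRange data 269124 1177 62782 = true := rowsRange_strict data 269124 1177 62782 (by decide +kernel)
theorem rows54 : rowsRange data 269124 1172 63959 = true := rowsRange_strict data 269124 1172 63959 (by decide +kernel)
theorem rows55 : rowsRange data 269124 1190 65131 = true := rowsRange_strict data 269124 1190 65131 (by decide +kernel)
theorem rows56 : rowsRange data 269124 1180 66321 = true := rowsRange_strict data 269124 1180 66321 (by decide +kernel)
theorem rows57 : rowsRange data 269124 1178 67501 = true := rowsRange_strict data 269124 1178 67501 (by decide +kernel)

end Cfsg.Agent.Helper4.TC.HeZ0
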