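import Cfsg.Agent.Lib.Helper4.TC.HeZ0D
import Cfsg.Agent.Lib.Helper4.TC.Strict

set_option autoImplicit false
set_option maxRecDepth 100000
set_option linter.unusedVariables false
set_option Elab.async false

namespace Cfsg.Agent.Helper4.TC.HeZ0

open Cfsg.Agent.Helper4.TC

theorem rows58 : rowsRange data 269124 1167 68679 = true := rowsRange_strict data 269124 1167 68679 (by decide +kernel)
theorem rows59 : rowsRange data 269124 1172 69846 = true := rowsRange_strict data 269124 1172 69846 (by decide +kernel)
theorem rows60 : rowsRange data 269124 1175 71018 = true := rowsRange_strict data 269124 1175 71018 (by decide +kernel)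
theorem rows61 : rowsRange data 269124 1168 72193 = true := rowsRange_strict data 269124 1168 72193 (by decide +kernel)
theorem rows62 : rowsRange data 269124 1167 73361 = true := rowsRange_strict data 269124 1167 73361 (by decide +kernel)
theorem rows63 : rowsRange data 269124 1173 74528 = true := rowsRange_strict data 269124 1173 74528 (by decide +kernel)
theorem rows64 : rowsRange data 269124 1190 75701 = true := rowsRange_strict data 269124 1190 75701 (by decide +kernel)
theorem rows65 : rowsRange data 269124 1171 76891 = true := rowsRange_strict data 269124 1171 76891 (by decide +kernel)

end Cfsg.Agent.Helper4.TC.HeZ0
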