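import Cfsg.Agent.Lib.Helper4.TC.HeZ0D
import Cfsg.Agent.Lib.Helper4.TC.Strict

set_option autoImplicit false
set_option maxRecDepth 100000
set_option linter.unusedVariables false
set_option Elab.async false

namespace Cfsg.Agent.Helper4.TC.HeZ0

open Cfsg.Agent.Helper4.TC

theorem rows66 : rowsRange data 269124 1184 78062 = true := rowsRange_strict data 269124 1184 78062 (by decide +kernel)
theorem rows67 : rowsRange data 269124 1170 79246 = true := rowsRange_strict data 269124 1170 79246 (by decide +kernel)
theorem rows68 : rowsRange data 269124 1179 80416 = true := rowsRange_strict data 269124 1179 80416 (by decide +kernel)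
theorem rows69 : rowsRange data 269124 1172 81595 = true := rowsRange_strict data 269124 1172 81595 (by decide +kernel)
theorem rows70 : rowsRange data 269124 1172 82767 = true := rowsRange_strict data 269124 1172 82767 (by decide +kernel)
theorem rows71 : rowsRange data 269124 1180 83939 = true := rowsRange_strict data 269124 1180 83939 (by decide +kernel)
theorem rows72 : rowsRange data 269124 1169 85119 = true := rowsRange_strict data 269124 1169 85119 (by decide +kernel)
theorem rows73 : rowsRange data 269124 1172 86288 = true := rowsRange_strict data 269124 1172 86288 (by decide +kernel)

end Cfsg.Agent.Helper4.TC.HeZ0
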