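import Cfsg.Agent.Lib.Helper4.TC.HeZ0D
import Cfsg.Agent.Lib.Helper4.TC.Strict

set_option autoImplicit false
set_option maxRecDepth 100000
set_option linter.unusedVariables false
set_option Elab.async false

namespace Cfsg.Agent.Helper4.TC.HeZ0

open Cfsg.Agent.Helper4.TC

theorem m_c0 : mergeRange data 46451 0 = true := mergeRange_strict data 46451 0 (by decide +kernel)
theorem m_c1 : mergeRange data 47459 46451 = true := mergeRange_strict data 47459 46451 (by decide +kernel)
theorem m_c2 : mergeRange data 47920 93910 = true := mergeRange_strict data 47920 93910 (by decide +kernel)
theorem m_c3 : mergeRange data 47687 141830 = true := mergeRange_strict data 47687 141830 (by decide +kernel)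
theorem m_c4 : mergeRange data 48749 189517 = true := mergeRange_strict data 48749 189517 (by decide +kernel)
theorem m_c5 : mergeRange data 49882 238266 = true := mergeRange_strict data 49882 238266 (by decide +kernel)
theorem m_c6 : mergeRange data 50000 288148 = true := mergeRange_strict data 50000 288148 (by decide +kernel)
theorem m_c7 : mergeRange data 50000 338148 = true := mergeRange_strict data 50000 338148 (by decide +kernel)
theorem m_c8 : mergeRange data 50000 388148 = true := mergeRange_strict data 50000 388148 (by decide +kernel)
theorem m_c9 : mergeRange data 50000 438148 = true := mergeRange_strict data 50000 438148 (by decide +kernel)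
theorem m_c10 : mergeRange data 36140 488148 = true := mergeRange_strict data 36140 488148 (by decide +kernel)

end Cfsg.Agent.Helper4.TC.HeZ0
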