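import Cfsg.Agent.Lib.Helper4.TC.Perm
import Cfsg.Agent.Lib.Helper4.TC.HeCod
import Cfsg.Agent.Lib.Helper4.TC.HeZ0Fin
import Cfsg.Agent.Lib.Helper4.TC.HeZ0CM
import Cfsg.Agent.Lib.Helper4.TC.HeZ0CE0
import Cfsg.Agent.Lib.Helper4.TC.HeZ0CE1
import Cfsg.Agent.Lib.Helper4.TC.HeZ0CE2
import Cfsg.Agent.Lib.Helper4.TC.HeZ0CE3
import Cfsg.Agent.Lib.Helper4.TC.HeZ0CE4
import Cfsg.Agent.Lib.Helper4.TC.HeZ0CE5
import Cfsg.Agent.Lib.Helper4.TC.HeZ0CE6
import Cfsg.Agent.Lib.Helper4.TC.HeZ0CE7
import Cfsg.Agent.Lib.Helper4.TC.HeZ0CE8
import Cfsg.Agent.Lib.Helper4.TC.HeZ0CE9
import Cfsg.Agent.Lib.Helper4.TC.HeZ0CE10
import Cfsg.Agent.Lib.Helper4.TC.HeZ0CE11
import Cfsg.Agent.Lib.Helper4.TC.HeZ0CE12
import Cfsg.Agent.Lib.Helper4.TC.HeZ0CE13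
import Cfsg.Agent.Lib.Helper4.TC.HeZ0CF0
import Cfsg.Agent.Lib.Helper4.TC.HeZ0CF1
import Cfsg.Agent.Lib.Helper4.TC.HeZ0CF2
import Cfsg.Agent.Lib.Helper4.TC.HeZ0CF3
import Cfsg.Agent.Lib.Helper4.TC.HeZ0CF4
import Cfsg.Agent.Lib.Helper4.TC.HeZ0CF5
import Cfsg.Agent.Lib.Helper4.TC.HeZ0CF6
import Cfsg.Agent.Lib.Helper4.TC.HeZ0CF7
import Cfsg.Agent.Lib.Helper4.TC.HeZ0CF8
import Cfsg.Agent.Lib.Helper4.TC.HeZ0CF9
import Cfsg.Agent.Lib.Helper4.TC.HeZ0CF10
import Cfsg.Agent.Lib.Helper4.TC.HeZ0CF11
import Cfsg.Agent.Lib.Helper4.TC.HeZ0CF12
import Cfsg.Agent.Lib.Helper4.TC.HeZ0CF13
import Cfsg.Agent.Lib.Helper4.TC.HeZ0CF14
import Cfsg.Agent.Lib.Helper4.TC.HeZ0CF15
import Cfsg.Agent.Lib.Helper4.TC.HeZ0CF16
import Cfsg.Agent.Lib.Helper4.TC.HeZ0CF17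
import Cfsg.Agent.Lib.Helper4.TC.HeZ0CF18
import Cfsg.Agent.Lib.Helper4.TC.HeZ0CF19
import Cfsg.Agent.Lib.Helper4.TC.HeZ0CF20
import Cfsg.Agent.Lib.Helper4.TC.HeZ0CF21
import Cfsg.Agent.Lib.Helper4.TC.HeZ0CF22
import Cfsg.Agent.Lib.Helper4.TC.HeZ0CF23
import Cfsg.Agent.Lib.Helper4.TC.HeZ0CF24
import Cfsg.Agent.Lib.Helper4.TC.HeZ0CF25
import Cfsg.Agent.Lib.Helper4.TC.HeZ0CF26
import Cfsg.Agent.Lib.Helper4.TC.HeZ0CF27
import Cfsg.Agent.Lib.Helper4.TC.HeZ0CF28
import Cfsg.Agent.Lib.Helper4.TC.HeZ0CF29

set_option autoImplicit false
set_option maxRecDepth 100000
set_option linter.unusedVariables false

namespace Cfsg.Agent.Helper4.TC.HeZ0

open Cfsg.Agent.Helper4.TC

theorem allE0 : ∀ k, k < 524288 → justE data 0 k = true := by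
  intro k hk
  by_cases hh1 : k < 163177
  · skip
    by_cases hh2 : k < 82025
    · skip
      by_cases hh3 : k < 41169
      · skip
        by_cases hh4 : k < 20604
        · skip
          by_cases hh5 : k < 10262
          · skip
            exact edgeRange_sound data 0 10262 0 e0_c0 k (by omega) (by omega)
          · skip
            exact edgeRange_sound data 0 10342 10262 e0_c1 k (by omega) (by omega)
        · skip
          by_cases hh6 : k < 30932
          · skip
            exact edgeRange_sound data 0 10328 20604 e0_c2 k (by omega) (by omega)
          · skip
            exact edgeRange_sound data 0 10237 30932 e0_c3 k (by omega) (by omega)
      · skip
        by_cases hh7 : k < 61567
        · skip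
          by_cases hh8 : k < 51344
          · skip
            exact edgeRange_sound data 0 10175 41169 e0_c4 k (by omega) (by omega)
          · skip
            exact edgeRange_sound data 0 10223 51344 e0_c5 k (by omega) (by omega)
        · skip
          by_cases hh9 : k < 71787
          · skip
            exact edgeRange_sound data 0 10220 61567 e0_c6 k (by omega) (by omega)
          · skip
            exact edgeRange_sound data 0 10238 71787 e0_c7 k (by omega) (by omega)
    · skip
      by_cases hh10 : k < 122891
      · skip
        by_cases hh11 : k < 102510
        · skip
          by_cases hh12 : k < 92251
          · skip
            exact edgeRange_sound data 0 10226 82025 e0_c8 k (by omega) (by omega)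
          · skip
            exact edgeRange_sound data 0 10259 92251 e0_c9 k (by omega) (by omega)
        · skip
          by_cases hh13 : k < 112746
          · skip
            exact edgeRange_sound data 0 10236 102510 e0_c10 k (by omega) (by omega)
          · skip
            exact edgeRange_sound data 0 10145 112746 e0_c11 k (by omega) (by omega)
      · skip
        by_cases hh14 : k < 143175
        · skip
          by_cases hh15 : k < 133055
          · skip
            exact edgeRange_sound data 0 10164 122891 e0_c12 k (by omega) (by omega)
          · skip
            exact edgeRange_sound data 0 10120 133055 e0_c13 k (by omega) (by omega)
        · skip
          by_cases hh16 : k < 153209
          · skip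
            exact edgeRange_sound data 0 10034 143175 e0_c14 k (by omega) (by omega)
          · skip
            exact edgeRange_sound data 0 9968 153209 e0_c15 k (by omega) (by omega)
  · skip
    by_cases hh17 : k < 242873
    · skip
      by_cases hh18 : k < 203161
      · skip
        by_cases hh19 : k < 183276
        · skip
          by_cases hh20 : k < 173234
          · skip
            exact edgeRange_sound data 0 10057 163177 e0_c16 k (by omega) (by omega)
          · skip
            exact edgeRange_sound data 0 10042 173234 e0_c17 k (by omega) (by omega)
        · skip
          by_cases hh21 : k < 193222
          · skip
            exact edgeRange_sound data 0 9946 183276 e0_c18 k (by omega) (by omega)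
          · skip
            exact edgeRange_sound data 0 9939 193222 e0_c19 k (by omega) (by omega)
      · skip
        by_cases hh22 : k < 223050
        · skip
          by_cases hh23 : k < 213145
          · skip
            exact edgeRange_sound data 0 9984 203161 e0_c20 k (by omega) (by omega)
          · skip
            exact edgeRange_sound data 0 9905 213145 e0_c21 k (by omega) (by omega)
        · skip
          by_cases hh24 : k < 232937
          · skip
            exact edgeRange_sound data 0 9887 223050 e0_c22 k (by omega) (by omega)
          · skip
            exact edgeRange_sound data 0 9936 232937 e0_c23 k (by omega) (by omega)
    · skip
      by_cases hh25 : k < 335911
      · skip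
        by_cases hh26 : k < 262638
        · skip
          by_cases hh27 : k < 252736
          · skip
            exact edgeRange_sound data 0 9863 242873 e0_c24 k (by omega) (by omega)
          · skip
            exact edgeRange_sound data 0 9902 252736 e0_c25 k (by omega) (by omega)
        · skip
          by_cases hh28 : k < 285911
          · skip
            exact edgeRange_sound data 0 23273 262638 e0_c26 k (by omega) (by omega)
          · skip
            exact edgeRange_sound data 0 50000 285911 e0_c27 k (by omega) (by omega)
      · skip
        by_cases hh29 : k < 435911
        · skip
          by_cases hh30 : k < 385911
          · skip
            exact edgeRange_sound data 0 50000 335911 e0_c28 k (by omega) (by omega)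
          · skip
            exact edgeRange_sound data 0 50000 385911 e0_c29 k (by omega) (by omega)
        · skip
          by_cases hh31 : k < 485911
          · skip
            exact edgeRange_sound data 0 50000 435911 e0_c30 k (by omega) (by omega)
          · skip
            exact edgeRange_sound data 0 38377 485911 e0_c31 k (by omega) (by omega)

theorem allE1 : ∀ k, k < 524288 → justE data 1 k = true := by
  intro k hk
  by_cases hh1 : k < 180554
  · skip
    by_cases hh2 : k < 92461
    · skip
      by_cases hh3 : k < 47015
      · skip
        by_cases hh4 : k < 15803
        · skip
          exact edgeRange_sound data 1 15803 0 e1_c0 k (by omega) (by omega)
        · skip
          by_cases hh5 : k < 31486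
          · skip
            exact edgeRange_sound data 1 15683 15803 e1_c1 k (by omega) (by omega)
          · skip
            exact edgeRange_sound data 1 15529 31486 e1_c2 k (by omega) (by omega)
      · skip
        by_cases hh6 : k < 62434
        · skip
          exact edgeRange_sound data 1 15419 47015 e1_c3 k (by omega) (by omega)
        · skip
          by_cases hh7 : k < 77625
          · skip
            exact edgeRange_sound data 1 15191 62434 e1_c4 k (by omega) (by omega)
          · skip
            exact edgeRange_sound data 1 14836 77625 e1_c5 k (by omega) (by omega)
    · skip
      by_cases hh8 : k < 136495
      · skip
        by_cases hh9 : k < 107179
        · skip
          exact edgeRange_sound data 1 14718 92461 e1_c6 k (by omega) (by omega)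
        · skip
          by_cases hh10 : k < 121885
          · skip
            exact edgeRange_sound data 1 14706 107179 e1_c7 k (by omega) (by omega)
          · skip
            exact edgeRange_sound data 1 14610 121885 e1_c8 k (by omega) (by omega)
      · skip
        by_cases hh11 : k < 151080
        · skip
          exact edgeRange_sound data 1 14585 136495 e1_c9 k (by omega) (by omega)
        · skip
          by_cases hh12 : k < 166022
          · skip
            exact edgeRange_sound data 1 14942 151080 e1_c10 k (by omega) (by omega)
          · skip
            exact edgeRange_sound data 1 14532 166022 e1_c11 k (by omega) (by omega)
  · skip
    by_cases hh13 : k < 264814
    · skip
      by_cases hh14 : k < 224181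
      · skip
        by_cases hh15 : k < 195255
        · skip
          exact edgeRange_sound data 1 14701 180554 e1_c12 k (by omega) (by omega)
        · skip
          by_cases hh16 : k < 209919
          · skip
            exact edgeRange_sound data 1 14664 195255 e1_c13 k (by omega) (by omega)
          · skip
            exact edgeRange_sound data 1 14262 209919 e1_c14 k (by omega) (by omega)
      · skip
        by_cases hh17 : k < 238286
        · skip
          exact edgeRange_sound data 1 14105 224181 e1_c15 k (by omega) (by omega)
        · skip
          by_cases hh18 : k < 251726
          · skip
            exact edgeRange_sound data 1 13440 238286 e1_c16 k (by omega) (by omega)
          · skip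
            exact edgeRange_sound data 1 13088 251726 e1_c17 k (by omega) (by omega)
    · skip
      by_cases hh19 : k < 401569
      · skip
        by_cases hh20 : k < 301569
        · skip
          exact edgeRange_sound data 1 36755 264814 e1_c18 k (by omega) (by omega)
        · skip
          by_cases hh21 : k < 351569
          · skip
            exact edgeRange_sound data 1 50000 301569 e1_c19 k (by omega) (by omega)
          · skip
            exact edgeRange_sound data 1 50000 351569 e1_c20 k (by omega) (by omega)
      · skip
        by_cases hh22 : k < 451569
        · skip
          exact edgeRange_sound data 1 50000 401569 e1_c21 k (by omega) (by omega)
        · skip
          by_cases hh23 : k < 501569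
          · skip
            exact edgeRange_sound data 1 50000 451569 e1_c22 k (by omega) (by omega)
          · skip
            exact edgeRange_sound data 1 22719 501569 e1_c23 k (by omega) (by omega)

theorem allE2 : ∀ k, k < 524288 → justE data 2 k = true := by
  intro k hk
  by_cases hh1 : k < 161906
  · skip
    by_cases hh2 : k < 76022
    · skip
      by_cases hh3 : k < 32717
      · skip
        by_cases hh4 : k < 10876
        · skip
          exact edgeRange_sound data 2 10876 0 e2_c0 k (by omega) (by omega)
        · skip
          by_cases hh5 : k < 21861
          · skip
            exact edgeRange_sound data 2 10985 10876 e2_c1 k (by omega) (by omega)
          · skip
            exact edgeRange_sound data 2 10856 21861 e2_c2 k (by omega) (by omega)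
      · skip
        by_cases hh6 : k < 54395
        · skip
          by_cases hh7 : k < 43557
          · skip
            exact edgeRange_sound data 2 10840 32717 e2_c3 k (by omega) (by omega)
          · skip
            exact edgeRange_sound data 2 10838 43557 e2_c4 k (by omega) (by omega)
        · skip
          by_cases hh8 : k < 65228
          · skip
            exact edgeRange_sound data 2 10833 54395 e2_c5 k (by omega) (by omega)
          · skip
            exact edgeRange_sound data 2 10794 65228 e2_c6 k (by omega) (by omega)
    · skip
      by_cases hh9 : k < 119121
      · skip
        by_cases hh10 : k < 97635
        · skip
          by_cases hh11 : k < 86835
          · skip
            exact edgeRange_sound data 2 10813 76022 e2_c7 k (by omega) (by omega)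
          · skip
            exact edgeRange_sound data 2 10800 86835 e2_c8 k (by omega) (by omega)
        · skip
          by_cases hh12 : k < 108367
          · skip
            exact edgeRange_sound data 2 10732 97635 e2_c9 k (by omega) (by omega)
          · skip
            exact edgeRange_sound data 2 10754 108367 e2_c10 k (by omega) (by omega)
      · skip
        by_cases hh13 : k < 140557
        · skip
          by_cases hh14 : k < 129880
          · skip
            exact edgeRange_sound data 2 10759 119121 e2_c11 k (by omega) (by omega)
          · skip
            exact edgeRange_sound data 2 10677 129880 e2_c12 k (by omega) (by omega)
        · skip
          by_cases hh15 : k < 151254
          · skip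
            exact edgeRange_sound data 2 10697 140557 e2_c13 k (by omega) (by omega)
          · skip
            exact edgeRange_sound data 2 10652 151254 e2_c14 k (by omega) (by omega)
  · skip
    by_cases hh16 : k < 245555
    · skip
      by_cases hh17 : k < 204102
      · skip
        by_cases hh18 : k < 183108
        · skip
          by_cases hh19 : k < 172565
          · skip
            exact edgeRange_sound data 2 10659 161906 e2_c15 k (by omega) (by omega)
          · skip
            exact edgeRange_sound data 2 10543 172565 e2_c16 k (by omega) (by omega)
        · skip
          by_cases hh20 : k < 193626
          · skip
            exact edgeRange_sound data 2 10518 183108 e2_c17 k (by omega) (by omega)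
          · skip
            exact edgeRange_sound data 2 10476 193626 e2_c18 k (by omega) (by omega)
      · skip
        by_cases hh21 : k < 224912
        · skip
          by_cases hh22 : k < 214502
          · skip
            exact edgeRange_sound data 2 10400 204102 e2_c19 k (by omega) (by omega)
          · skip
            exact edgeRange_sound data 2 10410 214502 e2_c20 k (by omega) (by omega)
        · skip
          by_cases hh23 : k < 235246
          · skip
            exact edgeRange_sound data 2 10334 224912 e2_c21 k (by omega) (by omega)
          · skip
            exact edgeRange_sound data 2 10309 235246 e2_c22 k (by omega) (by omega)
    · skip
      by_cases hh24 : k < 354673
      · skip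
        by_cases hh25 : k < 266087
        · skip
          by_cases hh26 : k < 255826
          · skip
            exact edgeRange_sound data 2 10271 245555 e2_c23 k (by omega) (by omega)
          · skip
            exact edgeRange_sound data 2 10261 255826 e2_c24 k (by omega) (by omega)
        · skip
          by_cases hh27 : k < 304673
          · skip
            exact edgeRange_sound data 2 38586 266087 e2_c25 k (by omega) (by omega)
          · skip
            exact edgeRange_sound data 2 50000 304673 e2_c26 k (by omega) (by omega)
      · skip
        by_cases hh28 : k < 454673
        · skip
          by_cases hh29 : k < 404673
          · skip
            exact edgeRange_sound data 2 50000 354673 e2_c27 k (by omega) (by omega)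
          · skip
            exact edgeRange_sound data 2 50000 404673 e2_c28 k (by omega) (by omega)
        · skip
          by_cases hh30 : k < 504673
          · skip
            exact edgeRange_sound data 2 50000 454673 e2_c29 k (by omega) (by omega)
          · skip
            exact edgeRange_sound data 2 19615 504673 e2_c30 k (by omega) (by omega)

theorem allE3 : ∀ k, k < 524288 → justE data 3 k = true := by
  intro k hk
  by_cases hh1 : k < 176751
  · skip
    by_cases hh2 : k < 81587
    · skip
      by_cases hh3 : k < 32870
      · skip
        by_cases hh4 : k < 16423
        · skip
          exact edgeRange_sound data 3 16423 0 e3_c0 k (by omega) (by omega)
        · skip
          exact edgeRange_sound data 3 16447 16423 e3_c1 k (by omega) (by omega)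
      · skip
        by_cases hh5 : k < 49269
        · skip
          exact edgeRange_sound data 3 16399 32870 e3_c2 k (by omega) (by omega)
        · skip
          by_cases hh6 : k < 65475
          · skip
            exact edgeRange_sound data 3 16206 49269 e3_c3 k (by omega) (by omega)
          · skip
            exact edgeRange_sound data 3 16112 65475 e3_c4 k (by omega) (by omega)
    · skip
      by_cases hh7 : k < 129546
      · skip
        by_cases hh8 : k < 97689
        · skip
          exact edgeRange_sound data 3 16102 81587 e3_c5 k (by omega) (by omega)
        · skip
          by_cases hh9 : k < 113637
          · skip
            exact edgeRange_sound data 3 15948 97689 e3_c6 k (by omega) (by omega)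
          · skip
            exact edgeRange_sound data 3 15909 113637 e3_c7 k (by omega) (by omega)
      · skip
        by_cases hh10 : k < 145328
        · skip
          exact edgeRange_sound data 3 15782 129546 e3_c8 k (by omega) (by omega)
        · skip
          by_cases hh11 : k < 161088
          · skip
            exact edgeRange_sound data 3 15760 145328 e3_c9 k (by omega) (by omega)
          · skip
            exact edgeRange_sound data 3 15663 161088 e3_c10 k (by omega) (by omega)
  · skip
    by_cases hh12 : k < 272414
    · skip
      by_cases hh13 : k < 223236
      · skip
        by_cases hh14 : k < 192307
        · skip
          exact edgeRange_sound data 3 15556 176751 e3_c11 k (by omega) (by omega)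
        · skip
          by_cases hh15 : k < 207838
          · skip
            exact edgeRange_sound data 3 15531 192307 e3_c12 k (by omega) (by omega)
          · skip
            exact edgeRange_sound data 3 15398 207838 e3_c13 k (by omega) (by omega)
      · skip
        by_cases hh16 : k < 238759
        · skip
          exact edgeRange_sound data 3 15523 223236 e3_c14 k (by omega) (by omega)
        · skip
          by_cases hh17 : k < 254464
          · skip
            exact edgeRange_sound data 3 15705 238759 e3_c15 k (by omega) (by omega)
          · skip
            exact edgeRange_sound data 3 17950 254464 e3_c16 k (by omega) (by omega)
    · skip
      by_cases hh18 : k < 422414
      · skip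
        by_cases hh19 : k < 322414
        · skip
          exact edgeRange_sound data 3 50000 272414 e3_c17 k (by omega) (by omega)
        · skip
          by_cases hh20 : k < 372414
          · skip
            exact edgeRange_sound data 3 50000 322414 e3_c18 k (by omega) (by omega)
          · skip
            exact edgeRange_sound data 3 50000 372414 e3_c19 k (by omega) (by omega)
      · skip
        by_cases hh21 : k < 472414
        · skip
          exact edgeRange_sound data 3 50000 422414 e3_c20 k (by omega) (by omega)
        · skip
          by_cases hh22 : k < 522414
          · skip
            exact edgeRange_sound data 3 50000 472414 e3_c21 k (by omega) (by omega)
          · skip
            exact edgeRange_sound data 3 1874 522414 e3_c22 k (by omega) (by omega)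

theorem allE4 : ∀ k, k < 524288 → justE data 4 k = true := by
  intro k hk
  by_cases hh1 : k < 165563
  · skip
    by_cases hh2 : k < 83719
    · skip
      by_cases hh3 : k < 36502
      · skip
        by_cases hh4 : k < 12323
        · skip
          exact edgeRange_sound data 4 12323 0 e4_c0 k (by omega) (by omega)
        · skip
          by_cases hh5 : k < 24472
          · skip
            exact edgeRange_sound data 4 12149 12323 e4_c1 k (by omega) (by omega)
          · skip
            exact edgeRange_sound data 4 12030 24472 e4_c2 k (by omega) (by omega)
      · skip
        by_cases hh6 : k < 60241
        · skip
          by_cases hh7 : k < 48401
          · skip
            exact edgeRange_sound data 4 11899 36502 e4_c3 k (by omega) (by omega)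
          · skip
            exact edgeRange_sound data 4 11840 48401 e4_c4 k (by omega) (by omega)
        · skip
          by_cases hh8 : k < 71952
          · skip
            exact edgeRange_sound data 4 11711 60241 e4_c5 k (by omega) (by omega)
          · skip
            exact edgeRange_sound data 4 11767 71952 e4_c6 k (by omega) (by omega)
    · skip
      by_cases hh9 : k < 118878
      · skip
        by_cases hh10 : k < 95369
        · skip
          exact edgeRange_sound data 4 11650 83719 e4_c7 k (by omega) (by omega)
        · skip
          by_cases hh11 : k < 107027
          · skip
            exact edgeRange_sound data 4 11658 95369 e4_c8 k (by omega) (by omega)
          · skip
            exact edgeRange_sound data 4 11851 107027 e4_c9 k (by omega) (by omega)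
      · skip
        by_cases hh12 : k < 142325
        · skip
          by_cases hh13 : k < 130588
          · skip
            exact edgeRange_sound data 4 11710 118878 e4_c10 k (by omega) (by omega)
          · skip
            exact edgeRange_sound data 4 11737 130588 e4_c11 k (by omega) (by omega)
        · skip
          by_cases hh14 : k < 153953
          · skip
            exact edgeRange_sound data 4 11628 142325 e4_c12 k (by omega) (by omega)
          · skip
            exact edgeRange_sound data 4 11610 153953 e4_c13 k (by omega) (by omega)
  · skip
    by_cases hh15 : k < 243159
    · skip
      by_cases hh16 : k < 199622
      · skip
        by_cases hh17 : k < 177079
        · skip
          exact edgeRange_sound data 4 11516 165563 e4_c14 k (by omega) (by omega)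
        · skip
          by_cases hh18 : k < 188441
          · skip
            exact edgeRange_sound data 4 11362 177079 e4_c15 k (by omega) (by omega)
          · skip
            exact edgeRange_sound data 4 11181 188441 e4_c16 k (by omega) (by omega)
      · skip
        by_cases hh19 : k < 221570
        · skip
          by_cases hh20 : k < 210624
          · skip
            exact edgeRange_sound data 4 11002 199622 e4_c17 k (by omega) (by omega)
          · skip
            exact edgeRange_sound data 4 10946 210624 e4_c18 k (by omega) (by omega)
        · skip
          by_cases hh21 : k < 232412
          · skip
            exact edgeRange_sound data 4 10842 221570 e4_c19 k (by omega) (by omega)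
          · skip
            exact edgeRange_sound data 4 10747 232412 e4_c20 k (by omega) (by omega)
    · skip
      by_cases hh22 : k < 348555
      · skip
        by_cases hh23 : k < 264639
        · skip
          by_cases hh24 : k < 253837
          · skip
            exact edgeRange_sound data 4 10678 243159 e4_c21 k (by omega) (by omega)
          · skip
            exact edgeRange_sound data 4 10802 253837 e4_c22 k (by omega) (by omega)
        · skip
          by_cases hh25 : k < 298555
          · skip
            exact edgeRange_sound data 4 33916 264639 e4_c23 k (by omega) (by omega)
          · skip
            exact edgeRange_sound data 4 50000 298555 e4_c24 k (by omega) (by omega)
      · skip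
        by_cases hh26 : k < 448555
        · skip
          by_cases hh27 : k < 398555
          · skip
            exact edgeRange_sound data 4 50000 348555 e4_c25 k (by omega) (by omega)
          · skip
            exact edgeRange_sound data 4 50000 398555 e4_c26 k (by omega) (by omega)
        · skip
          by_cases hh28 : k < 498555
          · skip
            exact edgeRange_sound data 4 50000 448555 e4_c27 k (by omega) (by omega)
          · skip
            exact edgeRange_sound data 4 25733 498555 e4_c28 k (by omega) (by omega)

theorem allE5 : ∀ k, k < 524288 → justE data 5 k = true := by
  intro k hk
  by_cases hh1 : k < 173634
  · skip
    by_cases hh2 : k < 88833
    · skip
      by_cases hh3 : k < 45432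
      · skip
        by_cases hh4 : k < 15638
        · skip
          exact edgeRange_sound data 5 15638 0 e5_c0 k (by omega) (by omega)
        · skip
          by_cases hh5 : k < 30706
          · skip
            exact edgeRange_sound data 5 15068 15638 e5_c1 k (by omega) (by omega)
          · skip
            exact edgeRange_sound data 5 14726 30706 e5_c2 k (by omega) (by omega)
      · skip
        by_cases hh6 : k < 60069
        · skip
          exact edgeRange_sound data 5 14637 45432 e5_c3 k (by omega) (by omega)
        · skip
          by_cases hh7 : k < 74438
          · skip
            exact edgeRange_sound data 5 14369 60069 e5_c4 k (by omega) (by omega)
          · skip
            exact edgeRange_sound data 5 14395 74438 e5_c5 k (by omega) (by omega)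
    · skip
      by_cases hh8 : k < 131750
      · skip
        by_cases hh9 : k < 103265
        · skip
          exact edgeRange_sound data 5 14432 88833 e5_c6 k (by omega) (by omega)
        · skip
          by_cases hh10 : k < 117664
          · skip
            exact edgeRange_sound data 5 14399 103265 e5_c7 k (by omega) (by omega)
          · skip
            exact edgeRange_sound data 5 14086 117664 e5_c8 k (by omega) (by omega)
      · skip
        by_cases hh11 : k < 145784
        · skip
          exact edgeRange_sound data 5 14034 131750 e5_c9 k (by omega) (by omega)
        · skip
          by_cases hh12 : k < 159772
          · skip
            exact edgeRange_sound data 5 13988 145784 e5_c10 k (by omega) (by omega)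
          · skip
            exact edgeRange_sound data 5 13862 159772 e5_c11 k (by omega) (by omega)
  · skip
    by_cases hh13 : k < 252621
    · skip
      by_cases hh14 : k < 213695
      · skip
        by_cases hh15 : k < 187087
        · skip
          exact edgeRange_sound data 5 13453 173634 e5_c12 k (by omega) (by omega)
        · skip
          by_cases hh16 : k < 200457
          · skip
            exact edgeRange_sound data 5 13370 187087 e5_c13 k (by omega) (by omega)
          · skip
            exact edgeRange_sound data 5 13238 200457 e5_c14 k (by omega) (by omega)
      · skip
        by_cases hh17 : k < 226721
        · skip
          exact edgeRange_sound data 5 13026 213695 e5_c15 k (by omega) (by omega)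
        · skip
          by_cases hh18 : k < 239747
          · skip
            exact edgeRange_sound data 5 13026 226721 e5_c16 k (by omega) (by omega)
          · skip
            exact edgeRange_sound data 5 12874 239747 e5_c17 k (by omega) (by omega)
    · skip
      by_cases hh19 : k < 354035
      · skip
        by_cases hh20 : k < 265295
        · skip
          exact edgeRange_sound data 5 12674 252621 e5_c18 k (by omega) (by omega)
        · skip
          by_cases hh21 : k < 304035
          · skip
            exact edgeRange_sound data 5 38740 265295 e5_c19 k (by omega) (by omega)
          · skip
            exact edgeRange_sound data 5 50000 304035 e5_c20 k (by omega) (by omega)
      · skip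
        by_cases hh22 : k < 454035
        · skip
          by_cases hh23 : k < 404035
          · skip
            exact edgeRange_sound data 5 50000 354035 e5_c21 k (by omega) (by omega)
          · skip
            exact edgeRange_sound data 5 50000 404035 e5_c22 k (by omega) (by omega)
        · skip
          by_cases hh24 : k < 504035
          · skip
            exact edgeRange_sound data 5 50000 454035 e5_c23 k (by omega) (by omega)
          · skip
            exact edgeRange_sound data 5 20253 504035 e5_c24 k (by omega) (by omega)

theorem allE6 : ∀ k, k < 524288 → justE data 6 k = true := by
  intro k hk
  by_cases hh1 : k < 176819
  · skip
    by_cases hh2 : k < 91193
    · skip
      by_cases hh3 : k < 42181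
      · skip
        by_cases hh4 : k < 14807
        · skip
          exact edgeRange_sound data 6 14807 0 e6_c0 k (by omega) (by omega)
        · skip
          by_cases hh5 : k < 28924
          · skip
            exact edgeRange_sound data 6 14117 14807 e6_c1 k (by omega) (by omega)
          · skip
            exact edgeRange_sound data 6 13257 28924 e6_c2 k (by omega) (by omega)
      · skip
        by_cases hh6 : k < 66985
        · skip
          by_cases hh7 : k < 54592
          · skip
            exact edgeRange_sound data 6 12411 42181 e6_c3 k (by omega) (by omega)
          · skip
            exact edgeRange_sound data 6 12393 54592 e6_c4 k (by omega) (by omega)
        · skip
          by_cases hh8 : k < 79219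
          · skip
            exact edgeRange_sound data 6 12234 66985 e6_c5 k (by omega) (by omega)
          · skip
            exact edgeRange_sound data 6 11974 79219 e6_c6 k (by omega) (by omega)
    · skip
      by_cases hh9 : k < 128126
      · skip
        by_cases hh10 : k < 103153
        · skip
          exact edgeRange_sound data 6 11960 91193 e6_c7 k (by omega) (by omega)
        · skip
          by_cases hh11 : k < 115659
          · skip
            exact edgeRange_sound data 6 12506 103153 e6_c8 k (by omega) (by omega)
          · skip
            exact edgeRange_sound data 6 12467 115659 e6_c9 k (by omega) (by omega)
      · skip
        by_cases hh12 : k < 153141
        · skip
          by_cases hh13 : k < 140517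
          · skip
            exact edgeRange_sound data 6 12391 128126 e6_c10 k (by omega) (by omega)
          · skip
            exact edgeRange_sound data 6 12624 140517 e6_c11 k (by omega) (by omega)
        · skip
          by_cases hh14 : k < 165280
          · skip
            exact edgeRange_sound data 6 12139 153141 e6_c12 k (by omega) (by omega)
          · skip
            exact edgeRange_sound data 6 11539 165280 e6_c13 k (by omega) (by omega)
  · skip
    by_cases hh15 : k < 249647
    · skip
      by_cases hh16 : k < 209880
      · skip
        by_cases hh17 : k < 188288
        · skip
          exact edgeRange_sound data 6 11469 176819 e6_c14 k (by omega) (by omega)
        · skip
          by_cases hh18 : k < 199223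
          · skip
            exact edgeRange_sound data 6 10935 188288 e6_c15 k (by omega) (by omega)
          · skip
            exact edgeRange_sound data 6 10657 199223 e6_c16 k (by omega) (by omega)
      · skip
        by_cases hh19 : k < 230262
        · skip
          by_cases hh20 : k < 220185
          · skip
            exact edgeRange_sound data 6 10305 209880 e6_c17 k (by omega) (by omega)
          · skip
            exact edgeRange_sound data 6 10077 220185 e6_c18 k (by omega) (by omega)
        · skip
          by_cases hh21 : k < 240064
          · skip
            exact edgeRange_sound data 6 9802 230262 e6_c19 k (by omega) (by omega)
          · skip
            exact edgeRange_sound data 6 9583 240064 e6_c20 k (by omega) (by omega)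
    · skip
      by_cases hh22 : k < 361312
      · skip
        by_cases hh23 : k < 267712
        · skip
          by_cases hh24 : k < 258842
          · skip
            exact edgeRange_sound data 6 9195 249647 e6_c21 k (by omega) (by omega)
          · skip
            exact edgeRange_sound data 6 8870 258842 e6_c22 k (by omega) (by omega)
        · skip
          by_cases hh25 : k < 311312
          · skip
            exact edgeRange_sound data 6 43600 267712 e6_c23 k (by omega) (by omega)
          · skip
            exact edgeRange_sound data 6 50000 311312 e6_c24 k (by omega) (by omega)
      · skip
        by_cases hh26 : k < 461312
        · skip
          by_cases hh27 : k < 411312
          · skip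
            exact edgeRange_sound data 6 50000 361312 e6_c25 k (by omega) (by omega)
          · skip
            exact edgeRange_sound data 6 50000 411312 e6_c26 k (by omega) (by omega)
        · skip
          by_cases hh28 : k < 511312
          · skip
            exact edgeRange_sound data 6 50000 461312 e6_c27 k (by omega) (by omega)
          · skip
            exact edgeRange_sound data 6 12976 511312 e6_c28 k (by omega) (by omega)

theorem allE7 : ∀ k, k < 524288 → justE data 7 k = true := by
  intro k hk
  by_cases hh1 : k < 173719
  · skip
    by_cases hh2 : k < 81387
    · skip
      by_cases hh3 : k < 33325
      · skip
        by_cases hh4 : k < 16865
        · skip
          exact edgeRange_sound data 7 16865 0 e7_c0 k (by omega) (by omega)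
        · skip
          exact edgeRange_sound data 7 16460 16865 e7_c1 k (by omega) (by omega)
      · skip
        by_cases hh5 : k < 49552
        · skip
          exact edgeRange_sound data 7 16227 33325 e7_c2 k (by omega) (by omega)
        · skip
          by_cases hh6 : k < 65450
          · skip
            exact edgeRange_sound data 7 15898 49552 e7_c3 k (by omega) (by omega)
          · skip
            exact edgeRange_sound data 7 15937 65450 e7_c4 k (by omega) (by omega)
    · skip
      by_cases hh7 : k < 128394
      · skip
        by_cases hh8 : k < 97074
        · skip
          exact edgeRange_sound data 7 15687 81387 e7_c5 k (by omega) (by omega)
        · skip
          by_cases hh9 : k < 112984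
          · skip
            exact edgeRange_sound data 7 15910 97074 e7_c6 k (by omega) (by omega)
          · skip
            exact edgeRange_sound data 7 15410 112984 e7_c7 k (by omega) (by omega)
      · skip
        by_cases hh10 : k < 143631
        · skip
          exact edgeRange_sound data 7 15237 128394 e7_c8 k (by omega) (by omega)
        · skip
          by_cases hh11 : k < 158636
          · skip
            exact edgeRange_sound data 7 15005 143631 e7_c9 k (by omega) (by omega)
          · skip
            exact edgeRange_sound data 7 15083 158636 e7_c10 k (by omega) (by omega)
  · skip
    by_cases hh12 : k < 264546
    · skip
      by_cases hh13 : k < 218473
      · skip
        by_cases hh14 : k < 188710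
        · skip
          exact edgeRange_sound data 7 14991 173719 e7_c11 k (by omega) (by omega)
        · skip
          by_cases hh15 : k < 203605
          · skip
            exact edgeRange_sound data 7 14895 188710 e7_c12 k (by omega) (by omega)
          · skip
            exact edgeRange_sound data 7 14868 203605 e7_c13 k (by omega) (by omega)
      · skip
        by_cases hh16 : k < 233555
        · skip
          exact edgeRange_sound data 7 15082 218473 e7_c14 k (by omega) (by omega)
        · skip
          by_cases hh17 : k < 248822
          · skip
            exact edgeRange_sound data 7 15267 233555 e7_c15 k (by omega) (by omega)
          · skip
            exact edgeRange_sound data 7 15724 248822 e7_c16 k (by omega) (by omega)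
    · skip
      by_cases hh18 : k < 404520
      · skip
        by_cases hh19 : k < 304520
        · skip
          exact edgeRange_sound data 7 39974 264546 e7_c17 k (by omega) (by omega)
        · skip
          by_cases hh20 : k < 354520
          · skip
            exact edgeRange_sound data 7 50000 304520 e7_c18 k (by omega) (by omega)
          · skip
            exact edgeRange_sound data 7 50000 354520 e7_c19 k (by omega) (by omega)
      · skip
        by_cases hh21 : k < 454520
        · skip
          exact edgeRange_sound data 7 50000 404520 e7_c20 k (by omega) (by omega)
        · skip
          by_cases hh22 : k < 504520
          · skip
            exact edgeRange_sound data 7 50000 454520 e7_c21 k (by omega) (by omega)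
          · skip
            exact edgeRange_sound data 7 19768 504520 e7_c22 k (by omega) (by omega)

theorem allE8 : ∀ k, k < 524288 → justE data 8 k = true := by
  intro k hk
  by_cases hh1 : k < 170036
  · skip
    by_cases hh2 : k < 80372
    · skip
      by_cases hh3 : k < 41462
      · skip
        by_cases hh4 : k < 14195
        · skip
          exact edgeRange_sound data 8 14195 0 e8_c0 k (by omega) (by omega)
        · skip
          by_cases hh5 : k < 28025
          · skip
            exact edgeRange_sound data 8 13830 14195 e8_c1 k (by omega) (by omega)
          · skip
            exact edgeRange_sound data 8 13437 28025 e8_c2 k (by omega) (by omega)
      · skip
        by_cases hh6 : k < 54517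
        · skip
          exact edgeRange_sound data 8 13055 41462 e8_c3 k (by omega) (by omega)
        · skip
          by_cases hh7 : k < 67580
          · skip
            exact edgeRange_sound data 8 13063 54517 e8_c4 k (by omega) (by omega)
          · skip
            exact edgeRange_sound data 8 12792 67580 e8_c5 k (by omega) (by omega)
    · skip
      by_cases hh8 : k < 118992
      · skip
        by_cases hh9 : k < 93303
        · skip
          exact edgeRange_sound data 8 12931 80372 e8_c6 k (by omega) (by omega)
        · skip
          by_cases hh10 : k < 105940
          · skip
            exact edgeRange_sound data 8 12637 93303 e8_c7 k (by omega) (by omega)
          · skip
            exact edgeRange_sound data 8 13052 105940 e8_c8 k (by omega) (by omega)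
      · skip
        by_cases hh11 : k < 144440
        · skip
          by_cases hh12 : k < 131651
          · skip
            exact edgeRange_sound data 8 12659 118992 e8_c9 k (by omega) (by omega)
          · skip
            exact edgeRange_sound data 8 12789 131651 e8_c10 k (by omega) (by omega)
        · skip
          by_cases hh13 : k < 157340
          · skip
            exact edgeRange_sound data 8 12900 144440 e8_c11 k (by omega) (by omega)
          · skip
            exact edgeRange_sound data 8 12696 157340 e8_c12 k (by omega) (by omega)
  · skip
    by_cases hh14 : k < 253544
    · skip
      by_cases hh15 : k < 206822
      · skip
        by_cases hh16 : k < 182362
        · skip
          exact edgeRange_sound data 8 12326 170036 e8_c13 k (by omega) (by omega)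
        · skip
          by_cases hh17 : k < 194707
          · skip
            exact edgeRange_sound data 8 12345 182362 e8_c14 k (by omega) (by omega)
          · skip
            exact edgeRange_sound data 8 12115 194707 e8_c15 k (by omega) (by omega)
      · skip
        by_cases hh18 : k < 230328
        · skip
          by_cases hh19 : k < 218638
          · skip
            exact edgeRange_sound data 8 11816 206822 e8_c16 k (by omega) (by omega)
          · skip
            exact edgeRange_sound data 8 11690 218638 e8_c17 k (by omega) (by omega)
        · skip
          by_cases hh20 : k < 241928
          · skip
            exact edgeRange_sound data 8 11600 230328 e8_c18 k (by omega) (by omega)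
          · skip
            exact edgeRange_sound data 8 11616 241928 e8_c19 k (by omega) (by omega)
    · skip
      by_cases hh21 : k < 352561
      · skip
        by_cases hh22 : k < 265144
        · skip
          exact edgeRange_sound data 8 11600 253544 e8_c20 k (by omega) (by omega)
        · skip
          by_cases hh23 : k < 302561
          · skip
            exact edgeRange_sound data 8 37417 265144 e8_c21 k (by omega) (by omega)
          · skip
            exact edgeRange_sound data 8 50000 302561 e8_c22 k (by omega) (by omega)
      · skip
        by_cases hh24 : k < 452561
        · skip
          by_cases hh25 : k < 402561
          · skip
            exact edgeRange_sound data 8 50000 352561 e8_c23 k (by omega) (by omega)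
          · skip
            exact edgeRange_sound data 8 50000 402561 e8_c24 k (by omega) (by omega)
        · skip
          by_cases hh26 : k < 502561
          · skip
            exact edgeRange_sound data 8 50000 452561 e8_c25 k (by omega) (by omega)
          · skip
            exact edgeRange_sound data 8 21727 502561 e8_c26 k (by omega) (by omega)

theorem allE9 : ∀ k, k < 524288 → justE data 9 k = true := by
  intro k hk
  by_cases hh1 : k < 175572
  · skip
    by_cases hh2 : k < 87897
    · skip
      by_cases hh3 : k < 35195
      · skip
        by_cases hh4 : k < 17587
        · skip
          exact edgeRange_sound data 9 17587 0 e9_c0 k (by omega) (by omega)
        · skip
          exact edgeRange_sound data 9 17608 17587 e9_c1 k (by omega) (by omega)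
      · skip
        by_cases hh5 : k < 52777
        · skip
          exact edgeRange_sound data 9 17582 35195 e9_c2 k (by omega) (by omega)
        · skip
          by_cases hh6 : k < 70349
          · skip
            exact edgeRange_sound data 9 17572 52777 e9_c3 k (by omega) (by omega)
          · skip
            exact edgeRange_sound data 9 17548 70349 e9_c4 k (by omega) (by omega)
    · skip
      by_cases hh7 : k < 122971
      · skip
        by_cases hh8 : k < 105444
        · skip
          exact edgeRange_sound data 9 17547 87897 e9_c5 k (by omega) (by omega)
        · skip
          exact edgeRange_sound data 9 17527 105444 e9_c6 k (by omega) (by omega)
      · skip
        by_cases hh9 : k < 140511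
        · skip
          exact edgeRange_sound data 9 17540 122971 e9_c7 k (by omega) (by omega)
        · skip
          by_cases hh10 : k < 158034
          · skip
            exact edgeRange_sound data 9 17523 140511 e9_c8 k (by omega) (by omega)
          · skip
            exact edgeRange_sound data 9 17538 158034 e9_c9 k (by omega) (by omega)
  · skip
    by_cases hh11 : k < 263246
    · skip
      by_cases hh12 : k < 210650
      · skip
        by_cases hh13 : k < 193084
        · skip
          exact edgeRange_sound data 9 17512 175572 e9_c10 k (by omega) (by omega)
        · skip
          exact edgeRange_sound data 9 17566 193084 e9_c11 k (by omega) (by omega)
      · skip
        by_cases hh14 : k < 228157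
        · skip
          exact edgeRange_sound data 9 17507 210650 e9_c12 k (by omega) (by omega)
        · skip
          by_cases hh15 : k < 245701
          · skip
            exact edgeRange_sound data 9 17544 228157 e9_c13 k (by omega) (by omega)
          · skip
            exact edgeRange_sound data 9 17545 245701 e9_c14 k (by omega) (by omega)
    · skip
      by_cases hh16 : k < 402429
      · skip
        by_cases hh17 : k < 302429
        · skip
          exact edgeRange_sound data 9 39183 263246 e9_c15 k (by omega) (by omega)
        · skip
          by_cases hh18 : k < 352429
          · skip
            exact edgeRange_sound data 9 50000 302429 e9_c16 k (by omega) (by omega)
          · skip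
            exact edgeRange_sound data 9 50000 352429 e9_c17 k (by omega) (by omega)
      · skip
        by_cases hh19 : k < 452429
        · skip
          exact edgeRange_sound data 9 50000 402429 e9_c18 k (by omega) (by omega)
        · skip
          by_cases hh20 : k < 502429
          · skip
            exact edgeRange_sound data 9 50000 452429 e9_c19 k (by omega) (by omega)
          · skip
            exact edgeRange_sound data 9 21859 502429 e9_c20 k (by omega) (by omega)

theorem allE10 : ∀ k, k < 524288 → justE data 10 k = true := by
  intro k hk
  by_cases hh1 : k < 177812
  · skip
    by_cases hh2 : k < 91792
    · skip
      by_cases hh3 : k < 48109
      · skip
        by_cases hh4 : k < 16787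
        · skip
          exact edgeRange_sound data 10 16787 0 e10_c0 k (by omega) (by omega)
        · skip
          by_cases hh5 : k < 32738
          · skip
            exact edgeRange_sound data 10 15951 16787 e10_c1 k (by omega) (by omega)
          · skip
            exact edgeRange_sound data 10 15371 32738 e10_c2 k (by omega) (by omega)
      · skip
        by_cases hh6 : k < 63003
        · skip
          exact edgeRange_sound data 10 14894 48109 e10_c3 k (by omega) (by omega)
        · skip
          by_cases hh7 : k < 77520
          · skip
            exact edgeRange_sound data 10 14517 63003 e10_c4 k (by omega) (by omega)
          · skip
            exact edgeRange_sound data 10 14272 77520 e10_c5 k (by omega) (by omega)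
    · skip
      by_cases hh8 : k < 134962
      · skip
        by_cases hh9 : k < 106143
        · skip
          exact edgeRange_sound data 10 14351 91792 e10_c6 k (by omega) (by omega)
        · skip
          by_cases hh10 : k < 120860
          · skip
            exact edgeRange_sound data 10 14717 106143 e10_c7 k (by omega) (by omega)
          · skip
            exact edgeRange_sound data 10 14102 120860 e10_c8 k (by omega) (by omega)
      · skip
        by_cases hh11 : k < 149418
        · skip
          exact edgeRange_sound data 10 14456 134962 e10_c9 k (by omega) (by omega)
        · skip
          by_cases hh12 : k < 163988
          · skip
            exact edgeRange_sound data 10 14570 149418 e10_c10 k (by omega) (by omega)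
          · skip
            exact edgeRange_sound data 10 13824 163988 e10_c11 k (by omega) (by omega)
  · skip
    by_cases hh13 : k < 256272
    · skip
      by_cases hh14 : k < 218445
      · skip
        by_cases hh15 : k < 191568
        · skip
          exact edgeRange_sound data 10 13756 177812 e10_c12 k (by omega) (by omega)
        · skip
          by_cases hh16 : k < 205140
          · skip
            exact edgeRange_sound data 10 13572 191568 e10_c13 k (by omega) (by omega)
          · skip
            exact edgeRange_sound data 10 13305 205140 e10_c14 k (by omega) (by omega)
      · skip
        by_cases hh17 : k < 231252
        · skip
          exact edgeRange_sound data 10 12807 218445 e10_c15 k (by omega) (by omega)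
        · skip
          by_cases hh18 : k < 243987
          · skip
            exact edgeRange_sound data 10 12735 231252 e10_c16 k (by omega) (by omega)
          · skip
            exact edgeRange_sound data 10 12285 243987 e10_c17 k (by omega) (by omega)
    · skip
      by_cases hh19 : k < 365466
      · skip
        by_cases hh20 : k < 268260
        · skip
          exact edgeRange_sound data 10 11988 256272 e10_c18 k (by omega) (by omega)
        · skip
          by_cases hh21 : k < 315466
          · skip
            exact edgeRange_sound data 10 47206 268260 e10_c19 k (by omega) (by omega)
          · skip
            exact edgeRange_sound data 10 50000 315466 e10_c20 k (by omega) (by omega)
      · skip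
        by_cases hh22 : k < 465466
        · skip
          by_cases hh23 : k < 415466
          · skip
            exact edgeRange_sound data 10 50000 365466 e10_c21 k (by omega) (by omega)
          · skip
            exact edgeRange_sound data 10 50000 415466 e10_c22 k (by omega) (by omega)
        · skip
          by_cases hh24 : k < 515466
          · skip
            exact edgeRange_sound data 10 50000 465466 e10_c23 k (by omega) (by omega)
          · skip
            exact edgeRange_sound data 10 8822 515466 e10_c24 k (by omega) (by omega)

theorem allE11 : ∀ k, k < 524288 → justE data 11 k = true := by
  intro k hk
  by_cases hh1 : k < 175342
  · skip
    by_cases hh2 : k < 87937
    · skip
      by_cases hh3 : k < 44186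
      · skip
        by_cases hh4 : k < 14772
        · skip
          exact edgeRange_sound data 11 14772 0 e11_c0 k (by omega) (by omega)
        · skip
          by_cases hh5 : k < 29543
          · skip
            exact edgeRange_sound data 11 14771 14772 e11_c1 k (by omega) (by omega)
          · skip
            exact edgeRange_sound data 11 14643 29543 e11_c2 k (by omega) (by omega)
      · skip
        by_cases hh6 : k < 58777
        · skip
          exact edgeRange_sound data 11 14591 44186 e11_c3 k (by omega) (by omega)
        · skip
          by_cases hh7 : k < 73358
          · skip
            exact edgeRange_sound data 11 14581 58777 e11_c4 k (by omega) (by omega)
          · skip
            exact edgeRange_sound data 11 14579 73358 e11_c5 k (by omega) (by omega)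
    · skip
      by_cases hh8 : k < 131662
      · skip
        by_cases hh9 : k < 102524
        · skip
          exact edgeRange_sound data 11 14587 87937 e11_c6 k (by omega) (by omega)
        · skip
          by_cases hh10 : k < 117154
          · skip
            exact edgeRange_sound data 11 14630 102524 e11_c7 k (by omega) (by omega)
          · skip
            exact edgeRange_sound data 11 14508 117154 e11_c8 k (by omega) (by omega)
      · skip
        by_cases hh11 : k < 146292
        · skip
          exact edgeRange_sound data 11 14630 131662 e11_c9 k (by omega) (by omega)
        · skip
          by_cases hh12 : k < 160887
          · skip
            exact edgeRange_sound data 11 14595 146292 e11_c10 k (by omega) (by omega)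
          · skip
            exact edgeRange_sound data 11 14455 160887 e11_c11 k (by omega) (by omega)
  · skip
    by_cases hh13 : k < 262126
    · skip
      by_cases hh14 : k < 218683
      · skip
        by_cases hh15 : k < 189827
        · skip
          exact edgeRange_sound data 11 14485 175342 e11_c12 k (by omega) (by omega)
        · skip
          by_cases hh16 : k < 204223
          · skip
            exact edgeRange_sound data 11 14396 189827 e11_c13 k (by omega) (by omega)
          · skip
            exact edgeRange_sound data 11 14460 204223 e11_c14 k (by omega) (by omega)
      · skip
        by_cases hh17 : k < 233045
        · skip
          exact edgeRange_sound data 11 14362 218683 e11_c15 k (by omega) (by omega)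
        · skip
          by_cases hh18 : k < 247530
          · skip
            exact edgeRange_sound data 11 14485 233045 e11_c16 k (by omega) (by omega)
          · skip
            exact edgeRange_sound data 11 14596 247530 e11_c17 k (by omega) (by omega)
    · skip
      by_cases hh19 : k < 395100
      · skip
        by_cases hh20 : k < 295100
        · skip
          exact edgeRange_sound data 11 32974 262126 e11_c18 k (by omega) (by omega)
        · skip
          by_cases hh21 : k < 345100
          · skip
            exact edgeRange_sound data 11 50000 295100 e11_c19 k (by omega) (by omega)
          · skip
            exact edgeRange_sound data 11 50000 345100 e11_c20 k (by omega) (by omega)
      · skip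
        by_cases hh22 : k < 445100
        · skip
          exact edgeRange_sound data 11 50000 395100 e11_c21 k (by omega) (by omega)
        · skip
          by_cases hh23 : k < 495100
          · skip
            exact edgeRange_sound data 11 50000 445100 e11_c22 k (by omega) (by omega)
          · skip
            exact edgeRange_sound data 11 29188 495100 e11_c23 k (by omega) (by omega)

theorem allE12 : ∀ k, k < 524288 → justE data 12 k = true := by
  intro k hk
  by_cases hh1 : k < 173764
  · skip
    by_cases hh2 : k < 89818
    · skip
      by_cases hh3 : k < 47131
      · skip
        by_cases hh4 : k < 16448
        · skip
          exact edgeRange_sound data 12 16448 0 e12_c0 k (by omega) (by omega)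
        · skip
          by_cases hh5 : k < 32120
          · skip
            exact edgeRange_sound data 12 15672 16448 e12_c1 k (by omega) (by omega)
          · skip
            exact edgeRange_sound data 12 15011 32120 e12_c2 k (by omega) (by omega)
      · skip
        by_cases hh6 : k < 61623
        · skip
          exact edgeRange_sound data 12 14492 47131 e12_c3 k (by omega) (by omega)
        · skip
          by_cases hh7 : k < 75898
          · skip
            exact edgeRange_sound data 12 14275 61623 e12_c4 k (by omega) (by omega)
          · skip
            exact edgeRange_sound data 12 13920 75898 e12_c5 k (by omega) (by omega)
    · skip
      by_cases hh8 : k < 131915
      · skip
        by_cases hh9 : k < 103808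
        · skip
          exact edgeRange_sound data 12 13990 89818 e12_c6 k (by omega) (by omega)
        · skip
          by_cases hh10 : k < 118192
          · skip
            exact edgeRange_sound data 12 14384 103808 e12_c7 k (by omega) (by omega)
          · skip
            exact edgeRange_sound data 12 13723 118192 e12_c8 k (by omega) (by omega)
      · skip
        by_cases hh11 : k < 145922
        · skip
          exact edgeRange_sound data 12 14007 131915 e12_c9 k (by omega) (by omega)
        · skip
          by_cases hh12 : k < 160065
          · skip
            exact edgeRange_sound data 12 14143 145922 e12_c10 k (by omega) (by omega)
          · skip
            exact edgeRange_sound data 12 13699 160065 e12_c11 k (by omega) (by omega)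
  · skip
    by_cases hh13 : k < 250661
    · skip
      by_cases hh14 : k < 213394
      · skip
        by_cases hh15 : k < 187276
        · skip
          exact edgeRange_sound data 12 13512 173764 e12_c12 k (by omega) (by omega)
        · skip
          by_cases hh16 : k < 200486
          · skip
            exact edgeRange_sound data 12 13210 187276 e12_c13 k (by omega) (by omega)
          · skip
            exact edgeRange_sound data 12 12908 200486 e12_c14 k (by omega) (by omega)
      · skip
        by_cases hh17 : k < 225935
        · skip
          exact edgeRange_sound data 12 12541 213394 e12_c15 k (by omega) (by omega)
        · skip
          by_cases hh18 : k < 238458
          · skip
            exact edgeRange_sound data 12 12523 225935 e12_c16 k (by omega) (by omega)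
          · skip
            exact edgeRange_sound data 12 12203 238458 e12_c17 k (by omega) (by omega)
    · skip
      by_cases hh19 : k < 340499
      · skip
        by_cases hh20 : k < 262468
        · skip
          exact edgeRange_sound data 12 11807 250661 e12_c18 k (by omega) (by omega)
        · skip
          by_cases hh21 : k < 290499
          · skip
            exact edgeRange_sound data 12 28031 262468 e12_c19 k (by omega) (by omega)
          · skip
            exact edgeRange_sound data 12 50000 290499 e12_c20 k (by omega) (by omega)
      · skip
        by_cases hh22 : k < 440499
        · skip
          by_cases hh23 : k < 390499
          · skip
            exact edgeRange_sound data 12 50000 340499 e12_c21 k (by omega) (by omega)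
          · skip
            exact edgeRange_sound data 12 50000 390499 e12_c22 k (by omega) (by omega)
        · skip
          by_cases hh24 : k < 490499
          · skip
            exact edgeRange_sound data 12 50000 440499 e12_c23 k (by omega) (by omega)
          · skip
            exact edgeRange_sound data 12 33789 490499 e12_c24 k (by omega) (by omega)

theorem allE13 : ∀ k, k < 524288 → justE data 13 k = true := by
  intro k hk
  by_cases hh1 : k < 168684
  · skip
    by_cases hh2 : k < 76504
    · skip
      by_cases hh3 : k < 30645
      · skip
        by_cases hh4 : k < 15340
        · skip
          exact edgeRange_sound data 13 15340 0 e13_c0 k (by omega) (by omega)
        · skip
          exact edgeRange_sound data 13 15305 15340 e13_c1 k (by omega) (by omega)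
      · skip
        by_cases hh5 : k < 45928
        · skip
          exact edgeRange_sound data 13 15283 30645 e13_c2 k (by omega) (by omega)
        · skip
          by_cases hh6 : k < 61169
          · skip
            exact edgeRange_sound data 13 15241 45928 e13_c3 k (by omega) (by omega)
          · skip
            exact edgeRange_sound data 13 15335 61169 e13_c4 k (by omega) (by omega)
    · skip
      by_cases hh7 : k < 122545
      · skip
        by_cases hh8 : k < 91791
        · skip
          exact edgeRange_sound data 13 15287 76504 e13_c5 k (by omega) (by omega)
        · skip
          by_cases hh9 : k < 107167
          · skip
            exact edgeRange_sound data 13 15376 91791 e13_c6 k (by omega) (by omega)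
          · skip
            exact edgeRange_sound data 13 15378 107167 e13_c7 k (by omega) (by omega)
      · skip
        by_cases hh10 : k < 137948
        · skip
          exact edgeRange_sound data 13 15403 122545 e13_c8 k (by omega) (by omega)
        · skip
          by_cases hh11 : k < 153314
          · skip
            exact edgeRange_sound data 13 15366 137948 e13_c9 k (by omega) (by omega)
          · skip
            exact edgeRange_sound data 13 15370 153314 e13_c10 k (by omega) (by omega)
  · skip
    by_cases hh12 : k < 261392
    · skip
      by_cases hh13 : k < 214667
      · skip
        by_cases hh14 : k < 184039
        · skip
          exact edgeRange_sound data 13 15355 168684 e13_c11 k (by omega) (by omega)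
        · skip
          by_cases hh15 : k < 199369
          · skip
            exact edgeRange_sound data 13 15330 184039 e13_c12 k (by omega) (by omega)
          · skip
            exact edgeRange_sound data 13 15298 199369 e13_c13 k (by omega) (by omega)
      · skip
        by_cases hh16 : k < 230093
        · skip
          exact edgeRange_sound data 13 15426 214667 e13_c14 k (by omega) (by omega)
        · skip
          by_cases hh17 : k < 245638
          · skip
            exact edgeRange_sound data 13 15545 230093 e13_c15 k (by omega) (by omega)
          · skip
            exact edgeRange_sound data 13 15754 245638 e13_c16 k (by omega) (by omega)
    · skip
      by_cases hh18 : k < 395310
      · skip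
        by_cases hh19 : k < 295310
        · skip
          exact edgeRange_sound data 13 33918 261392 e13_c17 k (by omega) (by omega)
        · skip
          by_cases hh20 : k < 345310
          · skip
            exact edgeRange_sound data 13 50000 295310 e13_c18 k (by omega) (by omega)
          · skip
            exact edgeRange_sound data 13 50000 345310 e13_c19 k (by omega) (by omega)
      · skip
        by_cases hh21 : k < 445310
        · skip
          exact edgeRange_sound data 13 50000 395310 e13_c20 k (by omega) (by omega)
        · skip
          by_cases hh22 : k < 495310
          · skip
            exact edgeRange_sound data 13 50000 445310 e13_c21 k (by omega) (by omega)
          · skip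
            exact edgeRange_sound data 13 28978 495310 e13_c22 k (by omega) (by omega)

theorem allE : ∀ c k, c < data.nc → k ≤ data.mask → justE data c k = true := by
  intro c k hc hk
  have hc' : c < 14 := hc
  have hk' : k < 524288 := Nat.lt_succ_of_le hk
  interval_cases c
  · exact allE0 k hk'
  · exact allE1 k hk'
  · exact allE2 k hk'
  · exact allE3 k hk'
  · exact allE4 k hk'
  · exact allE5 k hk'
  · exact allE6 k hk'
  · exact allE7 k hk'
  · exact allE8 k hk'
  · exact allE9 k hk'
  · exact allE10 k hk'
  · exact allE11 k hk'
  · exact allE12 k hk'
  · exact allE13 k hk'

theorem allM : ∀ k, k ≤ data.mask → justM data k = true := by
  intro k hk
  have hk' : k < 524288 := Nat.lt_succ_of_le hk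
  by_cases hh1 : k < 238266
  · skip
    by_cases hh2 : k < 93910
    · skip
      by_cases hh3 : k < 46451
      · skip
        exact mergeRange_sound data 46451 0 m_c0 k (by omega) (by omega)
      · skip
        exact mergeRange_sound data 47459 46451 m_c1 k (by omega) (by omega)
    · skip
      by_cases hh4 : k < 141830
      · skip
        exact mergeRange_sound data 47920 93910 m_c2 k (by omega) (by omega)
      · skip
        by_cases hh5 : k < 189517
        · skip
          exact mergeRange_sound data 47687 141830 m_c3 k (by omega) (by omega)
        · skip
          exact mergeRange_sound data 48749 189517 m_c4 k (by omega) (by omega)
  · skip
    by_cases hh6 : k < 388148
    · skip
      by_cases hh7 : k < 288148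
      · skip
        exact mergeRange_sound data 49882 238266 m_c5 k (by omega) (by omega)
      · skip
        by_cases hh8 : k < 338148
        · skip
          exact mergeRange_sound data 50000 288148 m_c6 k (by omega) (by omega)
        · skip
          exact mergeRange_sound data 50000 338148 m_c7 k (by omega) (by omega)
    · skip
      by_cases hh9 : k < 438148
      · skip
        exact mergeRange_sound data 50000 388148 m_c8 k (by omega) (by omega)
      · skip
        by_cases hh10 : k < 488148
        · skip
          exact mergeRange_sound data 50000 438148 m_c9 k (by omega) (by omega)
        · skip
          exact mergeRange_sound data 36140 488148 m_c10 k (by omega) (by omega)

theorem rows_all : ∀ k, k < M → isFinal data k = true → rowOK data M k data.nc = true := by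
  intro k hk
  have hk' : k < 269124 := hk
  by_cases hh1 : k < 135590
  · skip
    by_cases hh2 : k < 67501
    · skip
      by_cases hh3 : k < 33333
      · skip
        by_cases hh4 : k < 16624
        · skip
          by_cases hh5 : k < 8226
          · skip
            by_cases hh6 : k < 3519
            · skip
              by_cases hh7 : k < 1182
              · skip
                exact rowsRange_sound data M 1182 0 rows0 k (by omega) (by omega)
              · skip
                by_cases hh8 : k < 2356
                · skip
                  exact rowsRange_sound data M 1174 1182 rows1 k (by omega) (by omega)
                · skip
                  exact rowsRange_sound data M 1163 2356 rows2 k (by omega) (by omega)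
            · skip
              by_cases hh9 : k < 5857
              · skip
                by_cases hh10 : k < 4688
                · skip
                  exact rowsRange_sound data M 1169 3519 rows3 k (by omega) (by omega)
                · skip
                  exact rowsRange_sound data M 1169 4688 rows4 k (by omega) (by omega)
              · skip
                by_cases hh11 : k < 7056
                · skip
                  exact rowsRange_sound data M 1199 5857 rows5 k (by omega) (by omega)
                · skip
                  exact rowsRange_sound data M 1170 7056 rows6 k (by omega) (by omega)
          · skip
            by_cases hh12 : k < 11798
            · skip
              by_cases hh13 : k < 9411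
              · skip
                exact rowsRange_sound data M 1185 8226 rows7 k (by omega) (by omega)
              · skip
                by_cases hh14 : k < 10612
                · skip
                  exact rowsRange_sound data M 1201 9411 rows8 k (by omega) (by omega)
                · skip
                  exact rowsRange_sound data M 1186 10612 rows9 k (by omega) (by omega)
            · skip
              by_cases hh15 : k < 14255
              · skip
                by_cases hh16 : k < 13019
                · skip
                  exact rowsRange_sound data M 1221 11798 rows10 k (by omega) (by omega)
                · skip
                  exact rowsRange_sound data M 1236 13019 rows11 k (by omega) (by omega)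
              · skip
                by_cases hh17 : k < 15437
                · skip
                  exact rowsRange_sound data M 1182 14255 rows12 k (by omega) (by omega)
                · skip
                  exact rowsRange_sound data M 1187 15437 rows13 k (by omega) (by omega)
        · skip
          by_cases hh18 : k < 25061
          · skip
            by_cases hh19 : k < 20248
            · skip
              by_cases hh20 : k < 17803
              · skip
                exact rowsRange_sound data M 1179 16624 rows14 k (by omega) (by omega)
              · skip
                by_cases hh21 : k < 19001
                · skip
                  exact rowsRange_sound data M 1198 17803 rows15 k (by omega) (by omega)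
                · skip
                  exact rowsRange_sound data M 1247 19001 rows16 k (by omega) (by omega)
            · skip
              by_cases hh22 : k < 22630
              · skip
                by_cases hh23 : k < 21434
                · skip
                  exact rowsRange_sound data M 1186 20248 rows17 k (by omega) (by omega)
                · skip
                  exact rowsRange_sound data M 1196 21434 rows18 k (by omega) (by omega)
              · skip
                by_cases hh24 : k < 23843
                · skip
                  exact rowsRange_sound data M 1213 22630 rows19 k (by omega) (by omega)
                · skip
                  exact rowsRange_sound data M 1218 23843 rows20 k (by omega) (by omega)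
          · skip
            by_cases hh25 : k < 28644
            · skip
              by_cases hh26 : k < 26265
              · skip
                exact rowsRange_sound data M 1204 25061 rows21 k (by omega) (by omega)
              · skip
                by_cases hh27 : k < 27456
                · skip
                  exact rowsRange_sound data M 1191 26265 rows22 k (by omega) (by omega)
                · skip
                  exact rowsRange_sound data M 1188 27456 rows23 k (by omega) (by omega)
            · skip
              by_cases hh28 : k < 31002
              · skip
                by_cases hh29 : k < 29818
                · skip
                  exact rowsRange_sound data M 1174 28644 rows24 k (by omega) (by omega)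
                · skip
                  exact rowsRange_sound data M 1184 29818 rows25 k (by omega) (by omega)
              · skip
                by_cases hh30 : k < 32170
                · skip
                  exact rowsRange_sound data M 1168 31002 rows26 k (by omega) (by omega)
                · skip
                  exact rowsRange_sound data M 1163 32170 rows27 k (by omega) (by omega)
      · skip
        by_cases hh31 : k < 49854
        · skip
          by_cases hh32 : k < 41591
          · skip
            by_cases hh33 : k < 36870
            · skip
              by_cases hh34 : k < 34498
              · skip
                exact rowsRange_sound data M 1165 33333 rows28 k (by omega) (by omega)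
              · skip
                by_cases hh35 : k < 35687
                · skip
                  exact rowsRange_sound data M 1189 34498 rows29 k (by omega) (by omega)
                · skip
                  exact rowsRange_sound data M 1183 35687 rows30 k (by omega) (by omega)
            · skip
              by_cases hh36 : k < 39236
              · skip
                by_cases hh37 : k < 38051
                · skip
                  exact rowsRange_sound data M 1181 36870 rows31 k (by omega) (by omega)
                · skip
                  exact rowsRange_sound data M 1185 38051 rows32 k (by omega) (by omega)
              · skip
                by_cases hh38 : k < 40419
                · skip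
                  exact rowsRange_sound data M 1183 39236 rows33 k (by omega) (by omega)
                · skip
                  exact rowsRange_sound data M 1172 40419 rows34 k (by omega) (by omega)
          · skip
            by_cases hh39 : k < 45122
            · skip
              by_cases hh40 : k < 42770
              · skip
                exact rowsRange_sound data M 1179 41591 rows35 k (by omega) (by omega)
              · skip
                by_cases hh41 : k < 43950
                · skip
                  exact rowsRange_sound data M 1180 42770 rows36 k (by omega) (by omega)
                · skip
                  exact rowsRange_sound data M 1172 43950 rows37 k (by omega) (by omega)
            · skip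
              by_cases hh42 : k < 47488
              · skip
                by_cases hh43 : k < 46315
                · skip
                  exact rowsRange_sound data M 1193 45122 rows38 k (by omega) (by omega)
                · skip
                  exact rowsRange_sound data M 1173 46315 rows39 k (by omega) (by omega)
              · skip
                by_cases hh44 : k < 48671
                · skip
                  exact rowsRange_sound data M 1183 47488 rows40 k (by omega) (by omega)
                · skip
                  exact rowsRange_sound data M 1183 48671 rows41 k (by omega) (by omega)
        · skip
          by_cases hh45 : k < 58089
          · skip
            by_cases hh46 : k < 53383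
            · skip
              by_cases hh47 : k < 51039
              · skip
                exact rowsRange_sound data M 1185 49854 rows42 k (by omega) (by omega)
              · skip
                by_cases hh48 : k < 52207
                · skip
                  exact rowsRange_sound data M 1168 51039 rows43 k (by omega) (by omega)
                · skip
                  exact rowsRange_sound data M 1176 52207 rows44 k (by omega) (by omega)
            · skip
              by_cases hh49 : k < 55730
              · skip
                by_cases hh50 : k < 54562
                · skip
                  exact rowsRange_sound data M 1179 53383 rows45 k (by omega) (by omega)
                · skip
                  exact rowsRange_sound data M 1168 54562 rows46 k (by omega) (by omega)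
              · skip
                by_cases hh51 : k < 56898
                · skip
                  exact rowsRange_sound data M 1168 55730 rows47 k (by omega) (by omega)
                · skip
                  exact rowsRange_sound data M 1191 56898 rows48 k (by omega) (by omega)
          · skip
            by_cases hh52 : k < 62782
            · skip
              by_cases hh53 : k < 60427
              · skip
                by_cases hh54 : k < 59257
                · skip
                  exact rowsRange_sound data M 1168 58089 rows49 k (by omega) (by omega)
                · skip
                  exact rowsRange_sound data M 1170 59257 rows50 k (by omega) (by omega)
              · skip
                by_cases hh55 : k < 61598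
                · skip
                  exact rowsRange_sound data M 1171 60427 rows51 k (by omega) (by omega)
                · skip
                  exact rowsRange_sound data M 1184 61598 rows52 k (by omega) (by omega)
            · skip
              by_cases hh56 : k < 65131
              · skip
                by_cases hh57 : k < 63959
                · skip
                  exact rowsRange_sound data M 1177 62782 rows53 k (by omega) (by omega)
                · skip
                  exact rowsRange_sound data M 1172 63959 rows54 k (by omega) (by omega)
              · skip
                by_cases hh58 : k < 66321
                · skip
                  exact rowsRange_sound data M 1190 65131 rows55 k (by omega) (by omega)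
                · skip
                  exact rowsRange_sound data M 1180 66321 rows56 k (by omega) (by omega)
    · skip
      by_cases hh59 : k < 101572
      · skip
        by_cases hh60 : k < 83939
        · skip
          by_cases hh61 : k < 75701
          · skip
            by_cases hh62 : k < 71018
            · skip
              by_cases hh63 : k < 68679
              · skip
                exact rowsRange_sound data M 1178 67501 rows57 k (by omega) (by omega)
              · skip
                by_cases hh64 : k < 69846
                · skip
                  exact rowsRange_sound data M 1167 68679 rows58 k (by omega) (by omega)
                · skip
                  exact rowsRange_sound data M 1172 69846 rows59 k (by omega) (by omega)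
            · skip
              by_cases hh65 : k < 73361
              · skip
                by_cases hh66 : k < 72193
                · skip
                  exact rowsRange_sound data M 1175 71018 rows60 k (by omega) (by omega)
                · skip
                  exact rowsRange_sound data M 1168 72193 rows61 k (by omega) (by omega)
              · skip
                by_cases hh67 : k < 74528
                · skip
                  exact rowsRange_sound data M 1167 73361 rows62 k (by omega) (by omega)
                · skip
                  exact rowsRange_sound data M 1173 74528 rows63 k (by omega) (by omega)
          · skip
            by_cases hh68 : k < 79246
            · skip
              by_cases hh69 : k < 76891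
              · skip
                exact rowsRange_sound data M 1190 75701 rows64 k (by omega) (by omega)
              · skip
                by_cases hh70 : k < 78062
                · skip
                  exact rowsRange_sound data M 1171 76891 rows65 k (by omega) (by omega)
                · skip
                  exact rowsRange_sound data M 1184 78062 rows66 k (by omega) (by omega)
            · skip
              by_cases hh71 : k < 81595
              · skip
                by_cases hh72 : k < 80416
                · skip
                  exact rowsRange_sound data M 1170 79246 rows67 k (by omega) (by omega)
                · skip
                  exact rowsRange_sound data M 1179 80416 rows68 k (by omega) (by omega)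
              · skip
                by_cases hh73 : k < 82767
                · skip
                  exact rowsRange_sound data M 1172 81595 rows69 k (by omega) (by omega)
                · skip
                  exact rowsRange_sound data M 1172 82767 rows70 k (by omega) (by omega)
        · skip
          by_cases hh74 : k < 92160
          · skip
            by_cases hh75 : k < 87460
            · skip
              by_cases hh76 : k < 85119
              · skip
                exact rowsRange_sound data M 1180 83939 rows71 k (by omega) (by omega)
              · skip
                by_cases hh77 : k < 86288
                · skip
                  exact rowsRange_sound data M 1169 85119 rows72 k (by omega) (by omega)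
                · skip
                  exact rowsRange_sound data M 1172 86288 rows73 k (by omega) (by omega)
            · skip
              by_cases hh78 : k < 89824
              · skip
                by_cases hh79 : k < 88635
                · skip
                  exact rowsRange_sound data M 1175 87460 rows74 k (by omega) (by omega)
                · skip
                  exact rowsRange_sound data M 1189 88635 rows75 k (by omega) (by omega)
              · skip
                by_cases hh80 : k < 90992
                · skip
                  exact rowsRange_sound data M 1168 89824 rows76 k (by omega) (by omega)
                · skip
                  exact rowsRange_sound data M 1168 90992 rows77 k (by omega) (by omega)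
          · skip
            by_cases hh81 : k < 96834
            · skip
              by_cases hh82 : k < 94498
              · skip
                by_cases hh83 : k < 93329
                · skip
                  exact rowsRange_sound data M 1169 92160 rows78 k (by omega) (by omega)
                · skip
                  exact rowsRange_sound data M 1169 93329 rows79 k (by omega) (by omega)
              · skip
                by_cases hh84 : k < 95665
                · skip
                  exact rowsRange_sound data M 1167 94498 rows80 k (by omega) (by omega)
                · skip
                  exact rowsRange_sound data M 1169 95665 rows81 k (by omega) (by omega)
            · skip
              by_cases hh85 : k < 99202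
              · skip
                by_cases hh86 : k < 98028
                · skip
                  exact rowsRange_sound data M 1194 96834 rows82 k (by omega) (by omega)
                · skip
                  exact rowsRange_sound data M 1174 98028 rows83 k (by omega) (by omega)
              · skip
                by_cases hh87 : k < 100385
                · skip
                  exact rowsRange_sound data M 1183 99202 rows84 k (by omega) (by omega)
                · skip
                  exact rowsRange_sound data M 1187 100385 rows85 k (by omega) (by omega)
      · skip
        by_cases hh88 : k < 118021
        · skip
          by_cases hh89 : k < 109784
          · skip
            by_cases hh90 : k < 105101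
            · skip
              by_cases hh91 : k < 102747
              · skip
                exact rowsRange_sound data M 1175 101572 rows86 k (by omega) (by omega)
              · skip
                by_cases hh92 : k < 103930
                · skip
                  exact rowsRange_sound data M 1183 102747 rows87 k (by omega) (by omega)
                · skip
                  exact rowsRange_sound data M 1171 103930 rows88 k (by omega) (by omega)
            · skip
              by_cases hh93 : k < 107443
              · skip
                by_cases hh94 : k < 106275
                · skip
                  exact rowsRange_sound data M 1174 105101 rows89 k (by omega) (by omega)
                · skip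
                  exact rowsRange_sound data M 1168 106275 rows90 k (by omega) (by omega)
              · skip
                by_cases hh95 : k < 108617
                · skip
                  exact rowsRange_sound data M 1174 107443 rows91 k (by omega) (by omega)
                · skip
                  exact rowsRange_sound data M 1167 108617 rows92 k (by omega) (by omega)
          · skip
            by_cases hh96 : k < 113296
            · skip
              by_cases hh97 : k < 110958
              · skip
                exact rowsRange_sound data M 1174 109784 rows93 k (by omega) (by omega)
              · skip
                by_cases hh98 : k < 112127
                · skip
                  exact rowsRange_sound data M 1169 110958 rows94 k (by omega) (by omega)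
                · skip
                  exact rowsRange_sound data M 1169 112127 rows95 k (by omega) (by omega)
            · skip
              by_cases hh99 : k < 115666
              · skip
                by_cases hh100 : k < 114481
                · skip
                  exact rowsRange_sound data M 1185 113296 rows96 k (by omega) (by omega)
                · skip
                  exact rowsRange_sound data M 1185 114481 rows97 k (by omega) (by omega)
              · skip
                by_cases hh101 : k < 116846
                · skip
                  exact rowsRange_sound data M 1180 115666 rows98 k (by omega) (by omega)
                · skip
                  exact rowsRange_sound data M 1175 116846 rows99 k (by omega) (by omega)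
        · skip
          by_cases hh102 : k < 126224
          · skip
            by_cases hh103 : k < 121546
            · skip
              by_cases hh104 : k < 119193
              · skip
                exact rowsRange_sound data M 1172 118021 rows100 k (by omega) (by omega)
              · skip
                by_cases hh105 : k < 120367
                · skip
                  exact rowsRange_sound data M 1174 119193 rows101 k (by omega) (by omega)
                · skip
                  exact rowsRange_sound data M 1179 120367 rows102 k (by omega) (by omega)
            · skip
              by_cases hh106 : k < 123892
              · skip
                by_cases hh107 : k < 122725
                · skip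
                  exact rowsRange_sound data M 1179 121546 rows103 k (by omega) (by omega)
                · skip
                  exact rowsRange_sound data M 1167 122725 rows104 k (by omega) (by omega)
              · skip
                by_cases hh108 : k < 125055
                · skip
                  exact rowsRange_sound data M 1163 123892 rows105 k (by omega) (by omega)
                · skip
                  exact rowsRange_sound data M 1169 125055 rows106 k (by omega) (by omega)
          · skip
            by_cases hh109 : k < 130912
            · skip
              by_cases hh110 : k < 128566
              · skip
                by_cases hh111 : k < 127398
                · skip
                  exact rowsRange_sound data M 1174 126224 rows107 k (by omega) (by omega)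
                · skip
                  exact rowsRange_sound data M 1168 127398 rows108 k (by omega) (by omega)
              · skip
                by_cases hh112 : k < 129739
                · skip
                  exact rowsRange_sound data M 1173 128566 rows109 k (by omega) (by omega)
                · skip
                  exact rowsRange_sound data M 1173 129739 rows110 k (by omega) (by omega)
            · skip
              by_cases hh113 : k < 133248
              · skip
                by_cases hh114 : k < 132081
                · skip
                  exact rowsRange_sound data M 1169 130912 rows111 k (by omega) (by omega)
                · skip
                  exact rowsRange_sound data M 1167 132081 rows112 k (by omega) (by omega)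
              · skip
                by_cases hh115 : k < 134420
                · skip
                  exact rowsRange_sound data M 1172 133248 rows113 k (by omega) (by omega)
                · skip
                  exact rowsRange_sound data M 1170 134420 rows114 k (by omega) (by omega)
  · skip
    by_cases hh116 : k < 202440
    · skip
      by_cases hh117 : k < 168432
      · skip
        by_cases hh118 : k < 151995
        · skip
          by_cases hh119 : k < 143781
          · skip
            by_cases hh120 : k < 139100
            · skip
              by_cases hh121 : k < 136756
              · skip
                exact rowsRange_sound data M 1166 135590 rows115 k (by omega) (by omega)
              · skip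
                by_cases hh122 : k < 137925
                · skip
                  exact rowsRange_sound data M 1169 136756 rows116 k (by omega) (by omega)
                · skip
                  exact rowsRange_sound data M 1175 137925 rows117 k (by omega) (by omega)
            · skip
              by_cases hh123 : k < 141450
              · skip
                by_cases hh124 : k < 140276
                · skip
                  exact rowsRange_sound data M 1176 139100 rows118 k (by omega) (by omega)
                · skip
                  exact rowsRange_sound data M 1174 140276 rows119 k (by omega) (by omega)
              · skip
                by_cases hh125 : k < 142614
                · skip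
                  exact rowsRange_sound data M 1164 141450 rows120 k (by omega) (by omega)
                · skip
                  exact rowsRange_sound data M 1167 142614 rows121 k (by omega) (by omega)
          · skip
            by_cases hh126 : k < 147292
            · skip
              by_cases hh127 : k < 144951
              · skip
                exact rowsRange_sound data M 1170 143781 rows122 k (by omega) (by omega)
              · skip
                by_cases hh128 : k < 146115
                · skip
                  exact rowsRange_sound data M 1164 144951 rows123 k (by omega) (by omega)
                · skip
                  exact rowsRange_sound data M 1177 146115 rows124 k (by omega) (by omega)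
            · skip
              by_cases hh129 : k < 149650
              · skip
                by_cases hh130 : k < 148477
                · skip
                  exact rowsRange_sound data M 1185 147292 rows125 k (by omega) (by omega)
                · skip
                  exact rowsRange_sound data M 1173 148477 rows126 k (by omega) (by omega)
              · skip
                by_cases hh131 : k < 150829
                · skip
                  exact rowsRange_sound data M 1179 149650 rows127 k (by omega) (by omega)
                · skip
                  exact rowsRange_sound data M 1166 150829 rows128 k (by omega) (by omega)
        · skip
          by_cases hh132 : k < 160210
          · skip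
            by_cases hh133 : k < 155510
            · skip
              by_cases hh134 : k < 153166
              · skip
                exact rowsRange_sound data M 1171 151995 rows129 k (by omega) (by omega)
              · skip
                by_cases hh135 : k < 154338
                · skip
                  exact rowsRange_sound data M 1172 153166 rows130 k (by omega) (by omega)
                · skip
                  exact rowsRange_sound data M 1172 154338 rows131 k (by omega) (by omega)
            · skip
              by_cases hh136 : k < 157858
              · skip
                by_cases hh137 : k < 156684
                · skip
                  exact rowsRange_sound data M 1174 155510 rows132 k (by omega) (by omega)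
                · skip
                  exact rowsRange_sound data M 1174 156684 rows133 k (by omega) (by omega)
              · skip
                by_cases hh138 : k < 159029
                · skip
                  exact rowsRange_sound data M 1171 157858 rows134 k (by omega) (by omega)
                · skip
                  exact rowsRange_sound data M 1181 159029 rows135 k (by omega) (by omega)
          · skip
            by_cases hh139 : k < 163748
            · skip
              by_cases hh140 : k < 161394
              · skip
                exact rowsRange_sound data M 1184 160210 rows136 k (by omega) (by omega)
              · skip
                by_cases hh141 : k < 162569
                · skip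
                  exact rowsRange_sound data M 1175 161394 rows137 k (by omega) (by omega)
                · skip
                  exact rowsRange_sound data M 1179 162569 rows138 k (by omega) (by omega)
            · skip
              by_cases hh142 : k < 166092
              · skip
                by_cases hh143 : k < 164924
                · skip
                  exact rowsRange_sound data M 1176 163748 rows139 k (by omega) (by omega)
                · skip
                  exact rowsRange_sound data M 1168 164924 rows140 k (by omega) (by omega)
              · skip
                by_cases hh144 : k < 167269
                · skip
                  exact rowsRange_sound data M 1177 166092 rows141 k (by omega) (by omega)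
                · skip
                  exact rowsRange_sound data M 1163 167269 rows142 k (by omega) (by omega)
      · skip
        by_cases hh145 : k < 184868
        · skip
          by_cases hh146 : k < 176678
          · skip
            by_cases hh147 : k < 171951
            · skip
              by_cases hh148 : k < 169611
              · skip
                exact rowsRange_sound data M 1179 168432 rows143 k (by omega) (by omega)
              · skip
                by_cases hh149 : k < 170781
                · skip
                  exact rowsRange_sound data M 1170 169611 rows144 k (by omega) (by omega)
                · skip
                  exact rowsRange_sound data M 1170 170781 rows145 k (by omega) (by omega)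
            · skip
              by_cases hh150 : k < 174308
              · skip
                by_cases hh151 : k < 173138
                · skip
                  exact rowsRange_sound data M 1187 171951 rows146 k (by omega) (by omega)
                · skip
                  exact rowsRange_sound data M 1170 173138 rows147 k (by omega) (by omega)
              · skip
                by_cases hh152 : k < 175483
                · skip
                  exact rowsRange_sound data M 1175 174308 rows148 k (by omega) (by omega)
                · skip
                  exact rowsRange_sound data M 1195 175483 rows149 k (by omega) (by omega)
          · skip
            by_cases hh153 : k < 180199
            · skip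
              by_cases hh154 : k < 177848
              · skip
                exact rowsRange_sound data M 1170 176678 rows150 k (by omega) (by omega)
              · skip
                by_cases hh155 : k < 179024
                · skip
                  exact rowsRange_sound data M 1176 177848 rows151 k (by omega) (by omega)
                · skip
                  exact rowsRange_sound data M 1175 179024 rows152 k (by omega) (by omega)
            · skip
              by_cases hh156 : k < 182534
              · skip
                by_cases hh157 : k < 181368
                · skip
                  exact rowsRange_sound data M 1169 180199 rows153 k (by omega) (by omega)
                · skip
                  exact rowsRange_sound data M 1166 181368 rows154 k (by omega) (by omega)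
              · skip
                by_cases hh158 : k < 183700
                · skip
                  exact rowsRange_sound data M 1166 182534 rows155 k (by omega) (by omega)
                · skip
                  exact rowsRange_sound data M 1168 183700 rows156 k (by omega) (by omega)
        · skip
          by_cases hh159 : k < 193066
          · skip
            by_cases hh160 : k < 188383
            · skip
              by_cases hh161 : k < 186040
              · skip
                exact rowsRange_sound data M 1172 184868 rows157 k (by omega) (by omega)
              · skip
                by_cases hh162 : k < 187212
                · skip
                  exact rowsRange_sound data M 1172 186040 rows158 k (by omega) (by omega)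
                · skip
                  exact rowsRange_sound data M 1171 187212 rows159 k (by omega) (by omega)
            · skip
              by_cases hh163 : k < 190724
              · skip
                by_cases hh164 : k < 189552
                · skip
                  exact rowsRange_sound data M 1169 188383 rows160 k (by omega) (by omega)
                · skip
                  exact rowsRange_sound data M 1172 189552 rows161 k (by omega) (by omega)
              · skip
                by_cases hh165 : k < 191889
                · skip
                  exact rowsRange_sound data M 1165 190724 rows162 k (by omega) (by omega)
                · skip
                  exact rowsRange_sound data M 1177 191889 rows163 k (by omega) (by omega)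
          · skip
            by_cases hh166 : k < 197756
            · skip
              by_cases hh167 : k < 195407
              · skip
                by_cases hh168 : k < 194237
                · skip
                  exact rowsRange_sound data M 1171 193066 rows164 k (by omega) (by omega)
                · skip
                  exact rowsRange_sound data M 1170 194237 rows165 k (by omega) (by omega)
              · skip
                by_cases hh169 : k < 196578
                · skip
                  exact rowsRange_sound data M 1171 195407 rows166 k (by omega) (by omega)
                · skip
                  exact rowsRange_sound data M 1178 196578 rows167 k (by omega) (by omega)
            · skip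
              by_cases hh170 : k < 200097
              · skip
                by_cases hh171 : k < 198931
                · skip
                  exact rowsRange_sound data M 1175 197756 rows168 k (by omega) (by omega)
                · skip
                  exact rowsRange_sound data M 1166 198931 rows169 k (by omega) (by omega)
              · skip
                by_cases hh172 : k < 201267
                · skip
                  exact rowsRange_sound data M 1170 200097 rows170 k (by omega) (by omega)
                · skip
                  exact rowsRange_sound data M 1173 201267 rows171 k (by omega) (by omega)
    · skip
      by_cases hh173 : k < 236294
      · skip
        by_cases hh174 : k < 218799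
        · skip
          by_cases hh175 : k < 210626
          · skip
            by_cases hh176 : k < 205945
            · skip
              by_cases hh177 : k < 203608
              · skip
                exact rowsRange_sound data M 1168 202440 rows172 k (by omega) (by omega)
              · skip
                by_cases hh178 : k < 204774
                · skip
                  exact rowsRange_sound data M 1166 203608 rows173 k (by omega) (by omega)
                · skip
                  exact rowsRange_sound data M 1171 204774 rows174 k (by omega) (by omega)
            · skip
              by_cases hh179 : k < 208284
              · skip
                by_cases hh180 : k < 207114
                · skip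
                  exact rowsRange_sound data M 1169 205945 rows175 k (by omega) (by omega)
                · skip
                  exact rowsRange_sound data M 1170 207114 rows176 k (by omega) (by omega)
              · skip
                by_cases hh181 : k < 209458
                · skip
                  exact rowsRange_sound data M 1174 208284 rows177 k (by omega) (by omega)
                · skip
                  exact rowsRange_sound data M 1168 209458 rows178 k (by omega) (by omega)
          · skip
            by_cases hh182 : k < 214127
            · skip
              by_cases hh183 : k < 211792
              · skip
                exact rowsRange_sound data M 1166 210626 rows179 k (by omega) (by omega)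
              · skip
                by_cases hh184 : k < 212961
                · skip
                  exact rowsRange_sound data M 1169 211792 rows180 k (by omega) (by omega)
                · skip
                  exact rowsRange_sound data M 1166 212961 rows181 k (by omega) (by omega)
            · skip
              by_cases hh185 : k < 216460
              · skip
                by_cases hh186 : k < 215295
                · skip
                  exact rowsRange_sound data M 1168 214127 rows182 k (by omega) (by omega)
                · skip
                  exact rowsRange_sound data M 1165 215295 rows183 k (by omega) (by omega)
              · skip
                by_cases hh187 : k < 217631
                · skip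
                  exact rowsRange_sound data M 1171 216460 rows184 k (by omega) (by omega)
                · skip
                  exact rowsRange_sound data M 1168 217631 rows185 k (by omega) (by omega)
        · skip
          by_cases hh188 : k < 226966
          · skip
            by_cases hh189 : k < 222299
            · skip
              by_cases hh190 : k < 219969
              · skip
                exact rowsRange_sound data M 1170 218799 rows186 k (by omega) (by omega)
              · skip
                by_cases hh191 : k < 221134
                · skip
                  exact rowsRange_sound data M 1165 219969 rows187 k (by omega) (by omega)
                · skip
                  exact rowsRange_sound data M 1165 221134 rows188 k (by omega) (by omega)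
            · skip
              by_cases hh192 : k < 224631
              · skip
                by_cases hh193 : k < 223465
                · skip
                  exact rowsRange_sound data M 1166 222299 rows189 k (by omega) (by omega)
                · skip
                  exact rowsRange_sound data M 1166 223465 rows190 k (by omega) (by omega)
              · skip
                by_cases hh194 : k < 225803
                · skip
                  exact rowsRange_sound data M 1172 224631 rows191 k (by omega) (by omega)
                · skip
                  exact rowsRange_sound data M 1163 225803 rows192 k (by omega) (by omega)
          · skip
            by_cases hh195 : k < 231627
            · skip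
              by_cases hh196 : k < 229295
              · skip
                by_cases hh197 : k < 228129
                · skip
                  exact rowsRange_sound data M 1163 226966 rows193 k (by omega) (by omega)
                · skip
                  exact rowsRange_sound data M 1166 228129 rows194 k (by omega) (by omega)
              · skip
                by_cases hh198 : k < 230460
                · skip
                  exact rowsRange_sound data M 1165 229295 rows195 k (by omega) (by omega)
                · skip
                  exact rowsRange_sound data M 1167 230460 rows196 k (by omega) (by omega)
            · skip
              by_cases hh199 : k < 233962
              · skip
                by_cases hh200 : k < 232797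
                · skip
                  exact rowsRange_sound data M 1170 231627 rows197 k (by omega) (by omega)
                · skip
                  exact rowsRange_sound data M 1165 232797 rows198 k (by omega) (by omega)
              · skip
                by_cases hh201 : k < 235128
                · skip
                  exact rowsRange_sound data M 1166 233962 rows199 k (by omega) (by omega)
                · skip
                  exact rowsRange_sound data M 1166 235128 rows200 k (by omega) (by omega)
      · skip
        by_cases hh202 : k < 252595
        · skip
          by_cases hh203 : k < 244447
          · skip
            by_cases hh204 : k < 239789
            · skip
              by_cases hh205 : k < 237459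
              · skip
                exact rowsRange_sound data M 1165 236294 rows201 k (by omega) (by omega)
              · skip
                by_cases hh206 : k < 238625
                · skip
                  exact rowsRange_sound data M 1166 237459 rows202 k (by omega) (by omega)
                · skip
                  exact rowsRange_sound data M 1164 238625 rows203 k (by omega) (by omega)
            · skip
              by_cases hh207 : k < 242116
              · skip
                by_cases hh208 : k < 240953
                · skip
                  exact rowsRange_sound data M 1164 239789 rows204 k (by omega) (by omega)
                · skip
                  exact rowsRange_sound data M 1163 240953 rows205 k (by omega) (by omega)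
              · skip
                by_cases hh209 : k < 243282
                · skip
                  exact rowsRange_sound data M 1166 242116 rows206 k (by omega) (by omega)
                · skip
                  exact rowsRange_sound data M 1165 243282 rows207 k (by omega) (by omega)
          · skip
            by_cases hh210 : k < 247936
            · skip
              by_cases hh211 : k < 245610
              · skip
                exact rowsRange_sound data M 1163 244447 rows208 k (by omega) (by omega)
              · skip
                by_cases hh212 : k < 246773
                · skip
                  exact rowsRange_sound data M 1163 245610 rows209 k (by omega) (by omega)
                · skip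
                  exact rowsRange_sound data M 1163 246773 rows210 k (by omega) (by omega)
            · skip
              by_cases hh213 : k < 250268
              · skip
                by_cases hh214 : k < 249105
                · skip
                  exact rowsRange_sound data M 1169 247936 rows211 k (by omega) (by omega)
                · skip
                  exact rowsRange_sound data M 1163 249105 rows212 k (by omega) (by omega)
              · skip
                by_cases hh215 : k < 251432
                · skip
                  exact rowsRange_sound data M 1164 250268 rows213 k (by omega) (by omega)
                · skip
                  exact rowsRange_sound data M 1163 251432 rows214 k (by omega) (by omega)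
        · skip
          by_cases hh216 : k < 260739
          · skip
            by_cases hh217 : k < 256085
            · skip
              by_cases hh218 : k < 253758
              · skip
                exact rowsRange_sound data M 1163 252595 rows215 k (by omega) (by omega)
              · skip
                by_cases hh219 : k < 254922
                · skip
                  exact rowsRange_sound data M 1164 253758 rows216 k (by omega) (by omega)
                · skip
                  exact rowsRange_sound data M 1163 254922 rows217 k (by omega) (by omega)
            · skip
              by_cases hh220 : k < 258413
              · skip
                by_cases hh221 : k < 257250
                · skip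
                  exact rowsRange_sound data M 1165 256085 rows218 k (by omega) (by omega)
                · skip
                  exact rowsRange_sound data M 1163 257250 rows219 k (by omega) (by omega)
              · skip
                by_cases hh222 : k < 259576
                · skip
                  exact rowsRange_sound data M 1163 258413 rows220 k (by omega) (by omega)
                · skip
                  exact rowsRange_sound data M 1163 259576 rows221 k (by omega) (by omega)
          · skip
            by_cases hh223 : k < 265392
            · skip
              by_cases hh224 : k < 263065
              · skip
                by_cases hh225 : k < 261902
                · skip
                  exact rowsRange_sound data M 1163 260739 rows222 k (by omega) (by omega)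
                · skip
                  exact rowsRange_sound data M 1163 261902 rows223 k (by omega) (by omega)
              · skip
                by_cases hh226 : k < 264228
                · skip
                  exact rowsRange_sound data M 1163 263065 rows224 k (by omega) (by omega)
                · skip
                  exact rowsRange_sound data M 1164 264228 rows225 k (by omega) (by omega)
            · skip
              by_cases hh227 : k < 267718
              · skip
                by_cases hh228 : k < 266555
                · skip
                  exact rowsRange_sound data M 1163 265392 rows226 k (by omega) (by omega)
                · skip
                  exact rowsRange_sound data M 1163 266555 rows227 k (by omega) (by omega)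
              · skip
                by_cases hh229 : k < 268881
                · skip
                  exact rowsRange_sound data M 1163 267718 rows228 k (by omega) (by omega)
                · skip
                  exact rowsRange_sound data M 243 268881 rows229 k (by omega) (by omega)

theorem cnt_ok : countFinal data M 0 0 = n := by
  have c0 : countFinal data 50000 0 0 = 48977 := cnt0
  have c1 : countFinal data (50000 + 50000) 0 0 = 48977 + 49483 :=
    countFinal_split data (50000) 50000 0 50000 (48977) 49483 (by norm_num) c0 cnt1
  have c2 : countFinal data (50000 + 50000 + 50000) 0 0 = 48977 + 49483 + 49577 :=
    countFinal_split data (50000 + 50000) 50000 0 100000 (48977 + 49483) 49577 (by norm_num) c1 cnt2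
  have c3 : countFinal data (50000 + 50000 + 50000 + 50000) 0 0 = 48977 + 49483 + 49577 + 49568 :=
    countFinal_split data (50000 + 50000 + 50000) 50000 0 150000 (48977 + 49483 + 49577) 49568 (by norm_num) c2 cnt3
  have c4 : countFinal data (50000 + 50000 + 50000 + 50000 + 50000) 0 0 = 48977 + 49483 + 49577 + 49568 + 49836 :=
    countFinal_split data (50000 + 50000 + 50000 + 50000) 50000 0 200000 (48977 + 49483 + 49577 + 49568) 49836 (by norm_num) c3 cnt4
  have c5 : countFinal data (50000 + 50000 + 50000 + 50000 + 50000 + 19124) 0 0 = 48977 + 49483 + 49577 + 49568 + 49836 + 19119 :=
    countFinal_split data (50000 + 50000 + 50000 + 50000 + 50000) 19124 0 250000 (48977 + 49483 + 49577 + 49568 + 49836) 19119 (by norm_num) c4 cnt5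
  have e1 : 50000 + 50000 + 50000 + 50000 + 50000 + 19124 = M := by norm_num [M]
  have e2 : 48977 + 49483 + 49577 + 49568 + 49836 + 19119 = n := by norm_num [n]
  rw [← e1, ← e2]
  exact c5

/-- the index of the subgroup generated by `subsL` in the group with relators `bases` -/
theorem bound : Finite (PresentedGroup (relSet HeCod.dec bases) ⧸ (Subgroup.closure (relSet HeCod.dec subsL)).map (PresentedGroup.mk (relSet HeCod.dec bases))) ∧
    Nat.card (PresentedGroup (relSet HeCod.dec bases) ⧸ (Subgroup.closure (relSet HeCod.dec subsL)).map (PresentedGroup.mk (relSet HeCod.dec bases))) ≤ n :=
  tc_bound data bases subsL rots HeCod.coding (mem_relSet bases) (mem_relSet subsL) words_ok allE allM M n fin0_ok (by decide) (by decide) cnt_ok rows_all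

end Cfsg.Agent.Helper4.TC.HeZ0
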