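import Cfsg.Agent.Lib.Helper4.TC.HeSX
import Cfsg.Agent.Lib.Helper4.TC.HeXB
import Cfsg.Agent.Lib.Helper4.TC.HeZ0B
import Cfsg.Agent.Lib.Helper4.TC.HeZ1B
import Cfsg.Agent.Lib.Helper4.TC.HeZ2B
import Cfsg.Agent.Lib.Helper4.TC.HeZ3B
import Cfsg.Agent.Lib.Helper4.TC.HeZ4B
import Cfsg.Agent.Lib.Helper4.TC.HeZ5B

set_option autoImplicit false
set_option maxRecDepth 100000
set_option linter.unusedVariables false

namespace Cfsg.Agent.Helper4.TC.HeS

open Cfsg.Agent.Helper4.TC

abbrev dec := HeCod.dec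
abbrev Rset : Set (FreeGroup Cfsg.Spor.He.Gen) := Cfsg.Spor.coxRelators Cfsg.Spor.He.edges ∪ {r | r ∈ Cfsg.Spor.He.extra}

theorem card5 : Finite (PresentedGroup (relSet dec HeZ5.bases)) ∧ Nat.card (PresentedGroup (relSet dec HeZ5.bases)) ≤ 2 := by
  refine stage_bot _ _ ?_ _ HeZ5.bound
  rintro s ⟨b, hb, _⟩
  simp [HeZ5.subsL] at hb

theorem card4 : Finite (PresentedGroup (relSet dec HeZ4.bases)) ∧ Nat.card (PresentedGroup (relSet dec HeZ4.bases)) ≤ 8 := by
  have h := stage_bound (relSet dec HeZ4.bases) (relSet dec HeZ5.bases) (relSet dec HeZ4.subsL) HeZ4.bases HeZ5.bases HeZ4.subsL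
    (fun x : Cfsg.Spor.He.Gen => decide (x ∈ ([.b] : List Cfsg.Spor.He.Gen))) (mem_relSet _) (fun r hr => hr) (fun s hs => hs) (by decide +kernel) (by decide +kernel) HeZ4.n 2 HeZ4.bound card5
  exact ⟨h.1, h.2.trans (by decide)⟩

theorem card3 : Finite (PresentedGroup (relSet dec HeZ3.bases)) ∧ Nat.card (PresentedGroup (relSet dec HeZ3.bases)) ≤ 48 := by
  have h := stage_bound (relSet dec HeZ3.bases) (relSet dec HeZ4.bases) (relSet dec HeZ3.subsL) HeZ3.bases HeZ4.bases HeZ3.subsL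
    (fun x : Cfsg.Spor.He.Gen => decide (x ∈ ([.a, .b] : List Cfsg.Spor.He.Gen))) (mem_relSet _) (fun r hr => hr) (fun s hs => hs) (by decide +kernel) (by decide +kernel) HeZ3.n 8 HeZ3.bound card4
  exact ⟨h.1, h.2.trans (by decide)⟩

theorem card2 : Finite (PresentedGroup (relSet dec HeZ2.bases)) ∧ Nat.card (PresentedGroup (relSet dec HeZ2.bases)) ≤ 48 := by
  have h := stage_bound (relSet dec HeZ2.bases) (relSet dec HeZ3.bases) (relSet dec HeZ2.subsL) HeZ2.bases HeZ3.bases HeZ2.subsL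
    (fun x : Cfsg.Spor.He.Gen => decide (x ∈ ([.a, .b, .c] : List Cfsg.Spor.He.Gen))) (mem_relSet _) (fun r hr => hr) (fun s hs => hs) (by decide +kernel) (by decide +kernel) HeZ2.n 48 HeZ2.bound card3
  exact ⟨h.1, h.2.trans (by decide)⟩

theorem card1 : Finite (PresentedGroup (relSet dec HeZ1.bases)) ∧ Nat.card (PresentedGroup (relSet dec HeZ1.bases)) ≤ 15120 := by
  have h := stage_bound (relSet dec HeZ1.bases) (relSet dec HeZ2.bases) (relSet dec HeZ1.subsL) HeZ1.bases HeZ2.bases HeZ1.subsL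
    (fun x : Cfsg.Spor.He.Gen => decide (x ∈ ([.a, .b, .c, .e] : List Cfsg.Spor.He.Gen))) (mem_relSet _) (fun r hr => hr) (fun s hs => hs) (by decide +kernel) (by decide +kernel) HeZ1.n 48 HeZ1.bound card2
  exact ⟨h.1, h.2.trans (by decide)⟩

theorem card0 : Finite (PresentedGroup (relSet dec HeZ0.bases)) ∧ Nat.card (PresentedGroup (relSet dec HeZ0.bases)) ≤ 4030387200 := by
  have h := stage_bound (relSet dec HeZ0.bases) (relSet dec HeZ1.bases) (relSet dec HeZ0.subsL) HeZ0.bases HeZ1.bases HeZ0.subsL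
    (fun x : Cfsg.Spor.He.Gen => decide (x ∈ ([.a, .b, .c, .d, .e] : List Cfsg.Spor.He.Gen))) (mem_relSet _) (fun r hr => hr) (fun s hs => hs) (by decide +kernel) (by decide +kernel) HeZ0.n 15120 HeZ0.bound card1
  exact ⟨h.1, h.2.trans (by decide)⟩

theorem hRset : Rset = relSet dec HeZ0.bases := by
  have hb : HeS44.bases = HeZ0.bases := by decide
  ext r
  constructor
  · intro h
    obtain ⟨b, hb', e⟩ := HeS44.hR1 r h
    exact ⟨b, hb ▸ hb', e⟩
  · rintro ⟨b, hb', rfl⟩
    exact HeS44.hR2 b (hb ▸ hb')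

theorem card_top : Finite (PresentedGroup Rset) ∧ Nat.card (PresentedGroup Rset) ≤ 4030387200 := by
  rw [hRset]
  exact card0

theorem cardX : Finite (PresentedGroup (relSet dec HeX.bases)) ∧ Nat.card (PresentedGroup (relSet dec HeX.bases)) ≤ 1 := by
  refine stage_bot _ _ ?_ _ HeX.bound
  rintro s ⟨b, hb, _⟩
  simp [HeX.subsL] at hb

theorem hnc : Subgroup.normalClosure {PresentedGroup.mk Rset (wordF dec xw)} = ⊤ := by
  refine normalClosure_eq_top_of_trivial Rset (relSet dec HeX.bases) (wordF dec xw) ?_ cardX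
  rintro r ⟨b, hb, rfl⟩
  have hb' : b ∈ HeS44.bases ++ [xw] := (by decide : HeX.bases = HeS44.bases ++ [xw]) ▸ hb
  rcases List.mem_append.mp hb' with h | h
  · exact Or.inl (HeS44.hR2 b h)
  · right
    rw [List.mem_singleton.mp h]

theorem hxp : ∀ j, j < HeS44.mdata.n → mtrace HeS44.mdata (wpow xw (7 ^ 1)) j = j := by
  have e : wpow xw (7 ^ 1) = xpw := by decide
  rw [e]
  intro k hk
  have hk' : k < 2058 := hk
  exact relsRange_sound HeS44.mdata [xpw] 2058 0 xp_c0 k (by omega) (by omega) xpw List.mem_cons_self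

instance : Fact (Nat.Prime 7) := ⟨by norm_num⟩

theorem main : IsSimpleGroup (PresentedGroup Rset) ∧ Nat.card (PresentedGroup Rset) = 4030387200 := by
  refine simple_card_main HeS44.coding HeS44.hR1 HeS44.model_ok 4030387200 card_top specs levels_ok ?_
    [(1, 1361), (1361, 1786), (1786, 1922), (1922, 2058)] (by decide) ?_ (by decide) (by decide) 7 ?_ xw (by decide) 1 hxp hnc
  · decide
  · intro r hr
    simp only [List.mem_cons, List.not_mem_nil, or_false] at hr
    rcases hr with rfl | rfl | rfl | rfl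
    · exact HeS44.orb1
    · exact HeS44.orb2
    · exact HeS44.orb3
    · exact HeS44.orb4
  · exact factorization_eq_of _ _ 7 3 11750400 6 (by norm_num) (by norm_num [HeS44.mdata]) (by norm_num [HeS44.mdata]) (by norm_num) (by norm_num)

end Cfsg.Agent.Helper4.TC.HeS
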