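import Cfsg.Agent.Lib.Helper4.TC.HeKSD
import Cfsg.Agent.Lib.Helper4.TC.HeSMain
import Cfsg.Agent.Lib.Helper4.TC.Embed

set_option autoImplicit false
set_option maxRecDepth 100000
set_option linter.unusedVariables false
set_option linter.style.haveILetI false

/-! The presented Held group is the group presented on four elements of order 17 by the relators
of `HeKSD`, the relators of the Held group written in these elements, and the words of the four
elements. -/

namespace Cfsg.Agent.Helper4.TC.HeKIso

open Cfsg Cfsg.Agent.Helper4.TC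
open Cfsg.Agent.Helper4.Pres.HeK (Gen)

abbrev decK : ℕ → Letter Gen := HeKCod.dec
abbrev decH : ℕ → Letter Cfsg.Spor.He.Gen := HeS44.dec
abbrev RH : Set (FreeGroup Cfsg.Spor.He.Gen) := HeS.Rset
abbrev H : Type := PresentedGroup RH

def pts : List ℕ := [0, 1, 7, 11, 6]

/-- the words of the four generators in the seven involutions, rewritten in the four generators,
are the generators -/
def defL : List (List ℕ) :=
  [substW HeKSD.vups decH (HeKSD.wups .p) ++ [1], substW HeKSD.vups decH (HeKSD.wups .q) ++ [3],
    substW HeKSD.vups decH (HeKSD.wups .r) ++ [5], substW HeKSD.vups decH (HeKSD.wups .s) ++ [7]]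

/-- the relators of the Held group in the four generators, and the words of the generators -/
def tzL : List (List ℕ) := HeS44.bases.map (substW HeKSD.vups decH) ++ defL

def allL : List (List ℕ) := HeKSD.exL ++ HeKSD.ceL ++ tzL

abbrev RP : Set (FreeGroup Gen) := relSet decK allL
abbrev P : Type := PresentedGroup RP

set_option maxHeartbeats 4000000 in
theorem chk : ∀ b ∈ allL, fixesB HeS44.mdata pts (substW HeKSD.wups decK b) = true := by
  decide +kernel

/-- the seven involutions, written in the four generators and back, are themselves -/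
def idL : List (List ℕ) :=
  [substW HeKSD.wups decK (HeKSD.vups .a) ++ [1], substW HeKSD.wups decK (HeKSD.vups .b) ++ [3],
    substW HeKSD.wups decK (HeKSD.vups .c) ++ [5], substW HeKSD.wups decK (HeKSD.vups .d) ++ [7],
    substW HeKSD.wups decK (HeKSD.vups .e) ++ [9], substW HeKSD.wups decK (HeKSD.vups .f) ++ [11],
    substW HeKSD.wups decK (HeKSD.vups .g) ++ [13]]

theorem chk2 : ∀ b ∈ idL, fixesB HeS44.mdata pts b = true := by decide +kernel

theorem hone (w : List ℕ) (hw : fixesB HeS44.mdata pts w = true) :
    PresentedGroup.mk RH (wordF decH w) = 1 := by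
  obtain ⟨h1, h2⟩ := fixesB_sound hw
  have hpts : pts = 0 :: HeS.specs.map fun s => s.b := rfl
  refine word_eq_one_of_base HeS44.coding HeS44.hR1 HeS44.model_ok 4030387200 (by norm_num)
    HeS.card_top HeS.specs HeS.levels_ok (by decide) w h1 ?_ ?_
  · exact h2 0 (by rw [hpts]; exact List.mem_cons_self)
  · intro s hs
    exact h2 s.b (by rw [hpts]; exact List.mem_cons_of_mem _ (List.mem_map_of_mem hs))

theorem exists_phi : ∃ φ : P →* H,
    ∀ x, φ (PresentedGroup.of x) = PresentedGroup.mk RH (wordF decH (HeKSD.wups x)) :=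
  exists_hom_of_subst HeS44.coding HeS44.hR1 HeS44.model_ok 4030387200 (by norm_num) HeS.card_top
    HeS.specs HeS.levels_ok (by decide) RP allL (fun r hr => hr) HeKSD.wups pts rfl chk

/-- the value of a homomorphism on a word -/
theorem hom_word {α : Type} {R : Set (FreeGroup α)} {dec : ℕ → Letter α} {Q : Type*} [Group Q]
    (θ : PresentedGroup R →* Q) (w : List ℕ) :
    θ (PresentedGroup.mk R (wordF dec w)) = evc (fun x => θ (PresentedGroup.of x)) dec w := by
  rw [← evc_of, Schur.map_evc]

/-- words in words -/
theorem evc_mk_subst {α β : Type} {R : Set (FreeGroup α)} {dec : ℕ → Letter α} {enc : α → ℕ}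
    {nc : ℕ} (hcod : Coding dec enc nc) {dec' : ℕ → Letter β} (σ : β → List ℕ) (b : List ℕ) :
    evc (fun x => PresentedGroup.mk R (wordF dec (σ x))) dec' b =
      PresentedGroup.mk R (wordF dec (substW σ dec' b)) := by
  have h2 : (fun x => PresentedGroup.mk R (wordF dec (σ x))) =
      fun x => evc (PresentedGroup.of (rels := R)) dec (σ x) := funext fun x => (evc_of R dec _).symm
  rw [h2, ← evc_substW _ hcod, evc_of]

theorem psi_rel : ∀ r ∈ RH,
    FreeGroup.lift (fun x => PresentedGroup.mk RP (wordF decK (HeKSD.vups x))) r = 1 := by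
  intro r hr
  obtain ⟨b, hb, rfl⟩ := HeS44.hR1 r hr
  rw [lift_wordF, evc_mk_subst HeKCod.coding]
  refine PresentedGroup.one_of_mem (mem_relSet _ _ ?_)
  unfold allL tzL
  exact List.mem_append_right _ (List.mem_append_left _ (List.mem_map_of_mem hb))

noncomputable def ψ : H →* P := PresentedGroup.toGroup psi_rel

theorem ψ_of (x : Cfsg.Spor.He.Gen) :
    ψ (PresentedGroup.of x) = PresentedGroup.mk RP (wordF decK (HeKSD.vups x)) :=
  PresentedGroup.toGroup.of _

theorem ψ_word (w : List ℕ) : ψ (PresentedGroup.mk RH (wordF decH w)) =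
    PresentedGroup.mk RP (wordF decK (substW HeKSD.vups decH w)) := by
  rw [hom_word]
  have h : (fun x => ψ (PresentedGroup.of x)) =
      fun x => PresentedGroup.mk RP (wordF decK (HeKSD.vups x)) := funext ψ_of
  rw [h, evc_mk_subst HeKCod.coding]

/-- a word followed by the inverse of a letter is trivial: the word is the letter -/
theorem eq_of_of_snoc {α : Type} {R : Set (FreeGroup α)} {dec : ℕ → Letter α} (w : List ℕ)
    (c : ℕ) (x : α) (hc : dec c = (x, false))
    (h : PresentedGroup.mk R (wordF dec (w ++ [c])) = 1) :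
    PresentedGroup.mk R (wordF dec w) = PresentedGroup.of x := by
  rw [← evc_of, evc_append, evc_cons, evc_nil, one_mul, evc_of, hc] at h
  have h2 : gl (PresentedGroup.of (rels := R)) ((x, false) : Letter α) =
      (PresentedGroup.of x)⁻¹ := by simp [gl]
  rw [h2] at h
  exact (inv_mul_eq_one.mp h).symm

theorem ψ_surjective : Function.Surjective ψ := by
  rw [← MonoidHom.range_eq_top, eq_top_iff, ← PresentedGroup.closure_range_of RP,
    Subgroup.closure_le]
  rintro _ ⟨k, rfl⟩
  refine ⟨PresentedGroup.mk RH (wordF decH (HeKSD.wups k)), ?_⟩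
  rw [ψ_word]
  have hdef : ∀ b ∈ defL, PresentedGroup.mk RP (wordF decK b) = 1 := fun b hb =>
    PresentedGroup.one_of_mem (mem_relSet _ _ (by
      unfold allL tzL
      exact List.mem_append_right _ (List.mem_append_right _ hb)))
  cases k
  · exact eq_of_of_snoc (substW HeKSD.vups decH (HeKSD.wups .p)) 1 .p rfl
      (hdef _ (by simp only [defL, List.mem_cons, true_or, or_true]))
  · exact eq_of_of_snoc (substW HeKSD.vups decH (HeKSD.wups .q)) 3 .q rfl
      (hdef _ (by simp only [defL, List.mem_cons, true_or, or_true]))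
  · exact eq_of_of_snoc (substW HeKSD.vups decH (HeKSD.wups .r)) 5 .r rfl
      (hdef _ (by simp only [defL, List.mem_cons, true_or, or_true]))
  · exact eq_of_of_snoc (substW HeKSD.vups decH (HeKSD.wups .s)) 7 .s rfl
      (hdef _ (by simp only [defL, List.mem_cons, true_or, or_true]))

theorem phi_psi (φ : P →* H)
    (hφ : ∀ x, φ (PresentedGroup.of x) = PresentedGroup.mk RH (wordF decH (HeKSD.wups x)))
    (x : Cfsg.Spor.He.Gen) : φ (ψ (PresentedGroup.of x)) = PresentedGroup.of x := by
  rw [ψ_of, hom_word]
  have h : (fun k => φ (PresentedGroup.of k)) =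
      fun k => PresentedGroup.mk RH (wordF decH (HeKSD.wups k)) := funext hφ
  rw [h, evc_mk_subst HeS44.coding]
  have hid : ∀ b ∈ idL, PresentedGroup.mk RH (wordF decH b) = 1 := fun b hb => hone b (chk2 b hb)
  cases x
  · exact eq_of_of_snoc (substW HeKSD.wups decK (HeKSD.vups .a)) 1 .a rfl
      (hid _ (by simp only [idL, List.mem_cons, true_or, or_true]))
  · exact eq_of_of_snoc (substW HeKSD.wups decK (HeKSD.vups .b)) 3 .b rfl
      (hid _ (by simp only [idL, List.mem_cons, true_or, or_true]))
  · exact eq_of_of_snoc (substW HeKSD.wups decK (HeKSD.vups .c)) 5 .c rfl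
      (hid _ (by simp only [idL, List.mem_cons, true_or, or_true]))
  · exact eq_of_of_snoc (substW HeKSD.wups decK (HeKSD.vups .d)) 7 .d rfl
      (hid _ (by simp only [idL, List.mem_cons, true_or, or_true]))
  · exact eq_of_of_snoc (substW HeKSD.wups decK (HeKSD.vups .e)) 9 .e rfl
      (hid _ (by simp only [idL, List.mem_cons, true_or, or_true]))
  · exact eq_of_of_snoc (substW HeKSD.wups decK (HeKSD.vups .f)) 11 .f rfl
      (hid _ (by simp only [idL, List.mem_cons, true_or, or_true]))
  · exact eq_of_of_snoc (substW HeKSD.wups decK (HeKSD.vups .g)) 13 .g rfl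
      (hid _ (by simp only [idL, List.mem_cons, true_or, or_true]))

theorem ψ_injective : Function.Injective ψ := by
  obtain ⟨φ, hφ⟩ := exists_phi
  have hcomp : φ.comp ψ = MonoidHom.id H := by
    apply PresentedGroup.ext
    intro x
    exact phi_psi φ hφ x
  intro a b hab
  have := congrArg φ hab
  have ha : φ (ψ a) = a := DFunLike.congr_fun hcomp a
  have hb : φ (ψ b) = b := DFunLike.congr_fun hcomp b
  rw [ha, hb] at this
  exact this

/-- the isomorphism -/
noncomputable def iso : H ≃* P := MulEquiv.ofBijective ψ ⟨ψ_injective, ψ_surjective⟩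

theorem card_P : Nat.card P = 4030387200 := by
  rw [← Nat.card_congr iso.toEquiv]
  exact HeS.main.2

instance : Finite P := Nat.finite_of_card_ne_zero (by rw [card_P]; norm_num)

end Cfsg.Agent.Helper4.TC.HeKIso
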