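import Cfsg.Agent.Lib.Helper4.TC.Perm
import Cfsg.Agent.Lib.Helper4.TC.HeKCod
import Cfsg.Agent.Lib.Helper4.TC.HeKS4Fin
import Cfsg.Agent.Lib.Helper4.TC.HeKS4CM
import Cfsg.Agent.Lib.Helper4.TC.HeKS4CE0
import Cfsg.Agent.Lib.Helper4.TC.HeKS4CE1
import Cfsg.Agent.Lib.Helper4.TC.HeKS4CE2
import Cfsg.Agent.Lib.Helper4.TC.HeKS4CE3
import Cfsg.Agent.Lib.Helper4.TC.HeKS4CE4
import Cfsg.Agent.Lib.Helper4.TC.HeKS4CE5
import Cfsg.Agent.Lib.Helper4.TC.HeKS4CE6
import Cfsg.Agent.Lib.Helper4.TC.HeKS4CE7
import Cfsg.Agent.Lib.Helper4.TC.HeKS4CF0

set_option autoImplicit false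
set_option maxRecDepth 100000
set_option linter.unusedVariables false

namespace Cfsg.Agent.Helper4.TC.HeKS4

open Cfsg.Agent.Helper4.TC

theorem allE0 : ∀ k, k < 32768 → justE data 0 k = true := by
  intro k hk
  by_cases hh1 : k < 14621
  · skip
    exact edgeRange_sound data 0 14621 0 e0_c0 k (by omega) (by omega)
  · skip
    exact edgeRange_sound data 0 18147 14621 e0_c1 k (by omega) (by omega)

theorem allE1 : ∀ k, k < 32768 → justE data 1 k = true := by
  intro k hk
  by_cases hh1 : k < 14610
  · skip
    exact edgeRange_sound data 1 14610 0 e1_c0 k (by omega) (by omega)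
  · skip
    exact edgeRange_sound data 1 18158 14610 e1_c1 k (by omega) (by omega)

theorem allE2 : ∀ k, k < 32768 → justE data 2 k = true := by
  intro k hk
  by_cases hh1 : k < 13390
  · skip
    exact edgeRange_sound data 2 13390 0 e2_c0 k (by omega) (by omega)
  · skip
    exact edgeRange_sound data 2 19378 13390 e2_c1 k (by omega) (by omega)

theorem allE3 : ∀ k, k < 32768 → justE data 3 k = true := by
  intro k hk
  by_cases hh1 : k < 13808
  · skip
    exact edgeRange_sound data 3 13808 0 e3_c0 k (by omega) (by omega)
  · skip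
    exact edgeRange_sound data 3 18960 13808 e3_c1 k (by omega) (by omega)

theorem allE4 : ∀ k, k < 32768 → justE data 4 k = true := by
  intro k hk
  by_cases hh1 : k < 14898
  · skip
    exact edgeRange_sound data 4 14898 0 e4_c0 k (by omega) (by omega)
  · skip
    exact edgeRange_sound data 4 17870 14898 e4_c1 k (by omega) (by omega)

theorem allE5 : ∀ k, k < 32768 → justE data 5 k = true := by
  intro k hk
  by_cases hh1 : k < 14798
  · skip
    exact edgeRange_sound data 5 14798 0 e5_c0 k (by omega) (by omega)
  · skip
    exact edgeRange_sound data 5 17970 14798 e5_c1 k (by omega) (by omega)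

theorem allE6 : ∀ k, k < 32768 → justE data 6 k = true := by
  intro k hk
  by_cases hh1 : k < 16785
  · skip
    exact edgeRange_sound data 6 16785 0 e6_c0 k (by omega) (by omega)
  · skip
    exact edgeRange_sound data 6 15983 16785 e6_c1 k (by omega) (by omega)

theorem allE7 : ∀ k, k < 32768 → justE data 7 k = true := by
  intro k hk
  by_cases hh1 : k < 16713
  · skip
    exact edgeRange_sound data 7 16713 0 e7_c0 k (by omega) (by omega)
  · skip
    exact edgeRange_sound data 7 16055 16713 e7_c1 k (by omega) (by omega)

theorem allE : ∀ c k, c < data.nc → k ≤ data.mask → justE data c k = true := by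
  intro c k hc hk
  have hc' : c < 8 := hc
  have hk' : k < 32768 := Nat.lt_succ_of_le hk
  interval_cases c
  · exact allE0 k hk'
  · exact allE1 k hk'
  · exact allE2 k hk'
  · exact allE3 k hk'
  · exact allE4 k hk'
  · exact allE5 k hk'
  · exact allE6 k hk'
  · exact allE7 k hk'

theorem allM : ∀ k, k ≤ data.mask → justM data k = true := by
  intro k hk
  have hk' : k < 32768 := Nat.lt_succ_of_le hk
  by_cases hh1 : k < 15190
  · skip
    by_cases hh2 : k < 10072
    · skip
      exact mergeRange_sound data 10072 0 m_c0 k (by omega) (by omega)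
    · skip
      exact mergeRange_sound data 5118 10072 m_c1 k (by omega) (by omega)
  · skip
    by_cases hh3 : k < 19986
    · skip
      exact mergeRange_sound data 4796 15190 m_c2 k (by omega) (by omega)
    · skip
      exact mergeRange_sound data 12782 19986 m_c3 k (by omega) (by omega)

theorem rows_all : ∀ k, k < M → isFinal data k = true → rowOK data M k data.nc = true := by
  intro k hk
  have hk' : k < 21917 := hk
  by_cases hh1 : k < 3283
  · skip
    exact rowsRange_sound data M 3283 0 rows0 k (by omega) (by omega)
  · skip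
    by_cases hh2 : k < 11211
    · skip
      exact rowsRange_sound data M 7928 3283 rows1 k (by omega) (by omega)
    · skip
      exact rowsRange_sound data M 10706 11211 rows2 k (by omega) (by omega)

theorem cnt_ok : countFinal data M 0 0 = n := by
  exact cnt0

/-- the index of the subgroup generated by `subsL` in the group with relators `bases` -/
theorem bound : Finite (PresentedGroup (relSet HeKCod.dec bases) ⧸ (Subgroup.closure (relSet HeKCod.dec subsL)).map (PresentedGroup.mk (relSet HeKCod.dec bases))) ∧
    Nat.card (PresentedGroup (relSet HeKCod.dec bases) ⧸ (Subgroup.closure (relSet HeKCod.dec subsL)).map (PresentedGroup.mk (relSet HeKCod.dec bases))) ≤ n :=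
  tc_bound data bases subsL rots HeKCod.coding (mem_relSet bases) (mem_relSet subsL) words_ok allE allM M n fin0_ok (by decide) (by decide) cnt_ok rows_all

end Cfsg.Agent.Helper4.TC.HeKS4
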