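import Cfsg.Agent.Lib.Helper4.TC.HeKS4T0
import Cfsg.Agent.Lib.Helper4.TC.HeKS4T1
import Cfsg.Agent.Lib.Helper4.TC.HeKS4T2
import Cfsg.Agent.Lib.Helper4.TC.HeKS4T3
import Cfsg.Agent.Lib.Helper4.TC.HeKS4T4
import Cfsg.Agent.Lib.Helper4.TC.HeKS4T5
import Cfsg.Agent.Lib.Helper4.TC.HeKS4T6
import Cfsg.Agent.Lib.Helper4.TC.HeKS4T7

set_option autoImplicit false
set_option maxRecDepth 100000
set_option linter.unusedVariables false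

namespace Cfsg.Agent.Helper4.TC.HeKS4

open Cfsg.Agent.Helper4.TC

def m_0 : ℕ := 0x602a43dc50f4408054800001ff80c0a9000003fe810152000007fc0102a400000ff600054800001fe81c0a8800003fc830151000007f80502a200000fee08054400001fd80c0a8c0264207808151000007f40002a2ffdb06520e054000001fc8180a8000003f8828150000007f00402a000000fde04054000001fb8040a8000003f68001506f5681fb07029e2a4706700c053c00001fa8140a7800003f482014f000007e803029e00000fce04053c00001f98000a7800003f283814e000007e405029c00000fc608053800001f880c0a7000003f081014e000007e001029c00000fbe000538a07611681c0a6800003ee83014d000007dc05029a00000fb6060534128a1f60080a6800003ec80814d01d2874e00029a00000fae0e0530765e1d48180a62424c0e482014c000007d403029800000fa604053000001f48040a6000003e880014c02f685cc07029649d906d00c052c00001f38140a5800003e682014b26f687ca03029600000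f9602052c00001f28000a5800003e483814a6faa802d020294dbb90dd8020529b7761bac000a536ef4375038149000007c406029200000f860a052400001f08100a4800003e0818149000007c002029200000f7e02052400001ef81c0a4000003de83014821ae846b05029000000f7608052000001ee80c0a4000003dc810148000007b800029009e908820c051c00001ed8140a3800003da820147000007b403028e00000f6604051c00001ec8040a3800003d8800147000007b007028c00000f5e0c051800001eb8140a3000003d681814638d381dd02028c00000f5602051800001ea8000a30ca6c1c1838145000007a806028a676b0abc080514b04e18cc0c0a2800003d28101457300878a01028a00000f4600051400001e881c0a2000003d08301446744821c0502886a3d08d2080510e3a60e480c0a23cb4c0a08081440000079c0002884a9f0bb80e050c00001e68180a1800003cc8281430000079804028671c1009e04050c86461e54040a190c843c780014338df85ec0702843dcb07a60c050800001e48140a1000003c882014233c78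30903028400000f1e04050800001e38040a112a8c0780381412234806f06028200000f160a050400001e28100a0800003c481814100000788020282f2d1028800050400001e181c0a0000003c28281400000078404028000000f060605011a22039c080a0000003c0808140000007800002808d17069a0c04fc00001df81409f800003be82013f0000077c03027e00000ef60404fc00001de80409f800003bc80013f0000077807027c00000eee0c04f800001dd81009f37ca413401813e8c29831902027c98cb055c0204f800001dc80009f4632408603813d322784a506027a00000ede0a04f400001db81009ec56ac09401813d821e840801027a00000ed60004f400001da81c09e282ec30a83013c0000076805027800000ece0804f147da19200809e000003b280813c81bf816700027800000ec60804ee2e5200c00c09dc5c643a301013b8b8d8745010277171d0e880e04e800001d781809d000003ae82813a8b02846604027400000eb60604e800001d680809d214fc39880013a8071853007027200000eae0a04e400001d581009c80000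3aa8181390000075402027200000ea60204e400001d480009c800003a88301380000075005027000000e9e0804e000001d380c09c36eac1a98101380000074c01027000000e960004e000001d281c09b800003a48301370000074805026edbad049e0604dc00001d180809b800003a28081370000074400026f171f00620e04d800001d081809b000003a08201360000074003026c00000e7e0404d939221b840409b0000039e8001360000073c07026a00000e760c04d400001ce81409a8000039c820135358a85ff03026a00000e6e0004d400001cd81c09a45d2c30303013416a5863205026800000e660804d22e4e0d281c099800003988301330000073005026600000e5e0804cc00001cb80c099800003968001330000072c030265187b06c40804c631d600500c098c63b40098101319176865b040261187d06ae0e04b400001c98140968000039282012d0000072403025a445908a40404b6215a0880040968000039080012d0000072006025800000e3e0a04b000001c78100960000038e81812c6f9c86b702025800000e360204b13bd2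0e88000960000038c83812b0000071806025600000e2e0a04ae2b7e16200c0958000038a81012b00000714010256e00903c80004ac00001c481c0950000038883012a68048277040255173506a80604a800001c38040954804c0ac00012a0000070c0702521fef0dd40c04a400001c2814094b7d2c30c020129549384fc030253187f06a80004a631020d3c1c09427614126830128299c84d605025115af027a0804a000001c08080940000038080812800000700000251188306900e049c00001bf81809399a141cd8281278b0780b004024e00000df606049e310e0d18080938000037c808127000006f807024c539501c80a04990ea60d9c100930000037a818126000006f402024c00000de60204990eae0f04000930000037883012506d1811105024a00000dde08049400001bb80c092b6edc019810125000006ec01024a05b70b5e00049400001ba81c09200000374830124000006e805024800000dce0604910a3218b40809200000372808124000006e4000248a1db0c160e048c00001b881809180000370820123000006e00302460000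0dbe04048c00001b780409198e142e6800123000006dc07024400000db60c048800001b68140910000036c820122000006d803024400000dae02048a2aea0200000910000036a838121000006d40602422b650bae0a0485520603341009080000368810121000006d001024200000d9e000486310a0d1c1c0902b184328030120000006cc05024000000d9608048000001b280c09000000364810120000006c800024000000d8e08047c000007740c08f800000ee01011f8641828101023e9e3903b400047c000007641808f0000035402811e892486a703023d13bd0d7804047a24861a900408f0000034f80011e892b86a607023a9f4903960c04753e9607281008e800000e481811d6d81867f02023aa193038e020475b72600f80008ea8cb408083811c4e3581c4060238a1f303860a047138da07081008e2783c03181811c000001c001023917670d5800047144e606f81808d8000035401011b8bab86a4010237176d0d3e00046e2ed21a941c08d3758400903011a000002e5050235117102b808046a248a00b00c08d45d9401601011a6d5f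82e101023517590d3e0a046623fa00941008cc47c431201811988f9862302023312390c1200046623f218801408c349e402a02011800000053030230d2b100040404619fca01480408c000000288001186957804400022d1297022c060456284204580408a800000898001158c63811607022912a1000c080452253204580008a44a740890181130000002b0102260000005604044a283e0458000890000001583811106d681250502230e0d0b6008044400001a280c088800003448101110000068801022200000d0e00044400001a1818088079540d78281104f63846004022000000d06060441b62a02280808800000340808110000006800002209f4d00a80e043c000019f8180878000033e82810f0000067c03021f1889065404043e29e216d0040878000033c80010f0000067807021c8d0503d40c0439435218c0140874639c0af82010e0000067403021c00000ce602043942c607b4000870000033882010d8c69808807021800000cde0c0430000019b81408637ec402102010c8c6b844203021918d908c0040430000019a8040864623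409f03810b0000066806021600000cce0a042e40360578100858000033281810b5cfa84f702021718df069400042c000019880c0854646c0040081090000000105021122c5010e080422483a0584040840000032b800108916d865b04020f190d002406041e45c2058408083c8b8c1af0081070000002702020c0000004e000418000000680c082c911416e000105922382d9070206ac550a540a040c00001948100819997c0ff018103194583800202070f31038602040c00001938000818dbd41c38301020000064c050204a3e70914080408000019280c081373e430d0101020000064801020400000c8e000409b9fa181c1c080800003228301013357820b05020200000c860604040000190808080c3f6418e0081016fe0804500020200000c7e0e0400000018f8180800000031e82010082728497030200a2010400040400000018e80408045e24169800100000006380601fe000005ca0603fa48820b700c07ec910c0098380fb3db381680501f600000c660803ec000018c80c07d800003188100fb000006300101f600000c5e0003ec000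018b81c07d000003168300fa316080d30501f474a108400603e8000018a80807d000003148080fa000006280001f4db95007a0e03e5437e06dc1807cb4e2414e8200f950e1810c0301f2a1c503660403e623ea18240407cc47dc0160000f950e381b10701f000000c3e0c03e0000018781407c4480417b0200f8519e80bc0301f0dbb306cc0203e0000018680007c0000030c8380f750e482030601ee00000c2e0a03dc000018581007b8000030a8100f750e785090101ee00000c260003dc000018481c07b000003088300f6000006100501ec00000c1e0803d8000018380c07b000003068100f60000060c0101ec00000c160e03d567ba0af81407ab57e41700200f551ed81f60301eaa65703ea0403d5b7620da40007aa8f840f90300f4246083c80501e800000c060803d0000018080c07a000003008100f4000006000101e800000bfe0003d0d62e07801c079800002fe8300f32ac7852c0501e600000bf60603cc54be17c808079800002fc8080f3166183f30001e600000bee0e03c8000017d8180790cd741c20200f2182d83740301e4336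1099c0403c8000017c8040790cd940ec8000f2000005f00701e200000bde0c03c4000017b8140788e7840780200f1255280ef0301e22c0106580203c4000017a800078bc7c41c60380f0000005e80601e000000bce0a03c000001798100780e77c0788100f0000005e40101e0395102b60003c0953205081c077800002f08300ef325084f30501de4a9b01e20803bc000017780c0778be3c2968100ef000005dc0101de4aa102860e03b80000176818077000002ec8280ee000005d80401dc00000bae0603b8622e081808077000002ea8000ee167a83850701da00000ba60a03b40000174810076800002e88180ed31c585590201da00000b9e0203b40000173800076800002e68300ec000005cc0501d800000b960803b0000017280c07634fbc24a8100ec000005c80101d800000b8e0003b0000017181c075800002e28300eb000005c40501d600000b860603ae2a2a0c0408075800002e08080eb451a809d0001d600000b7e0e03a8000016f818075000002de8280ea6fb282170401d400000b760603a8000016e80407541d1c2d30000ea000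005b80701d200000b6e0c03a4000016d814074c53f40950200e9000005b40201d314ff02520203a62a02023400074800002d88380e8000005b00601d000000b5e0a03a0000016b810074000002d68180e88a83808c0201d000000b560203a0000016a81c073800002d48300e7000005a80501cf077f064608039c000016980c073c1ce406d0100e747f381400001ce00000b460e03980000168814073000002d08200e6000005a00301cc00000b3e0403980000167804073000002ce8000e60000059c0601ca45b30a480a03940000166810072800002cc8180e5000005980201ca00000b2e020395045e111800072a0a440e38380e4000005940601c85393024c080390000016480c072000002c88100e46dec82180101c87c3f08d4000390000016381c071b26ac0700300e30000058c0501c70fc70ab608038c000016280c071800002c48080e3000005880001c600000b0e0a038a30d205bc10071463940040100e28c36816d0101c5186f02d800038a30e205ac1c070800002c08300e1000005800501c200000afe080384000015f80c070800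002be8100e10000057c0101c200000af60e0380000015e8180703269c0718280e0000005780401c000000aee060380000015d808070000002ba8000e0000005740701be00000ae60a037c000015c81006fc4eb41730180df000005700201be00000ade02037c000015b80006f800002b68300de0000056c0501bc9083055e080378000015a80c06f000002b48100de000005680101bc00000ace000378000015981c06e800002b28300dd543185110501ba00000ac6060374000015880806eaa1c42838080dd000005600001ba00000abe0e0370000015781806e000002ae8200dc6f7582250301b8e0170392040370000015680406e000002ac8000dc44ad83ac0701b6c98709000a036d931211fc1006db262c23f0100db64c6847c0101b6c98f08f60e0368000015481806d000002a88280da000005500401b400000a9e04036a0e6a039c0406d000002a68380d90000054c0501b200000a96080364000015280c06c800002a48100d9000005480101b200000a8e000364000015181806c000002a28280d8000005440401b000000a8606036167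fe00f40806c26e9c2308080d8447181c40001b000000a7e0e035cea4208181806b8000029e8280d70000053c0301af07c905da04035c000014e80406b8000029c8000d783e682aa0401ad0765002204035a0ebe0afc0406b41d8415f0380d5524d849f0601aa00000a660a0354000014c81006a800002988100d5596583180101aa00000a5e0e0350000014b81806a000002968280d40000052c0401a906210140040350000014a80406a000002948380d3315d80fa0501a600000a4e08034ca28206a808069800002928080d3000005240001a662bd0a34060348f1b213b01c068800002908300d1000005200501a200000a3e06034630e60564080688000028e8080d1506084800001a200000a360e03409b0213d8180681813c2810200d0000005180301a03efb09b604034000001458040680000028a8000d00000051407019e00000a260a033c0000144810067800002888180cf0000051002019e00000a1e02033c0000143800067800002868380ce3f65848306019c618705360a0338000014280c067000002848100ce0000050801019c00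000a0e000338000014181c066972a42500300cd0000050404019aa87702420603340000140808066800002808080cd0000050000019a000009fe0e0330000013f8180660000027e8280cc000004fc040198000009f6060330000013e8040662a4f41340000cc000004f8070196000009ee0c032c000013d8140658000027a8200cb000004f4020196000009e602032c000013c800065800002788380ca3c69801f0601943a6502c60a0328000013b810065000002768180ca000004ec020194000009d6020329511a12041c064a40a41550300c90e9781ae050192000009ce080324000013980c064800002728100c9000004e4000192a92304d60c03209782119c14064000002708200c8000004e0030190000009be04032000001378040640000026e8000c8000004dc07018e000009b60c031c00001368140638000026c8180c7000004d802018e000009ae02031c94c20634000638000026a8380c61ab980a106018c000009a6080318000013480c0630d5fc1610100c6000004d001018c0000099e000318000013381c062800002668300c500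0004cc05018a00000996080314000013280c062800002648080c5000004c800018a0000098e0e03100000131818062000002628280c4000004c40401880000098604031000001308040620f5740ca0000c4194e80930701863d2d00e00c030c000012f8140618000025e8200c3000004bc0301863d5f087204030c6546025c040618ca9404a0380c2000004b80601840000096e0a030870561218100610000025a8180c2000004b402018400000966000308000012c81c060800002588280c1000004b00401820000095e060304000012b808060a58dc0d40080c1000004ac000182000009560c0300000012a814060000002548200c0000004a80301800000094e0403000000129804060000002528000c0000004a407017e763f083e0c02fc000012881405f800002508180bf000004a002017e0000093e0202fc000012780005f8000024e8380be0000049c06017c000009360a02f8000012681005f27c840cb0180be0000049801017c0000092e0002f9926e10cc1c05ea41ec1350300bd0000049405017a000009260802f4000012480805e80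0002488080bd0000049000017a0000091e0e02f0000012381805e000002468280bc51a880f8040178000009160602f0000012280805e000002448080bc000004880701760000090e0c02ec000012181405d800002428200bb00000484030176000009060402ec000012080005d800002408380ba00000480050174000008fe0802e8000011f80c05d326640108100ba0000047c010174000008f60002e9932210c01805c8000023c8280b900000478040172779b06160602e49936112c0805c8000023a8080b900000474000172000008e60202e21072004c1c05b800002388300b70000047005016e000008de0802dc000011b80c05b800002368080b783f2845600016e000008d60e02d8000011a81805b000002348280b65d4983fc04016c000008ce0402d8000011980405b000002328000b60000046407016a8c8b08780c02d4000011881405a800002308200b50000046003016a000008be0402d5185611200405a8000022e8380b44b7681c0060168000008b60a02d0000011681005a0000022c8180b483f38456020168000008ae0002d00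00011581c059945c40cc8280b300000454040166000008a60402cc0000114804059800002288000b3000004500601640000089e0a02c80000113810059000002268180b26eab82d5020164000008960202c800001128000591321c1410380b1000004480601620000088e0a02c4000011180c058800002228100b100000444010162000008860002c4000011081c058000002208300b000000440040161160d024e0602c0000010f8080580000021e8080b00000043c000160dfdf00ca0e02bc53160df8180578000021c8280af0000043804015eb3f303260602bc000010d800057c52641778380ae0000043406015c000008660a02b8000010c810057000002188180ae0000043000015c0000085e0e02b4000010b814056800002168200ad0000042c03015a6733063c0402b4000010a804056800002148000ad000004280601587dd504dc0a02b00000109810056000002128180ac00000424020158000008460202b0fbba0f5800056000002108380ab000004200601560000083e0a02ae314e01c40c0558000020e8100ab0000041c0101560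00008360002ac000010681c0550000020c8300aa000004180401540000082e0602a800001058080550000020a8080aa00000414000154000008260e02a40000104818054800002088280a9000004100401520000081e0402a40000103804054800002068380a80000040c060150000008160a02a00000102810054000002048100a8000004080101500000080e0e029c0000101818053800002028280a70000040404014e000008060e02980000100814053000002008200a60000040003014c000007fe04029800000ff804053000001fe8000a6000003fc06014a000007f60a029400000fe810052800001fc8180a551d481f902014a000007ee02029400000fd800052a82e401a8380a4000003f4060148000007e60a0292058a0f700c05241f0c1510100a4000003f0010148000007de0002920f8a0ac01c051800001f68300a3000003ec040146000007d606028c00000fa808051800001f48080a351df8229000146000007ce0e028800000f9818051000001f28280a2000003e4040144000007c606028800000f88000513573c0aa8380a10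00003e00601423575018c0a028400000f7810050800001ee8100a1000003dc010142000007b600028465120e041c050000001ec8300a0000003d8050141061b01a808028000000f580c050452241528100a0000003d4010140000007a60e027c00000f481404f800001e882009f000003d003013e604903bc04027c00000f380404f800001e680009f000003cc07013c000007960c027800000f281404f000001e481809e000003c802013c0000078e020278918a077c0004f000001e283809d000003c406013a0000078608027400000f080c04e800001e081009d000003c001013a0000077e000275128a03ac1c04e000001de83009c000003bc0501380000077608027060020de80c04e224e416400809c000003b80001380000076e0e026dbf7600440804db73bc16300809b6e7882c5000136dcf305880e026800000ec81804d000001d882809a000003b00401340000075e06026800000eb80804d000001d680809a000003ac0701328c95042a0c026400000ea81404c800001d4820099000003a80301329267045604026400000e980004ca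328415b830098000003a40501300000074608026000000e880c04c27aec0c9010098000003a00101300000073e00026000000e781c04b800001ce8300970000039c05012e0000073606025ccd0e0e080804bbb9e41bb8080973344834500012e668b06fa0e02585dee00e01804b000001ca8200960000039403012c0000072604025800000e480404b1c77c1b20000960000039007012ad075041a0c02540000002c1404ab41dc1060200956aaa820b03012ad07d0414020255a3c208200004ab41ec103838094000003880601280000070e0a025000000e181004a000001c281009400000384010128000007060002506552030c1c049800001c083009300000380050126000006fe08024c00000df80c0498ca5417a8100930000037c01012632a701880e024800000de818049000001bc8280920000037804012466a3041006024860560c9408049280f41a280009200000374070122000006e60a024400000dc810048800001b881809100000370020122000006de02024400000db800048800001b68300900000036c050120000006d6080240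00000da80c04828f740fa01009000000368010120000006ce00024000000d981c047800001b283008f0000036405011edeef03f206023c00000d8808047800001b080808f0000036000011f172f06ae0a023a320e00040c0474632c01800808e8c66802e00011d18cf005a0e023400000d6818046800001ac82808d0000035804011a000006ae04023400000d5804046800001aa80008d8a8480e9070118000006a60c023000000d4814046000001a882008c000003500301180000069e0402322a1603a004046000001a683808b0000034c060116000006960a022c00000d2810045800001a481808b000003480201160000068e00022c00000d181c045000001a282808a0000034404011400000686060229bba20604080453664c08800808a51b2831c000114ddd7032e0c022400000cf8140448000019e8200890000033c0301120000067604022400000ce8040448000019c800089000003380701100000066e0c022000000cd8100440000019a818088000003340201111899010202022000000cc800044000001988180878c7a810e01010f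18f9021800021e31f6042c1c043000001968300860000032c05010c0000065608021800000ca808043000001948080860000032800010c0000064e0e021400000c9818042800001928280850000032404010a0000064606021400000c880804280000190808085000003200701080000063e0c021000000c781404225a2c0cf8200840000031c0301080000063604021000000c68000420000018c838083000003180501060000062e08020c00000c580c0418000018a810083000003140101060000062600020c00000c481804100000188828082000003100401040000061e0602090d5e0c2c080410000018680808242bf8211000104000006160e020400000c28180408000018482808100000308030103188b0110040205be4209b0040408000018280008100000304070100000006060c020000000c0810040000001808180808ab68134020100000005fe02020000000bf800040455cc09103807f000002fc0600fe000005f60a01fdbe4a09ac1003f8000017c81807f000002f80000fe000005ee0e01f945d609881803f0000017a82807e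000002f40400fca7d704ce0e01f400000bc81803e8000017882807d8420801b0400fa000005de0601f400000bb80003e8000017683807c4eb182a10500f89d6505400801f145d20a7c0c03e27fc414f01007c8e0081b60100f89e3305380001f13ace0a6c1803d8000000002807b6dac815c0400f7109905be0601ee2d7a0b7c0803d8000000600807b51ec800b0000f6db0100580c01ea31de00ac1403d463c401501807a917c82d90200f4000000020201e80000009c0003d4642c0090080790000015e0100f00000004e0401de496200041c03b2881c1410300766ccc81db0500eca23b04340801d9bb2a01881c03a80000168828075000002d00400ea0000059e0601d400000b380803a80000166808075000002cc0000ea000005960c01d000000b281403a00000164820074000002c80300e8dced002e0401d000000b180403a00000162800074000002c40700e6a0f704540c01cc00000b0814039c1d74010018073000002c00200e60000057e0201cd47ae07e000039a855c100838072000002bc0600e4000005760801c800000ae80c039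0000015c810072000002b80100e40000056e0001c800000ad81c0388000015a830071000002b40500e2000005660801c630c202ac0c03880000158808071000002b00000e20000055e0e01c000000ab8180380f554061828070000002ac0400e0000005560401c000000aa8040380000015483806f000002a80600de446d02820a01bc00000a98100378000015281806f000002a40200de000005460001bc00000a881c0370000015082806e000002a00400dc671b044e0601b800000a7808037287040db00806e0000029c0000dc000005360401b63c560a1000036c78bc14303806c4efa81630600d8a23302c40801b0000005800c0363650413781006c5071815f0100d8d94504580001b145fe01341c0358000000b83006b50a580160500d6a197002a0801ad407e00500c0358000000980806b8fbe82840000d6a21900220001aa3f2200401c03480000005030069000001d80500d2d99f03ae0801a63c4e00400c034c7dfc0080100696cd981d40100d31f8304fa0e01a000000a0818034288240ed8280688f49821a0400d0a20b00c40601a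1441a007c080343655c0e98000685107801a0700ce000004f60a019c000009e8100338000013c818067000002780200ce000004ee02019c000009d8000338000013a8280664fb9815a0400cc9b8302b2060199b8060980080332802c0ab8080664efb80a50000cc000000100e0194000009b818032800001368280650000026c0300ca000004d6040194000009a804032b806c058000065000002680700c8000004ce0c0190000009981403248f640e3820064000002640300c8000004c6020190000009880003200000130838063507081580600c6000004be0a018e3d8e0110100318000012e8100630000025c0100c6000004b600018c000009681c0310000012c830062000002580500c4df0700ec080188000009580c031370440ad010062000002540100c4000004a60e0184000009481803080000128828061925c81c60400c20000049e0601840000093808030800001268000610000024c0400c00000039202018249a207180402fc95440e703005e000000000400bd255f039e0201780000002c0002f495740e783005d0000023f0400b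b2545001a0601764b0606ec0802e4954c0e680005c000001b10600b724d300000a016c0000003c0c02dc95ac0e600005b92ab800e0100b40000038c0c0160000007441402c493ac0e802005892ba81b80500ae0000036a0e0159a48600181402b46a1402b0200568fb682300300ad245b046004015a353608c00402b46a741180000568d4380560600aa0000045e0a0154000008b81002a800001168180555076815e0200aa00000456020154000008a80002a80000114838054000002280600a80000044e0a0150000008980c02a000001128100548fab80450100a8a0430220000150000008881c02980000110830053000002200400a60000043e06014c0000087808029c8eac0e10080530000021c0000a6000004360e014800000868180290000010c828052000002180400a40000042e04014800000858040290000010a838051000002140600a2000004260a0144000008481002880000108810051000002100100a20000041e0a0142497a07081c0278000010682804f38d7814304009e0000041606013c0000082808027b41e400b00804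f0000020800009e0000040e0c013800000818140270000010282004e0000020403009c0000040604013800000808040270000010080004e0000020007009a000003fe0c0134000007f814026800000fe81804d000001fc02009a000003f6020135bd5e00d800026800000fc83804c000001f8060098000003ee080130000007d80c026000000fa81004c000001f4010099252303e2000130000007c814025c930c0da82004b926281b403009724c7036600012e499206c41c025000000f683004a000001ec050094000003d6080128000007a808025000000f480804a000001e800009524bf03800e01240000079818024800000f2828049000001e4040092000003c6060126498206f808024800000f0808049000001e0070090000003be0a012000000778100241981c01c818048000001dc020090000003b60201200000076800024000000ec8300470000002b05008ea21d005408011e373e07480c023c8c4c0e9010047510f800101008ea3e3004e00011dbd86004018023000000000280469265800f03008c0000037004011a49f206fc0402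3493bc0d900004692aa81bb07008a000003960c01140000072810022800000e48180458fb1805402008a0000038e0201153e9e00f800022b7b74080838044000001c4060088000003860a0110000007081002247b14031818044000001c001008924cd0018000110000006f818021800000000280430000000f04008724f1001a04010c0000003004021800000058000439276800a0700840000036e0c0108000006d81402128f7c0128200426f5d810c0300840000036604010a499e002c00021000000d8830041000001b00500820000035e080104000006b80c020800000d6810041000001ac01008200000356000104000006a81c020000000d4830040000001a80500800000034e0601000000069808020000000d2808040000001a4000080000003460e00fc000006881801f800000d082003f000001a003007e0000033e0400fc000006780401f800000ce80003f0000019c07007c000003360c00f8000006681401f000000cc82003e4fcd806103007c0000032e0200f8000006580001f3773c08e83803d0000019406007a000003260a00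f4000006481001e800000c881003d5a0480d801007ad7a301f40000f4000006381c01e000000c683003c0000018c050078000003160800f0000006280c01e000000c481003c000001880100780000030e0e00ec000006181801d800000c282803b00000184040076000003060600ec000006080801d800000c080003b00000180070074000002fe0a00e8000005f81001d000000be81803a0000017c02007437a902f40200e8000005e80001d000000bc8300390000017805007265e300900800e4000005d80c01c998b40b901003932f08146010072000002e60000e4000005c81c01c000000b883003817848096050070000002de0600e230d600880801c000000b68080380000016c000070000002d60e00dc000005a81801b800000b48280370000016804006e000002ce0600dc000005980401b800000b28000370000016407006c000002c60c00d8000005881401b4645c0148200360000016002006c000002be0200d8000005780001b37eb402683803550b6800f06006a000002b60a00d4000005681001a800000ac818035000001580200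6a000002ae0200d5457a02941c01a000000aa83003400000154050068000002a60800d0000005480c01a000000a8810034000001500000680000029e0e00cc0000053814019800000a68200330000014c030066000002960400cdbc3a049404019800000a4800033000001480600640000028e0a00c80000051810019000000a281803200000144020064000002860200c80000050800019000000a0838031000001400600620000027e0800c4000004f80c0188000009e8100310000013c0100631723026e0000c4000004e81c0180000009c830030000001380500600000026e0800c0000004d80c0180000009a80803000000134000060000002660a00be3176023c10017c640400181002f8c5e808d01005f18bf01180000be3182022c1c0170000009683002e0000012c05005c000002560800b8000004a80c0170000009481002e0000012801005c0000024e0e00b400000498180168000009282802d0000012404005a000002460600b400000488080168000009080002d00000120070058000000900a00b2248e046810016287ec0228180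2c50288044020059176102340200b1b45e01ec00016447ec07c83002b6862800c050057129100560800ae252a04480c015c4a6c01581002b894f802b010057128f00560000ae252600ac1c0150000008883002a000001100500540000021e0600a80000043808015463dc00a00802a0000010c000054000002160800a6323200d80c014800000018100298c8981070100531911000c0000a4000001d8140144913403d018028923c800307004e000002060c009c0000040814013800000808200270000010006004c000000f60a009a489201e80c0134912c0018000260000007607004a000001f60a0094000003e810012a8c7c021018025000000f802004a000001ee020094000003d800012a91d4026030024000000f4050048000001e6080090000003c80c01200000078810024000000f0010048000001de000090000003b81c01180000076830023000000ec050046000001d606008c000003a80801180000074808023000000e8000046000001ce0e0088000003981801100000072820022000000e4030044000001c604008a315e00e0040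1100000070800022000000e0070042000001be0c008400000378140108000006e820021000000dc020042c9950174020084000003681c0100000006c830020000000d8050040000001ae0800820ec601cc080100000006a808020000000d407003e000001a60c007cf1ae03281400f8000006882001f000000d007003c0000019e0a0078000003381000f0000006681801e000000cc02003c00000196020078000003280000f0000006483001d000000c805003a0000018e080074000003180c00e8000006281001d000000c401003a00000186000074000003081c00e0000006083001c000000c00500380000017e060070000002f80800e0000005e80801c000000bc000038000001760e006c000002e81800d8000005c82001b841e807d0300360000016e04006c000002d80400d8000005a80001b000000b4070034000001660c0068000002c81400d0000005882001a000000b00300340000015e000068000002b81c00c80000056830019000000ac05003200000156080064000002a80800c80000054808019000000a80000320000014e0e0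060000002981800c00000052828018000000a404003000000146060060000002880800c00000050808018000000a007002e0000013e0a005c000002781000b8000004e8180170000009c02002edec900e802005c000002680000b8000004c8300160000009805002c0000012e080058000002580c00b3491c0278100160000009401002c00000126000058000002481c00a800000488300150000009005002a0000011e06005631e6001c0800a800000468080150000008c00002a000001160e0050000002281800a000000448200140000008803002919090054040050000002180400a0000004280001400000084070026000001060c004c00000208140098000004082001300000080030026000000fe02004c000001f8000098000003e838012507d806e060024a30500040a004a32060018100094641401b010012922780060100252477000c000049466201a01c0088000003a83001100000074050022000000e6080044000001c80c0088000003881001100000070000022000000de0e0040000001b814008478a403482001050af8036030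0209f9100060400423f1a01a4040083737c0238000100000006807001e000000ce0c003d3c1600d4140078000003281800f0000006402001e000000c602003c00000188000078000003082000e9273804503001d24f700880400380000010c040074953402d80000e0000004205001b24e90004080034000001140c0068000002200800d927a804600001a000000840e0031a0e200ac180060000002a82800c00000054040018000000a604003000000148040060000002880000c926f80440700160000009e0c002c00000138140058000002682000b0000004c03001724e1008404002c00000128040058000002483800a00000048060014a337000c0a002a49ca0008100050000002281800a0000004402001524e30004000028000001081800480000020828009000000400400120000007e060024000000f8080048000001e8080090000003c000012000000760e0020000000e8180040000001c828008000000380300100000006e040020000000d8040040000001a8000080000003407000e000000660c001c000000c81000380000018818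0070000003002000f18e9002a02001c000000b80000380000016838006510d800a06000c000000560a0018000000a8100034643c009018006922a801201000c0000004e00001a48a600481c002800000128300050000002405000a000000460800140000008808002800000108080050000002000000a0000003e0e001000000078180020000000e8280040000001c0400080000003606001000000068080020000000c808004000000180700060000002e0c000c00000058140018000000a820003000000140300060000002604000d444200400000180000008838002000000100500040000001e08000a49e600280c001493540050100020000000c01000400000016000008000000281800080000004828001000000080400020000000e06000400000018080008000000280800100000004000002000000060e000000000008180000000000080000000000000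
def jm_0 : ℕ := 0x2bd62b000000000000000000000000000000000000000000000000000000000000000000000000002b9523000000000012530300000000000000000000000000000000000000000000000000015d130012a213000000000000000000000000000000000000000000000000000000000000000000000000000000000000000000000000001934030000000000000000000000000036051b00000000002af0230000000000285a3b002ae41b000000000000000000000000000000000013552b0013c03b0000000000000000002aac23000000000000000000000000002aa20300014a1300014a0b00014a03000000000000000000000000000000000000000000000000000000000000000000199b3300000000000000000000000000000000002a4e1b00000000000000000000000000000000000000000000000000000000000000000000000000000000002a072300000000000000000004b90b00000000001f023300236123000000000029e32b000000000000000000000000000cc23300198c2b00139f130029620300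0000000005ec130000000000000000000000000029a41b0029890b002989130029a02300299f1300000000000000000029903b00000000000000000021f5130002a73b000000000000000000000000000000000029621b000000000000000000000000000000000005a41b00000000000000000005a40300000000000000000000000000000000000000000000000000000000000000000000000000043b030006691b000f9333000000000002dd0b0028e11300000000000000000007032300173e1b00000000000000000028c72b0000000000000000000b04130000000000087d0b0000000000131d0300013b1b00013b1300013b0b00000000000000000028950b00000000000000000027952b00288013000000000000000000000000000000000000000000000000000000000000000000000000000000000013541b0000000000000000000000000000000000000000000d7d2b0000000000000000000000000027fc230000000000000000000000000000000000260b130000000000000000000000000000000000000000000b4d0b00000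000000000000027a3130023560b0000000000131d230000000000000000000000000000000000000000000000000001321b000131230001311b00108b1b000130230000000000000000000000000027570b00275633000000000000000000000000000000000000000000254f1b00000000000ef613000000000000000000000000001feb2b00000000000000000027002b0000000000000000000e73330026eb1b000000000008230b000000000026da03000000000022dc2b000e0d2b0001300300012f1b0008310b001c10130026bb1300000000000000000000000000012e1b00000000000c3d2b00269b230000000000012e030000000000000000002684130013b72b0000000000000000000000000013b70b0000000000068c33000000000000000000014a1b00000000002650230000000000000000000000000000000000262e3b0000000000000000000a770b0000000000000000000000000000000000000000001ede030000000000000000000000000000000000000000000000000025c423000000000000000000219c130025b123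00000000000000000000000000012e130023ef130000000000000000000000000000000000000000000000000000000000000000000ead13000b26130000000000000000002566130025650300011e13000000000025151b00011d3b00011d33000000000001951b000ac90b0023121b0001d32b00011c3b000b051300011c2b00015c1300000000002502130023ba230000000000011b130025233b002502030002570b000000000008422b00011e030025021b0023031b00250c1300111213000119230001191b00228313000119030024ff1b000000000024ef0b0024f40b000000000024ef1b000691130024eb03000000000002de230024ec23000114230001140300000000000000000024eb1b00000000000e641b0020cb2b00000000000000000000000000000000000000000024c21b0006241b0000000000033f0b000000000000000000011d1b000000000000000000000000002485230020d51300000000000000000024740b000a7c13001fe313000000000000000000109c3b0000000000010d2300000000000000000008451b000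32f2300032f1b000000000007710b000000000000000000242a0b00000000001cc70300032e13000000000024122b000000000024101b00240d2b000000000024081300085c1b00085d1b00085d130000000000000000000000000001051b00010503001dea3b00000000000bfa230004c0330023ec33000000000023e33300000000000b042b000000000022781b00000000000000000022780300000000000c5633000000000000000000239b2300055b2b000000000000000000000000001a1913000b021b0000000000236e1300000000000000000000fe1b0000fd1b0023642b000000000000000000000000000000000000000000000000000000000023323b00232e3b000000000000000000000000002312130000f93b004911330000f9230000f91b000119130001190b0000f90300000000000000000022ee0b00064b13002272030000000000000000000a783b000000000000000000000000000a78130000000000000000000000000000000000000000000000000000000000000000000000000022870b00011a0b0000f523001c79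0b0022721b0000f503000b461b0000000000000000000000000000000000000000000b4d0300000000001df433000000000022111b0000000000222a130000000000000000000b1d3300141323000b1d1b00000000000b1d0b0000000000000000000000000011a81b0021f50b0012820b00000000001490030000000000000000000000000005ed23000000000008370b00078d0300000000001cb0330005ec2b000000000015f20b000000000005ec0b00000000000000000000000000000000002198030000000000218f1b00000000000000000000000000217803000000000000000000000000000000000000000000000000001a981b00000000000000000000000000000000000000000000000000114d1b0000000000211a23000000000000000000000000000c9c1300000000000000000020ee230000000000000000000000000003542b00000000000354130003540b000000000000000000000000000000000000000000034e1b00000000000000000000000000000000001ee0130000000000208d0300208c3300000000000000000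0000000000000000000000000000000000000000000000000204d0b00000000000000000000000000000000000aca0b0020303b000000000006f73300000000000000000020182b0019932b000000000020071b00000000001ffe23000000000000000000000000000000000000e22b001fe31b0000e2130000e20b0000e203000000000000000000000000000000000000000000000000000000000000000000058d33000000000000000000000000000000000000000000000000000000000010b6230000000000000000000000000000000000000000000f962b000000000000000000000000000000000000000000000000001f2b230000000000000000001f110b00000000000000000000000000000000000ad723000ad50b0000000000000000001ed60b0000db3b0000db2b0000db230000db130000db0b0000000000000000000000000000000000183c0b00000000000000000000000000000000000000000000000000000000000000000000000000000000000000000001901b00195f13000ab50b00000000001e481b000000000000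0000000f761b0000000000000000001e2a13001e29030000d6130000d60b000e092b0000000000000000000000000011e51300000000000000000000000000000000001ded1b000000000000000000062c3b00000000001dd603000000000000000000062c1b001dc633000000000000000000000000001daf2300000000001a0e1300000000001cc53b001d123300000000001d8b3b00000000000000000000000000000000000000000000000000000000000000000000000000000000001d3f0b001d3e3b0000000000000000000000000000000000000000001adf3b000000000006d223000000000000000000000000000000000000000000000000000000000000000000000000001cd32b00000000000000000000000000000000000000000000000000000000000000000000d23b00086c3300000000000000000000000000000000001a120b000f7a3b001c822300000000000000000000000000000000001c601b00198233000000000000000000000000000000000000000000000000000000000000000000000000000000000000000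000097313000000000003df3b0000000000000000001bfa030000000000000000000000000000000000000000000000000000000000000000000000000000000000000000000000000000000000000000000000000009980b00037b030002ad3b000000000000000000000000001b7e13000382130003820b000000000000000000123f130000000000000000000000000000000000000000000000000000000000000000001b2f33000000000000000000000000000000000000000000000000000000000000000000000000001aef13000000000000000000000000000000000000000000000000000000000000000000000000001aae2b00000000000000000019eb33000e1e3b0000000000000000000000000000000000000000000000000000000000000000001a5e0300000000000000000000000000000000000000000000000000000000000000000000000000000000000000000000000000000000000000000019fc2b00000000000000000000db03000000000000000000118f230019d92b0000000000000000000000000000b80b00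0000000000000000000000000000000000000000192b1b0000000000000000000000000019851b0000000000000000000000000000000000196b1b000000000000000000000000000000000018d313000000000019422b00000000000000000000000000192b0300000000000000000009ba3b00000000000000000000000000000000000000000000000000000000000000000010841b0000000000000000000eb0030000000000000000000000000000000000000000000000000000000000000000000000000006fc230000000000000000000000000002690300144203000000000000000000054233000000000010e30300000000000000000000000000000000000000000000000000000000000000000000000000120e1b000000000000000000000000000e3b3300000000000000000000000000000000000e3b0b0000000000000000000000000017d41b000000000000000000000000000000000000000000000000000000000000000000000000000000000000000000000000000000000000000000000000000000000000000000000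00000000000000000000000000000000000000000000000000000000000000000000000000000000000000000000000000000000000000000000000000000000000000000000000000000000000000bd83b00000000000000000001560300000000000000000016b613000f461b0000000000000000000f4603000000000000000000000000000000000000000000167e130000000000000000000000000000000000000000000000000008101b000000000004d113000000000000000000000000000000000004c03b000000000000000000052b2b00000000000f5a030000000000000000000000000000000000000000000b411b0000000000000000000000000000000000000000000000000000000000000000000b460b000000000000000000000000000000000000000000000000000000000005c00300000000000000000000000000123d3b00175b03000000000000000000155c1b00009b1300009b0b00009b0300000000000000000000000000000000000000000000000000000000000c913b00000000000000000000000000151503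00000000000c91030000000000000000000000000014f42b000000000000000000000000000000000000000000000000000c3d1b00141f13000c3d0b000c3d030001703b000000000000000000000000000000000014a733000000000000953b000000000000952b0014921300148e23000c4133000095030000000000000000000000000000000000000000000000000014370b000000000000000000000000000000000004ba0300000000001437130000000000000000000000000014213300110b03000cea3b00000000000000000000000000000000000000000000000000000000000000000000000000000000000000000000f513000000000000000000000000000000000000000000139d23000000000000000000000000001383230001071300008e1b00008e0b00008e030000000000000000000000000000000000000000000000000013351300000000000000000000000000000000000000000013350b000000000000000000000000000000000000000000000000000000000000000000000000000000000000000000071c03000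a6f330009692b0012d31300000000000000000000000000000000000000000000000000000000000000000000000000000000000000000006701300000000000000000000871b0000870b00008703000000000000000000000000000000000000000000000000000000000000000000000000000000000000000000000000000000000000000000000000000000000012071b00000000000000000000000000000000000000000000000000000000000000000000000000000000000000000000000000000000000000000011903b00000000000c710b000000000000000000000000000000000024561b00043b2b00000000000000000000000000000000000000000006d61b00000000000000000006d603000000000000000000043b1b0000000000000000000000000011132300000000000000000010f90b00000000000000000010ea0300000000000000000000000000007c3b00007c2b0010cc3b0010c103000a8013000eaa3300007c03000000000008271b0010a2130010951b000000000000f52b0001952b00007a3300007a2b001089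1b000000000000000000085c23000000000000000000023f330000763b002bd7130010781b0010700b0000000000000000000000000000000000000000000000000000000000000000000000000000000000009b1b000000000000000000000000000d162b000000000000d62b00000000000000000000f53b000fea0b0000000000000000000000000000000000000000000000000000000000000000000000000000000000041e23000000000000000000000000000000000004bb130000000000000000000000000000000000000000000f670b00000000000000000000000000000000000000000000000000000000000d0113000000000000f9330000000000000000000f160b000f152300006c3b000f101300000000000afb1b000d0d0b000afb0b0002e02b00000000000eef13000bb23b000cea3300000000000e9613000aff1b000ed42b0000000000000000000b153b00006d0300006a1b000b0b3b000eb7130000000000007633000ea93b000076230000761b000af8130000760300000000000000000000000000000000000000000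00000000000000000027f1b000e551b000e523b000e4b23000e4413000000000000000000000000000000000000000000000000000e172b000000000000000000000000000bb30b00000000000000000000000000000000000d0d1300000000000dd50b000000000000000000000000000000000000000000000000000da90b00000000000d9e1300000000000000000000000000000000000a8b0b00000000000000000000000000000000000000000000600b000a911300000000000af30300000000000af3230000000000005d23000d5d03000a910b0000000000005b3300000000000aeb1b000af21b00000000000000000000582b000a8c2300000000000d4c030043f42b000d4123000a9c03000d3d13000d3d0b000d402b000000000000000000000000000d263b000000000000000000000000000000000000000000000000000000000001c813000cea130000000000000000000000000000000000000000000cc30b00000000000000000000000000000000000000000000000000000000000000000000000000000000000000000000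000000000000000000000000502b000000000007972b000000000000000000009513000000000000000000000000000000000000000000000000000000000000000000000000000000000000000000000000000000000000000000015d0b000000000000000000000000000000000000000000000000000baf2b0000000000004b2b00004b2300004b1b00004b030000000000000000000000000000000000000000000000000000501b000000000000000000000000000000000000500300000000000000000000000000000000000b3d2b00000000000000000000000000000000000000000000472b000afc23000b0d0300004713000b043b000afd3b000000000000462b00000000000af1330000580b000a9103000000000000000000000000000ad32b0000000000011d0b0006400300000000000000000000000000025e2300000000000046130000000000000000000000000000580300000000000000000000582300000000000000000000f50b00066d23000000000000460b00000000000000000000000000000000000000000000000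0000000000000000000000000000000000000000000000000000000000000000000000000000000000000000000000000000000000000000000000000000000000000000000000000000000000009b113000000000000000000071c1b000000000000000000000000000000000009560b0006270b000000000000000000000000000000000000000000000000000000000000000000000000000000000000000000000000000000000000000000000000000000000000000000000000000000000008f00b0000000000000000000000000008df3b000000000008d2030008d02b0000000000000000000000000008b50b000000000000e21b00000000000000000000000000000000000000000000000000000000000000000000000000000000000000000000000000010a2b0000000000000000000000000008452b00007b2b00000000000000000000000000000000000000000003f81300000000000000000000000000000000000000000000000000000000000000000000000000000000000000000007c83300000000000000000000000000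000000000000000000000000000000000000000000000000000000000000000000000000000000000000000007622b000000000000000000000000000000000000000000000000000000000000000000002f2b00065b1b00002f1300002f0b00002f030000000000000000000000000000000000000000000000000000000000000000000000000000000000000000000000000000000000000000000000000006c0230006b50b0006ae0b0006aa0b0006a9330006a22300069b130006922b000115030001141b000693330006970b0001151b000000000000000000000000000000000000871300000000000000000006611300000000000161130001612b000000000000282b0002d60300000000000000000000000000000000000000000000262b0000261b0000000000000000000000000001b523000000000000000000000000000607130000000000000000000000000000000000000000000000000000000000000000000000000000000000000000000000000000000000000000000000000000000000000000000000000005852b00000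000000000000000000000000000000000000000000000047d13000000000000000000000000000000000005372b00000000000000000000000000052213000000000000000000000000000000000000000000000000000000000000000000000000000000000000000000000000000000000000000000000000000000000000000000000000000000000000000000000000000000000000000000000000000000000002f023000000000000000000000000000000000000000000000000000000000000000000000000000000000000000000000000000000000000000000000000000000000000000000000000000000000000000000000000000000000000000000000000000000000000000000000000000000000003b633000000000000000000000000000000000000000000038c2b00000000000000000000000000000000000000000000000000035e230000000000000000000000000000000000000000000000000001082b000000000000000000000000000000000000000000000000000000000000000000000000000000000002ea2b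0002e0030000292b000029230000280b0002d61b0001d31b000000000000000000000000000000000000000000000000000000000000000000029a1b0002920b0000121b00028a0b0001d20b000000000000000000015c33000000000000000000000000000000000000000000000e230001ce030000000000023c0b0000000000000e0b00000000000000000001ce1b000000000002363300000000000000000000000000000000000000000001b81b000000000000000000000000000000000001b8030000000000000000000000000001d30300000e2b00000000000000000001bb2b000000000000000000000000000000000000000000000000000000000000000000000000000000000000000000000000000000000000000000000000000000000000000000000000000000000001312b00000000000000000000473b000000000000000000085c03000104130000000000007703000000000000000000000000000000000000000000000000000000000000000000000000000000000000000000000000000000000000000000000000000000000000000000000000000000000000470300000000000000000000000000005f1300005b2300000000000000000000000000000000000000000000000000000000000000000000000000000000000000000000000000000000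
def m_1 : ℕ := 0x5809a4713120e0afc00003ff81815f800007fe8282bf00000ffc04057ede351932040afc00003fe80415fabe9c15a0002bf89f28ff107057ca2ef17a40c0af9676a03d41415f28bc45e88202be51798bd003057ca2f5179e040afa27d23fc40415f28c945d68382bd4ef08c1006057a9de3181e0a0af6401a1fb01015ea77946068182bd4fb28c0c02057a9de71816000af545fa01381c15e000007f48282bc00000fe80405785a5f1532060af000003f980815e171c42e88082bc00000fe400057800001fc60c0aec00003f881415d800007f08202bb00000fe003057603a30e9e040aec00003f780415d800007ee8002bb514c875707057400001fb60c0ae9499a19d01015d000007ec8182ba00000fd802057400001fae020ae800003f580015d2872c30b0382b93777820706057200001fa60a0ae5127e0f041015cc14943fe0182b942c5880901057306fb0e7c000ae400003f381c15c01a343778302b800000fcc050570db1d0498080ae000003f280815c000007e48082b800000fc800057107150e7e0e0adc00003f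181815ba91941f50282b77af68a8304056e00001f86060ade0e021cf00815ba757c68a8082b7522a8c9107056c88f3088a0c0ad800003ef81415b000007de8202b66f5a81f403056c00001f76040ada0aba1cf40015b25ca44030382b500000fb805056a00001f6e080ad400003ed80c15a800007da8102b500000fb401056a00001f66000ad400003ec81815a000007d88282b457d4887904056800001f5e060ad000003eb80815a000007d68082b42ead87ce000568afa5057e0e0acd2122156418159800007d48282b34b1d81a303056600001f4e040acd8fca0b3004159800007d28002b300000fa407056200001f460c0ac400003e8814158800007d08202b100000fa0030562dce917e4000ac400003e781c158000007ce8302b000000f9c0505602a5d0bfa080ac0e2de1c981c157a5d046030302af00000f9805055e00001f2e080abd26f203780c157800007ca8002af00000f9407055c9dc716660a0ab9279e2e0010157000007c88182ae49e9813e02055c93d51f1c020ab800003e3800157000007c68202ad1e9784bc03055a737708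72000ab4000000741c1562819c1840302ac00000f88050559157b068c060ab000003e1808156215e41880082ac8abe858b000558e01919800e0aaca27e28b418155800007c08202ab6b218de803055600001efe040aac00003df804155c5ea44230002ab00000f7c07055400001ef60c0aa92696032414155000007bc8202aa00000f7802055400001eee020aaa0f96035c1c154800007ba8302a900000f74050552ff2d0b0e080aa400003dc808154800007b88082a921d98cad07055000001ede0a0aa000003db8101540ed0c6820182a83dc98b2102055000001ed6020aa067123d2800154000007b48182a767f38a6300054e44710f0c0e0a98ef4211d018153000007b28282a6165488db03054cc82f0ff0040a9904f635f8041533f9ac1f38002a66bcd819a07054a00001ebe0c0a9444fa29f810152c08247aa0182a500000f5c02054b14850140020a962916029c00152a0a4c4448382a400000f5806054800001eae0a0a9000003d5810152000007aa8182a400000f540105488d3516ee000a9000003d481c151800007a88302a33b0285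6005054600001e9e080a8d3f0a304808151800007a68082a35435850a07054400001e960c0a8800003d2814151000007a48202a283f982ed03054400001e8e040a8a0f8e029000151000007a28382a100000f440505426ecd1380080a8400003d080c1509bb440aa0102a14c458c3901054200001e7e000a84ddaa2ae81c1501283c6090302a04c4787fc05054000001e76060a8094220db8081500d7a455d8082a02dd088e400054000001e6e0e0a7cce0a01501814f99c1c68202029f33858d0202053e670d1a00020a7d42022e580014f99c5467f03829e00000f3006053c00001e5e0a0a78dcce1c901014f16e0478c01829e00000f2c01053c8d3316f0000a78932a2e5c1c14e8000007c82029d00000a8102053aa1e714fe020a74000029f80014ec267459503829c6a808b2b060538999319c80a0a70ce2629f41014e268a42b681829c33688a8202053800001e3e020a7000003c781c14d9860c06703029b4c4b8c5f0505369e8f01be080a6cb73a24880c14d8851c4d301029b00000f180005363d951956000a6a3c5a01ac1414cc78cc0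348202984c96886a06052ea26f0e180a0a5d3f5a21901014ba7ebc43181829751a2886202052e9fb110c2000a5d3f66217c0c14b000003998102960000016800052ca16b03c80c0a54000039041414a800007200202958e94828403052ad5051c7c020a563cbe378c0014a8000071e0382944e9788530605291e551ada0a0a5141ae21441014a47a145cd0102946a848cc1010528a047109c000a523cb6379018149c7a546b98202938f278ec00305271eaf1bc2040a4c000001540414980000691038292000001ff060524000003fc0a0a4942b207f41014936e1c3048182926a878e470205251e231bc4000a49aa2239101814834e944c60202904ee78096030520a2fb009e040a4000000250041480000004980029050bc809207051e000001220c0a3e3c3e2ec814147a795c04781828f8f228ebb02051e0000011a020a3c00000230001478000004583828e6ae88cea06051c9c4f0112080a38000002200c147477c414381028e0000008601051c0000010a000a3944d20210141468000004082028d0000008003051a000000fe000a3400000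1f4181464962456183028b00000074050516d5171814000a2c000001bc1814547e1c00102028a8fc9806c070512000000900a0a2634d23b381014480000022818289000000440205131a551d9c020a2400000008001448000002103028886fa86a40505110cad0510080a2219560a200c144469e47638102888d3b8ec70105111a751d8c000a221bae0a2018143c7dc411182828700000b1403050f1f271734040a1e3bea0a3804143b55843120002876ab18b1001050d1e3100da0e0a1000002c301814247dcc5618282848e968295040508d8671612040a123eea3a740414247ddc7488002848fc4806b0305071f8f00d0020a0c00003a5c1c1410000075a82828200000eb4040504723306a2060a0800003ac8081413546474a808282264780b200050400001d5e0c0a0400002cc00c140c321408f8102814fb68b2d0105029f6f1658000a0542fe2cac1814047a640290182808f488cb10704fea17b04b20809fd3ee209580c13fb547c13a01027f4fba82540104fe000004a60009fdb6c605701c13f27ddc06983027e4fbc80d20504fcd5231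caa0809f8000003400413f355f453d83827d6a938b050604fb23cd17700a09f400001ad41013ec79d465701027d00000b000104fad52915fe0009f63f1601a41813e27df405902827c000000b10404f8000001600609f0000002bc0813e355fc58380027c000000ae0704f623ed04360a09ec00003a381013d8fd3424a01827b11f482210204f600001d160209ec00003a280013d8000074483827a239c8c0b0604f4f0c919420a09e800003a180c13d07e5448301027a492189530104f435d106a40009e800003a081c13c8b654428830279060587b90404f200001cfe0609e45b4214800813c8000073e80827900000e7c0004f22d670c5e0e09e0000039e81813c0000073c828278676a879c0404f02d4313880609e0000039d80413c3c2d413b80027800000e740704eed14902540c09dc000039c81413b8000073882027767a4879b0204ee00001cde0209dc5bb617500013bbc2cc13c03827600000e6c0604ec00001cd60a09d856c618c81013b1b864178818276785c82750204eccec90da60209d8000039981c13a88d7c1f983027506d88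6ec0504ea00001cc60809d45a6e27140c13a8b77c617010275785b82760004ea00001cbe0e09d0000020d81813a26dec41a828274000008340304e8000010660409d222da20fc0413a44b541a1800274000003a30404e60000105a0609cd2c3e20b008139a7dec0688082730000082a0704e4d81f1bce0c09c9bc86018c14139360846f30202726e688b9d0304e5224f1a1a0209ca227a3038001394892c6918302714e1388210504e2a24f10400809c40000207c08138a70a440f0082710000081d0004e2a15b03f80a09c1325e0fe810138000001fc81827050b081f90204e0000007ee0209c000000fd8181378000001c82826f4f4680380404df1a0703a80609bc000000dc08137c849c69080026f000000340704dc7de901580a09b8000038e81013720fdc21981826e00000e380204dc83fb17500209b907fa21440013721e7c5e103026d0f5486110504da5bad10a60809b435be29fc0c136a6cd459f01026d00000e300104da1e4914a40009b4b75e05e01c1360000071683026c00000e2c0504d800001c560609b1bc9e02040813600000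71480826c6ec784310004d800001c4e0e09ac0000389818135acfb40c402826b91b08aa30404d6decd00fe0609ac0000388804135aa42406480026b00000e200704d43efd09b00c09a926e202f41413547aac65102026a00000e1c0204d4934501d80209a800003868001350000070c8282698e648da90404d2e035024e0609a5bfb210f808134b7f6c21e8082696fee843c0704d067810f4a0c09a152620bdc14134494b45d302026800000e100304d05d6b18100409a000003838001342a4e406603826700000e0c0504cea6ad00fc08099d211215a00c133a9ac42990102676b1d8dec0104ce00001c0e00099cd6261800181330000070282826600000e040404cc00001c060609993f7e32d008133286641b600826600000e000004ccfc8d06e00e0990000037f818132000006fe82026400000dfc0304c800001bf6040990000037e804132000006fc8002640e7e8a570704c600001bee0c098d47fe20a814131a4a944e682026300000df40304c600001be600098c000037c81c131000006f883026291e88b000504c400001bde08098a47a6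29e41c130800006f68302615359831d0504c2d63f0b7e080984000037a80c130800006f480026100000de80704c09d2b10500a09813a5a209810130479fc5ce8182606ced8d0d0204c0d82300cc020981b04a3038001300000069183025f00000de00504be00001bbe08097c453e0ef40c12f800006ee81025f00000ddc0104be20fd0f0a00097c68922f1c1412f47b0c0e101825e000001c00204bc00000014020978000000300012f47b240df03825d2b8787670604ba00001ba6080974000037480c12e800006e881025d91cb8aa00104ba00001b9e000974000037381c12e000006e683025c0d8188660504b800001b960809723d6609ac0812e000006e480825c00000dc80704b600001b8e0c096c000037181412d800006e282025b00000dc40204b600001b8602096cd61618101c12d333fc40503025a6c6788c30504b523a3170e08096a3e1607ec1c12c800006de82825900000dbc0404b30db7176c060964000036e80812cb591446180825932d288c30004b200001b6e0c096068d228b41412c000006da8202580c5c8a3f0304b00000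1b6604096068d61e140412c0d1b42168002580dc58b4c0704ae000005aa0c095dbaba0b501412bb7cb41698182576eaf801f0204af1cfb157e02095e395a2f780012bb7f5c00d0382564eea8c300604ac41970bd0080958000036980c12b000006d281025600000da40104ad25151746000958000036881812ab60e441a828255928f8c720404aaddf7006a060955bc8e20cc0012ab78ec418038254366983ce0604a800001b360a0950000036681012a000006cc81025400000d980104a8c7e1059c000950000036581c1298e4b444503025338c9878e0504a72225043e08094db14a19e00c129c31ac47c810253480181e60104a600001b1e0e094800003638141291cc0c4af82025200000d8c0304a400001b16040949ac9235a4041292720c6b48002524e4586810604a3103306420a0944776e19341012895584392818251866888280204a2252d08a60209440000360800128c73d432800025092948a8b07049e00001afe0c093c000035f810127b785c09b81824f50cd836b02049e00001af602093d9dee0e8400127800006bc83824e0000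0d7806049ccbc919100a0939aeda20b010127000006ba81824e8f908bbf01049cdacb1a4c000938000035c81c12696cac2d403024d4c5a812805049b2357198c0809364a2e319008126a74c442900824d6dd3875b00049ada4510620e0930000035a818126000006b482824c00000d68040498d71105700609300000359808126000006b280024c00000d64010496000015ac08092a4a322a500c125492bc56203824992a48af105048b259515e402090e4a7e016000120c961454881024000000af006047f256505ac0008f8000001841411e0000000101823c92b38aef040477254715e80a08e649ae2bd80411cc936457a800239929b8ac5020471257300b00008de4a662bb81c11b000000160282366905802a04046d0a871a960608da34fe352c0811b347b40008082366aa8802700046c000000240408d244a635240411a47dac02b0382328d4a8d420504651a9700ac0208c800000158001194837469f8382318d4c8d4203046320db1a7a0e08c2350608d81411847dbc02b0202308d488230030460000000ac0408c248a201580011846a7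c02b03022f00000d3c05045e2f9d02b60808bc000034e80c1178fa340c681022f00000d3801045e00001a6e0008bc000034d81c1170000069a83022e00000d3405045c00001a660608b8000034c8081172836c40080822e00000d3000045c00001a5e0e08b4000034b8181168000069682022d00000d2c03045a9e05170e0408b4000034a8041168000069480022d4ea18765070458a019109a0c08b145ca2130141160000042582022c8cd18b10030458a04902540208b145b62120001164687c57d83822b00000d2006045600001a3e0a08adf2c61838101158000068e81022b4ea58c91010456d7e519660008ad444e12201c1151451c0d683022a4ee2807305045400001a2e0808a945ce14380c1150000068a81022a5114848f010454a22509120e08a5459e15d018114a272c37002822900000d1004045200001a1e0608a40000343808114a8b5c412000229516e80a307045000001a160a08a0607e17bc101140000068481822800000d0802045010631a0c0208a00000341800114089ac44183022700000d0405044e670900dc08089c000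034080c11399cac67f0102271e1b8cd801044e670f172c00089c000033f81c11325edc1a40302261fb78ab205044c000019f606089a3eba085c081130000067c80822600000cf800044cdd4110300e0894000033d8181128000067a82822591b78ad704044a467f11d8060894000033c804112800006788002256edd889b040448000003920e088e3ef60a1c18111a71643428282238eed8a720404469c5b0d0606088d44da022808111a7d1c3408082236cea889c070444000019ce0c0888d24e2d24141112712450502022200000ce4030444000019c604088800003388001110000067083822100000ce0050442000019be0808840c8e21680c1108000066e81022165f18cba010442000019b600088400003368181103e4743a282822000000cd8040440000019ae060882215604b4081100f12c32900822000000cd4000440f9290e460e087c000033481810f8000066882021f9111825303043e0000199e04087d3bbe30540410fc8d3c66480021f00000ccc07043c000019960c0878000033281410f33a0c3d982021e50dc862903043c000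0198e020878000033180010f0000066281021d00000aa900043b23ad154e0e08719dc605101810e27f7c42782821c00000cc0040439247d1588060870000032f80810e21e0445d00821c00000cbc07043662050b7a0c086c47d609ec1410d8000065c82021b3861893e0304360000196e04086c000032d80010d97fb462703821a24ff855d0504349fc10e7e08086a3d2e01a00c10d479f45cf01021a00000cb0010434cecd131c000869b3ba2c081810c8000065682821900000cac04043200001956060864cc6a2fd80810c8793452780821900000ca80004320000194e0e0860000032981810c0000065282821800000ca4030430dd1d01c8040861448626a80410c0000065080021800000ca007042e0000193e0c085d1bce21381010bb78bc0750182176ffa885802042f239b15a802085c000032680010b98a4c4a08382168fa78b2106042c0000192e0a0858000032581010b379bc0b40102165f568c7701042c000019260e0854000032481810aa3c8404c828215913d8b5504042b1b2b1530040854fbbe10840410a9ec646300382143aa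6895b05042864091646080850000032280c10a0000064481021400000c880104285f1314da0008511f9e2d641810993c942368282131fe88a410404260000190606084c000032080810993ca423c8082131ad581e5000426000018fe0e0849471e1284181090000063e8282124e5184af0304251f51177c040849295e253c04109278b461400021200000c78070422000018ee0c08448e62131810108be82454e81821125e284de020422000018e6020845b07e20d000108a1efc04103821000000c7006042087c30a5e0a0840000031b8101080000063681021000000c6c010420000018d60e083d58f20f8c18107a721c34002820f91388b7f04041e9e49030004083c00003198041078000063280020e92408aa707041a406b11960a083400003188101068000063081820d00000c6002041a000018be02083400003178001069ec7c29883020c85378b8d050418719f0f30060830e34200c8081061c68c3cb00820c38d28795000418d08f0bd80e082ccdaa0404181058000062a82020b182e85f00304166677039604082c0000314804105b4a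1407880020b335881cb0704143521155e0c082800003138141050000062682020a00000c4c03041400001896020829a0aa199c001050000062483820900000003060412cf7501300a08240000025c101048000004b0102090000009401041200000126000825a0a602481c104351d44ce0302086e45833105041066710124080820000030f80c10419b0404b81020815078b32010410000018760e081c4d6e2ac0181039bba415c8282078f1d8b8404040e47010cce06081c59ca2cb008103873cc52e000207203b88c706040c751901ae0a0818000030c8101030000061881820600000c3002040c311101dc020818000030b800103177c41e803820500000c2c06040a000018560a08149cae1d500c102a784c3da0102054d2b894901040aa3071782000814000030981c10200000612830204201c817e0404080000184606081000003088081020000061080820400000c200004080000183e0e080d3d9e2b7c18101b72f453c0282034f6885170404069ed3025206080c00003068041018000060c8002036e678b9e0704040000182e0c0808d3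822154141012502c4e602020200000c14020404ddcd125c02080800003048001010000060883820100000c100604028d0b16ac0a080542ba07ec101008000060681820100000c0c020402000018160208053f1201cc1c10016f3447203020000000c080504000000180e080800cb4e23980c100000006028102008d228b02000400000018060e07fc8a0a0fe8140ff800006008201ff00000c000303fe000017fe0407fc3f3205f4040ff800005fe8001ff00000bfc0603fc000017f60a07f8cd06040c100ff093dc2b90181fe876781630203fc000017ee0207f89e9a2434000ff199f40b18381fd00000bf40603fadce710c20a07f400002fc80c0feb73ac4398101fd67a783a20103fadd4915c40007f5bf720aac1c0fe000005f68301fc00000bec0503f89ded14160807f000002fa80c0fe000005f48081fc6e4d81570003f8000017ce0e07edaf5205d4180fd800005f28281fb8f8c825a0403f6dcf5057a0407edb9460594040fdb72940a80001fb6fa381580603f4dca702c40a07ea1cea1aa4100fd4724c5b28181fa6f0780080203f4dc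a902be0207e9be8a05781c0fc800005ec8301f9522f89920503f3247b15ac0807e5bc36023c0c0fc800005ea8101f96e9881560003f2dd3308180e07e000002f48140fc000005e88201f800000bd00303f00000179e0407e1b9562eb4040fc28bdc5d68001f8517c80730603ef0b6d10060a07dc00002f28100fb800005e48181f74efc8ba00203ee0000178e0207dc00002f18000fb800005e28381f600000bc40603ec000017860807d800002f080c0fb2529c4a80101f600000bc00103ec0000177e0007d800002ef81c0fa978345a00301f500000bbc0503ea000017760807d5b95e12780c0fa800005dc8081f56e588b040003ea0000176e0e07d1461a0de4180fa28c3c09a0281f46f7e82b60403e923db15920407d1462a0240040fa000005d88001f400000bb00403e7252500960e07c800002eb8180f9000005d68281f200000bac0403e4000017560607c800002ea8080f9000005d48001f200000ba80003e3252100980207c2491629c00c0f7c92345350001ef92478a680503dd249114c20607ba4926297c000f74925452e8381ed00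000ba00503da0000173e0807b400002e780c0f6a80e418d0101ed6e698ac70103da2ca711b80007b5b9aa2c4c180f614aa42398281ec00000b980403d80000172e0607b000002e58080f60fd845578081ec1fad8ab30003d852b108a60e07ac00002e48180f58ef8c3f20281eb4f0089850303d60000171e0407ac00002e38040f59c6743cc8001eb5f8e85470703d4c9a30b120c07a914a20438100f5000005c48181ea00000b880203d40000170e0207a800002e18000f51bf244948381e92eda87480603d2000017060a07a400002e08100f4a781c50d0101e900000b800103d2000016fe0e07a0a3d21e18180f4000005be8281e800000b7c0403d07b4f168a0407a000002de8040f4000005bc8381e600000b780503cc70c5127a080798cf7212700c0f3234e41298101e6469d8b730103cc89b30dea00079800002dc8180f28d69c2830281e500000b700403ca000016de06079400002db8080f288e8c5598081e511cf8ab00003ca35b504260e079147660bfc180f2000005b48281e450ce836a0303c8000016ce040791bf2e1168040f237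e640b00001e46ff4812b0703c6000016c60c078c621e1768100f1800005b08181e300000b600203c6000016be02078e48fe2b00000f1800005ae8181e292438a960003c52489152a0e078400002d68180f0800005ac8281e16fd185290403c2b7890b1804078400002d58040f0800005aa8001e192418a9e0703c0000016a60c078000002d48140f0000005a88201e000000b500303c12485153a04078000002d38040f01ac6407a0381df00000b4c0503be7a430ef008077c00002d280c0ef800005a48101df00000b480103be0000168e00077c919202781c0ef000005a28301de00000b440503bc0000168606077800002d08080ef1812c04f8081de19bc85d80003bc65b511940c0774cbb205e0100ee998fc0bb0181dd000001720203ba7191028c020774cbb605cc000ee998a40b90381dc136e83ff0603b80000166e0a0771a5820e48100ee0eabc2620181dc2e0587980103b80000166600077000002cc81c0edb555c03b0301db00000b300503b665a3133808076c00002cb8080ed800005968081db00000b2c0003b6656f16500e07693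d8629f4180ed35eac0a90281da00000b280403b40000164e060769430a2670080ed000005928081da00000b240703b2000016460c076558a616a8140ec800005908201d900000b200303b2304109860407647ab61310000ec8cddc0790301d88dfd82e10503b1133b1634080762266e07600c0ec467340ec0101d88ce381d80103b119c903b000076233960760180ebb741c1118281d70000010f0303ae9f8b021c04075db29a0a38040ebc48443508001d74fc6810b0103ad1b9d008e06075400002be8040eac8c6c0238381d469c682e50603a8dd1115860a0752342e09bc100ea000000038101d491928a7b0103a800000008000752463a2be81c0e9a8cac0818301d3523b81020503a712810d6a08074d465e04000c0e9c8c3457c0101d35199807e0103a6a33500e00e0749b9b201b8180e937ed40010281d28dd080470403a4dcdb00d8060749b9ba01ac080e948c2c0238001d26e7080680603a2000000020a0742492e0194040e8492640310001d0926d8ac505039f256115e402073e4ab601781c0e7493ec54e0081ce00000a5e00039d2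54b00be080734000029980c0e68000002e0281cc00000043020399256f00b600073000002a401c0e5962bc5368281cb00000ae8040396000015ce06072dab361754080e5b74043220081cb333d820b000396d59d0bd60c07293bd626a0140e5000005708201ca00000ae0030394000015be040728770615c8040e506df45160001ca00000adc0703928e3102980c0724917e0f24100e4b7f0c0718181c900000ad8020392dfc701b802072400002b58000e4b80cc1560281c88fa982260403911f6900180607223eaa0894040e447d641118001c88fad822207038e0000159e0c071cafd62678140e3a793c4970201c791eb806402038e9e51025802071d04960394000e3a8c4c0c08381c64d8f819b06038c9dfd03340a07193c420664100e3492b454a0181c65022819702038c9f8f0012020719ba261264180e2b74543220281c56fd0864304038adfbf004e060715ba2e1908080e2b746418e0001c56e8d863f070388000015760a071000002ae8100e20000055c8181c400000ab8020388d55f153202071000002ad8000e2227c406c0301c30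0000ab40503860000156608070c00002ac80c0e1c3cb40818101c300000ab00103860000155e00070c00002ab81c0e1000005568301c200000aac0503840000155606070a4752014c080e1000005548081c200000aa8000384877f11760e07063d7a0980100e08000012e8181c18f5f800f0203831ec104b80e070000002a88180e024c4405a0281c000000aa00403800000153e06070000002a78000e00000054e8381bf924e805604037f249f00a60e06f800002a68180df0000054c8281be58eb818c04037c0000152e0606f800002a58000df0000054a8001bc924d8061040376000000b40406ee4afa0174040ddc95640230001bb00000057070374000000ac0806e80000014c140dc800000268281b892bb805804037124dd008a0e06dc00002a28140dba08d41ed0201b700000a8803036e0000150e0406ddb9722988040dba08e45310001b700000a8406036c000015060a06d800002a08100db000005408181b68e01807c02036c000014fe0206d8000029f8000db0000053e8381b5518c80fb06036aa31b000a0a06d5463a03e80c0dab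72ec2460101b5519080f701036aa32301ec0006d64a7229981c0da373043378301b46e61866e040368dd5b08840606d1b98a1180080da3731c3350081b46f08813e000368dcff00540e06cc000029b8180d9800005368281b300000a6c040366000014d60606cc000029a8040d9c92840290001b35d3f840105036524a5009a0806ca494e0130080d9492a40250081b292558049070362446b0f100c06c400002988140d8800005308201b16ee28679030362000014be0406c649460144000d88000052e8301b000000a5c050360000014b60806c039ee0c7c0c0d80000052c8101b000000a58010360000014ae0006c0000029581c0d7879140880301af00000a5405035e1d5714780606bc00002948080d7800005288081af00000a5000035e0000149e0e06b83a020324180d7000005268201ae0e82891b03035c000014960406b800002928040d7000005248001ae00000a4807035a559711740c06b4a28608a8140d6800005228201ad00000a4403035a000014860206b400002908000d6800005208381ac0e9885a30603580000147e0a06b0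000028f8100d60000051e8101ac00000a3c010358000014760006b033aa28d81c0d58000051c8301ab00000a380503560000146e0806ac000028d80c0d5875bc3080101ab00000a34010356000014660e06a812921f60180d50be5425a0281aa289e80d3040354212310440606a8000028b8080d5000005168001aa00000a2c070352000014560a06a49f1e1844100d4800005148181a927c986cb0203520000144e0206a400002898000d49261439d0301a800000a2405035013b50ea40806a0000028880c0d4248b40608101a800000a200103500000143e0006a0000028781c0d395f2c3900301a700000a1c05034e0000143606069caf9a1e84080d38000050c8081a73c9d875e00034e0000142e0e069800002858180d30000050a8281a600000a1404034c0000142606069800002848040d3000005088001a64a2e898507034a0000141e0c069400002838140d2b5d7c1a18201a54c5983ef02034a9421095c02069400002828000d2ba52c0c18381a400000a080603480000140e0a069000002818100d226bfc2410181a400000a04020348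00001406020690000028081c0d1800005008301a3314b8186050346000013fe08068d246a0acc0c0d1800004fe8101a3000009fc00034692390b400e0688000027e8140d1000004fc8201a2000009f8030344000013ee040688000027d8040d1000004fa8001a201d087500603420dd711800a06847fe623f0100d083a743bb8181a1000009f00203420e2913dc020684000027b8000d084bcc4ef0381a0494583fe060340000013d6080680000027a80c0d0000004f48101a0000009e80103410fff13c6000680000027981c0cfa4a5413083019f184887ad05033e000013c608067d253602100c0cfa4a7413380819f000009e000033e929f0fde0e067800002778180cf0694c0bf82819e000009dc04033cdb7f0c2404067938460e7c040cf1678c4e780019e4e12834c07033a16f5120a0c067400002758140cea65ec28b02019d000009d403033a997d074004067532fe1578040ce800004e883819c495087a30603380000139e0a0671254623e4100ce000004e681819c000009cc02033800001396000670000027281c0cd800004e482819b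2aed84ca0403360000138e06066cb2f612c4080cd800004e280819b000009c4000336000013860c066852820cf4140cd000004e082019a000009c0030334d3990ce4040668000026f8040cd34e7415300019a69cf8664070332000013760c0664a2ea02cc140cca65d41ab818199000009b80203329073094e020664000026d8000cc800004da83819800000252060330000004a20806620d5226280c0cc288ac1270101986d868705010331104905c8000660000009301c0cb800004d68301974e2e868805032ea245043808065c000026a80c0cbc5b7438c8001974115859807032c8fd708ac0c065800002698140cb26b9405f0201961eac84c507032a00000d760a0656211e0b7c100ca8000035c8181958a0a867f00032adb050d6a0e065000002678140ca1d07c21d0201940000099c03032800001336040650e8460fb4040ca000004cc8001941eb180c4060326397912e80a064d67c202bc100c9a82fc2af018193000009940203260000132602064c00002648000c9acfac201838192000009900603240000131e0a0648000026380c0c9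000004c68101924ee68098010324000013160006493cc2093c1c0c8800004c4830191000009880403220000130e06064400002618080c8800004c280819100000984000322000013060e064167f60080100c82cff42a18101905a008541010320b4030a800a063da74e18ac100c7b6df401281018f69d5862901031ed3ad0c500e06390a5a18a8180c7000004bc82818e0000097804031c9a550e2a0e063494ae04a0140c6800004ba82018d1c3f842e03031a4a690ed00406347d1608bc040c6800004b880018d252d80c7060318000012de0a063163760854100c62c6f40df01818c544a84e6020318b1bf0af0020631415218f8000c628fbc32383818b2bc489320603163c8f0c660a062c000025980c0c5800004b281018b00000964010316000012c600062d24821c081c0c5000004b083018a00000960040314000012be06062800002578080c5000004ae80818a0000095c000314000012b60e062400002568180c48e16c1de828189000009580403129c2f02d8060625681614fc000c4b4ea431503818859ed826b060310000012a60a062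000002548100c42491c389010188000009500103100000129e00062134ca0d241c0c3800004a68301870000094c05030e857d061a08061c000025280c0c3800004a48101870000094801030e0000128e0e0618c512068c140c3000004a28201860000094403030c0000128604061800002508040c3000004a08001860000094006030a419f02e40a0614000024f8100c28000049e8181853863893902030a00001276020614000024e8000c296d9c3088381844bd987630603080000126e0a06110a820c7c0c0c236dec30a8101840000093401030800001266000610000024c81c0c1b5b84317830183000009300403060000125e06060c000024b8080c1a68ac36c00818374a381a5000306000012560e0608a15e21bc180c100000494828182000009280403040000124e06060800002498040c10000049280018200000924070302000012460c060400002488140c0c434c1b482018150c7850002030314110d040206062db61c70000c08000048e8381800000091c060300000012360a060134ce083c100c0224ec1db8181800000091802030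00000122e000600000024581c0bf869540cf02817f000009140402fe000012260605fc34a2243c080bf986dc41100817f000009100002fe1a4f089e0e05f8806a0810180bf0000048682817e0000090c0302fc000012160405f800002428040bf0000048480017e000009080702fa1f9307460c05f400002418100be8000048281817d0fcb81ff0202fa000012060205f400002408000be8000048083817c000009000602f83b9902e60a05f0000023f8100be087fc47401817c000008fc0102f837c111ee0005f0000023e81c0bd8de6c47a02817b1bce88f20202f6379f11de0205ec6f5a23a0000bd8debc01d03817a000008f40602f4000011e60a05e8000023c8100bd0000047881817a1bd8803a0202f4000011de0205e86f4223a01c0bc80000476830179000008ec0502f2000011d60805e4268e05a40c0bc80000474810179000008e80002f2000011ce0c05e000002398140bc0ee242b7820178000008e40302f0000011c60405e0cb5a09b4040bc16ed4136800178000008e00602ee661100140a05dc00000778080bb996fc0ed83817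6000008dc0602ec000011b60805d859560e100c0bb0b2cc3f5010176194f84bd0102ec000011ae0005d8595e17e4180bab4ecc0fd820175330288c30302ea71690f520205d4ccae00e4000ba997cc460020174330780320102e865bd0f540005d000001ea41c0b98ee740be03017332d984e40502e6000011960805cc000023280c0b9997bc46001017332db82f50102e6329907080e05c8833a0614180b9197c40fd828172166785de0402e4000011860605c8cc1a1ea4080b9357ac0ee800172000008c00702e20000117e0a05c4f7fa15cc100b88000045e8181713eed84230202e2000011760205c4000022e8000b88000045c820170177c83940302e02efb07260205c05dfa0d90000b80bc441c803816f000008b40602de000011660a05bc000022c80c0b78000045881016f000008b00102de0000115e0005bc000022b8040b70000007083816d000008ac0602da000011560a05b4000022a8100b68000045481016d000008a80102db185106680005b4000022981c0b615cec41483016c000008a40502d89ea103120805b0000022880c0b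640df43b381016c000008a00102d80000113e0e05ad8a2e2260180b58000044e82816b4fa886800402d6000011360605ac00002268080b58000044c80016b000008980702d40000112e0a05a800002258100b50000044a81816a000008940202d4000011260205a800002248000b500000448830169000008900502d2134302f20805a4000022380c0b4800004468101690000088c0102d2000011160005a4000022281c0b4000004448301683db280fb0502d0dc49042c0605a231c60580080b400000442808168000008840702ce000011060c059c00002208100b380000440818167000008800202ce000010fe02059c000021f8000b3c0e0409e0381660000087c0602cc000010f60a059920e212a0100b30000043c818166000008780002cd02ad06420e0594000021d8180b28000043a828165000008740402ca000010e60e0590000021c8180b200000438828164809688180402c8000010de060591269a12c0000b240a6c2188381631d3480ca0502c6000010d608058ccca620d40c0b180000434810163876881fe0102c6665503fc0005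8c00002198180b13635c3860281621acf84cf0402c4000010c606058894a61364080b10cd9c2f8008162294e84d00002c45b230db60a0586482e0420080b0c8b940838081618c8a81070002c20000020c0e058000002168180b00000042c820160000008580302c115610e66040582315a05a0040b00000042a8001608aa487130702be000010a60c057c00002148140af8000042882015f8c5a810e0202be0000109e02057c000021381c0af0000042683015e0000084c0502bc0000109608057a402e042c080af28b6402a80815e000008480702badea903fe0a0575bd8e07f4100aeb803c00583815c000000670502b89e0d00ca08057222e604680c0ae2842403201015c88b586b10102b8d95304fe000571af3a0660180ad8000041e82815b21a284b40402b62f97045e06056c000020e8080ad8000041c80815b17cf87a50002b6395301e00e0568000020d8180ad0000041a82815a000008340302b40000106604056a22ae0b48040ad2841c1a180015a679983a30702b20000105e0c0564000020b8100ac800004168181590000082c0202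b3184101a2020564000020a8000ac80000414838158337a839c0602b0ddf10d620a056000002098100ac48b0c18d018158000008240002b1201902540e055c00002088180ab8000041082815744a682c50402ae0000103e04055c00002078040ab9e0a43340001576f5581fc0702aca0ad00300c0559415e0fec140ab282c41fd020156505983f90302ad15eb06c6040559416a0fdc040ab282dc1fb038155000008140502aa8955075e080555a5361c000c0aa800004088101556cff80a80102aad29f0144000555812a1044180aa000004068281540000080c0402a80000101606055112021244080aa1bb8c150808154000008080002a85e5b07740e054c00002018180a990c4c3cc028153841482fe0202a60000100602054c00002008000a9800004008381526ccd81da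
def jm_1 : ℕ := 0x3c473b0000000000000000000000000005bc0300000000000fb023000035c10002be3b00060a330002be2b0002be230002be1b000035b9000605330002bd3b0002bd3300070d0b0002bd230039a9030002bd130002e03300000000000000000037f30b00000000004c6a1b0000000000000000000000000000000000000000002af02b0000000000000000002879030000000000246d3300000000000000000000000000000000000a782b004c1d03000000000005c01b00006521001a7d1300005f4100000000004c0a2b000000000020ce1b0000000000000000000000000027e10300000000004be70b000096a10000000000005f310002c31b0040d31300194f1b0000000000000000002d2813000000000027d513004bcc3b0000000000000000000000000000000000000000000000000000000000000000004b931b000000000000000000000000002abd03000ff903004b760b00000000001b2f0300000000001048130000000000000000000000000000000000000000000000000008462b000000000000000000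0000000022113b00276b1b000c7c0b0000000000000000004b19330000000000000000003d641b0007732b000000000007731b0007731300000000000000000002ad23004af4330000000000117b3b000000000013012b00000000000c712b0013010b000ad503000526130000000000211203000000000000000000002b210000000000000000002071130000000000000000000000000005380b0000000000000000002b7523000000000000000000416b2b0000000000000000004a8a03004a870b00000000004a060b000000000024f33b0037111b00118f0b0000000000146733004a6733004a62330016750b0006b6330000000000378c1300006e89000000000003d513000033f1002e6a1b0000000000000000000000000000000000000000000d902b0000000000000000004a2713000000000039a22300000000001f112b00000000000000000000000000005d410000000000005d9100000000000000000008092b000000000008091b0002ec1300000000000809030013e63b0002eb33000000000013e61b00389f0b000e2e2300000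00000029f3b00029f3300029f2300029f130002ea0b0024502b000000000000000000275f2b00314e1300000000000d903b0049a623000000000000000000226e33000000000000575100399a3b0002e7330049a31b000f1b030042ea2b000000000000000000050b3b0002e63300377a3b000e331300498b330000000000415a03000018b1004907130002982300226a230002972b00029723001a5e3b0002971300029703000000000000000000109b2b0000000000000000000ebc230002951b00001811000000000002943b0044443300167f1b000017e100398d13000f1313000018210044513300490b23000aa603000000000000000000000000000000000002922b0022da3b0022841b000018c10022840300231313000290230002e03b0000000000000000000bb63b00000000000018d100028f2b000018710000000000000000000000000052de3b00028e3300000000000ec21b00000000000000000003402b000000000000000000000000000000000038cd33000000000039842b0000000000028a3300493503000000000049320b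00000000000000000049230b00000000000000000025133300491b0b000ecb0b0049170b004917130049171b0049183b000cee33000000000039041b004913030002870b000287030049072b0000000000028c330048fe0b0039881b0048fa0b0048f91300028a1b00028a030000000000000000000000000013482300000000003981130004761b00000000000000000048d23b000281130002810b000bb61b0048ca130002801b000bb62b00027f2300083f1b00027f1300000000000d9f3b00027e3b00027e330037782b000000000002841300027d3b0000096900000000003c83030000000000027d0b00028a1300027c330000000000000000000000000002840b000000000048a11b0000000000489913000cba1b000000000000000000000000003e8b3b0048830b00000000000bfe330013143300134b0b00000000001db93b0048661b00000000001dbb2b000000000000000000484c3b00000000000000000026ec2b00234c13000000000047dd130000000000482b03000000000000000000071023000000000048151b0047dd1b000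000000000000000219c2b004805330047dd030025b613000000000047f42b00266b3b00000000003414030047e2130047dd0b00000000000000000002743300000000000000000006a70b0047ce2300000000000000000002731b00027e2b000000000002723b00112c1b0002722b0038db1b00000f4900252e23000009710002713300226b230000000000027113000000000002921b0002702b000000000002920300000000000000000000000000377c13000b0a23000000000000131100000000003eb813000000000018542300000000001854130018540b00477b230047790b002d712b003792030023793b000000000006851b002d711b00000000000000000000000000381123000000000003060b00000000000000000047321300000bb100472e03000000000025b10300000000001d8b1b0047181300412403000000000018930b00000000000000000045372b00390f130002691b000269130002690b0046f52b0004f933000007c900000000003e7b0b000000000004f903000000000002f32b000f96130002f31b00463713000000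00000b4d130000000000000000000000000002d33b000bb233000000000013f4030000000000000000000000000000000000000000000000000012180b00000000002cac330029e02300000000000000000000000000000000003770330000000000377023000000000002f3130021122b0000000000000000000000000002603b0002602b00417b1b00416f23000272130002720b0000000000000000000000000045f70300000000000000000029520b002d8e1b00025e2b0000000000000000000000000045e423002ca51b00000000000000000000000000000a510000000000000000000000000045b90300000000000aa32300000000000000000000000000000000000000000000000000000000000b4d33002c053b002b673300000a39000be4230000000000000000003ce0230000000000107513002fec0b0000000000182733000000000036582300000000001827130018270b00454a0b00000000000257330022d8130002571b00453b23003dad0b0002692b0045311b0021e50300000000000000000000000000000811000000000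0025533000007e1000be01300112c030045010b0044ff130000000000000000000000000000000000185503000000000044d7030029810b00000fc10036fe0300308b030044c80b00000000000000000044b72300000000000000000044301300442d0b0044a21b001227330023e02b0037871b00449c3b001912130000000000448f1b0000037100000000000000000044802b000bb22b00000000000c471b00000000000000000040ad3300445b1b0000000000406e0b0020bb230000000000209b230007053300000be1000008010002943300443e2300288e03000000000000000000000000000fcb23000000000000000000000000000000000037d92300024a1b0002493b000007190002430b0037d513000000000010873300000000000000000039781b0037d7030002392b0002390b0038d40300023813000007a10000000000440d3b0043fe13000d421b00440723003963230000000000000f310002340b0002323b0002322b00000000000013e90002313b000013f10002303b0043f53b000d471300000000000233130043f33b0000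000000083803000000000043df3b0000000000000000000000000000000000000000000000000000000000167f0b00000000000000000000000000000000000000000043831300000000000000000028ac03001a621b002d492b000000000039d823000f130b00431c1b0043622300000000000000000022a12b00000000001a421300397f2b00061c0b00434923003d65330000000000434003000000000023d31b00061c130003e83b00333f130000000000000000000000000003e8130043163b0000000000430d3b00000000000000000042fc3300000000002e4f030000000000029f2b0000000000042b2b0023fc2b00029f0b000000000042d31b0042d01b000000000039082300000000000000000042b71b000000000000000000391a2b0042a73300000000000000000036f10b00000000000e962b000223330042920300022323000340030024a70b000abc130000000000426e1b00249b2b000000000000000000000000000000000000000000000000001d17030000000000423633000000000000000000275833000000000000000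00007221b0042183b0000000000420b1b0000000000000000000d9323000000000038f22b000003210000000000000000000000000041d91b000a7a130000000000000000000000000000000000000a210041c01b0009ab33000000000002501b0000000000382d0b000000000041a933000e8f3300000000003bb72b0000000000000000003fae13001ef50b0002d32b00417c0300417b23000000000024f50b00416f1b0000000000000000000000000006510b0006850300000000000000000000000000000000000000000039262300137b1b000000000000000000000000002d58330005bc23002d810b00000a4100000000000a000b003a1b3b0000000000000000000b65130040e83b00000000000000000003a713003b1e2b003c960b000e3b03001e0e1b0032663b003a2323000000000000000000000000003738130040a2330019a3330040970300000000000000000019a313000b6b0b0000000000407d1b00000000001b391b003d0b1b00321413003f170b0000000000000000001bb41b00404d030019821300000000002cde0b00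3a07130000000000403113000000000000000000000000000000000040161b0010db1300000e810038c803000000000000000000020e03003f492b0000000000000000000000000000000000000000001e0e03003c353300020c2b00020c1b00020c1300020c0b000c5123003fd31b00000000001413030006440300000000000ae313003fb93b003fb20b00000000000000000000000000000000003f4e1300000000000000000002093300000000000000000000000000000000003f4e1b003f7d0300127c330003772b000000000008283b003f692b00000000003f5c0b000fd433003f5a3b003f590300337c1300121833002fd02300053e330000000000000000000000000005d61300000000003f2b230000000000000000003f191b002a3b1b001315030006081b0000000000000000003f062b00000000000000000000000000000000000000000006183b001a5f130006182b0006182300000000000000000038db2300000000003ec10b003ebd1b0000000000071c2b000000000000000000000000003ea013000292130000000000000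0000000000000028b2b0019701b0000000000000000000b3e3300000000003e652300000000003e5a03000000000000000000000000003e4203000000000000000000000000003e2c23001f7d230008681b00000000003e1e33003e183b0000000000084633000000000008461b0014fb130039540300155c230000000000000000000e472b000000000000000000081c0b00000000003dab1b00000000003dc21b00155e030007ec130007ec0b003d9d0b0001fa3300374603003b6e1b003da92b0001fa13003d9d1300000000001eb0130037ce0b003d932b00000000000363130003630300000000000000000000000000000000003cb7130002be0b0002be03002be93300000000000000000006723b0000000000000000000000000000000000000000000000000032150b000000000000000000000000003d040b0000000000000000001ad02300000000001ad00b000000000003693b00036933003cd10b0038e223000369130000000000000000000007d1000000000000000000000000000000000000000000000000000000000001f303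0001f00b0001ef1b0001ef030001ee2b0001ee1b0001ee03000000000000000000000000000ede130038db130014673b0038db0300191033000000000000000000000000003c570b00385e0b003c551b00000000002b341b0033092b000000000000000000020c33003c2b0b0005791b0006773300000000000000000000000000000000003c0f330036f4230000000000000000003594230000000000000000003be21b0000000000000000003bd23b000000000000000000000000003bb723001ac01b000d901b000d901300267f1b00000000000c8033000000000000000000000000003877330038630b003b8b1b003b8a1b00000000000bb22300000000000713130007130b003b6d2b00000000000c2f3b0000000000000000000000000037cc2b000000000001e21b0001e2030000000000000000001de22b003b2b1300000000000000000001e71b000000000000000000000000000000000001e70300000000003afa33000000000029083b00000000000000000000000000000000003acd2b00000000000000000000000000000000003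aac3b003aa62b000b3a230001dd330014c61b000000000007ac130001dd0b0008d21b0017043b000000000014ab2b003a803b003a7d2b00000000000000000002d43b000000000008dd2b000000000000000000000000003a502b00029d03003a4a230000000000000000000bb603000000000000000000000000000653130000000000000000001b9e030009982b003a01230039fc130039f61b000b1b230039f213000b1913000b190b0039f21b001ef20b000000000001d71b000afa230039da1b0001d7030001d60b0000000000377b1b0039d233001aaa13000d211b000000000039bf330000000000377b030001d33b0006070b0039af030001d323003982030001d3130001d30b0001d23b000845030039921b0001d2230001d21b0039820b0001d203000000000001d02b0001d00b00023903000007910002472b000008990000000000023c1b0000000000000000000000000039792b000000000039750300000000000000000021931b00239813000c500b00219303000ef60b0000000000000000000000000030262b0035ec2b000000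000007d53b000b462b00055b230000000000055b130000000000390f230001c82b000d49330001c81b0001c80b0001c803000000000038fb3b0006b72b000265230006b7130005950b000369230001c63b0006721300236b0b00024a23000cea030001d433001aaa0b0001c5330023a40b00155c030001c51b0001c5130001c503000000000000000000000000000000000037f6130000000000387f1b00000000000000000000000000064f1b00000000000000000000000000000000000000000000000000021d1b000000000000000000382d130001c13b000000000001c11b0001c1130000000000045c33000000000000000000000000000000000001bf3b0001bf2300000000000000000037f0130000000000000000000000000001d003000000000002421300024513000000000000000000000000000000000037cf0b0001b823000000000016282b0000000000000000002447130016281300000000000000000000000000000000003798130000000000000000000000000001b53b0001b5330001b52b001a5f1b0001b5130001b50b0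0375f230001b43b0001b433003759030001b41b0001b41300374d2300251d2b00000000000000000000000000000000000000000001bf130019842b0001b22b0001b2230001b2130001b20b0002a71b000000000000000000244123000000000001bf0b00000000000000000000000000121823000000000000000000000000000000000006853b0000000000361a0b000000000000000000000000000000000004e83b000000000004e82300000000000000000000000000000000002f923b000d193300000000000000000000000000000000000000000020853b000000000000000000000000000000000000000000361d0300000000000000000000000000000000002e090300000000000000000036050b000d3b2b0005262b001f6d03000000000000000000000000000000000022b62b000000000022b61b00000000000000000027c22b000000000035c13b000000000004ad1b00000000000000000000000000274d3b000000000000000000274d1b0000000000289d0b0000000000000000000000000000000000000000000000000000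0000003c45030000000000000000002c96130016aa2300353f1b000000000034ed1b000000000000000000000000001a1d23000000000000000000000000000000000035073b00000000000fa8230000000000000000000fa803000000000000000000000000000000000000000000000000002af033002fbc330034ba030034b90b000000000034ad13000000000034aa130016fd3b0000000000000000000000000000000000348d2b0000000000031d3b002a0b130000000000031d2300031d1b0000000000031d030000000000091533000000000026d0030014e5130034490b0014e5030034650b000000000014ec2b000000000014ec1b0014ec13000000000029e03b000000000029e02b0000000000000000000000000000000000000000001bcd2b00000000001b471b00000000000000000000000000295b0b0000000000000000000f601b00000000000f600b000f6003000000000033e31b000ac62b00000000002e1b1b0000000000000000000000000000000000332a23001e5a230026c01b0033be130000000000000000000ac43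300137b130000000000314203000aca1b000aa11b000000000004992b00099833000000000010972b0000000000249c1b00019503000000000016a22b00000000000000000016a53300000000001dba1b0032d8330004372b00132a0b00000000000000000000000000043703000000000000000000000000000000000002903300000000000d7c13000000000000000000000000000000000000000000000000000000000001903b00019023000190130001900b00018f2b0026d01b00018f1300018f0b0016920b0000000000000000001315230004d63b000000000032d73b001b0b03000d3913000000000004d60300000000000a982b000a9823000e2123000a98130023850b000b040b0031a23b0032ae3b000000000000000000000000000000000026b50300000000000000000000000000000000000000000000000000000000000000000032593b0000000000313e1b0023160b00018f1b000e253b00000000000000000013142300000000000000000022fe0b0000000000000000000c71130000000000000000000000000000000000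0a003b000000000000000000000000000000000000000000000000001b77130000000000000000003bb71b00000000000000000022b41b0028aa3b000000000012172b0026d0230000000000000000000000000023463b00000000000000000000000000232c2b000a090b0000000000317c1b00000000000000000000000000000000000000000000000000000000000000000031481b000ac9230031441b0031421b0000000000000000000000000010a30b00150f1b0000000000000000000000000031141b00000000000000000009dd03002c7f13000000000009dd1b000c243b000000000000000000000000000000000000000000000000000bfe3b0000000000000000000bfe1b000000000000000000000000000000000008cd33000000000030a13300000000002cff330000000000017b3b00017b2b00017b130030360b0030360300000000000000000000000000000000003065130000000000017b0b0000000000000000000000000030463300000000000000000000000000000000003027330000000000000000000b3e1300301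7130000000000300e2b0000000000017713000000000000000000146723002ffb130003822b0000000000146703000be633002fc51b000b3b03002fe83300017503002fe31b0001740b00000000002fe21b000b3a330000000000000000002fb71b000b3a130004b91300093f3b000175330021c20b00000000002fc22300107f230000000000000000002fad3b00000000000e3b13000000000000000000000000000170230001701b0001700b0015ea1b000000000000000000000000000000000000000000000000000000000000000000000000000000000000000000000000000000000003071b0000000000281d1300000000002f0d0b0000000000087d2b0000000000000000002ef42b000000000024a2130000000000000000000000000000000000000000000000000000000000000000000000000000000000000000000000000008ea2b00000000000000000000000000000000000000000000000000063433000c952b001fe3230000000000000000000000000000000000000000000000000000000000000000002e2a1b00000000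00000000002e1b23000000000000000000122203000000000000000000000000000000000000000000000000002c4c2b00000000002dd42b002dd123002dcf0300000000000bf52300000000002dbb33000bf50b00000000000bdf33002db31b000000000009702b000b1d03002d9e2b000d711b00065e2b0007282b0001610b0000000000000000000000000000000000279b1b0008861300000000002d740b000000000000000000000000000675230000000000000000000000000000000000000000000666230003e80b0000000000015d3b000bee0b002700030000000000015c2b002d1d1b0002f6030006a713000af8230006b62300000000002d061b000d3b230000000000000000002cf52b002cf43b00000000000000000000000000000000001073130002f61b0015011b0000000000000000000000000000000000051e1300000000000000000014d113000be03300000000002c8e13000000000006661b0000000000000000002c6f0b0000000000000000002c603b00015d1b0001563b000156330001562b00015623002c462b000156130001560b00000000001ed6230003e12300000000000bd3330003e10b002c2033000000000000000000000000002c040b000c391b000000000015690b000000000029a9230019c00b000000000000000000000000002bd70b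
def m_2 : ℕ := 0x84c7da323bc0e1094547e4a8c182129ce3c27a020425000017fc03084a7da71098041094fb521ed4042129f6ac87a8004253ed68d6607084800002fee0c109000005fd8142121f78c60a0204243ef28f7e030848637f0ba4021090fbd646a4002121f7c4a9d838423000017f00608467db11ebe0a108c00005fb8102119d5a45a90104233edb8171010846755d2a5400108cfb7636341c2109f6f43ff030421000017e80508427dbf1710081084fb820f780c2109f70c10a810421000017e40008427c9d089a0e1080e91e3fe8142101d2448eb8204203a4980fa0308407495223c04108000005f78042101d2648de00042019cf95df06083e763d017e0a107ccf4a1cc01020f94f0c5a381841f000017d802083eacb11c3402107d596610f80020fab2d440a01041e8c70801107083a749d15720c1074e93e41881420ea3c74ab282041d8036900003083a00002f9e021075f9e2158c0020e80000be683841c000017cc06083800002f960a1071ffd611901020e00000be481041c000017c801083800002f8e001071f75e44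941c20da0a9423283041b000017c405083600002f8608106c00005f080c20d80000be081041b000017c0010836ab4b26080e106800005ef81820d222ac38882841a000017bc040834f5472cb80610697abe44cc0820d00000bdc80041a7a93978b07083200002f6e0a1064e53e53b41020c9ca84367818419000017b402083200002f66021064e54e11c00020c9caa420a030418352392860508306a4919f2081060d49625e00c20c00000bd6810418000017ac01083069d713b800106000005ea81c20b9dfbc8df83041737c8966f04082e00002f4e06105c00005e980820ba10fc8cc8084176167904300082ed73f1aea0e105800005e881820b1d80423d8284168001930004082cbf1b0a9006105800005e780420b2debc2ce00041654ad970a07082a628f12860c1054f22645e81420a80000bcc820415828586e402082a9c690a7e021055bbca33200020a80000bca8384143468872d060828937d1f760a1050bb2e44181020a00000bc881841450dd8628020828c76d20ca021050e55610641c20994becad30304130000178c050826ae0b1f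6c08104c00005e280c209bd0acbb3810413808e8410000826c38b0b3e0e1048ca2a10b0142091fd34b830204120000178403082400002f060410491316100c0420921dd4b8d80041200001780060822696b2ae40a104400005df810208b022cb8e8184116046960e020822c08f081a0210458122055400208b024c63983841058c4847f060820b2a12cd60a1040c5be17140c2084047c2098104100000177401082000002ee600104000005dc81c2079d1741b883040f3c58922804081edac31af206103e00fe5a0008207c02540a880840f802c922800081e00002ed60e103800005da81820700000bb482840e7c2f844204081c00002ece041039f0b6207c0420720a543fc83840d4441857506081aa92f09f00a103603d63fe810206c083440a81040d80f68f9401081b01ef105a0e103095161e381420600000bae82040c5cc085940308188a312a20041031d71a2074042063ae3c1b180040c43eb956006081600002eae0a102c00005d581020580000baa81840b0000175402081692a7139402102c00005d48002059f9943ae83840a000017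500608146a071f5e0a1028eaf233d80c2053ddfc28f81040a0000174c01081400002e96001029fd3615501c2048641448983040900001748040812f34b1f2e06102400005d180820480000ba2808409601e904200081200002e860e102000005d081820400000ba0828408821c927f04081000002e7e041022087e04f40420400000b9e83840742568ccf06080e00002e760a101c00005ce81020380000b9c8104077f948f9e01080eeb7d24ca0e10184342320c1420300000b9a820406101e92ca03080c2497255a04101800005cc8042030e84c4c78004062085852406080a5be70c160a1014bd7a597c10202894fca11818405442d953802080a00002e560210146b0e28c40020280000b948384040000172806080855cf29780a101000005c980c20200000b9281040433fd936b010808dcad17760010117baa417c1c201a2a1cb360304030000172004080600002e3e06100d115e10480820180000b8e808403831d843700080600002e360e10085bba51d0142010d4dc3080204020000171803080400002e2e04100800005c580420109b5c1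c000040200001714070802740710f20c100574ce0c5014200ae9a437301840100001710020802ba6d041e02100574de06cc00200ae9c46738384000000170c060800737d105a08100000005c280c20000000b848104000000170801080000002e0e00100000005c181c1ff89bf42680303ff136f81dc0507fe00002e06080ffce1ea48c80c1ff8e7742f38083ff440a90230007feba7708880e0ff800005bf8181ff25a240d00283fe000016fc0407fc00002df6040ff8e6464480041ff00000b7c8003fe000016f80707fa732526ba0c0ff400005bd8141fe99f3c8938203fd000016f40307fa734507cc040ff400005bc8041fea004c3bc0383fc000016f00607f88e37085e0a0ff000005bb8101fe2ea2405b0183fc4d3189470207f800002dd6000ff127a23e44181fd80000b748283fb11da84520407f61b43089e060fec00005b98081fd88ef49778083fb11db8f7b0007f614ab13f20e0fe851da5418181fd1140c0ff8283fa4e5887460307f400002dbe040fe9396a0d88041fd00000b6e8003fa4e5c8c210707f29cbb2daa0c0fe400005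b68101fca72f40b20183f9000016d80207f200002dae020fe539860898001fc80000b6a8303f8551589920707ee9cc718a40c0fdc00005b48141fb80000b688203f74e6591eb0207ee9ccd193e020fdc00005b38001fba73445f48383f64e6991600607ec00002d960a0fd939aa1034101fb00000b648183f64e6c8be70207ec9cdb20b8020fd939ba3f281c1fa0efcc8908283f4000016c40407e81b5d1220060fd000005b08081fa099b45b78083f411e58f570007e800002d7e0c0fcc46b609d4141f980000b5e8203f3157983250307e600002d76040fcc55ea45f4041f980000b5c8003f3166080f30507e502bd2c6a060fca058e0284081f940b04b198083f2816196320707e03b612c600c0fc0d1ca4ff8141f82fe44b358203f0000016b00207e1033f25fc020fc2066e4370001f8416ec7aa0383ef70d38f470607de389b241a0a0fbd3b060694101f7c07442948183ef82db8f520207de8c9b0750020fbd0b12202c1c1f69d0946f98283ed171e92be0407da00002d46060fb4e8420650081f6af81c7a50083ed000016a00007da00002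d3e0c0fb0a9a21830141f60d19469d0203ec0000169c0307d8c69f177a040fb000005a68041f60c2bc4ba8003ec2aef83aa0707d6b8c72cc60c0fad14565458101f580000b4a8183eb000016940207d600002d26020fad0f362ae0001f580000b488383ea51d782b70607d400002d1e0a0fa800005a38101f500000b468183ea56eb8fb30107d493c323f8000fa9510613d01c1f480000b448303e939f2963b0507d200002d0e080fa400005a18081f480000b428083e97fd1872e0007d3058f10900e0fa1815615d0181f428b446888283e851698d100407d0a2d51a1e060fa148d63438081f44175c4120083e882ec88490707ce2877096a0c0f9d8d2e3dac141f3a163c4038203e742c688080307ce00002cee040f9c000059d8001f3bf9b41530383e6000016740507cc733919e4080f98000059c80c1f31ccf428b0103e6399f83fd0107cc00002cde000f98000059b8181f280000b368283e527ca8a260407ca00002cd6060f959fba2a88081f280000b348083e550e686150007ca00002cce0e0f9000005998181f234b24a8a8283e479778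f4e0307c800002cc6040f91ad6232e4041f23605c6fd0003e449178a010707c63deb18920c0f8d58ee083c101f180000b2e8183e31ef28f300207c600002cb6020f8d0fee5620001f180000b2c8383e2000016580607c400002cae0a0f89f9fe22bc101f134bb47358183e2000016540007c400002ca60e0f85a52e2050141f0b4a644098203e17e8787000307c2d29d1022000f85a54220381c1f000000b268283e049b18c780407c093652620060f8000005928081f01e74c90f8083e0000016480007c0936d0dbe060f7cad560b081c1ef00000b228303de17f08f1e0507bcd6d5191c060f79e95a45ac081ef407e421b0083de80fd852a0007bc00002c7e0e0f74000058f8181ee80000b1e8203dd7ee5846f0307ba00002c76040f760ae214c4041ee9c04c7f18003dd491989ff0707b800002c6e0c0f70e78621d8141ee00000b1a8203dc815f80a40207b800002c66020f70000058c81c1eda1414b020303db000016300507b6a8670a1c080f6e043e2074081edbfb3c8728083db7f3b930e0707b4322b28b80c0f68d8621300141ed27234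6c48203da413981b70707b200002c4e0a0f6400005898101ec992bc2ee8183d9253c8f8c0207b26195132e020f6472de57a4001ec8d04c6260303d8000016200507b04a6b2476080f605a4253200c1ec00000b0e8103d8189087a50107b000002c36000f60623a175c1c1eb20b5c7e40303d662c687e80407ac00002c2e060f59fe2e10c8081eb00000b0a8083d64e7793270007ac83f31c76060f5629063d70001eac521c7ac8383d42acc8a450607a8327528ca0a0f5000005838101ea4187c7a28103d40000160c0107a800002c16000f520c4a20081c1e980000b048303d31ee481420507a600002c0e080f4e0c2e3d1c0c1e98c8dca2b0103d3301a95ff0107a7061910060e0f4800005808141e9180c488f8203d2000016000307a400002bfe040f48c06e34c0041e900000afe8003d2301d857e0707a256bb19100c0f44d98629ac141e880000afc8183d12b5e8b530207a2603f2bec020f44ad8a29b8001e89816c3c50383d014058aba0607a05bf50f4a080f405f3220e80c1e80a03c19e8103d02ef68b530107a05def040c000f400000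57b81c1e71a2446068303ce3664825405079c00002bd6080f385e2e5274081e700000af48083ce174c92b900079c2ed129700e0f344aca4abc181e69b3544490283cd18af88c004079a00002bc6060f35e2c210b8081e689e94a5b8083cd000015e007079800002bbe0c0f3067423e9c141e60bef47b48203cc19d18df103079833a50754040f30674e35a8001e60cea495c0383cb243c903b050796487b1090080f2c90fa4ea00c1e5921fcae40103cb000015d40107964883136a000f2c910a13f8181e50792c5280283ca10368abb0407941f031c5e060f284546377c081e508e347ba8083ca11c7864c00079420c710ec0e0f24910e0724181e48a9049508283c9000015c8030792488d1f44040f2400005718041e4922442a80003c9000015c4070790489501e80c0f2000005708141e4122649190203c8244d956b030790489d2b1e020f20913e11cc001e41228412d8383c7245184c806078e2d1516500a0f1c914e2460101e380000adc8103c7245584ed01078e48ad184c000f1c915e1fa41c1e2922c45be8303c5000015b405078a0000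2b66080f14916a25600c1e2922dc1790103c513a492b300078a48bb08960e0f1009b61734141e200000ad68203c41a7593d503078807c526e4040f100f524ee4041e2014242e20003c4030d8fe006078652f908dc0a0f0c00005698101e194bf45d50183c3000015a402078652ff18dc020f0c00005688001e194c0c8930383c2000015a00607843ae30f96080f090fb61e100c1e100000ace8103c20000159c01078487dd1fb2000f090fbe12a01c1e080000acc8303c101e68e8e05078200002b2e080f050fc60ae40c1e080000aca8083c10000159400078287e9024c0e0f0000005648181e000000ac88283c00000159004078000002b1e040f010fde0efc041e021fc49ea0003c00000158c07077e00002b160c0efc00005628141df80000ac48203bf305991d903077e87f90780040efc00005618041df80000ac28383bd1c2b818905077a229d04be080ef476724f940c1de80000ac08103bd0000158001077a00002afe000ef4000055f8181de133cc2be0283bc0bda9298040778194127fa060ef0000055e8081de00000abc8083bc0000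15780007784cf7106a0e0eec000055d8181dd9a5a48990283bb0000157403077600002ae6040eec000055c8041dd80000ab88003bb34b7875e0707747ae91b8c0c0ee86cfe48f4101dd1794c1f38183ba2f2a87e50207742ffb2864020ee8bcb20550001dd179743fa0383b81946837f06077102f509100a0ee11e3653e4101dc00000ab28383b70000156406076e00002ac60a0edd0faa0600101db80000ab08183b70000156000076e87d9103c0a0ed9bd9601cc101db000000390103b6700a807001076c000000060e0ec910560d2c141d9220b41c40203b20000155803076488310910040ec988ce4640041d9220d44120003b2441b8d1506076242b10b100a0ec485664fec101d880000aa88183b10eac8a3b02076200002a9e020ec485720dc8001d8874d451f0383b00000154c06076088390d900a0ec110760d3c0c1d800000aa48103b0441f874101076088410b76000ec1108637bc1c1d780000aa28303af0000154404075e884902aa060ebd10962620081d7a21345dc8083af4427885900075e891507520e0eb865f24aa0181d71d34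44120283ae0000153c04075c00002a76060eb9b2de4080001d7365c480d8383ad0000153806075a1cff14ac0a0eb4000054d8101d6a21849848103ad0000153401075a886505f6000eb5b2e640501c1d6221a42368303ac00001530050758886d18e6080eb0000054b80c1d6365dc8090103ac421891aa010758887501b80c0ea8000054a8141d51461c1788203aa0000152803075400002a4e040ea867560f30041d5157841f60003aa0000152407075200002a460c0ea400005488141d4a286427d0183a9450d93930207528a1d05f2020ea5143e204c001d4a28849b48383a81c18848606075061430eb6080ea114462e3c0c1d4228941f78103a8000015180107508a291842000ea000005458041d3a596c39f8383a622e7852506074d06e520000a0e9800005448101d3228bc41a0103a64406902b01074c8a330fd0000e99b2ea404c081d2a3c7c68a8303a40000150c050748281b0fd4080e90503a1ea80c1d20ce3c38b8103a40000150801074828231d0a000e90000054181c1d1ae2dca7f8303a3675e8bfe05074600002a06060e8c000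05408081d1b3f6c12d8083a36761815a000746000029fe0e0e88000053f8181d11c19c75a0203a2592c904b030744d01703fa040e899dba48e0041d11c8e47590003a2676f8acb0707429a4113200c0e853486263c141d0b3a5c83b8203a150de803d0307429a87131a020e85348a262c001d0b3a7c1278383a0000014f0060740000029de0a0e819d461ff4101d000000a768103a04f12819d0107409ceb2606000e819b1a53901c1cf89a0c38b83039f000014e805073e000029ce080e7c000053980c1cfa7ffc0cf01039f66be94e301073e59dd184a0e0e7800005388181cf1d64429482839e000014e004073cceb10a2e060e78fbae1098081cf00000a6e80039e675a855007073a325f06360a0e7400005368101ce80000a6c81839d1932877d02073a000029ae020e7464d235f8001ce8c9ac1f503039c3361815805073866c525de080e70be8e4bd40c1ce19c4455701039c3364825101073836ed28f4000e713e762acc1c1cd9998409383039b333186480507366665088e060e6cccce131c081cd8ab3426900839b000014c8000736666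b09660a0e68ccda2360101ccbb9dca100103961767816d06072a93e71bda0a0e547b764990101ca9785c2d1018395000014c002072a0000297e020e54000052f8001ca80000a5e838394000014bc06072800002976080e50aba623000c1ca165e44e4010394000014b80107280000296e000e50abae2cb81c1c98bb4c41a830393000014b40507262ed7293a080e4c5db22d8c0c1c98bb6c957808393000014b00007262edf06fe0e0e4834c22ff4181c92c2647d902839238e18144040724d5ed03b8040e48e38e39f0041c900000a548003922bfa87ab07072271e1011e0c0e45a1123724101c8bc4742f581839138ec8e7d02072271db27420e0e4030362fb0181c80bc042be828390178187ab0407200000293e060e405e0e218c081c800000a4e8003901785863302071efa29216e0a0e39a31201340c1c734acc02101038e0000004a00071cfa350d36060e3400003168081c6b3dcc62c80038d789b85ec070718d24518ac060e31b32e314c081c6349f462900838c78f980f1070716cf7b189e0a0e2da4963134101c5b3df462601838b67b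f8c4b070714e0ab1338080e29a06a30f81c1c4b3ddc61d02838900000b84030712cf79186c000e24000030d01c1c400000a4282838841d393ce040710c6af264c060e21b7c233e0081c41ee1c7b780838800001480000710000028fe0c0e1c6dca2d20141c38db9c7ce8203871b74825103070e236b1ebc040e1c000051e8041c38dbbc0818003870000147807070c2793165a0c0e18000051d8141c300000a3a81838616878b2402070c000028e6020e185cfe47d8001c300000a388383850ebb85fb06070a0ba11cd8080e1450964f040c1c28b3bc72f810385789588c401070a2cf101dc000e1459e609dc1c1c20dbcc58e830384193785080507082cb102ec080e105a4a2ba0081c200000a32808384193b8207070706327b17860c0e0c64fa3d50141c180000a3082038319408c36020706328502e4020e0c650e0518141c13c4b446c0383810000145c050702322d1ad2080e04645e06dc0c1c08c8c4401010381191980a701070232350142000e0400005158181c00c8e409002838000001454040700323d1bee060e00647e4f70081c00c9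040818083801921825100070026d908040e0dfc648e2838181bf8c9241dc02837f19258e820306fe324d10ea040dfc00005128041bf8c94445b80037f000014480706fc0000288e0c0df8530202bc101bf0a60c0ca01837e000014440206fc298727c8020df8531a4dd8001bf00000a2081837d193c81730006fa3283088e0e0df064aa2cc8181be0c95c23a82837c192c8bd90406f828592218040df064b61320041be0c97425980037c195084390306f632ab003a0e0de85fe63718141bd0bfd404e02037a17fb83e70306f42ff90fca040de8000050c8041bd0bff40aa00037a17ff87f40606f2cee506d20a0de59dce3a9c101bc968ac3c401837967748eaa0206f2a1811666020de543062c78001bcb3bb44ce038378129d93090606f00000284e0a0de04a7a49980c1bc00000a128103780b4e94230106f000002846000de0663a16001c1bb99b3c4ce02037733398c3e0306eeee7b012e0a0dd860164900041bb340dc61e0383754fa092fd0606ea000019d40a0dd5a9c247d8101baa713497d810375811e86670106ead057186a000dd5a0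b230f41c1ba0c134340830374139c87e70506e8305f01e4080dd0609e2d680c1ba0c144262010374681c8c3b0006e830550f300e0dcc00005038141b980000a0682037303d187c00306e60c8f091a040dcc14be3f84041b9832446bf80037305d885f60706e45bef16be0c0dc9f9021b94141b900000a028183722df88e2d0206e42d8322ba020dc800005008001b910af41d8838371000014000606e27459081e080dc400004ff80c1b8800009fe810371000013fc0106e2000027f6000dc4376a41bc1c1b80b644663030370000013f80506e105d120f8080dc033821a1c0c1b8000009fa8083707e4782660006e0398106060e0dbe16a62a9c181b7a865448e82836f000013f00406de000027de040dbc00004fb8041b796a148ac80036f000013ec0706dc424f1c1c0c0db800004fa8141b71281c5fb82036e000013e80306dc000027ce040db894260a80041b7000009f283836d000013e40606da085f22aa0a0db4a08e15c0101b6862a434401836d4f2d93d70206da000027be000db400004f78181b6000009ee82836c000013dc0406d81e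af21b4060db13cb20998081b60811c65580836c10248c830006d8000027ae0e0dac00004f58181b5800009ea82836b000013d40306d6000027a6040dae0bc62628041b5a798c5a200036b390c934a0706d40000279e0c0da800004f38101b5279ac0f201836a000013cc0206d50fed2762020da9adf24df8001b5279bc7b903836967ac83790606d2d7bd02680a0da546220ad8101b4c43440c0818369883f909e0106d2a3171762000da400004dfc1c1b4000009e083036824ed814b0506d00000277e080da144464a34081b4000009de808368440090340006d09e7526c40e0d9cbdc6331c181b3800009dc828367000013b80406ce8899024c060d9d3cf644d0081b3800009da80836722b78d350706cc5c9f06020c0d9800004ec8141b32807465e020366794389b70306cc0000275e040d99b30603e0001b3000009d68383650ed791870506ca00002756080d9400004ea80c1b2800009d4810365000013a80106ca56370ae6000d94aca249e8181b21c7546e482836413f78d9b0406c871d70bd6060d919b5639f4081b2102dc3d500836420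5988c00006c871dd012c0e0d8dba5a2f64141b1b7f2456b0183636e978bd50206c715e502ac020d8e2bce0574001b1bae4c2060383621bd588f80606c456f30f660a0d8800004e58101b140dcc93b8183628a7188190106c400002726000d8a06ce0cac1c1b0800009c8830361000013900506c314670690080d8400004e38081b0c107c7ca8083610000138c0006c2000027160e0d8000004e28181b0000009c482836083678ae20406c114b92002060d8155fe4748081b0206447e30083607ffe90dd0506bf1733011a060d7a483221741c1ad0b6cc9a602835a3e0a90040406b4a34d1760060d693fea2a9c081ad27fdc66300835a4ffc8cb60006b4a34b197c0c0d6411a21f04141ac8a78c592820359000013780306b2000026ee040d6400004dd8041ac800009ba800359165684bd0706b09bd5138a0c0d6000004dc8141ac000009b88183588276848f0206b10ce10c78020d6209ce1208001ac413a42450383575edd8f4f0606ae000026d6080d5dba1e2b180c1ab800009b4810357000013680106af172d011e000d5c00004d981c1ab43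844344030356000013640506ac000026c6080d5913b63e20081ab2405c2e5808356000013600706aa5ee722680c0d5400004d78141aa800009ae8203550000135c0206ab08510a30020d5400004d68141aa45cc4095038353000013580506a6000026ae080d4c00004d580c1a9817dc9998103536f0a81380106a6000026a6000d4c0bfe1bac181a9000009a882835262a88e7e0406a42d410c60060d4800004d38081a90b68c4e20083520000134c0006a435d304f40e0d4400004d28181a8800009a4828351392182820306a20000268e040d4400004d18041a8b63f45c7000351000013440706a05cb708b40c0d4016ca28c8101a8000009a0818350000013400206a0d77916f6020d41bbf62ea0001a82784469803834f23158f8806069e000026760a0d3de4d21e68101a7a254c1d801834f0000133800069e0000266e080d3a2a0a16b4001a74543401183834d2b35910106069a000026660a0d35bb4a3864101a68000099881834d8a8185b102069b14f50b72020d3629ee16901c1a60fe348d982834c0000132c0406989ce91f48060d314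5923f0c081a6380c498180834c4e76819e0006980000264e0c0d2d12a20ec8141a58000099282034b00001324030696cfd9155a040d2ca2223a08041a59442c4bc80034b50d3863107069452530a4e0c0d293fc632f4141a545cac09a01034a4f268ace010694d7cf1b44000d2a40160c681c1a48000098c83034941e68834040693159522dc060d2400004c58081a4a7afc0c70083494b1f818800069316090cf20e0d2000004c48181a424ddc11302834800001310040691146b06c2060d2000004c38041a44624c0940003480000130c07068e000026160c0d1d3fb62aa4141a3800009848203474fe88c1a02068f188f0268020d1e312e0484001a3c62440948383460000130406068c000026060a0d193ebe2ab0101a3455fc1560183460000130002068d1895024e000d19c0862d401c1a299b345598283454e2591f604068a000025f6060d16194a3bb0081a2a772c3338083454ee98c3500068a9dd1187a0e0d1000004bd8181a20fcdc8d90283444e298f59030688000025e6040d113f3235d4041a2271546fd8003444e2b8dc40706861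34111200c0d0c00004bb8101a1b5e5c0d28183434ef8825a020687126505ec020d0e24b61c14001a1c4b3c13a0303426d838922050685126d0c0c080d09b61224800c1a136e5c01d808342893f86b7000684db0b123a0e0d061ca629bc141a0b55243420203416aa58683020682d54d0d02020d05aa9e1a00001a0c49f435c03834051328d01060680a26724060a0d01b2623b78101a0373ec323818340896c8b03020680000019e2020d0144d633881419fb6c444d582033f6d8989aa03067edf3d0e32040cfe250e1ad80019fb6c5c4d403033e101890f205067c20331158080cf800004b380c19f080dc93901033e101c8b6e01067c203b0594000cf800004b281c19e8a4c40cd03033d149986d705067a27e72560060cf400004b180819e8a0341e800833d12d187af00067a000025860e0cf0582e34541819e0b86c55c02033c170e923e0306782c1f175c040cf000004af80419e0ab6c73f80033c159c8dbc07067692b723080c0cec00004ae81419d8000095c82033b000012b80306760000256e020cec53823db80019d8000095a83833a3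33c8ae8060674000025660a0ce800004ac81019d0cad459281033a000012b00106740000255e000ce865e635e01c19c8000095683033913538cd205067200002556080ce45f7e2ccc0c19c8cb34337010339000012a801067232ff09b20e0ce05476262c1819c0a8f40a782833815e98e7604067000002546060ce0549618f40819c00000950800338000012a007066e0000253e0a0cdcae2a0c481019b95c5c4e60183370000129c02066e571919f0020cdc00004a680019b8000094c8303360000129805066c0eff1200080cd800004a580c19b2d2ec2c08103360769890801066c00002526000cd832b20c281c19a940dc3f00303350000129004066a4bc909b8060cd528da286c0819a800009468083354d25898700066a000025160e0cd000004a281819a0d75c4e58283340000128804066908071100060cd000004a180419a000009428003348c17816d070664baa50b300c0cc8580649981419937fdc6e40203326f1b88f9030664818f135a040cc8000049f8041992e2941890383316f538208060662221d15c00a0cc4000049e8101988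000093c81833141118f65020662000024ee000cc5510a13cc1c197c635433782032f8ff7844207065a000024e60a0cb4000049c8101968e91c57081832d0000127002065a000024de020cb44bda2dbc001968d21c6da83032c15f688fa0506582bef06c8080cb057e231480c1960000093481032c15fa80f10106582bf70396000cb0000049981c1958000093283032b00001264050656000024c6060cac0000498808195c204445500832b81b58362000656000024be0e0ca800004978181952342424782032a6fd48a9e030654dda31c38040caa309e043c001950000092c83832900001258060652278912180a0ca400004958101948000092a81032900001254010652ffdd02a20e0ca17b6647a4181940000092882832800001250040650f7cf23da040ca190ce2050041943fbdc2c38383271ed7903c06064e8ec10b460a0c9c0000492810193800009248383260000124805064c0000248e080c98000049180c193195544558103260a5989fa01064c0f1313f4000c98000049081819280000920828325157d83f304064a382f1410060c94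000048f8081928c0340490083251aa0910b00064a000024760e0c90000048e8181920000091c8283240000123803064904250926040c90ba422e0c041920000091a80032450f68a06070646000024660c0c8c000048c810191c1dec073818323000012300106472009104c000c8cced21ea01c191321a49140303220b2d8d090506451ff11054080c8a13462ad00c191321e48f780032200001228070643103504a20c0c84f30a3f2814190bff9c3fb020321483b84a5020642ffe31f42020c86055e059800190800009108383205b6a8f700606400000243e0a0c800000487810190278546130183200000121c02064087971574020c81086a469c1c18f8933c8a902831f0e9681b004063e87af0308060c7cfd5e253c0818fc3ad467300831f34c284ed00063e7ea90f680c0c78ce521d081418f34dd467f02031e0000121003063cd4dd0cde040c78ce6a02b40418f0000090680031e3396866f07063aa49f04c20c0c75252e27901418ea4a644f181831d8bcd82f302063a9c21007e020c75255227800018ec5eac3f783831c87e88d01060638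00002406080c71638625a40c18e43f5408081031c6e958cf1010638de2319c4000c71ba8e33a81c18d800008fe83031b1949839d050636000023f6080c6c000047e80c18da765c7c680831b8c6d866a00063693d71f1c0e0c68000047d81818d30f8c6bc02831a916081580406351fff1002040c6a31a219c80418d480041a500031a90018460070632000023de0c0c659f02341c1418cb69246e782031983ca8765030632000023d6040c6631ba19a40018c800008f48383181eeb8f2c050630b2c11b1e080c60000047980c18c2cb3406a81031859628736010630b2c70274000c61659243941c18b800008f0830317494889e805062e000023be060c5c000047780818b800008ee808317379a89eb00062e000023b60e0c58000047681818b000008ec820316000011d803062c000023ae040c597d0e43d40418b2fa246b20003164a2c8a1307062a000023a60c0c54000047481418aaabf48e5820315000011d003062a0000239e020c55711645880018a800008e6838314876e8a68060628000023960a0c51210e15a41018a000008e4810314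000011c80106280000238e000c50000047181c189800008e2830313000011c405062600002386080c4c000047080c189800008e08103135c49886f0106260000237e0e0c48000046f818189000008de828312000011bc0406245735066e060c497136458008189000008dc8003125c4f83320606223f8b091c0a0c447e8610a810188800008da81831142128f8202062200002366020c44000046c800188944bc521838310000011b00606206d4514040a0c41085214500c188210ac156010310000011ac010620842f19c0000c40000046a81c187800008d483030f1cf185e404061e41bb221a060c3d086e3dc408187800008d280830f000011a400061e843d05fc0e0c390f6e2c7818187343ec42402830e4248918f04061c8493231c060c39092a46340418721f0463880030e45018c7407061a608311940c0c340000466814186800008cc82030d4220818702061a4bc709ba020c340000465800186a11248c681830c42238c74020618844518e6020c30000020d01c185a123c58f03030b4419884805061677b70172080c2c000046380c185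800008c681030b43da8082000616849718e80e0c2889d627ac14185000008c482030a000011880306140000230e040c2800004618041850656c19b00030a00001184060612000023060a0c24cf120508101848c65473881830900001180020612678b1642020c24cf1a1fa800184800008be8383080000117c060610a28b05580a0c20000045e80c1843796c54f81030827108872010610000022ee000c20000045d80c183c909c4538383066ec38e2d06060cdd891c580a0c19bb1638ac101834566c21d8103066ec68e2901060d013d0862000c19bb22389c1c182800008b68303050000116c05060a000022d6080c15b08e31d00c182800008b48103050000116801060aa8610a240e0c100000459818182000008b28283042cce89c9040608000022c6060c100000458808182000008b0800304000011600706066a2514d80a0c0c2d5e28d8101818601c7020183032b4582ca0206062d850d14020c0c73120dc000181800008ac83030200001158050604000022ae080c08000045580c181000008aa81030200001154010604000022a6000c0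8000045481c180800008a88303012e5283660406020000229e060c040000453808180c545c07580830141148599000602a88909dc0e0bfe0baa1eec1817fa8b340f20282ff543f84ff0405fedcd71540040bfc000045180417f800008a28002ff8ab486c90705fc7ae30f680c0bf951523f601417f41fac3648202fe841281530305fd156b0d8e040bfa104e0bdc0417f215ec1878382fc1d6686170505f8b5370afc080bf0000044e80c17e0000089c8102fc5a9f86710105f8b0cb0a8c000bf0000044d81817d8000089a8282fb000011340405f600002266060bec000044c80817d800008988082fb5eb18b8f0005f68959075a0e0be9bb3238981817d3766c7128282fa6fb7825c0305f4dd9d1c44040bea229e10ec0417d3767c7108002fa6ed08e200705f20000224e0c0be4000044981017c800008928182f9464c83a90205f200002246020be57e7637b40017c800008908382f8000011200605f00000223e0a0be0000044781017c2a46c2720182f8484585670005f0000022360e0bde0f7213e41817b94a7c4650282f7000011180405e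e7b3f18c4060bde21c620100017bae41487b8382f650828df10505eca3d51bde080bda23fe03e00c17b449841a18102f66ef5884c0105ec00001aca000bda22d221041817a800008868282f50000110c0405ea303b1878060bd5a57a2ce80817a906a42600082f520d584ba0005ea4635088e0e0bd0000044181817a1f7842520282f47ef4872d0305e800002206040bd0000044080417a000008808002f43d4a8f980705e6a6a91c180c0bcd4d56019010179a9abc7050182f3800585320205e71799063a020bcd4d6a381c00179aa2dc7030382f241fc8e380505e4000021ee080bc9720e15d40c1790000087a8102f2246383c50105e472511d5e000bc8000043c8181789ad542308282f1370982760405e2518b0754060bc59fc629b8081789b8543d18082f1370b8e630005e25ce516a6020bc2108e02d400178420fc05a0382ef000010e80605debe8d08b2080bbd50d214340c177800008728102ef8a4a80d40105df149b015e000bbc000043881c177000008708302ee000010e00505dc000021be080bb9f5ba14740c1770000086e8002e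e000010dc0705daa06d0c7e0c0bb40000436814176c1fc41510202ed000010d80305da000021ae000bb53a8e347c081764324c61c8002ec4c468f3e0605d70c2b1fa20a0bac00003cec0c175a6c2479d0102eb4c488f390105d698931e70000bad3ae63cdc1c175283e479b0302ea51e98f350405d4a0fd1e68060baa1e0233f808175283fc7998082ea87828b960005d4a1031e620e0ba538163cc018174a70347978282e94e078f2e0405d29c111e5a060ba538263cb004174a891c7958002e94e0a8f2a0705cef6031d540c0b9db34a339014173a66547910202e7861d856d0305ce9f3f1e40040b9d332e3c7c04173a666478f0382e64c4a8f1d0605cccf7118be0a0b9a275e037c101732626478d0182e64e038f190205cc9c051e30000b9938123c5c18172800000ea0382e4000008440605c80000006a0a0b900000210c0c172000004208102e4884488270105c8d75b04fe000b92208e06600c171c42848510382e18dfc81d80605c2d69b10920a0b86214e19fc10170a7f940298102e1883c907b0105c29ecd00a2000b86213a42581c17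03544c7778302e069668fea0505c0d3730524080b81b32203d40c1704421c84a0102e05180804a0105c0a30300920e0b7dadc6047c1816f800000030282df884a807b0405bf1091032a060b7db6ae04700816fc5afc03d8002df6bbf80f90605bc00000230080b7a33c61a500416ec8bac3b88282dc920d885c0305b922f52114020b7245ee01e80016dc8b548450082da000000700505b322f310b8060b6631fa000c0816cc8bec03d0202d88ffa832e0705ad2569047e080b553ece3acc0c16aa7da47590102d56f8180b20005aa9f6b1d5e0c0b51ae722cc01416a355645978202d46aad8b2e0305a8da270090040b51aaba2cb40016a363cc5958382d382978e020605a6000000a40a0b4e20be1cfc0c169a7f0c5cf0102d351a38cb00105a69fc5131c000b4e2f0e04001c169369fc12c8202d2000002560305a5115902b4040b48000009500416936fcc1298002d26f91800f0705a2000020de0a0b44000041b810168800008368182d10000106c0205a2000020d6020b44000041a800168800008348382d03ca08a1b0605a0000020ce0a0b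40000041980c168000008328102d063b788810105a0000020c6000b40000041881c167b18243ce0302cf0000106004059e7acf1c4c060b3c0000417808167b1dd45f48082cf0000105c00059e000020b60e0b3800004168181670000082c8282ce0000105804059cc7bd1150060b3800004158041670000082a8002ce63f5825407059b0f1114ba0c0b3400004148141669c9dc33f0202cd0000105002059a0000209e020b358f962ef800166b1fb47d00382cc0000104c060598000020960a0b30000041281016631f0c37c8182cc63f882b3020598906f0952020b30000041181c165800008228302cb59858b670505968809205c080b2d0ef222fc0c165800008208102cb000010400005960000207e0c0b28000040f81416507c843e18202ca0000103c030594372908f2040b28ad0e0c0c041650000081c8002ca101f833e0705920000206e0c0b24abea2a5c14164a1ffc39b8182c93d708c2c02059200002066020b251006254800164800008188382c8000010300605900000205e080b20000040b80c164000008168102c843e7809c0105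9000002056000b20c702173c18163800000018082c70000009a00058ed96d01320e0b184a263780181631f2c42ce0282c644098ded04058c00002046040b180000408804163000008108002c6442b889f07058a881b09f40c0b14f01e2ddc14162a20745d48202c5440f815703058a00002036040b151042229804162a208c4500382c41f118b200605888e3d18340a0b10a1063e04101620000080a8182c444338ad602058800002026000b1110e211fc1c161a756c68c8282c34eae8d17040586a6c50a1c060b0d517e3f0400161a9b1c4248302c25561857705058426cb1cf4080b08000040280c161363d45998102c22b5483df0105840000200e000b09a58e2c7c1c160000008028302c00000100405058096e9190c080b00000040080c16033a143d90082c04fb08c11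
def jm_2 : ℕ := 0x14de030007eb2300015dd100000000002a431b002a4313002a430b002a43030000000000000000003eb82b003eb823001ede2b003eb80b00014b71000000000008bc3300000000003b11130008bc13000159c90008bc03000c8e3b00000000000c8e2b000c8e23000c8e1b000000000018ec2b00062b3b00062b2b00062b2300062b1b0000000000062b0b0015263b0004a3330046b613003ad32b00000000001891130018910b0018910300108a030038963b003896330027e223000065890000000000007e8100000000000000000000000000196d2b000000000000000000000000000082890019753b000000000000000000000000000000000000000000014039000000000026e21b0000000000009941003c3d2300000000000001e90000000000178e2b00178e23000000000000000000178e0b00178e030032e4330032e42b0032e423000000000000000000016cf100000000002d7b1b00016281000000000000000000094b2b004dcd13002cb123000000000001585100007451003c2b130000000000239d1b00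0145b9000a001b0050e5130000000000000011001e4b0b003b6a1b0000000000277a3b004bcf330001826100000000000a7a0b002e431b00015f810019aa2b00000000002b7b1b0000000000009e010017751300268d230018253b000149a900000000000000000017213300171e0b0000000000289e130000000000080e2300080e1b00080e1300080e0b00080e0300012df100012b410021342b0000716100000000000000000000000000451a1b00532f330044682b000029990007f5130000416900000000000000000000000000008dd1000000000018a913002bab0b001f901b000e0d03002cb52b002c3c23002cb513002cb50b0021f80b0000000000202b1b002b4d13001399130013990b0009191b000000000000000000000000000000000029e003000000000041161300000000000020b100015991001db21b0000000000000000001ec8230031081b000000000000a1410000000000000000004dc93300000000000000000000000000076c2b00000000000067a1000000000026f41300000000000000000000000000006ba1004a1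5130001ebe100000000001038030001c381000000000033400b003b211b0001866100017fd10053ee0b00112f3b000000000035ff0b0000000000000000001bcb3b000000000000000000017199001ad02b004e4c2b003c261b0000000000000000002bce2b00000000000061b1000000000047e22b0001d12100000000000000000000000000144f0b00000000002e163b000a6833000a682b00000000000a6813000a680b000a680300000000002cbb3300000000000000000000000000000000000000000001e0b10001e0e100000000005342230005ed33002ef5230018b503000000000012072300000000000000000016710b00000000000000000016703b00000000000171c10000000000015e91000000000029041b0000000000183a3300000000000468230022fe1300000000000773230000000000190b2b000036e1000000000038670b00190b0b0053812b0001dd71000c02330008192b000000000008191300000000000819030008183b000000000008182300000000000000000008180b00000000000143410008163b00000000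00000000000816230008161300000000000816030008153b000000000008152b000000000008151b000815130008150b004fc43b000000000001f63100000000003b9613004a3f0b00000000000e653300000000001240230000000000124013000000000005f8030003f22b00006c110003f2130003f20b0001c42100016f61000054390000000000006ab9000010d9000063490049ff3b0001c9410008312300006f6100001df1000c9123001a7d2300015c51000027310000000000099a1b004a09130000000000000000002296330043e42b000000000000c2c1000000000001d6510015250300011a610016a7030000000000000000000000000005401b00000000000fc53b000000000000000000000000004ba21b004af83300541b230000000000015cf9000000000000000000000000000075b1002d3303003ce61b0003e8330003e82b0003e82300431b0b002c8613002c860b001b631b00004591001a7d03001a7d0b000000000000000000007901000000000016f32b000000000016f31b0016f313000000000000000000000000002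2b60b000000000024f03b00000000000a782300000000000000000041a333000066a1000000000041a00b0053972b000fa83b003f4f1b000c6a3300000000003f921b000000000021162300000000000000000000000000007e41000deb1300000000000000000003e13b0003e12b00007e010003e11b0003e103000000000025fb2b0025fb2300000000000150b1000000000025fb030001910100000000003783130036f90b00009bc9001860130018600b0000000000000000000000000019af230000000000006441000161c1000fa82b0000000000015d21000000000003f223000000000000000000184b2b00000000001f2b0b002c5f23000077d100006bd10003da3b001b96330044a413001a230b000000000000000000219103004af61b000178910032d60b003f9e03000000000053642b0014661300000000000031610000000000219a03004bf23b0000f3e100000000000076f100000000004b5d030018543b0003d51b0003d503002f922b0008c71300000000001ded230000000000000000002bde1b0000000000079333000000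00001dec230003da03001fc81b001dec0b00000000001fc82b0000000000000000001fc81300000000001fc80300373c3b00372d330000000000373c1b003aab0b003742330029731b0012c53b0029ea33000d3b1b00007a71000c2d13000c2d0b00000000003e983b000d9c33000000000001d7d9000000000001d7f90008b8130054d33b002ea633002fb92b000000000000aa41000075a10000000000000000001526330001d761001526230015261b0015261300152603001cf13b001cf12b001cf123001cf11b00000000001cf10b001cf1030006850b0038a32b004768230045fa1b0023d6130023d60b0018131b000ada3b0007eb1300000000000ada1b00000000000ada0b000000000006043b000000000006042b000604230006041b0006040b00060403001bc13b003a2c13001bc12b00000000001bc113001bc10b001bc1030010f43b00000000000000000010f4230010f41b0000c7310010f4030021683b000000000001d1a900022c4900022cd10021290b000231c10019aa33000000000019aa23000000000019aa13000000000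019aa03000000000001c4f1001b0d230000000000000000001b0d0b001b0d0300000000000237f100000000000fd2230000000000000000000fd20300000000000000000000000000000000002117130021170b0000000000000000000000000000000000017b710021161b00000000000000000009593b000dde2b00019a4900000000000000000000000000000000001fc0330001fee100019ae9000000000000000000000000001fc0030000000000289e330000000000000000000000000000000000016e2100014ef10001ce31000807230008071b0003ba130008070b000181010004c02b00006c090027e22b0000000000000000000000000009192b0000000000000000000919030003b62b00000000000ad523000000000013263b0013262b000000000013261b0000f7410013260b00132603001401330014012b0000000000361913000000000014010b0020852b00000000001339330013392b00000000001339130013390b001339030000000000000000000813230008131b000813130008130b00151e03001c2113002c8a330000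0000000000000003b5030003b41b00000000001218030000000000112f230000000000112f0b0003b31b0005583b000000000005582b000000000003b303000f85030005580b000000000010ef2b00000000000000000001d401000192310000000000000000000000000011242b0011241b001124130011240b0011240300017e81000179510016a7230016a71b000000000016a70b0000000000417f33000151e100000ed900000000002b4d23004dce0b002b4d0b0003b3130027e20b000000000029fd2b0029fd230001d411000000000000781100000000004e1c1b0008303300000000000000000024f10b0008300b00000000000000000048f033004df01300149a2b000bf0130048e213000bf0030003a13b0003a133000d7a2b000a7a030022c4230003a10b000d7a030000000000000000002bc92b00000000002a212b004b5d130000df890027163b0000000000000000000000000027d72b0000df910009d91b00000000001de53300000000001d8a23000e3b2b00000000001d8a030011fc3b00000000000000000011fc1b0000000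00011fc0b0011fc03000828330008282b00555f1b0049a33b0008281300064d130006b32b0006fd3b0006fd330006fd2b0006fd1b001bfb0b000000000006fd0300039a2b000399230003961300463e330001ac2100207e23000000000000000000000000000000000000000000000000001bcb23001b472b0000000000000000001bcb030008b73b000000000008b72b0008b7230008b71b000000000008b703003e413300006c4100079e2b00107f1b00079e13000000000026d62300015fd100395d330021f3230003911b00039113004e7a2b0008b5330008b52b000000000008b51b000000000008b503000088090008d51b0024ef03000000000024f7030000000000038d130021f60300038c3b000ae503000ae60b0000a7b100038b3b0010801300038b2300038b1b0037881b00038a230003893b000000000003891b0000000000000000003831130000ad010020fd0b003a183b000000000000000000064d3300064d2b00064d2300011e410000000000064d0b000000000001dfa10000000000000000003a261b000000000052bf0b00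0000000022373b004814330001de610005d41b00000a510005d40b0005d403003a023b0008c7330008d9130001d8a1000000000008c70b0007a93b0007a933000000000007a9230007a9130007a90b002ffa2b000000000003da2b0003da230003da1b0003da130003da0b000000000006503300000000000650230006501b000650130006500b003a8b3b0015683b001568330015682b0015681b000000000015680b000000000000000000043a3300043a230000000000043a130001dcf1000000000008c7030007a91b0018723b001872330018722b0001de51001872130018720b0003821b0001d4e10003ba3b0003ba2b0003ba230003ba1b000000000003ba0b0003ba030013c8330013c82b002b90030013c81b000bb613000bb60b0013c8030053ee3b000000000053ee2b0000000000020291000000000001d4510049a41b000377230000b3910003762b00038a130039ba1b000000000037571b0003752300006db1003f4e0b003f4e030005f43b0001dff10001d7110005f4230005f41b00038a0b0005f403000000000000000000022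cf1001a661b004c5113001a660b00221d03003b4d3b0026283300000000003b4d1b0024e423000000000023e713000000000017713300000000000000000000000000000000004ea40300485d1b00000000000062f90001fa410000000000007fb100115a030038303b000ac90300000000000000000000000000507d13000000000046e23b00000000000f3a2b00000000000000000001a721000000000000000000506213001f773b0024d723000e0103000000000000000000000000000000000001f161000e011b00408f1300408f0b000000000000000000000000000000000000000000000481000d7c0b000eb33b0000000000000000000b68230000000000000a310009b023000b6803000c4233000606330003692b0009212300003e610003690b00000000000000000001a731000000000023d51b000000000027ac1b003ccc030041d03b0000000000000000000b732b003ccb1b000000000000cb310011503b00000000001a602b0033da230000000000064903000000000033cf2300000000000000000000000000000000001f800b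002e4a1b000391330044fa2b000391230048530b0029ff330029fb0b000391030003633b00055b0b0003631b000817130008170b0000bd810030362b0054970b000000000008a11b002c501b0000000000126003000000000000000000130f2b000000000000680900000000000000000000000000000000002367230000037900521d1300203b130000747100070f0b00065e130001d87900014dc1001a5e1b00382c1b00382c1300382c0b001a5e230035fc03003a2f2b00000000000000000000000000000000001467130010793300000000000000000000056100237d13001a190b001a1903004a253b00000000001aaa2b000000000000000000035f0b000000000020cb130000000000000000002bdc13000e1b2b000000000050093b00000000000000000000000000005cb10000000000070f2b000000000000000000000000000232390044803300000000000180e1000000000000f49100234c2300000000001dbb13000000000001cfc100000000000000000010f30b0000000000000000004bd023000000000019383b00360a33000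0000000000000003bd0130038bc2b003f152b004aec3b000000000000a591001ed62b000000000000000000034e23000032a1004f703b0000000000187f030000000000035403002087130020870b001a711300000000004b5d230016902300390f33004b5d0b00000000001ed63b00000000000000000024f23b00019b310032e70b000a7c1b000198610009ab1300002ca10006b7330037602b00070d2300000000002d651300002ae1000000000014f403002f0f1300247e0300000000000cfd3300000000000033310000000000035c130000000000000000000ca20b00000000003ed01300035d0b00035b1300035c1b000000000000000000384a13000000110000000000035c0b00184e0b000828030003752b000000000049501b0049570b00495513003a371b000000000018170b0042882b000000000009b1230042880b004288030008ea330000000000554a13000c0e2b000039e90011110b000e5903000342330022732b00034223002312030039af1300034203000043b10003412b00034123000341130003410b0039af1b000340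3b00034033000e501b0022780b0039b01b000000000003400b00033f2b00033f2300254f030025491300033f03001038330010382b000000000010381b001038130010380b000000000009c23b0009c2330054d72b000000000015f113002a160b00000000003cbd3b003890330038902300551c130000000000551323004570030049423b000000000000000000000000000000000054f02b00000000000c502b0000000000000000003a302300000000000000000054b60b000000000042093300000000003a7a230054c013000000000054b7230007eb3b0007eb330048330b000000000054ac2b0000000000000000000000000011bb2b0011bb23000000000011bb130000000000000000000000000030ab1b00000000001fdd1b00546d030000000000118503001934130000000000198203003bf22b00000000003c4723000000000000000000343a3300000000002e3d2300000000000000000008a70300203d3b0053eb0b002d810300308f230033a51b0000000000542c03002d290b00394b33000000000000000000448433000000000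0541b1300032f3b0018aa23000000000000000000540a2b0000000000000000005400230045583b0005eb330005eb2b0005eb23000000000005eb130005eb0b0000000000000000000000000000000000000000002f33130013952b0000000000000000001a7533001de20300187f2300067b1300000000000000000053c22b000000000000000000000000000074c10053b20b000000000000000000007f39002c310b00006c010053a323002086330000000000000000000000000000000000000000002f391b005380230034e50b0000000000000000002fc71300151c030000000000037613004f840b00000000000000000000000000000000000067e1003c02230000000000226d1b00000000000000000005a7230000000000070d2b001f023b0052ba3b005336230019572b000057410053323b0000000000003f2100532c1300001bf1002e1b0b000074b100006c2100000000004a9a3b0000000000000000002a3b03000000000005402b00113d2300531003001c82330053081b004bef03000043e1003ffb2b002a3a0300042b330024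512b0000000000375e1b0052fc3b0000000000042b1b000dec3b00031d3300031d2b00002b710014e51b00343413002b76030006413b00000000000a98030006411b00055c0b0052df2b0039540b000000000004ba3b0000000000000000004ca63b00032f130007730b0000000000445e0b0008252b00131a230003300b00131a0b00131a0300000000002500130052b7130028af230000000000032f0b000000000052af1b0005302b000000000052a723000530130005300b00053003000000000016fd13000000000000000000000000005282330000000000000000000000000000000000000000004413130044130b003c452300000000000000000052473300000000000000000050960b000000000037203b00000000000f961b000000000000000000000000000000000000000000000000000000000000000000000000002ddb1300000000000000000000000000000000002ece1300127d1b0000000000127d03001a71330051bf3b0000000000403d1b00000000000000000035f203000000000051a013000f852b000f851b0000000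0000f850b00000000000000000021d533004f921b00113d1b000000000000000000113d03003a073b004ed50b00030e2b00030e2300030e1b003a070b0051652300516203000000000000000000094b230019820b000000000051330300512f0300030c130000000000030e3b00132613001cde2300000000000000000051300300030e0300512d1b000000000000000000000000000000000051112b00000000000000000007902b0051002b00000000000790130007900b00000000000000000050e80b00000000003810030050dc3b0000000000000000002f211b0003063b000306330003062b0018822300030613000071010003060300000000000000000000000000404a230000000000000000001f2b2b0000000000000000004c021b0000000000000000000000000000000000486e1b00508c130046b533005086130024e4130050821300000000000000000000000000000000000000000000000000000000000000000000000000218513000000000000000000003271000aca23001a122b00001b31000b6a330006d2030050322b00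0000000000000000257d03004d831b0046f13300257f2b000804230025701b00080413000c71230022d73b001fca2b000000000000000000501933001e6e0b000000000000000000000000000000000000000000000000003c3d0b001ed6130002fa3b0002fa33001281030002fa1b0018812b0002fa0b0002fa03000000000000000000000000000c912b0000000000463b1300000000000000000000000000000000001c610b000f960b00000000001cd43b002d9e1300000000003ffc1b00003d01001f922b0002f63b0022791b00061d230012eb1b000bda33000000000006a71b0000000000000000004f87130008c10b001b7b13001b7b0b0018cb1b00000000004f780b00000b91000000000000000000000000004f6e330002f33b0002f3330002f323001e161b001208130002f30b00111d230018541b00000000001f922300000000000b4603003eec1b00000000004f3423000e692b0028c3130024f43b000e6913000e690b004f323b0028921b0002f0030000000000193233001f2b030000000000043513000033d10000000000000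0000000000000000000001dac2300000000000000000026131300000000000f482b0000000000000000001a4233003f5b130002ec0300004d69000000000049df230002eb130002eb0b000f32230002ea3b0022793b0002ea23003c591b0002ea13000042d10002ea030002e93b0002e9330002e92b0002e9230002e91b00137f330002e9030048ce3b004ee3230002e72b00004d010039ba3b0002e7130002e70b0002e63b00038f13000036610002e6230049870300385a0b004ed91b0000000000000000000000000000000000000000002c97130002e40b0009af0300003e29000b1c3b0006a43300249e2b0009ab0300003e790006201300003e390039891b00060933004ecf1b0006461300000df90002e0130002e00b0002df3b000000000002e32b00003e410008272b00002d7100097d23000000000024ed230028e20b00065e0b0002dc1b0002dc0b00000d09000000000002dc2b0002d91b00000cf10011f11b000aeb330002d5230002d51b000da9330002d503003a69030002d42b0002d423000dae1b0002d4130049511b0046a73b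000000000027e32b0002d31b001a5e330002d30b000639030002d23b0000000000251a2b000000000012801300043b2300000000000000000000000000000000000000000000000000000000004e7703000000000000000000000000002e431300000000000000000029c03b000000000047361300000000003dd9130000000000000000000000000000000000000000000d97230000000000000000004db71b000042a1000000000024982b0000000000000000004de413004db61b000000000000000000000000000fa623004db603002e1b2b0000000000000000003b7c33004dce2300382d3b00000000000000000000000000000000002a9503000000000019e61b00115c1300000000004d9133000000000037ec330027ac2b004d833b000000000027ac0b00000000000000000000000000000000000000000003b91300000000001ede1300000000000000000002c703004d4233004d3b2b002ef52b000000000000000000000000002ef61b0008203b003bb9330008202b0008202300000000000820130008200b00249213004b0413004650130000000000112f03000000000005581b0002c33b0002c32b001a49230046e323001a4903004cfc13004cfa3b00000000004951130016461300000000004ce41b0000000000000000004cd203000000000041d9130039a91b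
def m_3 : ℕ := 0xb1800003ffe0a162e1f9619000c2c5c3efcf7680058b8ae49301070b14856f27180c162800007fe8102c500000ffc81858a81f68446020b14fe2d3afe021629fc4675e4002c52e0942cf038589553c9d7f060b12c99d03d40a16255ae27c78102c4ac294b7c0185893bea9d7d000b12b05d10e20e16208a265004182c428a5cf390285885aef99b1040b1115c102560e161cec6a7380182c39ac3c30102858700001fe8040b0eff2b055206161d20361720002c3bfbd41940185868c1988b1020b0b18ff006c081612306a22a41c2c08dd2cbe102858108e8980c040b0200003fbe06160400007f78082c0ad2f419b008581073a9273000b0240233ada0c160000007f68142c01011cead82058013e5894c030b0000003fae041600624a6f30042c00cc6c1bc00058013eb8d9b070afea9dd19e40c15fc25de2404142bf80000fe881857f7a1b9977020afef47b3c2e0215fdf6c66130002bfb5edc6bd83857e30499259060afc9c9319720815f96a7a0bf00c2bf44474d7080857e302183d2000afc8829202a0e15f46b2e22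d4182be80000fe282857d8b2c9000040afac50b3f720615f6306e2298002bec60e445083857c267c83bc060af80f593ad60a15f1f1ba1644102be00000fde81057c4b708c8c010af800003f760015f2307622681c2bd80000fdc83057b00001fb8050af600003f6e0815ed9d5653a80c2bdc60fc44c01057b5d399703010af6eb912eb00e15e8f0b23e78142bd1e16c7e502057a3c2e8e05030af4785f226a0415e800007eb8042bd1e1acfd280057a3c318952050af2c9a103920615e594322e2c1c2bc0c3a42fb8305783c3485a9050af0bf0b3cfe0615e1baca2a60082bc00000fd2808578399d9672000af000003f460e15dd55820b08182bb8ec647a882057779a19d03030aef01bd1eaa0415dd746266f4042bb80000fce80057729959602070aec00003f360c15d8ee3a3d3c142bb3d394c358205767f55974a030aecfebf34340215d9391e3dd0002bb3fadcd5283857565269e14060aea8733081a0a15d572160bc8102baaa74cb9001057544b0986f010aea00003f1e0015d6307a22641c2ba274ec697830574605383e8050ae8fc093c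720815d15cf67a640c2ba21fecac30105747f599aa4000ae88def3eb00e15ccc9122574142b99efc42420205733df98171030ae600003f060415cc00007e08042b980000fc08005732b228365070ae43b7b0c860c15c8bcf25bd0142b9093ec0ff0185721dbf81ca020ae41e8527bc0215c8701232ac002b90ee04e8f8385701afc8aa0060ae050490e020a15c078723350102b81410c1b681857000001f74010ae0ced929fc0015c0a08a4fa01c2b7b316c44f83056f1dc88a95050ade34ad30520815bc770a05e0082b788494b9a00856f104398f6000ade00003ed60e15b800007da8182b70d85c7b902856e00001f68040adc361919040615b800007d98082b700000fb280856e1031954d070ada24ef1ed60c15b4b68277f0142b6c30e417382056d20a18f2c030ada00003ebe0415b46cf26080002b686f4cef203056c00001f5c050ad800003eb60815b11bd65f040c2b600000fac81056c00001f58010ad800003eae0015b000007d581c2b5237c4c0e03056a00001f54040ad47c6b2ae80615a91bea381c082b5237dcccb00856a00001f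50000ad48dfb20b40e15a4d8967438182b4ae8bcb0482856946fe9100040ad28dff06280615a51c027638042b480000fa480056923c193b4070ad000003e8e0c15a0e74e435c142b42382413382056846d69b15020ad000003e860215a08f3e7134002b400000fa08385673225871e060ace64d7179e0a159d1c2a67dc102b3a385c8b4018567470c9d0f020ace8e1b05f002159d1c3a2e141c2b31cdfcb8503056600001f38050acc8e2139de08159800007cd80c2b300000f9a81056600001f34000acc8e2933da0e159400007cc8142b28484c45582056500001f30030aca00003e5e041595803e5d20042b280000f96800565177f94a2050ac8a8ff019e081591668e44980c2b22cdfc9b301056453709d5e010ac8b35f2c1c00159166ca4e4c1c2b180000f9283056346e89afe050ac6caad170a06158cb8b62580082b1bd934b4a00856353779d55000ac6fcef083a0e158800007c78182b100000f8e8285623ed297fc040ac400003e360615891b766c30042b12d22cd5b00056200001f18070ac2b47120b60c15857cbe2edc142b0bf2fc2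4082056153999d24020ac2ffa90ec6021585ff5a1d14002b0aa4040670385603b0182a3060ac000003e1e0a158193261544102b03f44c43c0185607eca8744020ac0a71f3a60021582019e7b641c2afbf8a4ee483055f3f1c9890050abea8bb391c08157c00007c180c2af97edc50701055f807f88a9000abe715d0f240e1578ceee0514142af273cc0c982055e4e7a8826030abc9cf7033a0415792b823634042af273ecb0a80055e858e932a060aba49f104340a157400007be8102ae927d41b801855d24fb93ec020aba49f904cc02157493f64f7c002ae9282c9f382055c6e938cf3030ab8dd2919e4041571bdae0150042ae44f5c90000055c81fc889b050ab714510c8008156e1f7a038c0c2adb7f1456c00855b8a29939d000ab70fc105580e15687d5a18b8182ad238ac5c702855a81ed9145040ab518ab10ae0415691a1a1e10042ad40f7c25000055a31bc9ee3070ab200003dc60c15651c5a0acc142acaaeaccd482055983c09230030ab307a93240041564c70e03b4042ac80000f6e8385585d7f846d060ab0886b2a600a1561bae23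1cc102ac29d04e8d8185587e848556020ab088732a58001561147202680c2ab80000d0700055764a59a0b050aacf89d0a38061559929e681c082ab3f42c2ac00855664a99a05000aacc95534080e155592ae680c102aabef742d70185556e9c8bc2020aaac95d33fe02155592be67f8002aabf4d499f8285547f4e8576040aa8c96533ee04155192ce67d8042aa3fa6420502855364b699f1040aa6c96f33e004154d92e667b8042a9b25d4cf683855200001ec0050aa4e05334f0081549c0aa78e40c2a900000f5e810552702c8744010aa4e05b0ec600154800007ae8182a889094abf82855164bd9121040aa2c97d0ac006154592fe3d2c082a880000f5a80855161b39696000aa2c9852c660e15404da21188182a81928c2ee028550525f8836030aa1073108b2041541682e476c042a840994ec50005503c1e8ada070a9e00003d560c153c00007aa8102a7bf71cd6a81854f7ee8924a020a9efd493c7402153c00007a98002a7bf70cc5e83854d00001ea4060a9a25c337ac0a153400007a88102a6a154c4ad01054d61179bdc010a9a3d413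75c0e153000007a78142a600000f4e82054c41168597030a9800003d360415315cf237f0042a600000f4c80054c494789e9070a96587514380c152c00007a58142a5afbfc7f881854b544384f2020a9600003d2602152d7e0a1f94002a5afc1cb4283854a594c90dc060a94770b2a680815293eba300c0c2a52edc46f401054a5db985a1010a9400003d1600152976ea35b41c2a49f7dc2a303054900001e88050a92bf212d2808152400007a180c2a480000f428085495f958b61000a92b0e720a40e152000007a08182a400000f408285485f848416040a90a7073a80041521695646fc042a42d29c8e30005484d1c8928070a8e50b335a20c151d758a22b8142a39d8ac97b0205475f88966c030a8ebf1310de04151d4e4674b4042a3afc5c0f583854622e59dd0060a8c7df50a920a1518000079c8102a32b66ced80185465a7f931c020a8c00003cde001519619a0bf0182a29456c37c8285452beb9514040a8a39c53040061514bcc27290082a290f54d0f80854528ab891b000a8a00003cce0e1510afda266c182a221e4c3da82854400001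e64030a88964724920415112c925628042a21224cae20005444b269978070a863f99236a0c150ce0663688102a1a7e7c8818185434fd09a2e020a8600003cb602150d468220b0002a1a1f4cab18305425af38437000a840000031c0015053d3e6570142a02593c90d82054043cc8ab9030a809ea32d240215012ca665f41c29f96ffc27a83053f3e008918050a7e96d916600814fd0b0e20300c29fa7abc20a81053f5a038189000a7ea04f152e0814f8ea3630c40c29f1d47461801053e3a918c2f000a7c751f185a0c14f4ca1e12041429e8c55cc3d82053d13ef95e9030a7a00003c860414f4000079080429e8c3bc95580053d18a992b0070a7800003c7e0c14f0edda73d81429e3f01493101853c00001e3c020a78fc1731760214f18ee641880029e00000f1c83853a101a92ce060a74e04708640a14e8000078d81029d00000f1a81053a81968f52010a75033125fc0014ea0af243741c29cae6f49b48305395fe48be7050a7200003c5e0814e4000078b80c29cc15f486e0105397f6c938b010a72fedd270a0614e20f9e01c00429bc1d9c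00182053683ab8ffb040a6b07591fe80614d60eb63fcc1c29a2904c7ef8205346b1c8e09030a68a417017e0014d148326b4c182999081c6b3028533161e9b9d040a662e9d2d400614cc78221e44082998b6e461b0085331674899c000a662e7928ea0e14c9c8ba64981829927324b688285328004849f030a6400003c2e0414ca001a0bcc042992927487080053200001e14070a6200003c260c14c45cf651d010298b624c63301853182b783dd020a627dc72fc60214c4f66e08340029880000f068285306c038d8f040a60b2c323cc0414c201be1cd8042984038409d03852f42c28210060a5ebdff20a20a14bd846a5bf810297b4e6c4df01052f7f39930e010a5efe7b1eb80e14b9539637a0142972a73421b02052e54e79005030a5ca9d12eaa0414b980a25c80042971c8c475a00052e00001dfc060a5a2f7334f60a14b45eea0f64102968bddcdc101852d1d1a961b020a5a2f7b01de0214b45efa1e38002968bf44af903852c2ac880f3060a5842cf19ae0a14b2035662480c296368dc5c001052c56d591de010a58da391b880014b11c9e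45b008295c188c1ea00852b830e83d3070a54224538a00c14a958b2040c1429529d0ce8d02052a82e185ab020a5505bd0b540214aa0b7e16c41c2949d6541cf03052900001de4050a5301cd07de0814a5c01a078408294a20148188085296f478b82070a4e524519400c149ca48e0d28142938dadc47981852729258adc020a4e524d25dc02149ca49e72000029394944938830526289d8a31020a4ce98b1f04021498a28a01041c292c353454e83052522e083a6050a4a45c30d0e0814948b8a151408292917244eb00852500001dd0070a4845af01ca0c1490c54a1108142920e6f42148205241d0d9732020a4862a70c98021490820a10181429198accecc818523315a9d97000a4662b73b280e1488f1b65b381829127d8c60c8385210ad78866050a4200003b86081484000077080c290891746de8105215d969165010a420e771a10001484000076f8182901f7fc54f82852000001dbc040a402db106a40614807ad61308082900b67413c80852016cf8734000a40526d12f20e147c000076d81828f80000eda82851f00001db4030a3e0000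3b6604147def0210280428fbddf4c1a80051f00001db0050a3d18b1006a0e1474f77a4fb81828e9c14cbdb82851d7d6f82ee040a3b18051fb0041474000076a80428e80000ed480051d5b36976a070a38c51d2e3e0c147139fe02e81428e27404d0802051c7c4f8556030a38be6f2cda0414713a0a68340428e2741cd0603851b00001da0060a36bafb230c0a146c000076781028d80000ece81851b7b30974e020a3600003b3600146d9d4a53b41428d135d4e6202051a26bb9cc3030a344d791eea041469436618b00428d18ae406980051a26bf9cbf070a3000003b260c1460d0f216681028c4128437381851884278355020a3000003b1e021460000076380028c1f674c018385171f6f9c35060a2e3eff018e0a145d9dfa0e781028bc33643848185171f729c32010a2ecb89197000145defc668a41c28b00000ec283051638168dea050a2c09c33a320814599d4e53b00828b2c1b4b79808516585996fa000a2c00003afe0e1454dbb234c81828a80000ebe828515799a974c040a2ac72920bc061455732e5be40828a80000ebc8085155474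9cde070a2863c52ee60c1450000075d81428a29b3ceb402051485e98f85030a2800003ae6041452097e12100028a31f1482383851300001d70050a2600003ade08144c000075b80c28980000eb681051300001d6c010a2600003ad600144c32ae46181c2891f4c482503051247fa8a0f050a24a6d12e72061448000075980828900000eb2808512536b986e000a24a6d9060a0e14454db60374182889a7fcd59020511536e9126030a22a6df26cc0414440000757804288a9b8cb0700051153729393070a202e7d28e60c1440000075681428829b9c2dd02051053749123030a20a6eb19340214400000755800288272fcb6c03850f382e8475060a1e00003aa60a143cb8ee681c1028780000ea881050f00001d50010a1e4cd3335000143c000075381c28700000ea683050e3b989571050a1ca6f305860814394dea0f6c0c2871f4649df81050e5259877b010a1c00003a8e0e14340000751818286a9bf439602850d537f82ef040a1aa70110fe061434ef66678808286a7314b6a80050d00001d40000a187ecd17360c142cc312317c0c2859861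478c83850a3d4d8fa0060a14a70b39d60a14294e1a4c300c28529c3c15781050a53888594010a14a71338de0014294e2a0a8c1c28480000e9a830509503094f9050a126e4132de0814254e3616740c284a9c7453c00850945169512000a12a7212c180e1420c2fa30d0182841f4bcc44828508481a9b3f040a1000003a560414214e4e6ad80428429ca445480050853958744070a0ea72d20b60c141d4e5e2edc14283a9cc424082050744319534030a0ea73501ba04141d4e6e1d8c04283a9ce43a28385061d868c80060a0c24032c4e0a14194e761f9c1028329cf4266018506539f854d020a0c886f2a5c001418000074681828200000e8c82850400001d18040a08064931480614114e8a6a8c082820272c3dd80850403a59b2e000a0800003a260e1408c0a2034018281172ac2e682850244499ab8040a0400003a1e061408000074380428129d347eb80050237698f3f070a0200003a160c14040000742814280aa05c9a0020501540c931c020a02a81b09f8021404f5066c9c00280aa0747ec03850053a89aba060a0000003a060a14014ea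62b241028029d54e5981850053ab8fd5020a0062eb150e021400000073f81c27f9630439e0304ff39f089520509fe000039f60813fd4ebe0bfc0c27f80000e7c8104ff53b18fd60009fe87550de60e13f8000073d81427f13e8c5138204fe00001cf40309fc000039e60413f8ede231880427f122f41e58004fe00001cf00609fa000039de0a13f5519611781027eaa3347148184fd546792330209fa000039d60213f53de624d00027e80000e748384fc00001ce80609f8dddd177e0a13f151b204a40c27e2a1ec2808104fc546e93090109f883f51c740013f1044e16681c27daa38c2380304fb00001ce00409f6000039be0613ecef7e11e00827daa3ac2ce8084fb547697670009f6a8ef088c0e13e951e244d41827d2a3cc4100284fa3e6b9ab50409f4a8f722480613e951f25bd80027d2a3f488f8304f983dd82f70409f2a9411c200e13e1521610341827c00000e688284f8548697c00409f0a90f35920613e15222596c0027c00000e668384f74ec092ee0509ee9dd918420813dca2de64040c27bae7bcd098104f75cf8810b0109eeb9f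703340013dd73e668881827b1360c0680284f61dfa96c20409ec36c515760613d94ece3dd40827b135ec0698084f626be80d30009ec444f32180e13d4f4ba12401827a96ff429f8284f500001cbc0309ea000039760413d4000072e80427aa01149e80004f5402b98be0709e8738d084a0c13d14ed260f41027a29dac88d8184f453b696590209e8000039660213d14ee20fa80027a00000e588384f3325380ef0609e6777d33860a13cc000072b8102799e134b938104f353bd92780109e6a77d06620e13c94efe3e2c182791518cc4c0284f200001ca80409e4a7811fd60413c94f06152c0427900000e528384f100001ca40609e25a5517360a13c40000728810278a378cd788384ee00001ca00609dc87c909ca0a13b94f166b880c27718df42e98104ee53c784920109dca79106020013b8000072681c27690c1c4108304ed19f684bc0409da4cc7097c0613b49ebe6f0408276a9e5c6708084ed248092390009da6983063e0e13b151726664182761e35460c8284ec3a5f99810409d804bf26b00613b000007238002762a2f48fd0384eb1d3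18db70609d643e735c80a13acbece20201027580000e448104eb2fb499810109d60000390e0013ad515e68840c2752a2c48700104e946b48f770609d01d03149a0a13a03a7201041027407bc448d8184e80e838a4b0209d01d0914940213a03a16292400274074345240384e725f49c5a0609cf0405323e0a139d4f3e5c040c273a9e845db8104e76f3688590109cea7a5224200139d4f4e2ea41c27300000e3a8304e653d593090409cc000038e6061398000071c80827329ec40c60084e653d98baa0009cc000038de0e13950b2613b818272a4d242d00284e54d808a040409caa8c30a58061395518a386404272aa4d47070004e55463843e0709c8a8b316740c1390dfce249c142722a2d417c0204e46b1e8e060209c8000038c602139000007188002722a4cc7078104e3549b80650709c24bcb0c040c1384000071781427092f3c82b0184e125e9876f0209c24bd51312021384000071680027092f5c8280384e000001c580609c0000038ae08138043be64340c27000000e2a8104e025c19b120109c0000038a6001380970e32941c26f800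00e288304df00001c500509be47e52e8a08137c000071380c26f80000e268084df23da95650009be000038960e1378000071281826f12e2c7138284de25c683050409bc4b8f20c4041378972208440426f12e4c1858004de25ca978a0709ba4b9708640c137497322e201426e92e6c6658204dd25ce849a0309ba4b9f061a041374000070f80426e80000e1e8384dc25d284980609b8000038760a137097520cd41026e12eac9b30184dc25d69a890209b80000386e00137097622eac1c26d80000e1a8284db1f70839e0409b63ee3040606136c000070c80826d8fb9c0680084db1f74893e0009b63eeb2b840c13688d3265dc1426d11a6c89b0204da234e85d30309b4469f19c20413688d4253fc0426d00000e148004da23528cf10709b20000384e0c1364947a18681426c928fcb518184d925209a7b0209b24a4302c4021364948a61ec0026c8cbf419c8384d81f7686f50609b03eef04d40a13607de21e381026c0fbcc3c78184d81d2b9b990109b03ef7256a0013607df21c281c26b918f47bf8304d72524893a0509af05f7098e08135c94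96398c0826b80000e0a8084d7291e95240009ae4efb16c60e1358a66a04a01426b129644ba8184d6299d87680709aa3e6b11860c13547cda18a41426a8bde4b0d8204d51f3887a20309aa3e7325420413547cea4bec0026a8f9dc95b8304d313178a6a0509a6263131da08134c4c663dac0c269898d42ef0104d3131b87af0109a60000380600134c4c7630c01c2690ab0c6088304d2156291210409a4000037fe06134855920e6c082690ab2ca240084d2153a85fb0009a42acf26ec0213446b02401c1c268086f44068304d0137d83ff0509a0308b2542081341cf2e48ec082680a4549bc0084d016698d360009a0529502c40e133c494a5a7c1826780000df88284cf293c8dcd04099e359b02c406133c5b8a58980826792afcc3d8084cf293f85a807099c29ab15580c133804e64d5c142670a8446258204ce1558900b03099c29af0c6004133867022c740026700000df28384cd2f998f5205099a5f351eb0081334be6e3d7c0c26697ce4b758104cd2fa0844301099a1cf514b6001334be7a5c04182661d65ca6e8284cc5439850604099800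0037b6061331847235a008266210ec8d20084cc61199115000998cb0d2dfc0e132c4b624ac01826594dcc5a80284cb189c85ea03099633db2d4004132c00006f48042658e01ca9c0004cb29bb8b21070994409924940c1328ca266b3c10265157740cd8184ca00001bcc02099455d9072802132800006f28002650b28cdc40384c9119a85f90609920000378e0a13253a7a34b8102648ae046190184c9162f9879000992327328cc0e1320a4ca3d90182641230c1e38284c8158d8e5f0409902f5918760e131c15ea628c1826380000dde8284c768c78c7004098f05f509ae06131e230a45f40026399e0ca940384c62392821105098c0000376e0813188e5211580c26311cac4ad0104c62399901b01098c472d20440013188e5e469c182628f4ec55d0284c51e9e819604098a3d3f2f0606131400006eb8082628f50c60f8084c51ea28bac00098a000037560e13107a925c74182620f52c1858284c41d5581dc0309883d4d03b204131066be17d0042620a9f4a388004c41ea98379070986302f10900c130c00006e88102618a9ac9ba8184c318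1a85f7020986303703b202130c60960b080026180000dce8384c21dab8a990609843d612df00a13087ada5ca41026100000dcc8104c21eb285200109843d6718200e1300d8660f68182600dcd43280284c01d49956806097c2b9b2c4c0a12f8997a13b41025f132fcc000184be2664999102097c4cc133000212f899862c8c0025f133146310384bd1650893d06097a18df280a0a12f400006e280c25e8ca3c0bb0104bd00001b8801097a2ca506b20012f400006e181c25e0cf9c2768304bc128c96bb040978280328940612f000006e080825e0f4141ec8084bc1782949f00097833eb1b9a0612ec7ad240980025d800004cd8384ba1f5991fc00097441ad05ea0c12e4652e0e1c0c25c8000000b0104b920d088c701097241a30f520e12e05e9613d01425c0bd342180204b817a784610309702f5116fa0412e05ea657200425c0bd545e88004b800001b7006096e34c330920a12dc698a5c581025b891ccb8b8184b76583981302096e34c9320a0212dc699610a80025b8d3342288184b673c8923f07096a286b0b400c12d450da0f9c1025a80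000db28184b514388d3a02096a287925720212d450e610b80025a8a1d49540384b417bf81aa0609682f8121be0a12d0533a3d281025a10d040ad8184b417c18d38010968000036b60012d05f1210141c259977ac6258304b32eee891705096705ed282e0812cc5c424af008259c46048c00084b3551186fd0009666e7933aa0e12c83cc63f0c182590bcc491a8284b215508f6b0409642edd29600612c85e6a6394082590bd6c5f28004b2155387ad0709625971109e0a12c4a98e4c901025880000da48184b12cba8e7c020962598d03360212c4b2161c280025880000da28384b000001b44060960000036860a12c000006d080c25800000da08104b0481981640109600000367e0012c1206e33801c25780000d9e8304af4b9c98a104095e973d04240612bc00006ce808257a82ac3ff0084af74518f9900095e97432b220e12b800006cd81825717d2c3908284ae00001b3404095c90dd03f80612b921be06940425700000d988004ae00001b3007095a9b9900800e12b000006cb8182560956c4588284ac043286cc040958000036560612b00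0006ca80825614f5cb848084ac29ec8a240709560000364e0c12acca12366414255a40e4d678204ab481d91d3030956903d0fee0412adde461ba400255a41043978304aa2f5084a00509540000363e0812a800006c780c25500000d8e8104aa018a87d401095408a7312c0012a800006c681c254a369c4088304a932689a840509520000362e0612a51b560b300825480000d8a8084a946d785140009528db12f980e12a000006c481825400000d888204a846d981660309508db511520412a11b6e3ef404254224f41e10004a843fa958907094e4a6d08b60c129d84da31e414253a36fc1b30204a738228b9203094e8dc3033202129ce5823fa00025380000d828384a646e487b806094c000036060a129800006c08102532373489a8104a630e8923a01094c8dcf25e6001298c75a5bc01c252984f43140304a53226813d05094a8dd30642081294d6f24c640c25298ef4ac58104a546ec8d7901094a000035ee0e1290fb920bd0182521cf1c6700284a446ee8fd70409488ddf0920061290fba246c00825200000d788004a400001af00309467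6432fb00c1288aeb624981425100000d768204a200001aec030944965927f004128815ba45440425100000d748004a200001ae8070942699d0e3e0c12854552084814250940e43ef8184a100001ae40209429d351a6802128400006b880025080000d708384a02f5284aa0609405cad019a0a128000006b781025040fa4d420184a081fa9a84010940a29d0e8200128207ba15681c24faff947ef83049f520a80d505093ef60d217c08127e2f2e43f00824fb6ccc6d280849f4e73932c00093e883d2a920e1279b1ca3cd41824f00000d6882849e6f5981f504093c0000359e061279b1d237bc0824f359046f500849e00001acc07093a000035960c127400006b281424e80000d6482049d00001ac803093b030f0920041276079e16ec0024ebfee4bcc83849c00001ac405093867ad03cc081270cf5e5c240c24e19ec4d5b81049c33dd871e01093867b32cb2001270cf6a694c1824d80000d5e82849b4446914e0409360000357606126d111e622c0824d80000d5c80849b00001ab80009360000356e0e126800006ad81824d00000d5a82849a4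3d8984d0309340000356604126800006ac80424d3dfcc8f48384994d7089a70609329ae3134c08126543d626900c24cbf1dc9f88104994d7389250109329ae9122e001265bdb607181c24c329144488304983415928f050930fe832c6408126144be4f500c24c00000d5280049800001aa407092e06530b880c125cda7a40ac1424bc13840800204973ed797f007092ced7133d60c1259918e61541424b32324c2a0204967fe3920903092cc8cd153400125991a6613c0c24a800000328104956bf480ec00092a00001c320c1250469241781424a0fd2413d820494068087b803092800003526041250469637f40424a00000d4880049422f8917c0709267db52fda0c124c9d264cc414249bffb4be4018493803997d10209270423064802124cc21212380024980000d4483849200001a880609240000350e08124800006a180c2493ec348a5810492060487bd01092495c31b18001249f0ca59541c24880000d40830491443d825a050922365d1a7808124601065db808248a1f140aa0084917c1f87e7070920000034f60c1240f4b613d4142482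41e4252020490404395730209210311093a021240e7ae49781c247a3f6419503048f00001a7405091e6d211fc808123e049e1cf81c2470fe4c18882848e307f86fb04091c61012f24061238c206212c082473190463e80848e3082873700091c610709260c1234000069a81424682964d3202048d0b9f9a6503091a000034ce04123419260dcc0424680000d3280048d00001a64070918a2510c3e0c123144a618781424636c7c13101848c512a8366020918deb9036a02123147d61868002462895c30c83848b574a9687060916000034b608122c000069680c24580000d2c81048b8c039255010916000034ae00122c000069581c24517b547f303048a4767914e050914000034a608122a04922c100c245140c43f180048a35db9a400709120000349e0c12240000693814244c0b2422b82048981658fbb02091302cd2664021226059e10f400244a9f94161838488817583b80609103ba922b20a1220000069181024440bb47dc8184888177843c020910f62f290602122141d208ac1c243867ec9a90284872f2b956b04090e74ff317606121c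000068f808243ad2cc91900848700001a3c00090e75f32b2e0c1218705a0ea0142430e06422d8204861c1380c203090c9afd14100412185e5657b8042430bf6499280048622ce8a0807090a000034660c1214bafe3694142429fa9c6730104852ebd8b6201090a0000345e001214000068b81c242026bc9a88304844ae68c66040908877b117c06121209761450082421225cae10084847be1974600090904bd26e20e120da37e39f0182419fb240670284836c148dce0409068311150806120cac5e4eac0424180000d108004834eff8b9b0709040000343e0c1208dc4617181424127cac0d20204822a8b939002090400003436021209919e614400241413ac1ac0384813286853d06090278850b7e0a12053a8234a410240bf2f42b0818481618190e002090200003426001205520e03281c240273f4b8f82848000001a100409009d0308fe061201459659b40824000000d0680848000001a0c000900a28901a20e11fcd7be170c1823fac61c20802847f64a6851c0308fe0000340e0411fd92a215600423fa253c16200047f60b791320708fc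b53b226c0c11f8000068081023f325642d701847e64ad8bc20208fc000033fe0211f8000067f80023f325845bd82047d64cd80dc0108fac99701b40e11f1eb862d741823e00000cfc82847c64b185760408f8000033ee0411f0ba0640dc0423e325a420500047c64b598360708f675ff082c0c11ed722236981423da145c5fa02047b4429953c0308f6c971306a0411ed11ba1bf80423d80000cf682847a64bb983e0208f4c979015c0c11e46e4a0f2c1423c8d6cc78c0204791ec98f190308f26da533460411e46e560b280423c8d6fc6900004791ba68c4f0708f0000033c60c11e0000067881423c00000cf08184783be099a80208f077b909f60211e0000067780023c1def428a838476264498e50608ecd2ab1f820a11d8a90666441023b1329cc71018476604d98d70108ec775f21e80011d9d19663981c23a8f55cc39030475382f850f0508ea7761103e0811d4eec65ce80823a9dd94a3f8084753bb389230008ea776921ea0e11d0ded247041823a1ddac153028474000019cc0408e8776f27d40611d0eee243c80823a1ddcc6b2008474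3bba87b50708e6777732200c11cc40126060142399dde422c8204733bbd8fb30308e6000033860411cceefe43cc002399de046e1020472841880800708e2575911d20a11c5742a10f41023880000cde818471000019bc0208e2ba1910040211c57436581000238a6bb450a030470550598c30508e0caf508780811c195ee65e80c23800000cda81047056b297bd0108e0cafb0cf80011c195fa5e381c23780000cd883046f41bd8f470508defdcd07ba0611bc000066b808237b2a04bfb00846f395297b30008df07b7228e0e11b8a61a0f0c1823718fac44b82046e000019a80308dcb88d239a0411b8000066980423700000cd280046e5c4e91b90708da4f2b04260c11b575fa156014236bfcd4b9c02046d480e85c70308da0000333e0011b4e0e647141c23645d4485982846c83ee99210708d6435f02900c11acc17a60f814235a733cb6702046b7c0492560308d60000332e0011ac000066581c23500000cca82846a3e1a8ca00408d47c4126000611a8000066480823513234c7180846a000019900008d47c3d01c80c11a4d4625fcc14234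9a8cc333820469351f81440308d26a351d040411a4d46e2530042348a07ca84000469169a86e80508d0ba872ddc0611a175165bb0082342ea64b758084685d4680a60008d0ba8f2dd40e119c97a203201823386afc51c820467000019800308ce5387313404119e106e64cc00233a1e7455b038466191d94540608cc7ca919c60a119955aa6304102334580409d010466000019780108cc000032ee0e1195722631b018232a0fb420d82846571258f4b0408ca000032e6041194000065c804232b668c6738384642de7891b0608c8000032de0a11922c964584102323ffbc20e0184634508871e0208c68f19091000118d142602c01823109b3c2a802846218b2842e0408c42e0118e0061189fef247d4082310cb6495b008462196d92a10008c432f725520e1184d6a60bc418230a27bc5d50284617a58983d0308c29f9d01b004118513e62f0c04230bf6acb49800461193094da0708c096ff21ae0c1180cc962b9c10230441bc58a8184608ffb83270008c11ffb06440e117d5f363ec41822f9a6f449702845f6ce78ce90408be8859203606117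daf6236980022f80000ca883845e44fa98d60608bc89f701620a117a108a1d6c1022f2a49427e81045e6b578df90108bd084d2cc400117a109241dc1c22e9058caf183045d6bc48f8f0508ba9fcf1a54081174000065180c22ec1e34b3081045d83c293080108bb078920f008117138fa2a7c0c22e24c4c54f03045b253184a70508b64a732c3a08116c703a12180c22dae5ac5b181045b253292b50108b6451f25f600116c9dfe1da01c22d1df9439b03045a2e5c83500508b493672c9406116a106a1c4c0822d11b5c50380845a281e814e0008b4000032660e11657d1e0bbc1822c88a444718204593bd184730308b2e027169c0411660e6615400422c80000c968004590000192c0108b107e901680e115c6eb63cdc1822b9d3bc8cc8284574211919a0408af074f311404115c49861d540422b9906cb2b80045783ef991f0708ad07db21660c11591a0e06581422b21ecc63b020456000019200308ac0000323e04115a0fc602d00022b41f8405b8384541f298aae0608a83e610c740a11507caa19bc0c22a0f95c53e8104541f2c8b780108a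83e5b1e300011507cba2a081c229894a4530830453000019140408a652ab182e06114c4a5e09440822990ad4aa8808453295681ec0008a6252b28f60e114a1dc62a541822900000c868284520000190c0408a423b907f604114888a604b40422911154110038451221d92490608a23f1d0fe80a1144426629441022880000c828104511cdd980d0108a23b6730280e11408bee30201822800000c80828450000019000408a038bf30220611408bf63d44002281113439083044f2627928505089e1b4107f608113c98a2238c0c22780000c7c81044f262a89dd01089e1a4d02fe00113c000063d81c2270a7fc59b83044e000018f405089c000031e6061138000063c80822700000c7880844e263193ad00089c47fd2e980e11343a6e28f41822680000c7682044d3e4f960503089a7c950a62041134f92e297c042269f26421080044d3d8b8c61060898000000ec061131b43642141c22580000c7283044b26458d15050896000031c608112c00006388082259324405c80844b264990f40008964c951d640e112898ca1754182251319c60602844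a26348c20040894000031b606112898da3abc0822500000c6c80844a2638923802089260b71d600e112046f65c6014224227e43ad82044844fd84fd0308908e3f016a04112113fa37e404224227fc65c8004484500898e06088e0000319e0a111c88f6298c102239bbd437e81844787fb941802088e46370f5202111c8c5e0bd400223c3feca4383844639a0966f06088cc9fd2fbc0a1118000063180c22322114aa281044681f5858a01088ca92909f6001119ba162b281c2229d25cbef03044543d582b605088a475130fa081114000062f80c22280000c5e8084456d0f8df300088a000031760e1110c3722440182221ede49960284447d69921a040888b88723a2041111334e2460042222ea041ff800444000018b40708867c0525ea0c110cc29a5b2414221beddcc1b820443000018b00308865f3f099a04110c000062b804221a735cb64838442315885240608846f8d2a780a110a3ff20cbc102213e1742070184426d108df202088517b3249400110a1a461d6c1c220bcac4319028441000018a404088200003146061104000062880822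080000c5080844104f181480008820f611fc20c1100c2a230501422000000c4e8204400000189c030880cb5d2632041100000062680422000000c4c8004400000189807087c73df1bf80c10f8000062581421f2c7044b502043e813b910103087c972d0b8c0210f9524213940021f2b2dc20f83843d0000189006087a87cb24b20a10f627464e2c1021eae8a423881043d7aab965901087a4f9114520010f605aa12241c21e00000c4483043c450780b5050878df17154e0810f195fe11c00c21e26e8c38f01043c8379956701087902db091e0a10ee2b3a0c181021dc454c83801843b88a582fa020876df2704d40010ee229a1dd41c21d0a5fca2382043a78ef96a2030874298528880410e8576e4f900421d0b0449bb00043a14c49441060872736d09e40a10e46e8626641021c9cdbca52018439440890260208727373055a0210e465220df00021c9cdd44cd838438341385aa060870000030de0a10e0000061b80c21c00000c368104380000186c010870000030d60010e0000061a81021bacf8c4ca81843759f2899402086eb3e713260210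dd67d226480021bc18e42018384360000186406086c20f32e6a0a10d904762a141021b2a76429701843680fe83de00086d06770b560610d6292643940021ac525c87103843456318cf10508681e6d2c600810d0718a3e740c21a19b2ca678104340000185801086826551e760010d06ff64f7018219b1fbc82a828433429e826e040866c8cb24120610cd9fbe2a680821980000c28808433646880be0008669e7727700e10c9c08a14e8182192110c8cb8284320000184c030864878311720410c9fe2a0f580421900000c248004326f7d8cbc070862bc051b4c0c10c57b2e45141021880000c228184315c4491d0020862000030860210c60532059000218c04ec1830384302e6f85ea0608600000307e0a10c0000060f8102180bd9425c018430839d85a300086113dd0b4c0e10bd215e0ff018217b33e443a02842f59cf913504085ec7b720820610bc000060d80021780000c1a83842e1c3b819305085c3879031a0810b862c211880c2170e1ec1ec81042e78af83cd01085c6ba52d460010b86d2659ec1c2168d29c41a03042d1a5491a50508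5a39cf14880610b469564bb80821680000c1480842d0000182800085a347d04b00e10b03fd64cec182161945c20902042c00001824030858360127d00410b13bba305c0421644ec464100042c000018200608569c450e840a10ae1ac634040c215b4ddc90600842b3397920d000856673124180e10aa176a2b58182151636c5b002842a000018180408543f3d06220410a8000060580421500000c0a80042a1a6784b707085220cd131e0c10a4000060481421480000c088204291cdc8524030852213517300410a4737e3d44042148841c6ef8384280000180c060850957d25140a10a00000602810214040b49068184280000180802085116c90cde0010a02b4a2fdc1c2131b4a48c40304263ecd965b05084c0000300606109800006008082131f67c1cf00842600001800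
def jm_3 : ℕ := 0x403100058b1b000030a10022922b0000000000000000000068e1000079f900001c510020602b000141f1000b8b3300013949000130b100015519000035a10001aea9003bcc13000121f1000003b1000157c9000b4d2300000000000f7323000e1b1300124d030005861b00065b23000584230001cc1100020fe90000000000000000000104a100021a710001bac900000000000145f10001df3100000000000004690014220b0044f81b0001446100020c510000000000009db900009141000014c9000747130053cb3b0041a6330011381b00003c41000b413b001a0523002f792b0000000000002ed9002ef23b000584030005831b0001a4710002181100201d2b00000000004cd23b000000000005821b000000000000000000000000002bc903000582030018b52b0013990300323e3b00323e2b00323e2300323e1b000000000020a31300323e030005792b0000eba1002227230020a33300179f230037ee03000000000016f3230000000000100c3b0001c4710000a1690000020900011709000000000000d3a90000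0000000155a100009ae10000785100007819004aa71300001c210000eb110017643300011a01001861130024760b0000000000058213002bda0300168233000023910046860b0021161300007831004b181300315d1b0008be2b0008be230000000000000000000000000013a60b000ade3b000180c90001c311000ade1b0033441b0041590b000ade0300381b3b00019d710023fc0b0013e22300000000000bf03b0013e203002efa3b0037df33002ce3130008e5230001eca90001ede9000000000000000000408c330000000000408c23000000000000000000014cf10001e4a1000187390010bc2b0001b801000000000001ce490001f5010000000000000000004b1823000000000000000000000000000000000046c53b0000000000014d990046c51b0046c513000000000046c503000168f9001f9e0b0011ca2b0011ca230011ca1b00000000000026210000000000015d71000e0a2b00104713000000000001aa4100000000000175310041001300111c2b00111c2300111c1b00111c1300111c0b002cbb2300000000004b152b0000000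00000000000000000004b150300000000002f3b2b000000000000000000010491000000000008b53b0025b13b00012971000128c10005641300012911000128f100000000002a54030000e9f100328713000087010020f1030017ce030000000000000000002a43230000000000087a03000113e900000000004e373b0001095100001a31000561230028041300005d910025b12b000f503b000000000019fb33002e0e230027fe1b00205a0b0000720100007a0100014b010046e41b0000000000354d13002f2c13003fd933000e13130009952b000995230009951b00427f2b0009950b000051a9000cb43300000000000cb423000cb41b000cb413000cb40b000f3a1b00055c2300055c1b0006401b000035f1002ee0030023962b00058b2300055b1b0023960b00058b030001bda1003c3c33001ada2b0008861b0005a42b000069210006dd1300000000000faa33000111c900005e8900005e110005d01300000000000114910005583300404423001bdc13001ed11b0005581300211a0b0000000000055703001da42b0005561b0000243100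05560b000556030005553b0020bd23004ccb13000555130005550b00007d7100001a31000554230005541300174a0b0005532b00055323000553130005530b000000000027ff2b0027ff23000000000027ff130027ff0b000000000001e629001f0e2b001f0e23001f0e1b000000000000fa99001f0e03002b3e1b001cb0130041870b00192e1b0001288100006d4100392a1300000000000000000000049100007af1000061610000000000001c21000000000001e2a1000000000019211b0044282b0009a41b0000000000000000000aca130000000000468613000000000016fd1b00359f1b00000000002b392b00541b0b00000000002b390b002b390300010ae1000155f100063b030020751b0020751300000000002075030000198100000000003b562b0000000000000000003b5b3b00007cc1000000000000000000179f2b0010e603000126610051e30b00231e1300019c71002f4b3300015801000b8c23000b8c1b0027fd33000b8c0b0015140b001e89330000000000013899000124e1000000000000d19100019a9100018f410001c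7a1000180f1000160690026920b000000000038fb1b002a4633000000000053991b00539913000ada03005399030051b70300451533002cae23002cae1b00000000002cb013000919330000e86100000000002f0d1b0053152b00054023002f0d030053150b00005341003128330017972b001a7d2b000cc803000956130006ae2300053e2300053e1b003f333300053e03000173510001d5810001df2100000000000000000054c10b0054d50300000000003ffd3b000081490000000000008119002e430300000000001038230000df31000000000000000000006ad1000063b1000037b10000b759003dd433000000000000000000000df9000077a10000779100005d8100005ea100053623000535230005351b0005343b0046371b0005341b00053403004424330001d9790001d7e10001c2910001d8610001d8e10052bf2b0000d4490008162b0010fc2b00000000000004d1000e090b00000000000000000052bf1b00400b2b00163a1b000c8e0300111723000000000010710b00053023000758130007580b000c6f3b00010a9100442803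000f6013000078e1000078d10018613b0018612b001861230018611b000103b10013482b000000000005dd330005dd2b0005dd230001c6710005dd130005dd0b000093b10001928100421d13000004d9003beb1b00528c13003beb0b0035411300160a0b00052b0b000090b10006cd13001bdc03000063310020a6130020a60b001bdd1b000000000016a92b002700130027ac03000b580b00131f3b00131f330030740b00131f1b00131f1300131f0b00131f0300052633004ade13000d19130038073b001514330015142b00151423001514130000000000059b3b0018ac3300180e1b0001c6e90018ac130017300b0005232b0005231b00052303000153710039a913002db93b000000000000000000457b230000e5710042ff0b00000000003815330000000000138103001b9a23000e7e13000e7e0b0032e80300000000000000000000000000000000000090f100174d0b000000000005850b00014e2100012e0900001ad1002cad2300000000000000000053442b000004e900051c3300051c2b00008cf10001093100051c1300051c0b000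000000000e3a100000000000000000000956100000000002bc92300051a2b00051a2300051a1b000a7a330023300b00051a030000000000204c330026342300135b1b00000000000000000014de2b0005173b0001bd61000c470300004b210005171b00419c1300008f510000000000463433002a6733002bc91300009071000130710000000000328e2b000000000000a1a9004e420300011861000000000018c31b00017671000000000011673300001d590000000000006661000fa61300000000000000000000000000000000000000000000000000129213004deb3b004bcb130011672b00000000000000000011670b001167030005643b00016c79000564230005641b000000000005640b000564030052bf13000000000020f12b0020f1230020f11b000000000008181b0019d43b00000000000185390000000000000000000184f100000000000000000000483100162f2b00162f2300014bb100100f1300000000000000000010e6330010e62b0010e623001cde3300081803000000000000d4d1000178d100050b1b002eba1b000f4c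33000f4c2b000f4c1b000f4c13000f4c0b000f4c0300000000002c87130001652100205a2300205a1b002b4d2b00205a03003f4d3b00014b9900086e0b000000000027fd130027fd0b0027fd030005613b000561330005612b00112f130005611b000561130005610b0001c4910001e681001bdc2b001bdc23001bdc1b00055823000000000000000000000000000230e90025b21b002a6a3300022e210000000000017c710021693300503b0b00000000000000000025b00b0008090b00000000000000000025af2b0025af230025af1300014f610025af030025ae3b000000000025ae2b0025ae230025ae1b003a2133000000000027d13b00015d01000000000011482300000000001148130013b7130000000000019e010000000000000000003ffd13000b463b000000000000000000194d2b00194d2300194d1b000000000024232b0000000000000000003b6c030007082b0006d213000708130018542b000aca2b0018c33b00000000000000000019e0130018c3130018c30b0018c303002c743b002c7433003df713002c7423002c741b0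02c740300005dc1000146410017633b000000000017632b001763230017631b0000000000083133004c85130033e4330006641b0006641300011741000664030001a2c1004fc41b0001a3b1004aac1b00051a1300051a0b0007232b0000e691001e5133000000000000000000000000000147a9000147890017fd3b00168a3300168a2300168a1b0000000000168a0b00000000001625130019301b00000000000154d9001276130012760b001e943b000194a900000000001e9423001e9413000000000000000000005b3100000000001a7913000000000020b81300114b2b001ede3b00114b1300114b0b00000000002c7b3b0001d381001b901300018f0900424f130000bb51001214030046e43b0005223300015ae100023529000000000046e403002dd03b0001b169002bfb2b00000000002bfb13000000000046e61b0046e6030004e9130004e8330020851b003134230004e81b0004e8130004e80b0004e8030001a569000053c9003c9b2b003c9b1b000b6533003c9b0b003c9b030000000000096c33000000000000000000096c130009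6c0b00000000001c9f3b00207133001a1d1b001892230018921b0004f9130018920300111d3b0038040300111d2b0046370300000000000000000004f91b0004f90b00225a3b0000000000225a2b00225a1b00225a130000000000225a0300000000000000000001eb910000000000413313000000000041330300000000000000000001a971000000000000000000002fa90000000000000000000c7433000c742b000c7423000c7413000c740b000c74030011973b001197330011972b001197230011971b000000000000000000128f3b0000000000128f2b00128f2300128f1b0000000000128f03000000000005172b0005172300000000000517130005170b0005170300218c3300218c2b00218c2300218c1b00218c130000000000218c0300000000000862330008622b0008621b000862130008620b0012a703000e1f3b000e1f33000e1f2b000e1f230001c641000e1f0b000e1f03004ad13b0031c533000016710031c52300000000000016c10028bf1b0007043b0004d62b00018ae10023213b002321330005dd1b002321230023211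b00232113002321030021c4330021c42b0021c4230021c41b0021c413000000000021c4030014c93b0014c933000000000014c91b0014c9130022320b0000e1f1004ceb3300366a13001705330054a72b00004d790001dd310043ca0b000860030001e4f9000000000020962b000864230000d1810001a6690020960b00234a3b00000e89003f690b004cf92300010d210001d431000000000018af3b0018af2b0018af230018af1b0014d2330012182b0018af0300015941001f1103000000000000fda100113d0b0044280b0000e8790054d93b003a17330001a9910001d3a1000000000001ca91003a170300539d3b00015b2100019241000000000009c81300000000001374130022303b000000000028ac3b0001da810001d9410008c723004a6c3b000b46130047d813003dc3230002247100000000003dce13001c172300003b810050f70b000c763b00000000000c7623000c761b0001ab21000c760b000c76030009a4330009a42b0009a423000000000009a4130009a40b00000000000b1e3b000b1e33000b352b000b1e1b000b1d2300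01db91000b1e03000b1f3b000000000001dbb1000b1f1b000b1f13003fcb03000000000037f93b001dba330001c06100000000001dba13001dba0b000169210023f3330001c5810001da49001c972b001c97230001a501001c9713001c970b001c97030013743b0001fca1000000000008d81b000000000013740b00000000001c983b000199590001deb100000000000f8c130008b523001c9803001dba03000000000052d63b0011a73b0004b933000000000029f2130029f20b00183d3b00183d2b00183d2300183d1b00183d1300183d0b00000000001814330018142b00008a610000e899001814130018140b001814030000ca7100167b3b00167b330000000000167b1b000073b100167b0b00167b03000a313b000a3133004a0a2b00083c23000a311b00000000000a31030015f02300312133000062a90038900300003b910026a03b000164f10001f241003dc633002a092b0008b70b003dc61b003dc30b0000d4710009c63b0000a699000000000009c61b001164330026d20b000000000000000000000000000000000000000000086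e130000000000086e0300000000000c7c33000c7c2300000000002bd23b004b260b000c7c03000000000027553300000000000a0b23000a0b1b0000000000000000000ac32b00000000002f60330025952b00000000000000000035c2130035c20b00000000000173710027842b002784230027841b00001c8100278403001ae033000000000000000000000000002ae01300022959000000000010473b00017419000000000010471b000000000010470b00104703000000000000000000087a2300087a1b00087a130005c0230021162b00193f230000fce10009b72b000161410009b71b00015f4100000000002a543b0000000000000000002a542300535e13002a540b0033d51b0023193b000770330012242b00016af1000176a900122413000000000011053b00424c33001a792b001a79230029cb0b00000000000000000053d90300316633000000000000000000418433000224a1000000000000000000016db1000c7e330019340b00000000002bda330000000000000000000180410021691300000000000068f9000068c100257b13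001ee503000105a100053433000096690012081b00451d03004b5d2b0013391b000bba3b00000000002d281b00000000000bba1b002112230000000000000000000000000000000000000000001a771b0020f71b0000758100000000000b762b000b7623000b761b00017201000b760b000b76030000000000503b2b0000000000503b1b00000000000000000000000000000000000000000051640b000000000000000000008f210004993b0004993300226e0300007fd1000499130004990b0006400b0000eb3100545533000031f90028b4130000000000000000000230c10001676100063c2b0008bc3b0000b6b1000496330004962b000075490004961b000496030000000000410c330000000000468d33000e8d2b002a53230000000000468d13000000000050eb030008bc230001a02900196d13000005490012371300017a6100000000000000000000000000000000000084b10048663b00427f2300008dc90000000000267e130043eb0b000072d100080a1300008e2100000000001cbe33002e1b0300007de900006b610053d52b001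9412b00000000000167a100006d91001e5f2b001a8a2b001a8a23001a8a1b00407813001a8a0b001a8a0300000000000226310001a1590000000000022031000000000000000000048c3b00048c330020ce0300048c1b00066d2b000b041b00048c0300013671000000000000000000000000002f221b000000000000000000017f510044af0b000000000039b7230019342b00016ab9000000000000000000188a2b00188a2300188a1300188a0b00100e130015673b0050813300000000001567230015671b00000391000849130001f9f10008071300015a090000000000012641000000000001587100151c3300193e2b0004b623001a1d3b0001d7c1000020f1003532030000000000018281002a3a13003b601300000000000000000001f8a9002ee91300382d2b001d721b0006043300008fd9001d72030045c53b00050c330047bd0300121a13001f802b000000000006720b00000000000165810012342300019341000000000004961300137013001e463b002c95130028ac0b001f1523004f140b000000000025b10b00051c3b000000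0000051c23004be8230000000000000000004663130021273b001778330005562b0000000000055613002c6f0300010091001fca0300000000000555230005551b000000000000000000055503001fab1300047d0b003b463b000000000005542b00000000004d861b0005540b000554030017a13b001976130026a42b002ef62b0005531b0026a10b0000000000047a2b00047a1300103b33003b8b2b00415a1b000166810001cc910001cff1003fb30300000000000000000000000000015541001cde1300000000001cde030004763b004be333000006310001a53900010309004f400b0000c6790004bb0b00016111002c6c2b002c6c23002c6c13002c6c0b002c6c030051ed3b000f663300000000000f6623000f661b000f6613000f660b0019303b0001ef110019302b00193023000000000019301300193003000472230001904100188d2b000000000000000000188d1300188d0b0032720b000143910018862b0018862300000000000139510018860b0018860300000000004a0033000079e1000000000000ea5900178e1300005dd10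02bc413002ec51b0000000000509603000000000000000000127d1300019e81001edc33000076c1000e1b0b000000000052071300002c4100046c2b0035671b000127f90008160b00008dc100000000000000000000000000058f2b00475003000000000004762b0000000000058f0300079f3300079f2b00016bc100079f1b00079f130029fd13000e62130004682b0004681b004a301b0004680b0004680300225a230000b51100000000000196790026fe030005400b0006502b00014ce10001410100075c2300000000000000000000cf7100388e13004c990b0000000000000000004ee33b000186d10000000000002381000074a10004631b0027e23300046303001eb2330001d5510001d841000076110054a5130054a50b001c211b0010f13b00387f3300009bb1002cae2b00387f1300007b810011fc2b0023911b000c53230039f1230011f01b0011f003000ff933002d7d13000abe0b002ef603004524030000000000045e3b00045e330028922b000e0d330041a01300005cc1002892030001931100467933003ed02b000000000000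5e6100005e7100000081000f891b00045c1b001b0b3300016bf10001ca61000118e1001b0b130001ae7100019ee100259a1b000184710025fb1b0026fe1b0001aba100019d9100000000000108d10024c01300118f03005578130005a52b000000000000000000005d710044231b00515a330051313300005eb10001e4e10001761900046c1b00046c3b0009a7330051303300000000000000000004581300046c030023753b0001be410023752b0023751b002375130023750b00237503000d833b00000000000b93230001e42100140123000b930b000d83030037de3b00000000000000000016e51b000723130007230b0027503b002b943300180f0300000000001dcd0b00019a31003e813b00000000000000000001c8f1004a290300274f0300301c330016e72b00301c230000000000301c130009120b00000000003f6733000000000000000000000000000000000048de0b0001a929002085230000000000014d110017e31b0017e3130017e30b001e0e230000000000044c1b00000000000476330000000000000000000476130004760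b000476030021963b002196330021962b000000000021961b000000000021960b0048dd1b0001c66900045e2b00045e230052c60300045e1300045e0b00045e03000000000001762100016451000000710001ac810011070b00003fe10016f30b0000ec39000000000008133b001ff813000e0d230023940b00062b13000fbf330001aae100000000000000000046510b00000000002c7f0b0000d311000085710050962b000c671b0019841b000000000055613b0001342900006e4100000000001be01b0000000000081523001dc713000162990011f01300176823000a731b00002b0100004a310000a451000000000000000000000000000000000007b70b000217f1003eb50300000000000000000000e721000000000000000000000000001cfc1b00000000000a980b00006d110021381b001c6903000102c1000000000053cc3300002391001f9e2b000098f90022b623002d390b0000000000046333000e142b0000e8c100273c1b00005f69001a440b000031210008320300112a1b00043b1300112a0300043a3b000055e900043a1b00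01da090001d9b100043a03000f8b330033733b000f8b23002ef53b000f8b130014380b000f8b030020a93b000000000000000000000000000000000000000000000000000437230004371b000437130004370b00171c03000000000001ece10016280b0001447100006ea10020af230004351b0004350300429a3b0001f239004b3d230008280b00000000003d60130001cad9004db613000e350b000496230024ee3b000000000004960b003ccb2b001e373b00094b130000000000382d030016161300000000004adf0b0045283b00502e3300000000005096230000000000086d0b00116f03000183d100000000000000000036013b0020811b000035e10016ea0b0000e171000128a1004dbd0300000000000000000009743b0009742b001968230009741b0015e21300016ad90001ce11002ce33b002ce33300018f11002ce31b000000000000000000126d2300070b13000173410000000000003ed90038f23b0040880b000000000027fb33000049110024510300042b0b00042b030039163b003b5533000000000011b623000000000000000000016cc10001ed210000000000000000001dcd23003c6c3b0001c7c10045fd3b0000000000544633000000000052f9230000000000002d41000205e10051243b0014de3300000000000000000014de1300000000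
def m_4 : ℕ := 0x30e88e0630aa4041d11fb2e1580043a22a1bc2840287438b928007070e84a03308560a1d0800009fe8103a1077fd0d601874210779828020e849c5125ea021d08a1f297ac003a1086bcabe030741000027f4050e82a08733ec081d05411298cc0c3a0aef3d2bd81074150459a76010e82a08d34a2001d05470e12801c3a000f243ea030740000027ec040e809ee3458c061d01046e2a20083a01f144f4b80874046ea9afa000e8102551f880e1cfd2e8a0f901839f9b314afb82873f000027e4040e7f106105a6061cfd24ca0ee00439fc1c5c15c00073f81799a42070e7c000002460a1cfa049a123c1039f25c8d30601073e823e9a22010e7d04651f06001cfa0df20ae41c39eb15253d083073d000027d8050e7aa24b0c24081cf62d1a98c00c39ec157c15b01073d53a79d0c010e7a75c74ae80e1cf173527e241839e1631427f82873c4051877a040e7800004f9e061cf1a52a31b40839e41bfc15b80073c000027cc070e7603250dd00a1cec00009f281039d818249a481873b021a9353020e7605c74c9e021cec89ca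6c700039d80ca50a583073a000027c4050e74497b1f40081ce8930e16f40c39d000013e081073a24bf9d83010e7449810352001ce893062ab01c39c8cc544e203073906789356050e7200004f76061ce5b96a2ec40839c800013dc808739263098f1000e72a021275e0e1ce0e7e677f01839c3273d0850207383581a243030e70f44d3c2a041ce0d60e89040439c3ea152f880073870148b4d070e6e68314f380c1cdc041e1d3c1439ba40642e502073744a382c9030e6e00004f56001cde08626a281c39b000013d48307363bee845a050e6cfb5f4af0081cd94eba73ec0c39b40c843ac000736818e876b030e6b174d01ea081cd05b9286700c39a1c724a54800734765b9350070e6643ef0f080c1ccc275628ac14399c55742ad0187330000279c020e67156302c0021cce2aa69c0800399c5a252f80107328bd2a6e8070e62769730a20a1cc507fe1b2810398a1eb4c5e8187314200813a020e6284032e7a021cc5080a594c00398a101ce5683073000002790050e6067972fb8081cc0cf32107c0c3982a66466581073033cda2ca010e60679d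2612001cc0cf3e5bf01c397991549ae03072f22a288b4050e5e79f31fcc061cbd3cca4f4008397bdc3d2c700872f49a784ab000e5f16914c3c0e1cb9c6823fcc183972b13ccd702072e00002780030e5ca785394a041cb9fee6968c04397171b50be80072e7fd083e9070e5ab8fb3f1e0c1cb4d1a6105014396bfdac9a082072d7ef382f4030e5a9d491a3a001cb400009dd81c3963287c87303072c34f9938a050e58ff914b40081cb2060697040c39638924fc680072c301c95fd070e4c71413b6a0a1c98e2860ac0103931c5144c681872638a39ceb020e4c71951a66021c9800009da8003931c52c30a83872534048c73060e4af9130ed60a1c94aab209440c392be4550638107256eba9a4e010e4a555b2dcc001c945afa8bc41c392069ed1d803072400002760040e486e6b053c061c90dcc22ac8083924433d27100872416c393f5000e486e6513ee0a1c8d03b281380c391911440598087237c958220000e46445b1ea20e1c8a215e014c1c39097d3425703072100002754050e4200004ea6081c85f23e1a240c390be4bc3900107212225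8451010e42445708a00e1c80a9d646941839015f3c0d382872087179365040e4000004e96061c8078928fe408390438a526f000720107da3fb060e3e699709420a1c7c78124fbc1038f996c447001871f4a71a4e2020e3e6b91109a021c7c00009d080038f90adcaa783871e33db935a060e3c64490ace0a1c791ac285040c38f234dc5bb01071e4fcb843c010e3c96431c32001c7800009ce81c38e8000139c83071d2b719783040e3a94e54948061c7529ce5d4c0838ea68dc3d980871d31a8a183000e3a94eb240c0e1c71bb96954c1438e3a8dc49702071c882890ad030e3916d3032a021c70000095380038e45b5c0c083871b2c9d9b45060e3694ed33220a1c6d29de766c1038da53c4b1c81071b3450a200010e3694f51efc001c6d03f680e80c38d3543477b03871900002724060e3249d52a300a1c66202a21481038c800013908187194b66a05f020e3316d9032e001c652d9e63141c38c1e6ecb0b828718424d8cf1040e30887916e4061c61093a412c0838c2127c3218087183fdca6f5000e3084a139b00c1c5c4d0a0e7c1438b8a0a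c3d502071714cc8f4a030e2e5231382a041c5c671a0e900438b8b0dcb4e00071700002710070e2a4cb320140c1c558dca99001438ac5aec98a8207157996a123030e2b0151419c021c562bb28dcc0038abaedce7383871485f1a4e3060e287c7126700a1c522b2e19cc1038a000013828107147a4aa0b5010e285dcd2e82001c5000009c0814389b7e4c5b402071370158049030e26df9516ce041c4e1076116804389c551c0b00387123c4b8cb8060e240b3f34d2081c489e2a83ec0c3894058cbcb0107126ef38d72000e24692916900e1c450ed21068143888000137a82071143b5986a030e22876d08e0041c45bbf29b8804388a1dbd14a00071143b899ae040e20e70d0f36061c419fc2019c0838833d2c73780071067a68278020e1f173702520e1c3934922620183871c0d4f2d82870e8b90931c040e1d0d0135a6061c38d5a68978043874801c42780070e4f75a2bf070e18f2b717be0c1c31138e373c10386200d4e5d81870c53ac9cfe020e19200f109c001c32298a190c1038587f9d32401870b0ff4a647020e16cbeb2676021c2c3fe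204940038587fb532283070a000026d8050e14319f3312081c28afee18c40c38527fcc9c081070a19df9e1b010e144ae71c3e001c28b21a12c41c384c3c9c56f8307096f0180f7050e130cd70a2e061c262f064c2008384c5dcd2828087098ba0a368000e1317c720f20e1c2151ae73a010384376b470681870882a5a5af020e1116a52612021c2151be738c003842a384e7103870500000d71050e0b0ded26fa081c16238a4df80c382c489d28b0107056eea8852010e0a00000eb6001c162dc644441438214cdce088187042a618768030e0715b10ed80e1c0965fa5a14183811b6bce570207026d129082030e0487772f00041c0a2d8a4c4004381258f40c58007027c4197a7070e0305df27c40c1c04f89638ac14380a56fc6c70207018ae99d9e020e03041921b8021c0606763d481c38027ba51600307003cce87f6050e00fd0d07c2081c019f0e87f4083803427cd5480870068509956070dfc87893aac0a1bf90f1646781037f207750248186fe43c7847b020dfcdb2f48ca021bf90f225b7c0037f227b48e58306fd55128766050dfa6ef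3088e061bf5543a131c0837e999a4a648006fd551084b3050df9161100340e1bec00009a681837db7f852dc8206fb82159a8a030df6b88f2386041bee2bea41e40037dbd57cbbb0186fa8c259300000df5184d25fc0e1be4a2b215141837c9844cc360286f979b18fa6040df315a122ec041be5f6625a540437cb0e4d0340006f98c23930e070df0334944280c1be0db7a64981437c2f4748228206f86ff28a5d030df118492618041be1ffee3d700437c3f9fc8728186f729cb8591070dea88970c240c1bd4a3ea387c1037a800013408186f5444e81e6020dea8ab91b1e021bd512be36580037aa227c0f30386f40000267c060de8538f13280a1bd0e8a67ae81037a026350810186f400002678010de800004cee001bd0be3685041c379c2f5465a8306f300002674050de684a30d8e081bcd094a6b8808379a129c7110086f3425484ff000de684ab0b820e1bc4975e70dc18378949f4df68286f11e399c51040de20dc14cae061bc4fdc23ff4083789ba447978006f124829981070dde068142040c1bbc0d060ae01437781c646bf8186ef000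02664020dde00004cc6021bbc00009988003778162ce8c0386ee0522894f060ddc00004cbe081bb809da56b40c3770000132e8106ee0524a46c010ddc06ed4442001bb8113a1eec18376800000038386ec06d38275060dd800004cae0a1bb00000995810376021b50130106ec043d9d0b010dd805cd349e001bb03f9a6bb418375817e42438286eb02e0a0c5040dd605a94188061bac0dbe937c08375817ecd498086eb02fe8353070dd40bc11fa60c1ba83fca04a414375000013248206ea0c7aa0b1030dd400004c8e041ba868ae609800375000013228386e932818e20050dd28d971934081ba51b3237a40c374bbc842558106e9472a8a0a010dd28d9b1408001ba4a1ce5ca01837400cac39d8286e8169494a9040dd02d2b27c8061ba1be564dcc083740b4b519d0086e816978469000dd02d31269c0e1b9c84f27cb41837381c0cd338286e782518518030dce5e733eae041b9c000098c804373bfe5d2d18006e75148a610070dccbe4340da0c1b990f2a03e81437345bbc99f8206e66e658a68030dcc87d12ac8021b9a2d6e4e5800373406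7d2e78386e57e418372060dca00004c4e0a1b9609626b4c103728eb7cad00106e547079f42010dcaf84b4244001b962d2a91a81c3722310d2ce0306e400002620050dc90507082a081b90000098780c37245a652338106e40000261c010dc9050948400e1b8d3e128a3c10371c0244bb58186e380c38834020dc7168148d0001b8db97e29dc1c371147052df8286e200002614040dc4a28d2c52061b89480237d0083711fd94b7e0086e200002610000dc4a29338e60c1b84499a455014370a6e7c2478206e12e4ea027030dc2a085026c041b852e4a688804370a6e846600006e14b9382b9070dc088ad04520c1b809a7633f810370406d4ef88186e080b5a601020dc02e7728ec021b81345e2560003700ed552498386df64d29e39060dbe00004bfe0a1b7ce60a25701036fb6cdc5e08186df7d629f1c010dbe974707c0001b7c000097e81c36f102945a40306de07b88e89050dbcfaaf271c081b7a2d524d1c0836f1a2c4fab0086de7d559a9a000dbcfab93dba0e1b74c6e285a41436eb27545c48206dd31baa166030dba81e94086041b75fd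2a7b900436ebeaccf6f0386dc000025ec060db84f2719080a1b7153527fe80c36e35f4c6cd0106dc6e648a6b000db893692c920e1b6c95a65bd01436d96c4c4bc8206db237d8c35030db6eeff30f0041b6d977216a00436d96c5c0b10006db18199ba1060db400004bbe0a1b68000097781036d1b06cd9d0186da360e87fb020db46c1f26c0021b68d8424cdc0036d000012ec8386d93a749594060db200004bae0a1b657ac244c40c36cc5acc99b0106d979989983010db200004ba6001b64e4da92641c36c000012e88306d82c259344040db0f373223c061b613d12060c0836c2541c5088086d84a8489fc000db0a8c138d80e1b5c6c1627081836b9e3351b68286d75c1b91c7040daeff054aec061b5dfdfe43580036bbfbec7bb8286d68abb8013070daa5e9d3b1c0c1b559742173c1436a800012e08206d546a7a14f030daa00004b7e001b5606166b241c36a01a8d0708286d4000025bc040da800004b76061b50000096e80836a08eac9a98086d405b085b6000da803b71fba061b4d9e7209d8083698ad750cd8086d315af83d8000da6ce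d71cec0c1b4950ea1410143692a4b400f0186d2543c8502020da4a8db39ca021b4950fa14000036940f1c8a40386d1000025ac060da268b91bde081b45ae2a35900c368800012d48106d18b57933a010da317c348b4001b45532658f81c3683ca749fd8306d0000025a4050da000004b46081b400000968808368274e46990086d0000025a0070d9e615b0b5a0c1b3cbd466c7014367bea9cbc70206cf31c185ce020d9f04450eb4021b3cefee2e440c366bc924c2b0106cd65d99dea060d98088d0f840a1b3000009658103660219c2560186cc65cd8cbb020d9861fb1c38021b30c3fa45e800366000012c88386cb387ea069060d96032741880a1b2c000096380c365800012c68106cb2dafa2b6010d968d2116d2001b2e2d0a95e01c365288bcc178306ca515191c6040d9515ff0eb2061b2a1f567b5c083654117c7dd8086ca6fe98df4000d9518313ffa0e1b2485e653201836489aac9540286c93edc97eb040d9307ed05fc061b261046445404364c55bc17f8006c983fd8f71070d90a38926720c1b20155a2534143644127cd568206c800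002578020d9000004aee021b21fdca435c1c363800012ba8306c700002574050d8ec62b3e10081b1e009a84700c363800012b88106c78ab882fe000d8eab69401a0c1b1a159238c40c363000000b90086c56775942b070d86d2cb14fa061b0db912310408361800005928086c300000b24020d8400002854061b02249644380435fc4efc08f0206be892aa537020d7913bb023c081aed36362b9c0c35da6c742ea8106bb00002546060d74d0071350041ae800002b781c35c8000056d8186b900000ad8020d72000001b8021ae400002b580035ca885c1560286b80000249f040d71119f0d48061ae0000092740435c449c41a08006b86b72a49b070d6e9e4b159e0c1ade24e64c701435bb83e46098206b78934a519020d6edfe70258021adc00002b280035bc50051398386b66bcc819b060d6d1283483c081ada241294580c35b44a2419f8106b67caaa312010d6cd79f032c0c1ad4000019101435aa87dc3218206b5893b81d3030d6ad6e9494e041ad624f60d000035ab5bad2510206b44b6e8ab9060d66d005453e0a1acd83a2533810359a7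cf45590186b369958b05000d660000155c0e1ac9ceea8d60183594465c9810286b200000aab030d6512414a20041ac800004c280435925b7c5540006b288e4937e070d630b4917c0081ac4000009740c358c46ac3538106b10000025c010d62000004b6001ac622824bb018358000005508286b000000aa0040d600000153e061ac000002a781c3570000054d0306ae00000a99050d5cd98b4774081ab9a3068c580835645d6d2830086ac8baea501060d57176f4a0a0e1aa5b45a01f014354c398528e8206a9873181fa030d530e652ab6041aa61cce947404354b7b440030006a987348257060d50000021620c1a9e22ce00d40c353c498c8870106a788d886b1010d4f128d1cb4001a9e22de20f8083534496408f0006a500000119070d490df705100c1a922e7a2124143524467435c0206a46b7f90a5020d4917534a0c021a922eaa94040035245d7c08e0186a38bb18119030d45124f2224061a8624164b8408350c479d1848006a1890681d7050d4111eb460a021a8223da8c0c1834fc5d1d1bb81069f8919a282010d3f12354502001a7e2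ed6046c0834f447bd17e83869d68418228020d3ad599008a021a740000088c0834e3e62d27903869b00000010060d36000000000a1a6da186003c1034dbe64527781869b7d1fa4ef010d36fa37071c001a6e217a93bc1c34d33cfc10d00069a686381b3030d32d0c903620a1a61a17607081034c342f4031818698685f81c0020d30d5e70014001a61a18206f81434a4679416f0286938951802a020d1d1423022a001a3a283a1a5c083468000034781068c78558e64070d142d75125c0c1a280000939810345075d4abf81868a16c48303020d146e4d13e8021a2800009388003450b5dc9ef8386890bf690da060d1205ab41860a1a25f25a1c84103448000126e818689000024dc010d13167126ca001a24465a60541c3444418c56203068887048356050d1018ab06da081a221c161c800834434bad08a008688000024d4000d110e0f0d120e1a1c2e32628818343800012688286870cdf8370040d0e5a112a28061a1e1c2a1a180834380001266808687000024cc070d0c000049960c1a1818b63a2c143432bf2cf3a020686062b861e030d0c2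255338c041a1a1c261a1c00343000012628286850f238a53030d0a5bb11c5e041a143cae29440434288c04ae8800685114a8ca9070d089a6132b60c1a1000006568143420000005a81868400000327000d08000006440e1a0c000092e8183418000125c820683000024b8030d06d23b1842041a0dad3e8c1404341a5b1ca818006834b6488aa070d04d703068a0c1a08000000501034143f9c5068186828a058181010d051057477c001a0a281e065c1c3408cbd49558306811ea79ba6050d029b1528fe081a053856117c08340a6c5cb488086814b898252000d02a1f90c840e1a012e02083c18340162443c48286800baca3b5040d009b2502d6061a0143fa18fc0834026c9c2cf808680000024a0050cfe0000044c0819fe21520b840c33f8000011281067f8a0b8195000cfea03b04440e19f8e4d614bc1433f140cc3f102067e393c82cd030cfc0000492e0419f8e4e230300433f1c9cc49700067e393a97f0060cfa000049260a19f47c4a2b3c1033e8ae8c59681867d67788f35020cfa340143a00219f47c4e20e80033e8f8b468203867c0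000248c060cf86f3b2ece0a19f0000092280c33e454448a381067c3e719eaa010cf8cfc32ed20019f22c5262181433dc630c04303867963039aeb060cf27d29340e0a19e61ec691041033cc5894c240186798b109e27020cf314d5330c0219e62c160d241c33c08644ae883067835888601050cf1162d20e20819e103c681180c33c2cead13d8106788b189d9e000cf096e519120e19dd149e16240833bb4d2522d80067747ea8b85050cec9e8546980619d98c3e29f00833b27a1d1a500067650d28632050ceb18b310a20419d6316e213c1c33a29b3415d0306740000246c040ce8000048d60619d1a72a27040833a4610c9cb0086744f87a28a000ce88e0d3e860e19cc685e313018339a2224a818286738c229368040ce715990e280619cc0000918800339c0104d6a8386728a168bc8060ce5142f21380a19c93bf62e7c1033945f3c83c838671563a9755060ce28a53170e0a19c400009168103388000122c8186717dad9fca000ce2df9b16c20419c2318a02041c337864c48c482866f0dfa957e040cdf0b9146ea0619be2d8e10a008337b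5d9418f00866f3393831e000cde3f3b320a0c19b84b062d8c143370ae3510802066e14778999030cdc324f28940419b8658e0ce4043370cb2423100066e19598f44070cdadeb7036e0c19b4000006d814336bdcc4d2f81866d6f5e81b3020cdb0f51108a0219b61ee28e5c00336b7cd40d883866a00002440060cd44cf52af20a19aa09227620103352719c97981066a2ae894bb010cd4000048760019aa313a0c6c0c334c627c18c8386683c0d99b5050cd0781d07b60819a0c5b284d40c3341e0842060106686605a418010cd0782517aa0019a0f04e055c18333b3d7c6e1828667237e8207040cce73bb0f3e06199e046e0dd408333c08e422380866730bd960f000ccf023b071600199a403a00d81c33280001214830665245495b9040ccad75319920619951a868558083328000121280866550eb860e000ccaa1d50c1e0e199173d27330143322e7ace658206645cf69cca030cc9085f46f80219920e3e3d80003324133cd110106638c50931c010cc718a3263600198e314a0c681c3310e6dcc088306623c118bd5050cc4ce9d29e408198a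092a5e400c331181f51aa81066282379a20000cc507231ec6081986323a00040c32f8000019801065f91648014010cbe0000065e00197c00000cb81032f4907c01b01065e92129382040cb722e73fc606196e45d204c40032d48b7442d800659916f8131030cb0000000ec00195c000021700832b00000002028655921c9090030cab243b211e021956487a42381432a490fc84581065378d78b22070ca43c412d0c0c194a182a6250143290f10c7960186521e228220020ca41ded47f402194800008fe8003290e37465403065133198bfb030ca3136717ea04194586fe81a804328c4dac655000651331b8163070ca0373909800c194158ae04801432842ec4cbe0206502d848df7030ca0ac6730ac02194239e60944003280c914a2783864f87998044000c9f0f2f155c0e1939aa063c80183273bf8cd1202864e33378aae040c9c42c12aa0061939a66e4bf40832709c145cb80864e1394968f070c9a36f901280c1935a55a2d2014326c43647ce82064d1ddc8251030c9a36eb28f604193558ca6164003268dbc4a3c03064c20848b55050c98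1eb73eba0819306dfa185c0c32628ce4c5601064c1c6d8ca7010c982645338c00193047220f2814325a8cecd2981064b6cbd861c010c96a33f06b00e192800008f4818325045cc2f782064a2bc79e81030c94579112cc04192967e279680432528d0cbc880064a244095d4070c92d97f1e20081925b3024dec0c324c4fec9e100064989ff93ae070c90a3530dfa0c192113c62b581432428d5c09e02064843f9958c020c90a35b10a202192146ba2dec00324348dd1360386472b449039060c8ea36339080a191db30a0d0010323a8d9c8700186476cc3a26a020c8ea36b23f602191d46da06301c3233663513e0286460000227a040c8cd98f44f204191a28564f101c322800011da828645000023b4040c8a00004766061914808675b808322b2204916008645000023b0000c8a0000475e0a1910ccea013c0c3224506d0c981064400000c52000c89142743d60e190d06ee6b3018321b7a0c56f0286437690a108030c8687310e3004190d4f6e58ac04321c531c386000643700581e3070c84bff1315a0c190800008e881432145edcd72020642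000023a0030c84c38740c802190a2f466550003212dedd02803864188598d01050c830fdb01080819061fa6480800320c3f5c8ff0386406f6981cb050c80ded5001408190228aa156c0c32043f24f790106406f6c81c7010c81014935540e18fc4c2e4ff81831fa721417682863f8bc68855040c7edb7515560618fe0b4258a40831fc5e3c44e00063f769aa10d070c7c9c973aca0a18f93932168c1031f30f4509c01863e3c309fae020c7c9c9f3f460218f939427e8c0031f28adc0c603063d3b829cf3050c7a000047060818f47d568ce80c31eb395c6f881063d1c3887eb010c7a2a4325400018f53ea683980c31e4338c1ac00863c82719a13070c769f5518120a18ee0ce282b81031da7d6460301863b4fad8c05010c771231450a0018ed76de7a381c31d0f97c22a03063a6b7b937d050c74000046e60818ea317220900831d457c498100863a4d10892f000c7517bf26100618e62f1641e41c31c0e164ac083063837f69fa3050c70a173136a0818e132f226d80c31c41bb4a898106386f05a2d9000c7106d31fd80a18da486a42401431a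c90dc0408206343db48037070c663c8d03160c18cd3f26386414319960a40a28186333e759524020c667e41105e0218ccfc767f1800319963cd1a583863216a38134060c64f2af08820818c85a9286700c3190b544a548106324f408aad010c64e7770c600018c85aa614801c3188c99ca6b83063134e5877a050c6257f90e140818c4f6b252a00c3189ed6c59f8086314f41834b000c6238691ad40e18c215622e681831811b7c3a902863016a28352040c6055b134660418c0535a133804318000011a480063073bc8632070c5e0c8322ae0c18bdb5fa060c143178a3250eb82062f19e68953030c5e584123020418bc5aae271c043178b56413c83862e1f518da2060c5c3ea50ab40a18b86eee6d14103170fa9c95b81862e1f548c10020c5c7b5f16840018b800008ce81c316a0f6c4fe82862d41ee8b7b040c5a83df08020618b507c2559008316a0f8c09200862d41f29396000c5a83e7223c0c18b0c586007c0c31627a4428d00062c315f8523070c569e931ff40c18ace94a02ac14315a7a548eb81862b4f4b911e020c569e9931820218a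d3d3646f000315be52514503862a22919858060c5483ef031c0a18a93c8e73fc1031527a74bc681862a59fa9e56010c54d6f503120018a967ee794c1c3148f9e426a83062900002320050c529ea7043c0818a53d524d1808314a7aac3890086294f569946000c52b4053c9a0e18a012aa3a3818314184fc2528286284f588662040c509eb32c7c0618a1681a792c0831427ad420a0086284f5b9772050c4ed7a1032406189dbc1a002400313800000c70186264f608a87030c4a000000dc041895a2a63c9c00312b4b0c5950386244f62866f040c480000088406189223ca4b8408312281343350086240000013e000c4911e903ae0e188c000029b814311a7b2453602062300000a6b010c46ddb320f600188c000010041c3100000053183062000000a62050c40000014c20818813d9619e40831035a7485183861f14fc9a3e050c3e000045f608187c00008be80c30f8000117c81061f65e2a2e3010c3e0ca9377c00187c15aa39e41830f280545e082861e062a8686040c3ca0172616061879979e349c0830f0b5a4a0100861e0b869a74000c3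c000045de001876240644380c30e373dc32581061c84478d13010c3908911a34001870000000701430db5f0c9d883861a855b8f10060c35177720f00a186946921b701030d446d49bd8386192efb9cba060c3218e519b60a1864ac6a4ea01030ca808c4e081861950129362000c32a02722680e1861bc022b7c1430c3781428b8206186ff68129030c30de072610041861bc123fa80430c31c14ee28006186ff19079060c2e3acf05f80a185c6df619301030b8000116a818617000022d4020c2e3cbf2d6602185c00008b480030b87a947190386163e869d0f060c2c0000459e0a18593dae815c0c30b27b64e71010616707492e6010c2c9edb057400185800008b281c30a926c4c4c8306154e6f813c040c2a9ee1132606185400008b180830ab5e940c20086154f728f9a000c2a9ee707ca0e184cbc422c9c183099f2f4fa0828613000022c0040c2677b533c204184d3dda582c04309a7bbcb028386122cdc877e060c249ffd16e80a1849af020678103092862c39e8386110f53826d050c225b5d1eee0818449f3606a40c30896d84f4981061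12db48185010c225b63030a001844b6ca4cb0183080df947f1828610000022b0040c20353508040618413de26540083080757c0d5808610000022ac000c2025cf24060e183c8eba839018307982fc3c202860f69d78934030c1e79b51f9804183d3dee1fec04307c43ed14e80060f4f7c88b2070c1c21ed252c0c18384c72700c103073e59411581860e4f7d87fa020c1c9f3915680218393dfa35a00030727bfc33283860d0000229c060c1a7eb932b80a1835409647e810306a8014ed981860d5003960c000c1aa0093a360e1830a9aa0fb0183061d8ec89c82860c00002294040c18000045260418310f7a46780430627c1c63980060c50009396070c165be5080a0c182cfd8e298414305a7c2c6d102060b4f86976b030c16a003106804182ce9365f7004305a7c4409201060a6917a26f000c14b3ef00e60e182614123bbc18304c1b6c7f50286096ca38292030c13123b0232041825a6d6427004304b4dbc84d800609891b811a030c10f95d184e02182146122efc0030428c2c5df03860752368bbd060c0ea46f17780a181d48e22eec1030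3a91cc24f0086076f678102000c0eb3ad38f20e1819af764f201830345d2409a0286066bdf93c6040c0d12750684041819bc3202400430335f049e180060688df937f060c0ab3b71fe20a1815464e2eb010302a8ca45d581860551af8baa020c0aa34f175200181546d22ea0183021aaf4d14828604355f9232040c086ac13480061810d586563c08302123a45a300860435638473000c086ac904b60e180cd5961800183019ab349a382860335678b5d030c066ad1193e04180c00008978043019ab54a710006030000225c070c046ad90b0e0c180897ce138410301182847db818602356d9926020c046add3ea0021808d5be7fa0003011ab84ccb83860135718678060c024cff1e6e0a1804d5ca412c103009ab9ce8d0186013574992c010c026aeb153c001804911e57181c3001abbc68703060035788603050c006af309c8081800a60256880830000001124808600357c8267000c000000448e0e17fcd5fa77f0182ff9abfd0850285ff35808135040bfe5ef511da0617fcd60a4384082ff800011208085ff35848b89070bfa2a4f1f680a17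f454a24014102fe8a94c1580185fd152a9e0d020bfa2a5731b60217f454b258ec002fe8a96c7bc8385fb153695c6060bf61d79070a0a17ec54de271c0c2fd8a9c45a18105fb146da22b010bf62de522fa0017ec54ee13481c2fc88fccb3b0305f9119b84c9050bf22cb70f1e0817e450fe20f4082fc8b2e45938085f9165e9467000bf209410fba0617e0598a5aec1c2fb8c374ada0305f7186f8578050bee30eb37a40817dc61c239f00c2fb8bedc9590105f723b88b1f000bee30e72d380e17d800008888142fb000011108205f604388e89030bec0000443e0417d800008878042fb02ecc1b98005f60000221c070be8333d0d020817d0667e2d680c2fa0cd042620085f418298092000be833430f300a17cc668a6fa41c2f90cd1ce3e8305f200002214050be42ba9204c0817c8e6d25a7c082f90a9840798085f200002210000be4334d16660e17c0669e07f4182f80cd44ad98285f0182b820b040be0335516420617c066ae0588082f80cd648038005f019ad9bee070bde116f0c940a17bc00008818102f78c0b41140185ef08b88905020b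de000044060217bc00008808002f7800011008305ee00002200050bdc000043fe0817b99f0a45a40c2f7000010fe8105ee000021fc010bdccf8b2d600017b99f1a7a08182f690e14b808185ec254e85dd020bd871ab0f360217b1e2720e34002f612a9c0120305eb200388fa050bd6f11f07220817ac608a31480c2f58afcc9348005eb17669282070bd4000043de0c17a8b9b610c0142f50d24cb8d0205ea189b84cb030bd2f1ed29240e17a083160958142f410634bb50205e820c78923030bd041913e700417a083264008042f4106649198005e820ca95b9060bce1aaf3ebe0a179c73a2558c102f38e74c2738185e71cea8916020bce39d707fe02179c73b21334002f38e76c4928385e612eb9153060bcc275b1ccc0a1798518a39980c2f30a32d0eb0105e6000021d8010bcc000043ae001798000087581c2f20e7941878305e4000021d4050bc82fcd3c84081790579625d4082f20e52c6820085e4000021d0070bc21bbf2c7a0a178437822698102f0847aca070185e10de19620020bc200004396021784378a2b70002f0800010e48385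de18b59a92060bbc1e930f0a081778599605c80c2ef0b3341c28105de131e84d3010bbc316f16a600177859a217a8182ee917b4d3d8285dd325283d9040bba2fa73704061774728e7034002ee8e53441d0385dc324f8550060bb84a8d1a660a1770951e09dc102ee0859caf00105dc2549879c010bb84a950288001770952e1e3c0c2ed800000190385da188081e3050bb431031778081768000086c80c2ed0c41c2428105da18848fc3010bb4310b0b40001768621a40b8182ec8ebec8010285d9000021ac040bb23af32b00061764691a7da8082ec8ebd4c7c8085d91d7b8b4c000bb23aed12200e176066d248e0182ec0cdac0fa8285d819b68d04030bb0336f2d4604176066e20fb0042ec0cdccd198005d819ba81de070bae2b5b02420c175c00008678102eb910dc6170185d715b38276020bae289f287602175c623e0f60002eb8ad8473b0085d6188c8c2e070baa425f186c0c1754990a1128142ea9b63ca940205d51be795e8020baad9c90396021755e3de5244002ea992c4baf0185d416e68e5f020ba82cfd11880017505b9e09dc1c2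e9800010c68285d3235384da040ba66341351206174cc6867268082e998d142770085d331a39e2e000ba6634917240e1748c69611a4182e91729c9d78285d231a78b67030ba400004306041748c6a61090042e918d548d80005d231ab8ccf070ba259fb26800c1744000085f8102e8800010be8185d12e3782bc020ba25edb1288021744f5627fe4002e8983947d68085d031c69edd070b9ecba30daa0c173cc6b22d7c142e798d6caa20205cf31aea03a020b9e635f227202173cc6c20b20002e798d8c6c60385ce282c9271060b9c63650dc80a1738c6ce1b3c102e7000010b68185ce251d9c27020b9c636d229c021738c6de6a101c2e6972bc2810305cd027183c4050b9a63731712081734a06a1f840c2e698ddd0218105cd80129ee3000b9a637b02460c17300bbe3870142e6017843eb8205cc03109333030b980f4b2e180417300bca1f2c042e60179c0a60005cc0000215c070b96000042b60c172ca1da2a20142e59fe24e478185cb469f8356020b96000042ae02172c87966a1c002e5a35149c28385ca3bb699cc060b9461e11fd0081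7291a921cdc0c2e52352cc218105ca46a68ad8010b94842d23580017291aa26d040c2e480000d4c8005c900001a97070b9002b3281a0c1720ec82497c142e42354ce528205c800002148020b908d570b0e0217211ab247bc002e42356cbec0385c746ae87f6060b8e651f2d0e0a171d1abe11b4102e395e7c3c58185c746b18814020b8e0000427e02171d1ace4a2c1c2e31b8842410305c6069e9a3e050b8c00004276081719268216a80c2e30000109c8105c64e4d843e000b8c61cf36060e1714074e1d2c142e29132cd650205c531708410030b8a492b1440041714000084c8042e298b7437d8005c52a17954c060b88064d092e0a17100a0a742c102e20193c8be0185c40000212c020b8806510a080217100f222858002e20142c1e20385c32830989d060b866be108fe0a170df7c67e400c2e1a3844fa08105c347019f49010b868e273e6800170d4e92743c1c2e0800010908305c100002120050b820000423e081704a36e8384082e08000108e8085c153b29cf7000b82fa77354c0a1701193e005c102e0236e4d868185c07d278fd2020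b808941078002170112860efc1c2df9e2042408305bf00002114050b7e000042260816fdb4fa09840c2df800010888105bf7d339a82000b7e0000421e0e16f800008438142df272246c58205be0000210c030b7cd88116f20416f800008428042df31eec82c0005be00002108060b7a620104360a16f49f2e2894102de9d7a47c70185bd3c769a3b020b7a62030d980216f400008408002de9250d04f8385bc6f158c9f050b790ef340300616f231522160082de378c41130085bc6f198c9a070b764ba3387a0c16ec000083e8102dd8000107c8185bb81e4849d020b7703d132400216ee07967b98002ddc0f3499c8385ba000020f4060b74b8bf334c0a16ea005e8224102dd2a1942880185ba000020f0000b74000041de0a16e60e92039c102dcc1cf50498385b835909dc2060b70000041d60a16e2008e44ac102dc3815cf5e8185b87f54887e000b70fd573c6a0e16dc7a0e6e00142db946cc2c90205b7000020e4030b6e51c332e60416dc00008388042db800010708005b728dc938e060b6c0b5b27be0a16d800008378102db0000106e818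5b601d4874a020b6c0b5d35da0216d834826a4c002db02d7c36a0385b4000020d8060b6893cd129e0816d229da44ac0c2da453cc0878105b44ed68ca5010b68000041a60016d12cd625201c2d89d6fc7e70305b13b449997050b624eed36540816c5bbb235941c2d814aec8fd8285b00d958a2e040b610e1702220616c000008328082d837614d3a0085b00b888e04000b60681327dc0c16bc0b4e121c142d7800010628205af000020c4030b5e000041860416bc0b5a6a4c042d7816bc1a98005af02d88125070b5caf9d1f5e0c16b883824f58142d73ef7c2aa8185ae000020bc020b5cddb71bf60216b8000082e8002d73e21cbd30385ad44818e19060b5a61590d9e0816b5e912596c0c2d68000105a8105ad8a7c86d9010b5a558b0ea60016b4000082c81c2d5800010588305ab498e9480050b570679414c0816ad3eae301c082d5c19cc2948085ab833a8436000b569e71277a0e16a958a20764182d51a0a421c0285aa7ac19893040b540000414e0616aa0b8214a8082d5279cc9de0085aa5eae9134070b52786d0af00a16a56c122ee410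2d4ad82ca568185a9573a9e9c020b520000413e0216a56c1a5c08002d4ad83c8210305a82d8f824d050b505b2d14100816a0b64257d80c2d432edc36d8105a82d928d78010b505b272a7c0016a0a502133c1c2d30576c9aa8305a644c48c73040b4c9e6d279806169a0e7e0d34082d344f642a68085a689ed8430000b4d074501d40a16960eee64b8042d2c1d042a68385a4498c8785050b4900333dcc0816911a1e1e0c082d22344c3c08085a4468a8780000b4914fb069a0e168d23ba0c9c182d18754c0d60285a37e9c87e5040b46febb312a06168df77a77a4082d1c1d0c2180005a37c6d9f0b070b44000040fe0a1688bc320e54102d10514c4790185a20000207c020b44000040f602168829de5b48002d10000103c8385a136588a15060b42a6cb39d00a16855a165bd80c2d0aedfc2a50105a15e8590ff010b42bd0d1f2e0016854e3274cc1c2d025cbc2728305a0325d967b040b407e113920061681255a2744082d0248dc4fe8085a05f198fa8000b40be3534600e167ccd022fdc182cf8000103482859f00002068040b3ec381208006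167d87062270042cfb0e1420980059f00002064070b3d08d5170a0c1678fcea5dcc142cf2e07c7be02059e5c138f70020b3c820b406202167970421628002cf24a344f503859d0000205c060b3a000040b60a167550da1424102ce8000102c81859d5e6398c3020b3a000040ae021674000081581c2ce1f2bc16303059c00002054050b38000040a60816716f4a418c0c2ce2de9cbb901059c578e9da0000b38b7a9082c06166c8b6272fc002cd9171c06983859a343d8518060b347c8333500a1668000081280c2cd1acdcac901059a40ef8616010b3481e109f8001668000081181c2cc9d38c8e183059900002044040b320000408606166503d65650082cca07b482f00859940f79686000b3281f106020e166103e60728182cc2ea9c19902859840fb8c0c040b3081f906c006166098de6364042cc207f40cb80059840ff81fd070b2e606d2e520c165c000080d8142cba080c2a602059700002034020b2e82070b5202165c8e2a633c002cb9deeccef03059541d48ace070b28b97335640a165172ea1030102ca2e5dcf708185945cbc8f4c02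0b28b98324ca02165172f65950002ca2e5f45f901859329c886f4070b240000404e0c16480bc65c30102c9146fc2db81859271909591020b2487bb233e02164800008088002c91316cc7a03859100002020060b2272a32f680a1645dbfe806c102c8be37c2be0185910000201c010b22b2432ea2001644e53a5edc142c83615c6520205906f168052020b2000001944021641afce3284002c83d28d00983858f3e199995050b1edaf5194008163e2b9a4c000c2c79f0dccc901058f3e1c9991010b1e7c3b33200e163800008038182c70000100682858e81f8925b040b1c0000401606163800008028082c70000100480058e5dfa9754020b1ac9ad0aea001635935215d0182c62dddc44d02858c5bbc81e1040b1862951280061631561e4724082c62ddf49c300858c5bbf8f95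
def jm_4 : ℕ := 0x49fe0b00007bf1001f1113000762130012dc23000000000001f2a90001ecf10042883300019b99002c181b00000000001adb2b001adb23000111d1001adb13001adb0b001e231b00023801000000000016681b00162823000114990012242300001251002c582b00372d130000000000003ea10015151b00005f110015670b00000000001a722b00073e230000673100006741000fcf030000f4b90000000000137f1b00000841000064910025b003000011c100011811004682130000d161000000000040230b000fc2130000000000263d3b0000000000023219000236590000b6210001af1900263d0300000000000a252b0001a7f100000000000a2513000a250b000a25030001d4610001b3a900000000000fbc0b000000000048de13001a601b00015cb1003c23330007382300009d4100073813000086790055780b00545d1300284633000e1b23002c6f2b00000000000067b9000000000019393300007c410011482b00002f6100287f0300002c510047e41b00079e0b0000b9a10001b13100020b110008572b00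000000000031710000033900002e3100002b31000156d90007592b000fbf1b0007591b000759130007590b00075903000000000017da2b0017da23000144b10017da130017da0b0017da0300017529002f7533004c7023000d7c0300009279002dd40300002e290000ad7100013cc900000000001e940b00007621000fe523001684030010f60b00016f91000024d100110423001a4223000000000000a35100016c99000075c900006ba9004c9913001fc80b000f9a3b000f9a2b000f9a23000f9a1b0021f73300000000000f9a030040453b0028d133000d852b0028d11b0046fb33000d850b00275c230001f8b90000000000421713000f2e1b00003d510041cb1b000f2e030038e81b0007231b00420b1300297f3b00003df100017e8100000000000000000024de2300420b030027590b002757130051813b00018f710000460100000000000cd503000046290001ecd1001ae7330001c2b1000b3e030038ed1b0000cb210000000000140113001ac03b001f40330019a023000d9023000d14030018850b000000000000000000019089002a3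423002a341b00231f2b0017f31b002a340300071c3b000051e100003ed100091e1b0000000000091e0300018bc10038ea330038ea2b0038ea23000170290038ea0b0009a81b0022842b000000000001a74100003f81000000000038cf1b0009a9130038cf030000e5210023a72b00267e1b0023a71b0023a713000148a90023a7030001e1210001dea1004a0703000198b1001509130001d9890000000000014eb10000eec100002d810000a1c1000070d9000030510000bcf900004eb900014d710024632b0000000000009c11000181f9000000000007132b005578030007131b0010e92b0008540b00419b1b0002239900012e11000070a9003b6a1300426e130017bd3b000000000017bd230017bd1b0038bc330017bd0b0017bd030029bc230024fa3b000710130007100300002c91003c4733004515130007321300002271003af813002c840b003767230000a43100410d33000147e10025ae0b002c83130023a50300070b2300070b1b0000e5710001a2d100070b0300000000000024290023532300382c3b0001d3e10047190b00018c51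0039433b00070933001d892b00002bc900002c2900002c6900002ab10007083b0007750300001c5100002dc90007080b0007080300000000000046e100003ad100003a210012d32b0000000000002d210007042b001b4a13000003a100012a2100016651000dae3300171e0300002d51002f0f2b00008d51000062d10027e91300427f3b000030710000681100006ac10037672b002b9c330016502b003fbd1b000812130008120b0019ee3b0019ee2b001ce21b0019ee1b00451d330019ee0b00405b1b000143510018cd2b001b541b0006fd13001b5403000030110000000000470233000067c1002ddb2b00002151000098d90006fa1b0006fa03001e6d3b00017a490000a109000017b10000843900002d110006ff1b0039fe3300016619000009e10036f2230006ff030000748100006ee900012c21000b733b00471f3300000000000b731b000b750b004db433000b7303000000000020283300015b69000228310000000000000000000115e100418b3b00000000001cf72b001cf723001cf713001cf70b001cf70300128f1300209613000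1c23900021ce9004cbb1b000164b10001a8b1000fcd3b000fcd3300448c2b000000000000000000000000000232c90032353b00000000000234d9000000000032351300022f690002299100000000000e643b000000000000000000022a19000229f900023241003c871b00135233000232790006eb2300022f81001352130013520b004c1b3b00070b33000000000001fc59000000000001d2f1000000000047243b00351d2b00351d23001b221b001b320b00351d0b0000f3d9000106410019882b001988230022d833001988130019880b001988030001b4f900022f19000066a1000180e100000000000003110046590b000109d90038800b00002381002444030009193b00002d9100006fd10046982b00000000000004d9002ab43b000e0a0b00008d7900002e11001a541b000000000017982b0000000000002e09000000000017980b0006e33b000072b10000324100002e41001a5f0b0020e30b0000000000465923002cac2300009bb90000000000465903005310130043392b000184d1001adb3b00073e130043390b00073e03000d11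3b0000fe2100006f91000070890052bf330008a32b0001c4490020062b000000000044b70b003d201300000051002c573b000000000001b9810048893b000085c10000058100017001000085d1000085b10006dd3b0000ecf10006dd2300114c23000078a100000081000000000019a32b000144a900372a1b002444230025fb130001a60100085f2b002430130000b1d10000e67100085f0b000b1f230000000000000000002bba23002bba1b002bba13002bba0b0000000000015a7900000000003c3d1300002da90000a1b9000000000010512b0000000000018e490000a0d100377f3300092d1300092d0b0018922b0034043b000153a90051e91300001fd90000775100007761000027410001805100217733000000000027ad0b0000000000006b790000a4310000000000000000000000000001e74100014b21004c33030026ee0b0006d3130006d30b0026ec1b0006d233000e0d130006d21b0007081b0006d20b000060090000000000016ff1000fcb030000000000002db100002ac9000144d1000018690000000000000000000000000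02bda1b0000000000017921001ae013000085e9001ede0b0028870b003c490b0000a5e100004e61002a923b0000000000022a210041a81b002103130021030b0000000000015fe900263d13000000000000000000093923001d681300000b09000f102b002dd813001979130000406900000079000f8313002d7e230001b4010054be330008bc0b00005d6100113e030006d61300000011001e221300323033000066b100000000000000000000778900000000000000000000f17100002869000000000006d60b0000ae7900477633000000000013c8130049200300127c3b000000000000000000000000000039f10000363100001ea10006bf130006bb230006bb1b00000000004ed00b0000000000000000000000000000000000000000000aff2b0000000000003b31000000000012dd0b0006b8030006b73b0012e433003eb32b000039d9003b6d330000000000000f290006b63b0012d23300000f21000039c100008ae90006b60b000000000006b52b000b032300099f1b000b031300099f030006b4230039bb330000fec10006b3230033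8c3b000000000023481300003b41000000000006be23000000000006b20b00003ac9000050e1000000000025181b000000000000000000003be10000000000000000000000000000000000000000000000000012d90b00097b1b0006af130006af0b00002c310006a93b000bde2b000bde23000bde1b000bde13000abf03000bde03000000000006a7330012eb0300003b1100001c510006a70300000a3100000000000046c100002c710025572b0012d5030006ac130006ac0b0006aa1b0006aa0300003181000b111b0006a113000b11030006a02b0006a00b00001c5900069f1300069f0b0006ab0300069e1300069d3b002193330000000000000a31000000000000000000069b2b000089d100008789000087a100003dc900069a3b0014991b001499030006982b000698230006981b00107f3300069803000027d1000039b10000352100068e0300000000000e683300115b3b000000000001f4690041cb030038451b0000000000115b03004f02030006eb1b00420b0b000000000000000000002e990001e8510038d23b001365330001fd2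100136523000deb33000000000020cb1b000200c9000000000013f62b0028b11b0020cb030000000000000000000000000048983300013381000220b10001ea710020cb0b000000000006852b002d710b0036a90b0001e8d10001ea110006843b000000000000000000000000000000000000000000000000000000000012e01b004eb62b000ceb0b000ceb030006823b000000000000401100091f1b00003ec100091f03001c212b000b1e13000ce92b0047ab2b000ce9130016291b0006b51b000c693b00018da10001ffd900089c230006b50300089c13000000000000000000003e0100000000000035310012d61b0010513b0019342300015f9100000000001051130010510b0010510300000000002cfd2b0001da210049cd1b000112e1002cfd0b0042ee030000000000016369000000000000329900014c51002c233300000a7100072a130000c1d1001d2d130000411100000b0100002fb100003339000030210001ec11000b4d1b00002fa1001ce203004ca33300002f99004cd21b0006773b0045113300409d230006762b0037801b00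067613000a7c230006752b00067513001d05130000000000000000000f602b00072b2b0006e313000e0a1300464f1b003c2a3300072713000025110000000000007369003d543b003d54330006722b00002aa900013ca1000677130000000000000000000083b90023a4230007292b00512c330001f4b100004fd90018071b0038b03300181b0b0051bd130001e3510001da6900337223001568130012a9130012a90b0049f81b00066d3b0000000000001a3100066d1b002d2713000021c90026880b00000000001fc01300001c1100230923001bcb33000000000011f8030011ea1b00081d3b00081d2b0017762b00081d1b00004b8900081d0b00081d03000c4a33000c372b0029ca230014181b00141813001d2e1300141803000016b100000000001bc1230041da230013610b00000000000a7723000a772b0006643b0006642b00066423000051810000017100006621000663130006630b00066303001dcd2b00081d13000d7a0b000066f10051633b00002cf100005f09000029e10000000000000d310000000000000000000008c100000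8a9000728230007281b00065a03000659030000000000000000000000000006552b0006551b0006550b0006542b003a1d13000cd53b00004de1000cd52b000cd51b0001f2b9000000000041491300065133003e151b0017873b0041540b00065103003a771b0006cd3300000091002d6d1300429a03000d810b000650030000420100064f0300399a1b0000aec90038582b0001b4790024b33b003c63130001e0290001cd21004ebb1300003d310001c33100064d1b00429a1b00064d03003b21330001f1490001cd110039b81b0028f61b0001e1d90001e78100064b2b0022ed1300064b0b00000000000211310032a9230032a91b0009810b002cb00b001cf1130006493b0006492300003551000035410007663b003913130007662b00211703000766130007660b004ecd1b00115c0b000969330012d92b000969230012d91b000969130009690b0006463b0000000000064623000035010000000000000000000000000001ba490053351300000000000000000006442b0000007100000000000035110027193b000ac0330000b7d100271b2b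0011421b00000c8100270023000105910000000000002af9000000000017870300002b4100011c0900003de10000402100064123000641030006403b0006402b00003451001ffe1b0006401300006d610001e2290010db33002d7a2b00384103000051e9002d7a13000004e900096a3b00096a2b0000f99900323e1300096a1300096a0b004be1230001561900000000001eea030046471b00017e010007eb030039ad0300004af100063c0b00063b3b00185f2300063b2300063b1b00069f330020752300191b3b0009b02b000000000006750300001c590025ce2300002ad100002ba10009591b0001625900227e23000ac60b00005f710007090b00005fb10006362b0006352b00014ec10009673b000d131300018ec100014c3100014af1002cc60b000085390007343b0018a5330007342300234203002470130023480b0023411b0011fc130029163b00018f21002e6723002e671b0013200b0001c9b1000053a1002857130001d88100019251001be713000000000000cae10050733b000c13130047f80b0001d3c10050ff1b000e7b13000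e7b0b001eea3b001eea33000094b9001eea23001eea1b002e6613000000000006e63b0006e62b0006e6230006e61b0006e6130006e60b0006e60300017751001d961b00062c030037763b00015b110037762b0037761b003776130037760b00008b110001ae6900097a3300092013002f0d23000980030012e30300097f1b0000e75100000000000cc82b000cc823000cc813000cc80b0009561b00489f3b000179610017902b0017902300012899001790130017900b0006272b003da933000000000006261b0000000000062513004eb93b0006243b000000000006a11b00493c0b000000000006a103000000000006232b00000000000dad3300000000000000000000000000000000000620230006a40b0018f5030000000000000000000000000000e631004bdd1b000224b1001a62330024c82b001a62230043721b0050890b0046af130000000000003a710022782b004334130043340b0000000000061b2b0000538900002c11001a5e2b00003b010000a3510001fc91001f8013001a5d23001a5d1b001a5d030007093b0007092b003b6d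1b0007091b000709130000ee6900470213000177810023da2b00000000000000000001c121000000000022b82300004fd100000000000fd52b000fd51b00001d79000fd50b000000000001a7810007693300166823000000000012e52b0016680b00166803003a3d3b00014c9100000000001cde2b003767130037670b00018b310027d7330009db2b0013c613000e343b0009392b001cf51b0009391b000187110009390b00093903004c623300000000001719230037651b000a35130000000000407f130001aaa9002951330022c513004c00030024231300003cb9002423030054753b0021c40b00005de10024241b0006b3330024240b002424030000000000014aa900493c23003762230037621b00376203000193c100004c310000000000000000003a071b0037610b0027d71b00172f3b00014a510006e32b0006e3230027d70300062b030006e30b004ece13000982230049583b00005fa1000afb0300003a01004ec20b004ec11300069f03000000710006080b000608030006073b000607330006072b00060723000abf33004ca3030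006063b000735330006062b0012e403003d93330006060b00003af900060a130006052b0006052300076603001a5e0b0009691b000dc233000dc22b000dc223000dc21b0001a8f1000dc20b000dc203003af83b003af833003af82b003af81b00000000003af80b00000000001fe93b001c7c0300017ba1001fe91b001fe913001fe90b001fe90300247c3b0001a45100247c2b00247c2300247c1b00247c0b000ada13000e063b000e0633000e062b0019aa0b00000000000e060b000000000007383b000738330007382b0030592b0007381b000000000007380b000f9b3b000f9b2b000f9b23000f9b1b000f9b13000f9b0b000f9b030034223b0001f4510034222b0034221b000086890050f10b000195110001e6a10000d99100298a2b0001de3100298a13000147510036053b00008181001fa93b001fa933000003c1001fa9230054db0b0001aa91001fa90300000000000000000048851b00000000000000000001b87100000000001ba63b001ba623001ba61b0005f40b001ba6030005f32b0039fe3b00000000004d402b004af11b0001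dbc1000000000039fe030008613b00086133000c542b000861230008611b00086113000861030023d13b00000000000d0a230023d11b0000000000000000000000000000000000000000003fbd230000000000000000003fbd0b003fbd0300518a330005ec1b000794130000ab410001a6b10030953b00004e1100220c130005eb1b002f7d0300000000001840330001d279001bd4230005e91b000da73b000da72b000da723000da71b000da7130001b751000da7030001f8090017012b001701230017011b001701130017010b00170103000074610047fb330047f82b0047f8030000000000000000000000000001c781000000000001d7310032dd23002cf3130000000000339c3b00339c2b00020fb100339c1b0000000000339c0b00000000003b153b0001f1b10008c4230008c41b0001e201003b150b0001d9110001ad090016252b0001d7910001c8210005e31b001eb13b00079b3300079b2b0001ec4900079b1300079b0b00079b0300000000000b623b000b622b00000000000b621b000b6213000b620b000b62030001c4b10000000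0003aed230001d2a1003aed13003aed0b0030fe03000b403b000b4033000b402b000b401b000b4013000b400b000b40030006d33b00000000003f30230001dad10001ddb900161c1b0006d30300161a23003f583b000eb00b000166b90001cb71000ac11b0005e913000174b1000e6e1b002fca0b000e6e03000000000001abe1001c9d23001c9d1b001c9d13001c9d0b001c9d030017f33b000184c90017f32b000000000017f3130017f30b0017f30300018a810000000000000000000fe51b0050d71b0047371300017ac1000177190000e6a100102a3300102a2b00102a2300102a1300102a0b00102a0300019d4100259c3300259c2b000000000008623b00259c1300259c0b000184b100265e230006dd2b0019341b0006dd1b000073e90006dd030007d0330007d02b000231a1000218510007d0130007d00b000000000000000000019bb100006e410013611b000000000001b1b100136103000f662b004c7d330027ad230027ad1b0027ad13000f85130027ad030000000000000000000239990053d933001fe62b00000000001fe61300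1fe60b001fe6030019a03b000173210019a02b00297a1b0019a01b000000000019a00b001a1e3b00021e1900000000001893230000000000096a2300535e33002af00b00446a13000177410001a891000000000017760b000194f1001aa3330015a92b001aa32300000000001aa31300357b230002346100019d39000169d1000081e1000e0a030011ca0b004b15130025b0230000000000000000000000000020250b000000000011480300004119000c910b00087a0b000087510005c0130005c00b001a173b0000000000000000004eaa03000000000000871900000000000000000010db0300000000003bc21b00000000000d972b00000000000cbb330022b603004b02230000dd89000cbb13000000000001a8490005bc3b00004339000886230005bc130005bc0b0011970b0000000000000000001ac61b00006961001ac60b001ac6030000000000011a89000073b9001f2b1b000000000000000000005ed10005b92300016ba900000000000016410027ff1b0000786100007cb9000f8c0b0020252b00000000000199b10000000000000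000002025030025b8330000000000000000002af0030025b8130001f9290025b8030000000000406d33000032d9000032b1004c9d0b000000000032102b0027d31b0033ad1300019f29003b6c1b0052cf3b0035fa2b00004681000000000046f733000200e1000171590006eb330000000000000000000000000006eb130006eb0b0006eb03000ff9230001b72100003cd100000000004eb3230000000000008d4100196c0b00259f3300009c39000000000013361300285c0b0000000000000000003bef13000060e100063b2b00185f1300185f0b003ccc13000b223b00008411000036f900000000001de82b003ccc0b003c3d2b000154c1003ced2b003ced230046862300000000003ced0b003ced03000d713300018751000d71230025e21b000d7113000d710b002d9d0b000204e100293433000b681b0005b91b00183b1300183b0b0005b90300000a390005b9130050d31b000011790005a4230005a4130005a40b0005ac0b004ef91b0015500300007d6100007829000082510005b90b00008c790000000000018171000209b100000000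00000000000207a90000000000357213001d073b00013a71004ffa03004b1a13004b1a0b00205a2b0021380b0001748900014b3900345213000fa81b004b6b0b004b6b03003e222b0000000000000000001787230017871b0017870b00000000003c0e3b00014379001ff52b00011ae1001e9c03001ff50b0016fd230000000000000000001f111b0000000000010df900000000000000000010253b000000000000000000179d2300179d1b000134d900179d0300059b1b0015141b0001705100014d310000000000016b71001ce213001ce20b000000000051fb3b000000000000000000114c1b00114c1300114c0b00114c030009a83b000116110009a82b0009a823002196130009a80b0009a80300017c2100000000001e9c2b00000000001e9c1300006db1001cde0b002f931300175c3b00175c2b00175c2300175c1b000118b100175c0b00175c030005931b000000000007d01b0020e3130000d7b1003a0723000000000048de330000000000178e1b0000b4f100008c61000000000000976900178e3b0050e0130005bc2b000000000005900b00009bd100058f3b002e63130000309900058f1b00058f1300058f0b0000000000000000000068d9000000000000000000000000000111410000ed8100058d03000b5733000b572b000a000300522133000b5713000b570b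
def m_5 : ℕ := 0x311b62c99246404236c0000bff80446d8b2745b90008db164f9b360311b22cb517b2082361e25e0e081c46b800017fc8308d70489ab060511ae2cf7187c08235c5a166f480c46b800017fa8108d7167ca8d90111ae2cfb0f22062355f31a52680446ab462c0a80308d468c6a3210311a8e20d5f860423520bf66ef00446a417c49348008d432ebafc30511a6713753ec06234e2322441c004699c4f54f90388d2333f80080611a27ca35e500a23460bfe6f2c10468997257dc8188d1389aaa000211a066450286042334773e00e8044668ee6c47d8388cb1e55999f0611964067041a0a232c523a39d00c4658b8e4a388108cb203495bb0111962d17164a00232c59da2d681c46514a5c17b8308ca303f830d0411942f1b0f22062328cb3648ec08465196743188088ca32cf81de001194376d377e002324cb86bed818463901b42840288c7203cab5c04118e406f378606231c0000a7c808463901c4b078088c720398207031188f129070a0023105a1217a81c461baa3d5b38308c332e8a3210411862afd2d7606230da91a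096408461998e46380088c332ea926900118665d304b20a2308cc86a7d814460c430483f8208c1695c8b3d021182d2bb1676022306231a442800460b4afc59c8388c006ec81a106118065c55e500a2300cb8e6f2c104600c58c1e68188c032e5aa00021180662b02e6002300cb42a7ec1c45f800017da8288bf426582cb04117e84cd2dec0622fd099e92200845fa1344aa28088bf426985a900117e84d508120e22f8f7de7e181845f1effc06f8288be426c848403117c84db5f200422f8f7ee7e080445f1efe4fc08008be3dfd9f8007117a3b05284a0c22f4e872285c1045e800017d28188bd42718aab02117a5e9714440222f5e3eea5180045e97a24b3a0388bc44659aa006117888cd1ebe0a22f1d732a6e41045e2233cd478088bc4469a58000117888d51b1a0e22ed62c658c81845da13a41b78288bb4275824d04117684ed08780422ed09de0d680445da13c40e10008bb4279836a07117484f506940c22e8ab3606b41445d213dc6678208ba3dfa9f8303117484fb04380422e8d6da460c0445d000017c68388b9428098c60611728503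457e0a22e5d74658c41045ca141c5bc8188b942849f50021172854308640022e4fa3a55840845c0c1f4af38388b762f28f1406116e2ed529680a22dc634e57a81045b8f2b45b18188b7196292af01116e33ef59860022dc6d0e55a01045b0bb842f58388b51ac69f2c06116a358f0afa0a22d469721eac1045a8d674dc00188b51ac8886302116a6ccb2bd40022d46b2618cc1c45a1151c3978288b400002f740411680f2d3a260622d08936aaa00845a000017b88088b400002f70001168423f0fa40c22ccacba35a01445985ccd7560208b32b2fa455031166b43712060422ccacc233d40445986c654920008b300002f680711643a211a740c22c9545a4588144593f59c3a20188b2245995b3021164fd6157800222c9fac6908c004593efacfd28388b112ae84ac06116207f355a40a22c6301a21fc10458c143d3db8188b182ada630011162ff513f0e0022c5ff3e9df41c458064e4a740308b04f81a29305116000005eae0822c1fa2a1d10084583dfbcd4d0088b07d31a5ef0011608ded3eb20e22bcd1aeb08818457ad16c8818288af7a85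acca04115efcfd07c40622bdeffa97d408457800017a68088af7e0eadd307115cbac70a8e0c22b80000bd2814457158c49d50208ae3a588fa303115cff613f2c0422ba0a2698cc004573fd54fc48388ac0a95ae85051158138920de0822b04c0e40e00c456153b53a58108ac663baf1f0111582ea915020022b09d4a4ff018455912ad6f48288ab08079d6b04115612150aca0622ac0000bce8084559955c1930088ab32a99dc200115600005e6e0e22a8843a880c184553495494d8288aa00002f34031155081306560422a80000bcc804455366846758008aa81c39368071152e7374f9c0c22a4ae3e4a6410454c3474d230188a98080855f021153180f10f40222a63022a20400454bf64d3fe8388a809a2888c061150428b2ea40a22a1b01a365c10454420249430108a800002f24011150688b3eb80a229e30564a2008453c90ac1838388a63e4d98e806114c2ea715020a229a07561fe81045333acca6e8208a52b928cf903114afe89503a0c22900000bc681445205afceb70208a4070ea201031148ba470eee0422900000bc58044520404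d07a0008a4084589bb0711469a5912b40c228d345a256414451bee2d3010188a37d5097970211469b9b007802228dfc166ab400451a86dc3150388a222808bff061144565720c6082288fd2aa9240c4513f7e493d0108a23f4baa48011144ba1733780022894d86404014450c0dc545d8188a18bff9277001143182d250c0e22800000bc0818450349dc5580288a0675494eb041140fe17355a042281fc1a227c044503f8444530008a081c9882007113ed91548960c227d98ba15bc1444fa04bceda82089f537b9d4803113efe0f114004227d12ae0eb80444fa252c16302089e628d968703113cc5115d980422798a2615ec0044f3145576503089d087f96e605113a11013e5e0822742bbeb8880c44e8447447881089d00002eec01113a110511fc0022740000bba81c44e26c8525302889c87d2acaf02113901172f0e022271365292801c44d9c3748a303089b00002ee404113700b74f7606226df1ce6b940844dadfdc8ef80889b81fd855c00113700c1490e0e2269d6ae2d5c1844d0000176e82889a5bbda00304113400005db6062269feb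ab18c0444d4604c2be00089a357aa24a0711321f5b24c80c22648a8652a41444cc51a49c68208992f9d9bdf02113318150b10022266302e15d40044cc60642be83889800002ed0061130c50f02d60a2260ae824a701044c3f57cb4381889800002ecc021131181b0af60022600000bb281c44b98f7423702889731ef859404112e63e10ab206225cc52225080844b98fb4ea000889731f2ae4000112e63e7209e0e22595d12b9001844b000017608288965eb797b903112cbf4330dc0422596646b7780444b0000175e80089653a39d1007112a71f923a40c2254f53a3e941044ab28a463581889500002eb802112a00005d6e022255d5aa7e500044ab28aced083889460c18cdd0611284d9136240a225186b6b8d01044a21dccbc2818894492289520111285027562a00225184e67e901c449c3b645f383089300002eac051126cc871c1c08224c0000baa808449b323562880889366448a6c00112680cd524a0e2248d9b20f34184490000175282889258baa01a041124bf573e340622498166540c084492c11c8e10088925e9a9a590711227bb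55af60c22459472126014448b28ecca98208913f19876f031122ca3f0e00042245948260e000448b290ccab03089009968343051120132f59f808224026620e700c44804ccc1fd810890099a88350111201337106a002240267255e81c4470413c4fa83088e0828884b04111c1053570206223820aa92e4084470417574280888e082bae7000111c105911e40e22342c2233ec18446b85dca7902888d0b0b918604111ac3a53b8206223426aa5430044468000174280088d00002e84071118133b11800c2230267a22a0144460390c4c802088c00002e8002111800005cfe0222300000b9f800446040e525c83888b0a078dcb061116148d2dae0a222c0000b9e8104458000173c81888b0a0988f202111600005cee02222c0000b9d81c4450e48507803088a1c9182530511140ed91a5a082228724a7cb00c4450e49cb6581088a00002e7000111400005cde0e2224ce86335c14444a093c68f8208894128834403111282531a5204222507920f6c04444a095415280088941d2880c0311107b610c62002220f6c618b814443b797464b0108876ed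f8c9401110eddc9192600221dbb8e297c1c44296a1d4498308852266910205110af3ef22ee0422160326808804442a5cfcd9d0008858adea7050711083b8f4e0a0c2210bbf6686c144423b4ad0860208846c3f9e8203110901994046042211ee32a338044423dc84eb983888300002e540511060e5b297c08220c37be33d40c4418000172881088300002e50011106226d045000220c0000b93818441061144f80288822b23a0320411045649527c062208acaa228808441000017248088822b2699f7001104564f0f6c0e2205566e61b81844080001722820881575d97cb031102c7af05a0042206101e498c04440c1ffc93180088100002e400711009f3547f00c22009b0e7630144404202c19a02088081b69a28031100f61b290802220206de1d1800440378a45c383887f00002e380610fe423911ce0a21fdf99643980843fc0424f6500887f60b290f80010fe8a6f527c0e21f9753e7a041843f0492c48582887e7eb99f890410fcfd79599c0621fa04de7b2c0843f3fa9c2dc00887e7ebe96870510fb080511420421f607061d941c43e000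0171482887c51579c660410f8a4514b420621f145624ae80843e2d89540480887c25c49c4a0010f8cc1152360c21ec0000b8881443dac7cd2ba82087b5f108c9a0310f6be2357640421ed7c4aaf9c0443daf89c82280087b5f14a4250510f4936f01800421ea30063ef40443d3ea4508c80087a80789f1a0710f2813527160c21e4e81210041043cbad0c7fc818879548a9ccd0210f2fceb2cb40221e54ee672c40043caa3ece31838878779390550610f07cb716ba0a21e1fa2e15801043c251c450c0188788153965a0010f0ceaf29c00e21d8e7820f701443b075c515602087600002e080310ec71f53cbe0421d99d2a53d80443b082fc1e500087600002e040610ea448514ba0a21d458ae6e181043a9121c3a401887587f994170210ea44892ad00221d47c1e2d0c0043ac3fbca46038874667b842f0610e8759b1a200a21d1fbba75ec0c43a33a1c3d80108744a74a7340110e8d9e9199c0021d00000b7d81c439b01b4c360308735abdabf00410e714af23f20621cdf94e446008439c5f7c4230088734a79a7280010e6f39d315c0e21c89c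2a5f10144391385c8b102087274b7ade80310e44e1906100421c80000b7a804439000016f480087200002de80610e200005bce0a21c40000b79810438ac15493181887166258bed0210e2b057226c0221c560b2162400438ac16d1d00188708094ac4b0010e1012b58900e21bd5da65bec18437942b40c102086f00002ddc0310deb8a306260421bd86322e3004437c02ed24500086f51c5938a0710dc902b36880c21b9205a6d0c14437240bcda102086e4b9d80c10310dc903136820021b980be338014436c0a7405701086c1d3384eb0110d83a6b09020e21ac1182aa2018435866146ee02886b0cc394780310d622db54c60421ac331258800443585f744fc00086b116f8f3b0610d49505116e0621a9a862b3940843543aec7bd80886a875e9fc00010d4662759ca0e21a464da51ec18434800016e0828869875f9f5e0410d22097101a0621a61d82329c04434c3b0d1fb0008691c7487760710d10ed3009a0e219835fa097018433056c4290828866887592580410cc24f917ee06219835fe48340843343b146550008660d8098080210c835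a130f60e218c5446373818431800016d882086300002db00310c62a2b105e04218da91e7f1804431a2854a938008631512882f0710c4505542d80c21899696697814431306b52c4820862511889700310c44daf34f6022188dd1a99b4004311291ce10838861868988460610c238912b660a218466a68830104308e24c5908108611c4a9bfa0010c2527b37dc082180a54248ec0c43014a4c06302885f370189790410be5b154bc804217d983635c40842ec90441af02085c920982dc0310b924150e5004216e45b219741c42d0203470282885a032182210410b400005b260621680000b6480842d2687c49800885a034e9d170010b400005b1e0c216468969fe01442ca9964f4f820859532d921b0310b2dc4709ce0421654cba43dc0442ca10e48d2800859533088130710b0bd7f19320c21617cb63de01042c2bceca710188585ec690ff0210b118630b780221600000b6080042c380945a88288578c32855a0110af155f4f3404215a30ce22141c42a9a6fc10103085516fe961d0510aa77f951180821562f2218fc0c42a800016bc81085518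82a1b20110aaad853d0c0a21522a869c040842a4551537f0008548aa5812b0710a6509d20620a214c0000b5c81042996edc13681885385b88bc50210a6a18d124402214e0d8a8db40042996c3c5e50308521b9399e50510a498113f3608214a20261c640c4294407c4d801085200002d680110a498150a94002149b61eb4641c428a142c40f8308513f019db90510a26825424006214630ea1d9808428c19b4b3f8088517bbd9db30010a2fe91353a0e213e23b64b5418427967d44e302884f8ac7931604109f18770e8c04213cbf8e7a9004427c530d1d303884e483f821706109ce8f953c40a2139e74a62c0104273c99d4d981084e4c68904c01109c00005aa60e2134d71a80d014426bca849fe02084d1cca8fbe03109a6b8f0e3e042135b1fe6988044268600526e80084d2cd8980a0610983f1f32080a213141e237ec1042628f3cb7881884c6da582f6021098a0f354860221300000b51800426440ec4d883884b082d888e061096465b319c0a212c0000b5080c425800016a081084b8223a7aa011096db51175600212e103eadf81c424c5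cec3520288498873abda041093065f51580421260e129f8004424c0b64d2483884867ff830e06109030e5163e0a2121a7d22ef8104241dbcce788108483f88877d011091059107d208211db91e300008423b72445ff0388466e728bf406108d0d1110c20a211a090e3e7c0c42345f844398108466f288bf001108d0fb5271000211a2f4e0aac1c422b7eac0278208456fd7804c03108b0f530cda042115bf66012804422c3d6538000084587b68afd021088000004ee0c210d32ca09b414421800001360188430000026b0210869fd704d402210c00003a4c08421445d43520308414ec38266051083115b0d6e082104000009900c420a762413180884188ae82f607107ed51b1d4e0a20fe22be2be01041fb547475301883f88b0827402107ed5211d480220fc00003a8c1441f4458c35b01883e6da689b102107d11650e0a0020f9a74226b81841e8e2c475782883d143d85f904107a38ab1ed20620f450fa57ac0841e8a74462580883d14d1900b00107a2e1f257e0420f0868e03080441e10d0cdad80883b17c58d37071074138749720c20e92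6d659201441d0be341e802083a361c8e1303107437c936920220e8729217740041d0f8ac33e83883904a187dc0610722483384e0a20e45f222b9c1041c8a0ec96301083914268e74011072307f22180020e45f2640281041c0be843c70308371caa85e702106e394f0bc80e20d8c2ae2e241441b291644c9820836522d855003106c000059de0420da19222f600441b2918486f8008364417955806106a661f116e0a20d5a85a2fd41041a882dd2610188356a17ac9e02106a66231ef60220d4cc4a7f000041a99884977838834414b834906106834b1085a0a20d1e982ad340c41a4454440f81083480c186e301106901854fae0020d1b82e08441c4198fbd4e0e03083343e68bd1051066dc0d1b480820cdf9664e4c0c419922e4ad800883389db912c00106687ed2b1e0020ca287262041c418c2ff564f0308316b02a422041062feef2d540620c61f0aad9c08418bdebcd308088317f1fa88e061060dbf917fc0a20c19d7e540c104183709462381883067609502021060dc0704b60020c19d8a53fc1c4179f8f516502882f1983a71004105e3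0e3444a0620bcfc7e18cc084178a8a566200882f1513886300105e2f33369e0c20b831d22948144170000166082082e08bc9c3503105c0000597e0420b8ba5a26ec044170000165e80082e0a10a9fe07105a738108000c20b40000b2e810416c1c4c7e401882d6856ac2202105a0000596e0220b61f42b2c800416c07c420683882c13c68909061058000059660a20b00000b2c81041636d0c12701882c51f4864a0110589b2349480020b1445a150c08415c607428e83882a5248826306105471670f560a20a9e6aa80280c4150000165481082a30ba9d700110550c07308a0e20a44f1624281841495c8c0b6028829406d877c041052dbdf19f20620a5bc82372c08414800016508008296c0a8df507105108fb25ee0a20a13afe4bbc1041419b1ca6901882886648aae0210510ccb04a20220a2199a8f78004144333d1f3028827885290a203104f108b05c800209db6b64bb01c4131e21d0888308262533993b05104d063730d2062099b6ba36640841342165210008826828da46a00104d1ffd0646062096458e021008412800008f90088250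00011f100104a000023e00e2090e9a60eb8184122209480c0288248c3c863a041048a2831eb00620920bb60fa00041240bc4d218188239008870e00104720150e180e2088313a770c144110846c0d50208222ffa878503104461bb02fe042088414a7d98044110d3d4b9a000822262998f9061042430909da0a20844e3232ac10410881a47bd8188216a4390b302104243052d1e0220844e462ab800410b5224861038820549584fa051040d4b717520620822bf2654c0841040e5445300882081c888a00010408a3700e80e207c0000b1b81840fa1e1c42882081f3bcf847503103f0ef7315204207e22aa20d00440fa7c1514900081f7f03960e07103c4af34da80c2079001e9e001440f3fd04c9282081e8a2c924a02103c7fed1f52022079e82ead401c40eb2c84cda83081d3c15810b05103b022107b6082074f03e90d80840ec087562e00881d810d939c071038dc9317da0a2071b92a2fac1040e3725c5f501881b4e5280a20210369ca7014200206d395200100c40d272acb730388194e5696e20610329caf2dc20a206628ea1d180c40ca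72ccb6f8108198a7283620110329cb72dba002066091690841c40c2bbe562402081880978164031030fcdb3e4004206139825b5c0440c44f4d07e80081853829d4105102f15e1273a08205e2bda023c0c40bc578c9ce0008178af4939907102cd5cb18a40a2059788278641040b41e5c8f58108167370a10001102cf4013332002059b9322fa41c40ab2c9c8b00288158107840d04102b0215315a062055b93a2f9c0840ab1cb482e008815809c8fca0710280000586e0a205091b2a1cc1040a0000161a81881464278328021028c851334002205190a662440040a321c4fc80388135d5e98c506102688472a8806204d90ca9ba808409b2b545dc80881353d18859001026d09d2248042049c4326aa4044093af34cab03881121a89f2f061022d0a33ae20a20457d06807c10408b429c3b901881163b59066011022d0ab081c0020440000b0881c40843c345e983880e604b80a905101cc0892efc082039a1625c740c407342ccb0701080e685a840d00101cd0b718e60c203443621340144068824c43482080d10d98ddd03101a1ef338fe042034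436a2f1404406886dcc7700080d0dd5a440071018844b2d760c20300000b048144062113429f81880c42469016021018844f2c6402203108a23d64004062114c7a583880b23568e0306101650811be408202d08aa31e00c405a115c61001080b4245901601101684593d6a00202d08b60fbc184053340412d00080a45059a510710126ecb1e880a202508be2700104049bb3c7a100880942319d0c001012846515740e20200000aff818404089fc541028808423383e70410105f6f09d606202108d29f4c08404211ac90d0088084236922104100e846f07ce06201d08e21f9408403a11ccd2803880630da891405100c933509100820180000afc80c4032512c5cd81080649e08cc001100c9339056c0020192676684c144029a3bd161018805637a8b5a00100a4311534a04201221c20bdc1c401c2dcc0fb8308033e60a064051006b277544e08200e0c9244a0084018f51cdd58088033f4d87b600100706453bd80e20080000af88184011720c5e0028802831f9866031005060f311a04200a0c4e0f680440141904ef6838801460c9a5a061002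686d43f806200541ca08b808400c7fccd7201880000000b26001000dd030090081ffc7b8e790c0c3ffb46547ed8007ff1ee1a9d4070ffc000057a60c1ff945723238103ff34c945c40187fe6a3d8c7c020ffcfe633150021ff9139a5e10003ff25b2d3908387fd38fe9800060ffad1cf24de0a1ff5ec465200103feb3be41d00187fd7e1da5ea010ffb03b3484a001ff4aa72a2c01c3fe4147c1758307fc298995a4050ff905210572081ff200d25f3c083fe3ffccbe48087fc43f59590000ff90523484c0e1fecb8868150183fd9b04c5018287fb7c3ba7cf030ff703b74846041fecd84a1b68043fda35050ab8387fa73f4905d060ff41dd348aa0a1fe9a8522e04103fd40e944530187fa81d3ab71020ff503a94848001fe966e67ca01c3fca095c6268287f9412c8986040ff2825b1998061fe504ee31cc083fca09749b48087f9412f9d5e000ff283cb081c0c1fe10ffa5614143fc3208d0878207f85c4b91bc030ff088172044041fe190520a98043fc320ac3310007f86416935d070feef22146a80c1fdcdd567334143fbc014cebd0187f7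836fa36a020feef70b4f08021fdd3cbe4f4c003fbaececbc68387f63ccf8700060fecbcb53340081fd9ffca0c840c3fb2c49488f8107f6803b9ab3010fecf8013d9e001fd952267188143fac026c0548387f41f978451060fe8876719c40a1fd1ecf668bc103fa3d9c4b920387f22d16a964050fe46c893d6a081fc8d91653800c3f91b2346788107f267a89239010fe4646b2482001fc8d926338c183f884f3c9498287f113e094b0040fe2288d1a5c061fc4577aa6fc083f8800015c28087f10be28789000fe233193fae0e1fc00000ae08183f8000015c08287f0800e9ad5030fe08a272a30041fc1b6a62eb0043f8000015be8007f04f8f8c22070fdeae0d3e400c1fbc0000ade8103f7800015bc8187ef570c905a020fde000056ee021fbe2f5a0c74003f7bfcc4ff40387ee86ae90c9060fdc5c1d13200a1fb80000adc8103f72e2548df0107ee53929d2c010fdd029730860e1fb605224738183f685a1cedf0287ed25c29c53040fda83f13404041fb605464870043f6c0aac9118387ec6e4f8be6050fd8dca104b4081fb2400a0af41c3f5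8e1b44c58207eb1a5d97fe030fd6386f0c7a041fac91125724003f58a9251bf8307ea560da3a6050fd4533f4b04081fa85216a7f40c3f5300cc5ec8107ea19389467010fd435e32d76001fa8e2be1e401c3f49384d2cb0307e938408c1f050fd2f391569e061fa4d8329778083f4a0564e578087e953ca9c96070fd0c58b07ac0c1fa0698e6db4103f43cb0cbe18187e84cd28919020fd0636b42d8021fa16a7244e4003f4232741d30387e7139b8374060fcec00b2d820a1f9d2dce321c103f3be0e4f500187e77c1d968d010fce0000568e001f9df07a12441c3f31e64d3fb0307e63c8f9d5e050fcc00005686081f980000ad08083f34025cbb60087e67fec9254070fca5e8341740c1f944da63db8143f2bdecc7bf8207e57e9b85a3030fca70c91274041f95f73259e4003f2afc642a58387e41dec81eb050fc80000566e081f900000acd80c3f20ef7c39b0107e41df28a06010fc83feb18fa001f9077c21b3c1c3f193fd4be38307e327fb992c050fc64ff90e8a061f8c9ff65e64083f193ff42450087e327ff8491000fc650010e820e1f8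8a006980c183f1000015948207e22802867e030fc4500717e8041f88a0128d34043f11402c36c8007e200002b24070fc2500f13080c1f8484de834c143f0940442e68207e120b5a0e2030fc250131a66021f84a02a1ccc003f09405cbe40387e000002b1c060fc0501b066a0a1f80a03a416c103f01407cd528107e02810a93b010fc050232f78001f80a04a81701c3ef8000158a8307df23ba9e36050fbe00005626081f7ca05612840c3ef800015888107df2816889b010fbe502f54220e1f7412062dc0143ee82414a240207dd0483934e030fba09090bf6041f7412166e74043ee824342fc8007dd048793c1060fb8091110720a1f700000ac18103ee024544480187dc048ba1c9020fb8091913f0021f7012366400003ee000015808387db010da4cc060fb6000055fe0a1f6c0000abf80c3ed810250220107db00002afc010fb6048937d4001f6c0000abe81c3ec8247cb5e8307d904909039050fb204952e18081f6412468678083ec824943dc8087d900002af4000fb209270fb00e1f6012520d40183ec024ac0d50287d801d58138040fb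0060d4442061f60125e1f5c083ec024c40a68087d8049987d9070fae05d12e120c1f5c126a35c8143eb824dd10f0207d7049c87d0030fae093b54ac041f5c127a1f60003eb824fcc508107d549bf80dc070fa803110d9e0c1f5007861d00103ea00f147ef8187d4018b84aa020fa803c754e4021f50179a991c003ea00c4c39d8387d300002adc060fa613bf41c80a1f4c04ae9690103e9827d47f08187d309db87c9010fa604852f44001f4c27761ee01c3e92279c6878307d271f39a89050fa4000055a6081f480000ab48083e90999536c8087d2211d88b4000fa407630fa20e1f4432da9344183e8bae752bc0287d100002acc040fa2120b27f0061f44151aa9e8083e8822052e88087d103b287d2060fa0139f1c380a1f4012961f5c0c3e8019550130107d009d287cb000fa005e942b80c1f388e7e84fc143e71754524b8207ce2ea99a59030f9c5d551fc8041f38baae33d8043e717574da20007ce2eac82b4070f9a040d46400c1f358f6a4140143e680fac7f00187cd01f6a662020f9a02c9506a021f340000aad8003e680a7cd760387c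b1d7083c2060f9643672b2e0a1f2c71fa9e78103e5825a53280187cb09d087d0000f960a674ba20e1f28adb6271c183e540f04c900287ca26f7814b040f94000055560e1f240000aaa8183e49060ceb68287c90d4d87bf040f920000554e061f240000aa98003e4800015528287c86f0f8124040f90de210246021f21bfde001c1c3e20842c99b8287c410869783040f88210f1bf6061f1042222da4083e20844c4978087c4108a8b9e000f8821174f820c1f0c3e2a4130143e187c5c9f28207c30f8c82ca030f861b3f34e8041f0c3e3a3e74043e187c8cb8c0007c30f8f8e2d070f8408870d980c1f08111e2eac143e10128d06e0187c204449d13020f840000551e021f08083a4ee4003e1000015468387c1045d8359060f8208bd2d3e081f0407c66ba40c3e0822fd3248107c101cba828010f820000550e001f041186a9841c3e007f2508e8307c00fe58b9e050f8007a106e6081f00095a83780c3e035f153290007c06be3a64e070f7e1fc722fa0c1efc352a7b8c143df82d2d06e8207bf0d4b87c9020f7e1a991168021efc0000a9e8003d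fb5f253238387be0d89979e060f7c0b7950e60a1ef80fba6258103df00f44b268187be6be6a645020f7c057945f4021ef80000a9c81c3de82fcc2548287bd05fa84a0040f7a0bf73e86061ef417f21248083de82fec2500087bd05fe9920000f7a0bff0b9c0e1eec139a2878183ddc174c17f8287bb04268bc4030f7609c70a08041eec13926654043dd8226c3770007bb040e9b2e070f741851146e0c1ee848a24d30103dd015cd3138187ba00002a60020f740c3b2c9a021ee80e2e4d54003dd02ebc6fe8387b906008279060f720c032e500a1ee40000a968103dc890b49b90187b904a387d9010f724ee33502001ee40e6a977c1c3dc10d8c5098307b8483a84a6050f700d030928081ee00000a948083dc000015288087b809de87d3000f70d7cb4c8c041edc13de6284183db1fa350018287b63f47a5a2040f6c7e911b1c061ed8fd262850083db158cc9d48087b62b298882000f6c7e9910060e1ed511be1510183daa9ea4e3a8287b562d8aa41030f6a7dd9084a041ed4a332a18c043da9a164ea68007b561968f66070f68b221513e0c1e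d0f5ba0bf8103da2f4e46700187b45a63a7d0020f68a171040a021ed0fd560c7c003da177651900387b32b778362060f663c1b1f3a0a1ecd9bd21994103d9b37ac10f0187b34cdd871d010f6600005466001ecd9be2087c1c3d9000015188307b25753a5a9050f64cdf506c0081ec9840245b4083d9337e41600087b266fda108000f64cdfd40160e1ec52f6a59a4183d8ab46cec40287b137b29757040f620000544e061ec40000a898083d8a65dc4dc0087b11ff19f32070f60ac934b520c1ec16bd67a38143d8285d44ea0207b04f6fa2c9030f60ce01192c041ec19c0621d0003d825b8c6458387af00002a1c050f5e41711860081ebc4476586c0c3d78adb50e20107af30309325010f5e41731410001ebc4b4a0cf4183d705a9c94b0287ae3894a94a040f5c00005426061eb8e25a3388083d7000015088087ae3897a05c000f5c713119e40e1eb4611e067c183d6800015068287ad155195ee030f5a309318aa041eb4629a4a8c043d68aa942590007ad17048c55050f5871b100900e1eace26620a8183d5800015028287ab7445a6d6040f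5634b7116a041eacafe234b8043d595fcc1c90007ab13d695e1070f5440b92e8c0c1ea80000a7f8143d50a0841d20207aa14128717030f5440b506c8041ea8504e86e4043d50a0a4a5c0387a923188bc3060f5246331ea80a1ea464fe5184103d490d4c61b0187a9389c9107020f52713b02ea001ea4834a12e41c3d410e8c6560287a830199600040f50675d18c0061ea0cebe24f4083d4000014f68087a833b18323000f5067651e8e0e1e94b7ee0f40183d299dcc1340287a533ba883a040f4a713f0f1c061e9463468668043d299de47ed8007a518be8d3b040f48e6030282041e91cbfea5cc1c3d19936c6948307a34b46819c050f464a1f4704081e8c0000a7780c3d1b3b1c7348107a326f29c16010f464a210f140e1e887b7e0548183d1182248ef0287a22deda321040f445bfb3c86061e889f56a750083d119d9d3878007a21ee08fdb070f42000053a60a1e84af8207a4103d095f0c3fd0187a1000029d0020f42f9214e9a021e84af8e7438003d095f248e38307a000000cc1060f3e7de72fe60a1e7ce77a199c0c3cfb38147410107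9f4a54894c010f3e6a393312001e7cd4766620103cf1c7140ee01879e7474939f020f3cce071cf8021e79d1da9e841c3ce1691cd7203079c630582cf050f380000537e081e71cc229bb0183cdb3b453b582879b73878710040f364a914372001e6de5961e3c1c3cd1f6ccbf702879a792f9aab040f34f261069e061e69e4c61b44083cd3c994b1a80879a125ca86e000f348da9362e0c1e64af0a6648143cc9c5dc5e802079938bca7b9030f32717b1660041e64dd4e99e0043cc9c5fd08980079938c081eb070f30430d02a60c1e603ec25f90143cc10c5459381879821878b5a020f305c0703b8021e60b81292b0003cc0d524f0901079738e88016070f2c718b3266081e58863aa628103ca90c654c502879438e580f1030f263dcd2c0a0c1e48e22e5e6c143c91c4648ed020792388d9ae4030f24711d1752041e48e23e3d1c043c91c4842af80079238918bb9070f220000532e0c1e445e3266f4143c88bc744650187912ab99018020f223c0f0a66021e44686e6e64003c88b3fc46b83079033c89183020f2071251642021e40e24e1fa81c3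c790c6cc9983078f0000298c050f1e71751c3e081e3c597617e40c3c790c940a180078f218f8143070f1c716b04a60c1e3894f61030143c71c56c3d282078e253e8e1f020f1c4a7f0bd4021e3895021754003c71c6a50fc01878d38d6a1f5020f18445d05460c1e2c0000a5f8143c595e542e382078b2bcb871e030f1657991c1c041e2caf424d10043c595e6c37a00078b2bce8e22070f14629f1d640c1e280000a5d8143c5162fd45f01878a72fe8145020f14605d1860021e28c0ae0f44003c5128dc3d18387892c478680060f12113520dc081e24723679080c3c4b972d36b8107892c4b91f6010f12589316b4001e242f8e1fc41c3c41117c425830788223081b1050f105a2506f2081e2088c6111c0c3c4111954ad008788149a92c6000f10446752b4041e1de5aa00c8043c3bcb343ce0007877967879b070f0c51df1eac0c1e18a3c207a0143c315b2c8c002078614a29441030f0c29472586041e18558e6ffc003c30a11d1510387850f4885de050f0a5ff11044081e1481822de00c3c28d2bcc138107852ff99c80010f0a5ff715be001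e144202097c1c3c21830430783078421f68733050f088a57361a061e1114b21568083c22296c6c6008784452e914e000f088a5f0b760e1e0c0000a528183c194b0cbe382078345319385030f060000528e041e0c0000a518043c1bac14ba800078345338b7a070f0309af19980c1e040000a508143c0a29a4b2c020781453585ba020f028a6d2d0e021e040000a4f8003c0a29c42dd03878045399e35060f00000052760a1e0114ee5d50103c0229e4e7c818780453d85b8020f008a7d3ffe021e0114fe308c183bfa2a0499981077f454185a6060efc59ab0c240a1df80000a4c8103bf166bc8ac81877e3261980a020efc59b31c5a021df8b36a7aac003bf166dc98583877d250693e5060efa7f0547400a1df439f229640c3be9fc2442401077d3f8591fc010efa7f0d2cec001df4fe1e34381c3be16bbcb9d83077c00002924040ef880cf1052061df101a24598083be0000149080877c40698b30000ef880d517da0e1ded488a9228183bdb303c98802877b5223889f040ef6488b2b90061ded9826403c043bda9124b9200077b5225a10e070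ef469c90c620c1de8d39a1fdc143bd0000148a82077a404d873c020ef4809d0f68021de9013e5644003bd20284b9283877900002910060ef26bc542720a1de40000a438103bc9c9bd24b8187793d188e26020ef27a2d2f9e021de40000a4281c3bc1fffcfa48307783d229393050ef080011098081de0f482077c0c3bc00001482810778400b8bbb000ef0800507fa0e1ddc6a7a8070143bb83a6c0d08207770ba4a3a2030eee000051fe041ddd74922290043bb859f467a800777000028fc060eec38df1b160a1dd8718691f4103bb0e3ad06c0187766bd69f76020eec220f3ed0021dd871ca21a4003bb08c6cb620207756ed38e10030eeadda91c1e041dd5bb563838043bac536c89500077579e0a6c9070ee6db8320120a1dce038677c4103b9c5344cc181077382d991f7010ee705af23ee001dce295647e41c3b9156ac95c030772471d9d79050ee4fef32c9e081dc8fb8a5f900c3b94528c8fb81077273e49e13010ee4a8e739be001dc645e20b740c3b81914cd7c83076f2d7d94ed050ede7e231122081dbc0000a3780c3b7b2e64c48010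76f2c06a25a010ede7e274214001dbcfc5231ac1c3b70000146c83076e3db897c1050edcf219268e061dba039e7784083b73ef0d05200876e7de3a0ab000edc000051a60a1db22b5a49fc1c3b5be49c39283076b40f2a045050ed70d2d1f0c081dace5c232981c3b52aff4ccb03076a5d699312050ed45e3b378e081da80000a3280c3b52b0248ed00076a7c589617040ed2a2bf1326041da5ab72a2a8003b4a738c1f2830768000028c4050ed0518d2a4e081da063128d140c3b4165ccda50107682a5c8704010ed04efd08b6001da0a5b22a281c3b38000145e8307672b7c825d050ecefc113c78061d9e28c64e54083b3c0dd40b600876781bb857d000ecf0379250c0e1d999ed26d50183b328d551e302076651aca3c4030ecd144d34a4001d99acae2ea81c3b29685c4eb030765000028b0050ecb07990632081d9628e24da0083b2800014568087655073822d070ec6ad5b3b440c1d8d39c20610143b18291d32f8207637e619200030ec3170d501a001d862e22a02c003b045c4d40201875f8b8aa7ff070ebc12c94b1e0a1d78f26221e010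3af1e4cd05901875e3c9a91ac020ebc79372ae6021d78d2da0eec003af1e4fc0d383075d2744989d050eba00005136081d74fcae16440c3aeb33f466901075d25be9c57010eba7e5b0816001d74fcba1644003ae4581cca903875b30a083a8060eb6425d27ce081d6e109611780c3adbd5ed08901075b3f9aa66c010eb70d210884001d6dbaee09341c3ad00834ebb03075a356ba25c050eb4780d1246081d69f4fe95cc0c3ad4110436780875a7f2790e2000eb504490e6e0a1d662bf61b28103acc57f4c5e810759821d973d010eb303552ca6001d662e1ea030103ac40374f05818758807280d5020eb1031f0e6c0e1d5c044e69d0143ab81c24bd102075702959b1d030eae06b542b8041d5c9cee8c68043aba8e1415d800757024c97a2070eac075f4af00c1d5810726c74143ab14e74c3501875624789d83020eac000050e6021d588f9a97fc003ab1362d2c6838755125a86f8060eaa24b70a64081d540000a1b80c3aa892ec22b810755125e8602010eaa24bf404e001d54498211b41c3aa033fceb58307540344a662050ea8000050ce08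1d509ca608140c3aa0000143280875434618f91000ea8000050c60e1d4e17b63314183a980bd510e0287532ac18df9040ea65585367a041d4c49be4560043a9956248020007532ac685ad070ea446d90c600c1d4876620530143a911b6ce2f02075209d881a8030ea446e10fc4041d480000a158043a911b74c7983875122a7a780060ea245511eb00a1d453a6634d4103a89154cd1f01875122aa9023020ea245574ba6001d448ab2251c183a800d7c38a02875001b08b6e040ea003634194061d4006ca1a28083a800d9c92c00875001b481a2000ea0036b3d560e1d3c04221cdc183a780db424f82874f01b787d4030e9e03713588041d3c06e60aec043a780dd4b8600074f01bb9d76070e9c037906a00c1d3806f606a8103a700df511081874e01bf87d7020e9c0381029a021d3807061f64003a700e140a683874c01109b88060e9801d92e4a0a1d3005c296e8103a60000141a81074c019ea121010e9802e71fbc001d30068696e81c3a580e1c81983074b01c485c5050e96038b349e081d2c0000a0b80c3a580cdc7ee81074b01c7a5df01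0e9603913b6c0e1d2807268388183a500e5449782874a00002828040e9403990f84061d2807369f14083a500e742db00074a01cf9896070e92000050460a1d24ae7e37e8103a4bd3d494e0187492ba1a4a4020e92574b1556021d24ae8a4924003a495d1c6e58307482ed481e9050e90448b10ea081d20bb56081c0c3a42080501b8107481f028f69010e90440137a4001d20bb6230f8143a3b765c0308187476e1c8d7c020e8ef8953f9a021d1db58a35e8003a3c0234bb783874622c69dbe060e8cd7b92750081d1a28ee20640c3a30000140680874653bc9cad000e8d037b11000e1d162dd29d60183a2800014048287457f1a9522040e8b144534a2041d154f5e71c8043a2800014028007457fd58561070e88bb193f3c0c1d10ec127850143a23f4444580207447eb288b2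
def jm_5 : ℕ := 0xf641b00000000000f640b000f64030001d931000010b100000000002cfc2b0029912b0014741b00000000002991130029910b000089e90008d50b003dce3300001f3900006281000050210008d4030008d32b00003b590008d303003e181b00014d01000062710008d123002cab030023ae2b0001c3910008cd0b0001c1b1000c63330000767100000351000c6313003a2c0b0000ada10011193b00119b3300299523000b3f1b000b3f13000b3f0b0001cb990008c903000c34330001ba01000c342300000000000c3413000c340b00146c1b001474230000c0d10008d433000085f9000dc01b0014ca2b0008d40b0008d41b0014201300003db10008c1230008c11300003b610008c10300021c910008d1330008d12b001968130008d11b0008d20b0008cf1b000000000010422b001042230010421b001042130010420b001042030008be3b00014df1001a2b2b001a2b1b0008be130008be0b0008be030001bab100015bf1000000000038421b0035bb1b0000a7a1000180710044b43b0044b4330000bd610044b423004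4b40b0044b40300012ec1000aa733000aa72b000aa723000aa713000aa70b000aa703000cbd3b00014df1000cbd2b0008be1b000cbd1b000136a10000000000184b3b00184b330000bd3100184b2300184b1b001ab43b00014ba90001d6e100497d3b0008b7330001d4f1003b68230054bf130001d3710001ce210008b623001fc63b001fc6330001d251002db32b001fc61b000d9c23001fc6030001ae2100000000000218a90001afd100000000000000000050271b0042ab33000200210042ab23000128110042ab1300010371000000000043e21b00509a3300007c810010f42b002800130028000b000081b10001e3c100022bb1001fe42b00006551000fba23000076610016840b0001fb990037612300000000002e0e1b00008f3900008729004b181b00016f89004f773300009a490016562300008ef90000000000001451000115b100000000001f8023004b551b0000763100006549000011f100020709004ea72b004d8c1b005181230000e31900379a0b00019fe10001af99000215f900020f1100000000000172710012450b000000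000001a2b100428b330000000000005d0100000000000b152300006a410000cb890042c323000021b1000071b1001fe213001fe20b001f0c0b0008ea130001b4a900543313002e3d1b00000000000158390008a72b0023651b0017e30300379a1300000021001d8a130008a523000024c9000000000002022900005df10028fe1b00000000000215e10033e6030023100b0008a3330000046100008601000ac30b002ef723000a7a1b0016e11b000191e1002be41300007a71002be40b00188d1b001a492b0008a12b000029f10008a71b0000000000386933002bc90b00007a39002ef71300007a41002c711b000a741b0000e381002e171300162f13002efd03001ed61b002c6f13001da71b00089e1b00089e1300089e030030a2330030a22b000204d100021271000000000030a20b0000000000089c3b000040710000718900089c0b00016061000000000000726100008c5100529203000068b1000021c10000be4100000000000b57230000000000007649001fba0b000e06230053e63b0001ae3900130f130018af0b001f8e13001f8e0b0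01f8e030000000000089e330038432300007c9100000000001fb513000000000019a93b0019a92b0019a923000a0013000176490019a90b0019a903000136c90000000000003651000107f900002559000000000025b02b00015fa1004b623300401a2300000000000000000000bfb900401a0300423c3b0001a2990000033900171e2b0013142b001ae53b0000fcd9003dd33b0000000000372e2b000000000000e2e100372e0b002ca43b000168310000000000012e690001077900006c290051f00300010ca100014e31001aa933001aa92b001f0813001aa91b001aa913001aa9030012ef330012ef2b0012ef230012ef1b0012ef130012ef0b0012ef03002d443b002d4433002d4423002d441b00021501002d440b002d44030042cd3b0000ad090001d1210000fa1900020bc10000000000000000002f283b002f283300334b2b0000000000000000000000000002154100306f3b00020911000000000000000000020a410000000000000000000d953b000d95330043922b000d9523000d951b000000000000000000421a0b000f592b000f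5923000f591b00163133000f590b0038311b0008881b000888030040f0230036f00b0036ee130024411b00507d0b004f733300009ee100000dd1000c7c1b000030d10001c3b9000181a1000005890040ea2300006fe100006de9000003110000000000009d610042ae3b00000000000000000001ea51000000000001fe01002a482b002a4823002f0b3b00000000002a480b002a48030001406100000000000136390044e02b002f332b00005d21000000000039bd330001a2b90000054100280b230000964100280b0b0052df0b000000000001b5b100006cb100003a41004f592b0020890b000116210030b92b00007c41000061c900006d310020e81300004a71002f250b002f302b000000000055072b004cfe1b0055071b000120c1000c743b004d02230000000000012d99004105230041051b004105130041050b0041050300471833002f2b130000863900002f69004be91300015c81000090190017630300007e9900168a03002c740b0000b151003b473300007df1003bf20b00006c31001d8a2b0016363b0001f4790000000000015fb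1000d7a330015cb0b0000000000281b330001381100281b2300003ff100281b13003ab50b00001c210018393b00344113000073290041d903002a340b001ef403000000000001033900012389000010b100007f49002d2d130038ea13000003910011783b0011782b0000c4690011781b0000000000000000000000000000000000000000001fef23003df31b001fef13001fef0b001fef030008701b00087003000135f100092a330000000000542c0b003c2d13000072510052f31300086e3b00086e3300086e2b000c7c2b00086e1b0042470300006c5100086c130001c61100137a130045ef330045ef2b0049e11b0045ef130034d70b0001e9310047981b000da103003e2913003e290b00086a03001b7a1b00000000003e282b0001eda1003e281b003e280b0028f92b000043b1000dcc3b000205c100001989001f7d13000dcc1b003e2613000dcc030001d011002cc53b00000000000000000001dbe1003db5130040d61b002cc50300540b1b0000e7610000c361000f10230001a2510049b73300086203000021e1003a1a330008612b00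3a1a23003a1a130020961b000197e10008601b0032ea1300085f230000e4d100138213001090230010901b002409130046bc3b000cde2b00000000000000000025ce3300023071000000000001d311002c2c2b002c2c23001c781b002c2c1300113d13002c2c030040ff3b0001096100013471004f68130020fe13000000000055782b001ee72b0008570b00085613000c163b001967130031543300002b9100000000000b6223000138f10008542b00085413000031a100019ca1000000000030170b002be903000ac93300005fd90001877100103b0b000d6d2b002722230033c01b00000000000d6d0b0026c003002c6d3b003815130000c0e100246f1b0000001900174d1b000078b900003a8900018a910000313100246e2300017d390026de130013111b0000c5a90000031900133a0300531e1b000000000027433b0000a4a10001c7d10027431b000a793300115d130022bc1b002b9413000d262b00227a1b0011101b000d26130000000000003f01002e8d1b0001ac29000000000000000000288703003ca70b00005cd90025123b00003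cf900005e4100005f290018831b0011a13b001fa913004b440b003ffd0b00006f91000063b100084723000847130008463b002da4330000670900002a71004cb52b00000659000f7d030008453b00084523000041410008451300004131000040f100000000000843330000000000000000000ca2230000000000003bb10008413300110e2b000000000008411b00110e0b00083f3b000e5a2b00083f23000e5a1b00083f13000000000025162b001110030025161300083e030001c91100222e2b0048db2300222e1b0001dc71004cf50b0038901b0001b37100083c0b00083b0b00020b590025fb0b0015f22b000169110001cb810021bd0b00248d13003605330001e54100396b2b0001de8100482d13004f890b00396b030001d7b100017bf10008371300015fa1001eb02b001eb0230000000000004c11001eb00b0013262300086a33000da12b0001ed41000da11b00086a1300086a0b00086a1b0013183b0001a80100009b89002c6a1b002618130026180b004ae10b000e1f1b003d7a33000d9e2b00007f110010f4130000365900211723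000034c900004e51000d6b3300007779000013f100007581000079a1000d9d330008302b002d2c2b0008301b000e520b0008300300235f3b0001d481001fa91b00235f1b002daf0b002daf13003dc6230036b6330000000000005ab900000000000183210000000000020a1100015e01000000000027e10b00164f03000000000000032100006ed10053c20b00000000000000000026f80b000b042300089c2b001e5a0300082b130010fe1b000b3b130000a13100000000000178e900004e210053c2130008a533003a6b1b0020fd1300112c2b000000000042c50300005a190008313b00082823000d841b000d8413000d840b000d840300003e190033902b0008270300015471001b0b0b000061c1003db81b0000298900001cd100122f030024100300000000000000000000000000015ab1001a053b0023722b004eb213000062e1001567130008231b000823030001fd61000a2f2b00295303000178410001ed710001d16100301c1b00005f610001e051004ac123003dd71b001c99130038550b003dd703000e0d1b00376d0b00000561000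06a11002efc0b00211a13000000000039171300118f13000043210010732b0037611300007a510001a5a9003cf713000076a9000003b1004b721300009e510000e829000154f100006e4100081d2300162e0b00162e1300081c3b00081c2b00081c2300081b1b00081b1300081b0300081a1b0008193b0008193300280e2b0008191b000033010008190b000036010001355900007131000011e100081813000004d90010e6130008172b000030410008171b00081703003d883b000110290028af1b0000cc410000034900081c1b0050913b00006e6100006e5100081c03004e3b1300004e410000000000007e190000000000124e1b00124e1300124e0b0012291b000115d100081333002c312b0000e951003c9b13001651030000da41000025590001b35100164f330001090900164f23002e432b00164f0b00000000000042b10001031100080e2b00164e2300164e1b00164e1300164e03001bf933002dbf2b001bf92300313413001bf913001bf90b0001f571001e4e3b00000000001e4e2b004d171b001e4e13001e4e0b001e4e030001ab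d1004650330016a6230016a61b004d18130016a60b0016a6030000e15100503e1b0008093b000fd02b00080923000fd00b000fd0030000000000378c0b0016782b004fd22b0016781b001678130016780b001679230016791b00167913002c7f2b000fb92b00000000003c731b0041b833000fb90b000fb90300016f410000ee8100080503001116130000505900014c8100012bc1000061710009a4030053053300006181000000000000e311000061a100006239000004d10000619100212313000170910008492b0011f313000000000023973b0001bf61003a4b1b0007ff0300000000004be1130016432b003de6230000344900333f030038cf23003c3b1b003a483300009639000c471300008091000031e100309913000fd13b0000f6f1000fd12b000072f9000074910021172b000fd103000185690025dc3300008d71000000710001698100136113004e403b0001f2f10053b413002f1e23002f1e1b002f1e13000128e90017653b0017652b001765230051451b001765130017650b002d651b0021160b000f632b00127d2b002ef5130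00f6313000f630b000f63030000a6b10000e5490000733900000499000031e9000d7c1b000113e90001510100010e6100122523004fb92b000072e100000be9001763130000160100244f2b00425933000076c1000057390000adc100425b2b00425b2300425b1b005357130053772300425b0300546b330001df590001dde100001bb90000000000296a0b0014221b0000000000000000000074190016a713003ca70300000000003ef803004e2d3b0000000000000000004e2e1300000000000012c1000076d900003619000186010000000000127d3b0027fd2b00086d1300006c71000202e90041330b00477a3300006c41000877130007ec3b0007ec2b000fee230023803b0001d2490023801b000ada330012a20b00013db9000197390001dd51000104310008c72b00016a59003fd9230050d913000160910000a051002bba2b004a713300424f1b0016183b001814230000a419000c672300259c1b001fca1b000c91130014143b000104f1004cd20b001a7c23001a7c1b00000000001a7c03000048690001529900000000000000000007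f50b0007f313000112a9004a913300008ff900208423003bb70b00001bb9003c2b2b000b913b0000000000000000000b911b0001c2f10001bbc1000b9103001a513b001a5133001a512b001a511b001a5113001a510b001a51030024993b00000000002499230024991b002499130024990b000000000021663b0001b5110021662b0001b7c90021661b0021660b0021660300000000001291330012912b00129123001291130012910b0012910300000000000043e900000000001ae52300000000001ae513001ae50b00222b3b00222b2b00222b2300222b1b00222b1300222b0b00222b03002cfc3300000000002cfc23002cfc1b002cfc13002cfc0b0000000000005c0900000000000000000002373100000000000235c900000000002a583b002a583300023581002a5823002a581300000000002a5803000a323b000a3233000063e100023201000a321b000a3213000a320b0001ef21002ac633002ac62b002ac623002ac61b002ac613002ac60300461d33001b1c3b0027ed330027ed23000238810027ed1300022219001b1c030000000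00001005100023a59004c5223002a501b000235d9002a500300392f3b0000c47900000000000000000001e1a1002f6f0b002ac8030001fb510000bd590000000000017a190002259100020c6100022e01002ab03300360503000230b100279e230007d0030001ab09000fac2b000fac23000fac1b000fac13000182b1000fac0300023729003d0a23004c4b2b004c4b1b00023969000000000000e1d900159f3b0001b2f90000ad3900507203002ac41b00022611000190a1000069790001a16100000000000000000001b7810001f8510000000000000000000000000007c82b0007c823003b6d030031923b0031922b003192230031921b003192130031920b0031920300103d3300103d2b00103d230001f68100103d130001f0c100103d030025973b000229d1000235410025971b00000000000236b90000000000137a3b00137a33000237d900137a1b0020dc2b0000000000137a03003c873b003c873300140c2b000235310007c7030007c61b0050f53b002aa83300001349002aa823002aa813000000000007c51b00013ff1000222e100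022bf10000d4190007c503000232f900000000001a843b001a842b001a8423001a841b001a8413001a840b001a8403000227a100114a33003d372b001d151b001d151300265a0b00022b190001fdf10001e5b900023301000000000002210900022ec900022241000e803b000e80330000000000015e89003605130020cf33004d7c130001b301002e1b1300021ea10000000000000000002adb3b0007c51300022739002be433002be42b002be423002be41b001f801b002e4a13002be403000ab52b00096c3b0000d561000e3b23000199d900017101004a760300012cf90011433300424b23000125f1000c270300121613000087c90013973b00017471000cc92b000cc923000acb2300000000000cc90300000000000136610010012b0050c41b001001130010010b001001030028c51300013a19000163190000000000000000000ac61b0001a59900013c01000121c100227e1b0016683b002df91b002df913004cd22b000000000035312b0001ea89000080f100017c490035310b0001e2f100020261003a962b00000000003a961b00000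000003a960b003a96030009e43b00000000001b4c2b0001d6a10054af1b001b4c0b000008b10029c513002cab3b000000000000c789002f7a230014a8130014a80b000034690001b9110000000000150703002715230013a11b002715130027150b0018cb3b0018cb330007a92b003f57230008d31b0008d313004f810b004a9b2b001fc82300122e2300122e1b0000000000122e0b00122e0300018641000e1333000e132b0044d5230001d501000e130b0043e7030000cf510007a4130043793b001207030029712b000000000025b6230001a1990029710b0007ff3b00017c01000186910001863100019de9004c2f0b0007ff1b00000000000a1a2b000a1a230000000000275133000a1a0b000a1a0300000000003eb81b00015d410041c31b0040633300079f0b00079f0300079e230000c6090041c2130000c5f9000189a90000f1c10000000000000019000e70330000cbc100079b23002960030008bc2b00133a2b00133a2300133a1b00133a13001926230010472b00018fa9000b8d2b000b8d23000b8d1b00016479000b8d0b000b8d03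0008053b0001efc90029a1130008051b000b3413000b340b0001d0d100139f2b000c593b00079623000795230013a3130001bf51001f0333001f032b001f0323001f031b001f0313001f030b001f030300000000002fd73300002fc1004d1d1b001e1e130001d359002ff62b00017211002b5a13002b5a0b0007963b0000000000471d2b00222c030001b3c100079603000d943b00175e33003fda1b00175e2300175e1300175e0b0007941b0007940300078c13000000000021412b002141230021411b00018f810021410b002141030048e53b0000000000015e310007a41b00017c510015f50b001c161b0024a53b000212210001c8410000d02900018d91003b3a0b0001fed1000a633b000a633300142d2b000a6323000a631b0009c21b000a63030000a3d10007870b00078703000b7e3b000b7e33000190d100551e2300551e1b0014c9230001de790021c73b002c802b003bbf23002ce303002c80130001560100180d2300017b5100279f33001ee62b001ee61b001ee613001ee60b001ee60300000000000197a100208a2300000000000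000000000bf0900208a0300005711000000000020892b002089230020891300000000002089030020883b000000000020882b002088230020881b002088130020880b00077f3300077f130022bc33000000000022bc2300015c110022bc130022bc0b0022bc03000f3a0b002d34330012181b002d341b002d3413002d340b002d3403000187d100000000002ca423002ca41b00000000002ca40b002ca403001d483b004d0233001d482b000ada2b004d021b001d480b001d48030023543b00016d21000000000027d0230027d0130027d00b0027d0030000000000016a69000000000010511b0001502100473513000000000016f13b00014fc10016f12b000b4b2300000000000148110016f1030001d1090009f12b0001ffe100000000000116510002030100000000002dbc330001c8e10001c8d100374e1b0001eb09002dbc0b0001e891000775230007751b0007751300003311000000410022db3300001ad100002cf10016a82b00001c5100001aa900234b1b004b063300001779000c8e1300001df10000ca110018c32300108e2b002789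03000187a9002e9c2b000000000000e6c900018f09002e9c0b002e9c030000000000014ea100001bf10016a913000010d100008241000000000026bb2b00420b2b00114c3b000049f100413e230052713b0001157900018129000000000052732b00008cc1003d941300429933000769030000000000019a1900481f2b0009c62b0026bc1300193a0b0037c603000000000054851300008139000005990008a1130008a10b0008a1030014162b000766330007662300003469004fe00b00018a410000000000005e5100000491000000000008492300005c09000769130032353300007f090007611b000761030007600300075f1b00020c99000a182b000a1823000a181b000a18130015700b001068230001a03900000000001751230000e161004133330017510b001751030000303900151b3b0001b58100194b0300008569000149d90018a60b0018872b0027ae03003af803000155010000869900259b1b000066c9000067990025872b0025872300076c0b00006a890007610b00075823000069c10027a51300023b5100022ef1000234010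00230490001a081001e251300023571002acf330001b099000196490001a8d100000000000035a10001a2a10019263b00192633000000000019261b001926130019260b0019260300021eb1000fcd0b00000000000c2a23000000000000e5a10000000000004ee1000238f90020b32b0020b3230050771b0020b30b0001929100234d3b00008a6100234d2b000a23230001ab910000000000234d0b0032063b00320633002bda3b003206230032061b00320613003206030009f4330009f42b0009f4230009f41b0009f4130009f40b0009f40300023bb1000fdf33000fdf2b000fdf1b000fdf13000fdf0b000fdf030007d83b0007d8330007d8230007d81b0007d8130007d80b0007d80300023b7900023c8100002649000000000002386900023911000238490021363b002136330021362b00000000004c341b002136130021360b0020dc3b0020dc33000000000020dc230020dc1b0020dc130020dc03000000000038432b00009a890038431b003846330038430b00384303000b84330001b001000b8423001e9c3b0001bf110001b0e1000b840300107003004bd12b000040f900446823000072c100347d1b00447f330000340100000000001276230007641b00002d0100000000000079d10000049100096c1b00000000001f12030000ebc9000059d1002f562b002f6523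
def m_6 : ℕ := 0x51534c8ab334a082a69915a9d500c54d322bd21d810a9a679b84330115346d57406c002a680000dfe81854c8ed64261028a992d2b82bc0415325a593d2c062a65b33a07100854c9696c879008a992d2e947f0015325a615af00c2a61637225bc1454c46c8c10a818a9858ee896c021530da310af0022a61be1662540054c36dbc901038a972afb82c906152e06f33b26082a5d47e237f80c54bb77a537b810a978e26b77301152ed73b2f2e002a5dbbb68dcc1c54b3001cc5a030a965fe39fa405152cc2913436082a5a407e31b80c54b29e74e3e000a9641ce9ad107152a3b930ade0c2a561dca11481454aa83d56a3020a957ce9b72103152ad5fd3a06002a55a8d65ac01454a4946c125008a930000023b051523254f03a0082a44000000280c548c961c122810a9192bf824901152325810482002a3c000008c0045474917410e000a8d0000371b0015192579001a082a2e496e072404545c949c128000a8b925d81c507151412915cec0a2a28a25a4e041054514b543c5018a8a2555a71002151452d72a48022a28a5b6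1da0005450c51d912038a88287585cb06151006994b74082a2104222aa00c5442084cbb9810a88410a874001151082172204002a21043276d01c5438bd5cdb8030a8733a0a04e05150e00006f76082a1cc5ca18a80c54398b9c280008a876133af1300150e62e92c560e2a18000006c41c542069c452a030a841da0a48f051508826f0906082a1104e2ad1c0c5422156490d010a84410fb70b001508827520420c2a0c774e8d3c14541a13e57c8020a837af282b703150600006f56042a0debce440404541bd7a43a0000a837af5af34071504227910100c2a08cd4a19381454119a9c690018a823354b7910215050b956f0c022a08cd568dd40054119ab5bc6038a81175188a60615020f793ade082a042b4260200c5408ba94456010a81863aa3f101150200006f36002a045d5a22b01854046ffc009018a808e0282e90714ff1ba517580c29fc9e6a55e81453f86b6c136820a7f330eadcb0214fe1add20780229fc35c2185c0053f883546c1038a7e113782a50614fc227110d20a29f844e655441053f08794b8b018a7e114097e80214fc2275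070e0229f844ee114c1c53e89a24b46830a7d7056b37e0514fa5563349c0829f4cdf20a700c53e89274e28010a7d8c4da4530014fa2fe53eca0829f19e5e91c00c53e3186c990010a7c631086760114f8a1ab0c5e0029f1435a18b81453d80000011820a7b50d780220314f7232103a80429ed436200840453d80000010000a7b6caa827e0614f50b673b2c0a29e9436a18ac0c53d30b75786810a7a8e058cc80114f4d0ff2f200029e99d3253d01853cc2d8d6a7028a7991ea82620414f2dd8301780629e5ba9a69800453cb6404d2f000a796c819a5d0714f0d92f04060a29e1b20a3f541053c2fea4b34010a785d5ca05a0114f0a1d10c260029e1b42e9f5c1853ba874c308028a776c86a4230414eed90f48480629dd449a18340853ba8764306008a776de086e30514ed253d03640429d5b22691440c53a3b17d77d820a730000040e0314e722191be40429cdb446492804539b7c14058800a73910e8d6c0614e4d91732b40a29c8000002d41053947754111818a72000003270114e4ddf506340c29c5b23290fc10538b646d21e810a716c8e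a43c0014e2000006360c29c1b73a1dd81453837d3c018820a70922b82680314e0db9f06320429c1b7421dcc0453836e8c3b9030a6f872883410514df1cc36dfc0829be1cee94740c537b6cc4087010a6f000000140014deddef02160e29b8ad8e1cfc1453715afc2d4020a6e1efd8d360314dcf9c36e780429b99e760bc40453715b04618000a6e2b6183d10614da58ab03960a29b4b4ee6cac1053697c243f3818a6d2f8a978c0214da5f0b366c0229b4be1a27500053697c3c10a038a6c2891a1f40614d86a2306060a29b18682bae00c53647d14675810a6c6e409ec10114d8ccef306c0029b19916224c1c5359b3441e8830a6b0e45b6d60414d608331fc40629adb78a1b7008535b647d70a008a6b444aa0780014d6de69326e0e29a862da8710185350dfb4c6b028a6a000037240414d4bb173e9a0629a953aa77f40053534754b0a830a68876f83140514d0dbbf0dcc0829a1b24666100c5342e9acb88000a686c928ce70014cf246703f202299a4a6a06d408532c91a40f4808a65923581e80414c9246d03c604299248de078404532491c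40f0038a63223a884b0414c64477088e06298e38b2dc4400531911e54ad030a6239c59e420514c47c5b2a98082989043610d80c53143ba5223810a62410e895a0114c44d2f5b82002989044206dc1c5309fb14305830a6186cd8d830514c2db795aa6062985b5c278bc08530b6b8cb46008a6140eda04a0014c3245904ac0c2981b5ca920c10530488c465e018a606d738ff40114c0dae90692002981b90e043c1c52f82475580830a5f20478b6e0514bedaeb2e7a08297db5da43580c52fb6bbcf07808a5f922f82160014be8433235204297a48c608400452f49194107838a5d2edba81b0614bb0f0f059a0a2975c03e1be01052eb7cc5243818a5d6f99a00f0214bb2461042a002975be6e76881852e00001b76828a5c0e2f86db0414b81c61096606297038c6081c0852e0719443a808a5c0e33983f0014b81c69068a0e296c38d624901852d871b45c1028a5b0e3788990314b61c71316804296c38e637cc0452d871d4925000a5b0e3b84cd0714b21c79378e0c296438f64de01452c871f4a6b820a590e3f877d0314b21c811694022964390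6667c0052c872147af838a580e43b1490614b000006dae0a29600000db581052c072348df810a580e47a2470114b01c9144820029600000db481c52b872549de830a570e4b8fd70514ae00006d9e08295c393630640c52b872745c4810a570e4fa7cf0114ae1ca104c80e295839460eb41852b0729504f828a560e53ab470414ac1ca91266062958395647140852b00001b62800a560e5796570614a81a6515080a295034ce7d7c1052a069a4fb5818a540cf1b6140214a81a6b27b802295034da43680052a069bcac0838a530f048d360614a61e0b1eaa0a294c3b7663d8085298783463f808a530f0795b40014a61e112e300e294831d620b8185290784cba3028a520f0a83ca0414a41e1714a00629483c322380045290786cb62000a520f0e826d0714a21e4f26ec0c29440000dab8145288794c41a820a51109384510214a22129302a0229447eb22e60005288796448a038a500f0f83ca0614a01e210cf00a29403c46294810528078943bb018a500f1398160214a01e2919ae0229403c56b5c81c527878b4a9e030a4f0f17967605149e000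06d3e08293c3c6224340c527878cc10c810a4f0f1a88e300149e1e3719a80c293439627c6c14526872cd519820a4d0e5a8cfb03149a1cb72de804293439725bc004526872ec6bc800a4d0e5e8ffa0714961cbf22ec0c292c3982248c145258730c524820a4b0e628db50314961cc70f0a02292c39922928005258732c293838a4a0000368c0614941ccf122c0a292839a231fc105250734c937810a4a0e6a880d0114941cd7148800292839b2292c1c5248736cb62030a490d7cab360514921cdd3d5608292439be292c0c52487384524010a490e718adf0114921ce525dc0e2920375ea484185240739c2f9028a480e7498f90414901ceb422806292039da910008524073bc524800a480e78b66d07148a51396be00c2914ab2a0f501452286d5587e818a45115eb13b02148a17db6ca8022914459a49c8005228d17448d838a4413ac8d1f06148839e918e0082910739a10b40c52200001b36810a442cd6a9320114883a7f60440029104386b05c1c5218f91c4e6030a4322ca9f360514863d85394808290c7c828bbc0c5218f90c9f7800a431d3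88eb507148433f517ca0c290887ba68f01452108114901820a421ed09cc40714823fc50db80c29047f8e1f98145208fecc56f820a411fe482130314823fcb41b00029047f9e1d081851f86534d17828a3f0c5d825804147e1d0f16dc0628fc3a224b280851f86b0cb9a808a3f0ac6b62f00147e1aa31a400e28f83a26ce601851f07454f43028a3e0d92a0ca03147c1d171e3e0428f83a325c600451f0746c1d8800a3e0e8e856e07147a1d1f1b4a0c28f43a4211341051e8748cb8a018a3d0e928df702147a1d271eae0228f43a5249bc0051e874ac406838a3c0e9e8d360614781d3f1eaa0a28f03a8263d81051e0750c0d7810a3c0ea28c7f0114781d472b680e28ec3a9291501851d8752caff828a3b0ea6864e041476045955fe0428ec3a9e0ec40451d875447ce838a3a0ce6b6220714721ab108ce0a28e4356616801051c86ad4276018a390d5b84eb0214721ab92d1c0228e435761bc40051c86af4f09830a380000363005147015676c220828e02b2a932c0c51c05c05af5010a380ac7927201147015912e6a0028e0170e28cc1c51b861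1c5d8830a370c2487ba05146e184b14fe0628dc309a24dc0851b8613c435808a370895971700146e0bb749960e28d80000d8881851b02a64d48820a360b55830303146c19cf6c240428d833a28ab00451b0675c0d6000a360ce9b60d05146a1d5b45600628d43aba5c600051a87584901838a3411558e7f061468044955fc0a28d0311255fc1051a0622c5b8010a340c67a2d5011468188f2b000028d00000d8481c51983145afb830a33000036100514660b9156520828cc17164f5c0c51985ab4abf810a33060f8a2e0114660b8514700e28c816ce0d401451906a0da60818a3205b1aac60214640acb6c0a0228c8146aa96000519025340a6830a31289990df041462332553c80628c47d7ecdd0085188be14061008a3117c39b5b0014623589080a0228bc42b27db41c51700001afe830a2e0469aa8705145c1ba36bd40828b8365a16c00c51703084519808a2e21be9d1f00145c00006bee0e28b47086a55418516944d4155828a2d1fd4ab8204145a402b178c0428b4a26e0c44045168fec4c12000a2d1b1dae090714581b7525720c28b036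ee3cc01451608d053fc020a2c0dbfa1cb0314581b7919060428b00000d7a80051606dec0e5038a2b09d1873305145603c13aec0828ac801aab100c51581f94e85810a2b09d38bc401145613a94c400028ac0cba99581c51493dad765030a2927b685000414524f6f423a0628a49ee29ce80851493dcc24d808a2927ba8ccb0014524f77087a0e289ce9f25e541851393bbc616028a27000035d804144e4f9909fc04289c9f3a5fdc0451393e7c7d1800a2727d0abf207144c4f794ed40c28989ef6100c1451313df42a3820a2627bf83e503144c4f814b820428989f06325c0451313e14c1f028a2527c38fa003144a497d4f820428949f16760c0051293e34556030a24000035c805144858191b920828908f7697640c5121606d90b010a24000035c401144858214038002890a7b612b01851184ee40a6010a2309d9a8560714445e8b42720c2888bd1a2fd01051117a3cb6b818a222f4888bd0214445e9935a2022888bd26a4540051117a547bc038a20248fa84f0614400553645a0a28809242440c105101248caca010a20249285c501144000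006b660028808d9ad4b81c50f9afbd3be830a1f0143aab605143e00006b5e08287c8c2a7b740c50f9185c998810a1f230c905001143e00006b560e28781a82b79c1850f030bce8a828a1e3f9d979504143c53cf1256062878a7aa419c0850f1e9cd31f000a1e29e8b21606143858690a960a2870b0d67ef41050e161b4687018a1c2c37874002143858771c560228700000d6780050e161cc881838a1b0000359c061436793d05a00a286d21ea4d980c50d80001acc810a1b487c833501143690fb2df600286d21fa844c1c50d1e99da21028a1a50b481e904143499590ff4062868e806d1200450d2657ce87000a1a4cb091c7071432493931e40c2864bd6e38681450ca382cfa2020a1948809997021432910319c0022865220a2b600050c80001ac4828a184883887804143091094164062861221697000850c24434d3c008a183c9ca89e07142e7435117a0c285ce86e74381450ba663c7d3820a1748a3965403142e91493a1804285c0000d5f80050ba45347eb038a1605ef973f05142c079364940828580000d5e80c50b0222d546810a1600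00357801142c06d34b480028580f1e17101850a9b2942d0828a153653aeb704142a6ca95152062854d96697e80850a9b2ac928008a1523939bb700142a6caf14d60e28512b42b6981850a1b2e4679028a144ad190dc03142895a556fa0428512b4eaf900450a256a4238838a13324caa4206142643610f7008284c0000d5980c50991fbd2e9810a134873aa4101142690e9062c00284c9caaa1941c5090e3d49bb830a120184aaa50514244fa763e208284921da419c0c509243bc65b000a1248788cc70714225ced2f900c2844be3e59b814508a4615085020a1148c394f907141e8d1b0a240a283d1a3ac85810507a347c28a018a0f4a39abf202141e9e0916d202283d1a46760c00507a34952e0830a0e2fd6956805141c00006a9e082838bf5e2d580c50717ee47a2810a0e2fd8855f01141c5fb3176e002838bf6a24f414506c3f7c341018a0d87f0ac9602141b0fe35a900228361fca26c0005068000013a010a0c000016a701141800002d4c0e282d21b26cd814505a436cd9a020a0b68ab8e4702141699235ba802282d21c26cc41c50523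0ec38a830a0a2c3e9f6005141496af325808282a20ea926c0850525acd1c2008a0a4b5a90d8071410172368f20a282070520c9410504256ac6b8818a080000353402141095ad090c0228208b3e121800504105d43d7830a0704ef9ac405140e46cb59de08281c0000d4b80c50391b3c22d010a070000352c01140e46d3271200281c8daa9e701c5031837c7d6830a06086faad305140c326329b20628193e5a966808503348d5136808a064f97832400140c9f314f560e2810f332265018502256c479c828a040000352004140895b309ca06281121c66cc000502240fc374838a034a6ea5dc06140619f935260a280d29beccf01050180001a8c810a034a70aeb80114066925169400280dd28a24b81c5011b50c188030a0200003514051404d3694a6a082809017ecc280c5013a524495810a026b6f8c12011404e93167480e28043462a81414500a3b7d3b8020a0136029cd103140200006a160428051dca9f9004500a3b9c1f2000a01477493ea061400629900760a2800c51625141050018a344a2018a004776979b02140063e35d8c0228011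de232640050023bcd0018389ff477a97a50613fe75a723ae0a27fcc50ac774084ffa3bdcb1d8089ff477c83dd0013fe8efb26200e27f474067dac184fea3bf43730289fd477fa3880413fa8f0156e40627f51e061680044fea4624bbf0009fd47828a110713f8918d5d980c27f0a1568158144fe1ff5da778209fc48c79d8e0213f87a0766020227f123223314004fe3a5444968109fb48c589fd0713f414ad29680a27e83e0e26ec104fd03c549498189fa0a5883260213f41f0b3b840227e80000d398004fd03c5c1930389f90a708ce20613f213df11f80a27e4294e27d80c4fc83cdd3a98109f906ac95780113f214a907f60027e43376244c1c4fc05cdcfaf8309f8000034dc0413f0417b3eba0627e0449ab3f0084fc23cd46410089f81afd9f740013f017df10d60e27dc7842540c184fb84e4586e8289f749409ef80413ee176f69880627dc93ba3360044fba4a0c7970009f7000034d00713ec59bd183e0c27d80000d338144fb0617d6090209f60cdc96e30213ec179f39480227d8314e92e8004fb0fdad5c10389f50bb593030613ea1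76d60dc0a27d42eee9100104fa875555c10189f5000034c40213ea17712e280227d42ee636cc1c4fa024b55780309f4372287140513e88f3716dc0827d0dc8e83280c4fa1b9243450109f4479c92580013e85fa33d560227c87feac0e0004f883a7d47e0389f00c2088820613e043f72f220a27c01caeb9dc104f803f1585f8189f0000034b40113e00fb3475e0027c0347ad1c01c4f703514c040309ee000034b00513dc0dfd5cec0827b81c26b9dc0c4f7038ac0d08109ee0a98a3af0113dc0ec92db40627b425ea8ed0184f5913a41850289eb379489640413d66f2b1b9c0627acde5a5c20084f59bcbc4b18089eb379894e70013d66f33062e0e27a89c4e54ec184f51f39cb9d0209ea479d8ad60313d44e5150ce0427a91e7e5d9c044f523d042cf0009ea47a1a4590713d2156f3fbe0c27a51e8a5e54144f4a3d1cb6c0209e9000034980313d28f4b59640227a51e9a1530004f480001a4a8389e847a883170613d0000069260a27a11ea69700104f423d550320109e8000034900113d05b7b357a0027a11eb64994104f3c40040cf8389e64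7ae9d400613cc000069160a27991ebe5388104f316655a138189e647b190450213cc78f15284002798d2eec6081c4f1985953fa0309e3273da0200513c68f65086606278c0000d208084f1a3da4b2a0089e347b58f9e0013c70ffd03400e2780f6da3154184f0116452f60289e047c08dd10413c08f832c900e2778317e4adc144ef047fc6830209de0a83b0a50313bc1a8f47680427782cea5b68044ef04bc40d08009de0b97af190313ba55fb6038002774b47e24481c4ee00001a388309dc0c21acc10513b87f9f51cc0627700000d1b8084ee124fd6f48089dc37a5a0eb0013b869d5083008276daf068ae4084edc402c9e10289d92e9d9a290213b2e919131602276529ee5374004eb85bdc82c8309d62d0687650513ac52cb1792082758b41e7aac0c4eb16a94a8a0109d62d09b4470113ac52cf409c002758b42a335c1c4ea162cd63e0309d43dd0a45a0413a89e270f600627513c523fb4044ea278bc63c0009d44f15ab4a0013a6949b29c60e2744e70e49b4184e89a5cd01a0289d147c6b1170413a28f8f2cc60627452d224c9c084e8a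3e442d00089d10000345006139e0cbf28000a273cb3b668a4104e794e95a188189cf377c8c2502139e59df131602273cb3c25374004e7967940cf0389cd2be2a9d006139a52cd3ce80827351ede098c0c4e6a3dc56a10109cd47b9b43101139a8f751052002734af7ea74c1c4e61d6748e38309cc1f228a4305139890cf237608273121a208080c4e62434c10f8089cc486a8cf300139890d710e80e272c6bb20cd0184e580001a1c8289cb47c28df30413968f875c8004272d1f12381c044e5a3e2d5bb8009cb4b4793030713944f2f2b120c272883ea8808144e500001a188209ca2a12a3cc0313948f7b081604272922da1c74004e523df4f8f0389c92cc59633051392598f2098082724b3220c100c4e49664c1918109c9000034280113920000684e002724b32e9870084e4165bc1ca0389c716a7a37306138e56d70f9408271c54e617ec0c4e38b65c73d8109c72b6c8c1001138e584f3ccc00271c5b1652a41c4e3167c44278289c6490aa8c103138c59f31cf8022718b2ee6d181c4e2b45645cf0309c54b2e835805138a2d3304ea082715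2cbe4e04084e2a59843740089c5169c895300138a4e3351840e2710150e4f74184e20cc3439c8289c4169f8278041388330f2300062710662276ec084e20aa750ec8089c41463a1d8071386746124420c270ce8d66be4144e1bc51c9e08209c33a318dba031386746525f604270d242e6524004e1947c566e8309c21b0686d703138458a152c8042708526e4b141c4e080001a008309c138bea9ae051382d15b34ba062704b67a6a20084e0b457433a0089c168af86e5001382d161104c0e2701a2c667b0184e01e9949248209c068b28fd0031380d1671f42042701a2d282b8044e0256658ae8009c068b5965a07137c3f7d2d7e0c26f91c725bac144df345b42978209be68b79d7f02137cd22b2a440226f9a2e29ab4004df345cd20a8109bc0000010b0713762489293a0a26ec2df633d4104dd87c244fd0189bb2e95882e021376440f52480226ec211a2290004dd87d554118189ba28b98450021374517708a40e26e0fcde458c184dc000019f08289b84a43a3a0041370923d12c80626e129161ec4044dc227147ce0009b84a47916307136f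069b65a80a26dde5120d98104dba3704d840089b746e29b0600136e913f64680e26d823be99d0184db18ee49ae0289b64a48863804136c94931f420626d9292a7284084db2525c3fb8089b64a4c999e07136a1db15c440c26d53c322cb4144daba35d9e20209b54f0d863803136a9e1d5f060426d53c3e5c98004daa788d69a8109b468bab3bd00136600000ca00a26c6205e8f38104d8b5d149790189b16ba3a27e011363103910980a26c1d4868dd0104d841a549e50109b088108852001361104149620626be209642b4184d7000006b48109ae6ba1910f00135c9d551ac80e26b502825c0c144d6a050d3940209ad40a2840803135a81471c4e0426b5ae0ace94044d6a05248b08009ad40a59169061356d6fb109e0a26ad3fc233000c4d5c40ad1e50109ab880e931e011357069927620026ae204a42941c4d51da2d07c8309aa0af3a347041354d7015a3e0626a93fb20860084d5440651e50089aa8808930a0013547b1d18bc0e26a19e8e1ae8184d4207d41990289a86b838c0c04135099bf06c00626a22d969c98004d445b3d3928209a7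4717992002134ef1ab4a5a0c2698427a636c144d3084fc23c8209a60de385e103134c95931ffc04269842860a6c044d3085144b78009a6000033980613487c75157408269101ce5e0c0c4d241a759390109a468bb8c1f011348d23344dc0026913e4eaf94084d1c42dd2a30289a28846807b07134200004aba06268400009570144cf800012a282099f6b7381d303133f1405494e00267e280e92881c4cf15f640e382899e2bed850104133c57dd0e1c062678afbe0d28084cf15f842a300899e2bf1b16c00133c57e50ce60e26704cba670c184ce382a41c502099c4f1a88dd0313382b2b28ca042671a6521b0c044ce3a47c9e400099c1673853307133650d956ee0c266cafce1510144cda54745ad02099b21959bc9031336951f3b6e02266d2a423e2c004cd95fa44e383899918388d3806133237453d6a0a266451e619b8104cc8dcf421c8189991c458f6b021332373f31da0226646e8240bc184cc113bc4d20289984a918b1e02133095253b7406265cc3260f64004cb8e5dd96a8389954e789f0204132ab3b9104c062655677653b0084ca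a73e4f7f00899559df961500132ab3c11f860e2650c79a80a0184ca1e66c50202899459e1971d041328b3c51be6062650d266be94044ca2cf1c7ab0009940000335c0713263b1332080c264cdb022eb8144c9acf24b3402099359e59eb0021326b3cd196e02264d497a7280004c9acf3c5ab038992551483f80613242a9b20160a264967a25ac0104c92cf4c40101899259ea9eb0021324b3d716aa02264967b22a741c4c8170643f702899010278dd30413200e4511180626412a4ec2f8084c807724a5700899009348c01001320952b61720c263c418210a4144c78830cc8282098f0f438e0003131e992b10ec04263c419212dc044c78832c7a880098f1d0b840607131c8bb74c020c2638b7c65cac144c726f746bc81898e0000333c02131c9bdf08c802263937c21178004c73a2fd27a83898d4ac3a06406131a13f51b7a0a26360d5ec6c8104c6a5624a4001898d3895aa1301131a99cf19c80026352b1a65dc1c4c5a54b444683098b4a97a3800513160000665e08262d2a6219880c4c5ba45c4ec81098b3ed09800011316953523b60a262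a0d5606600c4c5417841b58389892a0eb16105131295392c7e0826252a767ad40c4c49f89546e0109894a9faa26011312954105800026252a862de4184c42551438702898826e09b1204131095473f200626212a92582c084c42552c4098089884aa69366001310954f25100e261c247a6c7c184c3a55448358209874ac78c2203130e95533a2004261d2aaa3638044c3a555ceb28009874aac833507130c7cef5aa60c26192ab678bc144c3255747138209864aaf976503130c95614fc80226192ac695d4004c3000019868389850000330c06130a4d5b1f920a2614a89ea18c104c2a85940f58109854ca78cc501130a9639034c00261532a6829c1c4c21734c8818309843241a5f005130879fd23b6082610c8f2ca800c4c21424d3f601098429f0954c01130879f9348c0e260c2286a3fc184c1a559c9dc02898325d39c3b041306956b23b606260d2adab2a0084c1a55bce3a800983000032f8041304d231450e0226060d128f380c4bf41a9d8c383097d000000050412fb06b721280625f60d924eb8084bec1aed36800097d835f909e0512f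8d335463e0825f20d3ec5c4184bc9b7d45f9028979189995e30412f26df710be0625e4dc128e08084bc949ac4cd808979293785200012f2510f06960e25e08eb29fb0184bc14d550c6828978352884180312f095754f720425e12aee5d2c044bc255e48a7800978262f98f20712ea222334d40c25d4949e87fc144ba8af3c2f2018975157492be0212ea4a51205e0225d457825a7c004ba8c2b41f60389741cbd81930612e83881015a0625d072ea0f64004ba0e1f4c1700897346de9b0b0512e43e891a760e25c4458a480c184b888accb4702897114ec8be50412e223832bf20625c4569a69a8084b88dd94dc980897116649bf50512e1100547960425c0c936c714184b78ea147ab02896f0ccca4e00412de3a0912280625bd63324304084b78d8ac64180896f1d449f7b0012deb19b21680e25b16222a914184b62c744e7202896c58e98e210412d8a7ad38e60625b163aaa018044b62c7645d500096c53da9c6f0712d4a6d53aca0a25a9633a168c104b52c67c21f01896a4e4ea3880212d4b1a13f460225a963467e8c1c4b4a8d851e003096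953cc9c840512d2b1a706380825a5635243800c4b4ac6ac5d401096958d691fb0012d2b1af16080c259c792238641c4b30fa54f980309662b38aca10512cc00006556062598d20aca9c084b315e4c325008966321daf830012cc0000654e0e259522f26494184b295e1c5dd82896548bd892f0412ca917d1ad006259498d6636c044b2951b4bc18009652814ab130712c86b894e8c0c25908feec2f4144b22443c4dc020964488891dc0212c86d95300402259122264774004b2157b494803896322199d6e0612c60000652e0a258d1e0e33e0104b195264948018963478491dc0212c6694d2eac02258cd6ba73c01c4b0851b556f02896136f391fd0412c26de92a44062584dbd66ae4084b08000194680896136f79c9a0012c26df12a440c25800000ca28144b017144e588209602e299e720312c05c5d224a042580b8aa158c044b01715cbdc8009602e2c97c10712be72eb36600c257cc1aab808104af9cbbc12901895f3978855e0212be72f3309202257ce5ea108c004af9cbdc63303895e34ed9cf40612bc5b012e980a25780000c9e8104a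f1a7758dd01895e34ef92500112bc69e15d94002578d3c673a01c4ae95a8c71583095d324285730512ba569f1ede0825753e467a7c084ae9a7dd8ae80895d306294e00012ba6ffd3ac20e257086628328184ae1bdfcf4102895c397c96450412b872fb0dbe062570e5fa301c084ae1cbfc8f480895c3980a0530712b613175d4a0c256cea9e0850144ad9d50ccd602095b000032640312b675470af804256ca7726270004ad9d52d76603895a000032600512b484150a9a082569082ebb400c4ad21064c3101095a4abd8c760112b4841b3e1e002569a29e8c40184ac8e17404e0189594a85a36d0712b045d530480c256078aa7678144ac2543487a0189584a87abce0212b0000064a60225612a267a88004ac254543700109578351b13e0312acd1814636002559a6da9498144aac1acd8a301895568bda3240012aad17d46440c254c0d0a9990144a98cf1431782095319e3902f0312a68f0d04f404254c67925ca4044a98cf2cda280095318528e620712a473dd09fe0c254811baabd0144a90000192081895247888dfc0212a48f1311280225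48f0ce15e8004a923c5d3d6038950488f861e0612a0054354e40a254122461b7c104a824494554810950489381f60112a091291f4e0e253d227a16d0184a78292c37702894f46e39b0504129e5d8b27ac04253d2286a8e8044a78ef7559b03894d055786c805129a0af931440825340c4a85f80c4a68000191681094d33caa79001129a04d755f800253410123a2c184a61cec493b82894c13e4858004129873b3165606253122561e7c084a60c4fd38880894c000032240012981f8b619e0a252d225e5e94084a5a44c4d5a03894a3ae68fc9061294750339fc08252922668e200c4a5244d538101094a489ba37301129491391ae400252922762d9c1c4a4a660c253830949000032180512929985173c0825240000c8580c4a4a66241028009494cc6821207129049f33df40c252124d69844144a422994ba80209484dfca011021290675b53e002252124e216d0004a42561498b038947346e965306128e773b1c400a251cde8e59d0104a3a560571201894768a8a2fe02128e958307f802251c8aca1d441c4a2989049b1830945312193710512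8a62455bec062514c48e4718084a2989248b1008945312591b900128a624d23820e25101412a958184a214d8ce540209443127a9470312885ed70ba2042510c4a2a84c044a217e9cf0b8009442a92a14807128662530f240c250cc4aa1054144a19895c8e9820943312ca00a031286625b224e02250cc4ba5398004a190bfccf183894231308c0306128462635e9a0a2508c4ca4cdc104a1103cc92401094231348897011284626b1f48002508c4dab6081c4a092f34e2f030941313888580512826273057e082504c4ea3d580c4a0989dce85010941313c9607011282627b042e0e2500c4fa1ed8184a012b8cbdf028940313f858c04128062811134062500c50655d0084a0000018ee800940000031dc03127e4d3f36ee0e24f8e11282d41849f1c22c38902893e3846821b03127c708f26e20424f8e1223f4c0449f1c24cd8a80093e384a851707127a7097058a0c24f4714e4dd01049e9c26c0f301893d384e82b002127a709f245c0224f4e1427c140049e9c28c15203893b32a8957a06127668b31c740a24ece19a2f001049d800018e48109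3b386c8def01127670d31b4a0024ece1aa7a4c1c49d1295426b83093a38528e0e05127470a73e1e0824e8e15234540c49d1c2ac99601093a385687e5011274509943de0a24e4e15e3ddc1049c9c2c52c601893938599e9300127270b526580c24dc0000c6e81449b86d1d26a0209372247980a03126e744d3ebc0424dc3322a98c0449b85e6ca028009371d079f7405126b105d4da00224d5aefa8b101c49a1026cde60309342d6094ff0512689aa318d80824d1a30a183c0849a26a946718089344d5394ff0012689aa909fa0e24ccda66558418499800018d482893330ef95370412660000634e0624cc8d4670a4084999b414e5480893336838b7c071264592b1c380c24c8af1a062c1449913594b240209323715a4150312646e1f34380424c8ed9672b800499170549c48309301b80a58e05126003e9365c0824c00000c6680c498253e442d010930279e935e0112600000632e0024c00d7e62901c497a53ed06e03092f157b96b904125e923b12ca0624bc42321f1008497a54056ee00892f39b1a13200125e95030c740e24b8d376117c184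97266cc8ad82892e4cdaa11e04125cea350e380624b9b5f60808044973a50450180092e4db6905104125ad17946580424b5d29a284404496ba54c4fe00092d74a78a040712566a0d5ada0c24acd2a240cc1449594f4c50f02092b383c9f9b0312569161585e0424add2862808004959d7ec7f481092a285885470612526fad0b3c0a24a40000c5e8104949bec42b181892937d98f700212526fb53a8c0224a4df6e07a8004949bee42b383892832408d33061250767120600a24a12a2e448c0c494345fd18f0109284a8ca48a011250951b0a900024a13c062e3c1c4939bf2c2720309270000316c04124e6fd110f806249cdfa6be38084939bf54c5f0089270000316800124e6fd71e920e2498aeba12881849314104e3102892635f9997804124c496962c20624980000c58800493000018b08389254acb923e06124a849917d40a24948f62712c104929924466883892417449878061248766d5da80a2491a30e300c1049214eacf4e81892423e19ea2001248000062ae0e248ceffe7200144919e0046d38209233c01875a03124678051ede042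48dade2c4fc044919e024cae0009233c05ac6c0612449e3d5af00a2488b7160a6c104911257d3a08189224f208853021244000062960224884c92616c00491000018a4810921886a809003124000000c2c042481adde8c980449000000e7f01091f8a09811001123f140d495e04247a2dbe04b00448f45b5539703891d4f29836f06123a7807156c0a2475402222801048ea795436403891c39caa4620512381ffb2b00082470b78ec0880c48e0d69469001091c10d398f6011238240958fc0024704c0649c81848d96f2423202891b0f7b84e80412365bcb24e006246d2bca30240848d8d40cb1b80891b1a2d8a4500123652234d2406246800008c080048d3a4348518389194a5da62b06123294bd3cb2062465297e5d600048ca530440f0389183e01853f061230273518760a2460dd0668f01048c2530ce4b0189184a628444011230959b3944002461298e5bac1c48b977842598309172ca2a5ac05122e7e59513008245d2b3e1e680848b8000188e8089170000311c07122c6bbd582e0c24586c427db41448b1b2455c58209164a65ab55031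22c23dd54380424592b3a5c040048b2533d6a30109150d2b839f07122861a93d3e0c2450c35620181448a0e81c4b781891430d6a7f902122839114ff40224504cd293080048a114a4ee80389130c7d951606122618fd081208244c31feb8100c489864048d98109130c8393fd01122619bd13f200244c320660a004489169044ee838910103388e306122061b108880a244036b60fd01048817b0d1e0018910262b98f60212204e73169802244075de1764104878692c47183090d27a08f4505121a228919520824349e868fe40c48693d1443301090d27a3821901121a38e351ee0024349e9607f81c48609dbc19483090c000030f4051218000061e60624304eea46200848609ddd76080890c13bcaf02001218277b3e600e242c248e21f818485900cc69482890b08e58d0904121618a141e806242c249252f4044858624cc0600090b08a4ae8007121419452d380c24284efa20a41448509dfcfaa02090a0aeaaf440212142781121202242827965ba40048503fd586f03890913c1a80d061212278510580a24240000c378104848000186e818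90913c3890a021212000061b6022424221e46101c48403b2d6d80309080849a3af0512100ecd5ce0082420260e60300c48403b3c19b01090808d294c00012100ed122ca0c24183f0a751c1448307e1c73e8209060fc4953803120c17c3570a0424183f1a09e80448307e3d19d0009060fc883a407120a43e340140c24142de20674104828519d010018905216b974802120a126d47a20224141dde53bc004829019482c838903000030c4061206b00b2e0e0a240c2c3680381048183f1c47f0109035a1a88b30112060f9d5e2c00240cb8367a781c4810000185e830902753da6b7051204402f586e0824088d06239c0c4810495507a0109022b9ea82301120414375c8a0e240425d215fc1848084bac5d6028901096996da0412021207541a0624040000c2c80848084bb4600800901000030b00712000ef3296e0a24001dea53001048003bdc19b018900077c91650212000f0124e60224001df646180048003bf4c060388fe08dc9e9b0611fc1231354a0a23f81f92240c0c47f000018528108fe0a7eaf020111fc11d53d800023f8220e22741c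47e888049480388fc09ed89f90611f818b129800a23f022b6ae041047e0ffc40d08188fc089394ef0011f813dd1ba60e23ec772eb3fc1847d954fd1e90288fb232e8dc70411f6e3873fb60e23e8800217ac1847d100245360288fa0ac0b0380411f413d9401c0623e8800691540047d1001539c8388f95b3c95020511f2df6906640823e59bbea7800c47cb1fec8200108f9863382530111f30c6d04b40023e58fd241581847c0de8c1b10108f81bc5b06f0711ee460536920c23dc6f668f481447b8ded46e38208f71bdb9d6d0211ee37bb607c0223dc6f7a7cbc1c47a0ddeca810288f41bbe83320411e8377f03380623d06f0241000847a0de0c1298088f41bc2825a0011e8378720ac0c23cc6d5634c0144798dab46e30208f31b5785270311e636b15c080423cc6d6646d4044798dad48da8008f31b5c97320711e4000060e60c23c86f120d88144790513c2d10188f2000030700211e4141111160223c82c96b5100047904cfd73f8388f1085792980611e211131a540823c4222ab3040c478842c46008108f1088b889d0111e211191a5a00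23c422362ffc0c4780defc0be0008f0000001790711de378d36920c23bc6f1e8f48144778de446e38208ef1bc99d6d0211de3795607c0223bc6f2e7cbc004778de9c0be0188ee000001790711da5eeb20800a23b4bdda17fc1047697bdc8f48188ed000030580211da5eef317a0223b4bde23df00047697bccba30308ec229697560511d8466d044a0823b00000c1480c476119c44f00108ec233997520111d8467540140023b08cee27301c475800018268308eb788597450511d640e147660623ac0000c1280847599f4cead0088eb000030480011d614d75cf20e23a8269200dc1847505ad49778108ea204faf280711d20ec52af00c23a4aea611c41447483f8d7420208e9000030400311d257553e580223a40000c0f80047495d5c8368388e8233c92900611d09f0145280a23a043fa05f0104740553d03c8108e8000030380111d00000606e0023a06f7205ec1c473908cc43f8308e7211a99510511ce467b120408239c24b2bda00c473800018188108e7233eac280011ce422547660c2398cb020abc144731960c1000208e632c29b2703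11cc6587173e042398cb129164044731962c5fa0008e632c684af0711ca3b8b113e062394770e037c1c47216e4c7ec0308e42de282000411c83d89194e0623900000c088084721963ccb80088e42af9ac0c0011c85b9905400e238c451a116418471881944880288e32640844f0411c61a49148a06238ccb2693000447196e6c7180008e31147a7fa0311c25bbd1c5c0e23804a4a8e801847005f249230288e032cb871f0411c01a051c6006238036524fc008470196652618008e0000030100511be0000601a08237ccc8e01140846f800018060088df000000020311bc000016840a2375a58a2c981c46e0b2142788288dc16438c5e0411b80000600e062370591619880846e0b2344030088dc164784830011b82c9103da0c236c592613201446d8b2547d88208db164b82a6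
def jm_6 : ℕ := 0x1a9b2b001a9b23001a9b1b00185213004bbc13000000000001c431000fe72b000fe7230047be3b000fe713000fe70b00018971000a9833000c8f2b004a232b001fa613000e162b00133e13000191f100022f590047111b003b6a0300001fc90041d213003b6c0b00010509000106090000fc7100402e23003c9b3b004ab5130001c3a100004361000d260b000088e9001df103004a021b000007f100000000000a912b0000000000000761000d5d13000d5d0b00000000000a9b0b0000000000000771000a8b23000d800b000a8b0300020d69000019890028be230001a6a90028be13000197710001d5b100215a3b000230810027ea230027ea1b0027ea130027ea0b0027ea0300183d03002e6e1300000000001cff23001cff1b00006c79001cff03000000000001f8f1004a8a13001a232b001a2323001921030018620b001a23030001c371000cbd23000fc42300000000000fc413000fc40b000fc403002bfd3b000f2033000f202b000f201b00004fc1000f200b000f2003002f1f3b000217e100180613002f3f1b00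004c99000000000014c43b000a8033000020c1003cb23b00019e51000e322b003e171b000e32130001f7a10044932b000f5e3b000f5e33000f5e2b0001eb710001ea49000f5e13000f5e0b00015911000010d9000192b1000f22230001c3790012752300156b3b0013231b0024721b0000f181000a7c0b000a7c0300000000000a7b23000b081b000a7b1300000000000af81b00005061000a7a2b000000210041d51300467503000d7a2300005071000acc0b0046f80300184823000a790b000a7903000c180b000c1d2b00010651000115e1000a780b003cd32b000a77330026162b0026162300137f03000a7713002aa403000d5e0b000a75130000bac10000000000000021000a7313000da92b00000fe9000a723300000000000cec2300000000000be023000a7133000a7123000a711300000000000a7033002aa223000af603000a701b000a7013000a700b0012e23300000339000044e900451d1300000000000bda23000190e10015f62b0001bf21000089490010ee130015f60b0015f603000ae93300018931000c872300017ee9000c8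713000c870b000c870300019ad900115f3300002181000ad123004a3a230000e189002ea91b0044ff2b0051e52b004c5603002aa3030025e8130044c61b000b662b003b15130001cb09000000000028030b0018610b004a501b00004381002aa41b00262c23000a681b00262c03000a6703000a760b000a6513000a650b000a6423000a6413000a640b0018ce3b0018ce2300001f890018ce1b00015de900014db9001862230000435100186213000182c10018620300228e3b00004831003da20b004eac1b004eac13001ce22b000af523000a603300000fa9000a601b000a600b00380c13002cfc03004f3913002e622b002e6223002e621b000a691300113d3b000a5e13000a5e0b0001822900105333000e170b002688230026881b000a690b0026880300000000000c352b000c3523000c351b000c3513000c350b000c3503001bdf3b001bdf33001bdf2b001bdf1b001bdf13001bdf0b001bdf0300292a3b00292a3300292a2b00292a2300292a1b00292a0b00292a030051e53b00000000000000000051e5230051e5130051e50b00000000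000df83b000df83300000000000df823000df81b000df813000df80b0015373b001537330015372b001537230015371b00000000001537030037b5330037b52b0037b5230001fa310037b5130037b50b0037b5030024c43b0024c4330001f3490024c4130024c40b0024c4030001fc71000e2f33000e2f2b000e2f23000e2f1b000e2f0b000e2f030024c23b000000000024c22b001906230019061300385e2b0001f2810015d13b0015d1330015d12b0015d1230015d11b0015d1130015d10b000ca93b000ca93300000000000ca923000ca91b000ca913000ca903001c8333001c832b001c8323001c831b001c8313001c830b001c8303001c803b001c8033001c802b001c8023001c801b001c800b001c800300000000001c7f33001c7f2b001c7f23001c7f13001c7f0b001c7f03001c7e3b0001f739001c7e2b001c7e23001c7e1b001c7e13001c7e0b0001f561001c7d33001c7d2b001c7d23001c7d1b001c7d13001c7d03000f8203001610330001f6510001e99900012a490001e9510001d2d1000145e10040383300182b2300000000002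2bc2b0001c5c10000bee10001be810001ad9900014a61003440230034401b0001c60100006f010001b1910001eeb10001bfc1000c843b000c84330039412b000c8423000c841b000c84030001c4310001fcf1003b9023003b901b0001f7f10054102b0001f83100154d3b00154d330001f6c900154d1b00154d1300154d0b00154d030018ee3b0018ee330018ee230018ee1b0018ee130018ee0b0018ee03000a533b000a5333000a532b000a5323000a5313000a530b0015503b001550330015502b00023619001550130015500b000a3a3b0019813b0019812b001981230019811b001981130019810b001981030000000000020651000205f100020119005410130054100b00008211002a633b002a6333002a632b002a631b002a6313000212310000f221000000000000cb2100115e23000a3a1b000a3a130001fa31000a3a03000a352b000a351b000a350300014c2100023621003b9e2b003b9e230001fcc90001013100000000000220d1000000000000159900005dd900115e030035f91300362a0b000223110001f8890013421b000224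e10002266100022901001dd8330001d4490000db11000a3113000a310b0001d0310001ec5100000000000229210001f5810001f6b1000221710001b2790000000000017e59000f82330001bc510001baa1000f82130001bc490001cef1000add3b000add330001e8210001f601000add1b00000000000add0300279e3b000238190001bb3100022bd900279e1300279e0b0001caa100188b3b00188b3300188b2300188b1b00188b1300188b0b00188b0300015a21003f293300000000001cf523001cf513001cf50b001cf50300166c3b00166c3300166c2b00166c2300166c1b00166c1300166c0b0021062b000a251b0021061300210603000000000045ad2b0001aa210045ad1b0000000000018ef1000195d1002a5013000a2313002fa33b002fa333002fa323002fa31b00018061002fa30b002fa3030021333b000233690021332b00213323002133130000000000193523000169b10042ce1300000000004e0423004e041b004e04130000000000021e010002212100010e0900318123001b2903000084d100318103001e9733001e972b0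01e9723001e971b00018e1100000000001e9703000000000010683300128e2b0000000000128e1300128e0b00128e030000ffd100109c13000b812300015ca9000b810b000b81030001a8610000a881000e0a2300391d2300391d1300391d0b00000000002e0d2b002e0d23002e0d1b002e0d13000a180b002fa63b002fa63300345913004b6823004b681b00000000004b68030000575900018e2100000000002597030000000000022fb900212a03002078330020782b002078230001686100207813000c762b002078030019b93b000168410019b92b0019b91b0019b9130019b90b000047a1002a5533000000000001a9590011d4130011d40b000c2a1b0001c8c1000238c100019df900418d2300418d1b00418d03000183a100017ec90025cd2b0025cd23001d683b001d682b001d6823003b861b000f0b33001d680b001d6803001f053300000000001f05230049fd3b001f0513001f050b001f05030024b12b0024b11b0024b1130024b10b000000000000000000000000000a0b3b000a0b2b0047a323000beb13000a0b0b0026403b0001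8e01000ce52b000013d9000ce513000ce50b0002008100123f2b001a372300000000001a37130001ad61000168f1000227510019352b000000000019351b000000000019350b0019350300017ae1000213210011fc230012341b004ecd230012340b001234030033613b001c6c3300000000001c6c23000a0b03002784130038f03b001a41130038f02b000000000038f01300426e23000a091b0011af3b00000000004ec30b000146d1000a090300318a0b000004010001f9610016602b0000c17100000000001660130016600b0016600300017781000a002b000a00230040fa1b0019a91b0040fa0b0040fa030016383b0052603300200313001638130016380b001638030001c74900206d3300206d2b00206d2300206d1b0025cd1300206d030025cc3b00019c890000a0190025cc23000150510025cc0b003185030025cd0b0012443b0033e92b005469230012441b0001f0e1000000000054691b0042583b0001f9e10016e32b000218790000d4090016e30b0031070300020011000000000001b7a10001280100408a1300381b1b0001fea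10042db3b00020b21004ee72b00454c1b0042231b004ee70b00000000003ee73b000000000001fde90001fa690001ff210001fd39000cfc1b00454c3b00454c330001ffa100361b130000000000454c1300454c0b000a322b0024e333003b8f2b0024e3230024e31b003b8f1300017d790001bb9100021a21002e4d3b0001b11900004a31000216e900000000000217090001f93100019af100000000000025a90001dde100021bb1000206f9000219d100020c4100118a330011dc2b0011dc230011dc1b0011dc130011dc0b0011dc030001a13100014c4900205d23000c2a2b00205d1300205d0b00205d0300020641001e9833001e982b00000000001e981b001e980b000000000011e03b000000000011e02b0011e023000000000053b9130011e00300003fd1004dd23b00000000004dd22b0011640b004dd21b0000bc09000109f90000aab10001a0790012092b00000000001209130012090b0009e70300014eb10001ada10012062b001206230001fce100020f710002076100018aa90000f7390009ed0b000200310000e3990031050300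000000002e4d0300010dc9000000000001a851000163490017ab030009db2300003fa90001830900001ca10033331b000201310028b133003d592b0028b123000188c10028b113003d590b0028b1030048df1b00014e41002a2123002a211b003f1703002a21030009d30300015df100016e1100206e2b00206e230009d80300206e1300000000000021e90009d92b000068b9000164410009d9130009d90b00018ad1000a1a1b003d5913000df523000df51b000df513000df50b000a1a3b0052133b00366933000c152b000c1523000c151b000c150b000c15030001cfa1000000000046532b00465323004653130046530b0009d81300019e790001b66900000000000195190017531b0027330b001753030011643b0011642b001164230011641b0000000000000000001164030014b9130023423b002aae330001dba1001db903002aae1300018e3900484a03002d5d3b0038e02b002d5d1b0009c60b003c863b00137333000e622b001373230013731300009f910001a0f1000225b10027bd33000e772b0027bd230027bd1b0001db690047f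8130045683b00015b210000aaf1004568230045681b0038de130026821b0001cf4100018d590009c21300000000000b8d1300246a2b0001874100246a1300246a0b00246a03004a5f3b00359513004a5f23004a5f1b004a5f13001aac23004a5f030000c0c900183a13001e052b001e0523004d4333001e050b001e0503000000000001e5290042ac2b0034e71b002cbe1b0001b0c900021491002ed71b0009ba1b00019a6100014ad100000000002a252b0026b513002a251b004b3613002a2503000060290000a4f10009b7230009b70b000c7a2b00020fc1001af90b00236a2b00236a2300236a1b00236a1300236a0b0001f37900236b330000c65100236b2300236b1b00236b1300236b03002d0e330000000000003f41002d1023002d101b002d450b0000c241000003b100000c0100003ef100003ee100000000002d480b0037dd1b00127f3b00127f2b00127f2300127f1b0012d13300127f0b00127f030012d5330009ab2b0000308100003f710000603900003f6900008d09000204b10012d423000ca21b00002c9100003f91001e0e0b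00255f3b0009a8330012d12b000ee90b0000003900000041000faa1b0000a8d1000f1933000f192b0001f511001aaf1b000f1913000f190b0000000000014d61000146c100006019003ee413004ecd2b001aae0300003dd90009a22b00000000000000000000000000099f230000003900000041000ace3b000ace2b000ace23000ace1b000ace13000ace0b000ace030001e1b100148b33000b26230001daf900109a0b00000d71001e1c0300019bd9001e6633003b3e2b0001b3b9003b3e1b003b3e0b001e6603000024610001cc310045bb23001876230001c981001876130018760b0001aee1003a062b003a06130016231b000997030009953b001869230018691b000995130018690b0018690300017659000151110018682b00186823000018290018680b00000000004a2b0b003cc1330018672b001867230018671300418713001867030016d43b00340d030018662b001866230018661b001866130018660b002b733b0045e23b00021b310014f71b0001f32900020de10014f703001813330018132b0001f1f1003e9c3b00181313001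8130b001dcc1b0052222b00228f130010772b00000000001077130010770b0000c6c90014f33b0045791300005ff10014f323003a96230013d11b0014f3030014f23b0014f233000000000014f2230034671b0014de0b0014f20b000060010013d21b00019529000fff2b000fff23002e9c13000fff13000fff0b000fff030026ea33000049490026ea230026ea1b0026ea130026ea0b0026ea0300020e7100128c33003efb2300128c1b00128c1300128c0b00128c0300014c2100473d3300473d2b00473d2300473d1b00473d0b0000000000000000004bf833000194c100109c2b000b9013001b2f1b000b9003004f763b00015d0100015061000174e900019cc9000120890052790b0002121900527a3300128f3300527a2300527a1b00527a1300000000004ece0300006071000005610000000000005fe100005fc900000dd1000046410025101b00002df9002d9c330000fc41002d9c23000165c9001db713000197f10013221b0001aab1000197010040ec1300503f1b00503f1300503f0b0048de1b0001eac1001c113300011331000079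11001c111300009b010016990300017b210000aa110009971b000974030009b73b0009722b0052e93b0001b261003dc72b0001542100485f130001cbb10001d92100003fc100006e21004a3e330001faf10001c7210037f21b0001cf11004a3e0b0037f20300012fa90037f0330037f02b00096c230037f01b0037f00b00096c03001167130018952b0018952300096a1b001895130018950b0009693b004728130012022b001202230012021b00120213001202030001c1f10001bdb9000191910000000000016f2100018f91000175990000000000442a3b003cfc3300442a2b00442a230021962300019461001ae52b002d4f2b0001a9410052812b00528123000052090052810b0001922100015df1000000000042bd2b00006d110042bd1b00016e6100016b090000a7c10052db2b0052db230052db1b000000000052db0b0052db0300000000001f222b001f222300018551001f2213001f220b001f2203000d8d3b00017b21000d8d23000d8d1b000d8d13000d8d0b000d8d030053a83b00018781000000000053a8230053a81b0053a80b0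053a80300019121001f863300474f2b001aae1b00016c8900017b41000127f10001b3a9000162e10025fe2b0025fe230025fe1b0025fe130025fe0b00020bf1000159d1000c8c2b00000000000c8c1b00019601000c8c0300000000001ea12b001ea123001ea11b002f1313001ea10b004ec01b0001c9c1002f121b0001ad310001c2590026022b0026021b000000000026020b0026020300001af100097c03004ec12300002d810009551b00095503000fcd1b0023442b00234423000e841b002344130023440b0047e503001cfc3b0002291100000000002eb01b002eb013001fad03002eb003000bc13b000233c1000bc12b000bc123000bc113000bc10b000c7a3b000226510009b703004f7d0b000c7a13000b9123000169210002246900023191000000000017da33000234f900022b51003a5133001fd82b003a51230029c81b0001d5c900000000000e851b00403a2b00403a13004bf73b0000e761003b7723003b771b003b7713003b770b003b7703000c793b00000000000c792b00000000000c791b000c7903000cb42b0020d2330020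8a0b0041231300122e2b0020d20b00094e1b0000b9e900472533000163510016ec23004ebf230016ec130013b4230035063b003506330035062b0035061b003506130035060b00350603000226c9000196d10035052300217b1b0035051300017d690001931900179b3b00179b3300179b2b00179b2300179b1b00179b0b0001b3e9002ec63b002ec633002ec62b0001b8c1002ec613002ec60b002ec60300225a33000c9933000c992b000c9923000c991b000c9913000c990b0020033b0001a5c90020032b002003230020031b00000000000000000001a3d9000cb83b000cb833000cb82b000cb81b000cb813000cb80b000cb803000b773b0001c921000b7723000b771b000b7713000b770b000b77030001728100478a33003d1a2b0000000000016071003d1a0b003d1a0300097013002b3b33002b3b2b002b3b23002b3b1b002b3b1300019cb9004ab02b004ab023004ab01b004ab00300000000000022410001aff900015b8900004de10001ff310001c70900003eb10009350b00539d1b00018861001cea2b0022a823001cea13001cea0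b001cea030001678100000000000178010000000000218c0b003bd313003bd30b0047153b0023cf230001a2f90001656900213d2300015621000186190001cd010001d25100000000002d911b00019e3900000000000230090023703b0012400b0026b51b0001ecb10023701300015e21002370030019553b000acd33000acd2b00273123000c131b0035160b000fec1b00097e1b0034ed130000c4d10034ed0300016c59004d78030035a613000160c9003518030035111300451b1b001e7b33000b853300000000000b8523000b851b000b8513000b850b000b85030033041b00015731001e7c2b00097c23001e7c13001e7c0b0033091b001c663b00000000001c6623001c661b001c661300000000001c66030001903100019d81000169a9000027090000000000000000001aac3b003de4330000ea3900420123000082c100015741003e5e2b000063790001aa010000000000288b3b00288b2b00288b2300288b1b0012e33300288b0b00288b03002d6f33000f1a2b0000be31002d6f1b000000000049e02b0000000000003d410000000000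12e613000000000009a00b00091f0b00002d3100091e0b0013f13b00288b13000e4b0b0013f12300015db90001b619000c091b0001d0010001ebd10001e679002f421b001970330001f101001970230040141b0001b8d90036710b000198e1000000000000c549002b503b002b5033002b501b002b500300014de1002b4c13000164d10018b6230018b61b001aac130018b603000181d10000cff900175113001aab23000000000000000000016a990001a45100425b0b00400f230001e6f1001aac0b00400f030001f901002bf43b002bf4330032c72b002bf41b0001c8810001e191000173690017493b00174933001749230017491b0001fc310001fa5100174903000189c10001ee510018ba330016c32b00017fb900301c030001a0910001c4d100090f23000bf6330041512b000bf623000bf61b000bf613002dbc13000bf6030012573b00000000000000000012571b001257130012570b00125703002e313b003f053300430a2b0001fd51002e311b00006c790002120900015e11002ca633002ca62b000204f9002ca61300020b0100021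661002cb43b002cb4330000000000000000002cb41b0000000000510a0b0012943b000214810012942b00020c190012941b0002107100129403000e8533000e852b000e852300296a13000e8513000e850b000e85030001b1790009d733000209710001b43100020dd1000219790001ba110000000000006441000204490030a623002f6b1300021761002b731b000000000000c1310001ba990042a703003032130038433b0001e1d9001fd23b001fd2330001c31100020f4900000000001fd213000000000012973b0012972b001297230012971b000219510012970b001297030002101900020e990000f971000000000002077900020fd9000212c10001eb110034e33b000084e1000211a90009f223000212490034e303002fe13b000193090045a22b000038b90021f43b0001bb510002060100020ad90021f41b0021f4030000660900128123004804330055792b000d911300004cb1004db803001398330008f8130001acb10008fb330008fb2b0008fb230008fb130008fb0b0008f93b0008f92b0008f9230008f91b0008f9130008f90b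0008f903001ddd33001ddd2b001ddd23001ddd1b001ddd13001ddd0b0001cd71000000000008f83300207d2b00000000002e781300020381002f2813003e553b002eed33002eed23003e551b002eed13002eed0b002eed030008fb03000000000008f73b0008f7330008f72b0008f7230008f7130008f70b0008f51b000000000022433b0022432b00017f0100000000002243130022430b002243030001ae59000cf32b00000000000cf31b000cf313000cf30b000cf303000000000000a5a9000057990000000000015a19000000000002081100020bd10055563300014f81000219e90019bf33000216a1000000000019bf1b000000000019bf0300545c3b0037612b0008fd2b000042e900000000000000000008fb1b002e373b002e37330030ba2b00020e31000000000030ba130001b5e9000c0633000c062b000c0623000c061b000c0613000c060b000c06030001c3c10008e51b000f383b000c093300497f0300000000003a9e1300019201000f38030019313b00310433000eb0330030fd23003a9d1b0047610b001931030047622b0001e431005388330027452b00476e230000e569002745130000000000000000000c5333000000000000000000000000004eb91b000b9b3b000b9b2b00000000000b9b1b000b9b13000b9b0b000b9b03000f6433000f642b000f6423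
def m_7 : ℕ := 0x618c47b331af60a3188f66a0bdc0c6311dbfc27f010c623da08bd10118c4698f392e003188f67a4ae81c63082aad916830c613d7788a60418c27af11776063184f5e63284086309ebd47bc808c613d7b844d0018c25eff64820e3180f5f25814186300977547a828c603d7d922e0418c07afd18ca063180f5fe46a4046301ec047bc800c603d8182150718becef305cc0c317cd0c25cf41462f9ec15eb8020c5f3d83a7760218be7b094f0e02317c9f12d72c0062f9ec2c650838c5e2677a5de0618bc7b0d41c40a3178f61ed2401062f1ec445cd818c5e2a47b2410218bc7b133324023178f62a26a80c62d9c60d4d4000c5b38c2a9a50518b50a6d1676083168e30e05140462d1c6240a1038c59677a99330418b2718d5344083160e31ea6841462bc29dc628810c5767c7a1f70218ac66ff06380c3154f6d627801462a8b814a5c020c5526888b530318aa34277f42043155388e48280462a8b81c3d6800c5562ed99dc0218a83059200e023150cc16504c18629b554d807028c5333248ae80418a6d59f32b406314c0000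175404629c35fc572838c522832b1000618a509637b100a3148607a17ac10629429945a1010c52684592820118a42bff1b7400314a1b562b9818628b42342f7020c51853a8c570318a30d7515c6043144000000901862819b64022828c50495c92b40318a000000baa0431421af22b90146278d46dc30010c4f24c7bc6501189e374f08f200313c6a46070c1862717f84379828c4e00003fb004189c5fe54e04063138bfde45d80862717f9caac008c4e2ff4821b00189c5feb4b2c0e31342316cf8418626b68f4bb2828c4d2b6a9c1503189b08c1165c043134a14ed5840462695d9d7d3800c4d38cba9bb07189840bd184c0c3130684a19cc106260c1adb00018c4c6781a383021898341130c8023130682a0f64006260d0ac6f8838c4b14e6921e0618965de909660a312cc08257c0106258a834267018c4b14e7883d00189632d568180e31280000042c1862544dec6e1820c4a68fba42f07189224491e3c0c31247bce0f8c146248cc84b95820c491ef48405031892325328900031247c1aeae0146240000000a820c48000000140218911a4b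74e00231221516353414623c265c6ce818c47845e8d7a02188ed849579202311d9df60e7c00623b6e04ec5010c46854ebf7f02188b0a5f166c08311000000e14186213d80513b028c4200000378041884000006ee063105a3c6cdfc04620b62a513b000c4168f2b37c04188102317a2e063101b63649e008620362b493b808c4000000088001880000024ec0030fccc820dd01c61f09a846de030c3e3c649b3004187c312953220630f86c7a2f940861f3464d7f5808c3e853c8b8400187c30c51a700a30f5b15ea2d80c61eb3dac1c1000c3d67b6837d071878cf55246c0a30f060460bd41061e0a84da06010c3c150394710118782a0903b80030f19eb60dd81c61d89ccc48c030c3b1209923b05187630a17b860830eccc9ee5b80c61db3d741ba010c3b17a298780118762f4711940a30e84d66e19c0861d103451ee800c3a135cb8630318730c9505d80c30e23c7a07a40461b91c0cb07830c36213085d505186c43550f520830d859bee9540461b33d84223838c3536b3921806186ac18176a00a30d48df21b6c1061ab3d94259810c3567b3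887501186a3df1307e0030d5a40a0dd41861a185fc284028c342098ab5c041868512737860430d19ec690b00061a101d40b9838c3215bb8f790618641d8d62920a30c856f213240c6190adecdc3010c3215be96bb0118642b7f164e0030c8532abfd41c6189d434658030c31328c8de90418622b912bd60630c4ea1eb19c086189cbb5941008c313a89a8d90018622c25165a0e30c0c0b221381861834dc4753028c3015c2a95b04186095af6a620630c0d98e57d4046181d455b93000c30301e95f607185e752534600e30b8622644341861704d9de32028c2e221c85d704185c2dd52c3a0630b8622a17a8086170b75c13a808c2e16ec8e6f05185a5df3013e0430b4ea2e2d4c1c61613bc4513828c2c00003f280418587ad342ae0630b0f5aa16a8086161eb5c164808c2c3d6c963f0018587adb06d00c30ac348a991c14615947fd235820c2b349fa5d30318563c6337e20430aca40a9a680461594804883000c2b23f5a0220518547f85693e0630a8dc66d588086151396409c828c288d1a8c18001850a177042404309df2b6182004613a85b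c7d3838c262e1da81706184c40bf18980a309932d20c80106131fb7533b818c264a64b11902184c9145646200309932e272581c61288984923028c252ce8857b04184a59d3654e063094b3aa0e7c086129bbdc4e7808c252ceb83a000184a59d9073e083090807600e80c612100dc485838c232c38b59e06184698e3401408308d31ca43740c611a639d077810c234c74a5a201184698eb251000308d31da82201c61126b6d79d030c222b7aaf320518449add251808308935be345c0c6111ff75f7b808c2250f487f00018446dd17dc60e30846ab28808186108a3a5912028c2100003ef4041843139973ac043086158e4b8004610c2b0c723000c214c7796a707184012ad7c680c3080949a705414610263c47e4820c203934a19603184098f55e6404308131ee5a9804610263e47aa038c1f383f87e906183e59bf13ec0a307d35dea0341060fa842dd35818c1f69d189a402183e00007dc600307d35e248d80c60f269a5ca0010c1e632286ba05183b018b1faa083075b20edda40c60ec3c5d222810c1d6c84b76801183ad90b6ece0030760ab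29f5c0860e3549474f020c1b000004fc031836000001d204306e332ee7000460dc6675f69038c1a461382c4061834d3cd4ad80a306a3322f3601060d27e04881018c1a5120845d001834c65966780e3065370214881860c8ea747a2028c194daf8df80418329b6128fe0e3061b252f21c1060c468cc614038c17327e8cbc05182e64f9172608305d8ca650700c60ba63ec216010c174c7ebca501182e23e52c4000305c72865a240060b1a70c0b0038c154866b44105182a9903237606305537fa087c0860aa64154f0008c154c838cf300182a990910e80e3050c29e11001860a23b64892820c143ef784240318288edd7a520430512c0a81500460a1854cd65800c1429aeb1dd041826e0fb0d6e04304dc1ee8d181c6090517d313830c124dc393e6051824f961734408304937120f9008609152dd462008c1234b191e10718229b57074c0c304536b29a7414608a6d6c20e820c114e16857d0718200c756c600a30404d3a87501060816354a92018c102f56aaae0218206e053dd4023040c1f63a08006081f804edd018c0f47ed81e107181c000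002ea0a303a235e94b80c607444dd142010c0e4ef9816501181c000002a000303a227609c81c606a6445c02030c0d344983ce04181a9913325a063035322a591408606a66044ea008c0d4c8bb52700181a99192e040e30312b8e86581860626da49f7028c0c4db596f8041818e10325a2063031b5fec6200060634cec501038c0b3a6d963f061816473b04f40a302d38ca13c810605a6df46cb010c0b4fa1a108011816991b544c00302d36baf2d8106053dba5cc2018c0a4dc882c00318125cbd62740430253346246c18604117e4228028c082eb0b4890418105d63202c063020baca13c4086041759c134008c082eb484e40018105d6d09d80e301ce1cef31c1860395dc4da2828c074d9685ab03180f131571b804301d366297f80460380001f3a800c074d99b72407180d094f167c0c301926b60abc1060320444e83018c066e668b9f02180c9b3748b2023019367267c40060326cec257838c054d9e8b4e06180a60917a0a0a3015367e7a1410602a6d047fe818c054b259e6101180a9b637bd0003015368a64b4146024691c0e9810c0490d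1b84a0118091a4173540030123486e6a41c601a6d1c3d8030c034777b5030518069b4b0a9408300da76224900c601a6d3502d810c034db28fa20018069b4f43f80230088a0e5b741c6008671c6cd030c01104796a30518021265290a06300433867f4808600842cc478808c0109ffbe35001802126713200e30003ec652e01860007d94931820c00075794be03180044f559040430019092b0dc0460017d75727000c000fb48dbd0717fe44f929760c2ffc89f62288145ff8f5c5933820bff227eae700317fe00007c8e022ffd68debbb4005ff861eda5a838bfe6c5988300617fc21f91d0a022ff83f3624081c5fe8698c942830bfd0d2e83920517fa00007c7e082ff40000f8f80c5fe8697c4c8010bfd098db0dd0117fa00007c760e2ff019ce8804185fe0954cb8a028bfc06f89fde0417f817432dd2062ff01d12bba8085fe00001f1a800bfc00003e340617f665f511000a2fec0000f8c8105fd917347ba818bfb1f8c95b40217f665f77834022fec3d1af068005fd96535930028bfa335e86520217f400000386042fe449e67dec105fc43b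1c435018bf8876488690117f10ecb10ce002fe21d9a21981c5fb899f47a5030bf7332c859f0517ee24f510cc082fdccd6a3ce8085fb8616dbcf008bf70ad184280017ee665d10d20e2fd89e9e05f8185fb197ec7a2820bf632fea3f90317ec660310cc042fd8cbfe0864045fb13d2587b830bf5335980360517ea665110d6082fd617d23684085fac4da4328838bf441e7afa30517e883d14e68082fd1b2ba9a900c5fa20f4d02b810bf441eaa5d20117e8558750bc002fd107b230180c5f9c2b545ef838bf26a48ad9c0617e46b3b3b540a2fc9b2c26a780c5f93658c8fd810bf26cb282b10117e4d9672eb8002fc9b6e6a018145f8c7bfc5f1020bf16cb491f90317e200002230022fc5b7eeb7c0005f8b65acc57038bf06e119f730517e10999188e082fc19db653f0085f83709c91c038bef000001ca0517df19297b80082fbe38a2f6440c5f7b6835cab010bee6f628f7e0717da7cd940940a2fb55b7abb98105f6ab68cc1a818bed6c5a8fb20217dacc4d10e2022fb55d0ab290005f6ae05db82030bec0c0683900517d8180f1114082fb000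00f7b80c5f6183bcfaa010bec0c0988e90117d818150aca002fb030227d501c5f5a647daa1028beb4c90b5410317d6dc692d54042fadb16eb750045f5a6495a9f038bea439789250617d460f5610e082fa9b172b5040c5f5362ec881010bea2314b5af0117d4bfef5dc8002fa9b17edeac1c5f49e8fd1c2030be963b287fa0517d249296b64082fa5b1825e3c0c5f4b1ec4167800be95bf491c80617d0d8c510420a2fa1ed12f274105f40000040f838be75fe585390617cf0edb11260a2f9d5e06bcb8105f3b632565c018be700003dd00017ce7bb31c58082f99a76a23500c5f34295dd49810be684beba970117cd09817518002f9a146aea40185f28cfc4521028be51cb692b50417ca29db12e2062f945e9212c8085f28d8fc61f008be519f9972b0017ca2f6b0990042f923e5635ac105f1b65e47f6818be36d058fec0217c6dc5f1fd6022f8e18a25578005f1bc6dd16d028be26c6988740417c51efb17e20a2f8612aaf2c0185f042d1c358828be06ef988260417c11cf16ea60c2f7de56a1c30105efb6364431810bdf85698bf30017bed8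db10be0e2f7a1cbe9488145ef472edba3018bde8741955b0217bd1c9f6e8c022f7a43cedd18005ef472bc12b810bdd90ec8c950617b8db9900720a2f70000000e0105ee37d34000818bdc000000370017b909bb74940e2f6db1ba214c185edc2bb5360020bdb8e46b7450217b60000109e022f6dbbfe2138005ed80000412030bda857491100517b51c65795c082f6a3966dd0c0c5ed37fac095038bd922ba8f490517b245776362082f649c5a67540c5ecb67cc7b4810bd9601887ea0117b27b99432a002f64a6ea6f4c0c5ec4323c41b000bd851d581930417acdf53002a062f5800000d88045eb000001b0000bd68e2ab8d90717aa78170cc40c2f54f782c6dc145eab778505a820bd578c1b7220117aad9f7103c0c2f51b3f22068145ea0000040c810bd46cfd88160117a8d9fd102a002f523e2a367c185e9c3c2c408028bd36e41975d0217a6da01103a002f4c00005d601c5e92843ce39828bd25088ab790417a4957165f0062f49422a66b0085e91b4058d3808bd2508c91d70017a4804f65560e2f45122620cc185e88d54469c028bd150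90bb520317a2a123222e042f45424a803c045e8a849c650000bd15094983d0717a07ab348d60c2f40a032ac70105e8284b45c6818bd036cfa90a0217a0a1310cf2022f4124dec83c005e8193d4d9e838bcf326a856706179ea1370e5c0a2f3d42723eec105e7a84ecb33018bcf3137b1e901179ea13f796c002f3d42823eb81c5e62850c161830bcc50a282c2021798a147057e0e2f28838e65bc185e516c14495828bca132c97140317945b077a90042f2a17528fc0045e516c2c429800bca2d86baf10717920beb6bf80c2f240000f568105e494b444eb018bc93405a762021792f5b37268022f25eb7eb984005e4969b5065030bc88a188672051790f5d5343e082f213266f24c0c5e4279158a4808bc868fa8df7001790993b791e0e2f1e16d235a0185e39b174670828bc70db3a4dc04178e3f752d7e042f1cdd62b638045e38d11412f800bc729528bc607178c35332e2e0c2f185936bff8145e3100a4516820bc60db1973503178c6bd975e2042f18a5462f28045e314a9c5e3838bc50f9d973506178aea3b675a0a2f15eb5ee51c105e2bd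6a5ca7018bc5137c9bf902178b0b6b10a6002f14470e2dbc1c5e20edd4652028bc401c6a82e041788084f0f76062f1034769e78085e201d85566008bc407d49b1d001788137f54a40c2f0c8dee632c145e1a239c82e020bc30e56b6c5031786d30170fe042f0d11d6362c045e1a23b47db000bc33c45b88c071784c8874fd60c2f09631e4c38105e11897d8f8818bc266fbaa2e0217851ee3779c022f0a3dcef25c005e136814b43838bc16b969a62061782912164760a2f05b7861b7c105e0c70dc554818bc16ef19314011782d72f1f4e002f058852a8ec1c5e017204401030bc02c5ca7460517810973757c082f00e1ae24ec085e028f1de80008bc038f79b36001780db4124f20e2efdb64a13f0185df986bd887828bbf6d93af4803177ecdff5442042efe3e220938045dfc7c4ddb6038bbe68cca86406177c61334ba60a2ef9a336a6d0105df34674424018bbe68cf8fa402177d1f610424002ef98faa0b341c5de9ae5c91c028bbd35cca48d03177ad33d2d46042ef58d3a0fb0045de9782dd51800bbd2f0781de061778654377c40a2ef0f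21248e8105de28f14d18018bbc4f94b527021778a3c90cf0022ef14796f034005de28f34bc6038bbb2bc5896506177645114e820a2eed0022bc800c5ddaa7ccb78810bbb537c9d4701177680153a9c002eedb1c610101c5dd3c11479a820bba6c739acf0317751cdd1bde042ee9b1d66b34005dd0000005f838bb963878f710617725c7b1c060a2ee5822a40fc105dcad85c2d4818bb965688813001772cad375fc0c2ee1b1dae6e0145dc3694c245020bb800002cb007176ebe5d0ac20c2edd815a6a90145dbaf165dac020bb7621ea77f03176ec33b3e32002edd8d067c141c5db363c4776028bb686dc825904176ca17d285a062eda1b5e2cac085db436c4599808bb686d98b1e00176d0db5164c0a2ed400003c34105dac4e1dcea818bb56904b83f02176a00001db8002ed63316e708185da375447df018bb400000fbb021768dd530e7a022ed1e40a5574005da37f447dc838bb28f0d828f061764fc8b1c020a2eca3c3a35f0105d9488bc5b4010bb250cf8368011764a1a106ce0e2ec40000f328185d886b258db028bb16c7b967f0417626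f9f665e042ec5b1f21ce4045d8b63ecd64838bb035e6ad780617611c092182082ec239b22e381c5d71b6144c9828bae78bdba0f04175cc6875f00062eb8d3daa364085d70b06c19e008bae160e883d00175d0df9159e0c2eb4bbbe4600145d6a8774e7c820bad50ef854b03175adeb103f0042eb4d88ed370045d6a878c15f800bad50f281f80717583a993fa40c2eb2374e29fc145d635d3cd09818bac6c6a87f0021758d751246a022eb238bef29c1c5d5904852cb830bab1d74a7ab0417568003520a062eadae9648d0085d59b214ec2808bab6ba6928f001756dded10960e2eaa35bae1fc185d50fc4cc80028baa3d2999aa041754571b2534062ea9aa56a32c005d546c95bf8038ba9633fb73806175261b361fe0a2ea5a3fa919c105d4b631c410010ba968ff9f03011752a89309ce0c2ea1b6d24c88145d413ee481f020ba88e35b8bc031750db6d353a042ea2365edfb41c5d00760ced8028ba04c989a1f0417403fbb2366062e81326ac524085d0264dc0fb808ba04c9c8df70017403acb45a40e2e7cd0e2843c185cf9346c95a828b9f4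70f9f3803173e993f4c06042e7db24e3018045cfa6505010800b9f4ca1a89007173c1fdd0f800c2e79a7262714105cf364ac614018b9e6c96b84702173d1e770434022e7a3cf2ddac005cf253fd8c9028b9d8f3d826004173a00001a62062e763be63b78045ceb64cdc7c000b9d6c9a92e10717380000038c0a2e700000e374005ce00001c6d038b9b2d2984f1061736588d56b80a2e6d328ace9c105cd8b225803818b9b6929b9d402173699491f72022e6d3296120c185cd42abc318028b9a8f408294041734000073c8042e6a44b6e4101c5cc029d52de030b98109b9b99051730212b70ba062e60425a9334085cc084bc214808b98109899050017303f5714a20e2e5c4e023e70185cb8d475c2e820b9700003c6403172e27070c9c042e5c4bf2bfe0045cb9264c14f000b9713818dc607172c13211a100c2e599546f034145cb09394ef5820b96861b90ce03172c000078b6022e5870228f74005cb43c0c175038b9520918eb400172a3f690386082e4cc9f6305c085c994adcc88838b9206d4a6560517247039094e082e48e0763f240c5c91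c0f4735810b92381f9e2e0117247041393a002e48e0864538145c88ef6d59b820b913bf1b23103172308333272042e44efce2818005c89dfec367838b906024bb090317209ebd0322042e4241f63314045c826545983800b906251a0a707171e000078860c2e3c9976cb80145c7b71acb53820b8f47acb48f03171ed46124ac022e3d7e1a79f0005c7af59417d838b8e4847855a06171c720d325a0a2e3a39b62ec0105c7352ad5be810b8e8de2b8b401171d09c374d6002e39ae660d441c5c6c29cc106028b8d8d5bb70004171ad31b4f72062e35ed522cc0085c6a8eb5a00008b8d698fa113051718bf0f3cf2082e317efa59b00c5c630c6c437810b8c5f8a9e76001718bf1f01b2062e2912c619cc1c5c4b01d4c35830b8930aa8836041712c9d10dba062e251a32325c085c4c26546fc008b892da8a66b001712c9d30e700e2e2184c26ad0185c42c9fd034028b8884d5ba49041710f075191c062e21a212af9c045c43442c88d800b886886974b07170e89650ce20c2e1c3bbeb820145c3b6f2d55d010b876de6a8ac01170edbcf1100002e1d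88eebb741c5c300001e0a830b860b36b01005170c00007826062e1989b6a2b4085c3237a4fad808b8600003c1007170a6fcf03040c2e1611ae1678145c2a33f5d9a820b856552856303170acaa71ee0042e151a067518005c2b2aac88e028b8431e4b6f40417091e39040e062e10bb5a5ca4085c2176bd40c000b84853d8c3e0617065d1518780a2e0cba46796c105c180001e00818b832e8c83240217065d1b56fa022e0cba3a307c005c19747d6a0838b822d189bdf0617044bef53e20a2e09639ecb080c5c1371c4b1f810b8223b6ba0d011704bba54b58002e0a35d62d601c5c0a655daca820b8168e087fa031702b6fb778a042e0532ba069c045c0a9d2ce87000b8168e2a5c8071700970d28fe0c2e0042f22dc0145c0371f4370020b808d83b74a021700dd6d0a58022e019f1287f01c5bf8cfa4dc1030b7f133aa4cb0516fed4692c28042dfdb8ee3d24045bfb51b4d17038b7e2f668f560316fc51e352b6042df8a3d6a568005bf147954ac830b7d37a790f40516fa6c5168a0082df4dea25bc80c5be9bd4d519810b7d37aa983d0116fa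6f573300002df4deb632581c5be1a174e85030b7c59acad420516f8b3173e4a062df151aa73a4085be00001dea808b7c606e90020016f86d0912660c2decf6aa0778105bdb4e04373018b7b6db883500216f68e233e6c022dedb4061554005bdb63bc3b3038b7a51c1a0590616f4aeab2f380a2de8b5ba8b3c105bd2b90d5b6010b7a404ca9150116f4c13541140e2de4d40a4ee0185bca656dac9028b796a2a984b0416f2c0e1543a042de5b8c616f8045bcb515c7ff838b78454a8bb00516f040c30f0a082de033e64e440c5bc22a651ba810b78454d896f0116f0222b3c70002de1153e0a781c5bb9e064162830b77384cb1d20516ee70d1030a062ddd154e0ac0085bba2aa4917008b7745559f050016ee8aad0548082dd9155e5c240c5bb30f54d5b810b764559871e0116ec8ab52cb2002dd9156e694c045baaf7c533f838b746377a7d70716e68abb0c240a2dcd157a4edc105b9a226d340818b73456081e60716e48ff91ee40c2dc92e567268145b923fed1d3820b72367fb1a90316e48fff2608042dc920023658005b9240147b2038b70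10bd8b800616e01bfd44560a2dc0311a28d00c5b808e6c681010b7000003b9c0116e00b834392002dc045c658c01c5b7899ac3f3830b6f0c8e92100416de1bf91b66062dbc4cde0fd0085b788e15b36808b6f11c48bc50016de25eb065a0e2db88116297c185b71204d8ab828b6e0e998a3f0416dc928913e8062dba11a6bd08045b709835c2e800b6e1add95230216d635bd08f2042da948d24518185b4937a5c1a028b6945468e720416d28a8f24a0062da532c6283c085b4a2a458c9008b693b56b8490016d28a930d960e2da13cce4f3c185b4279a49e7028b6891148bb20316d0de614126022da244d22a9c005b43798c7b9038b67598682cb0616ce9d0920ca0a2d9dbcca77c0105b3b15154e5818b676f3390020116ce94ad1294002d9c98ba63cc145b3470a5b93810b666f3599350016cc000032660c2d95c71671e0145b2c72440fd020b6590e98c9c0316ca00000e66042d96392a3254105b238084017018b646f9f87150216c8df410e28002d91be861c481c5b189604337028b631e5788b70416c628872540062d8e1432dd00085b1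ae5a422d808b63277c84d70016c63a91659c0a2d88bae22ef0105b1175cd6bc018b622ebe84850216c45d751f86022d88baee1680005b1175e4817038b615e1692540616c2bf352c0a082d8551ca73800c5b0b79cd245010b614cd8b8f60116c2de750ce2002d857e4a15241c5b016384215030b601fe6b5f10516c06af74492082d812a22c94c0c5b0379ec7b1008b600e2eb6ed0016c0de7d2f860e2d7d032640a8185af96fcc1b9028b5f6f3f90e20416be99276a3c042d7e1ba2ea0c045af80001da4800b5f6f40ad5a0716ba7cb910f00c2d75eb8a11f0145aeac1346f5020b5d64dfbaf80316bab9cb3c7c042d7493867138005ae9e57572a038b5a1c1aacc70516b4430b74fe082d693476266c0c5ad4372c573810b5a637988050116b42ceb1196002d68b12a1e24185ac8cf7c69d028b59467b8fa20416b28cf90580062d6519f6c83c085ac9bebd8bd008b59467f82140016b28d0106540c2d61bd127790145ac37a2c1f7810b586f469de10116b11aed1704002d6000000350185abbad5444d020b576f48aedc0316aeb78f4004042d5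dbd2a4e18045abb7a5c7ca800b575bc09fff0716ac8a5504020c2d58a9eaebbc145ab37a64f82820b566f4da6010216acde9d21be022d59bd3e619c1c5aa90444326030b5539d198f90516aabf693348082d5644fa0854085aab0e85345808b55654698be0716a63eb96ce80a2d4c9a1e3154105a997d4cdac818b5362bf9e470216a65ce16e78022d4cb9c60bc4005a98c5c42ef030b523aaf84930516a475610846082d48ea0e60080c5a91d5ad6c1010b523ab194e60116a4756569fc002d48eace74281c5a89cd4d487030b5125d09c3e0516a2dff13f86062d455ce67a74085a8a6535986008b5176f68c9c0016a2edef1b900e2d40f722e85c185a82ff6c8fc820b5000003b040316a0e03d07e0042d41c07e1c00005a83b85cc27038b4e00003b0006169cb21546f00a2d3984626f64105a700001d7e810b4e6ffe845901169cdfff22ec0e2d34d6360090185a6ad1ec6e1028b4d3586860304169ac9e13fd2062d36453ee024085a6b801487c808b4d700387380716984e6f17520a2d30306e4f5c105a60ecb4fb7818b4c2738891002169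81b874560022d3037120960005a60ebe42ec830b4b3d549393071694690741c00c2d28d2123690105a51a42d394018b4a34868fe90216945f895254022d28c25a5bd0005a51a43c501838b4934888222061692368f2bd00a2d24d2263f0c105a49a454242818b49348b831f01169269193386002d24d236ae2c1c5a4342e4326830b48205186de05169048034cf2082d20d23a2d10085a41a47c54b808b483490871200169069234bbc0e2d1ca7768be4185a39e965465028b4729de841f04168e53c532f0062d1ca77e6518085a394f049c8008b4720ffb72c07168c48df39e20a2d1891c22b68105a31232c00b818b462471860402168c48e53782002d1891ce43d01c5a2834dd52d028b453da181e804168a7b450c5a062d14f68e0d40085a29ed24f9b008b453da5847e00168a7b4d0c900c2d10bfae5f3c145a2425adbf4820b442ea6abc4031689097919c8042d111bb66bdc045a22d1a4f92000b4484ba8d7c0716863e0b44000c2d0c7ca27a88145a18c5cc61d818b431ab49d35021686383d6844022d0c62ee2ba0005a18f84443a838b4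21e519d9e0616847b533f040a2d0a14c63148105a1161548be818b426866ae66011684d0cf247c002d08f6ae2ab41c5a0b2854fe4030b4130268017051682604507a2082d04c08e0f401c5a01780491c030b402f0181f50516805e05491a082d0066fa03b80c5a01781cb51810b402f0483ec011680569d34660a2cfe12be2ce80c59fb434491d810b3f6869ae6706167d094d180c082cf8cb5223900c59f196ac471810b3e69bdad2201167c65af11c2002cf8d3329d140459e9982446b828b3c000008c4011678d8cd00720c2cece2ca1eb81059dc29c462d010b3b686aacab001676d3b711a60c2ce9b55e44741059d4257459f818b3a69dc88d1021674d0d705ea022ce8cb72231c1459c997b4462010b39000008d202167026db014c0c2cdc53da11381459b8a7bdab3020b3714f8938b03166e29f3413e042cdc53ea49640459b8a7dceda000b375009a2fc06166cd0db295a062cda14c231140059b00000a54030b351d58830b02166a3aad374c0a2cd0b80aa6a41059a170340a1838b336bc39308061667220b6e940a2ccc5f820ce41059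9b529ca12838b3215008b83061664373b30e40a2cc854060bd4105990ac8da06018b32150282080016642a0b064a062cc40000007c08598c2a046a6008b318d008d4f001662000000340c2cc071766044145983578c381020b307b52b7e703166080e35242042cc1ed562e340459836cec9a3000b306c09aca403165e657d66fe042cbda492e9401c59708e5ca40030b2e0881aeec04165c2dbf24cc062cb852426f28085974230c626808b2e69269bcb00165c246b37940e2cb5a49e8dac1859689e441c3028b2d15d0867d04165a661372e2042cb458466e64045968b09c618838b2c13a696150616582cdb0baa0a2cb059ba0e0c105960aa4cc1f810b2c167082070116582ce3088e0c2cadf93ae668145959cee44a6020b2b32bf81da0316549a5b6f0a042ca9a1bae168045954266c14e800b2a4d2eb783061652d3bb0ffe0a2ca5b73600d010594b577c3ff018b296a1d87fd011652d4d30ff6002ca400001fe81c5940b44c1e3830b2832b0829c05165065631298062ca0cacae8b0085941959c1bc808b2832b481db00165065dd5fec0e2c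9c4a3a7db4185939788c309820b272f0e880503164e5e1f5342042c9e148ae59804593c291c590800b2721759bc506164ca14d04100a2c993d720650105933437c46e818b264f1bb37f00164c9e3b66f80e2c95992268a4185928a785c99028b25195c833a04164a29e506b2042c945c5254e0045928b8b47b4800b25168c88cb0716482d030a620c2c905a0a1008145920b41ca32820b2432e0afca031648656b5fec042c905a220e18045920b4343cc038b2326a79279051646640b16f2082c8cc7fe08500c59198be5bde810b232e4797aa01164664050f60002c8cc80e725c0c5913c6c4329838b21226e93100616431f5f042c0a2c84712e21840c5909ee355ad010b213dc782a801164253790996002c8614922c9c1c5900f85c412030b201f0c82c40416403e1b368a062c8194229248085900f8743c8808b201f0fae020016400000741e0e2c7c61b221201858f8c0c4dd1020b1f186da5e003163e476f0bee022c7da9520b080058f8c0e4dce838b1e3b43971d06163c88fd061c082c79347e26600858f26c4d256008b1e1ea89ba50016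3d1feb1b760c2c746dee0e101458e8cdec012020b1d231da4ac03163a337f099c042c7466c617c80058e8cebc430818b1c8dfe807b051637133f73ec062c6e26eee7e00858dc4dc458d800b1b89b98b1b04163513391634042c6a267a2c6c0c58cc6765cf9008b198ce78b1900163319dd73e4042c5a33a22c641458ac41c4230020b1581afaf3103162b10674732042c5620d265500458ac41ac44e000b158836a39506162800000cfa0a2c50000019f00c58a00000195010b14000005b4011629111745fc002c50000019e014589c6755cc6820b130000067403162712f571ea022c4e265ae36c1c58944d0c675030b126a8a8ee305162519c315f4042c4800003b80045890000076f800b12896b92da03162312c925c2042c4624269424185880000097c828b108cd2822c0416211113454a062c42261ee3680858844c1dc7c000b104dcb866203161f1b9b03a40e2c31af1e01ec1458648fdc586020b0c91f68b0c03161923ef1618042c3247e22c300458648fcc586000b0c91fa8b0c051616d9b5365e082c2dfbea481c0c585c3c8d1c9810b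0b6cdcb772011616fe035e1e002c2db37ae3200858546e6457d800b0a8d048e3c04161200000062062c24000000c008584c66fdcc4008b096a25b8ee0716112327036a0a2c1543de194810582a87c4328818b05000033c702160ad10f0d66022c1543ea19380058280000326830b0451f2864c051609024b0914082c11f886b2c00c5823f134d2f010b0481228766011608fcbb2404002c12048e6b400c581c49e52a1810b03896e83400116071285023a002c0c0000950418581287fc31e818b028d1e82000216051a3f7094022c0a3366e5fc005812881431c018b019191b778001603230772f60e2c0247d6ddc0145802884417a020b0000000267021600a2130560022c01442a0a8c0058048c55cc3028aff786ca5590415fe00000556062bfe4632e6100857f80000155008aff000002a90215fcd93d053a022bf9b27e0a701857e80000000028afd87cd90700415fb0f957326062bf62646e64c0857e80000006008afd87b588450015fb0f7b472e042bf2374607501c57d8000014c030afb000002970415f60000052c062bee372e2c28085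7db650c14a008afb8d0d822c0015f7121f45080e2be9b2920a441857d3652c148028afa6e1b828f0415f519c11624062be800000a340457d48f95bbd800afa6ca7828b0215f2000003a8002be6462e07481c57c36544141030af8000002810515f0dbd70434082be225e239680c57c48c15bbc010af8918881d30015f0000004f80c2bae4b4a421c10575c95c4006800aeb92b6823c0215d40000048c042ba4b15a6cd804574962c44ea038ae812d4a19e0615d0664d06740a2ba05a3e0e100c5740a87cb5c810ae8188d961e0115d02d230992002ba062ea2d0c1c57399854230030ae74ae2ab820415ce2f9b1072062b9ccc32e59c08573c37245ad008ae73b289d5b0015ce661723ec0a2b99a4f686540c57300000077008ae686d68c520715cad9950202042b9400008eb000572c35f4629818ae486bb8c500215c8000018a40c2b8da4fe87d014571b4a041c8818ae36941a1f10215c70d7318a2002b8da50e87c018571000019d2828ae284708fec0415c506cb06c0062b89323a9c98085713e314c61008ae26f7c8ac40015c506cd108c0e2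b84747249c8185708e8ec2e7028ae11d1e832d0315c23a3f3a3e042b847482b8a4045708e90c293800ae11d2297360715c0221f06620c2b800000e5281057005b35808018ae0110ca4ba0215c01f0170d4022b80b13a7290005700886d25d038adf0f28b6ae0615bf0f290e120a2b7cb72ec0881056f8fed4520818adf0f7a9c7e0115bea2ad5c52002b7e10cab2001c56f46eac560028ade1dbe9f7d0415bc5b91604c002b787f46747c1c56e8d664af4030add0dff8f300315ba41032e6c0e2b7078fa56cc1856e1b60c65b828adc2e1993ed0415b83bb5299e062b700000e4c80856e42c9498f800adc1b64b39c0215b68c1f0fa4002b6d18421f401856d173bd5b1028ada29cfa91b0415b4531744ca062b68f07e3e880856d1abb5127008ada3c1b85500015b478393cc2042b65bdbe00880456c800002c4000ad96f7085870715b046eb40440c2b6072be84b01456c37b8c442820ad88ed78cc60315b0dee74f5a022b61be021b280056c251bc50c830ad76f74855d0515ae00000042082b5e46e208940856b800002ad000ad76f768558071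5ac88d70c900c2b5a176e10a81456b2e08d02e820ad69283b71b0315ac8c1d5372042b59bde27b400456b2da5c897830ad570098f880515aae041068c082b563892e2d80c56a800007c3000ad5919b8cc00315a92399042e002b523e7a33dc1c569c8aac6a4810ad38fb280520115a71f6700a20a2b4800002b5c0c56947cfc679038ad18fa182870415a3239f6e620e2b3d33563f8c14567976847ed820acf21c6acfd03159ece5946fc042b3d984ab22404567c37ec5d7000acf1a14a38306159c57ef03280a2b39335a1404105672718c387018ace50c3834a02159c99af0a8c022b38df9ac5b00056726e4c339830acd8753915b05159acd15423c062b3542aa080808566b622d2e7008acd4cdb8a0300159ac7b320a20e2b2c000000b818565a66e438f828acb6f8d9885041596cded5468042b2d337a1c6c04565c8cac5f8030aca4112859b051594d9a74d8a082b29b3524530085652d875050008aca6cd584460615930b295ade0a2b2647ba07d010564b66b52d7018ac84ae489c6021590cc4526e6002b212b96270c14563800004e0820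ac74d9789c003158edebf03da002b1d372a13dc1456336ed41ab818ac6655eaa2502158ca01f136e022b19b3628da80056336ca51b5808ac5929d82390715880000135a0c2b1220ca1a201456249415c00820ac491e1b8390315889c5f0e32002b1246662fbc1c561c962c146028ac37d109b2f041586d9b7240e042b0e35b2ddc804561b66ed787800ac350c8803b061584d9bf355e082b09b3826ab80c5613670c9f8810ac26ce29aac011584d9c73556062b061dae8e6000560b672ca49030ac08dd48ade051580de854210062b01bd0e8e9c08560000011d3008ac06fa4870c001581250b6e2e0c2afe1be689e01055f80000080018abf8e7c825702157e000000fc022afe1d1a55700055fc72adba3020abe6ce6a3a003157c0000473e022afa3e9233a40055f000011ce828abd6daf808404157b25036fda042af63e8233c40455ec7d34671000abd8fa38cea061578d9d147220a2af0000021541055e48cec555818abc6ce996290215791f4b19d0002af1b3ae84341c55d8d794502028abb1b6084f6041576206f0794062aec6bce0a8008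55d8db0d220008abb1cf5a93200157635eb343e0e2ae8f8e626901855d0d825a01028aba428e8859031574851f0640042ae90a425a340455d2148c404800aba42929f0f071572371954a40c2ae4e94610741055c80001c4a818ab9247ca679021572be0b3596022ae57c1a449c0055ca149c652038ab81711833c06157039693ab60a2ae10a525f041055c214ad88c818ab836db9e960115709a5112f4002ae10a5e0fac1c55b800000df038ab63bfe891d06156c67d953ec0a2ad90a6280841055b214ccf30818ab6429aa88b02156c85373d0c022ad90a72119c1455aadb45523018ab54470803d02156a8c2908c20c2ad026e6c3101455a4267c191020ab4829fa3a603156906514848042ad16ae6509c0455a426857a4800ab481d7abc807156623a539440c2acccd360d141455999a7460b818ab3335bb863021566e91570b0022acd36160e700055999a85c2f038ab21fb382260615641511608e082ac89d42de6c0c55916a55a64810ab2862190c40115650c0d24b0002ac82f2ad34c1c55835644450030ab01358820705156023bf2af408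2ac03d3e93500855809ad4a3c008ab01cf9955100156023a103ca0e2abc7eba3ad0185578d464105028aaf1220985804155e24e96dfa062abc7ebe07b00855780001c2e808aaf1a8f847907155c271124820c2ab93fd68dd41455733a84a78020aae334f864e03155c27131b8c042aba1e5636100055709c94410838aad123da2fb05155ac63b269c082ab4ab4a6f300c556bca35bc1010aad6798834b01155a9e8b4676002ab534328d0c1855626d451a5028aac4da9a4260415589f87068c062ab1440618e8085561ad458dd008aac3af3a1060015589bd70df60e2aacae9e539c185559b96c92c028aab919c8abc03155657490e92042aad0efa22f404555b77f5370800aab91d3b83c071552a189068e0c2aa42f06872414554c70e45e0820aa96da7ad42021552f09b1ce4022aa5651a476000554c7c6c70e838aa800003838061550f28128060a2aa19ac29fa81055426e2c501018aa8000038340215511ead1942022aa1b5be80441c553a139cb19030aa785aa836f05154f2473049a082a9e444238500c553a23440b8810aa75124835a00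154f226716d0002a9a423e3bec0855280000550028aa4000000650415491eb10004082a8e46be09ac00551c7ad46cf038aa25f5da8e6051544bf8756d6082a897f664d740c5512feecf53010aa2679a83e5011544956965f8002a897f6e78f00c550bd724d58038aa00000381c06154035ff0ae00a2a81b26e0bfc0c55048e5412e810aa06ebd867c011540d93908de002a800000e0581c54f9f814290030a9f04eca0dd04153e5ab34d34062a7e3b4633180854fb7e04184008a9f6fc6992c00153f1da5196e0e2a797e4e37a41854f2e4e4fdb828a9e6f51832a04153cdea52b14062a791dc2d4300054f24c5d23e038a9d440c902106153b0d4f0a4a0a2a75f40a08441054ebe73db7b818a9d37f4b16800153ad1dd30cc002a724b4e08cc0454dc91d5be8838a9a00003800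
def jm_7 : ℕ := 0x1117330011172b0023841300014ed100016dc90011170300257a1b0018e8330018e8230018e81b0018e8130018e80b00017ef1000c8d3b0001e281000c8d2b000c8d23000c8d1b000c8d0b000c8d030010b73b000170e100411c2b00411c2300411c130021061b00411c030001a4810033a7330033a72b0033a72300002ae90033a7130033a70b000c5b1b000c5b03003a952b000c5a23000c5a0b0014953b000c5923000c582300005471000c5713000f313300347e33002a082b0001a3f10024662300493e33002a080b0000f2b9000c5413003f762b00149233000c532b0038c12300000000000048b100019d29000057f10021f22b000002a100395c0b0012821300396403000c5133003fd5230000120100000000000f36130049413b00000000000048d1000c4f2b000f2a330001cc0100003cb1000cb53300000000000cb5230029543b000cb513000cb50b000cb503000210e1001eda13000190b9003a611b00019c89000190010021f723003f133b002466330043da0b00148d1b00162113000023d10024660300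2d093b001b5933003aaa13001be923002d091b0001d4b90000000000458933004eb81b0000198100165f330000042100165f2300156803002dfe1b00000000000000000000271100005441003dff2b00446d1b002ccd13000c470b0022dd2b000053f1003a8213000000000010bf130000000000000000000c411b00256a0b000c410300006de10020ce23000c40130000000000000000000c3f030000bbf1000153b100005ac9003dc51b003a932b003c040b000094e100542b2b0014161b0014160300141d3b00110b2b0000b0e1000c3c13000c3c0b000c421b0031273b00536633000011290012b403000c4203001bbf13001bbf0b000c3a2b0001b8d90000dc3100004c010000189100005ae10001b5710001b341000c3623000c4a1300003ec1000100610025e42b00141723001417130001ac1100141a23000f1d130001b83900001341000c4a0b000c3403001bc53b0001f3f1001bc52b001bc51b001bc513001bc50b00006f51001e4a3b00462d330001da59001e4a1b000d8d33001e4a0b003a59030029733b0010ab23000035f9001a3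70300372d03001e490b003aab13004c732b0021983b00020b990001b051000e61230021981b000e6113000e610b00011e91001e47130000a6b100000000001034230010341b001034130010340b001034030001f911004f7a2b00016ec10001c249000133f1004f7a0b0001a9690000d809000165490001a0d1003e631b00227d1300227f13000c270b000185790001b90100121d2b00458e1b00400f2b000c7a0b00121d030054881b0014e32b0014e3230014e31b00344c130014e30b0014e3030001ba71000c241b001e970b004f0e33004f0e23004f0e1b004f0e13004f0e0b004f0e03002b7c3b0042c013002b7c2b002b7c230001482900226e1b000165f10001a5e10016e21300000000000005690000535900005361001ccb0300020d090031c513004a362b0024963b004a361b004a3613004a360b002b583b00018b2100534c2b004f9a2b002547230000000000534c03000c1e1b0000f11100007001000c1d2300004281000c1d13000c1d0b000fba2b003778230000000000000000000028b1000028910010173b00227613000028c9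0039a513001078030000f0c1000ea01b0049f913001dc52b001dc523000c183b003f182300017381003c562b004edf1b0018221b001822130001e6d90001c8390000c601000c153b000cce2b0010a523000cce13000cce0b000cce0300189e3b004fce330017f10b004fce1b00384c2b00017931000196f10000dcf10025511300020989000f4e3300008ac1000f4e230026bc330052a22b0010003b001000330010002b0047aa13000220710000c0e100018cd10000b8a90032ea0b00017a810038151b0019410b0000000000251803000e4e1b000c0e1300000000000e4e03000fed3b00017031000fed23000fed1b00345a13000fed0b000fed0300256133000fec33000fec2b00003c79000c13030033a40300015a9900004c3100229a13000ea4030025452b000feb0b0010001b000092d1000c0a1b00018451000c67330018fe13000e0f2b000e0f23000e0f1b000e0f13000e0f0b000182a10001603900018fd90020ae2b000005610020ae13000000000020ae0300005841000f9933000146610038db2b002379130023790b00237903002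3783b00017be10023782b002378230053990b001dc513002378030000272100001189000c040b000c0403001e8e3b0040fa13001e8e2b00554703001e8e1b001dc50b001e8e030001aec1000173810001edb10033482b0044f41b0002141100020aa9003348030045773b00457733000060810001aed100124e3b00017e5900019171002f0c3b002f0c3300019719002f0c23000000000001271100011001002d313b00487b330001ef910001acd10014ae3300000000000000000014ae1b00020be90000000000021f290001e3f900021c610001fff900021a5100000000000000000023f83300000000001514030001bd210023f8130001f1d900018bb90042dc1300000000000bf913000bf823000bf81b000bf80b000bf803004a0c3b00206a33002db72b0042eb1b000161310018060b00206a0300019e21000caa33000caa230023f403000caa13000bf60b0042ec23000bf52b00450e23000037810019f13b0019f12b002d30230019f11b0019f1130020b3130019f10300005321003db32b00016b69000f9f2b000f9f1b000f9f13000f9f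0b00384123000dbe13000bf1230000000000473b2b000bf103002d2c3b00005761000bf023002d2c1300000000000029d100001fa9000bef1b000bee1300000cb1000074e100013871002c5b1b0000e3e1000136d9000021890014a2330014a22b0000000000017ab10014a2130014a20b0014a21b000beb3b000beb2b003b312b002c5a13000beb0b0044dd1b00017aa1002c5923002c591b0001aca90023a313002c590300014fd900105d3300213303002c3e230044e0230051ea0b000be833000094b900000000000105f10000439100013531002c3a2300000000002e9f13000be623000054f1000019c9000057a900005569003663330001c7e100013221001b4d1b0001cee10036630b0036001b0038ac23000be323000bef2b0038bf1b00003a110000a891000be22b003e05230000581100253333000be02b00001d590026e333000bdf23003e0d13000bdf03000bde3b00001e29000044d9000010d10000107900001e5100000481000bdc3300000000002aa22b00000000000056f1000bdb3b000052c100001ea1000000000038bc130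0000000000052d100001f6900001e49003b6d23004a043b004a042b0001a11900139e1b002b5d1300014e71003a171b002cee1b000bd803002aa213000000000000000000001f910024183b00014e19003b6b130000737100139c0b000bd43300000000000bd413000bd40b0042b903002c2133004a3a1b000bd31300000000000ff73b000ff72b00527a03000ff71b003bd323000ff70b00008de10015202b0001d0d1000ff52b000ff51b000ff513000ff50b000ff5030047370b0012913b000ff423000166a9000ff4130020d213000173a9001f3f3b000ff333000ff32b000ff323000c993b000ff30b000ff303000bcc3b000bcc33000bcc130001b701002d6d330001e1c9002d6d1b00004f89002d6d0b002d6d030001ee71000000000001978100404503000046290000198900000a09000034f100009701000bc823002d6f0300466813000bc80300442b3b00016891000147d10001bcc10049e733000dda0b003d41030022af1b000f64130035f32b0001f62900016a09003d4813000197d10001f0510000c26100004cc100004f810017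053b002d7013003b94030041303b0021362300018cd10001f941002acf2b00007ff100015b41000104b900195e2b001537130028b23b00195e1300195e0b000154610037fe0b00012dd100179b0300100123000010d100001749001ecc030025fd3b000bc133002aa31b00383d23003b6a2b0025fd0b0000f851002be13b00018d19004263130031c81b00227b1b00015fc90026f813001ce73b002bf413001ce72b002df92b000d7413000d740b002d363b000179a1002d362b002d3623002d361b0039072b00104d0b0053523b0053522b004bfe0300169b13000bbd0b00002e710000eee1000152c100227b230012342b00227b1300227b0b00227b030031a21b001fee130029042b00005cf100162f0b0029040b001723030000ad59000bba230046411b000bba1300000000004a9d3b0046ae330000d8910038e513002c2d1b002c2d03000bb83300376f1b00000000001f163b000102c900010fb10000f7d100001bc90000f0110049513b000047d1000bb623000dbb1b000dbb13000dbb0b000dbb0300000000000037010049391b0000000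0000028d9000bb43300000000000bb4130000a741000f831b000eea3b0013f413000eea2b0037011b000bb213000bb20b000000000001f7d90027ba2b000162710027ba130027ba0b00016a49000020b1003c3a23000166c10000a9b10000f00900016cb90012bf130012bf0b0038fd0300312113000ff12b000ff123002d283b00016909000ff10b000ff1030001c579000021f1002b7e2b000be12b002b7e1300001f790001b8610001c4e90016f11b002d3f1b002b8a2b002d3f0b000bda2b000025310001bd3100014fb90011bb0b003e0903000c8f1b0000f0290018ba13002c732b000be82b002c7313000e212b00133e33004dab1300001f5100133e1b000024190001f429000bc82b0051b003000bc81b000bc813000bc80b00113c0b0001708900014df1004b153300245e1b003e701300245e0b00245e030018260300254c13000c1823000c181b000cb113000cb10b0023701b000de52b00000000000ec203000e500b000e5003000000000000000000000000001ca33b00018db1001a202b000b9b23000ec003001a2013001a200b00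234e33000f012b0000000000000f09000226010001ec9100180f2b00180f1b00180f1300180f0b0036aa030023e53b000c4f13000000000001e0910001e249000f2a0b0023e5030001af41001f232b0001e4c900004d19000000000001ca710010c8030048ef3b000cfc2b003ec833000197c1000e642b001b082b001b0823001b081b001b0813001b080b001b0803000b912b00259a230026fe3b00259a130031541b000103e90014f42300000531000b900b0000f689000000000001a519003b31130011e00b0053bb1b00179f03000005f1004b76130048e73300001bf100134523000021a1000056d9003a691b003fbc0b00001d29004c9e23003a6a1b004c2c33004c9e0b000b8c2b0000d9d10000fb21000b8c1300010811000b8a1b0050d61b002cf2330025f1230040f30b00000481000187210025f1030000fd0900012ba1000057210040cd23002bd11b002bd10b002bd10300245b3b0001f2c9002e392b002e3913002e390b0000f7210000000000020349000000000000f5a9004b182b00000000001c662b00005aa1000c8613001f2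323001f231b00247413001f230300017661000c3823000b841b000b8413000054610012363300018351000000000012361b001236130012360b00123603004a381b0001a5510037f03b001de01b0022243300011279003b2f03000b813b002bb62300011e11000b81130025b01b002bb603000d882b003ba033003b240b000024790046df23003fbd13001c981b0000c7d9004a022b004a0323004a020b00017f81000b7e1b00019959000b7e030040ed33000168d10040ed230040ed1b0040ed130040ed0b00016331000170f900012931000129b900194d0300000000000102710001680100233b1300133f2300133e03004b1523001ecc13000bb8130026120b00013651000187f1000137410027d02b0001013100174f1b000b811b00210b2b000035d90038bf0b00210b0b000f2b3b00016bf10001fa01000f2b1b000f2b130001eab9000f2b030024322b000b7733003d1a1b000f531b000f5313000f530b000f530300273d2300005a9900273d1300273d0b00273d0300010ae90000e6b9000b743b0044c32b000b73230044c31b0044c83b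00238b130044c82b003bd3330044c81b0044c8130044c803000042210001f499003613030042e51b00000000000222b10001e9210016c13b0052ff030001f4a10001e181003d3a130001e79100126e030036fc3b00013f71002085330052f10300005ab10001e2310019e51b0019e503005030330001a18900258b2b00258b230035531b00258b130001567900258b03000b683b000b6833003ccd2b0027011b00000eb10027010300008981004e68330026ff2b0000f4c90026ff1b004063230048de2b00001d29000b6613000000000000c389000bdd2b000010b100000000000004d1000e1703000b641b000b6413000b640300244e3b0001c1a10001de01000055e100193d13001c130b0001c591001a302b001a3023001a323b001a3013001a300b001a30030053b63b001122130018c3330024571b00131c0b0024570b001e840300018cc1000c8413000e061300260213004a601b000c3533004a60030027262b00018651004f212b000beb03000018d900000000004f210300014ca100009741000131710000ed59000117790000df31000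152190001ca310029a82b003a361b00004781002bec13002fda0b00296c1b0043e313000c862b000c8623000c861b000b852b000c860b000c8603000b5833000b582b000b5813000024f100000000002ede33004b122300011c79004b1213004b120b000b5703000c0f3b00019389004f112b004f1123004f1113004f110b004aad0b00015d890001072900000e390000fa390000ea190001bd89003fd02b00017e610000a3310010eb130010eb0b0001d5410017ed330017ed2b000159f1000159b10017ed130017ed0b0017ed0300015e6900119713002d812b0046862b000b903b0041080b00410803000f6c0b0052c813000000000012fe1b0012fe13000044010000000000012d39004428130000000000192f1300192f0b0000d38100458333000b4d2b0000ecb9000000490027b0130027b00b0030ff3b0001fe290001c4510030ff1b000db013000db00b0021ad3b00014f110035173b00351733003517230035171b00017df1000179c100351703000ce63b00182e13000ce62b000ce623000ce61b000ce60b000ce6030023e23b0025f9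330001a9190026f7230026f7130026f70b0026f7030017d93b00014f910017d92b000007b10017d91b0017d9130001b6510022653b0022652b0000a1d10022651b002265130022650300021e39000b7b2b000b7b23000b7b1b000b7b13000b7b0b000b7b0300003ea9000057d1000182d9000057b10012240b0001272100426303002dfe3b0001be5900396e2b0001d0990001ca010001d531003a10230001731900233b33003fc12b0050f4230053681b0053680b00233b030000ebc900017c81000b412b000b4123000bbd3b000bbd33000bbd2b00003bc1000bbd1b000bbd130001913900005801004f831b004f8313003e7333000b3e23000b3e1b0048bc33000b3e0b001ae723000b3d0b00000000002b6813000b3b33003c351b002fbf13000be61b0028f30b003aa223000be60300110a13000b3a0b000b392b00000000000b38130018f5330018f52b0018f5230018f51b0018f5130018f50b001a633b000b3633000054b1000000000001c521000b3513000b342b000186210028ef3b000010210001d75100100923000c3c3b0001cc410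00c3c2b0000bf61000c3c1b000c3c03000000000043fc130044090b00000000000011890026b82b003c322300006fa900009441001796230042c52b000b2f1b001081130001e7610030a213000010a10001dd2100005af10010800b00019a7100107e3b001477330024912b003fc81b003f3b130001d9a10001dfe1000c3633000c362b0033531b000c3613000c360b00007f6100242f13000b2f13000b2a1b00230d13000f250b000b2a03000b2933000bdc030018a81b003f872b00376413000000000015bb3b000b2b33000b2b2b000b2b1b000b2b13000b2b0b003a99230001e459000181510022c2230022c21b003a1613003a160b0001b419000eef0b0014f43b00300a23000b261b000b26030000e2d1001379330001d4d10001dc21004a7a130001d8110001d8c10014743b001474330014742b003a8d03000b2b030001d8d10014740b0001a38100017621000c8b2300017729000184e1000c8b0b000c8b030000a8b10001af39003908130001c951000f6c1b000f6c1300019681000055410010183b00101833001018230000ebd90010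18130010180b00000000002d373b000b1f33002d37230022241b00100913000b1f030033ad1b00119c0b003a3603000ce933000b1e0b00456c030023e313003aa60b0001ac71001be61b000b1d130001d3f10037993300000489000037510039f813000037690039f6230039fb23000028190039f20b000028090000283100003e8100006a610019591b001959130019590b001959030000000000000000000000000000000000003c61000000000000282100000000000037b9000038090042893b000b12330000054100000000000000000039b02b0000390100003a59000000000000287100001e110000044100003861000b1003000b0f1b000ef503000008f10039d1230039d11b0039d1130039d10b0039d103000b0b2b0000151100004239000b0b1300004069000b0b030039d323000b0a0300000000000000000039df2b000ebb0b00000cb1000b052b000b05230000000000253c13000b050b00000000000b043300006da10000807100008059001a521300001471001a5203000b031b000038f90012d20300000000000b0233000c041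b000c041300001af1000b0203000b0803000b010300000909000b002b00000000000b0013000b000b000b061b0000ac5900000000000b06030000000000000000000afe13000afe0b0000000000004081000040990000381100000000002d240b000040e1000022010000000000000000000000000039c51b000afb13000d210b000023a9000afa3b000afa33004bd13b0039df230000000000000929000afa0300000000000b0613000af83b000000000020183b0047cf23000b011b000b0d0b0000000000000701000d5303000aeb0300000000000ae91300345d330001e2e90012b4330014662b0001dc0900219a230014660b003ab60300195a3b00256233000d3b1300195a03003b3d130000e50900195a1b000ae62b00000000000047e1000ae53b00000000003fc503003fb61b00000000000ae333000ae32b000ae31b003fbb13000ae3030000000000005a7900138823000ae21b00008ca1004adf23001388030012713b001271330012712b0012711b001271130012710b001271030001ead100000000000201d100127b1b0000ac5900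018d7100127b030024c23300004211000f381b0001bc310031340b0055073b00005c89000021e1000ade2b0047631b0001bc79002f791b0049c133001dca3b00009219003cc11300000751000d86130000000000001d410001cd31000adb13000adb03000183990001963100019769000154e100247c03001eac0b001eac03000ad91300000000000ad9030001ab61000103d9001eed2b00001a51001eed1b00258403003bf213000ad7330000000000000b6100000000000ad7030023c63b00004f51001ff503000008410033a00b00139d1300011f81000ad5330012fe0b00001fd90000000000000661000c9b1b000ad40300000d79000ad313000ad30b00000000000ad21b000ad13b000004910025533b000167c10000c929004647030000e4b1000046b10024661b00018f3100131c2b000d231b000bb52300131c13001c6633000b131b00004439000023b9000fea13003de703000acd0b003d0a2b00000000000acb33000e141b000cc91b000acb1300000ca9000aca330018c22b0018c223000120e90018c20b0000517900000941004bd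223000ac81b0000e411000ac803000000000020ae1b002d263b000b101b000bd6030000e9c1001a602300136a0b001ce723000d5e2b0000000000003e9100000851000009a9000ac41b00000c890000075100008821000b0b2300002549000b0b0b000ac91b000ac233000ac223000ac21b000ac213000ac20b000043a1000ac10300393d33000ac02b000ac01b00000000003d9d0300000839000046d900000000000dab1b00000000000044c1000daa0b000abe2300000000000ad113000000000037531b00000861000ad20b000ad013000ad11b000abc330000000000000651000abc1b000ad10b000abc03000f393b001cc32b0001ee31000f391b001cc313004038130001cf710033973b0025ca1300121b2b00121b1b00121b1300121b0b00121b030001cca900232e1b0000000000004129004fd613004fd60b001e5403000012d1000112610016922b00169223000166310013153b001692030000000000313f3b00012c8100197d2b00197d2300197d1b00197d1300197d0b00011e91000ab51b0018d32b00020b7900122a2b000064c9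00006141000123b900122a0b000013e90000aa310012fd330012fd2b0049cb230000a4d10014ce0b0012fd03000cfc3b0001f629002f3e13000013e100004cd900004e190001ff410038c52b000c3a330001e7210001f1a1000c3a130001c761000b6d1b000b953b000c4f330001e5f100015d59000b951b00000000000c4f0b0045993b0010c11b002bc93b0012fd130045991b0023eb130023e41b00019a510000f131000192610000a4e90013231300377e1300235803001302330013022b0025592b000b021300016b39004b022b0010791b0001906100275e0b0038a92b00281f1b00382d230038bc2300000389000bb51b0001ff8100001ad1003ca72b000e753300012b81004285230000000000002c310000e019000f4e1b0000000000411e130041181b000aa73b000034d1000ac51300000fd10044b41300137f2b003b7e03000013490000000000000000000aa423000e2423000aa303000108510000be190000049100005db100166a1300527a2b0000001100009739000000000018230b0011472b000dd01b0046fa0b0011470b0000000000014b5100022771000188a10041931b003afb0b0053cf1b00419303004fc61b0001196900125c2b00125c230016602300535313002ef50b00004971000c752b000088f1000162690037da23000006f1000d612b00000000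
def m_8 : ℕ := 0x1cd0f0b11cbe04399d9ce296d404733b39cd2da000e67784b8e76071ccc275d0bcc0c39981646bfe4147330af64b50020e66146685e6031cccf0991ce804399857b64a90047330af74952020e6511b08325021cca235d22fa0c3990352699ac1473205a85e2a020e6406d5a655031cc8f0950d180439901b5e99501c731928d49b4030e638ec1c441051cc65c37638a06398d8acea5c408731b15554f2808e6362ada9d5001cc6f9a38fc004398861466620047310c29c4a9828e6116e985d7041cc234df2c3a0639845bc617a804730bc27c737820e6078528e69021cc0f0a71cce023981e1523998007303c304033838e5f0599b621061cbe2b1527d00a397c5a7a8d241072f8ac5c264018e5f158f8e6f021cbef0a11cdc00397c563239bc0872f000023d0030e5c4c58ace3031cb912bd1c94003970000008441472da6de46d2008e5b88d1a530051cb512f315f00a396625b602280c72cc4cc63d7030e5800000bfe051cb00000496a0839620cb23bc40872c446b5297808e578cc0c7c7051cac00005964023959a4829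2901072ac66b5bbc020e54000024bb051ca6f97725de06394c000118840872980002310008e530000461f001ca712e77d8c0a3949ba0a0110107293701412e818e52898fb998021ca50f81225802394a1f22b32c0072943e2d5b3828e516a0cc61d031ca200008c380439440001186c007288000230d038e50865192fc041ca119a11a62063942266ae77008728468c5cf1008e508d14b9d5001ca11a2d73b60a393a259a4bb00c72633fd478c028e4b7939a26b031c96a00d32a604392d401e229804725b5bcd89f018e4a0000040e021c9512bf1cb80e39252d26b19c1072480000925010e487cb6c79d051c8ed391141600391a1582308404722c49bd2ac030e4400000992051c89122b4ab4083911a42a3ba40c722000005ea800e440000040c001c869def17d206390800002f9c0c72080001f4f830e404d138170031c8119bb6ef8043900000005b404720000004ab800e40000024a3051c7c00001e180238f80000fa700871e444e5f4d828e3b415a94de041c7682b754860638ed0572fae00871da0aec45e008e3b415e83d6001c7682bf1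91c0e38e8d16e24ec1871d0cc4da06828e3a41608ce0031c7482c335980438e9058a38140471d20454d5b800e3a416384fc071c706525884e0c38e105920bc81471c20b2d09b820e3841668894031c7082cf586a0238e105a27cd80071c20b4c43f838e37416ab7b0051c6a88e503ec0438d50a7611f80071a07aac996010e33745790b5021c6422d120780e38c615961b1818718c31ed1bc820e314af3ba9e031c6295e9753a0238c52bd6ea6c00718a57b5d4d038e300cff8eaf061c6046453aa20a38c0340e23801071806dcdf19010e300cbcb010011c601a035c080038c0b7671d841871796e94ba3028e2f0f8283ca041c5e4399843a0638bcb7731d7c0871796ea4342808e2f104196c4051c5c5b9f11ca0838b8b7823ce00c71716e8c471810e2e85a0ad71001c5c5ba711c00e38b4b4ca688814716967bcf33820e2d32fcbe2d031c5a5a9b45780438b56462ed340471695a1481e800e2d34cda4e2061c587ba32f900a38b0f74a3698107161ee9c8ee818e2c5d6eae9f021c587ba92d9c0238b0f7562f9c007161eeb6058838e2b3e218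701061c5656a112ba0a38aca432754c0c715b69953f4810e2b6d338f80011c56da69306e0038ae21ff0a5c10715471fe397818e2a78d1bf78011c54f9fd80940e38a4fa22473418714aebbc9c5828e296d35994d041c528ee36a160438a596b24c4804714b69c5722000e296d39ab70071c4ebb2518e80c389d25ef02c410713a69344c3018e276d3ba6b1021c4ede3924fe00389d4da675981c7130000239c828e263d5c82cf041c4c7abb3098063898f5bea8e4087131e8bc3bc808e263d5f8404001c4c7ac1646206389567f200f000712800004a7018e23000002f8021c460000002602388dbf7a0aa81c7110588d6c7830e223780b57e051c44da8b0b68063889b51a84700071136a3c7eb838e21544784e9061c42a89109d00a3885a402f26c1c7101dcf44a3830e20328286e9051c40da951006083881a14ab0980c7101dce4797800e20698ebc31071c3e51f70dea0a387ca3de5d781070f9c6643c7818e1f3a33b405021c3ecb7f3b1602387ca3e6f2340070f92bbc385018e1e4ba4801c021c3b1f0d197c0e38708196aac01870e164b4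499020e1c6d4e858e031c3875eb420602387096fe71580070e29206349828e1b5e619361041c371dab723e04386d93e27f980470daf3a4cd0038e1a2f5a8a19061c3405391fbc0a38695f423eb41070d3357ceda010e1a8e85c456011c347f1975800e3865373a18cc1870ca1f1c2d6820e196d52834d001c311cc78a6808385dc03a1bec0c70bc6f2dc87810e17000006f9001c2f0b0376da063859be1a624c0070b37c44c48810e158ec5c044001c2adf150912083851be3262180c70a47645c76010e146f8e8488011c28df1f091e0a384cd86a20e81070999e143c7010e133a0c9f02011c26741d1fb600384ccef6a7900c7092a45c17f038e10553f904b061c20b2d323d608384237cb11700c70836aa4d4f010e10000046ec011c20db773160003841b55660dc187079757df40828e0f47b0b489041c1e8827202c06383d523213c404707c28c5d49000e0f548e84ec071c1ca91f56760c383884b20db8087072590539f008e0e53b09cf9001c1cdf0f31240c38357586653414706b6adc384020e0d6d5c98c3031c1ab59758e8043835b57a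96c400706b0eecbb1838e0c52419f1c051c18a48533fe083831490ef2640c706292242d0810e0c52458858011c1800008da6003831491ebb901c7052381cfa3820e0a524ac19a021c14a66348ce023829492e98900070529265092828e0969728534011c12d2e721c20e381d4942b2fc1870383f456d8028e07525191dd041c0ea4a55af206381d494f194c08703a42142b5008e073133b1ed071c0ca7cd2cfc0c38194f9eebe01470334ba4272020e0653e8aed8031c0ca7d3169a0438194faaed4c0070322a2e07a030e050407885a051c0a8f15647c083815f6066b8c0c702bf185363010e057e2ba630011c0a636942da003814cf56332c1c70206024554030e040bfd964d051c0817fd06060638102ffe0dc808702434ed26e808e040c01930b001c08170f0b600e380cb8fa2ee41870191aa4405820e03000046ac031c065c79898e04380cfd6aca7c04701bf176353000e03235588e4061c05053105a60a3809378f061410701414b41b8018e027e3f93ec011c04fc6927be003809f8f64f9c1c700bf2145d9000e017e4393e0071c001e81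1cec0c380000011a781470007a0c4c7820e0007fca4c5031c00fc6527bc04380031064f5c047000621dd79010dff7e448091071bfca36f5ae40a37f946e22a5c106ff28dcd61b018dfe51ba9238021bfc77e1789a0237f800011a48006ff288de0bb830dfd11a385de051bfa029742b80837f400011a380c6fe88d3424a010dfd05abb621011bfa0bad0f740037f417b6a9801c6fe2ed04f0b830dfc39ec843e041bf8c29f229c0637f15cfa1530086fe309ed758008dfc6152a8d3001bf8c2a14d120e37ecb18e73e4186fd959a4d64028dfb4decbc81041bf71ce71ae60637edb59a16b8006fdc70d6144038dfa65889a67061bf46b273d560a37e8e042ec00086fd36e1422e808dfa6d638464071bf288f71b320c37e4a2aa79a4146fcb4c3cbb9020df96988a0b3021bf259094db00237e5a6269f901c6fc1d6e49de830df87c189d0d051bf01c996d9e0837e1d40a8b640c6fc4264c5c4800df83772bf54071bee5cf32ad60a37dcb6061940106fb9847df18018df76a49ad6d021beed0438a420237dc3d7ad9b4006fbb41145e4018df66ea5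c1ad001beca37d02b20c37d51edad11c146fac65e6268010df547bcb431011beb1975858a0037d51eeed1081c6fa4704473e830df40000465c041be8deff3dc80637d232ae3300086fa28e04371008df45b2ca059001be9195b723c0e37ccb46a3d50186f9a68f44cd028df36aee9868041be692ab13960637cdabc2bb50006f9b7564222838df22842880b061be434337f3e0837ca3e6f095c0c6f93c1cdd24800df26c4fa603071be23ca72a880a37c4c8be5498106f893f0495a818df11f10ba0f021be2ceb90c7a0237c5b65a9198006f8c6be5e5f038def345a86d1061bde51d7265a0a37bd78f2ed08086f7c737c5dd008def6a4e9339001bdef6b58a200e37b531b20e54146f6afcc5719820ded5f99aef5031bdabf3d25100437b5983eed6c046f6afcdcb06000ded5f9c82f9031bd8da7b04ce0c37ae1a7e9354086f5bc28c735838dea38178516061bd476117fcc0837a960962d740c6f53527c24f010dea6978add8011bd4d2f35af60037a9a5ea4c241c6f49946c618830de95f918a9e051bd3193f82080837a51e9ed2540c6f4af43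d039000de96559ab43071bd0b20f8b580c37a1699a6184146f434bdc155820de83d15a90e031bd0d61d1c560037a162a303680c6f38000129d810de7000009b3011bce000030b20c37993466b250146f32602c2af018de600000d99021bcc0000399400379800000c8c086f2c7a260bd830de40000431a051bc91e5782de083791ab630c600c6f200000114800de400004317071bc60000001e04378c000009c4046f180000138000de38f2e8295051bc4000025d8083788000008040c6f147884149010de26a0dbe9c011bc400007d360c378615a2b48c146f0c7a85c77020de100003ed7031bc2000071f200378400003c4c186f009414163028de012839bca041bc025090be40637804a165a7c086f00943421c808de0128784c2001bc025111ed60e377c41fe2130186ef884244c9828ddf0fdf9f6a031bbe210308a204377c454a0f28046ef890c4b99000ddf10828429011bbc22a12afe0e37741a32d2c0186eec205d5be828ddd1dd8bd3c041bba43d3898e06377602ee9fd4046ee87dbcc14800ddd7adbbd52071bb8198f10d60c3770372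64884146ee06e547ab820ddc0f878f1f021bb81b9b3ed402377037228ac0006ee06e5c977020dda1a2196bf021bb50b174ff00637663d6e014c0c6eb00000001028dd58f658a98021ba8cb2d594a0c374c40a24adc146e9834be182820dd310268990031ba6c691820e04374c1dd68804046e98509da71800dd307b2b81c071ba446f184900c37497386bc28106e9355ecccf018dd2321b9774021ba490eb6ac40237494236f5ec006e91a2955b6038dd162bdbe35061ba256f7515a0a3744b03ad710106e8c6afe152818dd1669bbdd2011ba25d1778020e373dac170434186e79996df10828dcf6e8f8328031b9ecaf9336804373d1e92d260046e7b583cf1e038dce6a0f864e061b9d0bf3598a0a373961764770106e735084241818dce4ca3bc75021b9cd8195d9c003738fddf02a41c6e684aed73d028dcd1576969f041b9b1d7f888c063734a9a65a70086e68a1bcdb2808dcd1c999c98001b9a28f944200637321d566070046e606c140b1800dcc85dd9808071b96c48d42140c372c6f4ac220146e5800022da818dcb3cf09060021b971ac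9858a02372e32cee10c006e5b70055bc838dc98ef6b95d061b921071440c0a3724f18a72a4106e49607c512010dc93681b1a6011b92b95f19c60e3721716a4158186e4000022d4828dc86fb39d79041b90f1a1611e04372161ff09e0046e43c66e084038dc72042bc10051b8e11ad67c208371c8cd623ec0c6e390156163010dc760f4ab81011b8e1515570200371d89227f7c186e31eb9c1dd028dc61589a4cb041b8c3ab53bba063718fe06a4b0086e309c54557008dc61387a3e5001b8c257743960e3714be4ad224186e2a270d5a3828dc56a118fd8031b8b1b5180d8043715291acf74046e2b5c64b93000dc554569ca1071b88b6533ce40c3710fdbe4878106e246c54650018dc484929e82021b8882054068003712387eefac1c6e1c4df4625030dc349ba963e051b87095984ba08370d3dea8a9c086e1c7c5de55808dc39051b905071b84b47d169a0c3708e49268a4146e12e9d4b81020dc26b089a50021b846ac544ca0237096d7664c00c6e0431c483a838dbd09f8898d051b7a245f111a0836f42c9ee0700c6de84fed2f6010dbd122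c8521011b7a1f6718000036f427e697b01c6de0acbc8aa030dbc134f8c3e051b782b3109660636f05506d030086de0acd5d07808dbc159d833c001b782b3774aa0636ee3fca2cac086ddc7f9c599808dbb8ff68b1e001b771fe9164c0e36e8203e53bc186dd07665f2a028dba3a3489c3041b742aad24d20636e9a0824998046dd428f4638000dba15f58c52071b72000004b40036e40000bf0c0c6dc000017f6038db71ab79a2f061b6f0c9d5ba00a36dcd90eae40106db8a53d4ac818db71482c084021b6ed19124d20036dc512a50ec1c6da8d1e4de9830db51a4489d1051b6a347b39000636d468fece60086da800022aa808db51a41832d001b6a34853c700e36cc00011548186d9bafe4a40828db30dfb8b6f041b6600008a9e0636cc6c96fed4046d987814fb5000db30bba89f5021b601fbb45600036c0371a1764086d780000059030dae758aa6b8031b5cf16f57ae0436b8000041f8006d7368a483e830dad856da303031b5b0ae145b00436b4000041e0046d6c6f8e234000dad8e50b8b9051b58000001a20836b000000340046d6000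00002800dac6d1580a2051b571cfd038a0636aa3952f6c0046d5472ddc5a830da987499084041b531ccb04d20636a4000002bc086d480000002000da96f8480ae041b5098db7e6e0636a131bafcd8086d428544103000da860e5c44a051b4e89cf2ed408369d13a2a22c0c6d3a411de46010da744e99002011b4e89d5246600369c99ca90a01c6d32e43423d830da65e038431041b4cbb217b9e063699f3b231b0086d346f66140808da66dd28466001b4cc3af84ea0e3695ae4eed80186d2896ecc77028da56b94854f041b4af6917960063695ed330994046d2b777c339800da57b4bbd1a071b4875fd6a2e0c3690e8be4ff0146d247cc6140010da46c1999a7011b48bc8776860036915bd23ed01c6d11c0dc2a1830da24ec5bea3051b451bcd199808368a37a2dd800c6d135c94338810da22173bd5a001b44db6106940a368617d62fd40c6d0c396566a800da1846dadc6071b3f09e71d4408367e383b116c0c6cfc7c0c5f0010d9f8f828be8001b3f1f0717b80a367a3d4e36900c6cf3703d66c800d9e6e09acd7061b3b0bf75a62063675b8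16b330006ceb7dad665020d9c5607af77031b386cd7013e043670d99a57a4006ce1b33caf3830d9b000044fc051b3627ed437208366c4fe20d900c6cdb17e5cb4010d9b13ec92b7011b3627d50b0000366c589266241c6cd34f8d402830d9a0ce28c01051b351c211af6063668000113c8086cd47095b95008d9a6c3ea5e7001b34d3e55c880e3664ca0e12ac186ccba71cc69020d996bb0960c031b32d7631fb2023665b43a62fc006cc9e8a5488038d9869fdb79b061b3019733adc0a3661a7fa6a94106cc24cfd09d810d98000044e4011b30d3ff421c0a365db1068424106cbb51e4454010d9763e48075011b2ed40f353c0e36596b42ebf4186cb221dce51020d962ab8a997071b2a430341e0083654de167cb00c6ca99574b65810d95566cc2bf011b2a392f02d20036547256b9bc146ca1c5b54c2818d946506bfd9001b28c3cb43f0043649ace67678146c8c3185847820d918ca7c1f2031b230c65611a00364618d2c2281c6c835164860828d906a2d8f53041b209bff4e7a04364232e3130c046c8465b6261800d90499e8b72071b1e00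00898e0c363d13624940146c7b032613a820d8f6dd48530031b1e8d3d16e604363d7b5a5914046c7994ddea3038d8e256dadb1051b1c91f557c808363923ee1c040c6c7247e44c3810d8e48fd8e27011b1c91fd22d0003638dbdaca341c6c6a47fda8f030d8d3a23bf3d051b1a7307031406363524021578086c6a480cc24808d8d44ef88bc001b1a920718cc0e3630346a5644186c6031b5e9c020d8c2f1493ad031b1892093dcc043630000112b8046c62203c815000d8c49068492071b163db55b780c362d2e0631ac146c5a5c1486e820d8b4b8385be031b16970932bc02362da5fe436c006c5a5c2cb4a018d895038c27f051b111d7b77de04362140de5a44006c400000321010d867ad5b933021b0b0c4b6f0e023615ab92b1541c6c24331d64f830d8486698158031b09135547d602361226b28f78006c244d451f3038d8386cc8a61001b07134d47be0e3608a4c687fc186c11447d48d828d8210679f7b041b0420d71e3c06360a26928f74086c108344541008d8210698a7f021b031cf702060e35fc18c2a34c146bf8141c9dc820d7f03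8d86ef031afe000089160435fd041edf0c046bf81c352ef800d7f1ebf9a66061afc390537f40a35f9047a5a34106bf208fc816818d7e412082a6021afc824316c00235f9048a54f0006bf2091c8fe020d7d6fa88030031afadbaf0e8c0035f6376edd341c6be279749eb028d7c6c349aa6041af91e411dd40635f1b0d6ae78046be42776131800d7c6c36a786071af68595222e0c35ec30e6d340146bda445594c820d7b8e118d9a021af6144d60e60235eda78e15fc006bdc2746132030d7a7d12ae06051af51bbd88d00635ea13b30984086bd422fc623808d7a6b55a417071af272cd26c00c35e4899e8088146bcb5a84207820d796eda9077031af2d6a324480435e613ab0988006bcaa9ce166038d7861ee831a051af0380351b20835e0a20edf140c6bc30f7c6b8810d7861f08462011af032dd06740035e187cab69c186bb34dfd659828d766d53acb2021aecdb6502b20235da326709f4006bb00001657038d753c73a95a061aea540b26b40835d5a6b2bd5c0c6bac743e144010d7500004454011aead35b082e0035d637ef06841c6b9c7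a8c149830d736b59c371051ae71ce51bf60e35c913d2ab18186b9112e5246028d725c4891c1041ae4c5ab29ce0835c531befcd00c6b8b305c42f810d71660c91f5011ae288512a7c0035c4b65282580c6b84661dce0038d6d8f2c8294061ada980f5ad80a35b544ea7e6c086b6ac55e06b808d6d5e84a075061ad8d7b351260a35b1bc2604e8086b635ed5448038d6b6b01ac9e061ad7087148440e35a870be2a0c146b50e1854ad020d6a170a92c3031ad438632a4c0435a870ca48f8046b50e19c318800d6a8d68bd07061ad25abd2a500a35a52e1e1b88106b4a5c441ed018d696d408252021ad297150c7e0235a52e2e5a44006b4a81ae13f838d68699fc2ab061ad10b6f178e0a35a129fac64c0c6b4351355e3010d68611b84cc011ad054e5531804359e37d70090046b3b5f847e4038d6621048533061acc375d27d80a3599419f0ca4106b3174dd8af018d6654559ca2011accd6b586da003599299ac45c1c6b2b30f5e80030d6510bb8d02051acadb190b620835960456fde81c6b232ea4671830d64269bb161051ac8d3470da20835900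00110580c6b232eac7b3010d648e22b7dd001ac8be8b062c0a35461223103c0c6a88000008e010d5184a3c40f011aa2000000f6003546121a3ca4186a8353e4088028d50682f810f021aa10aa77f1806353e33fe3120006a7c680c598838d4d00000000051a9ad48b0010083535a07e001c086a680000002808d4d00000004001a9b0f3787fc0635321e770ff01c6a58000003e030d4b87a1b9d2051a970a83046c06352e15123120086a5c69f411b000d4b85428b31031a911d1f87f4003522351f0fd8086a3c6e4c6a0018d448d49c3f7031a851a8d87ec00350a3502352c186a0c7de4006020d408d448230061a7b1aa100180034f4000008c01869e0d944a3d028d3c1b298fb4041a78365509220634f06cae712c0869e0d964e87808d3c1b2d9f43001a78365f386e0a34ec62f228c40c69d8c5ecefa810d3b1f43b96b011a76317f0f4a0e34e867ba2d641869d0e874459020d3a1a3383ec031a7433e12a7c0434e8744659ec0469d0e87cd3d800d3a1a3195e9061a723e8f00780e34e06a962f441869c0c1b44cc828d381aa69538041a703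0c130c80434e060de28c40469c0c30c61f000d381aa79dbc071a6e22c32a600c34dc445e5af41469b8b7adcb8820d37183a9dbc031a6e30992e560434dc536a6e280469b800021e8838d36044bc1e0061a6c20df49880a34d87bee29b81069b0a77c955818d3613ff8e86021a6c3df916c60034d859aa13401c69a8f365c91028d3522b1a601041a6a98170ea20634d48acefec00869a800021e2808d3522b58569001a6a456d06ce0c34d0b6f249541469a26064702820d344c0d8f95031a68981d09420434d1303ef1000469a23d9da41000d344c119a57071a66982543ee0c34ccc8fa24a014699a609cbba018d334fc18f9a021a6698294be00234cc8fb307bc00699a60acd0e038d32285d9b1d061a646dd70a2a0a34c9305a21f01069922244d5c818d324c1886d0011a647fad6f760034c930661cb414698c667c728010d3100001ae4011a62000002a60034c5e1de343c1c69814924eee830d303b9091ac051a60996739420834c1cbcafc540c6982749cfe4010d304e909db3011a609d2906a00e34bd306a447818697a742c2ba028d2f4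26fafa9041a5e983934360634bd3076599808697a7494396000d2f4c1ec112071a5c205757020a34b851161fc410697260fc264818d2e4c2094a8021a5c984329600234b9308a5274006972611ca52030d2d0c37bc5b051a5a0e4925260834b41db622280c69685a45f77810d2d0815aeea011a5a10875dd40034b42392bbb41c69626124b2d830d2c4c25927a041a58984d5af60634b1309ebb6c08696264a5eed808d2c8cccc385001a5898513ff20c34ad360af06814695a6554828020d2b7b7a92ec031a56a16703d40034ac0000bb741c69526f8d776830d2a093f8d0b051a549be523cc0834aa3352fb400869526f9d7a4808d2a4df4abc6001a549beb2c640e34a4dff2fc1418694993743d1828d294c299ccd041a52985509020634a530ae509c08694a61647ac808d294c2d9633051a500000063204349d97a2187818693283bd6a5828d267da0a0bb041a4cd8e179f206349a02aeb3440869331045521808d266b5bb7dd001a4cfb3b59620a34940000b5080869280000d45000d257a36a26e061a4600005a460a348e344afb5810691c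4e4df6b800d237a338f13071a431a1573220a34863442074800690c6875cc5838d201adb8852051a4035b96dfa08348130ba3c800c6902617ddc6010d201ad1891c011a401aa1147e00348130c2ee2c1868f89d5c522028d1f4c328a5f041a3e98671eb206347d30d27e700868fa61ac36b808d1f4c3682ed001a3e986f2c120e347530e271bc1868e9a1d5392020d1d4c39bd7b031a3a987531820434753efe1cb40468e960d5ac7800d1d4c3b91c2041a36f96972fe08346800003ee41468c94524522810d194b0e9dd6071a2e6ff16afc0c345caa4308781468ba61ec611018d1750d1bcc7021a2e0000868602345d30fe22880068ba6fedbd6808d1651e89d47071a2a988108ec0c34553106f2f41468aa621559d820d154c438cf8031a2a9889056e003455a7d705f81068a27e5439f010d146cbea3d3011a280000017a003451a6629cf010689800007dd818d138449861c021a26e0df46c402344c000010f41c68928314fc6818d11745db33f071a20759910e80c3440b2b24f041468828324248818d106335c176021a20a0cb081e023440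00010ca8006882452dabf038d0f506893df061a1ea0d3725e08343d41aa2ec40c687b541c781010d0f506ca770011a1ef0ed1a6200343d41ba4d001c6871ea353dd830d0e51db8e06051a1ca3b94fd2083439477643700c68728ef5319008d0e51e0ad34001a1ca655394a0c34340000b22414686c66ddc25020d0d506f8f58001a1aa0eb264c0c343147860fb008686000001f4838d0b09388d2a051a161273201408342c24ea7f5c0c685849dcf21010d0b093c92ab011a16127b43a800342c24fa7908186850c11c078838d090b298322061a1215554194083424239e242c0c68485954322810d090b09ae86011a1212fd60e00034242cb2b8881c68400002182830d08098e8b96051a1000008606083420263eb9400c6840490c949808d082ce7bf0d001a100e790a420e341d9e0a0c641468386c7d411838d0608328319061a0c11fb14100a341820bea08c10683047f44ef018d0608308228021a0c1633248c0234182c5eb9400c6828899d728810d051134ae50061a0866db093c0a3410767e0aa0106820f8a45a0018d04336eacf3021a08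66df0cfa0234107c5e19f40068219b8567f830d0333718010051a0666e5054004340ccdf606d81c681085bc6b2830d0210b89c87041a041f4528f006340842e653f80868108e745b8008d020df4b63b001a0421753ebe0c34062162190410680c3584215808d0100000227071a003c23844e0c3400cdda1fb8146800f09e112820d003378a3fc021a003c2b13ee003400ce06f1541c67f134e4370030cfe338b831c0519fc2549255a0833fa170691440c67f19c65e2a800cfe338ebc5b0219fa9ce501160a33f07feef15c0c67e3c8ad5c1010cfc1fb887240019f83f6d70d40e33ec0512c65c1867d85854446828cfb0f779c830319f6628763b80433ed5eb65f300467dadcede21800cfb675694e60719f2c3f537940c33e400010b181467cb6ff4414820cf94ab9b2e40219f257375c700233e641fe37440067cb5faca40038cf82b7e88aa0619f039295ce00a33e1afda3f041067c248fc4b1818cf88ca6c1f30219f0d7f107100233e1afe652041467bc7c8c5ea018cf700001f200219eedef758940033dc0000b1201c67b12b0d086028cf6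000042b40419ec756f08140633d8eae23eb00867b1d5cc28d808cf63abaaca80019ec75772e740c33d437c247d81467a86f64441820cf50b7e89bb0319ea566311660433d42de6b2f40467a86f74932000cf50b3d87770719e6468502f20833cc8cdec1480c679b6794903010cf355c297520119e6d9e740140033ce32a633381c6791b2dc50a030cf254ed857f0519e46a4d2f580833c9b3d676040c6792c1f4b79000cf28f928dc30719e2381b346c0c33c558d210d014678b67b43b1830cf06d69aee40419e0dad54f760033c2220edbc40c676a5af5261800ced4b5fa4c00319d91dd76ea80233b23bbadd4c1c675a5b0525d030ceb4b61a4b90419d696c549700633adb11e908408675c7ca4536008ceb6dfdacce0019d6d56511540e33aa155afd381867544d14589028cea502083440419d5208d7b840633aa3e5a2b240067547cbc562038ce94fdaa4ad0619d2b8cd740a0a33a5b71651fc10674b568c22f810ce96c1896910119d29b1949500033a63e662af8146743606d657820ce80000016b0319d11f3515780433a1affe5e1c04674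356b5773038ce725c09c550519ce9b437cd008339daacf06b80c6738000213a810ce76a768c6b0119ced56914d000339daad61194146731fa747e1820ce63f4f84850319cd0eb3063e043398d256077c046731fa84e57800ce63f51b1190619ca96ad6a780a3395f422e04008672b39551c2008ce56e1590d80719c8d56d05ce0c3390842e9fe41067235cac24f818ce46bc2af1d0219c909771688023391ad4a98780067233a6ca79838ce33e5384660619c6cbaf1ac80a338e35fef2a41067192dece2c018ce385cfc01f0119c66c950fe400338d72ba37241c671222843fa030ce20a7189f90519c4c4855f0604338a1b8eea580467136f25770800ce28f9c8abd0719c26c5b178e0c3384a3a653f814670b68653e9820ce1606796930319c2a88b09da043384c67e863000670af71dda9038ce039e584a40519c0bd3b0f6808338180b29b180c6703016dc8e810ce0000042480119c0c06110dc00338180ba3e141c66f807a4a02830cdf010a93760519be02d55ff206337c0df707800866f82a75b18008cdf0152c1e00019be042b551402337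80e8e62901c66e925e58dd030cdd60c288940519ba0c334fe8083374229a6ba00c66e820fd33e008cdd05789ae80019ba0000846e0e337197ca086c1c66d8638430c830cdb111b97290519b607cd4ce808336c146288780c66d8638c30f810cdb023891560119b60000845e0e3368093adb3c1866d1460cbc5028cda6f26917c0419b40000845606336809f293980866d01dd532f000cda066893f80719b038a32e640c3360784a1fb81466c0d105704018cd81e1482270219b049ed13ee023360000108880066c0f0b4aa8838cd72165852c0619ae673f111208335c9cdac84c0c66b90b4523e810cd78673c20d0119aef907516200335cce9a9fe41c66ab55ccb43030cd51e2691010519aa6e6d1e58023354788e8fe80066abe48d3a5038cd41e1797200619a83c3136680a335035aec52c1066a0f0cc2b8018cd47c92a7480219a83c350eec02335071aa32a414669be45d3ad018cd37c8ca7590219a6f931025a00334df2369d5c1c66909aa419c828cd23f2fa0220419a47e613978063348fcc6328008669333ec3ae808cd23f33a0090019a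47e6940220c334474c2cbb0146689924c492820cd13243af340319a284d75f5c043344c9165e64046689923509b800cd1324789c007199e4f071f980c333d06f2101c146679a69cabb020ccf8ef38cbd03199f209f803002333e36faede400667a13257da838cce4c80bec005199cb899237604333a18c6c2380466746544679800cce8c9bbdbc07199846d16a580c3332135a1e041066646f3c6d1018ccc442a953b021998dc1b30da00333210f7032c1c665828b5925028ccb33d0973f04199667a3232e06332d7bd26af808665aa65c398008ccb33d38e0500199667a931160c332822ce39f41466501b355e9820cca0104b51403199459ff707004332800010778046650458d0bf000cca0509bcca061992cde7546e0a3325b6aa199408664b3b840a3808cc966f7aa330719909ea54642083321ed4ee9a40c6644703453d010cc88ea2bb6a011990db3d328c003321b67e10541c663800020e8830cc72f72836705198ec2855bb808331d78be84940c663a70dd9ec000cc746f09af206198c2d8d06e00a331a3b5a2b601c66294d9cc36830cc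585ec875305198ad203577208331483b2c4700c662c83e45c8000cc5619aa5cc051984ce8b0f3e0833099d1a1e780c661000000a0810cc267ab803201198509311cf0003309e13a39c0146608000098b018cc18d0cb98d02198200005ab40233053e8a58ac00660c4bfdc7c838cc04c5c88730619800000836e04330232b237d00066037f5439f038cbe2124a5f806197c6b8b4e840832f925eb02c81465ec77a4667820cbd607bb7ad02197a84fd5f1c0232f509febe341c65e28ded654830cbc3721bc56021978dd4f4b000232f1bac610c81c65d9881c075010cbb65ce86cc031974cbe104420e32e5412215f81865ca806d178828cb92829b162031972d5f507c80432e43926db480465cb4d753e7800cb96d64845e0719708591416a0c32e0f1261c481065c22a95ddb818cb865c59371021970789f1fa60232e121fed6340065c32e1c28b838cb736bf8adc06196e44b135bc0a32dd15626adc1065bb616d3b8018cb76c2e986701196f1da7153e0032dd48bab3bc1c65b000020c8830cb686a1a4cd05196ca06519140832d9a5de843c0865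b2516c509008cb646f29af006196b0bd70de60a32d4bfc6fec01065ab792d381018cb57cfcbafb02196aa6c959d80032d4c3f296581465a249a5909820cb44de483700319689bcb27d80432d18cc6b4700465a26f349ef800cb44de793e70719669bd14fcc0632cd37a69f88086598000009b008cb28f5280100519631e8303da0232c6429eddac1c658319c4d2f030cb03b499e4a0519601c896dae0832c14472471c0865824bb605f808cb0511f9dfc001960c66d7da00c32b9ab66e6b414657479cc13e818cae0000020002195cdd2170940032b9ab6ae6a41865690e9c190028cad21d4859e04195a43b5387c0632b487560bdc0865690eb4494808cad21d79f4100195a43b105520e32b0873a2e081865610e7c3d4028cac0000416403195843a13c700432b046767d7c0465609565265800cac1aad8ffe0719560b2f4c920c32ac7b1a8f741065589c5c410818cab10cfc08f0219563d9177760232ac7b2e0a6c006558e02c2b9030caa83b98f450419550c1947f20632aa26c2f8980465519805f0c800caa89b686510719523e652a780c32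a47b4a59d81065488a2c486810ca91190993101195222930d0a0032a471c233501c65408d149ba830ca81c66abfe05195038cf121a0832a051325ccc0c6540e39d47a810ca81c68872001195038d30ca40e329c71923e041865387e94f21828ca71ec388e404194e427f499a06329c7196193008653c76fdf14000ca70fb9b86607194c428f56840a3298e5c61dac1065314fd4819818ca6396e888402194c00008276023298bec6fc7c006531cb7cd8a830ca504ccad8f05194a98c327a0083295318a9e700c652b2f66036810ca54c649e9d01194a4bc309c00032958c9ef5c01c652160ec9d6830ca41dbb8bc4051948d4434f640632923b42e04c08652187fd2c8808ca44b289e54001948d44548b402328df37f04601c65127f4d9d6830ca24feab3ac0519451e9b158808328a3d3a09a80865147a7c65f008ca28f5c8aa90019449fdd674e0e3285e18e09e8186508df6c745028ca16319b3fe041942a28f4c220632863d762aa008650b4fb5e7d008ca13d8d8c5f0719405e2d1ffa0c3280c8464c7c1465046c5c6e2020ca06ee0858f0319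40f9b71926043280fcd6334800650376f47fa838c9f0000411405193edbd13fe008327c399ada300c64fb6f4c40b010c9f5e4cbaf801193e0000821e00327db196f7400c64f22e0c386010c9d6ded802301193a00000b4c003275b7ba16e00464e37f356c1000c9c76f88b510719340000820e0c326880b655ec1464d2f8ac43d820c9a4b58b51d0319351b117946043269b7c683c40464d36f94bdd038c99326cbd68061932bd8710b00a3265b7ce0afc1064cb6fa47ab018c996df59d0a021932dd432c0e003265246228001864b9cfacaba028c974542b7e004192e7fd33eb606325dc6a25c840864ba2a245c4808c97357da24700192e8ff33b520e3258000103c81864b24b96061828c966fc8aed803192c000081de043259b86ab7e40464b1bd645be800c96352b97ad04192b1efd7b50023255b89622100064a80000233830c945f578211051928dad732fe0832517d4701640864a36b6ced0808c946d6e9da8071926ab195bec0c324ce996d14014649a997d6c4820c936d7999a7021926f9b5194002324db5ee80401c649235550a4028c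9244039030041924b14f76b006324910be54d80864926385f82008c9258aa910000192498135ad00c3245192e0ea814648a8e5c892020c9151cc96a7031922a4b934840432454736ad3404648a8e7508d000c9151cf82b701191f1b276fdc0e3239a6466ce4146473c1dc5c4020c8e6c4a83de02191cd7af51cc023239a64e584c1c646ad45cb02828c8d6813922e04191b1ae718ca043235a052783804646b40ac7bc828c8c497199ac041918754564c806323125ce15f0086461d525931000c8c4975aecc0319166401744204322cc806e88004645a4bbc3d8000c8b3d9dbffb0719145c2b36740c322938e6f4d410645271dc65b018c8a23c4bad0021914bb8b3f36023229771a3d6000645271e48bd038c89292dabe506191292f32ed60a3224a01aac901064480002058818c8924e69e6401191292f90cf000322525f65be81c64432f2c127030c882da2b73c0519107eed1f8c083220fdea5bac086441d63d5ff008c883f78bb9100191079056a4e0a321cbe0edce810643a4bf43f3810c87497fbd1801190e930113a80e32192606fa80186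43233d5d9c828c8649838fa204190c930905800632192616f5b80864324c35e06800c864987832a0719084f1b0db80c32109e3a1f980c64213c7d06c010c842790bb540119083fd3035a0032109e461d081c6418d89c633030c8310cc84060419061f31320006320c6c5225bc086418866c56e808c8310ce8ae1001906204b06d80e3208d42272cc18641254cd996028c821b0e856e0419050bcd5e7c063209250a27e00464100002044800c8289d9842c0619003b0b0a0c0432006b522db41c63f88c1ca89030c7f000040840518fe3ab7236a0831fc4396d9a80c63f88ecd262010c7f4c7fbec20018fe25d358240831f97796788c0863f2913cd71800c7e51559ae10618fa3a776af00a31f48676810c1063e90cccbd6018c7d6321848e0218fa433552200231f4866e3f300063e8ffa43f2030c7c761d98a10518f909917bcc0631f1a3ceb9740863e4269dd24808c7c68f4a3790018f8d1eb2b220231ee3e7607d81c63d2631c2da028c7a4e1cb3d70418f4914164660431e985b2a8e80463d265bdf87800c7a8ea7bd200718f2c26b094e0a3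1e5a24e41e41063ca661d90b018c798ea9bd1e0218f2998b030e0e31e1a8c699dc1863c13b4cf2f828c786e3696a60418f0dc434bf60631e23deef45c0863c47bbde8f800c788f87bd130718ee8c23306c0a31dd7d4265fc1063ba6e3df56018c775f5282160218eebea73b420231dd7d5276a00063bafaad007828c763656b5700418ec855108ac0631d997febc4c0863b2155480d808c7642ab90220018ecaebf6f620631d5f40ee0100463abe82c0e0038c74515aae240618e8bb271c4e0a31d1b8420c141063a350d4f1d018c745baa99820018e8d4392f140e31cdb476a4d0186399a03c392828c736f8996590218e70aa37f520231cdb47e593800639c6d05bb0830c726a19ace30218e51b456ec00231ca367add9818638a15dc188828c716e0a8f850418e2df75227a0431c52956252c00638c85d5d03838c701cf68a440518e02dfb08c40831c1a036131c0c63842945ee7010c70680ead7c0118e02dff52b60031c2147e36e80c637a23fc871038c6e3b3da7e40618dca1357ada0a31ba40822a580c63742e8de52010c6e5b73af58011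8dc7f7d2ae40031b989ae7ed01c6369f4dceb3030c6d684a88a90418da0000804e0631b40001009808636b44cc39e008c6d69a28fc90018dad5cd33320e31b0e73a6ef4186362e43c232828c6c487bb5990418d8a8d339d40431b1f3ae36980463634a24cb9038c6b652ca10d0618d6b8c35c660a31ad945a2254106358000200c810c6b6d23986a0118d6ca3d5d380431a958f6596c0c634be7ac86d830c674d95be820418cec4bd56a006319d9a4e62d808633c7b7dc61808c678f75b8c80018ce99a9122c0e319924321210186330ea1d962828c666a3285310418ccdc6f22d6043199a8ce5850046332cef59b2838c6513aab66d0618ca58df302c0a319635d2323410632b474c7ae010c6567c1a1ff0118cad8513f2208318cb236fd240863192294add838c623d98bba4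
def jm_8 : ℕ := 0xe6803000e6713000e670b000e6d1b0001dfc1000223f90054b42b00011bc1000e6d030054b4130054b40b0001e7d1000e65130001f86900020289000e64230024e81b000e6413001c163b000018910001858100005ac90000f481000019b9000089990032441300487c2b000e612b0001d1c900014581000e7513000e6023000e6013000e600b00412223000223d9001bc03300134f0b001bc02300006601000e750b0048170300000000001ccc130047a71b00000000000ea61300003b29000038910039b003000037f9000000000000000000495c230025180b00002909000000000012de2b000028590000000000008a71000000000000000000000000000038b10023971b000e52230000382900000091000040a1000040c9000e512b0000000000000000000000000049502b00002881000037e1003f182b0000238100000041000e591b003a4e0b0000a561000e4b1b000e4b130012e32b0000000000003921000e493b0000000000008ab90012ed13003ef1030012dd2b0000000000003a19000ef22300000000000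00000000e471b0000000000000000000e403300001d910000000000000000000000000000000000000000000e4e0b0016132b001613230016131b001613130016130b001613030025ab1b0027bd13001ce32b001ce31b001ce31300014659001ce303000173090010f8330010f82b0010f8230010f81b0010f80b0010f803000e373b00195e3b000e35130001f171004edd13004d9f2b0000534100004c81000e3123000e311b000e310b000e31030048da3b0001ac59000100410001f6190001fb290030130b0030171b0024c3330001f0f10001b209003017030024c3130001edf9000e2e2b000186e1000e2e1b000051110024c31b0001896100018aa10023f8030000fbb900012c9900115c2b001ae71b003dcf33003dcf2b003dcf2300011551003dcf13003dcf0b003dcf030026b23b00327533000199010011721b001172130011720b0000038900001ef90000a9090000887900004fd1000114d10011702b0016601b0000e7310011700b0011700300404b3b00247723003c471b00116e1b00308f1b0011671b0000000000105f2b00105f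230011430300290c1300105f0b00105f03001e4c1300000000000000000000000000155c130001b8890000ec1900112b2b00112b1b00112b03000e213b000e2133002c730b000155810044ee130011282b00164f2b00320b1b004c9e13000199410026822b0021f70300456803004199330026820b002c671b002c562b003839130001b8e900018bf100125b23004b0213004133230046cf3300010e090041ca1b0000ec590000f62900358e3b004c4033000ff91300383603000004990000b6790023623b0020b83300133223000e1803000e1723000021890000000000005239000e161b000e160300001ae9000e1503000e142300001ad9000e1413000e140b002d002b00118213004c2d1300015c61000e1303000e121b000141d100012b01000021210028f41b00000000003da22b0028f403000e0f33004dd223001a052b001c611b00005571001c6103001c693b002893130018852b0011481b000e160b000115c90026c92b0026c923000123210026c9130000f9e90010ff3b0010ff2b0010ff230010ff1b0010ff13000000000010ff030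00e0a3b0010fd23001c762b0010fd0b0010fd03001e242b001e240b0010fa3b000216d10010fa2b0010fa230010fa1b000f9623002ec6230010f93b0010f933001c642b0010f9230010f91b0010f913003c260b00022b31002eb00b000084d9000080010000205100259c23001abe130001fe9100115d3300115d2b00115d1b000049a100115d0b0020c80300018521002c0c3300000000003cef1b00004eb100008019002c0c0300005621000e022b00107c2300007fc900007ff100004871003ccf3b003ccf030033443b000000000033442b0002165100001df10001fd910001fd89000dff130037ea3b0037ea2b0037ea230037ea1b00259a2b000000000010782b001a923300009ea1000000000001e80100022331002a5d0b0001b679000112a90018973300503c23000137010000b5010000fc4100503c0300018d09001334130010790300001d810020bb1b000020110000e52100016b81000161b90022db1b004468130018d23b0026921300194c2b00194c23001b463300194c0b004c0e1b00001c59000df82b0000c2f1003c251b004c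1e3b000183890023f02b00017a19003da603003d50130000c699003d50030018483b000df603000df533000029290017532b00002931000df5030048583b00000000002584230041b61b00261213000120110000296100018a01003a36130018bc2b0034340b00375a030037591b00019cd1000003210038ad2b0040cd2b003bed130001c1c900014b0900019dc100101803003fa02300451d3b000024c10025ab3b00014b2900010f1100001da1001ace0b00009411000ef0330011222b00112223000108010000e4c90011220b00112203004eaa3b00004999000e60330001616100015831003b4523003cf21b001acd13001acd0b001acd030001733100380e3300002991001e9803004b1a030000e9d100012d51000125e9000f802b0047352b00474c1b004f6c1b0000000000000000000000000041d713000de62b000000000000000000000000000017d100000000000efe2b000de4230000000000000000000000000000000000000000000f06030000000000000000000ef31b000de2130000000000005339000efb2b000000000000000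000000000001026330010262b001026230010261b001026130010260b0010260300180d3b0001ecc10001ef3100180d1b0001e9e10001e61900180d030001e9f100021e7100005cf10001c349001e6903000070510001a311000097610031b613004a4333004a432b0001f0d10001f5b10001f5c1004a4303000dda2300000f51000dd91b00000000000017c10000e8090001ee9100021e4900334c230000efd100021989000209f10001f3d10001ab41000117810038d60b000175a10011d403000ff703000170190000f411005485330045ad13000025b90000d801001236230011ed3b00206a130039240300188613001e98230011ed0b001a243b0000455100013061001a2423001a202300539723004bed1300020cb9000147d100001b210022962300167b230001b3190001dd79000044210001f72100003f010000b3090013981300000000000150a1000025a100000079002ca20300001981000214d9000087910035c303003bd31b000004d9004e1c3b000000000012812b0047480b00012fe90000a9110001b9d9000162790030300300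008a410000fe390002073900005c8900156f330047db1b0040831b002d343b0001e0610038570b0049d03300017ea9004b3633004c262b00002399002a250b0038d5130046e6230046581300266a0b0041192300005941001e9c2300001ff100003731002a2a13000024d10024231b00429c13000014a9000126e1004bce230018b523003ce903000dc2130000784900004ca90033373b0001e5910001f2e1003e542b001dc113003e4c0b003337030012bc3b003f75330012bc2b0001db890012bc130001dae10012bc03003a031b003a0313000016c1003a0303000215c10001f3a900340a3b000195010053ec1b0040320b003fbf030000000000000000000000000001d07900004be100425b3b0001dd190001dd69003dce0b0001ddd900126d3b0000ffe100126d2b00126d1b0000000000126d0b00126d03000000000000bc39003b972b000000000001ced900016a590034c6230001ef490001f5d1000000000000bed10000a9f100000000000dae0300005301000052f9000000000000213900001e69000000000000000000000000000da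c0300001d31000daa1b00001e31000044a100001e010000000000000000000da903000da823000da81b000fea330000fee9004cce2b004cce23004b282b004cce13004cce0b0001a4c90019f23b000110e100011429000067f10000215100443e2b00003559001ad53b0001e2b9001ad52b00009481000080c9003b6b2b000094690001586900015b390038b213002cdb1300008279000137d1000161510048c5330041ed2b00002171003745030001b4290037530b00004e910000450900005a910000567100002069003d861b003d8613003d86030038252b000d9e1b000d9e0300004e69004fe2030012811b00013df9002ea603000d9c13000d9c03000000000013a42b0001dee10000f219000095c1001fd40b000138190025e93b003e59330044742b000000000000205100405f130025e903001b263b0000c389002c9223002c921b0046512b0047353b004eab3b000175d9004eab2b0018932b00000000004eab0b003bc20b003f790b000fa603002f260b000122e100267e33004d1d3b0001b3d1000163f90001726900013b6100017c11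000d9503000d942b0000ebe90000f9c90053ce1b000d912b0042a213000d911b000d9103004a323b004a322b0048be230000294900001c51003ba63b0000000000267f330001028900443e03000d900b0053b32b000172d10001a5e10026b12b0026b1230026b11b0026b1130026b10b0052db13001efe3b00015b9900015ec1001efe1b001efe1300391323001efe030001f9590002208100003fd1001a831b00000000004dce03001a83030001bf8900210d3300210d2b00210d2300210d1b004f080b00210d030026130300001b390026130b000000000000977100004cc9003d8a1b000d843b00004b410000005100002381000017610037083b000037b10001981900019ae90037912b0001ed1100001df1003791130037910b00001d4100015db90021291300017ba1000000000027ea3300022ee10001c0090001c891000f622b000f6223000f621b000f6213000f620b000f6203002aa21b000d7d1b00000431000d7c3b0028142b000018890028141b0000007900281403002cdc1b00011019005281030044f11b00207d3b001fcd0b000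0569900008819000021b900000cc900005b010028120b00015f01004f731300176f2b000dad0b00176f1b00002289000142190011f53b0001caa900019b490011f51b0011f5130012ae0b0000f981000d76330028f423000d9f23000020990000000000015349000195410017a32300001ce9000000000017a30b000020d9000efb13000d733300467f2b00392e2b00015c41002ddb1b0000f351000da803002d9a1b002d9a13002ef63b000d7103000028e1000efe0b000d6d330046940b004f6c03004b1a1b000d6c3300374d03000d6c13000d6b3b00005c6900234f3b00234f2b00005de100234f1b00234f1300234f0b00002569000188710016292b001629230028153b001629130016290b0026131b004bfd3b002be913002370230044f023001bda1300274e1300002109004bf11b0001b631000047c900168003000183190046e62b000d731300400f1b00007f71003bee1b0020ce2b00006e0900425f3b0001a3e10025aa2b0000000000425f1b00001fe9000108e1000059a9000000000000587100000000000059b9003c7c23000d50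2b000053d1003a701b0000275100000000003a973b000d4d230000000000000000000041e1000041d100000000000041a1000d4f2b003f8a030043f613000d4f0300001c91000d480300002221000d441b000d481b000d4203000ed513000d40230000266100000000001a7f33001a7f2b001a7f23001a7f1b001a7f13001a7f0b0001ceb10029e42b0029e41b0032d3130001d521003b393b002f67330001d2b10001d3910001c6d1002f670b00169d030001bdd1003d793b00337433003d792b003f6f2300337413003f6f0b003d7903000161490001eaa10000066900000a790001d68900010d1100000000000229b10001ed090037402b0001dc310001dec1003740130001d9010001c0e90013b42b002852230013b41b000000000013b40b0013b4030053b933001ae32b001ae323001ae31b001ae3130012091b001ae303004b2b3b00317433004b2b2b0039a323004b2b130001a9c9004b2b0300019c51001d7e330025a12b00503b130025a11b000148d10025a1030047b32b00000000000000000000001100131f2b0000514100133d2b0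000cfb100432403000f020b00432213001f8d3b00433133001a2b0b001f8d23001f8d1b0043240b001f8d030001b5a9002b872b001bc623001bc61b001bc613001bc60b001bc603004476130054682b000219c1000202d900021599000214b900020ff1004e013b004e0133004e0123004e011b00479b2b000028a1004e0103002e3f13000d2b2b000092b900109c23000000000019473b00020db10019472b00002869001947130019470b001947030001621100004c41001a162b001a1623001a161b001a1613001a160b000000000000e601000d2633000084290017231b000070c90000f8b9000d730b000005890000000000000000000082110000000000002731000036b100009cc9000d213b00002741000d21030019e53b0019e52b004ede23004ede1b003139130036530b004ede03003670330010d62b0010d6230010d61b0010d6130010d60b0010d6030027773b00017071002777230027771b0039a52b00012a0100277703000084810000000000019ab10048b80b00016249000193210010102b0013c323000000000010100b0013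1e2300227a13000fc13b000fc133000fc12b000fc123000fc11b000d1b1b000d14230022ed0b000000000013ca230000000000005bb10000dd3900000000000d123b0000c6d9002dfb3b00018b910016802b0000f0810016801300000000004b681300167f3b00167f3300167f2300398d2b00167f130043aa0b00167f030011001b00167e3300167e2b00167e2300167e1b00167e0b001c79230000000000002849000d0d23000d221b00227c13000000000043803b0043802b004380230043801b004380130043800b0043800300220c0b00122c3b00020689001fe00300122c1b0042cd1b0001fad100122c0300000000003c5f3300000000003c5f230054661b0014e33b00021a610011ee3b000145e9000214f100347933000d072b00347923000d071b00002d310053850b000d051b000d0513000f3533000f6d2b00248d23000f351b000f35130001bef1000f3503000d0333000d032b000f220b00441c3b00441c33000135f900441c1b0038632b0001f4c900441c0300239c3300181e2300000000000d003b000f3333000d002b000f332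3000d0013000f311b0026063b000d01330001afa100004ff9000d011b000d0103004b5d330001bb8100008a690001bcd1000cfc0300002a89002e882300313433002003030001343900011cd9003f86230000f93100000000002ca21300503f2b002ece0b000013a1002ca30300129b3b000d95130014822b0026b50b0042a22b001482130014820b00390a2b000000000041091b000000000001a6510000000000174e2300174e1b00174e1300174e0b00174e030001f4e1002e522b0001cca1000191b10034652b002e520b0028fd030001ac11000cf323001ef41b00006aa1001ef40b0000298100356d3b001fd3330032e413001ef323000131090039050300193e1300013cb10012002b000cf033000cf02300003c91000ced1b000ced03000cec1b000019c9000ceb3b000ceb33000ceb23003c410b00373113000d9d2b002f3103000053b9000037c1000cea2b000015110038ac1b0038ac030049762b000118090023682300195423002cdb2b000ce90b0038b2030053971b000000000038a71b004b602b000ce80b0041331b0023781b00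1971230000000000371c130019710b00197103001a312b001a31230012151b00001a41001a310b001a3103000ce5330000885100464733004efb0b0010be3b0001b611001ad51b003f8513003abf1300176f13000d7a1b00197b3b0000e171000024a10041333b000010b9000168710045ab030045951b000207d10000f719000047990011ff0b0038ad03003d4d3b00019969003cd30b004acd2b001a1223001c9d2b00010b810053d12b0000d0f1002dd223002dd21b0000000000010371002dd20300023c1100023ba90002393100016351000225710000f7810002366900022e390027be130001005100019e29000211f900022ab1001bbe13000000000000e5910022e33b0001ea9100022c290000f2810022e31b000235f1000000000002356900019a310038113b000000000002348100003df1000201310001c931000d00330045e81b000d001b001ef82300000000000d0003001df33b002e6e33000190390001b45100000a3100004ce1004ae33b0038e60b0001c27100016511000cd50b0027511b001f763b001f76330001f7c1001f7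62300275103001f761300414e0b000cd32b000cd31b00008ba1000cd3030025811b0041162b004116230041161b002899130041160b004116030001c6290000ab2100315d23001a2b3b00315d1300315d0b00315d0300019eb100173c3300016da90041b123000014b9000022b10010423b000cce3b00127d23000d91230042a20b00001c1900193513002943330045122b002ef6230041892300005c49000226790046b62b0046b62300010b2900278d130046b60b0046b6030001c92100022fd100023bc900018a71000000000048590b000226a9000cc933003743230041c033000cc90b000cc83b003c320b000020a100001c010017960b001796030000000000135f130000fcb100010f990038d70b001a791b0013f9330039202b000196c100286233003a470b0001b6e9003c461b00002961000cc22b000cc223000000000044063300483a0b000e752300000000000d21130000000000254513000038710011f92b000000000046570b000f83030001b5a9002d4f0b0024772b0000199100008171000cbd13000cbd0b000df61b00008a31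001848130045342b000177e10000e3e1000cdc1b00407c13001a621300019d5100453c2b0051e5030017a3030044680b0047051b0026fc33000f532b0000e6e10001543100391d2b001d87030039353b0001af7100273d1b0050de230050de1b00001a69001eb01b0000000000004981002c8703000deb03003c451b001a7903000043c1000cb52b0050d12300008881004cff230021032b0020d23b000e0223000e021b0000f0a1000e020b000e0203000cb33b000cb31b000000000038273b000f010b000012890000f079000156e90051e53300107823002a1d1b0010780b00001f31000cae33000e992b000000000050df3b000cae03000f7033000f702b0001b1e1000f701b000f7013000f700b000f70030029f13b0029f133000000000029f11b000076190001e3d9004cc0030000a4f9000f1733002c7a2300173603000f171300002891000102f100005e9900004dd900000cc9000caa0b000000410001be390001bfb90001ea210001e8710024c00b002dbc1b0001e8190023f9330023f92b0001ddc1002dbc030023f9130023f90b002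3d83b000181110030232b00008a390023d81b000019f100010989000164f900015ed10000e0510028ce1b00000000000164010028ce030001f8e90020d42b0020d4230000e5d10020d413001982230000f0e100018e89000176010020192b0041932300210303005315230020190300008959000ca23b000ca233000e1d2b000e1d23000e1d13000dd913000ca203000e873b0001cb310000f15100465913000dd90b00201613001e0e1300018131000175e1000024410036f003000027a1000015410036f01b000000000021002b001c7f3b0021001b0000161100000000002c3a1b000c9e1b000c9d1300000000000c9d03000f832b0000b521000000000001ba3100010a01000ce51b000024610020fc130020fc0b000173f9002d8413000ffb2b000ffb23000ffb1b0042b70b000fa83300015cd9003c262b0000b2d10000ba29003c2613000e0603004bcb1b00000000001fbc23003af52300000000002e6513003bda0b00016bb1003e0503000c950b0000000000010891002e642b000c9423002e6413002e640b000140d900015ad9002c2c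0b002e632300411713002e630b001fe623004dce3b004f6c2300112f2b004f0e3b004f6c0b000d6d13000c9133000fc02b000fc02300100d13000fc013000fc00b000fc003000c8f0b0016433b0000acc1003bf90b003749230016430b00010591004ab92b00400623004ab913004ab90b001fbc2b000c8c23001fbc1b000c8c13001fbc03000c8b1b000c8b13002a1d0b0011170b000185a900418f3300418f2300006c31004a4613004a460b00418f03000198410024773300249903000000000001a7610024770b002477030000e62100014f31004bed2b00014a31000044b1004bed0b00535f1b000c872b002b4a23002b4a13002b4a0b0010033b000c86330010032b001003230010031b00100313001003030025eb3b0025eb330025eb1b0025eb130001bc110025eb030032c53b001736330001f0790032c51b001736130017360b0001eea100016c490014f213000183d100004f090052f1230000000000000ce1001d2033000c80130001e8c9000000000051ba2b0001ebc90001e731001822030001e29900003781004cfe33000c7e030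001c5f10001b391004bff230000e431004bff13004bff0b002b33030000bb31000004d9002bd01b00005731002bd00b002bd003000c7b0b0020d41b0038d703000c7a23000009c900121d1300000031001b0a3b004eb42b000c792300000021000c7913004b673b00019f59003b310b003727130000171100001721000d741b0016ef1b000c942b000f4e0b000c941b000c9413000c940b000c94030020780b001921230000e509001921130019210b00013629000c751b000003210055070b00011401000e2a0b00116a23000051c900116a03001eda3b0020c713000e1513000053e9001eda0b00000011000c7233000023c1000023d1000c7133004ae12b004fc3030040632b000011c100003df10019672b001bbc2300005519001bbc130019670b00000041004f223b00015719000ff4030000162100004fa100011e31000149210000cc8900014b810027ce3300000000000000000041a12b000d6713003d880b00015d910019763300128e1b00194d0b004526130042792b0000ead900011a790000eb41000000000052b723001aa92300012381000088a900237b130000f5e10000e0e1000010d100001731000c6703001a2c3b004a3e13001e112b003b3003001e1113001869130043591b003b551300002501004a5023003fbd2b0053ca0300018c11001bc1330011173b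
def m_9 : ℕ := 0x22266bd4f08340244cd7aa25a5000899af54c64d0391323cb7b584062264bbc121b00a44c977027a2c10899305a52fa8191325e70a976012264c16b08fe0044c982da1fd81c898ad1357a98311313b0ab28d052262684952760844c57aaa1b6408898af55c7a78091315eac976b002262bd5b3cec0e44bd6af25cb018897a2174a9b82912f5befc62204225eb63126120644bd6d267b5808897adbb4f8a00112f5b4a8ad604225cda838e6e0644b9b50b1cd80889736a1e39a81912d6d44c73200225a00008e620444b1bc8a372404895b75f63708211296d49b7f0042250da978e440644a1b5331c840089436a6e39003912724e8b42805224e4e1b5bd408449ccf9a0ff40c89397104d658111273959979b01224e51c762c200449d7c1e2ae41889319f1cf6e829126599d856404224cb33d1f9c064498bef672240889324d0d09c80912659a1bca400224cb34575800e4495244a305018892ac8a4f5d0011256b06c5ca0722488a172a460a4491b5771b6c1c891acc1e5e583112360d0af07042246d735787c0c44897e5e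09841c8909129ca648311211dfb83f4032242dff975fc004485b5231c981c8901cc34cb90291203987916004224062174264064480e6220ff808890000027de80912039898c8906223eb11b96aa0a447d551b3e941088fac49cfe401911f588e8fca02223eb11f0fec02447d6242b1d00088fac48c82f03911e09f3b0dd06223cbe573f1a0644795a9abd280088f21a0e69803911d6b408b3a0622388e133e7e0e446d557286541888d9e295c0202111b41ebbe0f03223600009f56064464bc26b6780088c94a657e98391186458b7fb062230c13d9c200044614dda75581c88ba3ff5dd2031117423b8d7b03222e7b397ffa02445d25e302f01488aafc0cf49819115684dac2c00222ad34188500844513af319240c88a275ee3240091144ebea466022226e0ef44f200444d45db144014888000016a50211106da4ad4907221eb3a37a320c4434835e866014886906c418782110d20d9844403221a41b51010044434837a2a1004886906dc26300110d20dc83200722180d9354c00c443040b240f0148860a13c1be01910c142885d70222182853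258602443050aa36dc008860c20441c82110b1812bf690322163043041004442c604efda0048858c0a5fb380110b1aa18325042214d2b7167e024429a1b2ea380c8841069c06183910603cec89605220c5d8d091c084418bb1e10500c883176452688111062ec9bb0001220c5d955684004418a40630ac0c882b094e5710011053ef69af0072206b45d115e0c440cb9aa26101088198b6d0998191036e04c5ae07220444d1110a0c4409037a469010881331ac95d0311012b36834d04220249276b660e4400f52e0abc188802afe4a7300110058ac8c920721febc4f3e380a43fd7b0667fc1087faf615e4c8190ff5ec7cb1a0121fea48d8da60043fd7b12bb900c87f2d5fd6560390fd5249c6d10421facb8583340e43e96b0ab2fc1487d2c31c8ee8190fa6bfdc6530121f4a4ab8d880e43e5814a59f81887cb2d160880110f96f3bbb530021f2a7d98d7a0a43e1268e84dc1087c3059c44a0190f860aeac350221f0c15f30a80243e182c2ef3c0087c3058c43f8390f71f379c0d0621ee1ec382c80a43dd71de7a4c0c87bae3c56160110f75c79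86c90121eeb8f505ee0043dd71ee13300887b2e3e4fc80390f52ec091c60621eab709835c0a43d56ec681701087aadf267580190f565d6c4130121eab7d758d80043d58656a90c1c87a2a9660768290f45677af640421e8b82b4c040443d16f36b3640487a2af662bf8010f43bce84760721e6723b91b60a43cd71fa49e4108799c8fe46c0190f35c7f99300221e698f37dd80243cd72064d201c879102457a10310f24135bdd00421e4b0219b660643c8ea563f9c008792e02ca408290f135ab983d0321de588351860c43acb9ce078008875b3cf5b9e0390e8564e9a590521d0b95541740843a1733e64940c8742e56e12e8110e85ca8a9b40121d0b94d3cf20043a17242a8801c87329becea30310e6650e872c0121ccaff33e560e43945bef157018872aca750888290e54879b59c0721c4541552fc0c4389140a45a01087137e7c5af8390e1520d9f5e0521c2a41d2dd6084385483f307c0c870a9a9d5bb8110e1535187380121c2a42170140c4380ada291001487030be49010210e0617dbafe0321c0c2fd3c2604438185fe12040487030c0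63730010e06182921e0721be961b3bb00c437c56a239d00c86fb7e9c5ab0390dd3a14a5fa0621ba74339ad20a43753bae308c1c86e306d604e8310dc594b854a0421b8ba1d337206436d82a2984c0486d800000808010db6b238d8b0621b417e30d120a43683d5a0db01086d05f944b78190da1f8597160221b417e745de0243682feaaca40086d07d25bda8390d85dde91320621b079973442064361777f01300886c367d5b910090d86c29c0040021b0de5719ca0e435ce74a15a01886ba55fc2300210d76d78c0e10621ac986386b2004359ada6dc8c1486a24ede4f38010d2000049e00421a295b593bc064345ba4a7bd41c868375ad2e58290cf49ddc9d802219cdd233df004432d3ad3272c1c864a75ae4e48290c94eb7c9c70221929d71938a0c431da0e6ff4c0c862a59f64db8110c44b40c9b10021889683936006430d3c7ec53810860a7fa64d40310c06780bfb405217cdd0904440442f9b68a2d101885ea52ce4d20110bd4a5ac9a3062176c65573740a42ed3a8a34800c85aba2c47198090b50000498d00216a93bf93180c42c99df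efd740885927fbe4bf0190b100000047072156d3c91d4e0842adc16efce40c853b4c0c0af0090a700001a4904214ad3337d7c0a428da60afc5c1c84f8000077c02909f68a28ef602213ed75d181c0e4279aa8a18280084f3551c30282109c689ec383072136000003cc0a426da2863c2c1084d800000f181909a000006c5062132000000560a4264000000a80484c80000013839096000006b405212cd7550d64064259aeae1ac00084b35d6435703909469c28626002128d3870c4004421936df23a00484326dc64738190854db9c8e20720fed5e503be0a41fdabd207780483fb57bc0ed02907d6a51ba510420fad4a574a00041edb582188c1883cba23d31d02107969a68c790020f2df2f8d000a41e146f31a440883c288f60ba80907854eb9dfc0720eea0c7667e0c41dd37b6ccf80c83ba6fb599e0090746ee18a610220e4d8031b300641c1bb2601901c8378635cb6f82906f0cb497180420de138b11580641bc2b7a53c00883784d853a980906f0ddb83710020de15cb29e00e41b8225a1e2418837044bcb6f82906e0898a3af0320dc104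b9d060441b8214e53bc048370000274e80106e0899a2030720da3cbb6b900c41b43362d670108368667573d01906d06bab4930220da77c57bda0241b4f8ae66fc008368527c92883906c10fba8b00620d8230b37980a41b0877a4eb0108360000274881906c1143ce8e0120d8423760620041b0343739e81c835ab54494603106b00004e8c0520d600009d160841ac2302b0dc0883584b6d82500906b07189b110020d617d372940e41a8245b08dc1883506a9cf9282906a09ab92460420d40faf3f8a0641a800013a0808835051ed75280906a0966c1070720d2370b24ee0c41a46e22715414834910b65eb02106908fab0700320d2370d47660441a4304ef7b8008348427d81f0210685559a89d0120d079432df60c419c1bcaab7014833ac8260c68210675159a8090320ceb6213d0204419cc422c60404833aa594b84801067596c9fbd0720ccb9a35e9a0c4198217e52141483331d0e58f01906600004e6c0220ccc74510220241998e8e3e500083331d2627283906550618b670620ca73512e840a41958e962fa410832ab2bcbec01906563a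684140120ca00009cc60041958ea25fd81c831b0bcd72503106300004e600520c6c7532f3a08418d8eaa49940c831b1d5c93181106363accb5b0120c6c75b3f4e0e418925c2e258188312f00508602906263ae8c740420c4c76920940641898ebe153c0883131d8561300106263b1853c0620c079d54b1a0a4180f3aed588108301e7648dc8190603ced93ea0220c079dd1b96024180925eca78008301e77e33982105f5eeb984c0320be7f99547204417cf57b1cd40482faf74420200105f5da6c0690720bcc7178d1a0c4178ee22b5c81482f31c6428a82105e638d88740320bcc71d22980241798e62ae640082f31c7d08883105d73f587fa0020bac7677bb00e4170000138f81482e31c8c9a302105c6392995e0320b8c735102a0441718e4e97200482e30b9622603905b55aba8060620b6b4730ac20a416d856728041082d9a10494881905b6083ab960220b6c733421e00416d6d1e81d81c82d2b83e5ad82905a5708a01c0420b4ae1351920641695c372d280882d2b8543f780905a570bcb170020b44eb599700c416483d2473c1482c86f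6e15502105915f4ba640320b2b41d2f7c04416483ca49440482c9018c482801059203fb04a0720b0160174c80a41618f1a68700c82c31e3c82801105863c8b71d0120b0c79330d40041618f2a16f81c82b1852d3b00310565c5c8dc80520acc7cd76820841598f9f33140c82b3030de7c00105663e8a9b40720aac7d908660a415579babaa81082ab1f6c5f90310525f17c29d0520a4af413b3a0841497ff284200c8292f14d05f8110525e48a47a0120a4b0e50a9200414982b690ec1c828af7f429782905163bba5d20320a2af8f96fa0441458ef23fb004828b1dec56680105163be9aa00720a0c77f0f9a0c414087e683d01082831e045c3819050230f8a1f0220a0c78320b00241418f0b331400828274fc69603904f63cbac6306209e596530da0a413c401e97fc10827b1e64ebd01104f63cd9d0a01209ec79d3dc20e4130b7db1d641482624f7606e82104c49ef916403209896d1109c04413188d72de0048261d054c8a00104c49f1a6e6062096aa7d1c200a412d649e0e8810825ac945c0481904b592d8ffc022096b253474e02412d64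aa52b400825ac95cfdd83904a549f98b00620947d350a240a41298f3e78e80c8252f41503b81104a42a7c054012094c7a13e3800412925d303040c82431f8c7d380104863f38fa407208ec7a310220a411d8f4aa6cc10823b1e9d70d81104763d4c19a01208ec7ab0a2800411d8fa70b281c8230287dabd03104639699f3505208cb92d57c4084118f8c27c940c82331f5e0cd81104663d6c2c901208c8df33ea60e411569a316b814822af45cd3b0210455e8c86f803208a7e5551360441152526279804822af46c6fe0010456007c105072086c2c941260a410d12920b200c821b0b44bd28110434fd29e59012086c2cb346000410d859a105c1c821300fe0fa831042601ab82d042084bd0740ec064109806e922008821300e4c628090425fbabced002084c03b08120e4104db8658d418820adc053ee82904163c3842f042082c789088606410577ab110404820b1f7470800104163c58e2b072080b9d148f40a41018fe65e1c1082030f1d75781104063fa88f9012080c7f71b300041018ff23e941c81f9d604d4303103f4524bafd05207e96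454e740840fd82222ee40c81fb044cd6781103f63efc62200207e6f7b3aa00c40f89f5a59141481f13ebc70602103e27d88ba803207c4fbb29c00440f89f6672c40481f13ed4b2d80103e27db8fa106207a567520980a40f478264f940c81e87c6d54b81103d2b3baa3701207a3c1531ac0040f4acf238b41c81e0816c88603103c1ed4832704207822d32c4e0640f0459e38c80881e0f6ae58180903c1d16980a0020783dad84240c40ecbefe73c40481d95a356b603903910aac867062072567b0c8e0a40e4acfa24401081c8e594f338190392b3fad50022072568151260240e4ad064fb81c81c0810404483103812ff90f2052070260111580840e047ea78e00c81c0ce0d89b01103813058b6e00207026052e680e40dcb9ee76a81481b973e63760210372e7d874103206e5cfd08f80440dcba0a3d080481b973fc9a00010372e80914f0620687ae5040a0a40d10c532b101081a218ad0ab819034431685aa012068862f2c7e0040d10c620da01c8199a53c495831033039da13605206653f3194c0840cc000135e8088199b754f4c80903334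a989e600206600009aee0e40c479925cac188189426c4298290314319ad5a04206286352c7e0640c50c6e14a408818a18e43b7001031431d916b072060766f12500a40c10c7a7e8c10818218fc6490190304320bb9102206079759ac00240c10c86c94c0081815add88e83102f1299c3d105205e377546880840bc4f8e5af40c8179a23d35e81102f19e1c83601205e30a91d0c0040bc763e61d81c817219149e603102e12cbc55204205c864705960640b90c925e94088172192cab180902e43269a3000205c864f082e0e40b50ca2efe018816a194cb3b82902d432a8f6204205a865757c40640b50cb244d804816a196d5a780102d432eb8f60720566d3b092e0c40acaeeaf15414815a197d16302102b3087963d0320568661074c0440ad0cc6103004815a199563183102a40ab8b5f05205486672a880840a90cd29c980c815219acf6f01102a43369139002054866f1b180a40a40000005408814800000090090290000000105204ed53107520e40984a2a097c148131cd9cde502102615d585f203204c7ebd2d3e0440990ce210e4048131c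dacedd00102619c38f6b04204a7cb320c60e408d0ce7139018811a19d4be0021023433b9e850320468679319004408ce46f293004811a19ec98b001023433e83ff0720447649945e0c40890cfeb5181481121a04fff821022426eafaa02204486850ff00240890d0e54881c8109a33524b83102143448a9d052042783572520840850d1a581c08810a1a3cf8780902143489a23072036382378ca0c406d0ddf03041480da1bc422f82101b4379889103203686f518ec00406d0dee8b000c80c800000b6039018434988240420305935368a0640610d2a2b3c0880c155d43c88090183814b28200203086978c9006405d88cb2c101480b21a64707819016434d96a602202c869d3c9c0240590d3f04481c80a904d52730310152250b72404202a00009a260640550d42695c0880aa1a8c7db8090154352857e00202a490969200e404ce9aeccf0188098d2062aa8290134013a61e04202680a7394404404daa660ee004809b54d41d30010136a9b83ae0220240000075804404530f30d2014808292b55be0110104c3ec343012020a4b1114404403d9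82a1dec04807a92d4ea382900e6d59c6e301201ca7e7264c0a4035496eaf6808806aeeb606981900c55628f550720162a9113240c402c4d9a09e0148058aacc26701900b16dbbf5602201628d3468a02402c56028764008058a69441e83900a10c295c80620144cad0e2a0840284ddb0e000c805132bc3d101100a15e6961b01201430c972d60040289962398c18804800003b981900900000bb607200e35831afc0c401c4822bfd4148038d5dcde48210071824b37f03200e357910c204401c6af68d24048038d5f48c08110066af881d907200aac1d2a440a4015583e618410802ab0847cd819005561191c202200aac252378024015584e98ac00802ab0ad465031004314e94f00520087c0d3d0c084010f81e0d680c802190be0590110043c3fa7210120087c1148b2004010f82682cc1c801ad2de6498310034982c0a1052006b5b11f4402400d38ea08501c80111385d768310025520b2bb042004461b6b5606400917ea369c008013036c5be03900166f9aa31042002def57a50064005b0cb0764188002a87d34e838fff4a9bb328061ffed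587788e083ffd93027ad40c7ffa54f5992828ffe12909f65041ffcda5d8eb0063ff84bce5b00087ff3a9c5c63808ffe1aae8cac061ffa5e2b19400a3ff5319a3014107fea633e564818ffd57b4904c021ffa7ee30de2023ff531a64878007fea6354989038ffc00004cb8061ff8e2293ff20a3ff162a70364087fe37e25eff000ffc2329b297001ff6dbed81f40e3fe8cf865f24187fd30b05bbb010ffa5e158f5f011ff4d6a788ca0c3fe5c5069aa0107fcb9c9d05f810ff95db2c70a011ff2afa31f580e3fdd5f5ecafc147fbaf9455bc820ff75089bd7f031feec5c33358043fdd422ef5f4047fbada7c8eb800ff762dfc5d6031fecb3af0c0e0e3fd5423af5e8187faa847debc828ff56f3cbb52071fe8a12b7ae6083fd1ada22e340c7fa284bdeb8008ff45099bd6e001fe8accd805e0c3fcdc67e1cb8107f9b893cb33018ff3509ebd68001fe6af9f1f5c0a3fc5b56b1b80107f82642df52800ff04c86bea1031fde990f7d400e3fb56ba6e0100c7f6b5006261010fed6d95bd13011fdad5397a320e3fb136ef2358187f63574c9f7018fec6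aeab8ef051fd6c45d95e6083fadb1a23658047f5b1345513000feb50f0bcb6061fd4c3fd8a620a3fa9ae62f478107f52854c102038fe900004c84051fd272c539d0083fa4a9128c800c7f49b4e4d06010fe94b0cc51b011fd275f51256003fa4000131f81c7f41878c2e5030fe808cbabd3051fd072b74f38063fa0e5724d70087f41caec663808fe8395e953b001fd072bf094e083f9cb90e7a58087f39d49c879008fe73b5d947f001fce75295af00e3f988ad30f14187f317b4c245028fe63cfa9e3e041fcc79e90e5e063f98f3d6317c047f31e7b4f06800fe63cf7bb84041fca76a34efa043f94b8e625101c7f217fec8bd030fe424b29aea051fc86d17277a083f90da32123c0c7f21b46d235810fe4368e8fac011fc86d1f7ad00e3f8c6fd61840187f1ba93d399028fe33804871b041fc6700b3c1a063f8ce01a3de4087f19c03e0fc800fe3380883dd061fc4082731600a3f88105229ac107f1020ad8b1018fe2041691d8021fc4082f1f46023f88106a9704007f1020c622a038fe1052d8e71061fc20f5d3c1a0a3f8413ee1f4c0c7f08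29841b9810fe10513a0dd011fc20f5f0882003f8414ba76d81c7f000002626830fe000f7c114041fc003ef0f9a063f800492aaa8087f00185e447808fe0030c83c4001fc00000988e0c3f7d7fc6127c147ef818d53f6820fdf2d0db4c1031fbe77153588023f7c0f12abdc007ef8f334ebb038fde029d8e1a061fbc05337de80a3f78000130f8107ef014d50a5810fde00e6af74011fbc053740fe003f7805ca1d301c7ee80ebda49830fdd01d89f56051fba03b3363a083f74076a4f740c7ee81c7d8cd010fdd019c874b011fba03b90da80e3f6ccedaa2a4147ed89ec4b4d020fdb2ecf8acf031fb6676f1cc6023f6c7b7a1e88007ed9d06c709818fda523189c1071fb2139d845e0c3f64bea2d224107ecb7db62d3008fd93cd8cc02061fb0cb378ec4083f61b0563714007ec32e563be038fd752d88df8061fae07bb54e60c3f5807aa74601c7eaa7b55168028fd55b58a057001faa9edd4594043f50ddd630d4047ea1bbc4027800fd437768c34061fa60bc90dd40a3f4cc22ebe94107e99e254bb9818fd36360a6fc021fa67899208c023f4c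f1363e80007e99e274eb9828fd243f09597031fa487e52b2a003f493cf24edc1c7e821175601820fd04230ac01071f9c0641551e0c3f38eb7616c4147e72d0a4f95000fce68e1bbf1071f9a09d14204083f340d1e04940c7e682165925010fcd0343a663011f9a78a950d0003f340d169984187e613c14667828fcc3cd68dc3041f9879af3112063f30b34ed0a0087e61e6cc307808fcc3cdb97c9001f98433918fa0e3f2dae1a35a8147e5b5c3c6b4018fcb6b898d66071f94798106420c3f298e5e45ac0c7e53630deec038fc926ae8985061f9275cf12940a3f25a1d32024087e4a7206572008fc96d3cc73a071f9061bf75840c3f2108120f58087e436f56087008fc86276c020071f8c7eb164620a3f19029e1e0c107e31fbcc644018fc65d51a03b021f8c8151266e023f1902a6172c007e32055429c818fc551d88fb3001f8aa5bb09e80e3f0c45eaee60187e187984259000fc36857ac1f071f82d5db08ec0c3f058d66f2f41c7e028e4c10a830fc051cac0d6031f7ee7a94f2a043efdad5a653c187df032b4d74028fbe1cc5884d041f7c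0c8982c8063ef9b4264f7c087df0e63c81c808fbe1cc89523001f7cda1527ea0e3ef400012f58187de81abcd76010fbd00004bd4011f7ade7176b4083ef1ba1a2b24087de3797c5d9000fbc6e5b8bb0071f76980108280c3eece4a680e81c7dca4ccd5fa030fb94e4a8153041f72933757e40e3ee07332ca5c147dc1135cba4020fb838329f2f031f70a9af89ac043ee0d42ebce8047dc10b24a74000fb82102af44071f6e4ec327120c3edc757e600c147db9827c301018fb756ee9fc7021f6e6c234bb2023edd003a6a24007dbab72cd72038fb636ac9a1b061f6cae0130a2083ed95c06104c0c7db2b814b48810fb67236ab7b011f6cae070834003ed95c1265781c7da8884d4df830fb500004bb4051f6a00009766083ed530430ef40c7daabc951d0008fb5547a9cd8001f6aaf2122cc0e3ed16b8e9dfc187da2919c7cd828fb456f0ac4a041f68ade334fe043ed15bca9188047da2b79c6d2000fb453b79cb3071f6659c97d4c0c3ecceb6a5e10147d9ab73cc98020fb356e8966d031f66add314c2043ecd5bb20fa8047d9ab754b2e038fb2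58478392061f64827d23d20a3ec9612216a4107d92c24e55b018fb2584a8b5f001f64b09720960c3ec55ed6117c147d8abdb4d59020fb157b78f64031f62af715d5e043ec55ee64c00047d8abdd4448800fb157bb8700021f60afab2cb40e3ebcd4061028187d7abde42d7020faf57bdbb82031f5eaf7d309e043ebd5efe4148047d7abe048f5800faf57c19a1b071f5c613b86540c3eb983ca77a4147d72be148fc820fae4081b520031f5caf87757c023eb95f123fcc007d72b92cb7a038fad275e9b43061f5a60dd140c0a3eb4af032c2c107d6abe2c70d010fad57c6a7a6011f5a60e30ba2003eb400012df8147d61e84d486820fac57c89a59031f58af9334e6043eb15f2a5d38047d62be5d6eb830fab57cc8ffd031f5495916740003ea926f60370187d49ff84827828fa93ff198b4041f527fe52d9c063ea4fff22078087d49ff9c44d008fa93ff49703001f527feb20560e3ea1768a5980187d43083607d018fa86642a62f001f50be3b0b400e3e9d8cf71928187d39a005485020fa74a588a17031f4ed89118f0023e9d8f7e413c147d3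31f04825008fa663e39046001f4cd40d89c00e3e94f53e2254187d2ad3d59ff008fa56df8b08d071f48eb712e740c3e90bf9e4714147d2282f41a6020fa45553a054031f48000096b6003e913692f9801c7d1956850b6828fa33a5388ae041f4674a9177e063e8ce956dcac087d19d2cccd8808fa33a569cf4001f466bab39ea0c3e88f0764634147d12d69cb3b020fa25ad49003031f44b5ab3d1c043e896b5a7ab0047d1000025a6800fa25ad79dc5071f42904b27d40c3e84edde73d0047d0b6dade4c838fa0569591c2061f407a990a14083e8136aae1200c7d0334ce165008fa06bedbd0a001f40cb8383360e3e7db2bef830147cfb9c74d4f038f9e2b76bb0c061f3ce2878d760e3e74782e1ecc147ce8e31c21a018f9d1e0c903d021f3a50c969f4023e746c367d94187ce2228d1f2828f9c44529518041f3888a7250a063e7116ee3714087ce222a495d008f9c2c52b430001f388b2513700e3e6d4b7a3ed0187cd8cd2d108828f9b56149005021f36917f65440e3e68f98a76d4107cd35aa6130818f9a5974ca16021f349d371a66023e6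8e2929da8107cca4d75f38818f9949af8b9f021f32936148b2003e65d14a12bc187cc1ea1ca73028f983d44a111041f307a8b0ad2063e61476b0c84087cc1ea3cd7d008f983d4882f4001f307a9319240e3e5ce19ec724187cbaf87dc0b018f976ff9bb09011f2ed8bd7bc0003e5d7a2216841c7cb25f6c010830f964840856c041f2ca4a98d8a063e596aaa4728007cb242342b3038f952a3f9abb061f2aa05b3598003e55bf4a2d5c187ca3b8747ca020f9446fc9f50001f28d0a95848043e4ddc56f5901c7c880002586830f91345f8bbe041f2200009616063e4521561b64087c8a42b498b008f915a89983a001f2268c10ea8023e4121621dc81c7c7bb8c633c838f8e4859845d061f1c3cf141b00a3e38ebde16f4107c7242e47a9018f8e485d82ae021f1c90bd0ee4023e39217e0c6c1c7c6a62dc5a8030f8d6230bd7d051f1aecd595c0083e3531763eb80c7c6a62f49e7810f8d4c5f831b001f1a5447390e043e3095120f64047c6129dd073038f8b39bc80af061f16bf013d28083e2ddc7e52900c7c59cdc4813000f8b61edbb3e021f1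4c531740c0e3e2538f645f0007c4a71fc8bb030f882316834f051f1088c306ac083e21118a75e40c7c437edd5ee010f8844638619011f1088c906d0003e21177306281c7c32c38dbfd030f8600004ae4051f0c676153da0e3e15084e46c0107c2b7924638838f836fe5c1b8041f06dfcf0438063e09d31a1498007c11564db3b830f812086a3d8051f0250791810083e04a0f60b100c7c0b300e328010f81283e880c011f02507f8224003e0400012b58107c034be6312010f80697dc440001f00d2fd8c440e3dfd66065874187bf918fc26b828f7f6554bc0a031efe89d78a54023dfd1b966c08007bfb0365dea838f7e34d7c13b061efc4535269c0a3df91db6fae0087bf259fe4d9808f7e53819d42001efcdce371d40e3df0cf965bc8187be2ebdced0818f7c3d68bf28021ef8993d79180e3dec452e3d5c147bd881ac410808f7b209d9c50001ef634b53216063de97b2a81c4007bd00000135838f792e019ffa061ef260d1378a063de5b1bef3e8007bcb4744646838f785f2c8858061ef0bb053e40043de124dac844047bc213957d1800f7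861abca78071eee8aff0c8e0c3ddcdd6727e0147bbb57eddf5020f7738658939071eea238b257c0a3dd48b7e2fec0c7ba9044d1eb010f75544084f6011eea4d710a4a0c3dd12e32cf5c147ba25c6c987020f7400004aa8031ee8a0830b10043dd12e3e22b8047ba1e9bd14e000f744b908576071ee437e181180c3dc9568b1320107b91713d945010f726e1fc1ae001ee4d8a3763a0e3dc4c33a78b8187b8b1c445dc820f715e5691fd071ee043a504320c3dc16dae0c80107b83097dd86038f6f3dbd8db3051ede7b7d6884083dbcc0cb1d3c0c7b79edfc1c4010f6f3dc0a88b011ede7b8321e4003dbcf70a33e01c7b709b543f2830f6e120db260051edc29b71e88063db853721188087b70a6ec950008f6e14dea383001edc29bf0676023db4768a19f40c7b6300bd5ad008f6c701bbb06001ed87b95164e0e3dad8d2a0f9c187b5893b42b6828f6b141aa1c4041ed62b075412043dac71122664047b58ce14813000f6b2566a4ad071ed23e0125740c3da48b325998147b497e4e46d820f6917dd83cc031ed23e030e90003da45c562c94087b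3b3d05b88828f6646a3a154041eccbacd27d4023d99865e1ed4007b321ee48d0030f6540e5ac7e051eca81cd1aca083d95039eb2840c7b2a0744279810f6540e98331011eca81d523f4003d9503ae4a141c7b21bb9dfa6030f64293384c8031ec8cd518b02043d91a8071304047b237196264000f6469abbd18071ec6c83f02a20c3d8d9042aea8107b1b20955d4018f636413aba7001ec6ec8f26ba0e3d8906aa093c107b12202c816810f626fce8b60041ec0d39713800e3d7d240b12d0147afaf08cc57820f5f5e129f8f031ebebc271ff4043d7d804eb0bc047af9fc1d495000f5f5e14babe061ebc236310d20a3d7846ca55440c7af1178cbf4010f5e11b38387011ebc236908a60e3d70e5b25dc8187ae2ec24b49828f5c6a208c65071eb2824d5cdc083d65b59f0a20007acb88fe507038f5835a1b206051eb0a05d1048083d6140be62bc0c7ac30c2e348810f58538b9d34011eb0a06372ac003d61771e3228187ab88a647bd828f571385a4ba041eae1b991bb8063d5cf92663b8087ab88f1c7ff008f5711e4c555001eae23cd07e80e3d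58751625bc187ab17b2c5bf038f551250c081061eaa3ce1302a083d55bd42e0101c7aa1ae55e99030f542d198df3031ea8c9833d68003d513bb630801c7a9a2a85ddc830f534551bbb8051ea6cb81833a083d4db10e36401c7a92eaad35b830f525d4d98af041ea40000945e0e3d44762a15dc147a88f27da6c020f5136beb932031ea23b173b9a043d456b6f1ba4047a8917f4229000f511a7d9813031ea076070e880e3d3cee3615d8187a7af6f41ab828f4f2b25ae49011e9eb1e9657e003d3d419b0ca81c7a726e15f58830f4e589993e6031e9cd5d7706a043d39371afab4047a736b66073000f4e6dc4b8f2071e9a64cd4e060c3d356e22baf4147a6b55c6403808f4d405d9cbc071e98a7093a780c3d3151a273ac087a63ae2cbae008f4c58edb2bc071e96735b7cea0a3d2dc472b364107a5b88ec232818f4b4e91c3af021e96e23d3e1c023d2d2db67938007a5b8954b33030f4a133f8bf7051e9429970e2e083d28533e12d00c7a52f8241f6810f4a1708bea6011e94299b3c84003d2867160aa01c7a49d445f9e830f4922bd8bd9051e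92de937656063d25b13a2dfc007a480002500838f474257846f061e8ee1a907de083d1dc0ce7ae8187a297f0537a838f441d4d8c19051e882a2d37ca083d10548a4ad80c7a20ea85f53010f44195b92af011e8832af0cdc003d10bbca790c1c7a11741d7d2830f42374a924a041e846eb54dea063d08dd6e67d8087a11bae6210808f42375daf64001e846ebd3b660e3cfc41666bb41879f800024f6828f3f375fbd6d041e7e6ec126d2063cfcdd861cf40879f9bb1450b808f3f37638502051e7c6ec910b20e3cec4c969bd41879d8da5d0f7828f3b1326968f031e7626f12e28043cec30ff05900479d88b74435800f3b13278434051e749f3740d4083ce894124fa00c79d256dcf7a808f3a4adcc59a071e7293b91408003ce48afe687c1c79c16eec7ec028f3832cab017041e705b956046063ce0b77ee5081c79b933f4300830f371baa8457041e6e37578424063cdd3143165c0879ba628cf7c000f3712bd968f021e6c9d617f72063cd59d22b3cc0879ab3dbc33e800f356749acff021e6866e785ca023cd0cdd30b901c79999bae16f830f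334eb687ee051e6666ef85ba083ccd3e668ff00879999bce16d830f314ebabfd3051e62670185ae063cc53aef0b681c7980700456e828f301eed841a041e603ddd243c063cc07bbe59d808798259edfc9008f301ef0a73a001e603de31f660c3cbc9d225530147979109cacc820f2f3825b20a031e5e6e8f0de2043cbcf28ec82c047979dcd49a2000f2f3b9ba11d061e5c6e5f4ec0063cb9a0d294f4087971b98d271000f2e494389f7071e58413d14140c3cb07ba60c6014796104fc2b6820f2c37348cd5031e5841411ef6003cb043023c781c795b19249bf820f2b454bbbbe061e5496857f680a3ca8932e07b00879400000cbe030f22337b81da021e44671f46ea023c89296f0ba80079119bf5bc1808f21782b8f1b061e40d20d0c9c0a3c81361a34800c79027c75bc8800f204d87b78c071e3e94b94bce0c3c7c4d1a51041478f87c346ee020f1f121ab83e021e3e22e92a9a023c7c47c27dac1c78f0bf6c1ef030f1e12238c49051e3c2fdd6f22083c78491ea3dc0878f085f4abd008f1e10bf8f2c021e3a93bd7e9a003c6de0aa3c84047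8d16e358a5000f1a2dc7b149071e322149032c0c3c64c302ca881478c8f62c23c820f1910a0b39c011e329fed12de0e3c619e86838c1878c259d422b028f182dbf829e041e3096777716043c619e8a39300478c12645e31030f174b3cbf5d051e2e3d8f0432043c5d153aeeec1878a3179c45b818f1300003145021e26d50b1dfe043c49377eb6cc08788a6f04fe3028f1073b3982f041e20d53d12e0003c41446ab69414787a6f0d6d1020f0e4de2ad9b061e16d1556aa6083c2dc147257c0078580000095818f0400000bc5011e08980d46da043c080000343c047813483e1d2038f000000021c051e000000837a043bfd38c2b5501c77d469ce495028efa0000022e031def1aa586c60c3bda157e3c3c0c77b00000439810ef66908871a011decd21313500c3bd5e3768b681077a8000007a810ef500002282011dead78d4502003bd5e37ee7481877942aee3ea828ef1832d8e58041de2df3b0e34063bc611ce8c4c187782fcb631f030eef85058609031ddea1490414023bbe11fee8dc00777a853c103838eee00000388001ddc00000704063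bb400000df418776372cc5db010eec86548345011dd2d06167460e3b9d9676e0b010773800001ab800ee78e8bc608021dcc000001d00c3b95e3168d4010772800001a4810ee58e91b83f041dc800001062063b9000002b240877200000111808ee40000031c001dc800001588063b8d2d6e0cec08771a5ae419d008ee200000332061dbc0000063c0a3b79406e0c741076f42856457018ede5138831b001dbc000086e6043b740000b4840c76e353d45da830eda000002f1031db10cbb73140c3b5800000a9c0476a47e54149830ed200004926021da51a6f9254003b4a34d60a2418768c240defe020ed1000001c9031da2000000a8043b440000071c04768c2a65e3d800ed18d27b963041da0000000c6023b4234cf24880076843a75c44830ecf00004926001d9f1a5b92460c3b3800000000147674694e309820ece8d328289031d9d1a570512043b3800000030047674697e48f030ecd6afb81b6051d9b0de5916c043b340000002c00766c3a65bdb008ecb86868eca001d970caf0510063b263c33245c00764c785648b830ec686ec86a4021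d8d1a7b0510063b100000e7a40876200001cf4000ec48efec8c0011d851df71dbe003b0a3ccef1f814760b5e2c07c820ec18f08c8a6031d831e6b78f8043b05a4a28c240476080001184030ec0865392f9051d811e510526063b023ccaf1e408760479c5e3e800ec08f36bc74041d7f1e3500200e3afa128710481475f47e8475f020ebe8fcb8ebe031d7d1f991d7c043afa3f363af80475f47e7475f000ebe8fcf8ebe031d791d2b1e0e003af23a5e3c140c75db5125ce1010ebb8f21828f011d771e4971dc063ade3f0209f80075bc7e1413e018eb60000028b071d6a000091ee0a3ad49a3e4c2c1075a9267d027018eb50da8c54f021d6a3a6d3cce023ad474de290c0075a858dd659838eb4383483a2061d684125172a0a3ad0e41e2f540c75a1c84486c010eb439098a6a011d68721518cc003ad0e42e14b81c7599da349e8010eb3390d9346011d66721d171c0e3ac8e44614241875918a843c5028eb239128a11041d6472270770063ac8e4963d600475926dd423b000eb2391483a2061d6058b560380a3ac09906113808758182e423b008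eb0305aa196071d5e38af107a0c3abc340238c0147579c8f493c820eaf36479239031d5e724108e6043abd36cefa48007579c914179018eae62fabee5001d5c000059480c3ab6190e00b01c756000004da800eac6c53bf7e031d56d8ab7ef80c3aa9ec0a0b9c0c75500001d16010eaa84fba276001d540000744e063aa63d5200301475447a3e0bd818ea74f188dba021d4e00001186043a99a4331f4400753284346d1030ea5690d8e5d041d4b1b871bc6023a9400000d0c0075234875f44820ea3000039e6031d46000011f2043a8d3fce3640187514278c6cf828ea26bb48843041d4509e573a4043a89aed61ac400751000000cc020ea14dbf8526031d40c6157d9c0e3a74000006d41474e80001bbe820e9d0000377c051d38d21f737c083a71a442e6f40c74e00001cde010e9c6911b9bb061d350a114ac0043a6800000d001c74c00000131020e98000039a4041d2ed225733e043a5c0000e6740474b80001cce018e958660b981061d280000088e003a5000008c2c0074980000421808e926934b77a061d2000000866043a400000dde408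74788fbc65b038e8e01e583c1061d1c09570c500a3a380a2e90a40c747025443ab810e8e04a99d76011d1c00009136003a380bb284840c7468fd3cd49838e8b062e8686061d1607ff389a0a3a2c098e4d90107458200507d010e8b0401bd38011d160805129a003a2c100e8be41c7450df5c650830e8a09f7a677051d140000911e083a28000122380c7450df6473c810e8a03eca65d011d14097d70700e3a241ed21b781874483dcc65f028e89043785f6041d120f6b7ff2063a241edaaaac08744821ccc51800e8907b7935e001d0ef0cb04300e3a182b57206818743011ed0ae028e8613fb9378031d0c27f987a2043a184ff634d80474309ff4b13000e861855902f071d0a21fb17fc0c3a14a686751c14742bc2ec73e820e851a969538031d0a912d6446023a14fa06cba8007428c1ed5af038e8465999314041d088f0b6490003a111e1ec910107418d7349a7818e831ae7934e071d04510d17500c3a08d44e67b4147413c2f473e020e823514af7e031d04653d65ce043a09e17f070c00741183e4608030e8022a59728031d000c0554b004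3a00181a0520007400301d52b038e7f130db450061cfe22a914680839fc55166e280c73f8a72cb4d010e7f13e7c3d1011cfe2b533b780039fc55b20cf01873f0b66454f828e7e16cd9dbc041cfcc54d06a40239f98a9e1cd01c73e84594665030e7d8e098df4051cfa71cd08720839f5e1863a140873eb367c1b2008e7d38e78d2e001cfacde153bc0e39f0e36653801873e44be62e2828e7c28bd9fa9041cf8f0c51d040439f19ba2b5740473e1692e226830e7b16b58183051cf62d55468a0439ec5b1e271c1c73d09af44c9028e7a135f84ce041cf426c105840639e84d8660fc0873d09b150eb808e7a1363a1d6001cf426c9107a0c39e4d38e96fc1473c82644e89820e7904d2a868031cf21a2737d40439e49d3704840473c82b4c30f800e791b52bff9031cf11121837c0039e2126633080c73bb1875239838e7612dfa861061cec20c566880a39d8561f20601073b0af4419c018e7615ea8e66001cec2bd71ccc0839d5f35706f81c73a0ad2486f830e7415a5a2ef051ce828a322fa0839d05236232c0c73a0a15c41c800e7415ab961d01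1ce6d37d02b00c39c8bf0af1501473933434c1a820e726edca58b031ce4f08f15520439c969329e1804739146d5072000e7235f5c65c071ce2000090460c39c463165028147388c634184818e7116159be5021ce2318f0c5e0239c463222ab4007388c64c803830e707848a76b071cdeced348b40c39bc00012068147378b72caf4820e6f00004818021cde2b1d37800239bc573e6f00087370b7850c7838e6c05d18385051cd802d9363c0839b01612693c0c73600002408810e6c058793f8011cd805914fb00039b045b2b738187358212cc52028e6b687283e2041cd6d0e73b060639ade12637ac08735a70d59ec808e6b68758492001cd687e72b280039a856b214801c7349b86c03e810e69673787a3011cd2f9a190020c39a218fe93a0147343c2b4731818e6878578e61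
def jm_9 : ℕ := 0x17ba130017ba0b0017ba03000151a9000111f100011309001a042300010d69001a040b001a04030001279900015821000171210025d6230025d6130025d60b0025d6030001239100112f3300011b69000057390039111b00011e290039110300112e2300112e1b00112e1300112d1b0000000000112c130038ec2b00112923001128230011281b001128030001a751001178130016f523002bbe0300015f61000199a10000b7c1000171d1001f2a2b001f2a2300017e290018931b001f2a0b001f2a03003eb61b00012cc10011ed130011243b0026c91b00012a090000ff99003a6913001122330001afa90001c2e100192f2b0011292b0016fa3b0016fa2b000177a90016fa1b000000000016fa0b002b9933000141c100012f51002b991b002b9913002b990b002b990300020ac90001097900013981002ba723003a923b00111c3300014151000154110019f10b000000000001819100111903001a9b0b000101110020f10b0044c823004477330011171b002a1d03002b39130016510b004bfd13001114230011141b00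11140b000055f10011130300000000001110230024791b0011a7330011a72b0011a7230011a71b0001b7310011a70b0011a70300021d09004da13300143b2b00143b1b00143b1300143b0b0001d6d100110b230022182300110b1300110b0b0001d0e1004eba0300110a0b0011081b00022d110017922b001792230017921b001792130017920b003f1e1b0000fd210017f11b00012741000183f10017761b004fe22b0001af410037bf330000e361000191a10021330b004b471b00013e2900012ef100010fd1002d842b002d8423000030890010ff0b002d8403000123610010fd3b001d870b00012341000097f10052ee130010fa0b001f8c1b0000e781004a602b0010f90300189303000100a1002e341b002e3413002e340b002e34030023212b0001f1210011152b0011151b001115130011150b001115030010f61300520d3b00011dc900011c8100011ba100425f030000ecf1004a761b0001428100013ad1000008b100011c41000034a100118f1b0010f33b0054222b0010f3230054221b004a36230054220b0001b9b90016191300013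2410000b46100011b0900016b2100018de1000183c10010ee0300013be1000004e1000118310045ab2300000d4100011921000113990010e63b00277533000132e9002d7c0300012b5100128e3b00019539005165130023a413001e153b001e152b001e15230046be030046bf0b001e150b00018029001a142b001a1423001a141b001a1413001a140b0000fb710048b83300482c0b001de21300015c4900015c09004c85230000ff51001e903300188d03000100d9000000000044301b0024e0330013db2b0024e0230000dd910024e013002d4d130001f019004ffb3b000011c9004ffb1b00139c230042680b00381023001f463b0024bf33002e632b0010d6330036fa030010d42b000000000010d12300391c030046df2b0010cf2b00391c1b0010cb130010c93b0010c92b0010c913001493130010c51b0010c4130010c403002d6f2b0010c12300148f13001ef2030037e9230010bd330010bd130000f0d9001a423b0000c709000000000010b503001489130010c10b000000000022762b0000a9c90010a71b00000000002510230022fd2b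0000000000109f2b002c962300109e3b00109e0300228223000000000022812b0000000000000000000000000000000000000000000000000010962b0010961b001096030010943b00109403001086130010860b0010851b00107f3b00107f2b00107f0b00107d2b00107d230023030300005781004c86130022d8030037ea0300107813001861030016811b00107733001308030024412b004b600b0010701b0001fcb90001fb6900020b410002057100020ba10001f5310002052100296f3b00296f3300296f2b00021521000214590000000000296f030001c1590001fa890001fae100021d910001553900011499000208a10000dc610001e8b1000117d9000000000001ea39002e371b0001f9a100544b3b00000000000000000002110900020c6100021ba90001feb90000c629000171810053862b0002171100000000000209510001759900541e3b0001ccc10000a72900020f9900541e1b0001fe890001cc7900014161000152510000b6710000a58900550713000120d9000177c90000f49100012ae900011821000213e1002c242b000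00000002c2413002c240b002c24030011491b003b0d1300178f2b0018911b00178f1b0000000000178f0300003569000000000053dd2b0053dd230053dd1b0053dd130053dd0b0025403300011101001e3a2b004dea23001e3a1b001e3a13001e3a030045b4330045b42b0045b4230045b41b0045b4130001a8890045b40300010b510000857100105f130017220b000113b1001d7b3b000155e1001d7b2b001d7b23001d7b1b0050ba13001d7b030000c99100105d0300000000002c392b002c39230050ba03002c39130000031100013ff1000127010000fbf1004ff31b000102010050ba0b00006c41002b783b002b782b002b7823000137a1002b7813002b780b004b841b0001b6a1002e52130054363300012869005239130030c50b0001b9f9000186590021092b0021091b002109130021090b002109030018b21b0000016100308a2b00308a230001029900308a030018553b00010d7900185523000109f1000134610001056900010fc900010ec9001e830b000100b1001e073b0038ef2b004cab2b0038ef130038ef0b0038ef03002aba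3b0001b129002aba23003de023002aba13002aba0b0028ac23004b663b00018b590001ef09004b6623004b6613004b660b0014040b002d542b002d542300496a1b0000f73900015c79002d54030046f0330014fc2b0014fc2300012c310014fc130014fc0b0014fc03001cd30b00402913004b652b004b1a330019212b004b650b001fbc130010481b00104803001d713b001d712b001d7123001d7113001d710b00104d1b00000df9000055790001199900014da100104d03004b64130046c523000125d90026892b002689230017512b0016fd030026890b000104e90017a43b002c6f2300008251002cae030017a40b0017a4030001042100174433004b1a2b0017441b001744130000d9a1001744030000d74100011df90018372b00183723000111b100185513001837030001175900308d2b0000f9d100308d1300308d0b00308d0300015969003c0a1300188503003cee23003cee1b0018550b000162e1003c9933003c992b003c992300019dd1003c9913003c990b003c990300475933004b3c2b00103d1b00475913004b3c0b004759030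001ee8100124c330001e9410047771b00124c130001c69900124c03000087a90050860b0001ec690023c0330023c02b0001c7f90023c01b0023c0130023c00b0001eec1002f4233002f422b0001e69900014ff1003b8d03002f42030019f63b0019f62b0019f6230019f61b0049f5330019f60b0019f60300014f010013bc2b0013bc230013bc1b0013bc0b0013bc030031823b00022e8900413d2b00000000000165e900016e51000000000001c129002d7333001de12b001de123001de11b001de113001de1030031733b0040dc2b0040dc230040dc1b000151910040dc0b00014d2900004de100233e030001df49000170410032481300487c0b0000de010010433b0001e339001043230010431b001043130010430b00104303004a613b004a6133004a612b004a6123004a611b004a610b004a6103001aa23b00018fc90015102b00017a590015101b001510130015100b003b4e330044ad2b0044ad230044ad1b0044ad130044ad030000000000000000000000000010272b0001e461004af12b0000ecd100014a9900187413004af10b004a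061300014cc10017003b00170033001700230017001b0048e23b0017000b0017000300015791002ba733002ba72b001a2b13002ba713002ba70b00016fa900380833001eac1300380823003808130038080b0001ca59001953330019532b001953230019531b0019530300000000002c893b00018bd9002c891b000192a100016189002c89030000c6d90046e72b0046e71b0046e7130046e70b0001b8210001afb100000000001fc71b001fc713001fc70b0001a8a100015aa900126d13000147f10001471900150e1300150e0b00150e030000000000101113002f062b00101013002f060b0000ba2100100f0b0028f23b00100e0b00100d2b00011249000141210033533b0001e101000131d1001e1d230001dd9100008fc900000a210000940100270f330001e0d100270f1b0032dd030000ca0900270f0300000000000000000001d0510001e659001bfa2b003fcb23001bfa1b001bfa13001bfa0b00107f03004b303b004b302b004b3023004b301b004b3013004b300b00013da100015eb10013802b00138023000175c9000154890013800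b001380030001263100100333000122b100418f2b0001af2900000f11004e040b003c8c13003bd4030010013b0041092b0040ee0b001b5413000fff3b0039c823001f0e13000fff1b0001e441001174030053ff0b0000c1690053f81300411b3300531e2b00531e23004b781b000021a100531e0b00531e03000000000000da09004f6c130053cf2b0001ac41000ffb0300000d790000fbd10001105100176f030000d991000058f100011339000ff90b0000da1900010999000ff72300000069000ff71300525a0b0000f329000ff61b000ff53b000ff533004a6023000ff43b00370023000ff41b000ff40b00013ba1002782330000d9f9000ff31b000ff91b0028f20b000ff023000ff003000fef1b00012201001e0c13001ce71b003dc10b00108313003dc033003dc01b0000f759002b671b0000f5c9000ff1130000f8f10025fd03000fea230000000000015f31000006710000d7190047d13b00317d0b00000000000177f1000210b1001b062b001b061b001b0613001b060b001b060300018501004f3613000001b9004f36030013b41300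1a553300015079002787230027871b0027870b00278703000156a9000185410050e63b00012fc1001a732b001a7323001a731b001a7313001a730b003725130000c1f10016392b001639230016391b001639130016390300372b3300372b2b00372b2300372b1b00372b1300022ac100372b0300140a3b00189f3300022701000226210002268100189f0b00140a030000000000019959000237b100023a990015a8130015a80b00000000001ad9330002312100017159000155d900022d690001c1190001f10100470b330000000000470b2300023cd100470b0b002833030025b73b0025b7330025b72b0025b72300022eb1000015910000adb10029e53b00003479003901230029e51b002bd40b0046f303000fda1b00015b2100017e71001281130022a71b0000e7d1002ccb2b0000e6d9001d0d3b00022c61000237e1000fd53b00008301000fd503000fd41300016461000fd403002ade1300017a3100419b230000ef2100419b1300419b0b00419b03000fd22b000fd21b003ccb23000fd03b000fd023000230f90020d13300012859002bb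60b00022791000230a100022a51000fcd1300015401000fcd030041fb330022a72b0022a723002d4c330022a713000150e100407a23000fcb3b000fcb2b000fcb1b0012263b0050ba33002c3e030001a321000158b1001655130050e93300116e0300017839002f8713002100030000f59100014ab10013852b0040aa2b00128323001385130013850b00138503000fc51b001d011b0001e911001b523300164e2b0018e60b0000ef99000fc03b000fc03300009a810041a0330000f289002d502b00022049003cd51b002d5013002d500b003cd50300000000000230690000000000245723002394030027012b000fbc03003b7b1b003eec13000fb93b0041a613000fb9230001b299000041a9000110090001448900016c210001b4690001b64100019fa90001c5010022592b000137e1002bba0300010299000138190001673100178b3300178b2300178b1b0000d40900178b0b00178b030001eaf90000000000000000001ae30b000134b1002c742b0050a90300012249004b32330045162b00451623004516130045160b00168a1300015189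000158e900168c2b00168c2300168c1b000137f100168c0b0014ad3b0052b2330014ad2b0014ad230014ad1b0014ad03001956330019562b001956230019561b001956130019560b00195603000133f100174f3b0020bf330020bf230020bf1b0020bf130020bf0b0020bf03000179790000ad09004c972b0000e191004c971b004c970b0001372900019fb90035293300018fb900470a2300470a130021790b0000000000015031004cab23004cab1b004cab13004cab0b000fab33001ab023004b1923002c6333002c632b002c6323002c663b002c6313002c630b002c6303000113c90000fdc90000e2f900262f1b0000f039000171810035812300406023004de50b000fa62b000fa60b002f261300014f51000125210012801b0000bdb900520a3300132a130001417100000000001e8e3300019271002f482b002f4823002f481b00015b09002f480b00016ac100392a33004cd32b004cd323004cd31b004cd31300000000004cd30300164b13003ffd2300133e2b0000d831001d3c330013020b0000e0b1003c192b001d8713000f9f3b000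0cba9000049210000d981002a373b00016321002a371b00019c3100408c130033dd330033dd2b0033dd23001ca10b0033dd1300018d41001b071b001d010b0039fe13004cdd0b00442a1b00014c710028121b00012ab1002bda2b000f9a0b000f9923000f991b000f99130000c741001100330011002b0011002300167e3b001100130011000b00110003003d1a2300004361002d8113002c59130000b1c1001da61b000f96330010fa1300012411000f9603000194490050dd13001de2230000b4c10046c50b00164f1b0000b4910000000000286433000000000016ea1b0016ea130001248900286403000f900b0000b481000f8f3b0001c0a1001a3b130011f7230011f71b0011f7130011f70b0011f93b000044610000b9210011f9230011f91b0011f913000194d10021f82b0016240b00015e11002b391b0000b459000f8b1b0000be390000f519000f893b000f89030001ac910013622b001362230039101b001362130013620b0052221b000130190000000000122e13000f853b00403b2b000f833b000f8323000055e10016103b003b21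130010162b001016230000e4f9001016130010160b00000000000f8023000f8013000f80030000fe710001ac61001f2313004cce03002a542b004ccd1300016d990001ae41004fce230010c4330010e61b003df803004fda13000114a10010342b00245e2b004a453b0001ee410049ab0b0001d26100010c210000000000016b99003282130017232b004a502b002d863b000114710020d22b0038421300000a31001c843b002c0313001df10b003bb7030015cd3b003e312b0001b89900541b33001d970b001f9633001f962b00000000001fed3b001f961300014f79001f96030001cb210017bf13001f2233003b7d13003d840b000178690000ee110052da13000f703b00011e71003c22130014813b0014812b00017c390014811b001481130014810b001481030001e0f1000177810012b62b0012b61b0012b6130012b60b0012b6030026013b003d98030012fe3b003d971b00167a3b001f633300007e890000a0a900337013004d3c0b0001a6290028183b0001ad8900017db10015dd230028181b003a2d03000f68030027ad3b000115990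000faf1003a072b001278330012782b001278230012781b001278130012780b00127803004c1c2b000198010000e041001e0c0b0038be230054210b00533713000f6333000f6323000f631b0000ba59004fa41b004dce1b0023a41b000f6023001efe0b004cb02b004cb023004cb01b00010469002d342b004cb00300147b3300147b2b0053a11300147b1300147b0b00015ee100011461004efc1b000f593b0020bb030019740b00016b59002c872b002c87230000fb6900205a33002c870b000112d10001ea010001e0810045eb1b0017e33b0016c0130016c00b0001e7010001c5a1003be4330001e5090001c0c1004f110300014ef100465633001f0e0b004c850b000f533b000f5333001d8723004a690b000116090001163100000000001fa13b0001c1d10041981b001fa11b000122990001acc10001d1510028023b001f9a3b000083e1002a481300012da90016800b000f4e3b00004439003dc003000f4e13002e64230022da130001742900011d990038e61b000146e9000f4c3b00194d13001399230037f00300015e410019742b0019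74230043241300197413001797230000d9e90001e1410027142b0001dcc100010a5100000bc10001dcd10001d421001e4a130001adf1004b121b003be61b000000000026f0130000dbb10000df19002d5a13003ecd3b0054f12b002b611b0001c561003a300b0024480b000181c100018371000164a1002c0123002c011b002c0113002c010b002c01030001ed5100000000001d0c2b001d0c23001d0c1b001d0c13001d0c0b000f3e2b0018573b0001ce010018572b0001e0c10001fda1002dc80b001857030039bd13000f3a230010d11b0010d10b0010d03b0001ade10047623b003a9b1b000f38230047621b0022533b00192a3300192a230010ce1b0010ce130001e3890010cd130024901b00440c3300249003000f3413000f340b000f333b0010c933000f332b0039be1b000f33130010c733000f312b0010c71b0001f48100165c2b00165c2300165c1b0010c61300165c0b00165c03001a8e1b0001b0890000da010026691b000152410047210b00472103000f2e330048b023000f2e130052f11b001f603b0011e833001f602b0042172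3001f601b0001ec210000f101000f2b230010c0330001a7d100000000000f223300120c230010bd0b000f22030000ad210023ea330010bb2b000f27030010bb030010ba3b0000f4c10045ec2b0001e6010000f1790001e6e10016443b003f93330016442b0001e5190049aa130049aa0b0010b8130049a003000f1a0b000f1a030001ec81001d3d330019e82b000f19230010c1130047ad3b0010b333000f2d2b0010b3230047ad13000f2a130010b233000f172b000f2b0b00008a510000000000398d0b000f1213000f11130000cb190023cb23000f1003000f0f2b000f0e2300554b130000de290000000000000000000f040b000000000043250b0000000000000000000eff130000268900000000000026590000537900000000002725130027250b0000a8810000000000000000000ef50b0000a879000043c10000611100254f0b00005a590011223b00005621000eef1b00005a01000eef03000000000000000000000000000fbc3b00004bd100479e0b0000e7c10000000000001cc1000000000000a9690000000000001c810000000000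000000000000000000000000000000000ee31b000ee3130000000000000000000ede2b000055f90023bb230000000000000000003c7d2b0000000000004b7100000000000017090000000000002699000026a1000059f100000000000000000000000000005401000026f100000000000ed2130000447900000000000026c900000000000026e1000ed223000026d100000000000026b10025221300004701000000000000448900004a6100004bc1000018e1000018f900004751000026710000000000000000000019510000197100000031000ef51b0000190900000021000ec11300000000004950130000184100000039000017f900000041000018a100005881000008f1004905230049051b004905130049050b00490503000ebc1b00001c61000ebb1b000ee81300001861000eb71b000eb703000000000000000000014de90001a7a10001f661003664130036640b000203d1000160f10001b851001dfd2b001dfd1b001dfd13001dfd0b001dfd03000156f9000eb313000eb30b0014f93b000177710014f92b0014f923004bce0300108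50b0014f90300018d21000eb02b00017b610018d70b002d0d3b0001f9d10010f32b00425b130010f31b000fec3b0010f30300002d790000000000004c510000000000256a1b00256a03001ad73b0000000000005669000000000045e62b000ea82b000ea71b00000000002d1513004f9a1b000ea5330000227100000000002d130300000000000000000010c13300450b33000ea22b00450b23000ea21300000000000ea1230000f199000000000000000000000000000e9c2b000e9c2300000000000e9c1300005609000000000000000000000000000e9723000000000000000000004b69000000000000000000000000000e9d1300000000000000000001e6b10015983b000228e10001f19100231a1b00231a13000000000020261b0001bcf10002209100322a330002351900322a2300322a1300322a0b00322a030041213b0001e28100000000000000000041211b00022c01000228510025f83b000185f10022202b0025f8230025f81b00022a010025f8030000aca10001f4f9000235f10043cc2b0043cc1b0043cc130043cc0b00169913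0001eb21000197210048562b000186490029c80300014be90001d6f10000e7e9000e8423000e8403000e8323000e831b0013223b00198b3300484f2b00198b230000ccb900484f13003ea2030001ae11000e801b000221d1000e80030001e2110036183300009d31000009e10000e1010048062b0012bd03000e7e33000e7e2b001350230013500b0041e23b000020810014a42b0041221b0013a2130014a40b004804230014aa3b0000388100019a59004122030029c313000189910024e713000e7b2b0034211300100b3b00100b2b00100b2300100b1b00100b1300100b0b00100b0300016d3900022821000227f10001f97100019ff90022f60b0001cda900003c39000000110037802b000197c9001813230001db090012a4230047f6030047f51b000038b9004f123b004f12330000ae61002fde2300143b030025b41b0048ba3b00017e010000e119004eb31b00383b1b00000c6100202523000169c900000000001181330011812b000031a9001181130011810b001181030041be330026ed3b00000000003f2c2b000000000047d80b0001da310047e20b000222610000cac1000224390000000000022429000232b10049e13b00022a710016552b001655230046351b0038d7230016550b000fd20b000e6a03000165910029dd130000034900004c71000e682b000e681b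
def m_10 : ℕ := 0x12f740000559c055ee20000ab3604b2cc000156681131000002acc80a5d3000055980444440000ab2e0c84c8000156581d03f80002aca80a06900005594043fb40000ab260a7ee00001564818fad80002ac8831f1800005590073d3a0000ab1e0075b00001563814da180002ac6829b1f0000558c0436340000ab160c6ae00001562818d5280002ac4839a57000055880331440000ab0e005ef8000156180cbc600002ac283175700005584022ddc0000ab06045b480001560804b6900002ac082963b00005580052b0c0000aafe0a52fc000155f808a5f80002abe83940d0000557c0426700000aaf60c4c38000155e800980320166dc8292fe701c81e00425fce03b76080a4bf5a22660880497eb4b5c4140012fd688ab85e0225f80000497c004bf000014afc1c97d914644130312fb2c8ba04a0425f630b97412064bec8a368c840897da66462b40092fb208ca6d40025f6451d08b60c4be40000370c1497ca635d2180392f63b0e98490525ec761f2726084bd8ec42151c0c97b1d88e2720112f63b12a45a0125ec762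75152004bd8ec5243a01897a9f01c2218292f52fa1839c0225ea5f493014004bd4b1ba605c1c97998264d708312f33b3aa28a0425e6529ba6ca064bcd2da6b0d804979a5b550fe8012f34b6baa540525e296bb79020e4bbc2d6e23a8149778652567e0192ef4c55cabf0125de65eb106a004bbc6c86fd7818977262b427b8292ee1a4aa2d20425dc1b355966064bb9315e4c7c04977085369948012ee62ffbee10725dad38f141e064bb5b722010018976000024638112e86b76b14b0325cad7a703040a4b84000092f40c9708000125e0212e0691ca4b80725bed23d495a084b7da47e92a80c96da80d69730192da6a78c93c0225b2d9894776084b5c00008e9c1496ab5bf59d90112d56bb3931e0425a2d7096746004b45bba69c941c9670805caf48312ce100c853a04259c201b24e4064b38403a32ac089670807c6560092ce10108db500259c202316f00e4b28404a2458189650809c5938292ca101484060425941faf5824064b28405615bc08965080b5dc80012ca1017882207258c292327260c4b18524a1fc8149630a0e441c8212c6149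38db703258c29290f38024b1852570210009630a4b43c40392c514978aba072586293952b20c4b0c52764d98149618b84c6b50212c3149e8c30032586293f8ab4044b0c529a1e18009618a50c6380192bf1610a8d901257e2e17107a0e4af84d4aad1c1895f0958cae68292be15719e4304257c2e3b07da044af855ca25d40495f0ab9c95c0012be1713d51205257a2add04f2084af455ab21880c95e8ab5e4308392bc160991540525782e190966064af0566715c80895e0b055d078012bc1620ba55062574b5bb780a0a4ae998c244081095d3318ddf98192ba6632c592022574a39110f8024ae998ce445c0095d331a612b8392b917458b490625722e8d15ba0a4ae45d1e17540c95c8ba44b3d8112b91749949f0125722e9530c8004ae45d2e0f381c95c06bc5b600312b82ad38772042570438376c6064ae04f7663b40895c15d851a58092b831ce9526002570422b65b80e4adc707ecd301895b862f44ef0292b755949eea04256e295328e6004adc4fa6a6fc1495b0a8dc7a20212b614e182a807256a4d15173e0c4ad49f7a58c81495a93e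fc6f88212b51cb58be503256a4d173616004ad49a32387c0095a23e4dfb10312b3139d980a052566273d53a0084acc4e7e3d2c0c95989d041e28112b313a1883301256627451b86004acc4e8e670c1c9590987ce818312b217d58b5a0525642fad105e064ac85f5e6190089590bec42fb8092b217d996e20025642fb937040e4ac04b5e153418958096cc2658292b013cc98e504256027e9067a044ac062a2790c049580c55429e8392af19588f7706255e2567079a0a4abc657e2eb8109578bdc4b958112af196088b701255e32c33a6a0e4ab431a691b014956892446540212ad12a18cfe03255a254570cc044ab44926101804956892547ba8012ad12a3c99207255616df61280c4aac65be1a04149558a77469b0192ab1723ccf202255632e12d40024aac65c63dac009558c3c429e8192a91968a44b00255232cb48900e4aa04d5a1b24189540cb9c1d70292a819749a7b04255032eb8b76044aa065da34e8049540cbbcb3d8012a8197885a805254e33012d46064a9c65f669ec0c9520b8cea5a0012a415ef8e6607254613c561c20c4a8c54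5e1094109518a46546c8192a318a587ad022546314f2bf2024a8c657a6e08009518bf55b000212a21526a33a0125442fc756c20e4a8454620f24189508e2849f80292a16684ac54042542308d09a0044a858dbf075c009508cb942310392a012809448062540240d39be0a4a80510a2d8c109500a024c768192a0151992b60225402a394706004a80546a18f41c94f947ed7a502929f08e2be3b04253e0000a936064a7c841ebcdc0494f8f374b6580129f0a9dd37a03253a56fb043e0e4a70ae5ede1c1894e06c3d61b82129c2b98889803253857331b9c004a70ae728a500094d8000011303929a1199b9470625340fff61bc0a4a68adfe2ea81094d15c04ff401929a2b89948002253457031934024a68ae0a5b5c1c94c95c1c4548312991131ce3e042532570917ce064a64ae165ef00894c95c446e88012992b86b32006253017a97caa0a4a602f564f9c1094c05eb41de0192980b31957902253017af1bba024a602f621d080094c05ecd3a9839297096f94b705252e135d2980064a5c25c245940894b84dec93980929709bb918600252e11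9d30180e4a582d4a1eb81894b087bc3070212960b40acbd03252c0f0d5cfc044a5843d68ec00494b065851da0012960ecfb0c90725280f3b5b600a4a501f6eb9c00494a03b540bf001294079e916507252613d10fe20c4a4c19cb3a741494983c644fd02129307258d2d032526159f3018044a4c248a342004949847bcee18112922da99d6a07252251517ae40a4a44d066416c109489a0d4d52819291341b99340225228a755276024a44d0725ef0009489a0ed02e031290234088e8052520549712c6084a40abc635ec0c948157954048112902af394e701252055e912c8004a40abd676741c9479a0bc24c03128f3706b2fc02251e6c79a6b00e4a39591b3c901094735605df900928e5ebeaebe07251aaabf3b3a0c4a340001513814946b70ede6600928d4c17c3b1062518ad5320d6064a317a5ebaf01c94585825a3c03128b479eb49f022516c0ed5d7a0e4a2934be10a014945103e4ec602128a28399e3f022514401d6082024a282a32c3cc009451d6c5a3b8392880963b56006251061a1a38c024a21a132b0b81c9432e6be16203128666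2ab03e00250c8d65427e0e4a14cb22c07018942a54a59a48292856abac592042506e16f97d80a4a0857f62cb8089410baadfdf8092821842af7d002500dbf561140e49fdc2d65c0c1c93f17e749f803127e0910b0b20424fc0000a85e0e49f57d66adc41093eb5fbe0f980927d5c5380830324f8dc8d187a0649ed992f0a440093d88d4d25d03927a5a17ce010624f4424d70380a49e9495f34100c93d1d9a5a4580927a4270afa80624f24d4d16460849e5721243cc0493cb5cf45e00312786b85ac7e0724eed5f374a20c49dc6e1e41a41c93b29dd4e5802927653bb9cae0324eca90501960e49cc1d0af8f81493980002a0c821273075c92640324e61557a2240449cc3b574468049398668c8c3801273073985810724e40b03443c0c49c8b7aa49c414939097ecf1c0192720ac98a380224e42ea15e840249c84bfa24700093908b2c5228392712deb92720624e250570b9c0849c4749207281c93807cad14a0192700d9b9a4e0024e00d65836e0c49bc3f568b48149378825560b82126f0cb2cf020224de259d95200249bc36b25b080093788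f14c7702926e12f781e50324dc25e907e80e49b48af26f4c189369ce144e882926d53cd9c800424da3b736bec0649b52b2ace60089369791e68680126d1ab09e380724d23667345c0c49a5a03ef044149348aaac6dd02126939dbb2230324d2d1f11b6e0249a457ce49981c9330afe41990312660958c3900524cc2dbd165c0849984a820de00c9330aff462901126668f78dba0024cc2c0543e20e499572fe849410932b893650801126559aad3d80124caae3523c00c49903eba22641493203ac49398212641edc83950324c8642961700449903eaed0e40493203aee47b8012640facae520724c6245b8aee0c498caa8b2aa008931b1dc48318392623e7ba7540624c4be63596e004988e916a8c41c92f9d9142e403125f573b9e9b0724bc06e597aa0a4978e79a9d501092f1cf6c82281925e39e787410224bc73d1426e024978e7a6dc900092f1cf5424801925c7000b80a0024b8e003701202496db5431c480092db6a8e3888392594482843d0624b260970afc0a4965b85309a40c92c93164c7a83925837258aab0524b0230f2af20449602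98308880492c0599de2d83125713b8b0f40524ae277361e608495c4f1e05f80c92b9d954c02811257308daec10124ae38495e0400495cda4a7cc01c92b2018ddc88312565eed984c0224acd88d171e00495971b7163c1c92a96df469a03125506bfaab70724a844ff7c8e0c4951785e2d841492a2cd067e88092546c1abbf30324a4bdb14bfc0049497b6a1268189288f30c9e7829251000053b00424a214a33b7c064944f12348e40892885e8cf968092510a4e906d0024a2101b9d3a0c4941652669580c92836485b9401125034f2895e0124a0878d4d4a0e4939b162f938149273212d61b02124e6426ac350524983db10594044930d17b2c0c009261179e10901924b461e9d1a0024968c3f3a600e4928dd263d0818925102742650392493d3089c0062492abb74ea0064925a827197808924a6e942a200924958fec0f1002492dbff70860e492081ca5d0c149241039c4a102124820749e5b03249040eb3fd004492081da474c04924103bcda180124820788e0707248e0dc95a820c491c1a96515014923837d4edf01924706f4948502248e0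ddf5e6e02491c1cced2d0009238342ca428392460be588e006248c225b184a08491826b241a80c923058c46830112466390ce3e01248c3c89976800491844ba342018922052bc0d10292440a5a89bb0724840d7b59660c49081b2ebb6c14921058fe0838212420701b4ce0324840f475cec044908208ed3980092103e2ceb78312411f3ec599052482646d1570084904c8c224580c9209918d92981124132328c2601248264671692004904c8d21fc8089203432dd588092402b74b19401247e3ce72a380e48f88dca66001891f33facd5602923e2837b89004247ccfed780c0648f8f6ba8d3c0491f0d38cc3c00123e695a8b4207247a367d07740e48ec482a30ec1891d800029b282123b253783d80324763e834bc00048ec9a966fb41c91d1e2dd61b02923a29e49ff9042474790717780648e8c3a612980891d35f452ff80923a26e7a5780024745a3d40680c48e491fa56001491c9b1dc7578212392e64d148032472d0190fe40448e4d8f67a880491c91e966b0001239247f84ed07247096ef32580c48e0d7422ef40891c31b55bf50092386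2b0c442002470b9019e760a48d93f46796c1091b350762e78092364f928c1f06246a55d529700848d5a6cedc901c9199c38d6c102923353789d4c042466b63588820648cd66f29c0c04919ae3462d70012335b38ccce062464272127b80a48c8e1ee0ffc109191c3b46e10192325a58848702246470ef1ec80248c8e1e23034009191c3cc2d48312306333c0d9042460550799080648c1a687109c0091825c7655403122e600cc6f400245ac855081e0a48b02cba08a00c9163220c32281122c0b2bc30800245819ad5c440c48a590f60c6414914b21b695e8212296437d2bc07245078b3081e0c48a1980f4ae810914329ce1648192263cc391c80324488dd735f2024891ae82eaf81c910879de5218312213d76c56806243e79c51e3e0a487cf38e73f81090f9e7255e301921f3ce583e002243e79cd2c9002487cf39e1b700090f9e7446cd03921e3f6d8dc406243c38ad5a120048793b923ff41090ea65adf8881921d4cb6bf1002243abdd39c900e487028e6d2d41890e2f68696c82921c3fe59acb042438820940640c486d0a36e2741090da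6ea42a000121b5a709f0f062434830da3100e486482b6d2400890c89cbd3ec00921912688302072430207f39040c4860daba30d41490c1b57d76a01921836b0a92a0224306d63a3ca024860daca37e00090c188358d4011217447a893401242c814d97de084851007702f0149099fa940a38392100c888b6f06242019131f86084840322abfe00c9080645cef20112100c8ca4cb012420191f6730004840323653f8189078000008603120e339b801907241a389907de0c4834ce4215a814906840bc21402120d074c957803241a6723489e044834ce4a37300490686bedf1082120c68a3cee0042416a4231bd40648255beb2ec81c903a5a1c0d10212075717d29b02240ecd8529ca00481db7dec2381890323dfda3e8292066c138dd104240ccc335a04024819ab6ee3ac1890188b1c4b882920312e391b30424062043148406480d050eb0480890189724aa800920312e5861000240625cd8112044801b3df096c04900367c61270291ff6de3c2570423fedf5b782c0c47f9b4122c481c8fea410cf428291fd5e538f710423fa6df312c20647f5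7962ed4c088fe9bc6e63f0091fd5e54aeb70023fabcab3c2e0c47f07d6a12e8148fe2427ccae0211fc4850b5270323f890a35a680447f1214a9054048fe2429c7b10011fc485483ea0623f652bd0b600e47e99956f7b4188fd2790d8a58211fa6c88b7620123f4dab18dc80e47e57fa62d40188fcb54b66530191f95ff0bb820023f298c195ee0e47dd216b2c10148fba42de5810391f61226ae520523ec285d26ec0847d9b40efd380c8fb3326dd9d0091f632f38ae70023ec2e81070c0e47bd90d64160148f799facea88211ef63a7ce630323ded09758620447bd90e60c88048f7b21d41948011ef643b9fe60323dadd798b960e47ad65a23840188f5b6025da08211eb60bdadd70323d6c8b36ff40e47a506ea3ec8188f4af6bc1940211e81eea8cd50223d03dd9053c0e47987396a944188f304f5d8528211e6595999470323ccb2b53e30044799656ea324048f32cae52b78011e6595d88a90523cab2cf0a640e4791657a9ea4008f22cafc3b58391e134abab430523c2695918ee084784d2cacff80c8f09a56cbf80111e134ae9f1e0123c2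695f2f00004784d2c23048148f02b8ad2e00211e05716a0640323c0ad3b2dfa0447811eaed240048f02b8c5e200011e0571992650723beb7ed3e360c477ca19e9ce4148efadfbc9458191df5bf8889b0223beb7f359ae02477d6ff2f2ac008efadfd46710391de304387a20623bc761b26d20a47795b4a58ec108ef2b69c5b38191de56d6852c0123bcbbdf29bc0047795b5287f41c8eeac2f67360311dd000052880523bab0bf7b9e084775618243e8088eeac30d8618091dd586298c60023baaaafa5020e4770de6e0680148ee252259ef8211dc585a8dce0323b8b00f2e10044771616f0af4048ee2c2e4a738391db1ee8c2160623b65af7492e0a476d349e260c108ed9e7ec4c20191db5a0885500223b6b4133d0400476d682a53c81c8ed1910e2d08291da55ff905a0423b4ac0b3e0606476958024798088ed2b00c3b50091da560296170023b4ac07228c0c4764000149b8148ec9829c1df8211d93054af640323b260ab10f2044764c15a21e0048ec982bc4e00011d9305883e30723b06d154f820c47616506ab44108ec2ca153d58191d8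347d9cba0223b0b2876e5602476165125e98008ec2ca2c5548391d73ad489ff0623ae74df2e3e0a475d61a32090108ebada0dbbb0191d75b4ec67a0123ae543350c600475d6d423fdc148ea2e4c5e228211d44872b5660223a8b94554820047516fa3175c1c8e9941d48de8291d356caa7840423a67f1d2f3606474d5dcb3d7c088e9abeee3120091d33b5aa6140023a6ae2196940c4748e3ee2254148e92abce5648211d2557a8e190323a4ab2da43a04474955ee0d80048e92abe577c8011d2557dca180723a2ab0306280c4745667f3f48148e8ae0f42220191d15c1fa1240223a2b841306c024745708667b8008e8aabc69138391d0220c94be0623a0b8452cd2084741708e667c0c8e82e12600c8111d05c2584310123a0b84d22d200474127c337d41c8e79079c82c8311cf554da77d05239eb50f2a0408473d64c664a00c8e79db1e8ff8011cf5840cbf507239a454153bc0c4734fa1e38a4148e6ae1446498211cd5c298df203239ab8551b48004734000148b8188e5aab967e90291cb55738444042396aae9062a06472d55d68490088e5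aabb4c1b0091cb557799ee0023968e253e6a0a47296a9a44000c8e52d53cec70111ca5aa88f96012394b55342480047291c0a7d201c8e4aac460100311c95580bcf7042392ab051e92064725560e7ffc088e4aac242c60091c95585a0ef002392ab0d27180e4721540e5d14188e41e60d4028291c85bf09695042390805b69de0447216fc63f28048e42df945f48391c759019f1406238e759f13980a471d705e41e0108e3ae0c436b8111c75c19968001238eb83517020e4719411e1b28188e31760c87a8291c64ac5b33404238c73432cdc0e4714bfa23e90148e29c1b46e90211c51cda981203238a70754b1c0447158b2f3fb4048e29c1bc2368011c5383889b6062388698185680a471155b2a2b4108e22a5a4bac0191c44530a94a0223880000a3fe02471153c30a98008e21ff050860391c33a70876b06238674e70b320a470d70af0b2c0c8e1a01e4e500111c35c2c86fb012386b85b5bb800470c000147d81c8e11e49cb658311c256948fa0042384b041884e06470960862248088e12c1165980091c25824a777002384ae3d3d100e470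482a328b4188e09bdac23a0291c1455fbba9042382b85d1ae40647056fd66f6c008e0ae17c82e0011c05c30add807237eb44756d80c46fcefbe105c148df873ec52c0211bf5a2b9a5303237eb4a90a900446fd694ab5ec048dfaba8cbe20391be3ca6914505237cb8630fdc0846f970ca599c0c8df2e19cfc50111be5c3487fa01237c0000a3b60046f970d7374c188de941dc8e98291bd5f24a8bd04237a12615e6e0646f58b9f3a1c088de9036d8188091bd0cdace7a00237ac5cb9d040e46f154a3470c188de387ecebd0291bc5c3687f8032378b86f96600446f170e295c4048de2e1cc92f8011bc5c3ab776042376b877199c0446ed70f233e0048ddae1ede518011bb5c3ebdd2012374000006080e46e400014718148dcae1fe2da0211b95c408b55022372a8c939de0246e5710611b8008dcae21684b8111b80000127e06236c3f4516c00446d87e7e6058008db0fd04c0a0391b51fc78c7806236a3f910a860846d4757231fc0c8da8fe54eee8111b51fcb887601236a3f9b27e00046d47bfe77741c8d98fe146f78311b31fc3834c05236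63fb717400846cc7f128aac088d98fee4ba48091b31fde8ddd0023663fc141b00e46c87e420d10188d90fc8c2218291b21f92839c042364256b67300646c87e4e1d08088d90fca4c050091b21cfba2d4072360787789740a46c0e0b25670108d81f65d4698191b0417297e402236082e7220a0246c0fb32331c008d820ba4bf98191af36a3892b072358771f1a600c46b00ac32c34148d620bac36a8211ac417689e802235882ef14300246b000014668008d620bc42e50391aa362ba66b06235482f347f60a46a905ea4360108d520bdd05d0191aa417c83ac02235482fb0d940046a905faa6e41c8d4a0bfcd598291a941808a9d04235283035d980646a5060a6124088d4a0c1c6468091a941848a5f002352830b7d700646a0870e17b41c8d3983f4dbd8311a72e6ea19804234e830f088806469d06a62020088d3a10745420091a7420f8c7600234e831306400e4694a236b38c188d2953bc3900291a5418a90d704234a831719260446950633109c048d2a0c6cffd0011a5418e8859072348831f6f7e0c469042db208c148d220c848700211a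441918b4e03234883250998044691064e4484048d220ca45dc8191a042adcf40022340855d58d80246810abe3d98008d021584c9803119f41afd13e04233e856341d606467d0aca1648088cfa159c44200919f42b4ad7900233e856b8cde0e46790adae4a8148cf2d7fcffd82119e42b886fe03233c888b0c180046790aea207c148ce230b418281919c447c998202233660810c6202466cc10a0778188cd20b657d482919a416d91cf04233482dd08ae06466905bf009c088cd1377e56b00919a4170cb1e00233482e33d6a0e4664e9e2115c188cca0cac4ff8291994196ce63032332832f082e044665066240b8048cca0ccd05e001199419a9a2f07232e833708640c465d06722e20148cba0cee35b021197419e849a02232e833f761802465d06829be81c8cb1cd5cb8803119636e3b32f05232c75a53566084658df125a44088cb19f7cab28091962c94a66e03232883453304004651068e5e28088c9a0d0cbb28191920000081f03231e83579e8004463d06b2b1b0048c7a0d6c7b300118f41ae993007231c130b97ba0c4638ca0273e4108c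720d8507581918e41b1859202231c8365110802463906ceb5e4008c720da633783918d41b5b92a06231a405f6cc00a463506da4e30108c6a0dbc37f01918d41b8860c01231a8583061a00463506e6207c088c6215cc18680918c447d82110023188581061604462c00000c30088c5113b44b18391890c9987fa06231219250cde0a4624324e22cc0c8c4864a4e1a8111890c9588fa012312192d4766004624325e70d41c8c411024fae03118836958426042310145160da064620850ad26c088c41b49c92b80118812a6c39b07230e1da35c100c461c3b4a0d94148c3a785d9e78211870ed3906c03230e1da9230802461c21034434008c3866849398391865d7c851b06230c194f39480a46187ff683d0108c3065461668111860ca9adb101230c19550a2600461826f24a5c108c28657c94b0391840a04c38f062308d21792840a46102906cbf8108c20000288681918407f9ce91022308562d275800461022222424188c19ad7d24502918335b099b50423066b631c1c06460cd6ca22e8088c19ad9c49380918335b4a6810023066b6b27980446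08d86f1bd4188c094b1ca0502118118cb827702230258430c5e024604b07e2ab4008c08e21cdfd0391802eed8bad062300c207945e0a4600b19a9ef4108c015b243c300918032a6c32e0322fc678717b20e45f446b29314188be87f443df82917d2c2b8b420422fa28a11ce80645f4b0a64900008be8b79c2fd83917c02009a570522f81dc335460845f1b83e33680c8be03055e9a81117c4b75a9350122f845f309280045f015ceab4c0c8bda81a47c300117b51bf8cc00722f4790b082a0c45e8bffa3f900c8bd1e45da0081117a51bbc6920122f4c29b831e0045e9b53f1c4c1c8bcb70b5c0a8211796e17b8130322f2dee5198c0045e5b86232dc1c8bc289fcbe2031178271181640222f055579fb60245e09c3ab7a4008bc1387d6f40391775a8197690622ee5edd54260645dd80f683ac048bba5595986839176103c96200622ec96f152a80645d90d1734ac088bb37dfc65a8211746d2cc75c0322e8da5b8eb60645cdb4bf1d501c8b9369863a80291726d31c74e0422e0da6d8e860445c1b4df1d08108b7369d639e83916d3e3cb5200522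dac1f70f640845b583f2b6080c8b6b07ecec781116d61018bc20122dac1fd3c6a0045b583fe78d8188b6230bcd1702916c461897200422d88c33544c0645b15de26cd0088b6230d4b5800916c461b852c0022d88c3940b60e45ad8e823f28188b5a23a5e9801916b6e39bbf70022d6983787400645a9a86f0120048b537065d03839169276dc1c60622d2bdc156e40a45a5a8a6fef41c8b42db660188311685a73a05c0622ceb15f3aea04459d5e9733401c8b32d0fd05e02916659c2c0190422ccb9656fc00445996942b290048b32bc8c7da8011665b2f9ff00622ca15ed4e960a45941e42a7f8108b283984a428191655d9585210222ca12e3252e0245941e7e4a50008b2875fd728039164411896330622c87003368e024591b55b1ba01c8b1ab3050758311633f3689b80122c6d9af71b00e4589545e22c8188b12e13c3f68291626e19c0ef0322c48eeb6a0c00458971420c541c8b0af93617a03116139dab2250522c2b39da0160e458153d736cc188b032ca440a82916036b9b2aa0422c0e5053b000645819a4300ac088af9d2de4370191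5e0b58b6120022bc16e32afe0c45743ea259340c8ae8b5cc1b900115d0c02c6af0522b893db9bf4064570ad1e40ec048ae2c69595a80115b1cc693df0722b4397f27f206456873264fd41c8ac8eeac2440311592d3ca1080522b29ffb4578084564b4f62b700c8ac96a245e48011592d3e836f0622b024d349740a456049aa446c108ac0935d4e9819158126c87530222b024e1359e02456049b705dc008ac093745fa039157063f89aa0622ae0c850c5e0a455c12d68be80c8ab83205e650111570501a2f90122ae095b911800455c16e306441c8ab011949f40311560233a7050422ac0469846e06455808d6336c088ab011b6167009156000050680022ac046f55560e455410b60db4188aab0fa4b1f8291550683ad920422aa06cb3b2606455410c28bec048aa91016408001155042ea5bb0722a824c50dc20c455058324af0148aa02e7e4088211540455b2180222a81e676bf802455008c2c860008aa02b464088391530ee69b8a0622a625d50bcc0a454c0b069f20108a98147d7fc8191530cc1adce0222a60b1b6bfa02454c2beaf1b41c8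a90931da480311521264831f0522a404814ba208454821a2975c0c8a9091965ee8111521265a7d80022a4033149cc0e454415ae3f90148a882b649af0211512c73c9ee0322a20adb09440445440ade96ec048a8858b49a48011513c70bea70322a0634d430a0e453d68f2b35c188a7ac59cd2c81914f6ffdbafd00229e9a5312f00e453918821228188a70267d55582914e61518dfc04229c89af09360e45316562a340188a62079d02203914b53c39ca0062296a789393e06452d4f1a7274008a5a9e4ce4d0191495dcbce68062290a75b39f808451dbd820700008a3b64edc0b03914652dfa05706228c70db11360e45157b3210c4188a29e52c8df0111434313cd83032284b24b2c560e44f58cbedbdc0c89e0eb2516a00913c26f9bc8f072274424155a20c44e88bb27ffc1089d2a60cc2181913a3fdead63022274e58b2ddc0244e95a4abb6c0089d14ffd46f0391393b1c860c062272352947060a44e56a4a62f41089cad49e7588191394905c4ad012272b5293fe00044e56a561fa01c89c2d51522e0391360000501806226cb52d08fc0a44d9cb1e5c201089b2d4be1270191365a989fef02226cb53394c20044d96a6a7e3c1889aace4d63a02913559caaa5404226ab397085e0644d5673222440889aace6e35d80913526d2cd7700226a0000a0160e44d1054691641889a17ba41aa8291345ea08fd6032268bd430edc0444d17a8af32c0489a2f51cd2e8011345ea485aa072266afb33fd00c44cd27d252fc10899af52d84c8191335ea6ac48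
def jm_10 : ℕ := 0xedf90012fe2b0012fe230023e62b00443c230023e603000000000000000000193b3b00018c210001d61900193b1b0048c82b0001b87100193b03000000000012f92b001e793b001e792b001e7923001e791b001e7913001e790b001e790300014dd10014d22b00017e91003b552300017bd900015731002d9e3300243d1b00243d0b00243d030012f12b000202410001fb81002c9e1b002dc30b0001a401001ccc3300182a2b0054080b001ccc1b0001ec710000f1e90012ed3b0023122b000000000012e8130012e51b00000000000000000012e0230012df3b0012df230012db1b0012da1b0012d913000000000012d52b00450f330012d12300495b1b001e383b001e3833001e3823001e381b001e3813001e380b001e38030017343b001734330017342b0001ef590017341b00173413001734030029643b00296433002cf92b002964230029641b0029640b002964030034023b00295b3b00295b330044382b00295b2300295b1b00455d0b00295b0300008e91002d070b0001e111000053790032dc2b0016a423003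2dc130032dc0b0001d821000099210012bd230012bd1b00505e3b001b562b0012bc1b00505e130000b84900012281004f712b004f7123004f711b002e272b004f710b004f71030015e83b0015e8330015e82b0015e81b0015e8130015e80b0015e8030001f7610028e9330001b2590001df7900019021000064f10001b5d90001c9f100347a33000074690001dd010000bdf90049fa2b0001dc81003c8d3b004649330046492b003dc823003c8d1b003c8d03003fb8030015b0330015b02b0015b0230015b01b0015b0130015b00b0015b0030001e211002225330022252b0022251b002225130022250b0001d779001bd63b000173210001df910001def1001e4013001e45230049f83b0001e3a1002f802b002d041b002f8013002f800b0001e6c10017332b0042d7230042d71b001733130017330b0042d703000201810024ad330043cd2b000074390024ad130024ad0b0001d5e10001d4c10012a9030001e11100153e3300153e2b00153e2300153e1300153e0b00153e030001d4910012a71b0001d80900008c810030e21b0017fe33000195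61002a0a1b0001d59100003c890001d7210001dbd10001d7490015c93b004227130000e12900009e310000eed90019630b0001e4810001e669003b672b0001208100237f1b0049fa0b00237f03000199310001bb11000000000001b6210001c0d90001a86900129d1b002ece3b0001f6f1002ece23002ece1b002ece03000000000001e83900021641003ca32b003ca323002f1c03003ca313003ca30b002f2e3b0042f50b002f2e23002f2e1b002f1c0b002f2e0300157c3300157c2b00157c230002036900157c1300157c0b00157c030050a33b004ea53b0050a31b00020b610051120b00021091002a153b0001eb51000202f9000219310022a313000087990001f3890050a23b000216f1000031f10050a20300020ae1003e3a13000219010000f5e1003e203b00020e4100020fa1000118d100019a99004e352b004e3523004e351b00208833004e350b004e35030042a7130032952b003299230032991b003299130032990b0032990300546113000165b90048d82300013c290039cb2b000092510001413100000000004bd1130025a1230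001397100010cc10002046100205d1b0001026900230c1b0001a679000179d90001bad100020729000158f10028a313000178590016511b000117f90000e3b10019a013003a9d2b0014f71300509b0b0000dc510012822b0021f0130001d6c9001280030000ce2100017d9900020ee100000000000108890014821b00011ad100127c1b00008f610001e7f900011cd10001b591002f061300015759001a2b03003a2433001f920b003d170b003f7a330045452b004e7e3b0012763b0012762b0025b11300011b11000000000053e103000206790013ac0b0001fac1001fdc030002244900540c330031362b00362e2b00379d230031360b00367203000186a1002170330001c6610001f0990001f69100021da10000e151002dbf1b0001fb790001e3190001f6410016c01b0001e26100126e1b004a0403003456330047271b0001c3d1001aaf03000181190001d0a90001ce8900455b330045672b003a5103002fc6030021f10b0012823b00020cf9003a632b0001e4110012821b002fc61b0001d9d100202b3b004c990300012941000137710001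efd10054182b0014c223000175d1002ed71300008e79002ed703001dc10b000192e9002e430b00014c010001094100228a13000157a10046861b00022f71001a762b00189703001a761b001a7613001a760b001a760300192f030027b01b00125b0b00125b0300196a1300555d13004efb130048de3b0038453b0001e8a1000208610001a4d9001257330012572b0001dfb10001578900017a290001c9d1005121030000fc010000e2c9003c412300011a31000186f100021d69002f0c1b0000c991001f2a130045052b0012521b00001f810001c1410000000000020899000154490001ff19004e950b000215d1000046110025e80b00016cd10019ee23002d321300124e2b00124e230001bf9100016fe90001ad2900124b1b00124b030049f43b0001b9a10033f93b000103f1002ca00300195f2b00012d89002ca20b0031ed3b0031ed2b0031ed230031ed1b0031ed130031ed0b0031ed030001968100015de90000ad910000404900021c81000076c900021e810001fec1003f0d3300020bb10042f71b002c393b0001c219003f0d030012443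30001f77100021d7900021cf10001f34900021c410000ef4100021539000217890001be11000174f1002b8b23002b8b1b002b8b13002b8b0b002b8b0300536823000048b1000139690001ab81003aaf3300019cf1003aaf23002e67030001d1b1004eba1b00156e3b0001e6410000000000193f130001bdf10001a399000153c1000195f9003d022300017811003d22330001a1b9000189d9001c94330048d82b00018441002ff13b0048d8130001aa39001c94030019420b00182f13000044990000f45100542213002cae130052ec0b001aae13001bcb13003caf230001604900162f33000120810000f30900011a4100011fd90001e0390001600100170223001a3d1b001702130017020b001702030000f09900019359004bfd0b001f9623000104a900122d03000203710000ed9100122c130001fa910000edc10012292b00122923000153d10000e4e900001559000151510012241b004ee2130001f20900014ee9001649330016492b001649230016491b001649130016490b0016490300458e3b0048db13003d633300121d2300121d1b00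1722030002096900010bf100014869001e9c0b00121b3300195f0b000125a900121a33000193110001e01900285e3b00003829003f5433003f542b003f541b003f5413003f540b000177d10018d40b0013853b000147c10012132b003b983b003b9833003b9823003b981b003b98130001fbe1003b980300000000000172410016ab3b00181c330002158100003c6900181c1b00181c13002db60b00181d2300120b23000030810012073b0053e71b0000aef900128023001206330047bd1b0000e4890042a50b0001e9710022ab2b00366123002e68330022ab130022ab0b0022ab03001200130012000b0011ff2b003b0b0b0011fe33004b2913004a9c2b000165d100010e710000d061004a9c0b004a9c0300004c3100168b2b00168b2300168b1b00168b1300168b0b00168b0300007f610000e289002d6f130026161b0028f303003b053b003e0433000105b10011f9030011f73b0011f72b0001e5c10001de490011fe3b000017e900396a0b000025110012293b000171a100178f0b00165203001229130012290b001229030046fa130046e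f3b0054332b00010081001a9b0300271a0b001252330011e82300165c3300019e5900309313001e0b23001e0b1b001e0b13001e0b0b001e0b0300012b110011e43b0011e403003eac3b003eac2b00016e31003eac1b003eac13003eac0b003eac030053e72b0053e723000139a10011e0130053e70b0053e703002ee13b00019c19002ee12b002ee11b002ee11300011b41002ee1030029d93b00015811001df02b001df0230001386100011189001df003004f613b00000000004f612b004f6123004f6113004f610b000115e100016371002a25230045c62300007ed10045c6130045c60b0052b00b0000f299003c470300330323001eae1b001eae13001eae03000175690028c92b00013e010028c91b0028c9130028c90b0028c903000000000015882b001588230015881b001588130015880b00158803000167b900383a3300383a2300016f3100383a1300383a0b00383a030001590100015a810001305100008481004ca51b0000924100011f51000119810011d4230000fab10000f8090051d93b000095e100014a11000135a9000133c9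0001564900013791002ebb330013862b0013862300014099001386130013860b001386030020022b001f2a1b0018b72b0018b71b0018b7130018b70b0011d10300018d3100184433001844230018441b001844130018440b002d540b004e2a3b00014181000124a10000c3e100012909000130f1002ed61b004746330019a72b0019a7230019a71b000000000011d1330011d12b0011d1230011d11b0011d1130011d10b004b151b004b162b004b161b004b1613004b160b0011ca03000140f100200233002002230020021b002002130020020b00200203000143a100532c33003dd82b000130e9003dd813003dd80b00012d69000159310025c82b0025c8230025c8130025c80b0025883b000182710014f31b0016f30300017cf100199e2b001dcd33000160d10000f09100199e0b00199e0300016dd100004951000145a900208a3b0000000000014451000148890020453b0025d8130026972b00000ed9002697130026970b0000000000015269004b4833002ea123002ea11b002ea11300011371000137690000aed1000163110044c323004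44c2300011b5900444c030011c003000127b10017a9330012181300012751001e7e1b000126710000d31900015221002b712b002b7123002b711b002b711300000000002b710300019ce1000109b900020e090000f2f9000186510001fa710000f301000142a90000dab9002ba82b002ba81b002ba813002ba80b002ba8030041f3230041f3130041f30b0041f30300000000000000000019a42b0019a42300194d330019a40b0019a403000000000001bd110011b6130011b603001e5f3b001e5f330001c511001e5f1b001e5f130001bc810001713900132d3b00132d33003c932b00132d23003c93130001bc21000009710012f53b0012f5330012f52b0001e3910012f51b0012f5130001c751000154b900016121001af223004ae21b004ae213001af20b004ae203000167410043a83b0002333900214f2b00214f2300214f130000000000214f03000168b900152c3300152c2b00152c2300152c1b00152c1300152c030036f73b0036f72b0036f7230036f71b0036f7130036f70b0036f7030001615100017a790018401300121a23002bf9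1b0037b1130037b10b00121a0300019af1000193a1002d892b002d8923002d8913002d890b002d8903001bd93b0001ec39001bd92b001bd923001bd91b001bd913001bd90b004a751b004a7513004a750b004a750300119f33002023230020231b002023130020230b002023030022923b00012121002292230020940300229203001dee3b00119c1b00119b1300017c11001928330019282b001928230019281b0001a1a90019280b0019280300015a510017a5330017a52b0017a51b0017a5130017a50b0017a50300184d3b00184d3300184d2b00184d2300184d1300184d0b00015e590000d68900015919000162a9000171a100018c010011941b0011940300119313000000000011a01b0011a0130011a00b0011a00300020c010026441300119f2300119f1b00119f1300119f0b00119f0300119e3b0001ba2100119e2b00119e2300119e1b00119d1300119e030022920b00119c1300119d1b000000000001aef10001fbb1002455330024552b0024551b002455130024550b00245503000178e10001679100207d030001b4c9001805130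001e4010013ac3b0013ac3300236b3b0013ac230013ac1b00014da900541503001d9f3b001d6a330001bb71001d6a23001d6a13001d6a0b0054791b0054710300020a790039e01b0001f829000000000030e103001f803b00021281002f8e33002f8e2b002f8e23002f8e1b002f8e13002f8e0b002f8e03002d0023000197910001d51100018e610023430b0001c999003cba3b0000fdd900018ce900295d230001729900117e1b0047f33b0026dc0b00018e2100482f23003ab11b0001d851000237410001f33900422c23000221c9004aee130001ace10002247900117b1b0026121b00179a3b00017cd10000d4090037ea0b0000fc5900125b1b0011793b00117923001eed2300117903004eb22b0001a141000192c90011780b00117803000124d900017f490001032100473d030001ee11004aed330038082b003afb13001174230011741b0011731b0011723b0011722b001170230011701300116e230000b901002a2e2b002a2e23002a2e1b0000e411002a2e0b002a2e03001dee33001dee2b001dee2300013579001dee13001dee0b001d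ee03004e3f1300195e23001de00b001f8d2b00116a1b004ae10300019f4900010ba9002e580b00011e690001258100012ed100013459000127e1000128b90001190900012689004bb11300011ff1000204a1000218f100021ad1001dc01b00004de1000205c10001f431002e6b0b000161f10028f32b00013bb10033e23300136a1b000143310011ce33002e651b0040fa2b00542c1b000109a1003a5113001838030001441900004581000166f1000071090000e0f100015af100020251000201710001efe10014031b00115d03002d543b000191710012023b002d501b00115a3b002d50030001c3610013ed330027d73b0013ed23000189210013ed0300285e3300285e2b00285e2300285e1b0001e4d100285e0b00285e030023473b000000f1000228b10023471b000226d1000228d1000143690042303b00423033004230230042301b0042301300000000004230030013e33b0000f97900021e990041e11300022a410001b0d10013e30300260e3b003cbd0300146f1b000229490000fe390001d001000224c90001f3110021dc33000181b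1000234490045ef3b00022419000204910012193b00121933002ad71b000213790001e5790012191300005569001aea3b001aea2b00018cb1001aea1b002a611b000203e1000153590017f333003af91b00012eb900192f230013152b001a543b00022809004684030041960b0052a53300114c3300114b3b00114b3300114b1b00114b030001129900114833002d260300114703001d002b002ee53300010c110051e0330013bc3300012c410000f0b900113c1b0001a15100018021000172e1000144e9000148990000d0b1000139e1000195690022953b0001d131002b4e2b002b4e23001a830b002b4e0b002b4e030001244900000000001a03330000d0a9001a0323001a031b001a0313001a0303001838330018382b001838230018381b001838130001a26900000000003e0e1300017f110020a42b0020a41b0020a4130020a40b0020a403000133e900463e130017ba230017ba1b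

noncomputable def mgT (b : ℕ) : ℕ := Bool.rec (motive := fun _ => ℕ) (Bool.rec (motive := fun _ => ℕ) (Bool.rec (motive := fun _ => ℕ) (Bool.rec (motive := fun _ => ℕ) (m_0) (m_1) (Nat.ble 1 b)) (Bool.rec (motive := fun _ => ℕ) (m_2) (m_3) (Nat.ble 3 b)) (Nat.ble 2 b)) (Bool.rec (motive := fun _ => ℕ) (Bool.rec (motive := fun _ => ℕ) (m_4) (m_5) (Nat.ble 5 b)) (Bool.rec (motive := fun _ => ℕ) (m_6) (m_7) (Nat.ble 7 b)) (Nat.ble 6 b)) (Nat.ble 4 b)) (Bool.rec (motive := fun _ => ℕ) (Bool.rec (motive := fun _ => ℕ) (Bool.rec (motive := fun _ => ℕ) (m_8) (m_9) (Nat.ble 9 b)) (Bool.rec (motive := fun _ => ℕ) (m_10) (0) (Nat.ble 11 b)) (Nat.ble 10 b)) (0) (Nat.ble 12 b)) (Nat.ble 8 b)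
noncomputable def jmT (b : ℕ) : ℕ := Bool.rec (motive := fun _ => ℕ) (Bool.rec (motive := fun _ => ℕ) (Bool.rec (motive := fun _ => ℕ) (Bool.rec (motive := fun _ => ℕ) (jm_0) (jm_1) (Nat.ble 1 b)) (Bool.rec (motive := fun _ => ℕ) (jm_2) (jm_3) (Nat.ble 3 b)) (Nat.ble 2 b)) (Bool.rec (motive := fun _ => ℕ) (Bool.rec (motive := fun _ => ℕ) (jm_4) (jm_5) (Nat.ble 5 b)) (Bool.rec (motive := fun _ => ℕ) (jm_6) (jm_7) (Nat.ble 7 b)) (Nat.ble 6 b)) (Nat.ble 4 b)) (Bool.rec (motive := fun _ => ℕ) (Bool.rec (motive := fun _ => ℕ) (Bool.rec (motive := fun _ => ℕ) (jm_8) (jm_9) (Nat.ble 9 b)) (Bool.rec (motive := fun _ => ℕ) (jm_10) (0) (Nat.ble 11 b)) (Nat.ble 10 b)) (0) (Nat.ble 12 b)) (Nat.ble 8 b)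
noncomputable def eT (c b : ℕ) : ℕ := Bool.rec (motive := fun _ => ℕ) (Bool.rec (motive := fun _ => ℕ) (Bool.rec (motive := fun _ => ℕ) (ecol0 b) (ecol1 b) (Nat.ble 1 c)) (Bool.rec (motive := fun _ => ℕ) (ecol2 b) (ecol3 b) (Nat.ble 3 c)) (Nat.ble 2 c)) (Bool.rec (motive := fun _ => ℕ) (Bool.rec (motive := fun _ => ℕ) (ecol4 b) (ecol5 b) (Nat.ble 5 c)) (Bool.rec (motive := fun _ => ℕ) (ecol6 b) (ecol7 b) (Nat.ble 7 c)) (Nat.ble 6 c)) (Nat.ble 4 c)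
noncomputable def jT (c b : ℕ) : ℕ := Bool.rec (motive := fun _ => ℕ) (Bool.rec (motive := fun _ => ℕ) (Bool.rec (motive := fun _ => ℕ) (jcol0 b) (jcol1 b) (Nat.ble 1 c)) (Bool.rec (motive := fun _ => ℕ) (jcol2 b) (jcol3 b) (Nat.ble 3 c)) (Nat.ble 2 c)) (Bool.rec (motive := fun _ => ℕ) (Bool.rec (motive := fun _ => ℕ) (jcol4 b) (jcol5 b) (Nat.ble 5 c)) (Bool.rec (motive := fun _ => ℕ) (jcol6 b) (jcol7 b) (Nat.ble 7 c)) (Nat.ble 6 c)) (Nat.ble 4 c)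

def rw0 : List ℕ := [0, 0, 2, 7, 3, 1, 1, 3, 1, 1, 6, 0, 0, 2]
def rw1 : List ℕ := [3, 1, 3, 0, 2, 0]
def rw2 : List ℕ := [1, 1, 3, 1, 1, 0, 0, 0, 2, 0, 0, 2, 1, 3]
def rw3 : List ℕ := [2, 1, 3, 1, 3, 1, 3, 1, 0, 0, 2, 0, 2, 0]
def rw4 : List ℕ := [2, 0, 3, 1, 3, 0]
def rw5 : List ℕ := [1, 3, 0, 2, 0, 3]
def rw6 : List ℕ := [2, 0, 2, 1, 3, 1, 3, 1, 3, 1, 0, 0, 2, 0]
def rw7 : List ℕ := [0, 2, 0, 3, 1, 3]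
def rw8 : List ℕ := [3, 1, 1, 3, 1, 1, 0, 0, 0, 2, 0, 0, 2, 1]
def rw9 : List ℕ := [0, 2, 1, 3, 1, 3, 1, 3, 1, 0, 0, 2, 0, 2]
def rw10 : List ℕ := [1, 3, 1, 1, 6, 0, 0, 2, 0, 0, 2, 7, 3, 1]
def rw11 : List ℕ := [1, 7, 3, 1, 6, 4, 2, 4, 1, 3, 0, 5, 0, 3, 1, 0, 0, 2, 1, 4, 1, 2, 0, 5, 3, 5, 7, 0, 2, 6]
def rw12 : List ℕ := [3, 7, 3, 1, 6, 4, 2, 4, 1, 3, 0, 5, 0, 3, 1, 2, 0, 2, 1, 4, 1, 2, 0, 5, 3, 5, 7, 0, 2, 6]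
def rw13 : List ℕ := [5, 7, 3, 1, 6, 4, 2, 4, 1, 3, 0, 5, 0, 3, 1, 4, 0, 2, 1, 4, 1, 2, 0, 5, 3, 5, 7, 0, 2, 6]
def rw14 : List ℕ := [1, 7, 4, 2, 6, 5, 2, 5, 2, 0, 5, 3, 3, 1, 0, 0, 2, 2, 4, 1, 3, 4, 3, 4, 7, 3, 5, 6]
def rw15 : List ℕ := [3, 7, 4, 2, 6, 5, 2, 5, 2, 0, 5, 3, 3, 1, 2, 0, 2, 2, 4, 1, 3, 4, 3, 4, 7, 3, 5, 6]
def rw16 : List ℕ := [5, 7, 4, 2, 6, 5, 2, 5, 2, 0, 5, 3, 3, 1, 4, 0, 2, 2, 4, 1, 3, 4, 3, 4, 7, 3, 5, 6]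
def rw17 : List ℕ := [1, 7, 0, 2, 6, 3, 4, 1, 4, 1, 3, 5, 0, 3, 1, 0, 0, 2, 1, 4, 2, 0, 5, 0, 5, 2, 7, 3, 1, 6]
def rw18 : List ℕ := [3, 7, 0, 2, 6, 3, 4, 1, 4, 1, 3, 5, 0, 3, 1, 2, 0, 2, 1, 4, 2, 0, 5, 0, 5, 2, 7, 3, 1, 6]
def rw19 : List ℕ := [1, 7, 3, 5, 0, 5, 6, 5, 2, 5, 5, 5, 2, 5, 1, 0, 0, 4, 3, 4, 4, 4, 3, 4, 7, 4, 1, 4, 2, 6]
def rw20 : List ℕ := [3, 7, 3, 5, 0, 5, 6, 5, 2, 5, 5, 5, 2, 5, 1, 2, 0, 4, 3, 4, 4, 4, 3, 4, 7, 4, 1, 4, 2, 6]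
def rw21 : List ℕ := [5, 7, 3, 5, 0, 5, 6, 5, 2, 5, 5, 5, 2, 5, 1, 4, 0, 4, 3, 4, 4, 4, 3, 4, 7, 4, 1, 4, 2, 6]
def rw22 : List ℕ := [5, 7, 0, 2, 6, 3, 4, 1, 4, 1, 3, 5, 0, 3, 1, 4, 0, 2, 1, 4, 2, 0, 5, 0, 5, 2, 7, 3, 1, 6]
def rw23 : List ℕ := [1, 3, 1, 1, 2, 0, 0, 2, 0, 0, 2, 3, 3, 1]
def rw24 : List ℕ := [1, 7, 7, 3, 1, 7, 1, 2, 5, 2, 5, 1, 4, 3, 1, 0, 0, 2, 5, 0, 4, 3, 4, 3, 0, 6, 0, 2, 6, 6]
def rw25 : List ℕ := [3, 7, 7, 3, 1, 7, 1, 2, 5, 2, 5, 1, 4, 3, 1, 2, 0, 2, 5, 0, 4, 3, 4, 3, 0, 6, 0, 2, 6, 6]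
def rw26 : List ℕ := [5, 7, 7, 3, 1, 7, 1, 2, 5, 2, 5, 1, 4, 3, 1, 4, 0, 2, 5, 0, 4, 3, 4, 3, 0, 6, 0, 2, 6, 6]
def rw27 : List ℕ := [0, 5, 3, 5, 7, 4, 2, 4, 1, 4, 2, 4, 1, 6, 0, 5, 3, 5]
def rw28 : List ℕ := [3, 1, 1, 2, 0, 0, 2, 0, 0, 2, 3, 3, 1, 1]
def rw29 : List ℕ := [3, 1, 6, 2, 0, 7, 7, 6, 1, 3, 7, 0, 2, 6, 2, 0, 7, 3, 1, 6, 0, 2, 6, 1, 3, 7]
def rw30 : List ℕ := [0, 5, 3, 5, 3, 1, 2, 0, 2, 4, 2, 4, 1, 4, 2, 4, 3, 1, 3, 3, 2, 0, 2, 5, 3, 5]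
def rw31 : List ℕ := [2, 6, 1, 3, 7, 7, 6, 2, 0, 7, 3, 1, 6, 1, 3, 7, 3, 1, 3, 1, 6, 0, 2, 0, 2, 6, 2, 0, 7, 0]
def rw32 : List ℕ := [2, 4, 1, 4, 0, 5, 3, 5, 0, 5, 3, 5, 5, 4, 2, 4, 1, 4]
def rw33 : List ℕ := [1, 7, 7, 2, 0, 6, 6, 4, 3, 4, 4, 0, 3, 3, 1, 0, 0, 2, 2, 1, 5, 5, 2, 5, 7, 7, 1, 3, 6, 6]
def rw34 : List ℕ := [3, 7, 7, 2, 0, 6, 6, 4, 3, 4, 4, 0, 3, 3, 1, 2, 0, 2, 2, 1, 5, 5, 2, 5, 7, 7, 1, 3, 6, 6]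
def rw35 : List ℕ := [5, 7, 7, 2, 0, 6, 6, 4, 3, 4, 4, 0, 3, 3, 1, 4, 0, 2, 2, 1, 5, 5, 2, 5, 7, 7, 1, 3, 6, 6]
def rw36 : List ℕ := [2, 4, 1, 4, 1, 3, 1, 3, 1, 2, 0, 2, 0, 2, 0, 5, 0, 5, 3, 5, 0, 5, 3, 4, 1, 4]
def rw37 : List ℕ := [1, 7, 0, 6, 0, 6, 6, 5, 1, 4, 0, 2, 5, 3, 1, 0, 0, 2, 4, 3, 1, 5, 0, 4, 7, 7, 1, 7, 1, 6]
def rw38 : List ℕ := [3, 7, 0, 6, 0, 6, 6, 5, 1, 4, 0, 2, 5, 3, 1, 2, 0, 2, 4, 3, 1, 5, 0, 4, 7, 7, 1, 7, 1, 6]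
def rw39 : List ℕ := [5, 7, 0, 6, 0, 6, 6, 5, 1, 4, 0, 2, 5, 3, 1, 4, 0, 2, 4, 3, 1, 5, 0, 4, 7, 7, 1, 7, 1, 6]
def rw40 : List ℕ := [0, 0, 2, 5, 3, 1, 1, 3, 1, 1, 4, 0, 0, 2]
def rw41 : List ℕ := [1, 3, 1, 1, 4, 0, 0, 2, 0, 0, 2, 5, 3, 1]
def rw42 : List ℕ := [1, 4, 2, 4, 1, 6, 0, 5, 3, 5, 0, 5, 3, 5, 7, 4, 2, 4]
def rw43 : List ℕ := [0, 5, 3, 5, 3, 1, 1, 6, 0, 0, 2, 4, 2, 4, 1, 4, 2, 4, 0, 2, 7, 3, 1, 5, 3, 5]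
def rw44 : List ℕ := [3, 5, 0, 5, 0, 2, 1, 3, 1, 6, 0, 2, 0, 3, 1, 4, 1, 4, 2, 4, 1, 4, 7, 5, 0, 5]
def rw45 : List ℕ := [2, 4, 1, 4, 2, 4, 1, 6, 0, 5, 3, 5, 0, 5, 3, 5, 7, 4]
def rw46 : List ℕ := [0, 0, 5, 0, 5, 7, 4, 1, 4, 1, 1, 4, 1, 4, 1, 1, 6, 0, 0, 5, 0, 5]
def rw47 : List ℕ := [1, 4, 2, 4, 3, 1, 3, 3, 2, 0, 2, 5, 3, 5, 0, 5, 3, 5, 3, 1, 2, 0, 2, 4, 2, 4]
def rw48 : List ℕ := [4, 0, 4, 0, 4, 7, 5, 1, 5, 1, 5, 1, 5, 1, 5, 1, 6, 0, 4, 0, 4, 0]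
def rw49 : List ℕ := [4, 0, 5, 0, 5, 0, 4, 1, 4, 1]
def rw50 : List ℕ := [4, 1, 4, 0, 5, 0, 5, 0, 4, 1]
def rw51 : List ℕ := [4, 1, 4, 1, 4, 0, 5, 0, 5, 0]
def rw52 : List ℕ := [0, 5, 0, 4, 1, 4, 1, 4, 0, 5]
def rw53 : List ℕ := [1, 1, 4, 1, 4, 1, 1, 0, 0, 0, 5, 0, 5, 0, 0, 5, 0, 5, 1, 4, 1, 4]
def rw54 : List ℕ := [5, 1, 4, 1, 4, 1, 4, 1, 4, 1, 4, 1, 0, 0, 5, 0, 5, 0, 5, 0, 5, 0]
def rw55 : List ℕ := [5, 0, 4, 1, 4, 1, 4, 0, 5, 0]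
def rw56 : List ℕ := [1, 4, 0, 5, 0, 5, 0, 4, 1, 4]
def rw57 : List ℕ := [5, 0, 5, 0, 4, 1, 4, 1, 4, 0]
def rw58 : List ℕ := [1, 4, 1, 4, 0, 5, 0, 5, 0, 4]
def rw59 : List ℕ := [0, 5, 0, 5, 0, 4, 1, 4, 1, 4]
def rw60 : List ℕ := [3, 5, 0, 5, 0, 2, 1, 3, 1, 0, 0, 2, 0, 3, 1, 4, 1, 4, 2, 4, 1, 4, 1, 5, 0, 5]
def rw61 : List ℕ := [2, 4, 1, 4, 1, 3, 1, 3, 1, 0, 0, 2, 0, 2, 0, 5, 0, 5, 3, 5, 0, 5, 1, 4, 1, 4]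
def rw62 : List ℕ := [3, 1, 1, 6, 0, 0, 2, 0, 0, 2, 7, 3, 1, 1]
def rw63 : List ℕ := [4, 1, 4, 1, 1, 4, 1, 4, 1, 1, 0, 0, 0, 5, 0, 5, 0, 0, 5, 0, 5, 1]
def rw64 : List ℕ := [4, 1, 1, 4, 1, 4, 1, 1, 0, 0, 0, 5, 0, 5, 0, 0, 5, 0, 5, 1, 4, 1]
def rw65 : List ℕ := [0, 5, 1, 4, 1, 4, 1, 4, 1, 4, 1, 4, 1, 0, 0, 5, 0, 5, 0, 5, 0, 5]
def rw66 : List ℕ := [0, 5, 0, 5, 1, 4, 1, 4, 1, 4, 1, 4, 1, 4, 1, 0, 0, 5, 0, 5, 0, 5]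
def rw67 : List ℕ := [4, 0, 4, 0, 4, 0, 4, 5, 5, 1, 5, 1, 5, 1, 5, 1, 5, 1, 4, 0, 4, 0]
def rw68 : List ℕ := [1, 4, 2, 4, 2, 1, 3, 5, 3, 5, 0, 5, 3, 5, 1, 3, 1, 1, 0, 0, 0, 2, 0, 4, 2, 4]
def rw69 : List ℕ := [0, 5, 3, 5, 3, 1, 2, 4, 2, 4, 1, 4, 2, 4, 2, 1, 3, 1, 0, 0, 2, 0, 3, 5, 3, 5]
def rw70 : List ℕ := [3, 5, 0, 5, 3, 4, 1, 4, 2, 4, 1, 4, 1, 3, 1, 3, 1, 2, 0, 2, 0, 2, 0, 5, 0, 5]
def rw71 : List ℕ := [2, 2, 4, 2, 4, 7, 5, 3, 5, 3, 3, 5, 3, 5, 3, 3, 6, 2, 2, 4, 2, 4]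
def rw72 : List ℕ := [5, 3, 5, 3, 5, 2, 4, 2, 4, 2]
def rw73 : List ℕ := [2, 4, 2, 5, 3, 5, 3, 5, 2, 4]
def rw74 : List ℕ := [3, 3, 5, 3, 5, 3, 3, 2, 2, 2, 4, 2, 4, 2, 2, 4, 2, 4, 3, 5, 3, 5]
def rw75 : List ℕ := [4, 3, 5, 3, 5, 3, 5, 3, 5, 3, 5, 3, 2, 2, 4, 2, 4, 2, 4, 2, 4, 2]
def rw76 : List ℕ := [4, 2, 4, 3, 5, 3, 5, 3, 5, 3, 5, 3, 5, 3, 2, 2, 4, 2, 4, 2, 4, 2]
def rw77 : List ℕ := [4, 2, 4, 2, 5, 3, 5, 3, 5, 2]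
def rw78 : List ℕ := [3, 5, 3, 5, 2, 4, 2, 4, 2, 5]
def rw79 : List ℕ := [4, 2, 4, 2, 4, 3, 5, 3, 5, 3, 5, 3, 5, 3, 5, 3, 2, 2, 4, 2, 4, 2]
def rw80 : List ℕ := [3, 0, 3, 4, 4, 3, 7, 2, 5, 5, 2, 1, 2, 2, 4, 2, 2, 1, 6, 0, 3, 3, 5, 3]
def rw81 : List ℕ := [1, 4, 2, 4, 1, 2, 0, 5, 3, 5, 0, 5, 3, 5, 3, 4, 2, 4]
def rw82 : List ℕ := [0, 5, 3, 5, 1, 3, 1, 1, 2, 0, 0, 2, 0, 4, 2, 4, 1, 4, 2, 4, 2, 3, 3, 5, 3, 5]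
def rw83 : List ℕ := [1, 2, 2, 4, 2, 2, 1, 0, 0, 3, 3, 5, 3, 3, 0, 3, 4, 4, 3, 1, 2, 5, 5, 2]
def rw84 : List ℕ := [2, 4, 2, 4, 2, 5, 3, 5, 3, 5]
def rw85 : List ℕ := [5, 3, 5, 3, 3, 5, 3, 5, 3, 3, 2, 2, 2, 4, 2, 4, 2, 2, 4, 2, 4, 3]
def rw86 : List ℕ := [5, 3, 5, 2, 4, 2, 4, 2, 5, 3]
def rw87 : List ℕ := [5, 3, 3, 5, 3, 5, 3, 3, 2, 2, 2, 4, 2, 4, 2, 2, 4, 2, 4, 3, 5, 3]
def rw88 : List ℕ := [2, 4, 3, 5, 3, 5, 3, 5, 3, 5, 3, 5, 3, 2, 2, 4, 2, 4, 2, 4, 2, 4]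
def rw89 : List ℕ := [2, 4, 2, 4, 3, 5, 3, 5, 3, 5, 3, 5, 3, 5, 3, 2, 2, 4, 2, 4, 2, 4]
def rw90 : List ℕ := [2, 2, 4, 2, 0, 4, 7, 5, 1, 3, 5, 3, 3, 5, 5, 5, 1, 1, 6, 0, 0, 4, 4, 4]
def rw91 : List ℕ := [4, 2, 2, 4, 2, 0, 4, 5, 5, 1, 3, 5, 3, 3, 5, 5, 5, 1, 1, 4, 0, 0, 4, 4]
def rw92 : List ℕ := [3, 3, 5, 5, 5, 1, 1, 0, 0, 0, 4, 4, 4, 2, 2, 4, 2, 0, 4, 1, 5, 1, 3, 5]
def rw93 : List ℕ := [5, 3, 3, 5, 5, 5, 1, 1, 0, 0, 0, 4, 4, 4, 2, 2, 4, 2, 0, 4, 1, 5, 1, 3]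
def rw94 : List ℕ := [5, 3, 3, 5, 0, 4, 7, 5, 1, 4, 2, 2, 4, 2, 5, 5, 1, 1, 6, 0, 0, 4, 4, 3]
def rw95 : List ℕ := [3, 5, 3, 3, 5, 0, 4, 5, 5, 1, 4, 2, 2, 4, 2, 5, 5, 1, 1, 4, 0, 0, 4, 4]
def rw96 : List ℕ := [2, 4, 2, 5, 5, 1, 1, 0, 0, 0, 4, 4, 3, 5, 3, 3, 5, 0, 4, 1, 5, 1, 4, 2]
def rw97 : List ℕ := [2, 2, 4, 2, 5, 5, 1, 1, 0, 0, 0, 4, 4, 3, 5, 3, 3, 5, 0, 4, 1, 5, 1, 4]
def rw98 : List ℕ := [2, 4, 2, 2, 1, 2, 0, 3, 3, 5, 3, 3, 0, 3, 4, 4, 3, 3, 2, 5, 5, 2, 1, 2]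
def rw99 : List ℕ := [3, 3, 5, 3, 4, 4, 7, 5, 5, 2, 4, 2, 2, 4, 1, 5, 1, 1, 6, 0, 0, 4, 0, 5]
def rw100 : List ℕ := [5, 3, 3, 5, 3, 4, 4, 5, 5, 5, 2, 4, 2, 2, 4, 1, 5, 1, 1, 4, 0, 0, 4, 0]
def rw101 : List ℕ := [0, 5, 3, 3, 5, 3, 4, 4, 5, 5, 5, 2, 4, 2, 2, 4, 1, 5, 1, 1, 4, 0, 0, 4]
def rw102 : List ℕ := [4, 0, 2, 4, 2, 2, 4, 4, 4, 5, 5, 5, 5, 3, 3, 5, 3, 1, 5, 1, 1, 4, 0, 0]
def rw103 : List ℕ := [2, 2, 4, 1, 5, 1, 1, 0, 0, 0, 4, 0, 5, 3, 3, 5, 3, 4, 4, 1, 5, 5, 2, 4]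
def rw104 : List ℕ := [4, 2, 2, 4, 1, 5, 1, 1, 0, 0, 0, 4, 0, 5, 3, 3, 5, 3, 4, 4, 1, 5, 5, 2]
def rw105 : List ℕ := [4, 2, 2, 4, 4, 4, 7, 5, 5, 5, 3, 3, 5, 3, 1, 5, 1, 1, 6, 0, 0, 4, 0, 2]
def rw106 : List ℕ := [3, 5, 3, 1, 5, 1, 1, 0, 0, 0, 4, 0, 2, 4, 2, 2, 4, 4, 4, 1, 5, 5, 5, 3]
def rw107 : List ℕ := [3, 3, 5, 3, 1, 5, 1, 1, 0, 0, 0, 4, 0, 2, 4, 2, 2, 4, 4, 4, 1, 5, 5, 5]
def rw108 : List ℕ := [1, 4, 1, 4, 1, 1, 6, 0, 0, 5, 0, 5, 0, 0, 5, 0, 5, 7, 4, 1, 4, 1]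
def rw109 : List ℕ := [1, 4, 2, 4, 2, 0, 3, 1, 6, 0, 2, 1, 3, 5, 3, 5, 0, 5, 3, 5, 2, 7, 3, 4, 2, 4]
def rw110 : List ℕ := [5, 1, 5, 1, 5, 1, 6, 0, 4, 0, 4, 0, 4, 0, 4, 0, 4, 7, 5, 1, 5, 1]
def rw111 : List ℕ := [2, 6, 3, 0, 5, 3, 1, 3, 1, 6, 0, 2, 0, 2, 4, 1, 2, 7, 3, 1, 6, 0, 2, 5, 7, 4, 3, 1, 7, 0]
def rw112 : List ℕ := [6, 3, 3, 1, 2, 7, 3, 5, 7, 4, 2, 6, 3, 0, 2, 2, 7, 4, 1, 4, 1, 3, 1, 6, 0, 2, 0, 5, 0, 5]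
def rw113 : List ℕ := [4, 1, 3, 5, 6, 3, 0, 3, 1, 6, 0, 2, 1, 2, 7, 4, 2, 0, 5, 3, 1, 6, 7, 7, 0, 2]
def rw114 : List ℕ := [2, 6, 3, 3, 5, 3, 1, 6, 0, 2, 4, 2, 2, 7, 3, 1, 6, 3, 3, 5, 7, 4, 2, 2, 7, 0]
def rw115 : List ℕ := [1, 3, 5, 0, 5, 6, 3, 0, 3, 1, 6, 0, 2, 1, 2, 7, 4, 1, 4, 2, 0, 2, 4, 2, 6, 7, 7, 3, 5, 3]
def rw116 : List ℕ := [1, 3, 5, 6, 0, 2, 2, 2, 7, 3, 1, 3, 1, 6, 0, 2, 0, 2, 6, 3, 3, 3, 1, 7, 4, 2, 0, 5, 7, 4]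
def rw117 : List ℕ := [0, 2, 6, 6, 3, 0, 3, 1, 6, 0, 2, 1, 2, 7, 7, 3, 1, 6, 3, 0, 5, 5, 6, 7, 7, 4, 4, 1, 2, 7]
def rw118 : List ℕ := [5, 3, 1, 6, 0, 2, 4, 2, 0, 5, 0, 2, 4, 2, 0, 5, 7, 4, 1, 3, 5, 3, 1, 4, 1, 3]
def rw119 : List ℕ := [5, 0, 5, 0, 5, 0, 5, 3, 4, 1, 4, 1, 4, 1, 4, 1, 4, 1, 2, 0, 5, 0]
def rw120 : List ℕ := [0, 5, 0, 5, 5, 5, 4, 4, 1, 4, 1, 4, 4, 1, 4, 1, 4, 0, 5, 0, 5, 5]
def rw121 : List ℕ := [3, 5, 0, 5, 3, 5, 1, 3, 1, 1, 6, 0, 0, 2, 0, 4, 2, 4, 1, 4, 2, 4, 2, 7, 3, 5]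
def rw122 : List ℕ := [5, 0, 5, 0, 5, 0, 5, 1, 4, 1, 4, 1, 4, 1, 4, 1, 4, 1, 0, 0, 5, 0]
def rw123 : List ℕ := [1, 4, 4, 4, 1, 4, 1, 4, 5, 5, 0, 5, 0, 5, 5, 5, 0, 5, 0, 5, 1, 4, 0, 4, 1, 4]
def rw124 : List ℕ := [4, 1, 4, 4, 4, 1, 4, 1, 4, 5, 5, 0, 5, 0, 5, 5, 5, 0, 5, 0, 5, 1, 4, 0, 4, 1]
def rw125 : List ℕ := [4, 1, 4, 1, 4, 0, 5, 0, 5, 5, 0, 5, 0, 5, 5, 5, 4, 4, 1, 4, 1, 4]
def rw126 : List ℕ := [0, 5, 3, 1, 2, 0, 2, 4, 1, 4, 2, 0, 5, 0, 5, 0, 5, 3, 4, 1, 4, 1, 4, 1, 3, 5]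
def rw127 : List ℕ := [0, 5, 5, 5, 0, 5, 0, 5, 1, 0, 0, 4, 1, 4, 1, 4, 4, 4, 1, 4, 1, 4, 1, 5, 0, 5]
def rw128 : List ℕ := [1, 4, 2, 1, 3, 5, 0, 5, 0, 0, 5, 0, 5, 3, 1, 1, 0, 0, 0, 2, 4, 1, 4, 1, 1, 4]
def rw129 : List ℕ := [4, 1, 3, 1, 3, 1, 0, 0, 2, 0, 2, 0, 5, 0, 5, 3, 5, 0, 5, 1, 4, 1, 4, 2, 4, 1]
def rw130 : List ℕ := [4, 1, 1, 4, 1, 4, 2, 1, 3, 5, 0, 5, 0, 0, 5, 0, 5, 3, 1, 1, 0, 0, 0, 2, 4, 1]
def rw131 : List ℕ := [1, 4, 1, 1, 4, 1, 4, 2, 1, 3, 5, 0, 5, 0, 0, 5, 0, 5, 3, 1, 1, 0, 0, 0, 2, 4]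
def rw132 : List ℕ := [1, 4, 1, 0, 0, 5, 0, 5, 0, 5, 0, 5, 0, 5, 1, 4, 1, 4, 1, 4, 1, 4]
def rw133 : List ℕ := [0, 5, 3, 1, 1, 0, 0, 0, 2, 4, 1, 4, 2, 0, 0, 5, 0, 5, 1, 4, 1, 4, 1, 1, 3, 5]
def rw134 : List ℕ := [1, 4, 1, 3, 1, 3, 1, 0, 0, 2, 0, 2, 0, 5, 0, 5, 3, 5, 0, 5, 1, 4, 1, 4, 2, 4]
def rw135 : List ℕ := [5, 0, 5, 5, 1, 4, 4, 1, 4, 1, 4, 3, 5, 0, 5, 3, 1, 0, 0, 2, 4, 1, 4, 2, 5, 0]
def rw136 : List ℕ := [5, 0, 5, 3, 1, 0, 0, 2, 4, 1, 4, 2, 0, 4, 1, 4, 1, 4, 1, 5, 0, 5, 0, 5, 1, 3]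
def rw137 : List ℕ := [3, 1, 6, 0, 2, 5, 3, 1, 6, 0, 2, 4, 3, 1, 7, 0, 2, 6, 3, 0, 5, 7, 4, 1, 2, 7]
def rw138 : List ℕ := [4, 2, 0, 5, 3, 5, 1, 4, 2, 4, 1, 3, 5, 2, 4, 2, 4, 2, 1, 0, 0, 3, 5, 3, 5, 3]
def rw139 : List ℕ := [2, 4, 2, 2, 4, 2, 4, 5, 5, 3, 5, 3, 3, 5, 3, 5, 3, 3, 4, 2, 2, 4]
def rw140 : List ℕ := [3, 4, 7, 7, 6, 5, 2, 5, 2, 4, 3, 5, 3, 5, 7, 4, 1, 6, 0, 5, 6, 4, 2, 4, 2, 5, 3, 4]
def rw141 : List ℕ := [1, 4, 6, 3, 7, 5, 6, 0, 4, 4, 4, 1, 5, 5, 1, 0, 0, 4, 4, 0, 5, 5, 5, 1, 7, 4, 6, 2, 7, 5]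
def rw142 : List ℕ := [3, 4, 6, 3, 7, 5, 6, 0, 4, 4, 4, 1, 5, 5, 1, 2, 0, 4, 4, 0, 5, 5, 5, 1, 7, 4, 6, 2, 7, 5]
def rw143 : List ℕ := [5, 4, 6, 3, 7, 5, 6, 0, 4, 4, 4, 1, 5, 5, 1, 4, 0, 4, 4, 0, 5, 5, 5, 1, 7, 4, 6, 2, 7, 5]
def rw144 : List ℕ := [6, 3, 0, 3, 1, 2, 0, 2, 1, 2, 7, 4, 2, 0, 5, 3, 1, 6, 3, 7, 0, 2, 4, 1, 3, 5]
def rw145 : List ℕ := [0, 2, 5, 6, 3, 3, 1, 2, 0, 2, 2, 7, 4, 3, 1, 3, 3, 5, 3, 1, 6, 3, 3, 2, 7, 0, 2, 4, 2, 2]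
def rw146 : List ℕ := [3, 3, 1, 2, 0, 2, 2, 2, 7, 0, 5, 0, 4, 2, 4, 2, 4, 6, 3, 7, 5, 3, 5, 3, 5, 1, 4, 1, 6, 3]
def rw147 : List ℕ := [3, 0, 5, 6, 3, 0, 3, 1, 2, 0, 2, 1, 2, 7, 4, 1, 2, 0, 2, 5, 3, 1, 6, 3, 7, 0, 2, 4, 3, 1]
def rw148 : List ℕ := [3, 1, 6, 3, 3, 3, 1, 2, 0, 2, 2, 2, 7, 0, 2, 4, 3, 1, 3, 0, 5, 6, 3, 7, 4, 1, 2, 0, 2, 5]
def rw149 : List ℕ := [0, 2, 0, 2, 5, 3, 1, 3, 1, 3, 1, 4, 0, 2]
def rw150 : List ℕ := [7, 3, 1, 6, 3, 1, 3, 1, 0, 0, 2, 0, 2, 7, 0, 2, 6, 3, 0, 5, 0, 2, 4, 1, 5, 3, 1, 4, 1, 2]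
def rw151 : List ℕ := [2, 2, 7, 3, 3, 1, 3, 3, 1, 6, 0, 2, 2, 0]
def rw152 : List ℕ := [5, 2, 7, 3, 1, 6, 0, 2, 6, 3, 4, 2, 4, 2, 0, 5, 2, 7, 7, 6, 3, 4, 1, 3, 5, 3]
def rw153 : List ℕ := [2, 5, 2, 7, 3, 1, 6, 0, 2, 6, 3, 4, 3, 5, 5, 0, 5, 3, 3, 5, 7, 7, 6, 4, 2, 2, 4, 1, 4, 4]
def rw154 : List ℕ := [2, 5, 1, 3, 1, 5, 1, 3, 1, 2, 0, 2, 0, 4, 0, 2, 0, 4, 3, 1, 3, 4, 3, 5, 2, 0]
def rw155 : List ℕ := [0, 2, 0, 2, 0, 2, 5, 3, 1, 3, 1, 3, 1, 4]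
def rw156 : List ℕ := [3, 3, 1, 2, 0, 2, 2, 0, 2, 2, 3, 3, 3, 1]
def rw157 : List ℕ := [5, 2, 0, 2, 5, 3, 4, 3, 1, 3, 4, 1, 3, 1, 4, 1, 3, 1, 2, 0, 2, 0, 5, 0, 2, 0]
def rw158 : List ℕ := [0, 2, 0, 4, 1, 5, 1, 3, 1, 5, 1, 3, 1, 5, 1, 3, 1, 0, 0, 2, 0, 4, 0, 2, 0, 4]
def rw159 : List ℕ := [3, 1, 3, 4, 1, 5, 2, 0, 2, 5, 1, 3, 1, 5, 1, 3, 1, 0, 0, 2, 0, 4, 0, 2, 0, 4]
def rw160 : List ℕ := [1, 4, 1, 3, 1, 4, 1, 5, 0, 2, 0, 5, 0, 2, 0, 5, 1, 3, 1, 0, 0, 2, 0, 4, 1, 3]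
def rw161 : List ℕ := [4, 1, 4, 2, 4, 1, 4, 1, 3, 3, 2, 0, 5, 0, 5, 3, 5, 0, 5, 1, 3, 1, 2, 0, 2, 0]
def rw162 : List ℕ := [2, 4, 1, 3, 1, 4, 1, 5, 0, 2, 0, 5, 3, 1, 3, 5, 1, 3, 1, 0, 0, 2, 0, 4, 2, 0]
def rw163 : List ℕ := [4, 2, 5, 3, 5, 3, 5, 2, 4, 2]
def rw164 : List ℕ := [4, 2, 1, 3, 5, 3, 5, 0, 5, 3, 5, 1, 3, 1, 1, 0, 0, 0, 2, 0, 4, 2, 4, 1, 4, 2]
def rw165 : List ℕ := [4, 1, 4, 2, 4, 2, 5, 3, 5, 3, 5, 0, 5, 3, 5, 1, 3, 1, 1, 4, 0, 0, 2, 0, 4, 2]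
def rw166 : List ℕ := [5, 3, 5, 0, 5, 1, 3, 1, 4, 0, 2, 0, 4, 1, 4, 2, 4, 1, 4, 1, 3, 5, 2, 0, 5, 0]
def rw167 : List ℕ := [5, 0, 5, 1, 3, 5, 0, 5, 3, 1, 4, 0, 2, 4, 1, 4, 2, 0, 4, 1, 4, 1, 4, 5, 5, 0]
def rw168 : List ℕ := [1, 4, 1, 5, 5, 4, 0, 5, 0, 5, 0, 3, 5, 0, 5, 3, 1, 4, 0, 2, 4, 1, 4, 2, 1, 4]
def rw169 : List ℕ := [5, 0, 5, 5, 5, 4, 4, 1, 4, 1, 4, 3, 5, 0, 5, 3, 1, 4, 0, 2, 4, 1, 4, 2, 5, 0]
def rw170 : List ℕ := [0, 5, 0, 0, 4, 1, 4, 1, 4, 4, 0, 5]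
def rw171 : List ℕ := [5, 0, 5, 5, 5, 4, 4, 1, 4, 1, 4, 4, 1, 4, 1, 4, 0, 5, 0, 5, 5, 0]
def rw172 : List ℕ := [5, 0, 5, 5, 1, 4, 4, 1, 4, 1, 4, 4, 1, 4, 1, 0, 0, 5, 0, 5, 5, 0]
def rw173 : List ℕ := [5, 0, 5, 5, 5, 0, 5, 0, 5, 1, 0, 0, 4, 1, 4, 1, 4, 4, 4, 1, 4, 1, 4, 1, 5, 0]
def rw174 : List ℕ := [4, 2, 0, 5, 5, 5, 4, 4, 1, 3, 5, 0, 5, 3, 4, 1, 4, 1, 4, 0, 5, 0, 5, 2, 4, 1]
def rw175 : List ℕ := [1, 4, 1, 1, 3, 5, 0, 5, 3, 1, 1, 0, 0, 0, 2, 4, 1, 4, 2, 0, 0, 5, 0, 5, 1, 4]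
def rw176 : List ℕ := [1, 4, 1, 4, 1, 4, 1, 4, 1, 0, 0, 5, 0, 5, 0, 5, 0, 5, 0, 5, 1, 4]
def rw177 : List ℕ := [5, 0, 5, 3, 1, 1, 0, 0, 0, 2, 4, 1, 4, 2, 0, 0, 5, 0, 5, 1, 4, 1, 4, 1, 1, 3]
def rw178 : List ℕ := [0, 5, 0, 5, 0, 5, 0, 5, 1, 4, 1, 4, 1, 4, 1, 4, 1, 4, 1, 0, 0, 5]
def rw179 : List ℕ := [5, 3, 1, 4, 0, 2, 4, 1, 4, 2, 0, 4, 1, 4, 1, 4, 5, 5, 0, 5, 0, 5, 1, 3, 5, 0]
def rw180 : List ℕ := [0, 5, 0, 4, 0, 5, 0, 5, 1, 4, 1, 4, 1, 5, 1, 4, 1, 4, 1, 1, 1, 0, 0, 0, 0, 5]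
def rw181 : List ℕ := [3, 5, 3, 4, 2, 4, 1, 3, 3, 5, 3, 5, 3, 3, 1, 2, 0, 2, 2, 4, 2, 4, 2, 2, 0, 5]
def rw182 : List ℕ := [2, 4, 2, 0, 5, 3, 5, 3, 4, 2, 4, 1, 3, 5, 3, 5, 3, 5, 3, 1, 2, 0, 2, 4, 2, 4]
def rw183 : List ℕ := [5, 3, 5, 5, 2, 4, 2, 4, 2, 2, 5, 3]
def rw184 : List ℕ := [3, 5, 3, 4, 2, 4, 2, 2, 4, 2, 4, 1, 3, 3, 1, 2, 0, 2, 2, 0, 5, 3, 5, 3, 3, 5]
def rw185 : List ℕ := [3, 5, 3, 0, 5, 3, 5, 3, 4, 2, 4, 1, 2, 4, 2, 4, 2, 5, 3, 1, 2, 0, 2, 4, 3, 5]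
def rw186 : List ℕ := [3, 5, 3, 4, 3, 5, 3, 5, 3, 3, 3, 2, 2, 2, 2, 4, 2, 4, 2, 5, 2, 4, 2, 4, 3, 5]
def rw187 : List ℕ := [3, 5, 5, 3, 5, 3, 2, 2, 4, 2, 4, 4, 2, 4, 2, 4, 4, 3, 5, 5, 3, 5]
def rw188 : List ℕ := [4, 2, 4, 2, 2, 4, 2, 4, 1, 5, 3, 5, 3, 3, 5, 3, 5, 3, 3, 0, 2, 2]
def rw189 : List ℕ := [4, 1, 3, 3, 5, 3, 5, 3, 3, 1, 0, 0, 2, 2, 4, 2, 4, 2, 2, 0, 5, 3, 5, 1, 4, 2]
def rw190 : List ℕ := [0, 5, 3, 5, 3, 4, 2, 4, 1, 4, 2, 4, 1, 2, 0, 5, 3, 5]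
def rw191 : List ℕ := [2, 0, 3, 1, 4, 1, 4, 2, 4, 1, 4, 5, 5, 0, 5, 3, 5, 0, 5, 0, 2, 1, 3, 1, 4, 0]
def rw192 : List ℕ := [0, 2, 2, 4, 2, 4, 1, 4, 2, 4, 2, 2, 3, 3, 3, 5, 3, 5, 0, 5, 3, 5, 3, 3, 1, 2]
def rw193 : List ℕ := [3, 5, 3, 3, 4, 2, 2, 4, 2, 4, 2, 2, 4, 2, 4, 5, 5, 3, 5, 3, 3, 5]
def rw194 : List ℕ := [4, 1, 3, 4, 2, 4, 2, 4, 3, 1, 0, 0, 2, 5, 3, 5, 3, 5, 2, 0, 5, 3, 5, 1, 4, 2]
def rw195 : List ℕ := [7, 0, 2, 6, 3, 3, 5, 3, 1, 4, 0, 2, 4, 2, 2, 7, 3, 1, 6, 3, 3, 5, 5, 4, 2, 2]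
def rw196 : List ℕ := [4, 2, 4, 4, 3, 5, 5, 3, 5, 3, 5, 5, 3, 5, 3, 2, 2, 4, 2, 4, 4, 2]
def rw197 : List ℕ := [3, 5, 3, 5, 3, 5, 3, 5, 3, 2, 2, 4, 2, 4, 2, 4, 2, 4, 2, 4, 3, 5]
def rw198 : List ℕ := [2, 4, 1, 5, 1, 1, 6, 0, 0, 4, 0, 5, 3, 3, 5, 3, 4, 4, 7, 5, 5, 2, 4, 2]
def rw199 : List ℕ := [4, 1, 5, 1, 1, 2, 0, 0, 4, 0, 5, 3, 3, 5, 3, 4, 4, 3, 5, 5, 2, 4, 2, 2]
def rw200 : List ℕ := [1, 2, 0, 0, 0, 5, 0, 5, 0, 4, 0, 5, 0, 5, 3, 4, 1, 4, 1, 5, 1, 4, 1, 4, 1, 1]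
def rw201 : List ℕ := [5, 0, 5, 3, 5, 1, 3, 1, 1, 0, 0, 0, 2, 0, 4, 2, 4, 1, 4, 2, 4, 2, 1, 3, 5, 3]
def rw202 : List ℕ := [0, 0, 2, 1, 3, 1, 1, 3, 1, 1, 0, 0, 0, 2]
def rw203 : List ℕ := [4, 1, 4, 5, 5, 0, 5, 6, 3, 3, 1, 2, 7, 3, 5, 1, 3, 1, 4, 0, 2, 0, 4, 2, 6, 3, 0, 2, 2, 7]
def rw204 : List ℕ := [2, 0, 0, 3, 1, 3, 3, 0]
def rw205 : List ℕ := [4, 4, 3, 4, 7, 1, 6, 5, 2, 5, 5, 3, 5, 2, 7, 4, 1, 0, 0, 5, 6, 3, 4, 2]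
def rw206 : List ℕ := [5, 0, 2, 4, 3, 1, 7, 1, 3, 1, 1, 0, 0, 0, 2, 0, 6, 0, 2, 5, 3, 1, 4, 1, 2, 7, 1, 6, 3, 0]
def rw207 : List ℕ := [4, 3, 1, 7, 2, 7, 3, 6, 0, 2, 5, 3, 1, 4, 1, 2, 7, 0, 3, 1, 6, 0, 2, 1, 6, 3, 0, 5, 0, 2]
def rw208 : List ℕ := [1, 3, 3, 3, 0, 2, 0, 0, 0, 3]
def rw209 : List ℕ := [2, 0, 5, 2, 0, 2, 5, 1, 4, 3, 1, 3, 4, 1, 3, 1, 4, 1, 3, 1, 0, 0, 2, 0, 5, 0]
def rw210 : List ℕ := [1, 3, 1, 3, 1, 4, 0, 2, 0, 2, 0, 2, 5, 3]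
def rw211 : List ℕ := [5, 1, 7, 7, 6, 0, 4, 0, 2, 5, 2, 0, 4, 7, 4, 1, 3, 1, 6, 0, 2, 0, 5, 6, 5, 1, 3, 4, 3, 1]
def rw212 : List ℕ := [4, 2, 4, 2, 5, 5, 3, 5, 3, 5, 2, 2]
def rw213 : List ℕ := [7, 7, 2, 7, 2, 0, 6, 2, 7, 4, 1, 3, 1, 2, 0, 2, 0, 5, 6, 3, 7, 1, 3, 6, 3, 6, 6, 3]
def rw214 : List ℕ := [2, 7, 4, 1, 6, 0, 5, 6, 3, 4, 2, 4, 4, 3, 4, 7, 7, 6, 5, 2, 5, 5, 3, 5]
def rw215 : List ℕ := [6, 2, 2, 7, 4, 1, 6, 0, 5, 6, 3, 3, 7, 0, 5, 6, 3, 3, 7, 7, 6, 2, 2, 7, 4, 1]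
def rw216 : List ℕ := [1, 3, 0, 0, 2, 0, 3, 3]
def rw217 : List ℕ := [3, 1, 2, 1, 2, 0, 2, 2, 1, 1, 0, 0, 0, 3, 3, 1, 3, 0, 3, 0, 2, 1]
def rw218 : List ℕ := [2, 0, 3, 0, 3, 3, 1, 3, 0, 3, 1, 2, 1, 2, 0, 2, 2, 1, 2, 1, 3, 1, 1, 0, 0, 0]
def rw219 : List ℕ := [1, 3, 1, 0, 0, 2, 0, 2, 0, 2, 1, 3, 1, 3]
def rw220 : List ℕ := [2, 0, 0, 0, 0, 0, 0, 3, 1, 3, 3, 3, 3, 3, 3, 0]
def rw221 : List ℕ := [0, 2, 2, 0, 2, 2, 3, 3, 3, 1, 3, 3, 1, 2]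
def rw222 : List ℕ := [0, 2, 1, 2, 1, 1, 0, 0, 0, 3, 0, 3, 1, 3, 3, 0, 3, 0, 2, 1, 3, 1, 2, 1, 2, 2]
def rw223 : List ℕ := [2, 0, 3, 3, 1, 3, 0, 0]
def rw224 : List ℕ := [3, 1, 3, 1, 3, 1, 0, 0, 2, 0, 2, 0, 2, 1]
def rw225 : List ℕ := [0, 2, 1, 2, 2, 0, 2, 1, 2, 2, 3, 3, 3, 0, 3, 1, 3, 3, 0, 3, 1, 2]
def rw226 : List ℕ := [2, 0, 3, 3, 0, 3, 1, 3, 3, 3, 2, 2, 0, 2, 1, 2, 2, 1, 3, 1, 1, 1, 2, 0, 0, 0]
def rw227 : List ℕ := [5, 0, 3, 0, 3, 1, 1, 6, 0, 0, 2, 1, 2, 1, 4, 0, 0, 2, 1, 5, 7, 4, 0, 3, 1, 1]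
def rw228 : List ℕ := [5, 3, 5, 0, 5, 3, 5, 3, 4, 2, 4, 1, 4, 2, 4, 1, 2, 0]
def rw229 : List ℕ := [0, 5, 3, 5, 1, 3, 1, 1, 0, 0, 0, 2, 0, 4, 2, 4, 1, 4, 2, 4, 2, 1, 3, 5, 3, 5]
def rw230 : List ℕ := [1, 2, 1, 4, 0, 3, 1, 1, 6, 0, 0, 2, 1, 5, 0, 3, 0, 2, 2, 1, 4, 7, 5, 0, 3, 3]
def rw231 : List ℕ := [2, 2, 1, 4, 0, 3, 1, 1, 6, 0, 0, 2, 1, 5, 0, 3, 3, 0, 0, 2, 4, 7, 5, 3, 1, 1]
def rw232 : List ℕ := [0, 3, 3, 3, 1, 1, 4, 1, 5, 0, 0, 2, 2, 2, 1, 4, 0, 3, 1, 1, 0, 0, 0, 2, 1, 5]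
def rw233 : List ℕ := [3, 1, 3, 3, 0, 2, 0, 0]
def rw234 : List ℕ := [0, 0, 2, 0, 3, 3, 3, 1, 3, 0]
def rw235 : List ℕ := [1, 5, 5, 1, 1, 5, 5, 1, 1, 0, 0, 0, 4, 4, 0, 0, 4, 4, 0, 0, 4, 4, 1, 5, 5, 1]
def rw236 : List ℕ := [1, 1, 5, 0, 3, 1, 2, 1, 4, 0, 0, 2, 1, 5, 3, 1, 1, 1, 0, 0, 0, 0, 2, 4, 0, 3]
def rw237 : List ℕ := [2, 1, 5, 0, 3, 1, 2, 1, 4, 0, 3, 0, 2, 5, 3, 1, 1, 1, 0, 0, 0, 0, 2, 4, 3, 1]
def rw238 : List ℕ := [0, 2, 0, 3, 3, 1, 3, 0]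
def rw239 : List ℕ := [5, 3, 1, 4, 0, 2, 4, 1, 4, 2, 0, 5, 0, 5, 0, 5, 5, 4, 1, 4, 1, 4, 1, 3, 5, 0]
def rw240 : List ℕ := [3, 1, 6, 3, 1, 3, 1, 2, 0, 2, 0, 2, 7, 0, 2, 6, 3, 0, 5, 0, 2, 4, 3, 5, 3, 1, 4, 1, 2, 7]
def rw241 : List ℕ := [6, 0, 2, 5, 3, 1, 4, 0, 2, 4, 3, 1, 7, 0, 2, 6, 3, 0, 5, 5, 4, 1, 2, 7, 3, 1]
def rw242 : List ℕ := [1, 3, 5, 6, 3, 0, 3, 1, 6, 0, 2, 1, 2, 7, 4, 2, 0, 5, 3, 1, 6, 7, 7, 0, 2, 4]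
def rw243 : List ℕ := [0, 5, 3, 1, 6, 3, 3, 2, 7, 0, 2, 4, 1, 3, 5, 6, 3, 3, 1, 2, 0, 2, 2, 7, 4, 2]
def rw244 : List ℕ := [2, 2, 7, 3, 1, 4, 2, 0, 5, 0, 2, 6, 7, 7, 3, 1, 4, 1, 3, 5, 0, 2, 6, 3, 3, 3, 1, 6, 0, 2]
def rw245 : List ℕ := [2, 2, 7, 0, 2, 4, 1, 3, 5, 6, 7, 7, 4, 2, 0, 5, 3, 1, 6, 3, 3, 3, 1, 6, 0, 2]
def rw246 : List ℕ := [0, 2, 2, 7, 3, 3, 1, 3, 3, 1, 6, 0, 2, 2]
def rw247 : List ℕ := [0, 3, 1, 1, 5, 0, 3, 3, 2, 1, 4, 0, 0, 2, 1, 5, 3, 1, 1, 1, 2, 0, 0, 0, 2, 4]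
def rw248 : List ℕ := [6, 2, 0, 7, 3, 1, 6, 0, 2, 6, 1, 3, 7, 3, 1, 6, 2, 0, 7, 7, 6, 1, 3, 7, 0, 2]
def rw249 : List ℕ := [2, 5, 5, 1, 1, 4, 0, 0, 4, 4, 3, 5, 3, 3, 5, 0, 4, 5, 5, 1, 4, 2, 2, 4]
def rw250 : List ℕ := [4, 2, 2, 4, 1, 1, 6, 0, 0, 5, 3, 3, 5, 0, 0, 5, 3, 3, 5, 7, 4, 2, 2, 4, 1, 1]
def rw251 : List ℕ := [4, 0, 5, 1, 1, 4, 0, 0, 4, 1, 5, 5, 1, 1, 5, 0, 4, 4, 5, 5, 5, 1, 4, 0, 0, 4]
def rw252 : List ℕ := [5, 1, 1, 5, 5, 1, 1, 4, 0, 0, 4, 4, 0, 0, 4, 4, 0, 0, 4, 4, 5, 5, 5, 1, 1, 5]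
def rw253 : List ℕ := [0, 0, 4, 4, 0, 4, 5, 5, 1, 5, 5, 1, 1, 5, 1, 5, 5, 1, 1, 4, 0, 0, 4, 4, 0, 4]
def rw254 : List ℕ := [1, 5, 5, 1, 1, 0, 0, 0, 4, 4, 0, 0, 4, 4, 0, 0, 4, 4, 1, 5, 5, 1, 1, 5, 5, 1]
def rw255 : List ℕ := [3, 1, 4, 0, 2, 4, 3, 5, 3, 5, 3, 0, 5, 3, 5, 5, 4, 2, 4, 1, 2, 4, 2, 4, 2, 5]
def rw256 : List ℕ := [3, 0, 2, 0, 0, 3, 1, 3]
def rw257 : List ℕ := [3, 5, 3, 3, 5, 3, 5, 3, 3, 2, 2, 2, 4, 2, 4, 2, 2, 4, 2, 4, 3, 5]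
def rw258 : List ℕ := [3, 4, 1, 4, 3, 1, 2, 0, 2, 5, 0, 5, 2, 7, 0, 2, 6, 0, 5, 3, 5, 3, 4, 2, 4, 1, 7, 3, 1, 6]
def rw259 : List ℕ := [5, 3, 1, 5, 5, 0, 3, 1, 6, 0, 2, 1, 4, 4, 0, 2, 4, 0, 7, 3, 5, 6, 3, 7, 2, 7, 4, 2, 6, 1]
def rw260 : List ℕ := [3, 3, 1, 1, 4, 3, 1, 1, 1, 4, 0, 0, 0, 2, 5, 0, 0, 2, 2, 2, 1, 4, 5, 5, 0, 3]
def rw261 : List ℕ := [0, 3, 1, 1, 4, 1, 5, 0, 0, 2, 1, 2, 1, 4, 3, 1, 1, 1, 0, 0, 0, 0, 2, 5, 0, 3]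
def rw262 : List ℕ := [4, 4, 0, 0, 4, 4, 5, 5, 5, 1, 1, 5, 5, 1, 1, 5, 5, 1, 1, 4, 0, 0, 4, 4, 0, 0]
def rw263 : List ℕ := [0, 4, 0, 4, 0, 4, 1, 5, 1, 5, 1, 5, 1, 5, 1, 5, 1, 0, 0, 4, 0, 4]
def rw264 : List ℕ := [3, 5, 3, 4, 2, 4, 1, 3, 4, 2, 4, 2, 4, 3, 1, 2, 0, 2, 5, 3, 5, 3, 5, 2, 0, 5]
def rw265 : List ℕ := [3, 5, 3, 1, 4, 1, 3, 5, 3, 1, 0, 0, 2, 4, 2, 0, 5, 0, 2, 4, 2, 0, 5, 1, 4, 1]
def rw266 : List ℕ := [2, 2, 4, 2, 0, 4, 3, 5, 1, 3, 5, 3, 3, 5, 5, 5, 1, 1, 2, 0, 0, 4, 4, 4]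
def rw267 : List ℕ := [2, 5, 3, 5, 3, 5, 2, 4, 2, 4]
def rw268 : List ℕ := [4, 2, 4, 1, 4, 2, 4, 1, 2, 0, 5, 3, 5, 0, 5, 3, 5, 3]
def rw269 : List ℕ := [0, 3, 1, 3, 0, 2]
def rw270 : List ℕ := [0, 2, 1, 3, 1, 1, 3, 1, 1, 0, 0, 0, 2, 0]
def rw271 : List ℕ := [1, 4, 0, 0, 5, 0, 5, 0, 4, 4, 1, 4]
def rw272 : List ℕ := [2, 0, 5, 0, 2, 0, 5, 1, 3, 1, 0, 0, 2, 0, 4, 1, 3, 1, 4, 1, 3, 1, 4, 1, 5, 0]
def rw273 : List ℕ := [3, 5, 3, 4, 4, 1, 5, 5, 2, 4, 2, 2, 4, 1, 5, 1, 1, 0, 0, 0, 4, 0, 5, 3]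
def rw274 : List ℕ := [4, 4, 3, 4, 4, 0, 3, 1, 0, 0, 2, 1, 5, 5, 2, 5, 5, 1, 2, 0, 4, 1, 5, 1, 3, 0]
def rw275 : List ℕ := [3, 5, 0, 0, 5, 3, 3, 5, 3, 4, 2, 2, 4, 1, 1, 4, 2, 2, 4, 1, 1, 2, 0, 0, 5, 3]
def rw276 : List ℕ := [4, 4, 4, 2, 2, 4, 2, 0, 4, 5, 5, 1, 3, 5, 3, 3, 5, 5, 5, 1, 1, 4, 0, 0]
def rw277 : List ℕ := [1, 1, 5, 5, 1, 1, 5, 5, 1, 1, 0, 0, 0, 4, 4, 0, 0, 4, 4, 0, 0, 4, 4, 1, 5, 5]
def rw278 : List ℕ := [2, 2, 4, 4, 4, 1, 5, 5, 5, 3, 3, 5, 3, 1, 5, 1, 1, 0, 0, 0, 4, 0, 2, 4]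
def rw279 : List ℕ := [4, 1, 3, 5, 3, 5, 3, 5, 3, 1, 0, 0, 2, 4, 2, 4, 2, 4, 2, 0, 5, 3, 5, 1, 4, 2]
def rw280 : List ℕ := [3, 3, 1, 7, 4, 1, 4, 1, 5, 0, 5, 6, 0, 2, 2, 2, 7, 3, 5, 1, 3, 1, 0, 0, 2, 0, 4, 2, 6, 3]
def rw281 : List ℕ := [0, 4, 4, 0, 7, 0, 6, 0, 3, 1, 6, 0, 2, 1, 7, 1, 6, 1, 5, 5, 1, 3, 4, 6, 7, 7, 5, 2]
def rw282 : List ℕ := [1, 1, 1, 5, 3, 1, 1, 1, 0, 0, 0, 0, 2, 4, 0, 0, 0, 2, 5, 0, 3, 1, 2, 1, 4, 3]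
def rw283 : List ℕ := [3, 1, 1, 5, 0, 3, 1, 2, 1, 4, 0, 0, 2, 1, 5, 3, 1, 1, 1, 0, 0, 0, 0, 2, 4, 0]
def rw284 : List ℕ := [7, 0, 2, 6, 3, 0, 5, 1, 4, 1, 2, 7, 3, 1, 6, 0, 2, 5, 3, 1, 0, 0, 2, 4, 3, 1]
def rw285 : List ℕ := [4, 1, 1, 4, 2, 2, 4, 1, 1, 0, 0, 0, 5, 3, 3, 5, 0, 0, 5, 3, 3, 5, 1, 4, 2, 2]
def rw286 : List ℕ := [3, 1, 1, 4, 3, 1, 1, 1, 0, 0, 0, 0, 2, 5, 0, 0, 2, 2, 2, 1, 4, 1, 5, 0, 3, 3]
def rw287 : List ℕ := [2, 2, 0, 2, 2, 1, 3, 3, 1, 3, 3, 1, 0, 0]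
def rw288 : List ℕ := [1, 2, 0, 2, 2, 0, 2, 2, 3, 3, 3, 1, 3, 3]
def rw289 : List ℕ := [0, 0, 2, 0, 3, 3, 1, 3]
def rw290 : List ℕ := [5, 0, 5, 3, 1, 1, 2, 0, 0, 2, 4, 1, 4, 2, 0, 0, 5, 0, 5, 3, 4, 1, 4, 1, 1, 3]
def rw291 : List ℕ := [3, 5, 0, 5, 1, 4, 1, 4, 2, 4, 1, 4, 1, 3, 1, 3, 1, 0, 0, 2, 0, 2, 0, 5, 0, 5]
def rw292 : List ℕ := [4, 1, 5, 5, 3, 3, 4, 1, 6, 0, 5, 2, 2, 4, 4, 0, 5, 2, 2, 4, 4, 7, 5, 5, 3, 3]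
def rw293 : List ℕ := [0, 4, 4, 3, 4, 4, 3, 1, 0, 0, 2, 5, 5, 2, 5, 5, 1, 2, 0, 4, 3, 1, 2, 5, 1, 3]
def rw294 : List ℕ := [5, 3, 1, 6, 3, 7, 0, 2, 4, 1, 3, 5, 6, 3, 0, 3, 1, 2, 0, 2, 1, 2, 7, 4, 2, 0]
def rw295 : List ℕ := [7, 3, 1, 6, 3, 3, 3, 2, 2, 7, 0, 2, 6, 4, 1, 1, 5, 5, 1, 1, 2, 0, 0, 4, 4, 0, 0, 5]
def rw296 : List ℕ := [0, 2, 6, 3, 0, 5, 3, 5, 2, 3, 3, 4, 2, 4, 1, 2, 7, 3, 1, 6, 3, 4, 3, 1, 2, 0, 2, 5, 2, 7]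
def rw297 : List ℕ := [7, 0, 5, 6, 3, 0, 5, 3, 5, 3, 4, 2, 4, 1, 2, 7, 4, 1, 6, 5, 2, 5, 1, 2, 0, 4, 3, 4]
def rw298 : List ℕ := [3, 1, 4, 1, 5, 0, 2, 0, 5, 1, 3, 1, 5, 1, 3, 1, 0, 0, 2, 0, 4, 0, 2, 0, 4, 1]
def rw299 : List ℕ := [2, 0, 4, 1, 5, 1, 3, 1, 5, 1, 3, 1, 5, 1, 3, 1, 0, 0, 2, 0, 4, 0, 2, 0, 4, 0]
def rw300 : List ℕ := [4, 1, 3, 1, 3, 1, 2, 0, 2, 0, 2, 0, 5, 0, 5, 3, 5, 0, 5, 3, 4, 1, 4, 2, 4, 1]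
def rw301 : List ℕ := [5, 0, 5, 0, 5, 5, 3, 4, 4, 1, 4, 1, 4, 4, 1, 4, 1, 2, 0, 5, 0, 5]
def rw302 : List ℕ := [1, 3, 3, 1, 4, 0, 2, 2, 0, 2, 2, 5, 3, 3]
def rw303 : List ℕ := [3, 1, 7, 4, 2, 0, 5, 1, 3, 1, 0, 0, 2, 0, 4, 1, 3, 5, 6, 0, 2, 2, 2, 7, 3, 1, 2, 6, 3, 3]
def rw304 : List ℕ := [1, 2, 0, 2, 2, 2, 7, 3, 3, 3, 1, 3, 0, 3, 1, 6, 0, 2]
def rw305 : List ℕ := [2, 2, 7, 0, 2, 4, 2, 1, 3, 1, 0, 0, 2, 0, 3, 5, 3, 1, 6, 3, 3, 3, 1, 7, 4, 1, 5, 6, 0, 2]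
def rw306 : List ℕ := [3, 5, 6, 4, 2, 0, 5, 5, 5, 4, 4, 1, 3, 5, 7, 4, 2, 0, 5, 6, 4, 3, 1, 4, 0, 2, 5, 7, 4, 1]
def rw307 : List ℕ := [5, 6, 1, 3, 4, 4, 1, 5, 5, 2, 0, 7, 4, 2, 0, 5, 6, 4, 1, 1, 0, 0, 0, 5, 7, 4, 1, 3]
def rw308 : List ℕ := [1, 6, 5, 2, 5, 1, 0, 0, 4, 3, 4, 7, 0, 5, 6, 3, 0, 5, 3, 5, 1, 4, 2, 4, 1, 2, 7, 4]
def rw309 : List ℕ := [5, 5, 1, 1, 2, 0, 0, 4, 4, 3, 5, 3, 3, 5, 0, 4, 3, 5, 1, 4, 2, 2, 4, 2]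
def rw310 : List ℕ := [1, 5, 5, 1, 5, 1, 1, 0, 0, 0, 4, 0, 4, 4, 0, 0, 4, 0, 4, 4, 1, 5, 5, 1, 5, 1]
def rw311 : List ℕ := [5, 1, 2, 0, 4, 3, 5, 1, 3, 0, 4, 4, 3, 4, 4, 0, 3, 1, 2, 0, 2, 1, 5, 5, 2, 5]
def rw312 : List ℕ := [4, 1, 3, 1, 6, 0, 2, 0, 5, 6, 3, 5, 0, 5, 0, 3, 4, 7, 7, 6, 5, 2, 1, 4, 1, 4, 2, 7]
def rw313 : List ℕ := [2, 0, 4, 7, 4, 1, 3, 1, 6, 0, 2, 0, 5, 6, 5, 1, 3, 4, 3, 1, 5, 1, 7, 7, 6, 0, 4, 0, 2, 5]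
def rw314 : List ℕ := [2, 2, 4, 2, 2, 1, 6, 0, 3, 3, 5, 3, 3, 0, 3, 4, 4, 3, 7, 2, 5, 5, 2, 1]
def rw315 : List ℕ := [0, 0, 3, 1, 3, 3, 0, 2]
def rw316 : List ℕ := [1, 1, 2, 0, 0, 2, 0, 0, 2, 3, 3, 1, 1, 3]
def rw317 : List ℕ := [5, 0, 3, 4, 7, 3, 6, 5, 2, 1, 4, 1, 4, 2, 7, 4, 1, 3, 1, 2, 0, 2, 0, 5, 6, 3, 5, 0]
def rw318 : List ℕ := [1, 3, 0, 0, 0, 2, 0, 3, 3, 3]
def rw319 : List ℕ := [1, 1, 0, 0, 0, 2, 0, 0, 2, 1, 3, 1, 1, 3]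
def rw320 : List ℕ := [2, 7, 4, 1, 3, 1, 6, 0, 2, 0, 5, 6, 3, 7, 1, 3, 6, 3, 6, 6, 7, 7, 7, 2, 7, 2, 0, 6]
def rw321 : List ℕ := [1, 6, 4, 2, 4, 1, 3, 0, 5, 3, 1, 4, 0, 2, 4, 1, 2, 0, 5, 3, 5, 7, 0, 2, 6, 3, 5, 2, 7, 3]
def rw322 : List ℕ := [2, 6, 3, 0, 5, 3, 5, 2, 4, 1, 2, 7, 3, 1, 6, 0, 2, 5, 1, 3, 1, 4, 0, 2, 0, 4, 3, 1, 7, 0]
def rw323 : List ℕ := [4, 1, 3, 3, 1, 2, 0, 2, 2, 0, 5, 3, 5, 3, 3, 5, 3, 5, 3, 4, 2, 4, 2, 2, 4, 2]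
def rw324 : List ℕ := [0, 5, 3, 5, 1, 4, 2, 4, 1, 4, 2, 4, 1, 0, 0, 5, 3, 5]
def rw325 : List ℕ := [3, 1, 1, 4, 0, 0, 2, 0, 0, 2, 5, 3, 1, 1]
def rw326 : List ℕ := [5, 3, 3, 5, 0, 4, 1, 5, 1, 4, 2, 2, 4, 2, 5, 5, 1, 1, 0, 0, 0, 4, 4, 3]
def rw327 : List ℕ := [2, 4, 2, 4, 2, 5, 5, 3, 5, 3, 5, 2]
def rw328 : List ℕ := [0, 0, 4, 4, 0, 4, 3, 5, 1, 5, 5, 1, 1, 5, 1, 5, 5, 1, 1, 2, 0, 0, 4, 4, 0, 4]
def rw329 : List ℕ := [0, 4, 4, 0, 0, 4, 4, 1, 5, 5, 1, 1, 5, 5, 1, 1, 5, 5, 1, 1, 0, 0, 0, 4, 4, 0]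
def rw330 : List ℕ := [0, 3, 0, 3, 4, 3, 1, 6, 0, 2, 5, 2, 1, 2, 1, 2, 2, 2, 5, 5, 7, 4, 4, 3, 3, 3]
def rw331 : List ℕ := [2, 2, 5, 5, 3, 4, 4, 3, 3, 3, 0, 3, 0, 3, 4, 3, 1, 2, 0, 2, 5, 2, 1, 2, 1, 2]
def rw332 : List ℕ := [0, 4, 0, 2, 4, 2, 2, 4, 4, 4, 5, 5, 5, 5, 3, 3, 5, 3, 1, 5, 1, 1, 4, 0]
def rw333 : List ℕ := [5, 5, 1, 1, 5, 0, 4, 4, 5, 5, 5, 1, 4, 0, 0, 4, 4, 0, 5, 1, 1, 4, 0, 0, 4, 1]
def rw334 : List ℕ := [2, 0, 2, 2, 5, 3, 3, 1, 3, 3, 1, 4, 0, 2]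
def rw335 : List ℕ := [0, 0, 4, 0, 4, 4, 5, 5, 5, 1, 5, 1, 1, 5, 5, 1, 5, 1, 1, 4, 0, 0, 4, 0, 4, 4]
def rw336 : List ℕ := [4, 3, 4, 3, 4, 3, 1, 6, 0, 2, 5, 2, 5, 2, 5, 2, 0, 4, 3, 4, 7, 5, 2, 5, 1, 3]
def rw337 : List ℕ := [3, 4, 3, 4, 3, 1, 2, 0, 2, 5, 2, 5, 2, 5, 2, 0, 4, 3, 4, 3, 5, 2, 5, 1, 3, 4]
def rw338 : List ℕ := [6, 3, 0, 5, 1, 3, 1, 1, 4, 0, 0, 2, 0, 4, 1, 2, 7, 3, 1, 6, 0, 2, 5, 5, 4, 3, 1, 7, 0, 2]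
def rw339 : List ℕ := [1, 6, 1, 2, 2, 5, 3, 1, 6, 0, 2, 4, 3, 3, 0, 7, 0, 5, 6, 1, 2, 4, 7, 5, 3, 0, 7, 4]
def rw340 : List ℕ := [6, 1, 2, 2, 5, 3, 1, 2, 0, 2, 4, 3, 3, 0, 7, 0, 5, 6, 1, 2, 4, 3, 5, 3, 0, 7, 4, 1]
def rw341 : List ℕ := [5, 5, 2, 5, 5, 1, 2, 0, 4, 5, 5, 1, 3, 0, 4, 4, 3, 4, 4, 0, 3, 1, 4, 0, 2, 1]
def rw342 : List ℕ := [4, 1, 2, 1, 3, 0, 5, 0, 5, 3, 5, 0, 5, 0, 3, 1, 0, 0, 2, 1, 4, 1, 4, 2, 4, 1]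
def rw343 : List ℕ := [5, 1, 3, 1, 1, 4, 0, 0, 2, 0, 4, 2, 4, 1, 4, 2, 4, 2, 5, 3, 5, 3, 5, 0, 5, 3]
def rw344 : List ℕ := [1, 3, 1, 4, 1, 3, 1, 4, 3, 5, 0, 2, 0, 5, 0, 2, 0, 5, 1, 3, 1, 2, 0, 2, 0, 4]
def rw345 : List ℕ := [4, 2, 5, 5, 3, 5, 3, 5, 2, 2, 4, 2]
def rw346 : List ℕ := [5, 1, 1, 4, 0, 0, 4, 4, 3, 5, 3, 3, 5, 0, 4, 5, 5, 1, 4, 2, 2, 4, 2, 5]
def rw347 : List ℕ := [5, 5, 1, 1, 5, 5, 1, 1, 4, 0, 0, 4, 4, 0, 0, 4, 4, 0, 0, 4, 4, 5, 5, 5, 1, 1]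
def rw348 : List ℕ := [3, 5, 3, 5, 3, 3, 1, 2, 0, 2, 2, 4, 2, 4, 2, 2, 0, 5, 3, 5, 3, 4, 2, 4, 1, 3]
def rw349 : List ℕ := [2, 2, 2, 2, 0, 2, 1, 1, 0, 0, 0, 3, 1, 3, 3, 3, 3, 1, 3, 1, 2, 0]
def rw350 : List ℕ := [5, 1, 3, 1, 5, 1, 3, 1, 0, 0, 2, 0, 4, 0, 2, 0, 4, 0, 2, 0, 4, 1, 5, 1, 3, 1]
def rw351 : List ℕ := [3, 5, 2, 2, 4, 2, 4, 2, 5, 5, 3, 5]
def rw352 : List ℕ := [3, 3, 0, 3, 4, 4, 3, 1, 2, 5, 5, 2, 1, 2, 2, 4, 2, 2, 1, 0, 0, 3, 3, 5]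
def rw353 : List ℕ := [4, 2, 2, 1, 2, 0, 3, 3, 5, 3, 3, 0, 3, 4, 4, 3, 3, 2, 5, 5, 2, 1, 2, 2]
def rw354 : List ℕ := [2, 1, 2, 2, 4, 2, 2, 1, 0, 0, 3, 3, 5, 3, 3, 0, 3, 4, 4, 3, 1, 2, 5, 5]
def rw355 : List ℕ := [4, 3, 1, 4, 0, 2, 5, 0, 2, 5, 0, 2, 5, 0, 2, 5, 5, 4, 3, 1, 4, 3, 1, 4, 3, 1]
def rw356 : List ℕ := [3, 5, 0, 5, 3, 5, 1, 4, 2, 4, 1, 4, 2, 4, 1, 0, 0, 5]
def rw357 : List ℕ := [3, 3, 5, 3, 5, 3, 3, 1, 4, 0, 2, 2, 4, 2, 4, 2, 2, 0, 5, 3, 5, 5, 4, 2, 4, 1]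
def rw358 : List ℕ := [0, 5, 3, 5, 0, 5, 0, 2, 1, 3, 1, 2, 0, 2, 0, 3, 1, 4, 1, 4, 2, 4, 1, 4, 3, 5]
def rw359 : List ℕ := [5, 3, 5, 2, 7, 4, 1, 0, 0, 5, 6, 3, 4, 2, 4, 4, 3, 4, 7, 1, 6, 5, 2, 5]
def rw360 : List ℕ := [2, 0, 5, 2, 7, 1, 3, 1, 1, 4, 0, 0, 2, 0, 6, 3, 4, 1, 3, 5, 3, 5, 2, 7, 5, 6, 3, 4, 2, 4]
def rw361 : List ℕ := [5, 2, 0, 5, 3, 3, 1, 2, 0, 2, 2, 4, 1, 3, 4, 3, 4, 7, 3, 5, 6, 3, 7, 4, 2, 6, 5, 2]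
def rw362 : List ℕ := [4, 1, 4, 2, 7, 4, 1, 3, 1, 2, 0, 2, 0, 5, 6, 3, 5, 0, 5, 0, 3, 4, 7, 3, 6, 5, 2, 1]
def rw363 : List ℕ := [3, 4, 7, 2, 7, 3, 6, 5, 2, 1, 4, 1, 4, 2, 7, 4, 3, 1, 6, 0, 2, 5, 6, 3, 5, 0, 5, 0]
def rw364 : List ℕ := [3, 1, 6, 0, 2, 0, 5, 6, 3, 5, 0, 5, 0, 3, 4, 7, 7, 6, 5, 2, 1, 4, 1, 4, 2, 7, 4, 1]
def rw365 : List ℕ := [3, 5, 0, 5, 7, 4, 1, 4, 2, 4, 1, 4, 1, 3, 1, 3, 1, 6, 0, 2, 0, 2, 0, 5, 0, 5]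
def rw366 : List ℕ := [0, 5, 0, 5, 7, 4, 1, 3, 1, 2, 0, 2, 0, 5, 6, 4, 1, 4, 1, 2, 0, 4, 7, 3, 6, 5, 1, 3]
def rw367 : List ℕ := [5, 2, 7, 4, 1, 6, 0, 5, 6, 3, 4, 2, 4, 4, 3, 4, 7, 7, 6, 5, 2, 5, 5, 3]
def rw368 : List ℕ := [0, 5, 3, 1, 6, 7, 7, 0, 2, 4, 1, 3, 5, 6, 3, 0, 3, 1, 6, 0, 2, 1, 2, 7, 4, 2]
def rw369 : List ℕ := [1, 3, 1, 2, 0, 2, 0, 2, 0, 2, 3, 3, 1, 3]
def rw370 : List ℕ := [0, 2, 0, 2, 0, 2, 3, 3, 1, 3, 1, 3, 1, 2]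
def rw371 : List ℕ := [1, 3, 5, 0, 5, 3, 1, 1, 4, 0, 0, 2, 4, 1, 4, 2, 0, 0, 5, 0, 5, 5, 4, 1, 4, 1]
def rw372 : List ℕ := [0, 5, 1, 3, 1, 1, 4, 0, 0, 2, 0, 4, 1, 2, 7, 3, 1, 6, 0, 2, 5, 5, 4, 3, 1, 7, 0, 2, 6, 3]
def rw373 : List ℕ := [1, 3, 0, 3, 3, 0, 2, 1, 3, 1, 2, 2, 1, 2, 0, 2, 2, 1, 1, 1, 0, 0, 0, 0, 3, 3]
def rw374 : List ℕ := [2, 0, 2, 0, 2, 1, 3, 1, 3, 1, 3, 1, 0, 0]
def rw375 : List ℕ := [4, 3, 1, 2, 1, 5, 1, 4, 0, 3, 0, 2, 5, 0, 3, 3, 3, 1, 1, 0, 0, 0, 2, 2, 2, 1]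
def rw376 : List ℕ := [0, 5, 1, 3, 1, 2, 0, 2, 0, 4, 1, 4, 2, 4, 1, 4, 1, 3, 3, 2, 0, 5, 0, 5, 3, 5]
def rw377 : List ℕ := [2, 0, 3, 1, 4, 1, 4, 2, 4, 1, 4, 1, 5, 0, 5, 3, 5, 0, 5, 0, 2, 1, 3, 1, 0, 0]
def rw378 : List ℕ := [5, 0, 0, 2, 2, 2, 1, 4, 5, 5, 0, 3, 3, 3, 1, 1, 4, 3, 1, 1, 1, 4, 0, 0, 0, 2]
def rw379 : List ℕ := [1, 4, 3, 5, 0, 5, 0, 5, 1, 3, 5, 0, 5, 3, 1, 2, 0, 2, 4, 1, 4, 2, 0, 4, 1, 4]
def rw380 : List ℕ := [0, 5, 3, 4, 1, 4, 1, 4, 1, 3, 5, 0, 5, 3, 1, 2, 0, 2, 4, 1, 4, 2, 0, 5, 0, 5]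
def rw381 : List ℕ := [0, 5, 3, 1, 6, 1, 3, 1, 1, 1, 4, 0, 0, 0, 2, 0, 7, 0, 2, 4, 1, 3, 5, 6, 3, 5, 2, 7, 4, 2]
def rw382 : List ℕ := [2, 4, 2, 6, 7, 7, 3, 5, 3, 1, 3, 5, 0, 5, 6, 3, 0, 3, 1, 6, 0, 2, 1, 2, 7, 4, 1, 4, 2, 0]
def rw383 : List ℕ := [3, 1, 4, 0, 2, 0, 2, 0, 5, 0, 5, 3, 5, 0, 5, 5, 4, 1, 4, 2, 4, 1, 4, 1, 3, 1]
def rw384 : List ℕ := [2, 4, 2, 7, 3, 5, 3, 5, 0, 5, 3, 5, 3, 1, 3, 1, 6, 0, 2, 0, 2, 4, 2, 4, 1, 4]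
def rw385 : List ℕ := [3, 4, 1, 3, 1, 4, 1, 3, 1, 6, 0, 2, 0, 5, 0, 2, 0, 5, 2, 0, 2, 5, 7, 4, 3, 1]
def rw386 : List ℕ := [2, 4, 1, 3, 1, 4, 1, 3, 1, 6, 0, 2, 0, 5, 0, 2, 0, 5, 3, 1, 3, 5, 7, 4, 2, 0]
def rw387 : List ℕ := [5, 3, 1, 6, 0, 2, 4, 1, 4, 2, 0, 5, 0, 5, 0, 5, 7, 4, 1, 4, 1, 4, 1, 3, 5, 0]
def rw388 : List ℕ := [3, 1, 6, 0, 2, 4, 2, 4, 1, 4, 2, 4, 3, 1, 3, 7, 2, 0, 2, 5, 3, 5, 0, 5, 3, 5]
def rw389 : List ℕ := [6, 3, 0, 5, 3, 3, 1, 2, 0, 2, 2, 4, 1, 2, 7, 3, 1, 6, 0, 2, 5, 2, 3, 3, 4, 3, 1, 7, 0, 2]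
def rw390 : List ℕ := [4, 1, 6, 0, 5, 0, 5, 0, 5, 0, 5, 0, 5, 7, 4, 1, 4, 1, 4, 1, 4, 1]
def rw391 : List ℕ := [5, 6, 7, 7, 4, 2, 0, 5, 3, 1, 6, 3, 3, 3, 1, 6, 0, 2, 2, 2, 7, 0, 2, 4, 1, 3]
def rw392 : List ℕ := [5, 2, 5, 1, 4, 0, 4, 3, 4, 7, 0, 5, 6, 3, 0, 5, 3, 5, 5, 4, 2, 4, 1, 2, 7, 4, 1, 6]
def rw393 : List ℕ := [3, 0, 5, 3, 5, 3, 4, 2, 4, 1, 2, 7, 4, 1, 6, 5, 2, 5, 1, 2, 0, 4, 3, 4, 7, 0, 5, 6]
def rw394 : List ℕ := [1, 1, 4, 1, 4, 1, 1, 2, 0, 0, 5, 0, 5, 0, 0, 5, 0, 5, 3, 4, 1, 4]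
def rw395 : List ℕ := [5, 0, 5, 0, 5, 0, 5, 0, 5, 3, 4, 1, 4, 1, 4, 1, 4, 1, 4, 1, 2, 0]
def rw396 : List ℕ := [0, 0, 5, 0, 5, 3, 4, 1, 4, 1, 1, 3, 5, 0, 5, 3, 1, 1, 2, 0, 0, 2, 4, 1, 4, 2]
def rw397 : List ℕ := [3, 3, 5, 3, 1, 2, 0, 2, 4, 2, 2, 7, 3, 1, 6, 3, 3, 5, 3, 4, 2, 2, 7, 0, 2, 6]
def rw398 : List ℕ := [3, 1, 7, 4, 1, 5, 6, 0, 2, 2, 2, 7, 0, 2, 4, 2, 1, 3, 1, 0, 0, 2, 0, 3, 5, 3, 1, 6, 3, 3]
def rw399 : List ℕ := [1, 2, 7, 4, 1, 5, 6, 3, 0, 3, 1, 7, 0, 2, 4, 2, 1, 3, 1, 0, 0, 2, 0, 3, 5, 3, 1, 6, 0, 2]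
def rw400 : List ℕ := [5, 0, 0, 5, 0, 5, 3, 1, 1, 0, 0, 0, 2, 4, 1, 4, 1, 1, 4, 1, 4, 2, 1, 3, 5, 0]
def rw401 : List ℕ := [2, 0, 0, 2, 1, 3, 1, 1, 3, 1, 1, 0, 0, 0]
def rw402 : List ℕ := [2, 0, 0, 2, 3, 3, 1, 1, 3, 1, 1, 2, 0, 0]
def rw403 : List ℕ := [1, 3, 0, 3, 1, 2, 0, 2, 1, 2, 0, 2, 2, 2, 3, 3, 3, 3]
def rw404 : List ℕ := [3, 1, 1, 6, 0, 0, 2, 0, 3, 0, 3, 1, 3, 3, 7, 2, 2, 0, 2, 1, 2, 1]
def rw405 : List ℕ := [5, 0, 5, 1, 4, 1, 4, 1, 4, 1, 4, 1, 4, 1, 0, 0, 5, 0, 5, 0, 5, 0]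
def rw406 : List ℕ := [6, 3, 4, 1, 4, 3, 1, 6, 0, 2, 5, 0, 5, 2, 7, 0, 2, 6, 0, 5, 3, 5, 7, 4, 2, 4, 1, 7, 3, 1]
def rw407 : List ℕ := [4, 1, 4, 6, 3, 4, 3, 1, 6, 0, 2, 5, 2, 7, 5, 0, 5, 0, 3, 4, 3, 6, 7, 7, 2, 5, 2, 1]
def rw408 : List ℕ := [4, 1, 6, 5, 2, 5, 1, 0, 0, 4, 3, 4, 7, 0, 5, 6, 3, 0, 5, 3, 5, 1, 4, 2, 4, 1, 2, 7]
def rw409 : List ℕ := [2, 5, 5, 5, 2, 5, 1, 2, 0, 4, 3, 4, 4, 4, 3, 4, 7, 4, 1, 4, 2, 6, 3, 7, 3, 5, 0, 5, 6, 5]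
def rw410 : List ℕ := [3, 5, 3, 5, 0, 5, 3, 5, 3, 1, 3, 1, 4, 0, 2, 0, 2, 4, 2, 4, 1, 4, 2, 4, 2, 5]
def rw411 : List ℕ := [0, 3, 5, 3, 5, 0, 5, 3, 5, 3, 5, 2, 4, 2, 4, 1, 4, 2, 4, 2, 1, 3, 1, 4, 0, 2]
def rw412 : List ℕ := [3, 1, 0, 0, 2, 0, 2, 0, 2, 1, 3, 1, 3, 1]
def rw413 : List ℕ := [4, 2, 4, 4, 1, 5, 5, 3, 5, 3, 5, 5, 3, 5, 3, 0, 2, 4, 2, 4, 4, 2]
def rw414 : List ℕ := [3, 3, 1, 4, 0, 2, 2, 0, 5, 3, 5, 3, 3, 5, 3, 5, 5, 4, 2, 4, 2, 2, 4, 2, 4, 1]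
def rw415 : List ℕ := [2, 2, 7, 0, 2, 4, 3, 1, 3, 0, 5, 6, 7, 7, 4, 1, 2, 0, 2, 5, 3, 1, 6, 3, 3, 3, 1, 6, 0, 2]
def rw416 : List ℕ := [3, 5, 3, 5, 5, 3, 5, 3, 0, 2, 4, 2, 4, 4, 2, 4, 2, 4, 4, 1, 5, 5]
def rw417 : List ℕ := [2, 2, 2, 7, 0, 5, 0, 2, 4, 2, 4, 2, 6, 7, 7, 3, 5, 3, 5, 3, 1, 4, 1, 6, 3, 3, 3, 1, 6, 0]
def rw418 : List ℕ := [5, 3, 5, 1, 4, 1, 6, 3, 3, 3, 1, 6, 0, 2, 2, 2, 7, 0, 5, 0, 4, 2, 4, 2, 4, 6, 7, 7, 5, 3]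
def rw419 : List ℕ := [3, 5, 2, 4, 2, 4, 2, 5, 3, 5]
def rw420 : List ℕ := [5, 3, 0, 5, 3, 5, 7, 4, 2, 4, 1, 2, 4, 2, 4, 2, 5, 3, 1, 6, 0, 2, 4, 3, 5, 3]
def rw421 : List ℕ := [2, 4, 2, 4, 4, 3, 5, 5, 3, 5, 3, 5, 5, 3, 5, 3, 2, 2, 4, 2, 4, 4]
def rw422 : List ℕ := [4, 2, 4, 2, 4, 4, 2, 4, 2, 4, 4, 5, 5, 5, 3, 5, 3, 5, 5, 3, 5, 3]
def rw423 : List ℕ := [2, 4, 2, 1, 3, 5, 3, 5, 0, 5, 3, 5, 3, 1, 3, 1, 0, 0, 2, 0, 2, 4, 2, 4, 1, 4]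
def rw424 : List ℕ := [2, 0, 2, 4, 2, 4, 1, 4, 2, 4, 2, 5, 3, 5, 3, 5, 0, 5, 3, 5, 3, 1, 3, 1, 4, 0]
def rw425 : List ℕ := [5, 3, 5, 0, 5, 3, 5, 3, 3, 2, 4, 2, 4, 1, 4, 2, 4, 2, 1, 3, 1, 2, 0, 2, 0, 3]
def rw426 : List ℕ := [1, 4, 2, 4, 1, 0, 0, 5, 3, 5, 0, 5, 3, 5, 1, 4, 2, 4]
def rw427 : List ℕ := [2, 0, 2, 4, 2, 4, 1, 4, 2, 4, 2, 1, 3, 5, 3, 5, 0, 5, 3, 5, 3, 1, 3, 1, 0, 0]
def rw428 : List ℕ := [5, 2, 0, 5, 3, 5, 1, 4, 2, 4, 1, 3, 4, 2, 4, 2, 4, 3, 1, 0, 0, 2, 5, 3, 5, 3]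
def rw429 : List ℕ := [2, 4, 2, 4, 2, 2, 5, 3, 5, 3, 5, 5]
def rw430 : List ℕ := [3, 3, 1, 2, 0, 2, 2, 0, 5, 3, 5, 3, 3, 5, 3, 5, 3, 4, 2, 4, 2, 2, 4, 2, 4, 1]
def rw431 : List ℕ := [4, 1, 2, 0, 5, 3, 5, 0, 5, 3, 5, 3, 4, 2, 4, 1, 4, 2]
def rw432 : List ℕ := [3, 5, 3, 3, 1, 0, 0, 2, 2, 4, 2, 4, 2, 2, 0, 5, 3, 5, 1, 4, 2, 4, 1, 3, 3, 5]
def rw433 : List ℕ := [4, 2, 4, 3, 1, 0, 0, 2, 5, 3, 5, 3, 5, 2, 0, 5, 3, 5, 1, 4, 2, 4, 1, 3, 4, 2]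
def rw434 : List ℕ := [1, 6, 2, 2, 7, 4, 1, 6, 1, 3, 3, 1, 2, 0, 2, 2, 0, 7, 0, 5, 6, 3, 3, 7, 0, 5, 6, 3, 7, 4]
def rw435 : List ℕ := [4, 1, 6, 1, 3, 3, 1, 2, 0, 2, 2, 0, 7, 0, 5, 6, 3, 3, 7, 0, 5, 6, 3, 7, 4, 1, 6, 2, 2, 7]
def rw436 : List ℕ := [3, 3, 3, 2, 2, 0, 2, 1, 2, 1, 3, 1, 1, 2, 0, 0, 2, 0, 3, 0, 3, 1]
def rw437 : List ℕ := [4, 3, 1, 1, 1, 5, 3, 1, 1, 1, 0, 0, 0, 0, 2, 4, 0, 0, 0, 2, 5, 0, 3, 1, 2, 1]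
def rw438 : List ℕ := [1, 3, 1, 4, 1, 3, 1, 2, 0, 2, 0, 5, 0, 2, 0, 5, 0, 2, 0, 5, 3, 4, 1, 3, 1, 4]
def rw439 : List ℕ := [2, 0, 2, 5, 3, 1, 3, 1, 3, 1, 4, 0, 2, 0]
def rw440 : List ℕ := [4, 1, 2, 4, 1, 4, 2, 0, 5, 1, 2, 0, 4, 1, 3, 5, 0, 5, 3, 0, 5, 0, 5, 3, 4, 1]
def rw441 : List ℕ := [1, 4, 0, 0, 2, 1, 5, 1, 4, 0, 3, 1, 1, 5, 0, 3, 0, 3, 1, 1, 0, 0, 0, 2, 1, 2]
def rw442 : List ℕ := [5, 3, 5, 3, 5, 3, 5, 3, 0, 2, 4, 2, 4, 2, 4, 2, 4, 2, 4, 1, 5, 3]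
def rw443 : List ℕ := [0, 3, 3, 3, 1, 1, 2, 0, 0, 2, 2, 2, 1, 4, 3, 1, 2, 1, 5, 3, 4, 0, 3, 0, 2, 5]
def rw444 : List ℕ := [2, 2, 1, 4, 1, 5, 0, 3, 3, 3, 1, 1, 4, 3, 1, 1, 1, 0, 0, 0, 0, 2, 5, 0, 0, 2]
def rw445 : List ℕ := [1, 2, 1, 4, 1, 5, 0, 3, 0, 2, 2, 1, 4, 3, 1, 1, 1, 0, 0, 0, 0, 2, 5, 0, 3, 3]
def rw446 : List ℕ := [3, 4, 2, 2, 1, 2, 1, 6, 0, 3, 0, 3, 3, 5, 2, 5, 7, 0, 5, 6, 3, 5, 7, 4, 2, 7, 4, 1, 6, 4]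
def rw447 : List ℕ := [5, 3, 5, 3, 5, 2, 2, 4, 2, 4, 2, 5]
def rw448 : List ℕ := [2, 1, 2, 1, 4, 0, 3, 0, 3, 3, 5, 2, 5, 7, 0, 5, 6, 3, 5, 5, 4, 2, 7, 4, 1, 6, 4, 3, 4, 2]
def rw449 : List ℕ := [1, 3, 0, 4, 4, 3, 4, 4, 3, 1, 0, 0, 2, 5, 5, 2, 5, 5, 1, 2, 0, 4, 3, 1, 2, 5]
def rw450 : List ℕ := [2, 2, 1, 3, 3, 1, 3, 3, 1, 0, 0, 2, 2, 0]
def rw451 : List ℕ := [4, 1, 5, 1, 1, 6, 0, 0, 4, 0, 5, 3, 3, 5, 3, 4, 4, 7, 5, 5, 2, 4, 2, 2]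
def rw452 : List ℕ := [5, 0, 5, 3, 4, 1, 4, 2, 4, 1, 4, 1, 3, 1, 3, 1, 2, 0, 2, 0, 2, 0, 5, 0, 5, 3]
def rw453 : List ℕ := [3, 0, 2, 0, 3, 1]
def rw454 : List ℕ := [2, 0, 5, 0, 2, 0, 5, 1, 4, 1, 3, 1, 4, 1, 3, 1, 4, 1, 3, 1, 0, 0, 2, 0, 5, 0]
def rw455 : List ℕ := [3, 1, 6, 3, 4, 3, 1, 2, 0, 2, 5, 2, 7, 0, 2, 6, 3, 0, 5, 3, 5, 2, 3, 3, 4, 2, 4, 1, 2, 7]
def rw456 : List ℕ := [6, 3, 3, 5, 3, 1, 0, 0, 2, 4, 2, 2, 7, 3, 1, 6, 3, 3, 5, 1, 4, 2, 2, 7, 0, 2]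
def rw457 : List ℕ := [1, 6, 3, 3, 5, 1, 3, 1, 1, 6, 0, 0, 2, 0, 4, 2, 2, 7, 0, 2, 6, 3, 3, 5, 7, 4, 2, 2, 7, 3]
def rw458 : List ℕ := [0, 4, 3, 7, 2, 5, 1, 3, 0, 4, 4, 3, 4, 4, 3, 1, 6, 0, 2, 5, 5, 2, 5, 5, 1, 2]
def rw459 : List ℕ := [4, 3, 4, 4, 0, 3, 1, 2, 0, 2, 1, 5, 5, 2, 5, 5, 1, 2, 0, 4, 3, 5, 1, 3, 0, 4]
def rw460 : List ℕ := [5, 2, 0, 5, 2, 0, 5, 2, 7, 3, 4, 1, 3, 4, 1, 3, 4, 1, 3, 4, 1, 6, 0, 5, 2, 0]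
def rw461 : List ℕ := [2, 5, 2, 0, 4, 3, 4, 3, 5, 2, 5, 1, 3, 4, 3, 4, 3, 4, 3, 1, 2, 0, 2, 5, 2, 5]
def rw462 : List ℕ := [2, 5, 1, 7, 3, 4, 3, 4, 3, 6, 7, 7, 2, 5, 2, 5, 2, 6, 0, 4, 3, 4, 3, 3, 1, 6, 0, 2, 2, 5]
def rw463 : List ℕ := [3, 5, 5, 2, 4, 2, 4, 2, 2, 5, 3, 5]
def rw464 : List ℕ := [2, 0, 4, 3, 5, 1, 3, 0, 4, 4, 3, 4, 4, 0, 3, 1, 2, 0, 2, 1, 5, 5, 2, 5, 5, 1]
def rw465 : List ℕ := [0, 3, 4, 3, 5, 2, 1, 3, 4, 4, 3, 4, 4, 0, 3, 1, 2, 0, 2, 1, 5, 5, 2, 5, 5, 2]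
def rw466 : List ℕ := [4, 3, 4, 3, 1, 2, 0, 2, 5, 2, 5, 2, 5, 2, 0, 4, 3, 4, 3, 5, 2, 5, 1, 3, 4, 3]
def rw467 : List ℕ := [2, 5, 2, 0, 4, 3, 4, 5, 5, 2, 5, 1, 3, 4, 3, 4, 3, 4, 3, 1, 4, 0, 2, 5, 2, 5]
def rw468 : List ℕ := [6, 0, 2, 6, 7, 7, 3, 1, 7, 3, 1, 7, 3, 4, 3, 4, 3, 3, 1, 6, 0, 2, 2, 5, 2, 5, 2, 6, 0, 2]
def rw469 : List ℕ := [5, 1, 3, 4, 3, 4, 3, 4, 3, 1, 0, 0, 2, 5, 2, 5, 2, 5, 2, 0, 4, 3, 4, 1, 5, 2]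
def rw470 : List ℕ := [4, 3, 4, 3, 1, 0, 0, 2, 5, 2, 5, 2, 5, 2, 0, 4, 3, 4, 1, 5, 2, 5, 1, 3, 4, 3]
def rw471 : List ℕ := [3, 4, 3, 5, 2, 5, 1, 3, 4, 3, 4, 3, 4, 3, 1, 2, 0, 2, 5, 2, 5, 2, 5, 2, 0, 4]
def rw472 : List ℕ := [7, 4, 1, 4, 2, 6, 7, 7, 3, 5, 0, 5, 6, 5, 2, 5, 5, 5, 2, 5, 1, 6, 0, 4, 3, 4, 4, 4, 3, 4]
def rw473 : List ℕ := [5, 3, 5, 2, 2, 4, 2, 4, 2, 5, 5, 3]
def rw474 : List ℕ := [5, 1, 3, 4, 3, 4, 3, 4, 3, 1, 2, 0, 2, 5, 2, 5, 2, 5, 2, 0, 4, 3, 4, 3, 5, 2]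
def rw475 : List ℕ := [5, 3, 3, 5, 3, 5, 3, 3, 0, 2, 2, 4, 2, 4, 2, 2, 4, 2, 4, 1, 5, 3]
def rw476 : List ℕ := [3, 5, 2, 0, 5, 3, 5, 5, 4, 2, 4, 1, 3, 4, 2, 4, 2, 4, 3, 1, 4, 0, 2, 5, 3, 5]
def rw477 : List ℕ := [3, 5, 3, 5, 3, 5, 3, 1, 2, 0, 2, 4, 2, 4, 2, 4, 2, 0, 5, 3, 5, 3, 4, 2, 4, 1]
def rw478 : List ℕ := [2, 2, 0, 2, 2, 5, 3, 3, 1, 3, 3, 1, 4, 0]
def rw479 : List ℕ := [1, 3, 1, 3, 1, 0, 0, 2, 0, 2, 0, 2, 1, 3]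
def rw480 : List ℕ := [1, 2, 0, 5, 2, 0, 5, 2, 0, 5, 2, 0, 5, 2, 3, 3, 4, 1, 3, 4, 1, 3, 4, 1, 3, 4]
def rw481 : List ℕ := [0, 4, 0, 4, 1, 5, 1, 5, 1, 5, 1, 5, 1, 5, 1, 0, 0, 4, 0, 4, 0, 4]
def rw482 : List ℕ := [4, 1, 5, 5, 5, 3, 3, 5, 3, 1, 5, 1, 1, 0, 0, 0, 4, 0, 2, 4, 2, 2, 4, 4]
def rw483 : List ℕ := [4, 0, 0, 4, 0, 2, 4, 2, 2, 4, 4, 4, 5, 5, 5, 5, 3, 3, 5, 3, 1, 5, 1, 1]
def rw484 : List ℕ := [5, 0, 5, 1, 4, 1, 4, 1, 5, 1, 4, 1, 4, 1, 1, 1, 0, 0, 0, 0, 5, 0, 5, 0, 4, 0]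
def rw485 : List ℕ := [4, 1, 4, 1, 4, 4, 4, 1, 4, 1, 4, 1, 5, 0, 5, 0, 5, 5, 5, 0, 5, 0, 5, 1, 0, 0]
def rw486 : List ℕ := [1, 4, 1, 5, 0, 5, 0, 5, 5, 5, 0, 5, 0, 5, 1, 0, 0, 4, 1, 4, 1, 4, 4, 4, 1, 4]
def rw487 : List ℕ := [5, 1, 3, 1, 0, 0, 2, 0, 4, 0, 2, 0, 4, 0, 2, 0, 4, 1, 5, 1, 3, 1, 5, 1, 3, 1]
def rw488 : List ℕ := [4, 0, 2, 0, 4, 3, 5, 1, 3, 1, 5, 1, 3, 1, 5, 1, 3, 1, 2, 0, 2, 0, 4, 0, 2, 0]
def rw489 : List ℕ := [4, 3, 5, 3, 1, 3, 5, 1, 3, 1, 5, 1, 3, 1, 2, 0, 2, 0, 4, 0, 2, 0, 4, 2, 0, 2]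
def rw490 : List ℕ := [2, 4, 2, 2, 5, 3, 5, 3, 5, 5, 2, 4]
def rw491 : List ℕ := [0, 2, 6, 1, 7, 3, 1, 6, 4, 2, 4, 1, 3, 0, 5, 0, 3, 1, 0, 0, 2, 1, 4, 1, 2, 0, 5, 3, 5, 7]
def rw492 : List ℕ := [2, 2, 0, 5, 3, 5, 3, 3, 5, 3, 5, 5, 4, 2, 4, 2, 2, 4, 2, 4, 1, 3, 3, 1, 4, 0]
def rw493 : List ℕ := [3, 5, 3, 5, 5, 2, 4, 2, 4, 2, 2, 5]
def rw494 : List ℕ := [0, 2, 2, 1, 3, 3, 1, 3, 3, 1, 0, 0, 2, 2]
def rw495 : List ℕ := [2, 2, 4, 2, 4, 2, 5, 2, 4, 2, 4, 5, 5, 3, 5, 3, 4, 3, 5, 3, 5, 3, 3, 3, 4, 2]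
def rw496 : List ℕ := [4, 4, 2, 2, 4, 4, 2, 2, 4, 4, 1, 5, 5, 3, 3, 5, 5, 3, 3, 5, 5, 3, 3, 0, 2, 2]
def rw497 : List ℕ := [2, 0, 2, 2, 2, 1, 3, 3, 3, 1, 3, 0, 3, 1, 0, 0, 2, 1]
def rw498 : List ℕ := [1, 3, 4, 1, 3, 4, 1, 3, 4, 1, 2, 0, 5, 2, 0, 5, 2, 0, 5, 2, 0, 5, 2, 3, 3, 4]
def rw499 : List ℕ := [2, 2, 0, 2, 2, 7, 3, 3, 1, 3, 3, 1, 6, 0]
def rw500 : List ℕ := [5, 3, 3, 4, 2, 2, 4, 2, 4, 2, 2, 4, 2, 4, 5, 5, 3, 5, 3, 3, 5, 3]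
def rw501 : List ℕ := [0, 2, 4, 2, 2, 4, 4, 4, 5, 5, 5, 5, 3, 3, 5, 3, 1, 5, 1, 1, 4, 0, 0, 4]
def rw502 : List ℕ := [5, 1, 5, 1, 2, 0, 4, 0, 4, 0, 4, 0, 4, 0, 4, 3, 5, 1, 5, 1, 5, 1]
def rw503 : List ℕ := [4, 5, 5, 1, 5, 1, 5, 1, 5, 1, 5, 1, 4, 0, 4, 0, 4, 0, 4, 0, 4, 0]
def rw504 : List ℕ := [2, 6, 4, 0, 4, 4, 3, 1, 0, 0, 2, 5, 5, 1, 5, 7, 3, 1, 6, 4, 0, 4, 4, 1, 5, 5, 1, 5, 7, 0]
def rw505 : List ℕ := [4, 4, 0, 0, 4, 0, 4, 4, 1, 5, 5, 1, 5, 1, 1, 5, 5, 1, 5, 1, 1, 0, 0, 0, 4, 0]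
def rw506 : List ℕ := [5, 0, 4, 4, 1, 5, 5, 1, 4, 0, 0, 4, 4, 0, 5, 1, 1, 0, 0, 0, 4, 1, 5, 5, 1, 1]
def rw507 : List ℕ := [1, 4, 1, 1, 4, 1, 4, 1, 1, 4, 0, 0, 5, 0, 5, 0, 0, 5, 0, 5, 5, 4]
def rw508 : List ℕ := [3, 5, 3, 3, 5, 5, 5, 1, 1, 0, 0, 0, 4, 4, 4, 2, 2, 4, 2, 0, 4, 1, 5, 1]
def rw509 : List ℕ := [5, 1, 5, 5, 1, 1, 4, 0, 0, 4, 4, 0, 4, 0, 0, 4, 4, 0, 4, 5, 5, 1, 5, 5, 1, 1]
def rw510 : List ℕ := [3, 1, 1, 2, 0, 0, 2, 4, 1, 4, 2, 0, 0, 5, 0, 5, 3, 4, 1, 4, 1, 1, 3, 5, 0, 5]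
def rw511 : List ℕ := [3, 0, 2, 5, 3, 1, 1, 1, 4, 0, 0, 0, 2, 4, 3, 1, 2, 1, 5, 0, 3, 5, 2, 1, 4, 0]
def rw512 : List ℕ := [5, 0, 5, 3, 5, 3, 1, 1, 2, 0, 0, 2, 4, 2, 4, 1, 4, 2, 4, 0, 2, 3, 3, 1, 5, 3]
def rw513 : List ℕ := [0, 5, 0, 5, 1, 4, 1, 4, 1, 1, 3, 5, 0, 5, 3, 1, 1, 0, 0, 0, 2, 4, 1, 4, 2, 0]
def rw514 : List ℕ := [2, 5, 1, 3, 1, 5, 1, 3, 1, 0, 0, 2, 0, 4, 0, 2, 0, 4, 3, 1, 3, 4, 1, 5, 2, 0]
def rw515 : List ℕ := [1, 3, 1, 5, 1, 3, 1, 0, 0, 2, 0, 4, 0, 2, 0, 4, 0, 2, 0, 4, 1, 5, 1, 3, 1, 5]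
def rw516 : List ℕ := [3, 0, 4, 4, 3, 4, 4, 3, 1, 0, 0, 2, 5, 5, 2, 5, 5, 1, 2, 0, 4, 3, 1, 2, 5, 1]
def rw517 : List ℕ := [2, 5, 3, 3, 1, 3, 3, 1, 4, 0, 2, 2, 0, 2]
def rw518 : List ℕ := [5, 3, 5, 3, 5, 5, 2, 4, 2, 4, 2, 2]
def rw519 : List ℕ := [3, 4, 7, 4, 1, 4, 2, 6, 3, 7, 3, 5, 0, 5, 6, 5, 2, 5, 5, 5, 2, 5, 1, 2, 0, 4, 3, 4, 4, 4]
def rw520 : List ℕ := [5, 2, 5, 2, 0, 5, 3, 3, 1, 4, 0, 2, 2, 4, 1, 3, 4, 3, 4, 7, 3, 5, 6, 5, 7, 4, 2, 6]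
def rw521 : List ℕ := [2, 5, 1, 3, 4, 3, 4, 3, 4, 3, 1, 0, 0, 2, 5, 2, 5, 2, 5, 2, 0, 4, 3, 4, 1, 5]
def rw522 : List ℕ := [4, 3, 5, 2, 5, 1, 3, 4, 3, 4, 3, 4, 3, 1, 2, 0, 2, 5, 2, 5, 2, 5, 2, 0, 4, 3]
def rw523 : List ℕ := [0, 2, 6, 0, 2, 6, 7, 7, 3, 1, 7, 3, 1, 7, 3, 4, 3, 4, 3, 3, 1, 6, 0, 2, 2, 5, 2, 5, 2, 6]
def rw524 : List ℕ := [1, 7, 1, 2, 5, 2, 5, 1, 4, 3, 1, 2, 0, 2, 5, 0, 4, 3, 4, 3, 0, 6, 0, 2, 6, 6, 3, 7, 7, 3]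
def rw525 : List ℕ := [1, 5, 5, 2, 5, 5, 1, 2, 0, 4, 5, 5, 1, 3, 0, 4, 4, 3, 4, 4, 0, 3, 1, 4, 0, 2]
def rw526 : List ℕ := [4, 2, 1, 3, 1, 4, 0, 2, 0, 3, 5, 3, 5, 0, 5, 3, 5, 3, 5, 2, 4, 2, 4, 1, 4, 2]
def rw527 : List ℕ := [4, 2, 4, 3, 1, 3, 5, 2, 0, 2, 5, 3, 5, 0, 5, 3, 5, 3, 1, 4, 0, 2, 4, 2, 4, 1]
def rw528 : List ℕ := [3, 5, 5, 3, 5, 3, 5, 1, 4, 0, 4, 2, 4, 2, 4, 4, 2, 0, 5, 3, 5, 5, 4, 2, 4, 1]
def rw529 : List ℕ := [2, 4, 1, 3, 3, 1, 4, 0, 2, 2, 0, 5, 3, 5, 3, 3, 5, 3, 5, 5, 4, 2, 4, 2, 2, 4]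
def rw530 : List ℕ := [4, 2, 2, 4, 2, 0, 4, 1, 5, 1, 3, 5, 3, 3, 5, 5, 5, 1, 1, 0, 0, 0, 4, 4]
def rw531 : List ℕ := [0, 4, 1, 5, 1, 5, 1, 5, 1, 5, 1, 5, 1, 0, 0, 4, 0, 4, 0, 4, 0, 4]
def rw532 : List ℕ := [3, 3, 5, 0, 4, 1, 5, 1, 4, 2, 2, 4, 2, 5, 5, 1, 1, 0, 0, 0, 4, 4, 3, 5]
def rw533 : List ℕ := [2, 4, 2, 0, 4, 1, 5, 1, 3, 5, 3, 3, 5, 5, 5, 1, 1, 0, 0, 0, 4, 4, 4, 2]
def rw534 : List ℕ := [3, 5, 5, 5, 1, 1, 2, 0, 0, 4, 4, 4, 2, 2, 4, 2, 0, 4, 3, 5, 1, 3, 5, 3]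
def rw535 : List ℕ := [0, 0, 4, 4, 0, 4, 1, 5, 1, 5, 5, 1, 1, 5, 1, 5, 5, 1, 1, 0, 0, 0, 4, 4, 0, 4]
def rw536 : List ℕ := [2, 4, 2, 2, 4, 1, 5, 1, 1, 0, 0, 0, 4, 0, 5, 3, 3, 5, 3, 4, 4, 1, 5, 5]
def rw537 : List ℕ := [5, 5, 3, 3, 0, 2, 2, 4, 4, 2, 2, 4, 4, 2, 2, 4, 4, 1, 5, 5, 3, 3, 5, 5, 3, 3]
def rw538 : List ℕ := [5, 1, 4, 3, 5, 2, 5, 3, 4, 3, 5, 2, 5, 3, 0, 2, 4, 3, 4, 2, 5, 2, 4, 3, 4, 2]
def rw539 : List ℕ := [4, 0, 0, 4, 0, 4, 4, 1, 5, 5, 1, 5, 1, 1, 5, 5, 1, 5, 1, 1, 0, 0, 0, 4, 0, 4]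
def rw540 : List ℕ := [0, 4, 1, 4, 1, 4, 4, 0, 5, 0, 5, 0]
def rw541 : List ℕ := [4, 1, 0, 0, 5, 0, 5, 0, 5, 0, 5, 0, 5, 1, 4, 1, 4, 1, 4, 1, 4, 1]
def rw542 : List ℕ := [1, 4, 0, 5, 1, 4, 3, 1, 2, 0, 2, 5, 0, 4, 1, 5, 0, 6, 3, 7, 5, 6, 3, 3, 2, 7, 4, 6, 2, 7]
def rw543 : List ℕ := [3, 7, 5, 6, 3, 3, 2, 7, 4, 6, 2, 7, 1, 4, 0, 5, 1, 4, 3, 1, 2, 0, 2, 5, 0, 4, 1, 5, 0, 6]
def rw544 : List ℕ := [7, 4, 6, 2, 7, 1, 4, 0, 5, 1, 4, 3, 1, 4, 0, 2, 5, 0, 4, 1, 5, 0, 6, 3, 7, 5, 6, 3, 5, 2]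
def rw545 : List ℕ := [2, 2, 4, 2, 2, 1, 4, 0, 3, 3, 5, 3, 3, 0, 3, 4, 4, 3, 5, 2, 5, 5, 2, 1]
def rw546 : List ℕ := [5, 2, 6, 0, 4, 3, 4, 3, 3, 1, 2, 0, 2, 2, 5, 2, 5, 1, 7, 3, 4, 3, 4, 3, 6, 3, 7, 2, 5, 2]
def rw547 : List ℕ := [4, 3, 1, 4, 0, 2, 5, 2, 5, 2, 5, 2, 0, 4, 3, 4, 5, 5, 2, 5, 1, 3, 4, 3, 4, 3]
def rw548 : List ℕ := [0, 2, 5, 7, 4, 3, 1, 4, 3, 1, 4, 3, 1, 4, 3, 1, 6, 0, 2, 5, 0, 2, 5, 0, 2, 5]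
def rw549 : List ℕ := [4, 3, 4, 3, 1, 6, 0, 2, 5, 2, 5, 2, 5, 2, 0, 4, 3, 4, 7, 5, 2, 5, 1, 3, 4, 3]
def rw550 : List ℕ := [5, 2, 5, 1, 3, 4, 3, 4, 3, 4, 3, 1, 4, 0, 2, 5, 2, 5, 2, 5, 2, 0, 4, 3, 4, 5]
def rw551 : List ℕ := [3, 4, 1, 5, 2, 5, 1, 3, 4, 3, 4, 3, 4, 3, 1, 0, 0, 2, 5, 2, 5, 2, 5, 2, 0, 4]
def rw552 : List ℕ := [3, 3, 1, 4, 0, 2, 2, 0, 2, 2, 5, 3, 3, 1]
def rw553 : List ℕ := [4, 3, 1, 4, 3, 1, 2, 0, 2, 5, 0, 2, 5, 0, 2, 5, 0, 2, 5, 3, 4, 3, 1, 4, 3, 1]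
def rw554 : List ℕ := [3, 5, 0, 5, 3, 5, 3, 4, 2, 4, 1, 4, 2, 4, 1, 2, 0, 5]
def rw555 : List ℕ := [5, 1, 3, 1, 0, 0, 2, 0, 4, 0, 2, 0, 4, 1, 3, 1, 4, 1, 5, 0, 2, 0, 5, 1, 3, 1]
def rw556 : List ℕ := [0, 2, 1, 1, 2, 0, 0, 3, 1, 3, 3, 3, 3, 1, 3, 3, 2, 0, 2, 2, 2, 2]
def rw557 : List ℕ := [3, 3, 1, 2, 0, 2, 2, 1, 2, 0, 2, 2, 1, 2, 3, 3, 0, 3, 3, 1, 3, 0]
def rw558 : List ℕ := [2, 1, 4, 0, 0, 2, 1, 5, 1, 4, 0, 3, 1, 1, 5, 0, 3, 0, 3, 1, 1, 0, 0, 0, 2, 1]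
def rw559 : List ℕ := [2, 1, 4, 3, 1, 2, 1, 5, 1, 4, 0, 3, 0, 2, 5, 0, 3, 3, 3, 1, 1, 0, 0, 0, 2, 2]
def rw560 : List ℕ := [0, 3, 3, 1, 2, 1, 4, 5, 5, 0, 3, 0, 2, 2, 1, 4, 3, 1, 1, 1, 4, 0, 0, 0, 2, 5]
def rw561 : List ℕ := [0, 5, 0, 2, 0, 5, 1, 4, 1, 3, 1, 4, 1, 3, 1, 4, 1, 3, 1, 0, 0, 2, 0, 5, 0, 2]
def rw562 : List ℕ := [3, 1, 3, 1, 4, 0, 2, 0, 2, 0, 2, 5, 3, 1]
def rw563 : List ℕ := [5, 2, 0, 2, 5, 0, 2, 0, 5, 1, 3, 1, 0, 0, 2, 0, 4, 1, 3, 1, 4, 3, 1, 3, 4, 1]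
def rw564 : List ℕ := [0, 2, 0, 4, 3, 1, 3, 4, 1, 5, 2, 0, 2, 5, 1, 3, 1, 5, 1, 3, 1, 0, 0, 2, 0, 4]
def rw565 : List ℕ := [3, 1, 5, 1, 3, 1, 0, 0, 2, 0, 4, 0, 2, 0, 4, 3, 1, 3, 4, 1, 5, 2, 0, 2, 5, 1]
def rw566 : List ℕ := [0, 3, 0, 5, 1, 1, 0, 0, 0, 4, 1, 2, 1, 2, 0, 0, 5, 1, 2, 1, 3, 0, 4, 1, 1, 3]
def rw567 : List ℕ := [1, 1, 2, 2, 1, 4, 0, 3, 1, 1, 0, 0, 0, 2, 1, 5, 0, 3, 3, 0, 0, 2, 4, 1, 5, 3]
def rw568 : List ℕ := [3, 1, 4, 0, 2, 0, 2, 0, 2, 5, 3, 1, 3, 1]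
def rw569 : List ℕ := [1, 3, 4, 3, 4, 3, 4, 3, 1, 0, 0, 2, 5, 2, 5, 2, 5, 2, 0, 4, 3, 4, 1, 5, 2, 5]
def rw570 : List ℕ := [3, 5, 3, 5, 2, 0, 5, 3, 5, 1, 4, 2, 4, 1, 3, 4, 2, 4, 2, 4, 3, 1, 0, 0, 2, 5]
def rw571 : List ℕ := [4, 4, 4, 3, 5, 5, 5, 3, 5, 3, 5, 2, 5, 3, 5, 3, 2, 2, 4, 2, 4, 3, 4, 2, 4, 2]
def rw572 : List ℕ := [0, 5, 3, 5, 3, 4, 2, 4, 1, 3, 3, 5, 3, 5, 3, 3, 1, 2, 0, 2, 2, 4, 2, 4, 2, 2]
def rw573 : List ℕ := [1, 3, 1, 1, 0, 0, 0, 2, 0, 0, 2, 1, 3, 1]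
def rw574 : List ℕ := [5, 2, 5, 2, 0, 4, 3, 4, 3, 5, 2, 5, 1, 3, 4, 3, 4, 3, 4, 3, 1, 2, 0, 2, 5, 2]
def rw575 : List ℕ := [5, 3, 5, 3, 1, 1, 4, 0, 0, 2, 4, 2, 4, 1, 4, 2, 4, 0, 2, 5, 3, 1, 5, 3, 5, 0]
def rw576 : List ℕ := [4, 3, 1, 4, 3, 1, 4, 3, 1, 0, 0, 2, 5, 0, 2, 5, 0, 2, 5, 0, 2, 5, 1, 4, 3, 1]
def rw577 : List ℕ := [0, 0, 5, 0, 5, 0, 4, 4, 1, 4, 1, 4]
def rw578 : List ℕ := [4, 1, 5, 1, 4, 1, 4, 1, 1, 1, 0, 0, 0, 0, 5, 0, 5, 0, 4, 0, 5, 0, 5, 1, 4, 1]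
def rw579 : List ℕ := [4, 2, 4, 2, 2, 5, 3, 5, 3, 5, 5, 2]
def rw580 : List ℕ := [1, 4, 1, 4, 1, 4, 1, 4, 1, 4, 1, 0, 0, 5, 0, 5, 0, 5, 0, 5, 0, 5]
def rw581 : List ℕ := [1, 4, 2, 0, 0, 5, 0, 5, 1, 4, 1, 4, 1, 1, 3, 5, 0, 5, 3, 1, 1, 0, 0, 0, 2, 4]
def rw582 : List ℕ := [5, 0, 5, 3, 1, 0, 0, 2, 4, 1, 4, 2, 0, 5, 0, 5, 0, 5, 1, 4, 1, 4, 1, 4, 1, 3]
def rw583 : List ℕ := [5, 2, 5, 2, 0, 5, 3, 3, 1, 0, 0, 2, 2, 4, 1, 3, 4, 3, 4, 7, 3, 5, 6, 1, 7, 4, 2, 6]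
def rw584 : List ℕ := [3, 1, 4, 3, 1, 0, 0, 2, 5, 0, 2, 5, 0, 2, 5, 0, 2, 5, 1, 4, 3, 1, 4, 3, 1, 4]
def rw585 : List ℕ := [0, 2, 4, 2, 0, 5, 3, 4, 1, 3, 5, 3, 1, 4, 1, 3, 5, 3, 1, 2, 0, 2, 4, 2, 0, 5]
def rw586 : List ℕ := [3, 5, 3, 4, 2, 0, 5, 3, 5, 1, 4, 2, 4, 1, 3, 5, 2, 4, 2, 4, 2, 1, 0, 0, 3, 5]
def rw587 : List ℕ := [2, 5, 3, 5, 3, 5, 5, 2, 4, 2, 4, 2]
def rw588 : List ℕ := [2, 6, 3, 4, 1, 4, 1, 3, 5, 0, 3, 1, 2, 0, 2, 1, 4, 2, 0, 5, 0, 5, 2, 7, 3, 1, 6, 3, 7, 0]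
def rw589 : List ℕ := [5, 2, 4, 2, 4, 2, 2, 5, 3, 5, 3, 5]
def rw590 : List ℕ := [0, 5, 3, 5, 3, 1, 1, 2, 0, 0, 2, 4, 2, 4, 1, 4, 2, 4, 0, 2, 3, 3, 1, 5, 3, 5]
def rw591 : List ℕ := [4, 1, 4, 0, 0, 5, 0, 5, 0, 4, 4, 1]
def rw592 : List ℕ := [0, 5, 0, 5, 5, 5, 0, 5, 0, 5, 1, 0, 0, 4, 1, 4, 1, 4, 4, 4, 1, 4, 1, 4, 1, 5]
def rw593 : List ℕ := [4, 1, 4, 1, 4, 0, 0, 5, 0, 5, 0, 4]
def rw594 : List ℕ := [0, 5, 3, 1, 4, 0, 2, 4, 1, 4, 2, 5, 0, 5, 0, 5, 5, 5, 4, 4, 1, 4, 1, 4, 3, 5]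
def rw595 : List ℕ := [3, 1, 6, 4, 2, 4, 1, 3, 0, 5, 0, 3, 1, 2, 0, 2, 1, 4, 1, 2, 0, 5, 3, 5, 7, 0, 2, 6, 3, 7]
def rw596 : List ℕ := [3, 3, 3, 1, 1, 4, 3, 1, 1, 1, 0, 0, 0, 0, 2, 5, 0, 0, 2, 2, 2, 1, 4, 1, 5, 0]
def rw597 : List ℕ := [0, 5, 6, 1, 2, 4, 5, 5, 3, 0, 7, 4, 1, 6, 1, 2, 2, 5, 3, 1, 4, 0, 2, 4, 3, 3, 0, 7]
def rw598 : List ℕ := [1, 6, 2, 0, 7, 0, 2, 6, 2, 3, 3, 7, 3, 1, 6, 1, 3, 7, 0, 2, 6, 1, 3, 1, 2, 0, 2, 0, 7, 3]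
def rw599 : List ℕ := [5, 6, 1, 2, 1, 4, 0, 3, 0, 7, 4, 1, 6, 5, 3, 4, 3, 4, 2, 5, 5, 4, 3, 5, 2, 5, 2, 4, 7, 0]
def rw600 : List ℕ := [3, 4, 3, 1, 4, 0, 2, 5, 2, 1, 2, 1, 2, 2, 2, 5, 5, 5, 4, 4, 3, 3, 3, 0, 3, 0]
def rw601 : List ℕ := [3, 3, 3, 0, 3, 0, 3, 4, 3, 1, 0, 0, 2, 5, 2, 1, 2, 1, 2, 2, 2, 5, 5, 1, 4, 4]
def rw602 : List ℕ := [4, 3, 4, 1, 5, 2, 5, 1, 3, 4, 3, 4, 3, 4, 3, 1, 0, 0, 2, 5, 2, 5, 2, 5, 2, 0]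
def rw603 : List ℕ := [5, 3, 2, 2, 4, 2, 4, 2, 4, 2, 4, 2, 4, 3, 5, 3, 5, 3, 5, 3, 5, 3]
def rw604 : List ℕ := [0, 5, 3, 5, 2, 5, 3, 4, 2, 4, 1, 4, 2, 4, 2, 0, 3, 1, 4, 0, 2, 1, 3, 5, 3, 5]
def rw605 : List ℕ := [5, 2, 4, 3, 4, 2, 5, 3, 4, 3, 5, 2, 5, 3, 4, 3, 5, 2, 5, 3, 2, 2, 4, 3, 4, 2]
def rw606 : List ℕ := [4, 1, 4, 1, 4, 4, 0, 5, 0, 5, 0, 0]
def rw607 : List ℕ := [4, 1, 3, 3, 1, 0, 0, 2, 2, 0, 5, 0, 5, 3, 5, 0, 5, 2, 1, 3, 4, 1, 4, 2, 4, 1]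
def rw608 : List ℕ := [3, 5, 3, 5, 3, 0, 5, 3, 5, 3, 4, 2, 4, 1, 2, 4, 2, 4, 2, 5, 3, 1, 2, 0, 2, 4]
def rw609 : List ℕ := [3, 3, 0, 3, 0, 3, 4, 3, 1, 2, 0, 2, 5, 2, 1, 2, 1, 2, 2, 2, 5, 5, 3, 4, 4, 3]
def rw610 : List ℕ := [0, 5, 3, 0, 5, 0, 5, 1, 4, 1, 4, 1, 2, 4, 1, 4, 2, 0, 5, 1, 0, 0, 4, 1, 3, 5]
def rw611 : List ℕ := [4, 0, 5, 3, 3, 5, 3, 4, 4, 5, 5, 5, 2, 4, 2, 2, 4, 1, 5, 1, 1, 4, 0, 0]
def rw612 : List ℕ := [4, 2, 4, 1, 2, 0, 5, 3, 5, 0, 5, 3, 5, 3, 4, 2, 4, 1]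
def rw613 : List ℕ := [2, 7, 1, 5, 6, 3, 1, 3, 1, 6, 0, 2, 0, 2, 7, 4, 0, 6, 3, 6, 3, 1, 7, 4, 7, 5, 6, 0, 2, 7]
def rw614 : List ℕ := [3, 6, 3, 1, 7, 4, 1, 5, 6, 0, 2, 7, 2, 7, 1, 5, 6, 3, 1, 3, 1, 0, 0, 2, 0, 2, 7, 4, 0, 6]
def rw615 : List ℕ := [7, 2, 7, 1, 5, 6, 3, 1, 3, 1, 6, 0, 2, 0, 2, 7, 4, 0, 6, 3, 6, 3, 1, 7, 4, 7, 5, 6, 0, 2]
def rw616 : List ℕ := [6, 3, 4, 1, 4, 3, 1, 2, 0, 2, 5, 0, 5, 2, 7, 0, 2, 6, 0, 5, 3, 5, 3, 4, 2, 4, 1, 7, 3, 1]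
def rw617 : List ℕ := [3, 6, 5, 1, 3, 0, 5, 0, 5, 7, 4, 3, 1, 6, 0, 2, 5, 6, 4, 1, 4, 1, 2, 0, 4, 7, 2, 7]
def rw618 : List ℕ := [3, 1, 6, 0, 2, 1, 6, 3, 0, 5, 0, 2, 4, 3, 1, 7, 2, 7, 3, 6, 0, 2, 5, 3, 1, 4, 1, 2, 7, 0]
def rw619 : List ℕ := [3, 1, 3, 1, 6, 0, 2, 0, 2, 0, 2, 7, 3, 1]
def rw620 : List ℕ := [1, 3, 3, 1, 6, 0, 2, 2, 0, 2, 2, 7, 3, 3]
def rw621 : List ℕ := [3, 1, 3, 0, 3, 1, 6, 0, 2, 1, 2, 0, 2, 2, 2, 7, 3, 3]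
def rw622 : List ℕ := [6, 3, 5, 0, 5, 0, 3, 4, 7, 1, 6, 5, 2, 1, 4, 1, 4, 2, 7, 4, 1, 3, 1, 0, 0, 2, 0, 5]
def rw623 : List ℕ := [6, 3, 6, 5, 1, 6, 0, 4, 7, 2, 7, 1, 5, 2, 5, 6, 3, 6, 3, 4, 7, 5, 2, 7, 2, 7, 4, 3, 4, 0]
def rw624 : List ℕ := [5, 6, 3, 6, 5, 1, 2, 0, 4, 7, 2, 7, 4, 3, 6, 3, 6, 3, 4, 3, 4, 3, 5, 2, 5, 2, 7, 2, 7, 2]
def rw625 : List ℕ := [0, 2, 5, 6, 3, 6, 3, 4, 3, 1, 0, 0, 2, 5, 2, 7, 2, 7, 4, 3, 1, 3, 6, 3, 6, 1, 7, 2, 7, 2]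
def rw626 : List ℕ := [2, 7, 2, 7, 4, 3, 1, 3, 6, 3, 6, 7, 7, 2, 7, 2, 0, 2, 5, 6, 3, 6, 3, 4, 3, 1, 6, 0, 2, 5]
def rw627 : List ℕ := [3, 5, 0, 5, 3, 5, 5, 4, 2, 4, 1, 4, 2, 4, 1, 4, 0, 5]
def rw628 : List ℕ := [1, 3, 1, 0, 0, 2, 0, 4, 0, 2, 0, 4, 2, 0, 2, 4, 1, 5, 3, 1, 3, 5, 1, 3, 1, 5]
def rw629 : List ℕ := [6, 3, 6, 3, 1, 7, 4, 0, 3, 1, 6, 0, 2, 1, 5, 6, 0, 2, 7, 2, 7, 1, 5, 6, 2, 7, 3, 7, 4, 0]
def rw630 : List ℕ := [6, 3, 0, 2, 2, 7, 4, 1, 4, 5, 5, 0, 5, 6, 3, 3, 1, 2, 7, 3, 5, 1, 3, 1, 4, 0, 2, 0, 4, 2]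
def rw631 : List ℕ := [3, 1, 7, 4, 1, 4, 5, 5, 0, 5, 6, 0, 2, 2, 2, 7, 3, 5, 1, 3, 1, 4, 0, 2, 0, 4, 2, 6, 3, 3]
def rw632 : List ℕ := [3, 3, 3, 1, 2, 0, 2, 2, 2, 7, 0, 2, 4, 1, 3, 5, 6, 3, 7, 4, 2, 0, 5, 3, 1, 6]
def rw633 : List ℕ := [0, 2, 1, 2, 7, 4, 2, 0, 5, 3, 1, 6, 3, 7, 0, 2, 4, 1, 3, 5, 6, 3, 0, 3, 1, 2]
def rw634 : List ℕ := [0, 2, 0, 0, 3, 1, 3, 3]
def rw635 : List ℕ := [2, 0, 0, 0, 3, 1, 3, 3, 3, 0]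
def rw636 : List ℕ := [2, 7, 0, 2, 4, 1, 3, 5, 6, 3, 3, 1, 0, 0, 2, 2, 7, 4, 2, 0, 5, 3, 1, 6, 3, 1]
def rw637 : List ℕ := [6, 7, 7, 4, 1, 2, 7, 3, 7, 0, 3, 1, 7, 4, 1, 1, 6, 0, 0, 5, 6, 0, 2, 1, 6, 2, 6, 3, 0, 5]
def rw638 : List ℕ := [6, 3, 1, 0, 0, 2, 7, 7, 2, 7, 2, 0, 6, 2, 7, 4, 2, 1, 3, 5, 6, 3, 7, 1, 3, 6, 3, 6]
def rw639 : List ℕ := [5, 6, 0, 2, 5, 1, 6, 7, 7, 0, 4, 3, 1, 7, 4, 2, 7, 1, 4, 3, 1, 6, 0, 2, 5, 0, 6, 3]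
def rw640 : List ℕ := [1, 2, 7, 4, 2, 0, 5, 7, 4, 1, 3, 5, 6, 3, 0, 3, 1, 7, 1, 3, 1, 1, 6, 0, 0, 2, 0, 6, 0, 2]
def rw641 : List ℕ := [2, 2, 7, 3, 3, 3, 1, 3, 0, 3, 1, 6, 0, 2, 1, 2, 0, 2]
def rw642 : List ℕ := [3, 5, 1, 4, 1, 6, 7, 7, 0, 5, 0, 4, 2, 4, 2, 4, 6, 3, 0, 3, 1, 6, 0, 2, 1, 2, 7, 5, 3, 5]
def rw643 : List ℕ := [0, 2, 2, 7, 3, 1, 7, 3, 1, 7, 3, 4, 3, 4, 1, 5, 2, 5, 2, 6, 0, 2, 6, 0, 2, 6, 3, 3, 1, 0]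
def rw644 : List ℕ := [4, 1, 4, 2, 4, 1, 0, 0, 5, 3, 5, 0, 5, 3, 5, 1, 4, 2]
def rw645 : List ℕ := [5, 3, 5, 0, 5, 3, 5, 3, 1, 3, 1, 2, 0, 2, 0, 2, 4, 2, 4, 1, 4, 2, 4, 2, 3, 3]
def rw646 : List ℕ := [5, 3, 5, 3, 3, 1, 2, 0, 2, 2, 4, 2, 4, 2, 2, 0, 5, 3, 5, 3, 4, 2, 4, 1, 3, 3]
def rw647 : List ℕ := [2, 7, 3, 6, 3, 4, 1, 3, 5, 3, 5, 2, 7, 3, 1, 2, 0, 2, 6, 3, 4, 2, 4, 2, 0, 5]
def rw648 : List ℕ := [3, 4, 7, 3, 5, 6, 7, 7, 4, 2, 6, 5, 2, 5, 2, 0, 5, 3, 3, 1, 6, 0, 2, 2, 4, 1, 3, 4]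
def rw649 : List ℕ := [4, 3, 5, 3, 5, 7, 3, 1, 0, 0, 2, 6, 4, 2, 4, 2, 5, 0, 5, 2, 7, 1, 6, 3, 4, 1]
def rw650 : List ℕ := [4, 2, 5, 7, 3, 1, 0, 0, 2, 6, 4, 3, 5, 0, 5, 2, 4, 2, 2, 2, 7, 1, 6, 3, 3, 3, 5, 3, 4, 1]
def rw651 : List ℕ := [0, 5, 3, 4, 1, 3, 1, 4, 1, 3, 1, 4, 1, 3, 1, 2, 0, 2, 0, 5, 0, 2, 0, 5, 0, 2]
def rw652 : List ℕ := [0, 5, 0, 2, 4, 1, 5, 3, 1, 4, 1, 2, 7, 3, 1, 6, 3, 1, 3, 1, 0, 0, 2, 0, 2, 7, 0, 2, 6, 3]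
def rw653 : List ℕ := [1, 3, 4, 1, 3, 1, 4, 1, 5, 0, 2, 0, 5, 2, 0, 2, 5, 1, 3, 1, 0, 0, 2, 0, 4, 3]
def rw654 : List ℕ := [0, 3, 1, 7, 3, 5, 1, 3, 1, 2, 0, 2, 0, 4, 2, 6, 0, 2, 1, 2, 7, 4, 1, 4, 3, 5, 0, 5, 6, 3]
def rw655 : List ℕ := [2, 5, 1, 4, 0, 4, 3, 4, 7, 0, 5, 6, 3, 0, 5, 3, 5, 5, 4, 2, 4, 1, 2, 7, 4, 1, 6, 5]
def rw656 : List ℕ := [0, 5, 5, 3, 0, 5, 2, 7, 3, 1, 4, 0, 2, 6, 3, 4, 1, 2, 4, 4, 1, 4, 2, 5, 7, 5, 6, 4, 3, 5]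
def rw657 : List ℕ := [1, 4, 2, 5, 7, 3, 1, 6, 0, 2, 6, 4, 3, 5, 0, 5, 2, 4, 2, 2, 2, 7, 7, 6, 3, 3, 3, 5, 3, 4]
def rw658 : List ℕ := [4, 4, 2, 2, 4, 2, 0, 4, 1, 5, 1, 3, 5, 3, 3, 5, 5, 5, 1, 1, 0, 0, 0, 4]
def rw659 : List ℕ := [4, 1, 2, 5, 3, 0, 5, 0, 5, 3, 5, 0, 5, 0, 3, 1, 4, 0, 2, 1, 4, 1, 4, 2, 4, 1]
def rw660 : List ℕ := [3, 3, 3, 4, 4, 1, 3, 4, 3, 3, 2, 5, 2, 0, 5, 5, 2, 2, 2, 1, 2, 1, 2, 0, 3, 0]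
def rw661 : List ℕ := [5, 1, 1, 1, 3, 4, 1, 2, 1, 1, 1, 0, 0, 0, 0, 3, 0, 5, 2, 0, 0, 0, 4, 2, 1, 3]
def rw662 : List ℕ := [0, 4, 4, 3, 5, 5, 1, 1, 5, 5, 1, 1, 5, 5, 1, 1, 2, 0, 0, 4, 4, 0, 0, 4, 4, 0]
def rw663 : List ℕ := [5, 0, 2, 0, 5, 1, 3, 1, 5, 1, 3, 1, 2, 0, 2, 0, 4, 0, 2, 0, 4, 1, 3, 1, 4, 3]
def rw664 : List ℕ := [4, 2, 4, 2, 4, 4, 5, 5, 5, 3, 5, 3, 5, 5, 3, 5, 3, 4, 2, 4, 2, 4]
def rw665 : List ℕ := [2, 0, 5, 2, 0, 5, 2, 0, 5, 2, 3, 3, 4, 1, 3, 4, 1, 3, 4, 1, 3, 4, 1, 2, 0, 5]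
def rw666 : List ℕ := [1, 4, 2, 4, 2, 2, 1, 3, 3, 5, 3, 5, 0, 5, 3, 5, 3, 3, 1, 0, 0, 2, 2, 4, 2, 4]
def rw667 : List ℕ := [4, 1, 3, 4, 1, 3, 4, 1, 2, 0, 5, 2, 0, 5, 2, 0, 5, 2, 0, 5, 2, 3, 3, 4, 1, 3]
def rw668 : List ℕ := [2, 5, 3, 4, 3, 5, 2, 5, 3, 0, 2, 4, 3, 4, 2, 5, 2, 4, 3, 4, 2, 5, 1, 4, 3, 5]
def rw669 : List ℕ := [2, 4, 1, 4, 2, 0, 5, 5, 3, 4, 4, 1, 3, 5, 0, 5, 3, 4, 1, 4, 1, 2, 0, 5, 0, 5]
def rw670 : List ℕ := [7, 4, 2, 2, 7, 3, 3, 5, 6, 5, 2, 5, 5, 2, 7, 5, 2, 5, 1, 6, 0, 4, 3, 4, 6, 3, 4, 4, 3, 4]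
def rw671 : List ℕ := [3, 1, 3, 3, 1, 2, 0, 2, 2, 0, 2, 2, 3, 3]
def rw672 : List ℕ := [1, 3, 3, 3, 2, 2, 0, 2, 1, 2, 1, 3, 1, 1, 2, 0, 0, 2, 0, 3, 0, 3]
def rw673 : List ℕ := [3, 1, 3, 3, 1, 0, 0, 2, 2, 0, 2, 2, 1, 3]
def rw674 : List ℕ := [3, 5, 0, 5, 3, 5, 2, 3, 3, 4, 2, 4, 1, 4, 2, 4, 2, 0, 3, 1, 2, 0, 2, 1, 3, 5]
def rw675 : List ℕ := [4, 1, 4, 2, 4, 2, 2, 3, 3, 3, 5, 3, 5, 0, 5, 3, 5, 3, 3, 1, 2, 0, 2, 2, 4, 2]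
def rw676 : List ℕ := [5, 3, 5, 3, 0, 2, 4, 2, 4, 2, 4, 2, 4, 2, 4, 1, 5, 3, 5, 3, 5, 3]
def rw677 : List ℕ := [3, 1, 1, 4, 0, 0, 2, 0, 4, 2, 4, 1, 4, 2, 4, 2, 5, 3, 5, 3, 5, 0, 5, 3, 5, 1]
def rw678 : List ℕ := [1, 3, 1, 4, 0, 2, 0, 2, 4, 2, 4, 1, 4, 2, 4, 2, 5, 3, 5, 3, 5, 0, 5, 3, 5, 3]
def rw679 : List ℕ := [5, 3, 1, 2, 4, 2, 4, 1, 4, 2, 4, 2, 1, 3, 1, 0, 0, 2, 0, 3, 5, 3, 5, 0, 5, 3]
def rw680 : List ℕ := [3, 5, 0, 5, 3, 5, 1, 3, 1, 1, 0, 0, 0, 2, 0, 4, 2, 4, 1, 4, 2, 4, 2, 1, 3, 5]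
def rw681 : List ℕ := [5, 3, 1, 3, 1, 2, 0, 2, 0, 2, 4, 2, 4, 1, 4, 2, 4, 2, 3, 3, 5, 3, 5, 0, 5, 3]
def rw682 : List ℕ := [5, 0, 5, 0, 2, 1, 3, 1, 4, 0, 2, 0, 3, 1, 4, 1, 4, 2, 4, 1, 4, 5, 5, 0, 5, 3]
def rw683 : List ℕ := [5, 3, 5, 5, 4, 2, 4, 1, 4, 2, 4, 1, 4, 0, 5, 3, 5, 0]
def rw684 : List ℕ := [0, 5, 0, 0, 5, 0, 5, 3, 4, 1, 4, 1, 1, 4, 1, 4, 1, 1, 2, 0, 0, 5]
def rw685 : List ℕ := [5, 3, 4, 1, 4, 1, 4, 1, 4, 1, 4, 1, 2, 0, 5, 0, 5, 0, 5, 0, 5, 0]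
def rw686 : List ℕ := [2, 4, 2, 4, 4, 2, 4, 2, 4, 4, 5, 5, 5, 3, 5, 3, 5, 5, 3, 5, 3, 4]
def rw687 : List ℕ := [4, 2, 4, 4, 2, 4, 2, 4, 4, 5, 5, 5, 3, 5, 3, 5, 5, 3, 5, 3, 4, 2]
def rw688 : List ℕ := [4, 1, 4, 2, 4, 2, 3, 3, 5, 3, 5, 0, 5, 3, 5, 1, 3, 1, 1, 2, 0, 0, 2, 0, 4, 2]
def rw689 : List ℕ := [1, 4, 2, 4, 1, 4, 1, 3, 1, 3, 1, 0, 0, 2, 0, 2, 0, 5, 0, 5, 3, 5, 0, 5, 1, 4]
def rw690 : List ℕ := [4, 1, 5, 0, 5, 3, 5, 0, 5, 0, 2, 1, 3, 1, 0, 0, 2, 0, 3, 1, 4, 1, 4, 2, 4, 1]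
def rw691 : List ℕ := [4, 2, 1, 3, 1, 0, 0, 2, 0, 3, 5, 3, 5, 0, 5, 3, 5, 3, 1, 2, 4, 2, 4, 1, 4, 2]
def rw692 : List ℕ := [4, 2, 4, 2, 1, 3, 1, 2, 0, 2, 0, 3, 5, 3, 5, 0, 5, 3, 5, 3, 3, 2, 4, 2, 4, 1]
def rw693 : List ℕ := [1, 4, 2, 4, 2, 0, 3, 1, 0, 0, 2, 1, 3, 5, 3, 5, 0, 5, 3, 5, 2, 1, 3, 4, 2, 4]
def rw694 : List ℕ := [1, 3, 3, 1, 0, 0, 2, 2, 0, 2, 5, 0, 5, 3, 5, 0, 5, 1, 4, 1, 4, 2, 4, 1, 4, 3]
def rw695 : List ℕ := [5, 3, 4, 2, 4, 2, 2, 4, 2, 4, 1, 3, 3, 1, 2, 0, 2, 2, 0, 5, 3, 5, 3, 3, 5, 3]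
def rw696 : List ℕ := [2, 4, 1, 3, 3, 1, 2, 0, 2, 2, 0, 5, 3, 5, 3, 3, 5, 3, 5, 3, 4, 2, 4, 2, 2, 4]
def rw697 : List ℕ := [1, 4, 1, 3, 5, 0, 5, 3, 1, 2, 0, 2, 4, 1, 4, 2, 0, 5, 0, 5, 0, 5, 3, 4, 1, 4]
def rw698 : List ℕ := [5, 3, 1, 4, 1, 3, 5, 3, 1, 0, 0, 2, 4, 2, 0, 5, 0, 2, 4, 2, 0, 5, 1, 4, 1, 3]
def rw699 : List ℕ := [0, 5, 0, 2, 4, 2, 0, 5, 1, 4, 1, 3, 5, 3, 1, 4, 1, 3, 5, 3, 1, 0, 0, 2, 4, 2]
def rw700 : List ℕ := [2, 0, 5, 3, 4, 1, 3, 5, 3, 1, 4, 1, 3, 5, 3, 1, 2, 0, 2, 4, 2, 0, 5, 0, 2, 4]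
def rw701 : List ℕ := [2, 0, 5, 3, 5, 1, 4, 2, 4, 1, 3, 5, 3, 5, 3, 5, 3, 1, 0, 0, 2, 4, 2, 4, 2, 4]
def rw702 : List ℕ := [2, 4, 2, 4, 3, 1, 0, 0, 2, 5, 3, 5, 3, 5, 2, 0, 5, 3, 5, 1, 4, 2, 4, 1, 3, 4]
def rw703 : List ℕ := [1, 4, 1, 2, 4, 1, 4, 2, 0, 5, 1, 0, 0, 4, 1, 3, 5, 0, 5, 3, 0, 5, 0, 5, 1, 4]
def rw704 : List ℕ := [3, 5, 3, 5, 2, 5, 3, 5, 3, 4, 2, 4, 2, 4, 3, 4, 2, 4, 2, 4, 4, 4, 5, 5, 5, 5]
def rw705 : List ℕ := [3, 3, 5, 1, 3, 1, 1, 4, 0, 0, 2, 0, 4, 2, 2, 7, 0, 2, 6, 3, 3, 5, 5, 4, 2, 2, 7, 3, 1, 6]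
def rw706 : List ℕ := [3, 0, 5, 1, 3, 1, 1, 4, 0, 0, 2, 0, 4, 1, 2, 7, 3, 1, 6, 0, 2, 5, 5, 4, 3, 1, 7, 0, 2, 6]
def rw707 : List ℕ := [3, 0, 5, 0, 2, 4, 3, 1, 7, 1, 3, 1, 1, 0, 0, 0, 2, 0, 6, 0, 2, 5, 3, 1, 4, 1, 2, 7, 1, 6]
def rw708 : List ℕ := [3, 1, 6, 3, 1, 3, 1, 0, 0, 2, 0, 2, 7, 0, 2, 6, 3, 0, 5, 0, 2, 4, 1, 5, 3, 1, 4, 1, 2, 7]
def rw709 : List ℕ := [1, 6, 3, 1, 3, 1, 2, 0, 2, 0, 2, 7, 0, 2, 6, 3, 0, 5, 0, 2, 4, 3, 5, 3, 1, 4, 1, 2, 7, 3]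
def rw710 : List ℕ := [0, 2, 7, 3, 1, 3, 1, 3, 1, 6, 0, 2, 0, 2]
def rw711 : List ℕ := [3, 0, 5, 1, 4, 1, 2, 7, 3, 1, 6, 0, 2, 5, 3, 1, 0, 0, 2, 4, 3, 1, 7, 0, 2, 6]
def rw712 : List ℕ := [7, 0, 2, 6, 3, 0, 5, 3, 5, 2, 3, 3, 4, 2, 4, 1, 2, 7, 3, 1, 6, 3, 4, 3, 1, 2, 0, 2, 5, 2]
def rw713 : List ℕ := [5, 2, 7, 3, 1, 2, 0, 2, 6, 3, 4, 3, 5, 5, 0, 5, 3, 3, 5, 7, 3, 6, 4, 2, 2, 4, 1, 4, 4, 2]
def rw714 : List ℕ := [3, 0, 5, 2, 7, 3, 1, 2, 0, 2, 6, 3, 4, 1, 2, 4, 4, 1, 4, 2, 5, 7, 3, 6, 4, 3, 5, 0, 5, 5]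
def rw715 : List ℕ := [3, 5, 0, 5, 3, 5, 3, 5, 2, 4, 2, 4, 1, 4, 2, 4, 2, 1, 3, 1, 4, 0, 2, 0, 3, 5]
def rw716 : List ℕ := [3, 1, 4, 0, 2, 4, 2, 4, 2, 4, 2, 0, 5, 3, 5, 5, 4, 2, 4, 1, 3, 5, 3, 5, 3, 5]
def rw717 : List ℕ := [3, 1, 2, 0, 2, 0, 3, 5, 3, 5, 0, 5, 3, 5, 3, 3, 2, 4, 2, 4, 1, 4, 2, 4, 2, 1]
def rw718 : List ℕ := [2, 0, 4, 0, 2, 0, 4, 2, 0, 2, 4, 1, 5, 3, 1, 3, 5, 1, 3, 1, 5, 1, 3, 1, 0, 0]
def rw719 : List ℕ := [1, 3, 3, 0, 2, 0, 0, 3]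
def rw720 : List ℕ := [0, 2, 6, 3, 3, 5, 5, 4, 2, 2, 7, 3, 1, 6, 3, 3, 5, 1, 3, 1, 1, 4, 0, 0, 2, 0, 4, 2, 2, 7]
def rw721 : List ℕ := [6, 3, 3, 5, 3, 1, 2, 0, 2, 4, 2, 2, 7, 3, 1, 6, 3, 3, 5, 3, 4, 2, 2, 7, 0, 2]
def rw722 : List ℕ := [2, 6, 0, 5, 3, 5, 3, 4, 2, 4, 1, 7, 3, 1, 6, 3, 4, 1, 4, 3, 1, 2, 0, 2, 5, 0, 5, 2, 7, 0]
def rw723 : List ℕ := [7, 7, 3, 1, 6, 3, 0, 5, 5, 6, 7, 7, 4, 4, 1, 2, 7, 0, 2, 6, 6, 3, 0, 3, 1, 6, 0, 2, 1, 2]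
def rw724 : List ℕ := [6, 0, 5, 3, 5, 3, 4, 2, 4, 1, 7, 3, 1, 6, 3, 4, 1, 4, 3, 1, 2, 0, 2, 5, 0, 5, 2, 7, 0, 2]
def rw725 : List ℕ := [4, 1, 3, 0, 5, 3, 1, 0, 0, 2, 4, 1, 2, 0, 5, 3, 5, 7, 0, 2, 6, 3, 1, 2, 7, 3, 1, 6, 4, 2]
def rw726 : List ℕ := [3, 1, 7, 3, 4, 3, 4, 1, 5, 2, 5, 2, 6, 0, 2, 6, 0, 2, 6, 3, 3, 1, 0, 0, 2, 2, 7, 3, 1, 7]
def rw727 : List ℕ := [2, 7, 3, 1, 7, 3, 1, 7, 3, 4, 3, 4, 7, 5, 2, 5, 2, 6, 0, 2, 6, 0, 2, 6, 3, 3, 1, 6, 0, 2]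
def rw728 : List ℕ := [3, 5, 3, 5, 3, 5, 3, 0, 2, 4, 2, 4, 2, 4, 2, 4, 2, 4, 1, 5, 3, 5]
def rw729 : List ℕ := [3, 5, 2, 4, 2, 4, 2, 1, 0, 0, 3, 5, 3, 5, 3, 4, 2, 0, 5, 3, 5, 1, 4, 2, 4, 1]
def rw730 : List ℕ := [2, 4, 2, 1, 2, 0, 3, 5, 3, 5, 3, 4, 2, 0, 5, 3, 5, 3, 4, 2, 4, 1, 3, 5, 2, 4]
def rw731 : List ℕ := [4, 1, 5, 3, 5, 3, 3, 5, 3, 5, 3, 3, 0, 2, 2, 4, 2, 4, 2, 2, 4, 2]
def rw732 : List ℕ := [3, 5, 1, 4, 2, 4, 1, 3, 3, 5, 3, 5, 3, 3, 1, 0, 0, 2, 2, 4, 2, 4, 2, 2, 0, 5]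
def rw733 : List ℕ := [2, 4, 0, 5, 3, 5, 3, 4, 2, 4, 1, 5, 3, 5, 3, 5, 5, 3, 1, 2, 0, 2, 4, 4, 2, 4]
def rw734 : List ℕ := [2, 4, 4, 2, 0, 5, 3, 5, 3, 4, 2, 4, 1, 3, 5, 5, 3, 5, 3, 5, 1, 2, 0, 4, 2, 4]
def rw735 : List ℕ := [5, 3, 5, 3, 5, 3, 5, 3, 2, 2, 4, 2, 4, 2, 4, 2, 4, 2, 4, 3, 5, 3]
def rw736 : List ℕ := [2, 0, 4, 1, 4, 2, 4, 1, 4, 1, 3, 5, 2, 0, 5, 0, 5, 3, 5, 0, 5, 1, 3, 1, 4, 0]
def rw737 : List ℕ := [2, 5, 3, 1, 3, 1, 3, 1, 4, 0, 2, 0, 2, 0]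
def rw738 : List ℕ := [1, 4, 2, 0, 4, 1, 4, 1, 4, 5, 5, 0, 5, 0, 5, 1, 3, 5, 0, 5, 3, 1, 4, 0, 2, 4]
def rw739 : List ℕ := [5, 0, 5, 5, 5, 0, 5, 0, 5, 1, 4, 0, 4, 1, 4, 1, 4, 4, 4, 1, 4, 1, 4, 5, 5, 0]
def rw740 : List ℕ := [0, 5, 0, 5, 0, 5, 3, 4, 1, 4, 1, 4, 1, 3, 5, 0, 5, 3, 1, 2, 0, 2, 4, 1, 4, 2]
def rw741 : List ℕ := [1, 4, 2, 0, 4, 1, 4, 1, 4, 1, 5, 0, 5, 0, 5, 1, 3, 5, 0, 5, 3, 1, 0, 0, 2, 4]
def rw742 : List ℕ := [6, 3, 0, 5, 0, 2, 4, 3, 5, 3, 1, 4, 1, 2, 7, 3, 1, 6, 3, 1, 3, 1, 2, 0, 2, 0, 2, 7, 0, 2]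
def rw743 : List ℕ := [2, 6, 3, 5, 2, 7, 3, 1, 6, 4, 2, 4, 1, 3, 0, 5, 3, 1, 4, 0, 2, 4, 1, 2, 0, 5, 3, 5, 7, 0]
def rw744 : List ℕ := [0, 2, 6, 3, 3, 5, 3, 1, 0, 0, 2, 4, 2, 2, 7, 3, 1, 6, 3, 3, 5, 1, 4, 2, 2, 7]
def rw745 : List ℕ := [0, 2, 6, 3, 0, 5, 0, 2, 4, 1, 5, 3, 1, 4, 1, 2, 7, 3, 1, 6, 3, 1, 3, 1, 0, 0, 2, 0, 2, 7]
def rw746 : List ℕ := [4, 1, 4, 4, 4, 1, 4, 1, 4, 1, 5, 0, 5, 0, 5, 5, 5, 0, 5, 0, 5, 1, 0, 0, 4, 1]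
def rw747 : List ℕ := [4, 2, 0, 5, 0, 5, 0, 5, 1, 4, 1, 4, 1, 4, 1, 3, 5, 0, 5, 3, 1, 0, 0, 2, 4, 1]
def rw748 : List ℕ := [2, 0, 5, 1, 3, 1, 0, 0, 2, 0, 4, 1, 3, 1, 4, 1, 3, 1, 4, 1, 5, 0, 2, 0, 5, 0]
def rw749 : List ℕ := [4, 1, 3, 1, 4, 0, 2, 0, 5, 0, 2, 0, 5, 0, 2, 0, 5, 5, 4, 1, 3, 1, 4, 1, 3, 1]
def rw750 : List ℕ := [5, 0, 2, 0, 5, 1, 3, 1, 2, 0, 2, 0, 4, 1, 3, 1, 4, 1, 3, 1, 4, 3, 5, 0, 2, 0]
def rw751 : List ℕ := [5, 0, 0, 5, 0, 5, 3, 4, 1, 4, 1, 1, 4, 1, 4, 1, 1, 2, 0, 0, 5, 0]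
def rw752 : List ℕ := [5, 0, 5, 1, 3, 5, 0, 5, 3, 1, 0, 0, 2, 4, 1, 4, 2, 0, 4, 1, 4, 1, 4, 1, 5, 0]
def rw753 : List ℕ := [0, 5, 0, 5, 0, 5, 3, 4, 1, 4, 1, 4, 1, 4, 1, 4, 1, 2, 0, 5, 0, 5]
def rw754 : List ℕ := [2, 0, 5, 0, 2, 0, 5, 1, 3, 1, 2, 0, 2, 0, 4, 1, 3, 1, 4, 1, 3, 1, 4, 3, 5, 0]
def rw755 : List ℕ := [2, 5, 5, 4, 3, 1, 3, 4, 1, 3, 1, 4, 1, 3, 1, 4, 0, 2, 0, 5, 0, 2, 0, 5, 2, 0]
def rw756 : List ℕ := [0, 4, 3, 1, 3, 4, 1, 3, 1, 4, 5, 5, 0, 2, 0, 5, 2, 0, 2, 5, 1, 3, 1, 4, 0, 2]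
def rw757 : List ℕ := [0, 2, 0, 0, 2, 1, 3, 1, 1, 3, 1, 1, 0, 0]
def rw758 : List ℕ := [1, 3, 3, 1, 2, 0, 2, 2, 0, 2, 2, 3, 3, 3]
def rw759 : List ℕ := [5, 3, 5, 2, 0, 5, 3, 5, 3, 4, 2, 4, 1, 3, 4, 2, 4, 2, 4, 3, 1, 2, 0, 2, 5, 3]
def rw760 : List ℕ := [1, 3, 1, 4, 1, 3, 1, 0, 0, 2, 0, 5, 0, 2, 0, 5, 0, 2, 0, 5, 1, 4, 1, 3, 1, 4]
def rw761 : List ℕ := [3, 1, 4, 0, 2, 4, 2, 0, 5, 0, 2, 4, 2, 0, 5, 5, 4, 1, 3, 5, 3, 1, 4, 1, 3, 5]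
def rw762 : List ℕ := [0, 5, 1, 4, 1, 4, 2, 4, 1, 4, 1, 3, 1, 3, 1, 0, 0, 2, 0, 2, 0, 5, 0, 5, 3, 5]
def rw763 : List ℕ := [5, 0, 5, 3, 1, 2, 0, 2, 4, 1, 4, 2, 0, 5, 0, 5, 0, 5, 3, 4, 1, 4, 1, 4, 1, 3]
def rw764 : List ℕ := [0, 5, 0, 5, 1, 2, 0, 4, 1, 4, 1, 4, 4, 4, 1, 4, 1, 4, 3, 5, 0, 5, 0, 5, 5, 5]
def rw765 : List ℕ := [4, 1, 4, 1, 4, 1, 4, 1, 4, 1, 0, 0, 5, 0, 5, 0, 5, 0, 5, 0, 5, 1]
def rw766 : List ℕ := [5, 5, 0, 5, 0, 5, 5, 1, 4, 4, 1, 4, 1, 4, 4, 1, 4, 1, 0, 0, 5, 0]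
def rw767 : List ℕ := [2, 4, 1, 4, 1, 1, 4, 1, 4, 2, 3, 3, 5, 0, 5, 0, 0, 5, 0, 5, 3, 1, 1, 2, 0, 0]
def rw768 : List ℕ := [1, 4, 1, 4, 1, 5, 1, 4, 0, 5, 0, 5, 0, 3, 5, 0, 5, 3, 1, 0, 0, 2, 4, 1, 4, 2]
def rw769 : List ℕ := [1, 1, 2, 0, 0, 4, 4, 0, 0, 5, 7, 3, 1, 6, 3, 3, 3, 2, 2, 7, 0, 2, 6, 4, 1, 1, 5, 5]
def rw770 : List ℕ := [5, 5, 1, 1, 5, 5, 1, 1, 0, 0, 0, 4, 4, 0, 0, 4, 4, 0, 0, 4, 4, 1, 5, 5, 1, 1]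
def rw771 : List ℕ := [5, 5, 5, 1, 1, 2, 0, 0, 4, 4, 4, 2, 2, 4, 2, 0, 4, 3, 5, 1, 3, 5, 3, 3]
def rw772 : List ℕ := [4, 4, 2, 2, 4, 2, 0, 4, 5, 5, 1, 3, 5, 3, 3, 5, 5, 5, 1, 1, 4, 0, 0, 4]
def rw773 : List ℕ := [4, 3, 5, 0, 5, 3, 5, 0, 5, 0, 2, 1, 3, 1, 2, 0, 2, 0, 3, 1, 4, 1, 4, 2, 4, 1]
def rw774 : List ℕ := [1, 4, 2, 4, 2, 2, 5, 3, 3, 5, 3, 5, 0, 5, 3, 5, 3, 3, 1, 4, 0, 2, 2, 4, 2, 4]
def rw775 : List ℕ := [3, 1, 4, 0, 2, 5, 0, 2, 5, 0, 2, 5, 0, 2, 5, 5, 4, 3, 1, 4, 3, 1, 4, 3, 1, 4]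
def rw776 : List ℕ := [5, 2, 4, 2, 4, 2, 5, 3, 5, 3]
def rw777 : List ℕ := [5, 0, 5, 5, 3, 4, 4, 1, 4, 1, 4, 4, 1, 4, 1, 2, 0, 5, 0, 5, 5, 0]
def rw778 : List ℕ := [5, 3, 5, 0, 5, 5, 4, 1, 4, 2, 4, 1, 4, 1, 3, 1, 3, 1, 4, 0, 2, 0, 2, 0, 5, 0]
def rw779 : List ℕ := [0, 2, 0, 4, 1, 4, 2, 4, 1, 4, 1, 3, 5, 2, 0, 5, 0, 5, 3, 5, 0, 5, 1, 3, 1, 4]
def rw780 : List ℕ := [3, 1, 3, 1, 0, 0, 2, 0, 2, 0, 2, 1, 3, 1]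
def rw781 : List ℕ := [5, 3, 0, 5, 0, 5, 5, 4, 1, 4, 1, 2, 4, 1, 4, 2, 0, 5, 1, 4, 0, 4, 1, 3, 5, 0]
def rw782 : List ℕ := [5, 3, 5, 0, 5, 3, 4, 1, 4, 2, 4, 1, 4, 1, 3, 1, 3, 1, 2, 0, 2, 0, 2, 0, 5, 0]
def rw783 : List ℕ := [5, 0, 0, 4, 1, 4, 1, 4, 4, 0, 5, 0]
def rw784 : List ℕ := [5, 3, 5, 0, 5, 0, 3, 1, 2, 0, 2, 1, 4, 1, 4, 2, 4, 1, 4, 1, 2, 3, 3, 0, 5, 0]
def rw785 : List ℕ := [4, 2, 0, 5, 1, 0, 0, 4, 1, 3, 5, 0, 5, 3, 0, 5, 0, 5, 1, 4, 1, 4, 1, 2, 4, 1]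
def rw786 : List ℕ := [3, 4, 1, 4, 2, 4, 1, 4, 1, 3, 1, 3, 1, 2, 0, 2, 0, 2, 0, 5, 0, 5, 3, 5, 0, 5]
def rw787 : List ℕ := [2, 4, 2, 4, 1, 3, 3, 1, 2, 0, 2, 2, 0, 5, 3, 5, 3, 3, 5, 3, 5, 3, 4, 2, 4, 2]
def rw788 : List ℕ := [2, 0, 4, 1, 4, 2, 4, 1, 4, 1, 3, 1, 2, 0, 5, 0, 5, 3, 5, 0, 5, 1, 3, 1, 0, 0]
def rw789 : List ℕ := [0, 2, 0, 5, 0, 2, 0, 5, 3, 1, 3, 5, 3, 4, 2, 0, 2, 4, 1, 3, 1, 4, 1, 3, 1, 2]
def rw790 : List ℕ := [4, 1, 4, 1, 3, 1, 3, 1, 2, 0, 2, 0, 2, 0, 5, 0, 5, 3, 5, 0, 5, 3, 4, 1, 4, 2]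
def rw791 : List ℕ := [4, 1, 4, 2, 0, 5, 1, 2, 0, 4, 1, 3, 5, 0, 5, 3, 0, 5, 0, 5, 3, 4, 1, 4, 1, 2]
def rw792 : List ℕ := [5, 0, 5, 3, 5, 1, 4, 2, 4, 1, 4, 2, 4, 1, 0, 0, 5, 3]
def rw793 : List ℕ := [1, 4, 1, 1, 2, 0, 0, 5, 0, 5, 0, 0, 5, 0, 5, 3, 4, 1, 4, 1, 1, 4]
def rw794 : List ℕ := [2, 0, 4, 2, 4, 1, 4, 2, 4, 2, 5, 3, 5, 3, 5, 0, 5, 3, 5, 1, 3, 1, 1, 4, 0, 0]
def rw795 : List ℕ := [3, 5, 3, 3, 5, 3, 5, 5, 4, 2, 4, 2, 2, 4, 2, 4, 1, 3, 3, 1, 4, 0, 2, 2, 0, 5]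
def rw796 : List ℕ := [1, 3, 0, 4, 4, 3, 4, 4, 0, 3, 1, 2, 0, 2, 1, 5, 5, 2, 5, 5, 1, 2, 0, 4, 3, 5]
def rw797 : List ℕ := [2, 1, 3, 4, 4, 3, 4, 4, 0, 3, 1, 2, 0, 2, 1, 5, 5, 2, 5, 5, 2, 0, 3, 4, 3, 5]
def rw798 : List ℕ := [3, 0, 0, 2, 0, 3, 3, 1]
def rw799 : List ℕ := [4, 2, 4, 1, 4, 0, 5, 3, 5, 0, 5, 3, 5, 5, 4, 2, 4, 1]
def rw800 : List ℕ := [5, 2, 0, 5, 2, 0, 5, 2, 3, 3, 4, 1, 3, 4, 1, 3, 4, 1, 3, 4, 1, 2, 0, 5, 2, 0]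
def rw801 : List ℕ := [3, 5, 0, 0, 5, 3, 3, 5, 1, 4, 2, 2, 4, 1, 1, 4, 2, 2, 4, 1, 1, 0, 0, 0, 5, 3]
def rw802 : List ℕ := [0, 2, 0, 2, 0, 2, 1, 3, 1, 3, 1, 3, 1, 0]
def rw803 : List ℕ := [0, 2, 0, 2, 1, 3, 1, 3, 1, 3, 1, 0, 0, 2]
def rw804 : List ℕ := [4, 4, 0, 4, 3, 5, 1, 5, 5, 1, 1, 5, 1, 5, 5, 1, 1, 2, 0, 0, 4, 4, 0, 4, 0, 0]
def rw805 : List ℕ := [5, 2, 5, 5, 1, 2, 0, 4, 1, 5, 1, 3, 0, 4, 4, 3, 4, 4, 0, 3, 1, 0, 0, 2, 1, 5]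
def rw806 : List ℕ := [2, 1, 5, 5, 2, 5, 5, 1, 2, 0, 4, 5, 5, 1, 3, 0, 4, 4, 3, 4, 4, 0, 3, 1, 4, 0]
def rw807 : List ℕ := [4, 4, 2, 0, 5, 3, 5, 1, 4, 2, 4, 1, 3, 5, 5, 3, 5, 3, 5, 1, 0, 0, 4, 2, 4, 2]
def rw808 : List ℕ := [2, 4, 2, 0, 5, 1, 4, 1, 3, 5, 3, 1, 4, 1, 3, 5, 3, 1, 0, 0, 2, 4, 2, 0, 5, 0]
def rw809 : List ℕ := [2, 4, 1, 0, 0, 5, 3, 5, 0, 5, 3, 5, 1, 4, 2, 4, 1, 4]
def rw810 : List ℕ := [5, 3, 5, 3, 1, 3, 1, 0, 0, 2, 0, 2, 4, 2, 4, 1, 4, 2, 4, 2, 1, 3, 5, 3, 5, 0]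
def rw811 : List ℕ := [1, 0, 0, 2, 5, 3, 5, 3, 5, 2, 0, 5, 3, 5, 1, 4, 2, 4, 1, 3, 4, 2, 4, 2, 4, 3]
def rw812 : List ℕ := [4, 2, 4, 3, 5, 3, 5, 3, 3, 5, 3, 5, 3, 3, 2, 2, 2, 4, 2, 4, 2, 2]
def rw813 : List ℕ := [5, 3, 3, 2, 2, 2, 4, 2, 4, 2, 2, 4, 2, 4, 3, 5, 3, 5, 3, 3, 5, 3]
def rw814 : List ℕ := [2, 0, 4, 2, 4, 1, 4, 2, 4, 2, 1, 3, 5, 3, 5, 0, 5, 3, 5, 1, 3, 1, 1, 0, 0, 0]
def rw815 : List ℕ := [0, 2, 0, 4, 2, 4, 1, 4, 2, 4, 2, 5, 3, 5, 3, 5, 0, 5, 3, 5, 1, 3, 1, 1, 4, 0]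
def rw816 : List ℕ := [2, 5, 1, 1, 4, 0, 0, 4, 3, 3, 4, 0, 0, 4, 3, 3, 4, 5, 5, 2, 2, 5, 1, 1, 5, 2]
def rw817 : List ℕ := [3, 3, 5, 3, 4, 4, 3, 5, 5, 2, 4, 2, 2, 4, 1, 5, 1, 1, 2, 0, 0, 4, 0, 5]
def rw818 : List ℕ := [5, 3, 5, 3, 4, 3, 5, 3, 5, 3, 3, 3, 2, 2, 2, 2, 4, 2, 4, 2, 5, 2, 4, 2, 4, 3]
def rw819 : List ℕ := [3, 0, 2, 2, 4, 2, 4, 2, 2, 4, 2, 4, 1, 5, 3, 5, 3, 3, 5, 3, 5, 3]
def rw820 : List ℕ := [4, 2, 4, 0, 5, 3, 5, 3, 4, 2, 4, 1, 5, 3, 5, 3, 5, 5, 3, 1, 2, 0, 2, 4, 4, 2]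
def rw821 : List ℕ := [3, 5, 3, 0, 2, 4, 2, 4, 2, 4, 2, 4, 2, 4, 1, 5, 3, 5, 3, 5, 3, 5]
def rw822 : List ℕ := [3, 1, 6, 0, 2, 5, 1, 4, 3, 1, 7, 0, 2, 6, 3, 0, 5, 1, 3, 1, 1, 0, 0, 0, 2, 0, 4, 1, 2, 7]
def rw823 : List ℕ := [2, 4, 4, 4, 1, 5, 5, 5, 3, 3, 5, 3, 1, 5, 1, 1, 0, 0, 0, 4, 0, 2, 4, 2]
def rw824 : List ℕ := [5, 0, 5, 0, 4, 0, 5, 0, 5, 5, 4, 1, 4, 1, 5, 1, 4, 1, 4, 1, 1, 1, 4, 0, 0, 0]
def rw825 : List ℕ := [1, 4, 1, 4, 1, 0, 0, 5, 0, 5, 0, 5, 0, 5, 0, 5, 1, 4, 1, 4, 1, 4]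
def rw826 : List ℕ := [5, 0, 0, 5, 3, 3, 5, 3, 4, 2, 2, 4, 1, 1, 4, 2, 2, 4, 1, 1, 2, 0, 0, 5, 3, 3]
def rw827 : List ℕ := [4, 2, 2, 4, 2, 4, 1, 3, 3, 1, 2, 0, 2, 2, 0, 5, 3, 5, 3, 3, 5, 3, 5, 3, 4, 2]
def rw828 : List ℕ := [5, 2, 0, 0, 0, 4, 2, 7, 3, 5, 1, 1, 1, 3, 4, 1, 2, 1, 1, 1, 6, 0, 0, 0, 3, 0]
def rw829 : List ℕ := [2, 1, 1, 1, 2, 0, 0, 0, 3, 0, 5, 1, 1, 3, 0, 4, 2, 3, 3, 5, 1, 2, 0, 0, 4, 1]
def rw830 : List ℕ := [5, 2, 0, 3, 0, 4, 2, 7, 3, 5, 1, 2, 1, 3, 4, 1, 2, 2, 1, 1, 6, 0, 0, 3, 3, 0]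
def rw831 : List ℕ := [2, 2, 2, 1, 3, 3, 3, 0, 5, 2, 0, 3, 0, 4, 1, 1, 0, 0, 0, 5, 1, 2, 1, 3, 4, 1]
def rw832 : List ℕ := [1, 3, 4, 1, 3, 4, 1, 2, 0, 5, 2, 0, 5, 2, 0, 5, 2, 0, 5, 2, 3, 3, 4, 1, 3, 4]
def rw833 : List ℕ := [2, 4, 4, 2, 4, 2, 4, 4, 5, 5, 5, 3, 5, 3, 5, 5, 3, 5, 3, 4, 2, 4]
def rw834 : List ℕ := [1, 4, 3, 1, 3, 3, 1, 4, 0, 2, 2, 0, 2, 5, 0, 5, 3, 5, 0, 5, 5, 4, 1, 4, 2, 4]
def rw835 : List ℕ := [3, 4, 1, 3, 4, 1, 3, 4, 1, 2, 0, 5, 2, 0, 5, 2, 0, 5, 2, 0, 5, 2, 3, 3, 4, 1]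
def rw836 : List ℕ := [3, 1, 3, 0, 0, 2, 0, 3]
def rw837 : List ℕ := [2, 5, 3, 4, 3, 1, 4, 3, 1, 4, 3, 1, 4, 3, 1, 2, 0, 2, 5, 0, 2, 5, 0, 2, 5, 0]
def rw838 : List ℕ := [2, 2, 4, 4, 3, 5, 5, 3, 3, 5, 5, 3, 3, 5, 5, 3, 3, 2, 2, 2, 4, 4, 2, 2, 4, 4]
def rw839 : List ℕ := [4, 4, 2, 2, 4, 4, 3, 5, 5, 3, 3, 5, 5, 3, 3, 5, 5, 3, 3, 2, 2, 2, 4, 4, 2, 2]
def rw840 : List ℕ := [2, 4, 4, 2, 2, 4, 4, 3, 5, 5, 3, 3, 5, 5, 3, 3, 5, 5, 3, 3, 2, 2, 2, 4, 4, 2]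
def rw841 : List ℕ := [1, 4, 1, 3, 1, 4, 1, 3, 1, 2, 0, 2, 0, 5, 0, 2, 0, 5, 0, 2, 0, 5, 3, 4, 1, 3]
def rw842 : List ℕ := [3, 4, 1, 3, 1, 4, 1, 3, 1, 2, 0, 2, 0, 5, 0, 2, 0, 5, 2, 0, 2, 5, 3, 4, 3, 1]
def rw843 : List ℕ := [2, 4, 1, 3, 1, 4, 1, 3, 1, 2, 0, 2, 0, 5, 0, 2, 0, 5, 3, 1, 3, 5, 3, 4, 2, 0]
def rw844 : List ℕ := [1, 3, 4, 1, 0, 0, 5, 2, 0, 5, 2, 0, 5, 2, 0, 5, 2, 1, 3, 4, 1, 3, 4, 1, 3, 4]
def rw845 : List ℕ := [3, 0, 3, 1, 7, 3, 3, 2, 6, 0, 2, 1, 2, 7, 4, 2, 0, 5, 1, 3, 1, 2, 0, 2, 0, 4, 1, 3, 5, 6]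
def rw846 : List ℕ := [0, 2, 2, 2, 7, 3, 3, 2, 6, 3, 3, 3, 1, 7, 4, 2, 0, 5, 1, 3, 1, 2, 0, 2, 0, 4, 1, 3, 5, 6]
def rw847 : List ℕ := [4, 2, 0, 5, 3, 4, 1, 3, 5, 6, 3, 0, 3, 1, 7, 1, 3, 1, 1, 2, 0, 0, 2, 0, 6, 0, 2, 1, 2, 7]
def rw848 : List ℕ := [2, 2, 7, 3, 5, 2, 6, 3, 3, 3, 1, 7, 4, 2, 0, 5, 1, 3, 1, 4, 0, 2, 0, 4, 1, 3, 5, 6, 0, 2]
def rw849 : List ℕ := [2, 2, 2, 7, 0, 2, 4, 2, 1, 3, 1, 4, 0, 2, 0, 3, 5, 3, 1, 6, 3, 3, 3, 1, 7, 4, 5, 5, 6, 0]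
def rw850 : List ℕ := [2, 7, 3, 5, 1, 3, 1, 0, 0, 2, 0, 4, 2, 6, 3, 3, 3, 1, 7, 4, 1, 4, 1, 5, 0, 5, 6, 0, 2, 2]
def rw851 : List ℕ := [2, 2, 7, 0, 2, 4, 0, 2, 1, 3, 1, 5, 3, 1, 6, 3, 3, 3, 1, 7, 4, 1, 1, 0, 0, 0, 5, 6, 0, 2]
def rw852 : List ℕ := [3, 1, 7, 3, 5, 2, 6, 0, 2, 1, 2, 7, 4, 2, 0, 5, 1, 3, 1, 4, 0, 2, 0, 4, 1, 3, 5, 6, 3, 0]
def rw853 : List ℕ := [1, 2, 7, 3, 5, 5, 4, 2, 6, 3, 0, 2, 2, 7, 4, 1, 4, 1, 3, 1, 4, 0, 2, 0, 5, 0, 5, 6, 3, 3]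
def rw854 : List ℕ := [3, 1, 2, 7, 3, 5, 3, 4, 2, 6, 3, 0, 2, 2, 7, 4, 1, 4, 1, 3, 1, 2, 0, 2, 0, 5, 0, 5, 6, 3]
def rw855 : List ℕ := [1, 1, 4, 0, 0, 4, 4, 4, 2, 2, 4, 2, 0, 4, 5, 5, 1, 3, 5, 3, 3, 5, 5, 5]
def rw856 : List ℕ := [1, 5, 5, 1, 1, 5, 5, 1, 1, 4, 0, 0, 4, 4, 0, 0, 4, 4, 0, 0, 4, 4, 5, 5, 5, 1]
def rw857 : List ℕ := [1, 3, 4, 1, 2, 1, 1, 1, 0, 0, 0, 0, 3, 0, 5, 2, 0, 0, 0, 4, 2, 1, 3, 5, 1, 1]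
def rw858 : List ℕ := [3, 0, 4, 1, 2, 2, 1, 1, 0, 0, 0, 3, 3, 0, 5, 1, 2, 0, 0, 4, 2, 1, 3, 5, 1, 1]
def rw859 : List ℕ := [3, 0, 4, 2, 1, 3, 5, 1, 2, 0, 0, 4, 1, 2, 1, 1, 1, 0, 0, 0, 0, 3, 0, 5, 1, 1]
def rw860 : List ℕ := [3, 0, 4, 2, 1, 3, 5, 1, 2, 1, 3, 4, 1, 2, 2, 1, 1, 0, 0, 0, 3, 3, 0, 5, 2, 0]
def rw861 : List ℕ := [5, 2, 0, 3, 0, 4, 1, 1, 0, 0, 0, 5, 1, 2, 1, 3, 4, 1, 2, 2, 2, 1, 3, 3, 3, 0]
def rw862 : List ℕ := [5, 2, 0, 3, 0, 4, 1, 2, 1, 2, 3, 3, 0, 3, 0, 5, 1, 2, 1, 3, 4, 1, 1, 2, 0, 0]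
def rw863 : List ℕ := [4, 2, 4, 0, 2, 1, 3, 1, 5, 3, 5, 0, 5, 3, 5, 3, 1, 1, 0, 0, 0, 2, 4, 2, 4, 1]
def rw864 : List ℕ := [4, 2, 4, 2, 4, 4, 2, 0, 5, 3, 5, 1, 4, 2, 4, 1, 3, 5, 5, 3, 5, 3, 5, 1, 0, 0]
def rw865 : List ℕ := [6, 4, 2, 4, 1, 3, 0, 5, 3, 1, 4, 0, 2, 4, 1, 2, 0, 5, 3, 5, 7, 0, 2, 6, 3, 5, 2, 7, 3, 1]
def rw866 : List ℕ := [1, 6, 3, 4, 1, 4, 3, 1, 2, 0, 2, 5, 0, 5, 2, 7, 0, 2, 6, 0, 5, 3, 5, 3, 4, 2, 4, 1, 7, 3]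
def rw867 : List ℕ := [4, 0, 2, 6, 3, 4, 2, 4, 2, 0, 5, 2, 7, 5, 6, 3, 4, 1, 3, 5, 3, 5, 2, 7, 3, 1]
def rw868 : List ℕ := [0, 5, 3, 1, 0, 0, 2, 4, 1, 6, 5, 2, 5, 2, 0, 5, 2, 7, 1, 6, 3, 4, 1, 3, 4, 3, 4, 7]
def rw869 : List ℕ := [0, 5, 3, 5, 5, 4, 2, 4, 1, 4, 2, 4, 1, 4, 0, 5, 3, 5]
def rw870 : List ℕ := [6, 3, 3, 1, 0, 0, 2, 2, 7, 4, 2, 0, 5, 3, 1, 6, 3, 1, 2, 7, 0, 2, 4, 1, 3, 5]
def rw871 : List ℕ := [1, 1, 4, 0, 0, 2, 0, 0, 2, 5, 3, 1, 1, 3]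
def rw872 : List ℕ := [0, 3, 1, 7, 3, 3, 2, 6, 0, 2, 1, 2, 7, 4, 2, 0, 5, 1, 3, 1, 2, 0, 2, 0, 4, 1, 3, 5, 6, 3]
def rw873 : List ℕ := [2, 2, 2, 7, 3, 3, 2, 6, 3, 3, 3, 1, 7, 4, 2, 0, 5, 1, 3, 1, 2, 0, 2, 0, 4, 1, 3, 5, 6, 0]
def rw874 : List ℕ := [4, 2, 4, 4, 7, 5, 5, 3, 5, 3, 5, 5, 3, 5, 3, 6, 2, 4, 2, 4, 4, 2]
def rw875 : List ℕ := [2, 5, 2, 7, 3, 1, 2, 0, 2, 6, 3, 4, 3, 5, 5, 0, 5, 3, 3, 5, 7, 3, 6, 4, 2, 2, 4, 1, 4, 4]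
def rw876 : List ℕ := [5, 5, 1, 2, 0, 4, 7, 5, 1, 3, 0, 4, 4, 3, 4, 4, 0, 3, 1, 6, 0, 2, 1, 5, 5, 2]
def rw877 : List ℕ := [2, 5, 2, 0, 5, 1, 4, 1, 3, 4, 3, 4, 7, 3, 5, 6, 3, 3, 1, 0, 0, 2, 2, 7, 4, 2, 6, 5]
def rw878 : List ℕ := [3, 4, 7, 5, 2, 5, 1, 3, 4, 3, 4, 3, 4, 3, 1, 6, 0, 2, 5, 2, 5, 2, 5, 2, 0, 4]
def rw879 : List ℕ := [4, 3, 5, 2, 5, 3, 4, 3, 5, 2, 5, 3, 2, 2, 4, 3, 4, 2, 5, 2, 4, 3, 4, 2, 5, 3]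
def rw880 : List ℕ := [3, 1, 4, 0, 2, 5, 5, 2, 5, 5, 1, 2, 0, 4, 3, 5, 2, 5, 1, 3, 0, 4, 4, 3, 4, 4]
def rw881 : List ℕ := [4, 3, 1, 4, 3, 1, 0, 0, 2, 5, 0, 2, 5, 0, 2, 5, 0, 2, 5, 1, 4, 3, 1, 4, 3, 1]
def rw882 : List ℕ := [5, 2, 5, 2, 5, 2, 0, 4, 3, 4, 5, 5, 2, 5, 1, 3, 4, 3, 4, 3, 4, 3, 1, 4, 0, 2]
def rw883 : List ℕ := [1, 3, 1, 1, 6, 0, 0, 2, 0, 6, 3, 4, 1, 3, 5, 3, 5, 2, 7, 7, 6, 3, 4, 2, 4, 2, 0, 5, 2, 7]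
def rw884 : List ℕ := [5, 3, 1, 4, 1, 2, 7, 1, 6, 3, 0, 5, 0, 2, 4, 3, 1, 7, 1, 3, 1, 1, 0, 0, 0, 2, 0, 6, 0, 2]
def rw885 : List ℕ := [1, 4, 1, 2, 7, 7, 6, 3, 0, 5, 0, 2, 4, 3, 1, 7, 1, 3, 1, 1, 6, 0, 0, 2, 0, 6, 0, 2, 5, 3]
def rw886 : List ℕ := [2, 4, 0, 6, 3, 6, 5, 3, 7, 2, 7, 1, 0, 0, 6, 3, 6, 2, 4, 7, 2, 7, 1, 5, 3, 1]
def rw887 : List ℕ := [1, 3, 5, 6, 3, 1, 2, 7, 4, 2, 0, 5, 3, 1, 6, 1, 3, 1, 1, 1, 0, 0, 0, 0, 2, 0, 7, 0, 2, 4]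
def rw888 : List ℕ := [2, 0, 2, 2, 7, 3, 3, 1, 3, 3, 1, 6, 0, 2]
def rw889 : List ℕ := [2, 1, 2, 0, 2, 2, 2, 3, 3, 3, 3, 1, 3, 0, 3, 1, 2, 0]
def rw890 : List ℕ := [3, 3, 1, 3, 3, 1, 0, 0, 2, 2, 0, 2, 2, 1]
def rw891 : List ℕ := [2, 2, 0, 2, 2, 3, 3, 3, 1, 3, 3, 1, 2, 0]
def rw892 : List ℕ := [5, 2, 5, 1, 0, 0, 4, 3, 4, 7, 0, 5, 6, 3, 0, 5, 3, 5, 1, 4, 2, 4, 1, 2, 7, 4, 1, 6]
def rw893 : List ℕ := [4, 4, 3, 4, 7, 7, 6, 5, 2, 5, 5, 3, 5, 2, 7, 4, 1, 6, 0, 5, 6, 3, 4, 2]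
def rw894 : List ℕ := [1, 3, 4, 3, 5, 2, 0, 2, 5, 1, 3, 1, 5, 1, 3, 1, 2, 0, 2, 0, 4, 0, 2, 0, 4, 3]
def rw895 : List ℕ := [2, 0, 4, 7, 4, 1, 3, 1, 2, 0, 2, 0, 5, 6, 5, 1, 3, 4, 3, 1, 5, 1, 7, 3, 6, 0, 4, 0, 2, 5]
def rw896 : List ℕ := [0, 5, 3, 5, 2, 4, 1, 2, 7, 3, 1, 6, 0, 2, 5, 1, 3, 1, 4, 0, 2, 0, 4, 3, 1, 7, 0, 2, 6, 3]
def rw897 : List ℕ := [1, 7, 4, 5, 5, 6, 0, 2, 7, 2, 7, 1, 5, 6, 3, 1, 3, 1, 4, 0, 2, 0, 2, 7, 4, 0, 6, 3, 6, 3]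
def rw898 : List ℕ := [2, 7, 2, 7, 4, 3, 5, 6, 3, 6, 3, 4, 3, 1, 7, 2, 7, 1, 3, 1, 2, 0, 2, 0, 6, 3, 6, 0, 2, 5]
def rw899 : List ℕ := [1, 7, 3, 1, 7, 3, 1, 7, 3, 4, 3, 4, 3, 3, 1, 0, 0, 2, 2, 5, 2, 5, 2, 6, 0, 2, 6, 0, 2, 6]
def rw900 : List ℕ := [3, 7, 3, 1, 7, 3, 1, 7, 3, 4, 3, 4, 3, 3, 1, 2, 0, 2, 2, 5, 2, 5, 2, 6, 0, 2, 6, 0, 2, 6]
def rw901 : List ℕ := [5, 7, 3, 1, 7, 3, 1, 7, 3, 4, 3, 4, 3, 3, 1, 4, 0, 2, 2, 5, 2, 5, 2, 6, 0, 2, 6, 0, 2, 6]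
def rw902 : List ℕ := [2, 7, 3, 1, 6, 0, 2, 5, 2, 7, 3, 4, 3, 1, 7, 0, 2, 6, 3, 0, 5, 3, 3, 1, 6, 0, 2, 2, 4, 1]
def rw903 : List ℕ := [5, 3, 5, 7, 4, 2, 4, 1, 3, 3, 5, 3, 5, 3, 3, 1, 6, 0, 2, 2, 4, 2, 4, 2, 2, 0]
def rw904 : List ℕ := [5, 2, 5, 2, 0, 5, 3, 3, 1, 6, 0, 2, 2, 4, 1, 3, 4, 3, 4, 7, 3, 5, 6, 7, 7, 4, 2, 6]
def rw905 : List ℕ := [1, 4, 3, 1, 3, 4, 1, 3, 1, 4, 1, 3, 1, 0, 0, 2, 0, 5, 0, 2, 0, 5, 2, 0, 2, 5]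
def rw906 : List ℕ := [4, 4, 4, 3, 4, 7, 4, 1, 4, 2, 6, 7, 7, 3, 5, 0, 5, 6, 5, 2, 5, 5, 5, 2, 5, 1, 6, 0, 4, 3]
def rw907 : List ℕ := [5, 6, 3, 0, 5, 3, 5, 3, 4, 2, 4, 1, 2, 7, 4, 1, 6, 5, 2, 5, 1, 2, 0, 4, 3, 4, 7, 0]
def rw908 : List ℕ := [4, 0, 4, 0, 4, 0, 4, 7, 5, 1, 5, 1, 5, 1, 5, 1, 5, 1, 6, 0, 4, 0]
def rw909 : List ℕ := [3, 4, 3, 6, 3, 7, 2, 5, 2, 5, 2, 6, 0, 4, 3, 4, 3, 3, 1, 2, 0, 2, 2, 5, 2, 5, 1, 7, 3, 4]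
def rw910 : List ℕ := [5, 2, 5, 2, 6, 0, 4, 3, 4, 3, 3, 1, 6, 0, 2, 2, 5, 2, 5, 1, 7, 3, 4, 3, 4, 3, 6, 7, 7, 2]
def rw911 : List ℕ := [5, 1, 5, 1, 2, 7, 1, 5, 1, 5, 1, 4, 0, 4, 0, 4, 0, 6, 3, 0, 4, 0, 4, 0, 6, 3, 5, 2, 7, 1]
def rw912 : List ℕ := [4, 3, 4, 3, 4, 3, 1, 2, 0, 2, 5, 2, 5, 2, 5, 2, 0, 4, 3, 4, 3, 5, 2, 5, 1, 3]
def rw913 : List ℕ := [3, 5, 3, 4, 2, 0, 5, 3, 5, 5, 4, 2, 4, 1, 3, 5, 2, 4, 2, 4, 2, 1, 4, 0, 3, 5]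
def rw914 : List ℕ := [4, 1, 4, 2, 4, 2, 1, 3, 5, 3, 5, 0, 5, 3, 5, 1, 3, 1, 1, 0, 0, 0, 2, 0, 4, 2]
def rw915 : List ℕ := [3, 1, 5, 1, 3, 1, 5, 1, 3, 1, 0, 0, 2, 0, 4, 0, 2, 0, 4, 0, 2, 0, 4, 1, 5, 1]
def rw916 : List ℕ := [2, 0, 5, 2, 0, 2, 5, 1, 3, 1, 0, 0, 2, 0, 4, 3, 1, 3, 4, 1, 3, 1, 4, 1, 5, 0]
def rw917 : List ℕ := [5, 5, 0, 5, 0, 5, 5, 3, 4, 4, 1, 4, 1, 4, 4, 1, 4, 1, 2, 0, 5, 0]
def rw918 : List ℕ := [1, 4, 1, 4, 0, 5, 0, 5, 5, 0, 5, 0, 5, 5, 5, 4, 4, 1, 4, 1, 4, 4]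
def rw919 : List ℕ := [5, 0, 5, 0, 5, 0, 5, 0, 5, 1, 4, 1, 4, 1, 4, 1, 4, 1, 4, 1, 0, 0]
def rw920 : List ℕ := [4, 2, 4, 2, 2, 0, 5, 3, 5, 5, 4, 2, 4, 1, 3, 3, 5, 3, 5, 3, 3, 1, 4, 0, 2, 2]
def rw921 : List ℕ := [5, 3, 5, 0, 5, 0, 2, 1, 3, 1, 6, 0, 2, 0, 3, 1, 4, 1, 4, 2, 4, 1, 4, 7, 5, 0]
def rw922 : List ℕ := [1, 4, 1, 4, 6, 3, 4, 3, 1, 2, 0, 2, 5, 2, 7, 5, 0, 5, 0, 3, 4, 3, 6, 3, 7, 2, 5, 2]
def rw923 : List ℕ := [0, 5, 0, 3, 4, 3, 6, 7, 7, 2, 5, 2, 1, 4, 1, 4, 6, 3, 4, 3, 1, 6, 0, 2, 5, 2, 7, 5]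
def rw924 : List ℕ := [1, 6, 0, 2, 0, 5, 0, 2, 0, 5, 3, 1, 3, 5, 7, 4, 2, 0, 2, 4, 1, 3, 1, 4, 1, 3]
def rw925 : List ℕ := [5, 3, 1, 6, 3, 1, 3, 1, 1, 4, 0, 0, 2, 0, 2, 7, 0, 2, 4, 1, 3, 5, 6, 3, 5, 2, 7, 4, 2, 0]
def rw926 : List ℕ := [0, 5, 3, 5, 6, 6, 3, 7, 2, 7, 7, 4, 2, 4, 1, 6, 3, 0, 6, 3, 4, 1, 6, 0, 5, 2, 7, 1, 2, 7]
def rw927 : List ℕ := [5, 3, 5, 3, 5, 3, 5, 3, 6, 2, 4, 2, 4, 2, 4, 2, 4, 2, 4, 7, 5, 3]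
def rw928 : List ℕ := [1, 1, 6, 0, 0, 2, 4, 2, 4, 1, 4, 2, 4, 0, 2, 7, 3, 1, 5, 3, 5, 0, 5, 3, 5, 3]
def rw929 : List ℕ := [4, 2, 4, 1, 4, 1, 3, 1, 3, 1, 2, 0, 2, 0, 2, 0, 5, 0, 5, 3, 5, 0, 5, 3, 4, 1]
def rw930 : List ℕ := [1, 4, 0, 2, 0, 2, 4, 2, 4, 1, 4, 2, 4, 2, 5, 3, 5, 3, 5, 0, 5, 3, 5, 3, 1, 3]
def rw931 : List ℕ := [1, 3, 3, 1, 2, 0, 2, 2, 0, 2, 5, 0, 5, 3, 5, 0, 5, 3, 4, 1, 4, 2, 4, 1, 4, 3]
def rw932 : List ℕ := [0, 2, 2, 0, 5, 0, 5, 3, 5, 0, 5, 2, 3, 3, 4, 1, 4, 2, 4, 1, 4, 1, 3, 3, 1, 2]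
def rw933 : List ℕ := [4, 2, 4, 4, 2, 0, 5, 3, 5, 1, 4, 2, 4, 1, 3, 5, 5, 3, 5, 3, 5, 1, 0, 0, 4, 2]
def rw934 : List ℕ := [4, 7, 3, 5, 6, 3, 3, 1, 4, 0, 2, 2, 7, 4, 2, 6, 5, 2, 5, 2, 0, 5, 5, 4, 1, 3, 4, 3]
def rw935 : List ℕ := [5, 6, 3, 3, 1, 4, 0, 2, 2, 7, 4, 1, 4, 2, 0, 2, 4, 2, 6, 3, 5, 2, 7, 3, 5, 3, 1, 3, 5, 0]
def rw936 : List ℕ := [0, 5, 3, 5, 3, 5, 6, 3, 3, 1, 4, 0, 2, 2, 7, 4, 2, 4, 2, 4, 1, 4, 1, 6, 3, 5, 2, 7, 0, 5]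
def rw937 : List ℕ := [2, 4, 2, 4, 6, 3, 3, 1, 0, 0, 2, 2, 7, 5, 3, 5, 3, 5, 1, 4, 1, 6, 3, 1, 2, 7, 0, 5, 0, 4]
def rw938 : List ℕ := [5, 3, 5, 3, 6, 3, 3, 1, 0, 0, 2, 2, 7, 2, 4, 2, 4, 2, 1, 4, 1, 6, 3, 1, 2, 7, 0, 5, 0, 3]
def rw939 : List ℕ := [1, 3, 3, 1, 2, 0, 2, 2, 0, 5, 3, 5, 3, 3, 5, 3, 5, 3, 4, 2, 4, 2, 2, 4, 2, 4]
def rw940 : List ℕ := [1, 3, 1, 4, 0, 2, 0, 2, 0, 2, 5, 3, 1, 3]
def rw941 : List ℕ := [1, 4, 1, 4, 1, 4, 1, 2, 0, 5, 0, 5, 0, 5, 0, 5, 0, 5, 3, 4, 1, 4]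
def rw942 : List ℕ := [4, 1, 4, 1, 1, 4, 1, 4, 2, 1, 3, 5, 0, 5, 0, 0, 5, 0, 5, 3, 1, 1, 0, 0, 0, 2]
def rw943 : List ℕ := [1, 4, 2, 4, 1, 4, 1, 3, 1, 3, 1, 6, 0, 2, 0, 2, 0, 5, 0, 5, 3, 5, 0, 5, 7, 4]
def rw944 : List ℕ := [1, 3, 1, 3, 1, 6, 0, 2, 0, 2, 0, 5, 0, 5, 3, 5, 0, 5, 7, 4, 1, 4, 2, 4, 1, 4]
def rw945 : List ℕ := [5, 1, 3, 1, 4, 0, 2, 0, 4, 1, 3, 1, 4, 1, 3, 1, 4, 5, 5, 0, 2, 0, 5, 0, 2, 0]
def rw946 : List ℕ := [0, 2, 4, 1, 3, 1, 4, 3, 5, 0, 2, 0, 5, 3, 1, 3, 5, 1, 3, 1, 2, 0, 2, 0, 4, 2]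
def rw947 : List ℕ := [1, 3, 1, 4, 5, 5, 0, 2, 0, 5, 3, 1, 3, 5, 1, 3, 1, 4, 0, 2, 0, 4, 2, 0, 2, 4]
def rw948 : List ℕ := [3, 3, 5, 1, 3, 1, 1, 2, 0, 0, 2, 0, 4, 2, 2, 7, 0, 2, 6, 3, 3, 5, 3, 4, 2, 2, 7, 3, 1, 6]
def rw949 : List ℕ := [2, 2, 2, 7, 3, 1, 4, 2, 0, 5, 0, 2, 6, 7, 7, 3, 1, 4, 1, 3, 5, 0, 2, 6, 3, 3, 3, 1, 6, 0]
def rw950 : List ℕ := [2, 0, 2, 2, 1, 3, 3, 1, 3, 3, 1, 0, 0, 2]
def rw951 : List ℕ := [2, 7, 4, 2, 0, 5, 3, 1, 6, 7, 7, 0, 2, 4, 1, 3, 5, 6, 3, 0, 3, 1, 6, 0, 2, 1]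
def rw952 : List ℕ := [1, 7, 3, 5, 1, 3, 1, 4, 0, 2, 0, 4, 2, 6, 0, 2, 1, 2, 7, 4, 1, 4, 5, 5, 0, 5, 6, 3, 0, 3]
def rw953 : List ℕ := [2, 7, 3, 3, 1, 3, 3, 1, 6, 0, 2, 2, 0, 2]
def rw954 : List ℕ := [1, 2, 7, 3, 5, 3, 4, 2, 6, 3, 0, 2, 2, 7, 4, 1, 4, 1, 3, 1, 2, 0, 2, 0, 5, 0, 5, 6, 3, 3]
def rw955 : List ℕ := [0, 5, 3, 1, 6, 3, 3, 3, 1, 6, 0, 2, 2, 2, 7, 0, 2, 4, 1, 3, 5, 6, 7, 7, 4, 2]
def rw956 : List ℕ := [2, 4, 1, 4, 2, 4, 1, 0, 0, 5, 3, 5, 0, 5, 3, 5, 1, 4]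
def rw957 : List ℕ := [5, 3, 0, 2, 4, 2, 4, 2, 4, 2, 4, 2, 4, 1, 5, 3, 5, 3, 5, 3, 5, 3]
def rw958 : List ℕ := [2, 0, 2, 4, 2, 4, 1, 4, 2, 4, 2, 3, 3, 5, 3, 5, 0, 5, 3, 5, 3, 1, 3, 1, 2, 0]
def rw959 : List ℕ := [3, 5, 3, 5, 0, 5, 3, 5, 3, 3, 2, 4, 2, 4, 1, 4, 2, 4, 2, 1, 3, 1, 2, 0, 2, 0]
def rw960 : List ℕ := [0, 2, 5, 3, 5, 0, 5, 3, 5, 3, 1, 0, 0, 2, 4, 2, 4, 1, 4, 2, 4, 3, 1, 3, 1, 2]
def rw961 : List ℕ := [0, 5, 0, 3, 1, 2, 0, 2, 1, 4, 1, 4, 2, 4, 1, 4, 1, 2, 3, 3, 0, 5, 0, 5, 3, 5]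
def rw962 : List ℕ := [5, 0, 5, 0, 0, 5, 0, 5, 1, 4, 1, 4, 1, 1, 4, 1, 4, 1, 1, 0, 0, 0]
def rw963 : List ℕ := [2, 4, 1, 3, 5, 6, 3, 0, 3, 1, 6, 0, 2, 1, 2, 7, 4, 2, 0, 5, 3, 1, 6, 7, 7, 0]
def rw964 : List ℕ := [1, 3, 3, 5, 3, 1, 6, 7, 7, 0, 2, 4, 2, 2, 0, 2, 5, 6, 3, 0, 3, 1, 6, 0, 2, 1, 2, 7, 4, 3]
def rw965 : List ℕ := [2, 4, 4, 4, 7, 5, 5, 5, 3, 3, 5, 3, 1, 5, 1, 1, 6, 0, 0, 4, 0, 2, 4, 2]
def rw966 : List ℕ := [5, 1, 1, 6, 0, 0, 4, 0, 5, 3, 3, 5, 3, 4, 4, 7, 5, 5, 2, 4, 2, 2, 4, 1]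
def rw967 : List ℕ := [5, 1, 1, 5, 5, 1, 5, 1, 1, 0, 0, 0, 4, 0, 4, 4, 0, 0, 4, 0, 4, 4, 1, 5, 5, 1]
def rw968 : List ℕ := [0, 5, 1, 1, 1, 6, 0, 0, 0, 4, 1, 1, 3, 0, 3, 0, 5, 2, 7, 3, 4, 1, 2, 1, 2, 0]
def rw969 : List ℕ := [5, 1, 1, 1, 6, 0, 0, 0, 4, 1, 1, 3, 0, 3, 0, 5, 2, 7, 3, 4, 1, 2, 1, 2, 0, 0]
def rw970 : List ℕ := [3, 3, 0, 5, 1, 1, 1, 6, 0, 0, 0, 4, 1, 2, 2, 1, 1, 3, 5, 2, 7, 3, 4, 2, 0, 0]
def rw971 : List ℕ := [5, 1, 4, 3, 1, 6, 0, 2, 5, 0, 4, 1, 5, 0, 6, 3, 7, 5, 6, 3, 7, 2, 7, 4, 6, 2, 7, 1, 4, 0]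
def rw972 : List ℕ := [6, 3, 7, 5, 6, 3, 3, 2, 7, 4, 6, 2, 7, 1, 4, 0, 5, 1, 4, 3, 1, 2, 0, 2, 5, 0, 4, 1, 5, 0]
def rw973 : List ℕ := [5, 3, 3, 5, 3, 1, 5, 1, 1, 0, 0, 0, 4, 0, 2, 4, 2, 2, 4, 4, 4, 1, 5, 5]
def rw974 : List ℕ := [5, 5, 3, 3, 5, 3, 1, 5, 1, 1, 0, 0, 0, 4, 0, 2, 4, 2, 2, 4, 4, 4, 1, 5]
def rw975 : List ℕ := [4, 7, 5, 2, 5, 1, 3, 4, 3, 4, 3, 4, 3, 1, 6, 0, 2, 5, 2, 5, 2, 5, 2, 0, 4, 3]
def rw976 : List ℕ := [4, 0, 3, 4, 7, 3, 6, 5, 2, 1, 5, 2, 1, 2, 2, 2, 5, 7, 3, 1, 2, 0, 2, 6, 4, 3, 3, 3, 0, 3]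
def rw977 : List ℕ := [3, 5, 3, 5, 3, 1, 4, 1, 6, 3, 5, 2, 7, 0, 5, 0, 2, 4, 2, 4, 2, 6, 3, 3, 1, 4, 0, 2, 2, 7]
def rw978 : List ℕ := [1, 6, 0, 2, 5, 3, 1, 4, 0, 2, 4, 3, 1, 7, 0, 2, 6, 3, 0, 5, 5, 4, 1, 2, 7, 3]
def rw979 : List ℕ := [6, 3, 3, 1, 0, 0, 2, 2, 7, 4, 1, 4, 2, 0, 2, 4, 2, 6, 3, 1, 2, 7, 3, 5, 3, 1, 3, 5, 0, 5]
def rw980 : List ℕ := [7, 2, 7, 4, 3, 1, 3, 6, 3, 6, 7, 7, 2, 7, 2, 0, 2, 5, 6, 3, 6, 3, 4, 3, 1, 6, 0, 2, 5, 2]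
def rw981 : List ℕ := [0, 5, 3, 1, 6, 3, 3, 3, 1, 2, 0, 2, 2, 2, 7, 0, 2, 4, 1, 3, 5, 6, 3, 7, 4, 2]
def rw982 : List ℕ := [5, 3, 1, 6, 0, 2, 4, 3, 1, 7, 0, 2, 6, 3, 0, 5, 7, 4, 1, 2, 7, 3, 1, 6, 0, 2]
def rw983 : List ℕ := [1, 3, 5, 6, 3, 0, 3, 1, 0, 0, 2, 1, 2, 7, 4, 2, 0, 5, 3, 1, 6, 1, 7, 0, 2, 4]
def rw984 : List ℕ := [4, 2, 4, 2, 0, 5, 3, 5, 3, 4, 2, 4, 1, 3, 5, 3, 5, 3, 5, 3, 1, 2, 0, 2, 4, 2]
def rw985 : List ℕ := [6, 3, 6, 1, 2, 7, 4, 3, 1, 2, 0, 2, 5, 6, 3, 0, 7, 2, 7, 2, 0, 3, 5, 6, 3, 7, 4, 2, 1, 3]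
def rw986 : List ℕ := [7, 2, 7, 2, 0, 3, 5, 6, 7, 7, 4, 2, 1, 3, 6, 3, 6, 1, 2, 7, 4, 3, 1, 6, 0, 2, 5, 6, 3, 0]
def rw987 : List ℕ := [6, 1, 2, 7, 3, 0, 7, 4, 3, 1, 7, 4, 7, 2, 7, 3, 3, 1, 6, 0, 2, 2, 6, 3, 6, 5, 6, 0, 2, 5]
def rw988 : List ℕ := [7, 2, 7, 2, 0, 4, 7, 2, 7, 1, 5, 2, 7, 3, 4, 0, 6, 3, 6, 5, 1, 3, 6, 3, 6, 3, 1, 6, 0, 2]
def rw989 : List ℕ := [3, 6, 3, 1, 7, 4, 3, 1, 6, 0, 2, 5, 6, 0, 2, 7, 2, 7, 1, 5, 6, 7, 7, 4, 0, 6]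
def rw990 : List ℕ := [2, 7, 4, 7, 5, 6, 3, 6, 3, 4, 3, 6, 3, 6, 3, 1, 6, 0, 2, 7, 2, 7, 2, 5, 2, 7]
def rw991 : List ℕ := [5, 7, 4, 6, 3, 6, 4, 2, 0, 5, 0, 6, 3, 6, 3, 1, 6, 0, 2, 7, 2, 7, 1, 4, 1, 3, 5, 7, 2, 7]
def rw992 : List ℕ := [3, 6, 3, 6, 7, 7, 2, 7, 2, 5, 2, 7, 2, 7, 4, 1, 3, 1, 1, 6, 0, 0, 2, 0, 5, 6, 3, 6, 3, 4]
def rw993 : List ℕ := [4, 7, 2, 7, 1, 5, 2, 5, 6, 3, 6, 3, 4, 7, 5, 2, 7, 2, 7, 4, 3, 4, 0, 6, 3, 6, 5, 1, 6, 0]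
def rw994 : List ℕ := [2, 5, 2, 0, 4, 7, 4, 1, 3, 1, 4, 0, 2, 0, 5, 6, 5, 1, 3, 4, 3, 1, 5, 1, 7, 5, 6, 0, 4, 0]
def rw995 : List ℕ := [4, 7, 2, 0, 4, 7, 2, 0, 4, 7, 3, 1, 6, 0, 2, 6, 5, 1, 3, 6, 5, 1, 3, 6, 5, 2, 2, 7, 3, 3]
def rw996 : List ℕ := [3, 4, 7, 5, 2, 5, 2, 7, 2, 7, 2, 5, 6, 3, 6, 5, 1, 6, 0, 4, 7, 2, 7, 4, 3, 6, 3, 6, 3, 4]
def rw997 : List ℕ := [3, 6, 5, 6, 0, 2, 5, 6, 7, 7, 4, 3, 1, 7, 4, 7, 2, 7, 1, 3, 1, 6, 0, 2, 0, 6]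
def rw998 : List ℕ := [5, 3, 1, 2, 0, 2, 4, 3, 1, 7, 0, 2, 6, 3, 0, 5, 3, 4, 1, 2, 7, 3, 1, 6, 0, 2]
def rw999 : List ℕ := [3, 3, 3, 1, 6, 0, 2, 2, 2, 7, 0, 2, 4, 3, 1, 3, 0, 5, 6, 7, 7, 4, 1, 2, 0, 2, 5, 3, 1, 6]
def rw1000 : List ℕ := [2, 0, 4, 3, 1, 6, 0, 2, 5, 1, 3, 4, 7, 4, 0, 5, 6, 3, 7, 7, 6, 2, 7, 4, 1, 5, 6, 5]
def rw1001 : List ℕ := [3, 6, 4, 6, 2, 7, 4, 1, 0, 0, 5, 6, 3, 7, 5, 7, 2, 7, 1, 6, 3, 4, 1, 5, 2, 7, 0, 6]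
def rw1002 : List ℕ := [6, 3, 3, 0, 2, 2, 7, 5, 2, 5, 2, 5, 7, 3, 5, 3, 5, 7, 1, 6, 4, 2, 4, 2, 6, 4, 3, 4, 3, 4]
def rw1003 : List ℕ := [7, 0, 2, 6, 3, 7, 2, 7, 3, 1, 6, 4, 2, 4, 1, 3, 0, 5, 3, 1, 6, 0, 2, 4, 1, 2, 0, 5, 3, 5]
def rw1004 : List ℕ := [4, 0, 7, 3, 5, 6, 3, 7, 2, 7, 4, 2, 6, 1, 5, 3, 1, 5, 5, 0, 3, 1, 6, 0, 2, 1, 4, 4, 0, 2]
def rw1005 : List ℕ := [2, 4, 6, 7, 7, 5, 3, 5, 3, 5, 1, 4, 1, 6, 3, 3, 3, 1, 6, 0, 2, 2, 2, 7, 0, 5, 0, 4, 2, 4]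
def rw1006 : List ℕ := [5, 3, 5, 2, 7, 1, 6, 3, 4, 2, 4, 2, 0, 5, 2, 7, 1, 3, 1, 1, 0, 0, 0, 2, 0, 6, 3, 4, 1, 3]
def rw1007 : List ℕ := [5, 1, 3, 1, 5, 1, 3, 1, 0, 0, 2, 0, 4, 0, 2, 0, 4, 2, 0, 2, 4, 1, 5, 3, 1, 3]
def rw1008 : List ℕ := [2, 1, 4, 1, 4, 2, 4, 1, 4, 1, 2, 7, 3, 0, 5, 0, 5, 3, 5, 0, 5, 0, 3, 1, 6, 0]
def rw1009 : List ℕ := [4, 1, 2, 7, 0, 3, 1, 2, 0, 2, 1, 6, 3, 0, 5, 0, 2, 4, 3, 1, 7, 2, 3, 3, 6, 0, 2, 5, 3, 1]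
def rw1010 : List ℕ := [1, 3, 1, 1, 6, 0, 0, 2, 0, 6, 0, 2, 5, 3, 1, 4, 1, 2, 7, 7, 6, 3, 0, 5, 0, 2, 4, 3, 1, 7]
def rw1011 : List ℕ := [2, 1, 2, 7, 4, 1, 4, 3, 5, 0, 5, 6, 3, 0, 3, 1, 7, 3, 5, 1, 3, 1, 2, 0, 2, 0, 4, 2, 6, 0]
def rw1012 : List ℕ := [3, 5, 7, 0, 2, 6, 7, 7, 3, 1, 6, 4, 2, 4, 1, 3, 0, 5, 0, 3, 1, 6, 0, 2, 1, 4, 1, 2, 0, 5]
def rw1013 : List ℕ := [2, 4, 1, 4, 2, 4, 2, 5, 3, 5, 3, 5, 0, 5, 3, 5, 3, 1, 3, 1, 4, 0, 2, 0, 2, 4]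
def rw1014 : List ℕ := [1, 4, 2, 4, 2, 3, 3, 5, 3, 5, 0, 5, 3, 5, 3, 1, 3, 1, 2, 0, 2, 0, 2, 4, 2, 4]
def rw1015 : List ℕ := [7, 3, 1, 6, 0, 2, 5, 1, 3, 1, 0, 0, 2, 0, 4, 3, 1, 7, 0, 2, 6, 3, 0, 5, 3, 1, 2, 4, 1, 2]
def rw1016 : List ℕ := [7, 4, 2, 4, 2, 2, 4, 2, 4, 1, 3, 3, 1, 6, 0, 2, 2, 0, 5, 3, 5, 3, 3, 5, 3, 5]
def rw1017 : List ℕ := [7, 4, 2, 0, 5, 3, 4, 1, 3, 5, 6, 0, 2, 2, 2, 7, 3, 1, 3, 1, 2, 0, 2, 0, 2, 6, 3, 3, 3, 1]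
def rw1018 : List ℕ := [3, 5, 3, 5, 3, 3, 4, 2, 2, 4, 2, 4, 2, 2, 4, 2, 4, 5, 5, 3, 5, 3]
def rw1019 : List ℕ := [3, 6, 4, 2, 0, 5, 7, 2, 7, 2, 7, 3, 6, 3, 6, 4, 1, 3, 5, 7, 2, 7, 5, 3, 1, 6, 0, 2, 4, 6]
def rw1020 : List ℕ := [2, 7, 5, 1, 6, 0, 4, 6, 3, 4, 1, 6, 0, 7, 7, 2, 6, 3, 7, 2, 7, 3, 6, 6, 1, 7, 0, 5]
def rw1021 : List ℕ := [2, 5, 7, 3, 1, 0, 0, 2, 6, 4, 3, 5, 0, 5, 2, 4, 2, 2, 2, 7, 1, 6, 3, 3, 3, 5, 3, 4, 1, 4]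
def rw1022 : List ℕ := [2, 1, 2, 7, 4, 5, 5, 6, 3, 0, 3, 1, 7, 0, 2, 4, 2, 1, 3, 1, 4, 0, 2, 0, 3, 5, 3, 1, 6, 0]
def rw1023 : List ℕ := [0, 2, 2, 7, 4, 1, 1, 2, 0, 0, 5, 6, 3, 3, 1, 2, 7, 0, 2, 4, 0, 2, 3, 3, 1, 5, 3, 1, 6, 3]
def rw1024 : List ℕ := [5, 5, 3, 5, 2, 7, 4, 1, 0, 0, 5, 6, 3, 4, 2, 4, 4, 3, 4, 7, 1, 6, 5, 2]
def rw1025 : List ℕ := [4, 3, 4, 7, 3, 6, 5, 2, 5, 2, 4, 3, 5, 3, 5, 7, 4, 1, 2, 0, 5, 6, 4, 2, 4, 2, 5, 3]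
def rw1026 : List ℕ := [5, 3, 5, 2, 7, 4, 1, 6, 0, 5, 6, 3, 4, 2, 4, 4, 3, 4, 7, 7, 6, 5, 2, 5]
def rw1027 : List ℕ := [0, 5, 3, 5, 3, 3, 5, 3, 5, 3, 4, 2, 4, 2, 2, 4, 2, 4, 1, 3, 3, 1, 2, 0, 2, 2]
def rw1028 : List ℕ := [2, 4, 4, 1, 5, 5, 3, 3, 5, 5, 3, 3, 5, 5, 3, 3, 0, 2, 2, 4, 4, 2, 2, 4, 4, 2]
def rw1029 : List ℕ := [1, 1, 5, 0, 4, 4, 1, 5, 5, 1, 4, 0, 0, 4, 4, 0, 5, 1, 1, 0, 0, 0, 4, 1, 5, 5]
def rw1030 : List ℕ := [2, 0, 5, 0, 5, 3, 5, 0, 5, 2, 5, 3, 4, 1, 4, 2, 4, 1, 4, 1, 3, 3, 1, 4, 0, 2]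
def rw1031 : List ℕ := [0, 2, 5, 0, 2, 5, 0, 2, 5, 1, 4, 3, 1, 4, 3, 1, 4, 3, 1, 4, 3, 1, 0, 0, 2, 5]
def rw1032 : List ℕ := [1, 3, 0, 5, 0, 5, 7, 4, 1, 3, 1, 2, 0, 2, 0, 5, 6, 4, 1, 4, 1, 2, 0, 4, 7, 3, 6, 5]
def rw1033 : List ℕ := [5, 6, 4, 1, 4, 1, 2, 0, 4, 7, 7, 6, 5, 1, 3, 0, 5, 0, 5, 7, 4, 1, 3, 1, 6, 0, 2, 0]
def rw1034 : List ℕ := [3, 5, 0, 5, 7, 4, 1, 3, 1, 2, 0, 2, 0, 5, 6, 4, 1, 4, 2, 0, 3, 4, 7, 3, 6, 5, 2, 1]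
def rw1035 : List ℕ := [1, 4, 1, 4, 3, 5, 0, 5, 0, 5, 1, 3, 5, 0, 5, 3, 1, 2, 0, 2, 4, 1, 4, 2, 0, 4]
def rw1036 : List ℕ := [1, 3, 5, 0, 5, 3, 1, 4, 0, 2, 4, 1, 4, 2, 0, 4, 1, 4, 1, 4, 5, 5, 0, 5, 0, 5]
def rw1037 : List ℕ := [2, 4, 1, 4, 2, 4, 2, 1, 3, 5, 3, 5, 0, 5, 3, 5, 1, 3, 1, 1, 0, 0, 0, 2, 0, 4]
def rw1038 : List ℕ := [4, 0, 2, 0, 4, 3, 1, 3, 4, 7, 5, 2, 0, 2, 5, 1, 3, 1, 5, 1, 3, 1, 6, 0, 2, 0]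
def rw1039 : List ℕ := [0, 5, 0, 5, 0, 4, 4, 1, 4, 1, 4, 0]
def rw1040 : List ℕ := [0, 5, 1, 4, 1, 4, 1, 1, 4, 1, 4, 1, 1, 0, 0, 0, 5, 0, 5, 0, 0, 5]
def rw1041 : List ℕ := [1, 1, 2, 0, 0, 4, 0, 2, 4, 2, 2, 4, 4, 4, 3, 5, 5, 5, 3, 3, 5, 3, 1, 5]
def rw1042 : List ℕ := [2, 2, 4, 1, 5, 1, 1, 2, 0, 0, 4, 0, 5, 3, 3, 5, 3, 4, 4, 3, 5, 5, 2, 4]
def rw1043 : List ℕ := [5, 1, 4, 2, 2, 4, 2, 5, 5, 1, 1, 0, 0, 0, 4, 4, 3, 5, 3, 3, 5, 0, 4, 1]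
def rw1044 : List ℕ := [1, 1, 6, 0, 0, 2, 0, 4, 2, 4, 1, 4, 2, 4, 2, 7, 3, 5, 3, 5, 0, 5, 3, 5, 1, 3]
def rw1045 : List ℕ := [1, 4, 0, 0, 4, 4, 0, 5, 1, 1, 0, 0, 0, 4, 1, 5, 5, 1, 1, 5, 0, 4, 4, 1, 5, 5]
def rw1046 : List ℕ := [0, 4, 4, 0, 4, 1, 5, 1, 5, 5, 1, 1, 5, 1, 5, 5, 1, 1, 0, 0, 0, 4, 4, 0, 4, 0]
def rw1047 : List ℕ := [5, 1, 3, 4, 3, 4, 3, 4, 3, 1, 4, 0, 2, 5, 2, 5, 2, 5, 2, 0, 4, 3, 4, 5, 5, 2]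
def rw1048 : List ℕ := [6, 3, 0, 3, 1, 6, 0, 2, 1, 2, 7, 4, 2, 0, 5, 3, 1, 6, 7, 7, 0, 2, 4, 1, 3, 5]
def rw1049 : List ℕ := [6, 3, 3, 3, 1, 6, 0, 2, 2, 2, 7, 0, 2, 4, 1, 3, 5, 6, 7, 7, 4, 2, 0, 5, 3, 1]
def rw1050 : List ℕ := [6, 3, 3, 6, 3, 6, 4, 2, 7, 1, 3, 1, 2, 0, 2, 0, 6, 3, 5, 7, 2, 7, 2, 2, 7, 7, 3, 6]
def rw1051 : List ℕ := [1, 3, 0, 5, 0, 5, 7, 4, 5, 5, 6, 4, 1, 4, 1, 2, 0, 4, 7, 1, 3, 1, 4, 0, 2, 0, 6, 5]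
def rw1052 : List ℕ := [2, 1, 3, 5, 0, 5, 7, 4, 5, 5, 6, 4, 1, 4, 2, 0, 3, 4, 7, 1, 3, 1, 4, 0, 2, 0, 6, 5]
def rw1053 : List ℕ := [1, 2, 0, 2, 0, 6, 6, 3, 3, 6, 3, 6, 4, 2, 7, 3, 6, 3, 5, 7, 2, 7, 2, 2, 7, 7, 1, 3]
def rw1054 : List ℕ := [2, 6, 6, 3, 3, 6, 3, 6, 4, 2, 7, 2, 3, 3, 6, 3, 5, 7, 2, 7, 2, 2, 7, 7, 3, 1, 2, 0]
def rw1055 : List ℕ := [3, 6, 4, 2, 7, 2, 7, 3, 6, 3, 5, 7, 2, 7, 2, 2, 7, 7, 3, 1, 6, 0, 2, 6, 6, 3, 3, 6]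
def rw1056 : List ℕ := [2, 1, 3, 6, 3, 6, 4, 1, 3, 5, 7, 2, 7, 5, 3, 1, 0, 0, 2, 4, 6, 3, 6, 4, 2, 0, 5, 7, 2, 7]
def rw1057 : List ℕ := [4, 2, 0, 5, 7, 2, 7, 2, 3, 3, 6, 3, 6, 4, 1, 3, 5, 7, 2, 7, 5, 3, 1, 2, 0, 2, 4, 6, 3, 6]
def rw1058 : List ℕ := [2, 7, 1, 3, 1, 4, 0, 2, 0, 6, 3, 6, 4, 1, 3, 5, 7, 2, 7, 5, 5, 4, 6, 3, 6, 4, 2, 0, 5, 7]
def rw1059 : List ℕ := [2, 7, 3, 6, 3, 4, 1, 4, 4, 2, 4, 2, 4, 2, 7, 3, 1, 2, 0, 2, 6, 3, 5, 3, 5, 3, 5, 5, 0, 5]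
def rw1060 : List ℕ := [2, 0, 0, 5, 1, 1, 1, 6, 0, 0, 0, 4, 1, 1, 3, 0, 3, 0, 5, 2, 7, 3, 4, 1, 2, 1]
def rw1061 : List ℕ := [0, 3, 0, 5, 1, 1, 1, 6, 0, 0, 0, 4, 1, 2, 1, 3, 3, 0, 5, 2, 7, 3, 4, 1, 2, 2]
def rw1062 : List ℕ := [2, 5, 2, 7, 2, 7, 4, 1, 5, 6, 3, 6, 3, 4, 3, 1, 7, 2, 7, 1, 3, 1, 0, 0, 2, 0, 6, 3, 6, 0]
def rw1063 : List ℕ := [2, 5, 3, 1, 4, 1, 2, 7, 3, 6, 3, 0, 5, 0, 2, 4, 3, 1, 7, 1, 3, 1, 1, 2, 0, 0, 2, 0, 6, 0]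
def rw1064 : List ℕ := [0, 3, 1, 7, 3, 1, 2, 6, 0, 2, 1, 2, 7, 4, 2, 0, 5, 1, 3, 1, 0, 0, 2, 0, 4, 1, 3, 5, 6, 3]
def rw1065 : List ℕ := [5, 6, 0, 2, 5, 0, 7, 2, 7, 1, 1, 0, 0, 0, 6, 3, 6, 1, 4, 3, 1, 7, 4, 3, 1, 7, 1, 6, 0, 2]
def rw1066 : List ℕ := [1, 1, 2, 0, 0, 6, 3, 6, 1, 4, 3, 1, 7, 4, 3, 1, 7, 3, 6, 0, 2, 5, 6, 0, 2, 5, 0, 7, 2, 7]
def rw1067 : List ℕ := [1, 1, 4, 0, 0, 6, 3, 6, 1, 4, 3, 1, 7, 4, 3, 1, 7, 5, 6, 0, 2, 5, 6, 0, 2, 5, 0, 7, 2, 7]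
def rw1068 : List ℕ := [5, 6, 3, 0, 3, 1, 2, 0, 2, 1, 2, 7, 4, 1, 2, 0, 2, 5, 3, 1, 6, 3, 7, 0, 2, 4, 3, 1, 3, 0]
def rw1069 : List ℕ := [2, 7, 3, 1, 6, 0, 2, 5, 3, 1, 6, 0, 2, 4, 3, 1, 7, 0, 2, 6, 3, 0, 5, 7, 4, 1]
def rw1070 : List ℕ := [3, 3, 1, 3, 0, 0, 2, 0]
def rw1071 : List ℕ := [0, 2, 5, 3, 1, 1, 3, 1, 1, 4, 0, 0, 2, 0]
def rw1072 : List ℕ := [0, 5, 1, 2, 1, 3, 4, 1, 1, 6, 0, 0, 5, 2, 0, 3, 0, 4, 1, 2, 1, 2, 7, 3, 0, 3]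
def rw1073 : List ℕ := [4, 4, 2, 2, 4, 4, 2, 2, 4, 4, 5, 5, 5, 3, 3, 5, 5, 3, 3, 5, 5, 3, 3, 4, 2, 2]
def rw1074 : List ℕ := [5, 5, 3, 3, 5, 5, 3, 3, 0, 2, 2, 4, 4, 2, 2, 4, 4, 2, 2, 4, 4, 1, 5, 5, 3, 3]
def rw1075 : List ℕ := [3, 5, 5, 3, 3, 5, 5, 3, 3, 2, 2, 2, 4, 4, 2, 2, 4, 4, 2, 2, 4, 4, 3, 5, 5, 3]
def rw1076 : List ℕ := [0, 2, 2, 0, 2, 2, 7, 3, 3, 1, 3, 3, 1, 6]
def rw1077 : List ℕ := [6, 3, 1, 7, 4, 1, 5, 6, 0, 2, 7, 2, 7, 1, 5, 6, 3, 1, 3, 1, 0, 0, 2, 0, 2, 7, 4, 0, 6, 3]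
def rw1078 : List ℕ := [3, 6, 2, 0, 7, 2, 7, 2, 3, 3, 6, 3, 6, 1, 3, 7, 2, 7, 1, 1, 1, 2, 0, 0, 0, 6]
def rw1079 : List ℕ := [6, 2, 0, 7, 2, 7, 1, 1, 2, 0, 0, 6, 3, 6, 1, 3, 7, 2, 7, 1, 2, 3, 3, 0, 6, 3]
def rw1080 : List ℕ := [3, 6, 2, 0, 7, 2, 7, 1, 1, 2, 0, 0, 6, 3, 6, 1, 3, 7, 2, 7, 1, 2, 3, 3, 0, 6]
def rw1081 : List ℕ := [3, 6, 2, 0, 7, 2, 7, 1, 1, 4, 0, 0, 6, 3, 6, 1, 3, 7, 2, 7, 1, 2, 5, 3, 0, 6]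
def rw1082 : List ℕ := [6, 5, 0, 7, 2, 7, 1, 1, 2, 0, 0, 6, 3, 6, 1, 4, 7, 2, 7, 1, 5, 3, 4, 0, 6, 3]
def rw1083 : List ℕ := [4, 3, 1, 2, 5, 6, 3, 6, 3, 4, 0, 0, 7, 2, 7, 1, 1, 0, 0, 0, 6, 3, 6, 1, 1, 5, 2, 7, 2, 7]
def rw1084 : List ℕ := [3, 6, 2, 0, 7, 2, 7, 3, 1, 3, 3, 5, 2, 2, 0, 2, 6, 3, 6, 1, 3, 7, 2, 7, 1, 1, 4, 0, 0, 6]
def rw1085 : List ℕ := [2, 7, 1, 1, 4, 0, 0, 6, 3, 6, 2, 0, 7, 2, 7, 3, 1, 3, 3, 5, 2, 2, 0, 2, 6, 3, 6, 1, 3, 7]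
def rw1086 : List ℕ := [7, 1, 1, 1, 0, 0, 0, 0, 6, 3, 6, 2, 0, 7, 2, 7, 2, 1, 3, 6, 3, 6, 1, 3, 7, 2]
def rw1087 : List ℕ := [2, 7, 1, 2, 1, 3, 0, 6, 3, 6, 2, 0, 7, 2, 7, 1, 1, 0, 0, 0, 6, 3, 6, 1, 3, 7]
def rw1088 : List ℕ := [6, 3, 6, 5, 0, 7, 2, 7, 1, 1, 0, 0, 0, 6, 3, 6, 1, 4, 7, 2, 7, 1, 5, 1, 4, 0]
def rw1089 : List ℕ := [6, 3, 6, 2, 3, 3, 7, 2, 7, 2, 0, 4, 0, 6, 3, 6, 5, 3, 1, 2, 0, 2, 4, 7, 2, 7, 1, 5, 1, 3]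
def rw1090 : List ℕ := [3, 1, 4, 0, 2, 2, 7, 4, 2, 0, 5, 3, 1, 6, 3, 5, 2, 7, 0, 2, 4, 1, 3, 5, 6, 3]
def rw1091 : List ℕ := [7, 4, 3, 1, 3, 6, 3, 6, 1, 7, 2, 7, 2, 0, 2, 5, 6, 3, 6, 3, 4, 3, 1, 0, 0, 2, 5, 2, 7, 2]
def rw1092 : List ℕ := [6, 3, 6, 3, 4, 3, 1, 4, 0, 2, 5, 2, 7, 2, 7, 4, 3, 1, 3, 6, 3, 6, 5, 7, 2, 7, 2, 0, 2, 5]
def rw1093 : List ℕ := [7, 2, 7, 2, 5, 6, 3, 6, 5, 1, 0, 0, 4, 7, 2, 7, 4, 3, 6, 3, 6, 3, 4, 3, 4, 1, 5, 2, 5, 2]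
def rw1094 : List ℕ := [3, 6, 0, 6, 3, 6, 1, 7, 2, 7, 1, 7, 2, 7, 1, 0, 0, 6]
def rw1095 : List ℕ := [1, 2, 0, 6, 3, 6, 0, 6, 3, 6, 3, 7, 2, 7, 1, 7, 2, 7]
def rw1096 : List ℕ := [1, 1, 2, 0, 0, 6, 3, 6, 1, 3, 0, 6, 3, 6, 2, 3, 3, 7, 2, 7, 1, 2, 0, 7, 2, 7]
def rw1097 : List ℕ := [7, 2, 7, 1, 5, 0, 7, 2, 7, 1, 1, 0, 0, 0, 6, 3, 6, 1, 4, 0, 6, 3, 6, 5, 1, 4]
def rw1098 : List ℕ := [3, 6, 1, 4, 7, 2, 7, 1, 5, 1, 4, 0, 6, 3, 6, 5, 0, 7, 2, 7, 1, 1, 0, 0, 0, 6]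
def rw1099 : List ℕ := [6, 2, 0, 2, 6, 3, 6, 5, 6, 7, 7, 4, 7, 2, 7, 3, 1, 3, 7, 4, 3, 1, 6, 0, 2, 5]
def rw1100 : List ℕ := [3, 6, 3, 6, 2, 0, 7, 2, 7, 1, 2, 1, 0, 0, 3, 0, 6, 3, 6, 1, 3, 7, 2, 7, 2, 1]
def rw1101 : List ℕ := [2, 0, 6, 3, 6, 2, 4, 7, 2, 7, 1, 5, 3, 3, 2, 4, 0, 6, 3, 6, 5, 3, 7, 2, 7, 1]
def rw1102 : List ℕ := [2, 2, 2, 3, 3, 3, 3, 0, 6, 3, 6, 1, 3, 7, 2, 7, 3, 1, 2, 0, 2, 6, 3, 6, 2, 0, 7, 2, 7, 1]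
def rw1103 : List ℕ := [2, 7, 4, 3, 4, 0, 6, 3, 6, 5, 1, 0, 0, 4, 7, 2, 7, 1, 5, 2, 5, 6, 3, 6, 3, 4, 1, 5, 2, 7]
def rw1104 : List ℕ := [2, 7, 2, 5, 6, 3, 6, 5, 1, 0, 0, 4, 7, 2, 7, 4, 3, 6, 3, 6, 3, 4, 3, 4, 1, 5, 2, 5, 2, 7]
def rw1105 : List ℕ := [5, 6, 0, 6, 3, 6, 0, 6, 0, 2, 1, 3, 1, 4, 0, 2, 0, 3, 1, 7, 1, 7, 2, 7, 1, 7]
def rw1106 : List ℕ := [7, 4, 3, 3, 2, 5, 6, 3, 6, 3, 4, 0, 0, 7, 2, 7, 1, 1, 2, 0, 0, 6, 3, 6, 1, 1, 5, 2, 7, 2]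
def rw1107 : List ℕ := [7, 2, 7, 4, 3, 4, 0, 6, 3, 6, 5, 1, 0, 0, 4, 7, 2, 7, 1, 5, 2, 5, 6, 3, 6, 3, 4, 1, 5, 2]
def rw1108 : List ℕ := [2, 7, 4, 7, 4, 3, 1, 7, 4, 5, 5, 6, 0, 2, 5, 6, 5, 6, 3, 6, 3, 4, 3, 1, 4, 0, 2, 5, 2, 7]
def rw1109 : List ℕ := [3, 6, 5, 3, 1, 2, 0, 2, 4, 7, 2, 7, 1, 5, 1, 3, 6, 3, 6, 2, 3, 3, 7, 2, 7, 2, 0, 4, 0, 6]
def rw1110 : List ℕ := [3, 6, 5, 3, 7, 2, 7, 1, 0, 0, 6, 3, 6, 2, 4, 7, 2, 7, 1, 5, 3, 1, 2, 4, 0, 6]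
def rw1111 : List ℕ := [6, 5, 0, 7, 2, 7, 1, 1, 0, 0, 0, 6, 3, 6, 1, 4, 7, 2, 7, 1, 5, 1, 4, 0, 6, 3]
def rw1112 : List ℕ := [3, 6, 5, 3, 1, 4, 0, 2, 4, 7, 2, 7, 1, 5, 1, 3, 6, 3, 6, 2, 5, 3, 7, 2, 7, 2, 0, 4, 0, 6]
def rw1113 : List ℕ := [3, 6, 2, 0, 7, 2, 7, 1, 1, 0, 0, 0, 6, 3, 6, 1, 3, 7, 2, 7, 1, 2, 1, 3, 0, 6]
def rw1114 : List ℕ := [3, 6, 5, 0, 7, 2, 7, 1, 1, 2, 0, 0, 6, 3, 6, 1, 4, 7, 2, 7, 1, 5, 3, 4, 0, 6]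
def rw1115 : List ℕ := [3, 4, 0, 0, 7, 2, 7, 1, 1, 2, 0, 0, 6, 3, 6, 1, 1, 5, 2, 7, 2, 7, 4, 3, 3, 2, 5, 6, 3, 6]
def rw1116 : List ℕ := [0, 2, 5, 6, 3, 0, 7, 2, 7, 1, 2, 0, 5, 6, 7, 7, 4, 1, 3, 0, 6, 3, 6, 1, 2, 7, 4, 3, 1, 6]
def rw1117 : List ℕ := [5, 6, 0, 2, 5, 0, 7, 2, 7, 1, 1, 2, 0, 0, 6, 3, 6, 1, 4, 3, 1, 7, 4, 3, 1, 7, 3, 6, 0, 2]
def rw1118 : List ℕ := [3, 6, 3, 1, 7, 4, 3, 1, 4, 0, 2, 5, 6, 0, 2, 7, 2, 7, 1, 5, 6, 5, 7, 4, 0, 6]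
def rw1119 : List ℕ := [3, 3, 3, 1, 7, 4, 3, 5, 6, 0, 2, 2, 2, 7, 0, 2, 4, 2, 1, 3, 1, 2, 0, 2, 0, 3, 5, 3, 1, 6]
def rw1120 : List ℕ := [0, 2, 4, 3, 1, 7, 1, 3, 1, 1, 2, 0, 0, 2, 0, 6, 0, 2, 5, 3, 1, 4, 1, 2, 7, 3, 6, 3, 0, 5]
def rw1121 : List ℕ := [3, 0, 3, 1, 7, 1, 3, 1, 1, 2, 0, 0, 2, 0, 6, 0, 2, 1, 2, 7, 4, 2, 0, 5, 3, 4, 1, 3, 5, 6]
def rw1122 : List ℕ := [3, 1, 6, 0, 2, 4, 2, 2, 7, 3, 1, 6, 3, 3, 5, 7, 4, 2, 2, 7, 0, 2, 6, 3, 3, 5]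
def rw1123 : List ℕ := [5, 2, 0, 2, 5, 0, 5, 6, 3, 3, 1, 0, 0, 2, 2, 7, 4, 1, 4, 3, 1, 3, 4, 2, 6, 3, 1, 2, 7, 3]
def rw1124 : List ℕ := [5, 2, 7, 7, 6, 3, 4, 1, 3, 5, 3, 5, 2, 7, 3, 1, 6, 0, 2, 6, 3, 4, 2, 4, 2, 0]
def rw1125 : List ℕ := [2, 6, 3, 7, 3, 5, 3, 5, 3, 1, 4, 1, 6, 3, 3, 3, 1, 2, 0, 2, 2, 2, 7, 0, 5, 0, 2, 4, 2, 4]
def rw1126 : List ℕ := [1, 3, 1, 3, 1, 6, 0, 2, 0, 2, 0, 2, 7, 3]
def rw1127 : List ℕ := [3, 1, 3, 3, 1, 6, 0, 2, 2, 0, 2, 2, 7, 3]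
def rw1128 : List ℕ := [6, 1, 5, 1, 4, 0, 4, 0, 7, 2, 6, 3, 0, 5, 2, 2, 7, 3, 4, 5, 5, 2, 6, 3, 3, 4, 1, 2, 7, 3]
def rw1129 : List ℕ := [3, 4, 1, 3, 5, 3, 5, 2, 7, 3, 6, 3, 4, 2, 4, 2, 0, 5, 2, 7, 1, 3, 1, 1, 2, 0, 0, 2, 0, 6]
def rw1130 : List ℕ := [7, 0, 2, 6, 3, 0, 5, 1, 3, 1, 1, 6, 0, 0, 2, 0, 4, 1, 2, 7, 3, 1, 6, 0, 2, 5, 7, 4, 3, 1]
def rw1131 : List ℕ := [6, 1, 5, 5, 1, 3, 4, 6, 7, 7, 5, 2, 0, 4, 4, 0, 7, 0, 6, 0, 3, 1, 6, 0, 2, 1, 7, 1]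
def rw1132 : List ℕ := [7, 2, 7, 0, 5, 6, 3, 7, 5, 5, 4, 6, 2, 7, 4, 1, 6, 3, 6, 6, 3, 4, 1, 4, 0, 5, 2, 7]
def rw1133 : List ℕ := [7, 0, 2, 6, 3, 0, 5, 1, 3, 1, 1, 0, 0, 0, 2, 0, 4, 1, 2, 7, 3, 1, 6, 0, 2, 5, 1, 4, 3, 1]
def rw1134 : List ℕ := [3, 0, 5, 2, 7, 3, 1, 6, 0, 2, 6, 3, 4, 1, 2, 4, 4, 1, 4, 2, 5, 7, 7, 6, 4, 3, 5, 0, 5, 5]
def rw1135 : List ℕ := [1, 3, 3, 1, 6, 0, 2, 2, 0, 5, 3, 5, 3, 3, 5, 3, 5, 7, 4, 2, 4, 2, 2, 4, 2, 4]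
def rw1136 : List ℕ := [6, 3, 5, 2, 5, 2, 6, 6, 3, 0, 5, 1, 0, 0, 4, 1, 2, 7, 7, 3, 4, 3, 4, 2, 7, 4, 2, 1, 3, 5]
def rw1137 : List ℕ := [6, 3, 7, 7, 6, 2, 7, 4, 1, 5, 6, 5, 2, 0, 4, 3, 1, 6, 0, 2, 5, 1, 3, 4, 7, 4, 0, 5]
def rw1138 : List ℕ := [6, 3, 7, 4, 1, 6, 2, 2, 7, 4, 1, 6, 1, 3, 3, 1, 2, 0, 2, 2, 0, 7, 0, 5, 6, 3, 3, 7, 0, 5]
def rw1139 : List ℕ := [5, 6, 3, 7, 1, 6, 2, 7, 4, 1, 5, 6, 5, 2, 0, 4, 3, 1, 0, 0, 2, 5, 1, 3, 4, 7, 4, 0]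
def rw1140 : List ℕ := [6, 3, 7, 5, 6, 2, 7, 4, 1, 5, 6, 5, 2, 0, 4, 3, 1, 4, 0, 2, 5, 1, 3, 4, 7, 4, 0, 5]
def rw1141 : List ℕ := [6, 7, 7, 7, 2, 7, 2, 0, 6, 2, 7, 4, 1, 3, 1, 6, 0, 2, 0, 5, 6, 3, 7, 1, 3, 6, 3, 6]
def rw1142 : List ℕ := [7, 0, 2, 4, 1, 3, 5, 6, 3, 3, 1, 0, 0, 2, 2, 7, 4, 2, 0, 5, 3, 1, 6, 3, 1, 2]
def rw1143 : List ℕ := [1, 6, 3, 0, 2, 2, 7, 4, 1, 1, 0, 0, 0, 5, 6, 3, 3, 1, 2, 7, 0, 2, 4, 0, 2, 1, 3, 1, 5, 3]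
def rw1144 : List ℕ := [5, 0, 5, 0, 2, 4, 2, 6, 3, 1, 2, 7, 3, 5, 3, 1, 4, 1, 4, 2, 6, 3, 3, 1, 0, 0, 2, 2, 7, 3]
def rw1145 : List ℕ := [3, 3, 1, 4, 0, 2, 2, 7, 3, 5, 3, 5, 3, 1, 4, 1, 6, 3, 5, 2, 7, 0, 5, 0, 2, 4, 2, 4, 2, 6]
def rw1146 : List ℕ := [3, 5, 6, 3, 3, 1, 4, 0, 2, 2, 7, 4, 2, 6, 5, 2, 5, 2, 0, 5, 5, 4, 1, 3, 4, 3, 4, 7]
def rw1147 : List ℕ := [3, 1, 4, 1, 4, 2, 6, 3, 3, 1, 4, 0, 2, 2, 7, 3, 5, 0, 5, 0, 2, 4, 2, 6, 3, 5, 2, 7, 3, 5]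
def rw1148 : List ℕ := [7, 4, 1, 4, 1, 3, 1, 6, 0, 2, 0, 5, 0, 5, 6, 3, 3, 1, 2, 7, 3, 5, 7, 4, 2, 6, 3, 0, 2, 2]
def rw1149 : List ℕ := [6, 2, 4, 2, 4, 4, 3, 4, 2, 2, 7, 4, 1, 4, 0, 5, 6, 3, 3, 5, 2, 5, 5, 3, 5, 3, 7, 5]
def rw1150 : List ℕ := [3, 5, 6, 3, 1, 2, 7, 4, 2, 0, 5, 3, 1, 6, 1, 3, 1, 1, 1, 0, 0, 0, 0, 2, 0, 7, 0, 2, 4, 1]
def rw1151 : List ℕ := [1, 6, 3, 7, 2, 7, 0, 5, 0, 2, 4, 2, 4, 2, 6, 3, 3, 1, 6, 0, 2, 2, 7, 3, 5, 3, 5, 3, 1, 4]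
def rw1152 : List ℕ := [3, 3, 1, 2, 0, 2, 2, 7, 4, 2, 4, 2, 4, 1, 4, 1, 6, 3, 3, 2, 7, 0, 5, 0, 5, 3, 5, 3, 5, 6]
def rw1153 : List ℕ := [0, 2, 2, 1, 2, 7, 3, 0, 3, 3, 1, 3, 0, 3, 3, 1, 6, 0, 2, 2, 1, 2]
def rw1154 : List ℕ := [6, 3, 0, 5, 3, 3, 1, 6, 0, 2, 2, 4, 1, 2, 7, 3, 1, 6, 0, 2, 5, 2, 7, 3, 4, 3, 1, 7, 0, 2]
def rw1155 : List ℕ := [0, 2, 2, 2, 7, 0, 2, 4, 0, 2, 1, 3, 1, 5, 3, 1, 6, 3, 3, 3, 1, 7, 4, 1, 1, 0, 0, 0, 5, 6]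
def rw1156 : List ℕ := [0, 2, 6, 0, 5, 3, 5, 1, 4, 2, 4, 1, 7, 3, 1, 6, 3, 4, 1, 4, 3, 1, 0, 0, 2, 5, 0, 5, 2, 7]
def rw1157 : List ℕ := [6, 3, 4, 1, 3, 5, 3, 5, 2, 7, 1, 6, 3, 4, 2, 4, 2, 0, 5, 2, 7, 3, 1, 3, 1, 0, 0, 2, 0, 2]
def rw1158 : List ℕ := [6, 0, 2, 5, 3, 1, 2, 0, 2, 4, 3, 1, 7, 0, 2, 6, 3, 0, 5, 3, 4, 1, 2, 7, 3, 1]
def rw1159 : List ℕ := [2, 0, 2, 7, 3, 1, 3, 1, 3, 1, 6, 0, 2, 0]
def rw1160 : List ℕ := [1, 3, 3, 5, 2, 2, 0, 2, 1, 2, 1, 3, 1, 1, 4, 0, 0, 2, 0, 3, 0, 3]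
def rw1161 : List ℕ := [3, 1, 3, 3, 0, 3, 1, 2, 0, 2, 1, 2, 2, 0, 2, 1, 2, 2, 3, 3, 3, 0]
def rw1162 : List ℕ := [2, 0, 2, 2, 3, 3, 3, 1, 3, 3, 1, 2, 0, 2]
def rw1163 : List ℕ := [3, 3, 5, 3, 1, 6, 3, 3, 2, 7, 0, 2, 4, 2, 2, 0, 2, 5, 6, 3, 3, 1, 2, 0, 2, 2, 7, 4, 3, 1]
def rw1164 : List ℕ := [0, 2, 5, 3, 1, 6, 3, 7, 0, 2, 4, 3, 1, 3, 0, 5, 6, 3, 0, 3, 1, 2, 0, 2, 1, 2, 7, 4, 1, 2]
def rw1165 : List ℕ := [0, 3, 3, 1, 3, 0, 0, 2]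
def rw1166 : List ℕ := [0, 2, 1, 2, 0, 2, 2, 2, 3, 3, 3, 3, 1, 3, 0, 3, 1, 2]
def rw1167 : List ℕ := [2, 0, 3, 3, 3, 1, 3, 0, 0, 0]
def rw1168 : List ℕ := [1, 3, 5, 6, 3, 3, 1, 4, 0, 2, 2, 7, 4, 2, 0, 5, 3, 1, 6, 3, 5, 2, 7, 0, 2, 4]
def rw1169 : List ℕ := [3, 1, 3, 5, 0, 5, 6, 3, 3, 1, 0, 0, 2, 2, 7, 4, 1, 4, 2, 0, 2, 4, 2, 6, 3, 1, 2, 7, 3, 5]
def rw1170 : List ℕ := [4, 1, 3, 5, 6, 1, 7, 4, 2, 0, 5, 6, 4, 4, 1, 4, 2, 2, 4, 1, 0, 0, 5, 3, 3, 5, 0, 5, 5, 7]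
def rw1171 : List ℕ := [2, 7, 2, 7, 3, 6, 3, 4, 1, 4, 3, 5, 3, 5, 7, 0, 3, 1, 6, 0, 2, 1, 6, 4, 2, 4, 2, 5, 0, 5]
def rw1172 : List ℕ := [4, 1, 4, 1, 3, 1, 6, 0, 2, 0, 5, 0, 5, 6, 3, 3, 1, 2, 7, 3, 5, 7, 4, 2, 6, 3, 0, 2, 2, 7]
def rw1173 : List ℕ := [2, 5, 1, 6, 0, 4, 3, 4, 7, 0, 5, 6, 3, 0, 5, 3, 5, 7, 4, 2, 4, 1, 2, 7, 4, 1, 6, 5]
def rw1174 : List ℕ := [4, 2, 2, 7, 1, 0, 0, 6, 3, 3, 5, 6, 3, 3, 5, 0, 7, 2, 7, 2, 1, 3, 6, 3, 6, 1, 4, 2, 2, 7]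
def rw1175 : List ℕ := [3, 6, 1, 4, 3, 1, 7, 4, 3, 1, 7, 3, 6, 0, 2, 5, 6, 0, 2, 5, 0, 7, 2, 7, 1, 1, 2, 0, 0, 6]
def rw1176 : List ℕ := [0, 2, 5, 3, 1, 6, 0, 2, 4, 3, 1, 7, 0, 2, 6, 3, 0, 5, 7, 4, 1, 2, 7, 3, 1, 6]
def rw1177 : List ℕ := [7, 4, 1, 5, 6, 3, 0, 3, 1, 7, 0, 2, 4, 2, 1, 3, 1, 0, 0, 2, 0, 3, 5, 3, 1, 6, 0, 2, 1, 2]
def rw1178 : List ℕ := [5, 5, 3, 5, 2, 7, 4, 1, 2, 0, 5, 6, 3, 4, 2, 4, 4, 3, 4, 7, 3, 6, 5, 2]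
def rw1179 : List ℕ := [2, 5, 5, 3, 5, 2, 7, 4, 1, 4, 0, 5, 6, 3, 4, 2, 4, 4, 3, 4, 7, 5, 6, 5]
def rw1180 : List ℕ := [4, 3, 4, 4, 4, 3, 4, 7, 4, 1, 4, 2, 6, 3, 7, 3, 5, 0, 5, 6, 5, 2, 5, 5, 5, 2, 5, 1, 2, 0]
def rw1181 : List ℕ := [5, 3, 5, 0, 5, 3, 5, 3, 1, 6, 0, 2, 4, 2, 4, 1, 4, 2, 4, 3, 1, 3, 7, 2, 0, 2]
def rw1182 : List ℕ := [1, 4, 1, 3, 1, 3, 1, 2, 0, 2, 0, 2, 0, 5, 0, 5, 3, 5, 0, 5, 3, 4, 1, 4, 2, 4]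
def rw1183 : List ℕ := [2, 5, 5, 5, 2, 5, 1, 4, 0, 4, 3, 4, 4, 4, 3, 4, 7, 4, 1, 4, 2, 6, 5, 7, 3, 5, 0, 5, 6, 5]
def rw1184 : List ℕ := [4, 7, 4, 1, 4, 2, 6, 7, 7, 3, 5, 0, 5, 6, 5, 2, 5, 5, 5, 2, 5, 1, 6, 0, 4, 3, 4, 4, 4, 3]
def rw1185 : List ℕ := [4, 0, 4, 0, 4, 0, 4, 3, 5, 1, 5, 1, 5, 1, 5, 1, 5, 1, 2, 0, 4, 0]
def rw1186 : List ℕ := [5, 1, 5, 1, 5, 1, 2, 0, 4, 0, 4, 0, 4, 0, 4, 0, 4, 3, 5, 1, 5, 1]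
def rw1187 : List ℕ := [0, 4, 4, 0, 5, 1, 1, 4, 0, 0, 4, 1, 5, 5, 1, 1, 5, 0, 4, 4, 5, 5, 5, 1, 4, 0]
def rw1188 : List ℕ := [4, 0, 4, 0, 4, 5, 5, 1, 5, 1, 5, 1, 5, 1, 5, 1, 4, 0, 4, 0, 4, 0]
def rw1189 : List ℕ := [4, 0, 4, 0, 4, 0, 4, 0, 4, 1, 5, 1, 5, 1, 5, 1, 5, 1, 5, 1, 0, 0]
def rw1190 : List ℕ := [5, 1, 6, 0, 4, 0, 4, 0, 6, 3, 0, 4, 0, 4, 0, 6, 3, 7, 2, 7, 1, 5, 1, 5, 1, 2, 7, 1, 5, 1]
def rw1191 : List ℕ := [4, 0, 0, 5, 0, 5, 0, 4, 4, 1, 4, 1]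
def rw1192 : List ℕ := [5, 5, 1, 5, 1, 1, 4, 0, 0, 4, 0, 4, 4, 0, 0, 4, 0, 4, 4, 5, 5, 5, 1, 5, 1, 1]
def rw1193 : List ℕ := [4, 3, 4, 3, 1, 4, 0, 2, 5, 2, 5, 2, 5, 2, 0, 4, 3, 4, 5, 5, 2, 5, 1, 3, 4, 3]
def rw1194 : List ℕ := [5, 5, 1, 2, 0, 4, 3, 5, 1, 3, 0, 4, 4, 3, 4, 4, 0, 3, 1, 2, 0, 2, 1, 5, 5, 2]
def rw1195 : List ℕ := [7, 2, 7, 4, 3, 4, 0, 6, 3, 6, 5, 1, 4, 0, 4, 7, 2, 7, 1, 5, 2, 5, 6, 3, 6, 3, 4, 5, 5, 2]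
def rw1196 : List ℕ := [1, 6, 3, 3, 5, 1, 3, 1, 1, 4, 0, 0, 2, 0, 4, 2, 2, 7, 0, 2, 6, 3, 3, 5, 5, 4, 2, 2, 7, 3]
def rw1197 : List ℕ := [3, 3, 3, 1, 3, 0, 3, 1, 6, 0, 2, 1, 2, 0, 2, 2, 2, 7]
def rw1198 : List ℕ := [3, 4, 1, 3, 5, 3, 5, 2, 7, 7, 6, 3, 4, 2, 4, 2, 0, 5, 2, 7, 3, 1, 3, 1, 6, 0, 2, 0, 2, 6]
def rw1199 : List ℕ := [4, 7, 4, 1, 4, 2, 6, 3, 7, 3, 5, 0, 5, 6, 5, 2, 5, 5, 5, 2, 5, 1, 2, 0, 4, 3, 4, 4, 4, 3]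
def rw1200 : List ℕ := [5, 2, 5, 5, 3, 5, 2, 7, 4, 1, 0, 0, 5, 6, 3, 4, 2, 4, 4, 3, 4, 7, 1, 6]
def rw1201 : List ℕ := [3, 4, 7, 0, 5, 3, 1, 6, 0, 2, 4, 1, 6, 5, 2, 5, 2, 0, 5, 2, 7, 7, 6, 3, 4, 1, 3, 4]
def rw1202 : List ℕ := [4, 3, 1, 0, 0, 2, 5, 5, 2, 5, 5, 1, 2, 0, 4, 3, 1, 2, 5, 1, 3, 0, 4, 4, 3, 4]
def rw1203 : List ℕ := [3, 6, 3, 1, 7, 4, 3, 1, 0, 0, 2, 5, 6, 0, 2, 7, 2, 7, 1, 5, 6, 1, 7, 4, 0, 6]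
def rw1204 : List ℕ := [6, 5, 2, 1, 6, 0, 3, 4, 7, 7, 7, 2, 7, 2, 0, 6, 5, 0, 5, 7, 4, 1, 4, 7, 1, 3, 6, 3, 6, 6]
def rw1205 : List ℕ := [2, 7, 1, 1, 6, 0, 0, 6, 3, 6, 2, 0, 7, 2, 7, 3, 1, 3, 3, 7, 2, 2, 0, 2, 6, 3, 6, 1, 3, 7]
def rw1206 : List ℕ := [2, 7, 1, 5, 6, 3, 1, 3, 1, 0, 0, 2, 0, 2, 7, 4, 0, 6, 3, 6, 3, 1, 7, 4, 1, 5, 6, 0, 2, 7]
def rw1207 : List ℕ := [6, 2, 0, 7, 2, 7, 1, 1, 6, 0, 0, 6, 3, 6, 1, 3, 7, 2, 7, 1, 2, 7, 3, 0, 6, 3]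
def rw1208 : List ℕ := [3, 6, 1, 3, 7, 2, 7, 1, 1, 1, 0, 0, 0, 0, 6, 3, 6, 2, 0, 7, 2, 7, 2, 1, 3, 6]
def rw1209 : List ℕ := [3, 6, 1, 3, 7, 2, 7, 1, 2, 7, 3, 0, 6, 3, 6, 2, 0, 7, 2, 7, 1, 1, 6, 0, 0, 6]
def rw1210 : List ℕ := [4, 3, 1, 7, 1, 6, 0, 2, 5, 6, 0, 2, 5, 0, 7, 2, 7, 1, 1, 0, 0, 0, 6, 3, 6, 1, 4, 3, 1, 7]
def rw1211 : List ℕ := [2, 7, 1, 4, 3, 1, 2, 0, 2, 5, 0, 6, 3, 5, 6, 0, 2, 5, 1, 6, 3, 7, 0, 4, 3, 1, 7, 4]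
def rw1212 : List ℕ := [6, 3, 5, 6, 0, 2, 5, 1, 6, 7, 7, 0, 4, 3, 1, 7, 4, 2, 7, 1, 4, 3, 1, 6, 0, 2, 5, 0]
def rw1213 : List ℕ := [6, 6, 3, 4, 3, 5, 2, 7, 7, 2, 7, 1, 4, 6, 2, 7, 4, 1, 2, 0, 5, 6, 3, 7, 5, 0, 6, 3]
def rw1214 : List ℕ := [3, 6, 6, 5, 1, 2, 0, 4, 7, 7, 2, 7, 1, 6, 1, 4, 1, 4, 4, 3, 5, 5, 0, 5, 0, 7, 0, 6]
def rw1215 : List ℕ := [3, 6, 4, 1, 3, 5, 7, 2, 7, 5, 2, 7, 3, 4, 6, 3, 6, 4, 2, 0, 5, 7, 2, 7, 3, 1, 6, 0, 2, 6]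
def rw1216 : List ℕ := [6, 6, 5, 1, 1, 0, 0, 0, 4, 7, 7, 2, 7, 1, 6, 5, 5, 0, 5, 1, 4, 1, 4, 4, 7, 0, 6, 3]
def rw1217 : List ℕ := [7, 1, 4, 3, 6, 3, 6, 5, 1, 2, 0, 4, 7, 2, 7, 2, 5, 0, 6, 3, 6, 2, 5, 2, 3, 3, 4, 3, 7, 2]
def rw1218 : List ℕ := [3, 6, 5, 3, 7, 2, 7, 1, 2, 0, 6, 3, 6, 2, 4, 7, 2, 7, 1, 5, 3, 3, 2, 4, 0, 6]
def rw1219 : List ℕ := [3, 6, 2, 0, 7, 2, 7, 1, 1, 6, 0, 0, 6, 3, 6, 1, 3, 7, 2, 7, 1, 2, 7, 3, 0, 6]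
def rw1220 : List ℕ := [3, 7, 1, 3, 6, 3, 6, 6, 7, 7, 7, 2, 7, 2, 0, 6, 2, 7, 4, 1, 3, 1, 6, 0, 2, 0, 5, 6]
def rw1221 : List ℕ := [6, 1, 3, 1, 4, 0, 2, 0, 7, 7, 2, 7, 2, 0, 6, 2, 7, 4, 5, 5, 6, 3, 7, 1, 3, 6, 3, 6]
def rw1222 : List ℕ := [2, 7, 1, 1, 6, 0, 0, 6, 3, 6, 1, 4, 7, 2, 7, 1, 5, 7, 4, 0, 6, 3, 6, 5, 0, 7]
def rw1223 : List ℕ := [3, 6, 1, 3, 7, 2, 7, 1, 1, 6, 0, 0, 6, 3, 6, 2, 0, 7, 2, 7, 3, 1, 3, 3, 7, 2, 2, 0, 2, 6]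
def rw1224 : List ℕ := [5, 2, 5, 2, 0, 4, 3, 4, 5, 5, 2, 5, 1, 3, 4, 3, 4, 3, 4, 3, 1, 4, 0, 2, 5, 2]
def rw1225 : List ℕ := [3, 5, 7, 1, 6, 4, 2, 4, 2, 6, 4, 3, 4, 3, 4, 6, 3, 3, 0, 2, 2, 7, 5, 2, 5, 2, 5, 7, 3, 5]
def rw1226 : List ℕ := [2, 7, 1, 3, 1, 0, 0, 2, 0, 6, 3, 6, 0, 2, 5, 2, 7, 2, 7, 4, 1, 5, 6, 3, 6, 3, 4, 3, 1, 7]
def rw1227 : List ℕ := [4, 3, 6, 3, 6, 5, 1, 0, 0, 4, 7, 2, 7, 2, 5, 0, 6, 3, 6, 2, 5, 2, 1, 3, 4, 3, 7, 2, 7, 1]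
def rw1228 : List ℕ := [3, 5, 7, 4, 2, 4, 1, 4, 2, 4, 1, 6, 0, 5, 3, 5, 0, 5]
def rw1229 : List ℕ := [3, 5, 7, 4, 2, 4, 2, 2, 4, 2, 4, 1, 3, 3, 1, 6, 0, 2, 2, 0, 5, 3, 5, 3, 3, 5]
def rw1230 : List ℕ := [3, 5, 0, 5, 6, 3, 3, 1, 2, 0, 2, 2, 7, 4, 1, 4, 2, 0, 2, 4, 2, 6, 3, 3, 2, 7, 3, 5, 3, 1]
def rw1231 : List ℕ := [4, 1, 4, 2, 6, 3, 3, 1, 2, 0, 2, 2, 7, 3, 5, 0, 5, 0, 2, 4, 2, 6, 3, 3, 2, 7, 3, 5, 3, 1]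
def rw1232 : List ℕ := [1, 6, 3, 3, 3, 1, 0, 0, 2, 2, 2, 7, 0, 5, 0, 2, 4, 2, 4, 2, 6, 1, 7, 3, 5, 3, 5, 3, 1, 4]
def rw1233 : List ℕ := [5, 3, 5, 0, 5, 7, 4, 1, 4, 2, 4, 1, 4, 1, 3, 1, 3, 1, 6, 0, 2, 0, 2, 0, 5, 0]
def rw1234 : List ℕ := [6, 3, 3, 1, 4, 0, 2, 2, 7, 4, 2, 4, 2, 4, 1, 4, 1, 6, 3, 5, 2, 7, 0, 5, 0, 5, 3, 5, 3, 5]
def rw1235 : List ℕ := [1, 7, 2, 7, 3, 6, 0, 2, 5, 3, 1, 4, 1, 2, 7, 0, 3, 1, 6, 0, 2, 1, 6, 3, 0, 5, 0, 2, 4, 3]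
def rw1236 : List ℕ := [2, 0, 2, 5, 1, 3, 1, 2, 0, 2, 0, 4, 3, 1, 3, 4, 1, 3, 1, 4, 3, 5, 0, 2, 0, 5]
def rw1237 : List ℕ := [5, 3, 4, 2, 4, 1, 3, 3, 5, 3, 5, 3, 3, 1, 2, 0, 2, 2, 4, 2, 4, 2, 2, 0, 5, 3]
def rw1238 : List ℕ := [7, 0, 5, 6, 3, 0, 5, 3, 5, 1, 4, 2, 4, 1, 2, 7, 4, 1, 6, 5, 2, 5, 1, 0, 0, 4, 3, 4]
def rw1239 : List ℕ := [2, 5, 2, 7, 3, 4, 3, 1, 7, 0, 2, 6, 3, 0, 5, 3, 3, 1, 6, 0, 2, 2, 4, 1, 2, 7, 3, 1, 6, 0]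
def rw1240 : List ℕ := [5, 3, 5, 5, 0, 5, 2, 7, 7, 6, 3, 4, 1, 4, 4, 2, 4, 2, 4, 2, 7, 3, 1, 6, 0, 2, 6, 3, 5, 3]
def rw1241 : List ℕ := [2, 4, 1, 6, 0, 5, 3, 5, 0, 5, 3, 5, 7, 4, 2, 4, 1, 4]
def rw1242 : List ℕ := [2, 4, 2, 2, 4, 2, 4, 3, 5, 3, 5, 3, 3, 5, 3, 5, 3, 3, 2, 2, 2, 4]
def rw1243 : List ℕ := [5, 3, 5, 3, 3, 1, 6, 0, 2, 2, 4, 2, 4, 2, 2, 0, 5, 3, 5, 7, 4, 2, 4, 1, 3, 3]
def rw1244 : List ℕ := [5, 3, 5, 3, 5, 3, 1, 6, 0, 2, 4, 2, 4, 2, 4, 2, 0, 5, 3, 5, 7, 4, 2, 4, 1, 3]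
def rw1245 : List ℕ := [5, 2, 7, 3, 6, 3, 4, 1, 3, 5, 3, 5, 2, 7, 3, 1, 2, 0, 2, 6, 3, 4, 2, 4, 2, 0]
def rw1246 : List ℕ := [5, 2, 5, 2, 0, 5, 5, 4, 1, 3, 4, 3, 4, 7, 3, 5, 6, 3, 3, 1, 4, 0, 2, 2, 7, 4, 2, 6]
def rw1247 : List ℕ := [3, 5, 0, 5, 6, 3, 0, 3, 1, 4, 0, 2, 1, 2, 7, 4, 1, 4, 2, 0, 2, 4, 2, 6, 5, 7, 3, 5, 3, 1]
def rw1248 : List ℕ := [1, 6, 3, 3, 2, 7, 0, 5, 0, 5, 3, 5, 3, 5, 6, 3, 3, 1, 2, 0, 2, 2, 7, 4, 2, 4, 2, 4, 1, 4]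
def rw1249 : List ℕ := [0, 5, 0, 2, 1, 3, 1, 0, 0, 2, 0, 3, 1, 4, 1, 4, 2, 4, 1, 4, 1, 5, 0, 5, 3, 5]
def rw1250 : List ℕ := [5, 5, 1, 1, 2, 0, 0, 4, 4, 0, 0, 5, 7, 3, 1, 6, 3, 3, 3, 2, 2, 7, 0, 2, 6, 4, 1, 1]
def rw1251 : List ℕ := [0, 0, 4, 4, 1, 5, 5, 1, 1, 5, 5, 1, 1, 5, 5, 1, 1, 0, 0, 0, 4, 4, 0, 0, 4, 4]
def rw1252 : List ℕ := [5, 5, 1, 1, 4, 0, 0, 4, 4, 0, 4, 0, 0, 4, 4, 0, 4, 5, 5, 1, 5, 5, 1, 1, 5, 1]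
def rw1253 : List ℕ := [4, 6, 2, 4, 4, 1, 5, 5, 1, 4, 0, 4, 4, 0, 5, 5, 3, 7, 5, 6, 0, 4, 7, 5, 5, 4, 6, 5, 1, 7]
def rw1254 : List ℕ := [7, 3, 1, 3, 3, 3, 2, 2, 0, 2, 6, 3, 6, 1, 3, 7, 2, 7, 1, 1, 2, 0, 0, 6, 3, 6, 2, 0, 7, 2]
def rw1255 : List ℕ := [3, 6, 3, 4, 3, 1, 2, 0, 2, 5, 2, 7, 2, 7, 4, 3, 1, 3, 6, 3, 6, 3, 7, 2, 7, 2, 0, 2, 5, 6]
def rw1256 : List ℕ := [3, 6, 1, 3, 7, 2, 7, 1, 2, 3, 3, 0, 6, 3, 6, 2, 0, 7, 2, 7, 1, 1, 2, 0, 0, 6]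
def rw1257 : List ℕ := [5, 3, 5, 3, 7, 1, 6, 2, 4, 2, 4, 4, 3, 4, 2, 2, 7, 4, 1, 0, 0, 5, 6, 3, 3, 5, 2, 5]
def rw1258 : List ℕ := [2, 0, 0, 2, 5, 3, 1, 1, 3, 1, 1, 4, 0, 0]
def rw1259 : List ℕ := [6, 5, 2, 5, 2, 0, 5, 3, 3, 1, 4, 0, 2, 2, 4, 1, 3, 4, 3, 4, 7, 3, 5, 6, 5, 7, 4, 2]
def rw1260 : List ℕ := [4, 3, 4, 7, 3, 5, 6, 3, 7, 4, 2, 6, 5, 2, 5, 2, 0, 5, 3, 3, 1, 2, 0, 2, 2, 4, 1, 3]
def rw1261 : List ℕ := [2, 7, 2, 0, 2, 5, 6, 3, 6, 3, 4, 3, 1, 6, 0, 2, 5, 2, 7, 2, 7, 4, 3, 1, 3, 6, 3, 6, 7, 7]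
def rw1262 : List ℕ := [1, 1, 4, 0, 0, 6, 3, 6, 1, 3, 7, 2, 7, 1, 2, 5, 3, 0, 6, 3, 6, 2, 0, 7, 2, 7]
def rw1263 : List ℕ := [3, 4, 7, 3, 5, 6, 3, 3, 1, 0, 0, 2, 2, 7, 4, 2, 6, 5, 2, 5, 2, 0, 5, 1, 4, 1, 3, 4]
def rw1264 : List ℕ := [2, 4, 1, 3, 5, 6, 3, 3, 1, 4, 0, 2, 2, 7, 4, 2, 0, 5, 3, 1, 6, 3, 5, 2, 7, 0]
def rw1265 : List ℕ := [3, 5, 7, 4, 2, 4, 1, 3, 4, 2, 4, 2, 4, 3, 1, 6, 0, 2, 5, 3, 5, 3, 5, 2, 0, 5]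
def rw1266 : List ℕ := [1, 2, 4, 2, 4, 2, 5, 3, 1, 6, 0, 2, 4, 3, 5, 3, 5, 3, 0, 5, 3, 5, 7, 4, 2, 4]
def rw1267 : List ℕ := [7, 2, 4, 2, 4, 2, 1, 4, 1, 6, 3, 1, 2, 7, 0, 5, 0, 3, 5, 3, 5, 3, 6, 3, 3, 1, 0, 0, 2, 2]
def rw1268 : List ℕ := [2, 7, 0, 2, 6, 3, 0, 5, 3, 5, 2, 3, 3, 4, 2, 4, 1, 2, 7, 3, 1, 6, 3, 4, 3, 1, 2, 0, 2, 5]
def rw1269 : List ℕ := [3, 0, 3, 1, 7, 3, 5, 2, 6, 0, 2, 1, 2, 7, 4, 2, 0, 5, 1, 3, 1, 4, 0, 2, 0, 4, 1, 3, 5, 6]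
def rw1270 : List ℕ := [2, 0, 2, 0, 2, 5, 3, 1, 3, 1, 3, 1, 4, 0]
def rw1271 : List ℕ := [3, 5, 1, 3, 1, 1, 0, 0, 0, 2, 0, 4, 2, 4, 1, 4, 2, 4, 2, 1, 3, 5, 3, 5, 0, 5]
def rw1272 : List ℕ := [3, 4, 7, 1, 6, 5, 2, 5, 5, 3, 5, 2, 7, 4, 1, 0, 0, 5, 6, 3, 4, 2, 4, 4]
def rw1273 : List ℕ := [5, 1, 2, 0, 4, 3, 4, 7, 0, 5, 6, 3, 0, 5, 3, 5, 3, 4, 2, 4, 1, 2, 7, 4, 1, 6, 5, 2]
def rw1274 : List ℕ := [4, 6, 3, 4, 4, 3, 4, 7, 4, 2, 2, 3, 3, 3, 5, 6, 5, 2, 5, 5, 2, 7, 5, 2, 5, 1, 2, 0, 4, 3]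
def rw1275 : List ℕ := [2, 4, 4, 7, 5, 5, 3, 5, 3, 5, 5, 3, 5, 3, 6, 2, 4, 2, 4, 4, 2, 4]
def rw1276 : List ℕ := [5, 2, 0, 4, 3, 4, 7, 5, 2, 5, 1, 3, 4, 3, 4, 3, 4, 3, 1, 6, 0, 2, 5, 2, 5, 2]
def rw1277 : List ℕ := [3, 4, 3, 4, 3, 6, 1, 7, 2, 5, 2, 5, 2, 6, 0, 4, 3, 4, 3, 3, 1, 0, 0, 2, 2, 5, 2, 5, 1, 7]
def rw1278 : List ℕ := [2, 7, 3, 6, 3, 4, 1, 4, 3, 5, 3, 5, 7, 3, 1, 2, 0, 2, 6, 4, 2, 4, 2, 5, 0, 5]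
def rw1279 : List ℕ := [5, 5, 3, 5, 3, 7, 5, 6, 2, 4, 2, 4, 4, 3, 4, 2, 2, 7, 4, 1, 4, 0, 5, 6, 3, 3, 5, 2]
def rw1280 : List ℕ := [4, 4, 3, 4, 2, 2, 7, 4, 1, 0, 0, 5, 6, 3, 3, 5, 2, 5, 5, 3, 5, 3, 7, 1, 6, 2, 4, 2]
def rw1281 : List ℕ := [2, 7, 4, 1, 4, 0, 5, 6, 3, 3, 5, 2, 5, 5, 3, 5, 3, 7, 5, 6, 2, 4, 2, 4, 4, 3, 4, 2]
def rw1282 : List ℕ := [2, 7, 3, 5, 1, 3, 1, 0, 0, 2, 0, 4, 2, 6, 3, 0, 2, 2, 7, 4, 1, 4, 1, 5, 0, 5, 6, 3, 3, 1]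
def rw1283 : List ℕ := [4, 2, 4, 4, 7, 5, 6, 5, 5, 3, 5, 3, 3, 4, 2, 2, 7, 4, 1, 4, 0, 5, 6, 3, 3, 5, 2, 2]
def rw1284 : List ℕ := [2, 7, 4, 1, 5, 6, 3, 6, 3, 4, 3, 1, 7, 2, 7, 1, 3, 1, 0, 0, 2, 0, 6, 3, 6, 0, 2, 5, 2, 7]
def rw1285 : List ℕ := [2, 7, 4, 1, 6, 3, 6, 6, 3, 4, 1, 0, 0, 5, 2, 7, 7, 2, 7, 0, 5, 6, 3, 7, 5, 1, 4, 6]
def rw1286 : List ℕ := [3, 6, 3, 4, 3, 1, 7, 2, 7, 1, 3, 1, 4, 0, 2, 0, 6, 3, 6, 0, 2, 5, 2, 7, 2, 7, 4, 5, 5, 6]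
def rw1287 : List ℕ := [3, 6, 3, 4, 3, 4, 3, 5, 2, 5, 2, 7, 2, 7, 2, 5, 6, 3, 6, 5, 1, 2, 0, 4, 7, 2, 7, 4, 3, 6]
def rw1288 : List ℕ := [7, 7, 3, 1, 7, 4, 3, 4, 3, 5, 2, 5, 6, 0, 2, 6, 6, 5, 2, 5, 3, 1, 2, 0, 2, 4, 3, 4]
def rw1289 : List ℕ := [3, 6, 3, 4, 3, 1, 0, 0, 2, 5, 2, 7, 2, 7, 4, 3, 1, 3, 6, 3, 6, 1, 7, 2, 7, 2, 0, 2, 5, 6]
def rw1290 : List ℕ := [0, 2, 2, 2, 7, 0, 2, 4, 1, 3, 5, 6, 7, 7, 4, 2, 0, 5, 3, 1, 6, 3, 3, 3, 1, 6]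
def rw1291 : List ℕ := [2, 7, 3, 1, 6, 3, 1, 3, 1, 6, 0, 2, 0, 2, 7, 0, 2, 6, 3, 0, 5, 0, 2, 4, 7, 5, 3, 1, 4, 1]
def rw1292 : List ℕ := [3, 0, 5, 0, 2, 4, 5, 5, 3, 1, 4, 1, 2, 7, 3, 1, 6, 3, 1, 3, 1, 4, 0, 2, 0, 2, 7, 0, 2, 6]
def rw1293 : List ℕ := [1, 7, 4, 6, 2, 7, 5, 5, 4, 6, 3, 7, 5, 6, 0, 4, 4, 4, 1, 5, 5, 1, 4, 0, 4, 4, 0, 5, 5, 5]
def rw1294 : List ℕ := [4, 3, 4, 0, 6, 3, 6, 5, 1, 2, 0, 4, 7, 2, 7, 1, 5, 2, 5, 6, 3, 6, 3, 4, 3, 5, 2, 7, 2, 7]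
def rw1295 : List ℕ := [3, 6, 5, 0, 7, 2, 7, 1, 1, 0, 0, 0, 6, 3, 6, 1, 4, 7, 2, 7, 1, 5, 1, 4, 0, 6]
def rw1296 : List ℕ := [2, 7, 1, 1, 4, 0, 0, 6, 3, 6, 1, 4, 7, 2, 7, 1, 5, 5, 4, 0, 6, 3, 6, 5, 0, 7]
def rw1297 : List ℕ := [5, 6, 0, 2, 5, 0, 7, 2, 7, 1, 1, 4, 0, 0, 6, 3, 6, 1, 4, 3, 1, 7, 4, 3, 1, 7, 5, 6, 0, 2]
def rw1298 : List ℕ := [3, 1, 6, 0, 2, 0, 2, 6, 3, 3, 3, 1, 7, 4, 2, 0, 5, 7, 4, 1, 3, 5, 6, 0, 2, 2, 2, 7, 3, 1]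
def rw1299 : List ℕ := [1, 7, 3, 5, 1, 3, 1, 0, 0, 2, 0, 4, 2, 6, 0, 2, 1, 2, 7, 4, 1, 4, 1, 5, 0, 5, 6, 3, 0, 3]
def rw1300 : List ℕ := [3, 0, 5, 1, 3, 1, 1, 6, 0, 0, 2, 0, 4, 1, 2, 7, 3, 1, 6, 0, 2, 5, 7, 4, 3, 1, 7, 0, 2, 6]
def rw1301 : List ℕ := [1, 7, 3, 5, 1, 3, 1, 2, 0, 2, 0, 4, 2, 6, 0, 2, 1, 2, 7, 4, 1, 4, 3, 5, 0, 5, 6, 3, 0, 3]
def rw1302 : List ℕ := [7, 3, 1, 3, 1, 6, 0, 2, 0, 2, 6, 3, 4, 1, 3, 5, 3, 5, 2, 7, 7, 6, 3, 4, 2, 4, 2, 0, 5, 2]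
def rw1303 : List ℕ := [7, 3, 1, 7, 3, 4, 3, 4, 3, 3, 1, 2, 0, 2, 2, 5, 2, 5, 2, 6, 0, 2, 6, 0, 2, 6, 3, 7, 3, 1]
def rw1304 : List ℕ := [4, 1, 4, 3, 1, 2, 0, 2, 5, 0, 5, 2, 7, 0, 2, 6, 0, 5, 3, 5, 3, 4, 2, 4, 1, 7, 3, 1, 6, 3]
def rw1305 : List ℕ := [0, 5, 1, 3, 5, 0, 5, 3, 1, 4, 0, 2, 4, 1, 4, 2, 0, 4, 1, 4, 1, 4, 5, 5, 0, 5]
def rw1306 : List ℕ := [1, 6, 3, 4, 1, 4, 3, 1, 4, 0, 2, 5, 0, 5, 2, 7, 0, 2, 6, 0, 5, 3, 5, 5, 4, 2, 4, 1, 7, 3]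
def rw1307 : List ℕ := [6, 3, 6, 5, 1, 4, 0, 4, 7, 2, 7, 4, 3, 6, 3, 6, 3, 4, 3, 4, 5, 5, 2, 5, 2, 7, 2, 7, 2, 5]
def rw1308 : List ℕ := [2, 7, 1, 5, 3, 5, 2, 4, 0, 6, 3, 6, 5, 3, 7, 2, 7, 1, 4, 0, 6, 3, 6, 2, 4, 7]
def rw1309 : List ℕ := [5, 1, 3, 6, 3, 6, 2, 1, 3, 7, 2, 7, 2, 0, 4, 0, 6, 3, 6, 5, 3, 1, 0, 0, 2, 4, 7, 2, 7, 1]
def rw1310 : List ℕ := [2, 2, 4, 2, 4, 2, 5, 5, 3, 5, 3, 5]
def rw1311 : List ℕ := [4, 1, 3, 5, 3, 3, 5, 2, 2, 7, 7, 6, 3, 3, 4, 2, 2, 4, 2, 0, 5, 5, 7, 3, 1, 6, 0, 2, 6, 4]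
def rw1312 : List ℕ := [3, 5, 0, 5, 2, 4, 2, 2, 2, 7, 7, 6, 3, 3, 3, 5, 3, 4, 1, 4, 2, 5, 7, 3, 1, 6, 0, 2, 6, 4]
def rw1313 : List ℕ := [0, 0, 4, 1, 4, 1, 4, 4, 0, 5, 0, 5]
def rw1314 : List ℕ := [1, 5, 1, 5, 1, 5, 1, 5, 1, 4, 0, 4, 0, 4, 0, 4, 0, 4, 0, 4, 5, 5]
def rw1315 : List ℕ := [1, 5, 0, 4, 4, 1, 5, 5, 1, 4, 0, 0, 4, 4, 0, 5, 1, 1, 0, 0, 0, 4, 1, 5, 5, 1]
def rw1316 : List ℕ := [4, 3, 5, 3, 3, 5, 0, 4, 1, 5, 1, 4, 2, 2, 4, 2, 5, 5, 1, 1, 0, 0, 0, 4]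
def rw1317 : List ℕ := [0, 2, 5, 1, 4, 3, 1, 4, 3, 1, 4, 3, 1, 4, 3, 1, 0, 0, 2, 5, 0, 2, 5, 0, 2, 5]
def rw1318 : List ℕ := [3, 1, 3, 1, 3, 1, 4, 0, 2, 0, 2, 0, 2, 5]
def rw1319 : List ℕ := [5, 0, 5, 0, 4, 4, 1, 4, 1, 4, 0, 0]
def rw1320 : List ℕ := [1, 5, 1, 0, 0, 4, 0, 4, 0, 4, 0, 4, 0, 4, 1, 5, 1, 5, 1, 5, 1, 5]
def rw1321 : List ℕ := [2, 0, 5, 0, 5, 0, 5, 3, 4, 1, 4, 1, 4, 1, 3, 5, 0, 5, 3, 1, 2, 0, 2, 4, 1, 4]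
def rw1322 : List ℕ := [2, 0, 5, 3, 1, 6, 3, 1, 3, 1, 1, 6, 0, 0, 2, 0, 2, 7, 0, 2, 4, 1, 3, 5, 6, 3, 7, 2, 7, 4]
def rw1323 : List ℕ := [3, 6, 4, 2, 0, 5, 7, 2, 7, 2, 3, 3, 6, 3, 6, 4, 1, 3, 5, 7, 2, 7, 5, 3, 1, 2, 0, 2, 4, 6]
def rw1324 : List ℕ := [3, 3, 1, 4, 0, 2, 2, 7, 4, 2, 4, 2, 4, 1, 4, 1, 6, 3, 5, 2, 7, 0, 5, 0, 5, 3, 5, 3, 5, 6]
def rw1325 : List ℕ := [0, 2, 5, 2, 7, 3, 4, 3, 1, 7, 0, 2, 6, 3, 0, 5, 3, 3, 1, 6, 0, 2, 2, 4, 1, 2, 7, 3, 1, 6]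
def rw1326 : List ℕ := [2, 7, 2, 5, 0, 5, 6, 3, 6, 7, 7, 2, 7, 4, 1, 4, 3, 6, 3, 6, 0, 3, 3, 1, 6, 0, 2, 2, 1, 7]
def rw1327 : List ℕ := [2, 0, 5, 1, 3, 1, 2, 0, 2, 0, 4, 1, 3, 1, 4, 2, 0, 2, 4, 3, 5, 3, 1, 3, 5, 0]
def rw1328 : List ℕ := [3, 3, 3, 1, 2, 0, 2, 2, 2, 7, 3, 1, 4, 2, 0, 5, 0, 2, 6, 3, 7, 3, 1, 4, 1, 3, 5, 0, 2, 6]
def rw1329 : List ℕ := [7, 1, 6, 3, 6, 5, 6, 0, 2, 5, 6, 1, 3, 1, 0, 0, 2, 0, 7, 4, 3, 1, 7, 4, 7, 2]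
def rw1330 : List ℕ := [7, 5, 7, 2, 7, 1, 6, 3, 4, 5, 5, 2, 7, 0, 6, 3, 6, 4, 6, 2, 7, 4, 1, 4, 0, 5, 6, 3]
def rw1331 : List ℕ := [7, 1, 6, 3, 4, 7, 5, 2, 7, 0, 6, 3, 6, 4, 6, 2, 7, 4, 1, 6, 0, 5, 6, 3, 7, 5, 7, 2]
def rw1332 : List ℕ := [5, 6, 3, 1, 2, 7, 4, 6, 2, 7, 1, 4, 0, 5, 1, 4, 3, 1, 0, 0, 2, 5, 0, 4, 1, 5, 0, 6, 3, 7]
def rw1333 : List ℕ := [3, 3, 5, 7, 0, 6, 2, 7, 3, 4, 3, 1, 0, 0, 2, 5, 2, 6, 3, 7, 1, 6, 4, 2, 2, 5, 1, 4]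
def rw1334 : List ℕ := [4, 3, 1, 4, 3, 1, 6, 0, 2, 5, 0, 2, 5, 0, 2, 5, 0, 2, 5, 7, 4, 3, 1, 4, 3, 1]
def rw1335 : List ℕ := [7, 4, 1, 5, 6, 3, 7, 1, 3, 6, 3, 6, 6, 1, 3, 1, 0, 0, 2, 0, 7, 7, 2, 7, 2, 0, 6, 2]
def rw1336 : List ℕ := [6, 6, 3, 4, 1, 2, 0, 5, 2, 7, 7, 2, 7, 0, 5, 6, 3, 7, 5, 3, 4, 6, 2, 7, 4, 1, 6, 3]
def rw1337 : List ℕ := [3, 7, 5, 0, 6, 3, 6, 6, 3, 4, 1, 5, 2, 7, 7, 2, 7, 1, 4, 6, 2, 7, 4, 1, 0, 0, 5, 6]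
def rw1338 : List ℕ := [2, 0, 6, 2, 7, 4, 1, 5, 6, 3, 7, 1, 3, 6, 3, 6, 6, 1, 3, 1, 0, 0, 2, 0, 7, 7, 2, 7]
def rw1339 : List ℕ := [6, 2, 7, 4, 2, 1, 3, 5, 6, 3, 7, 1, 3, 6, 3, 6, 6, 3, 1, 0, 0, 2, 7, 7, 2, 7, 2, 0]
def rw1340 : List ℕ := [7, 4, 1, 6, 0, 5, 6, 3, 4, 2, 4, 4, 3, 4, 7, 7, 6, 5, 2, 5, 5, 3, 5, 2]
def rw1341 : List ℕ := [5, 6, 0, 2, 6, 6, 5, 2, 5, 3, 1, 6, 0, 2, 4, 3, 4, 7, 7, 3, 1, 7, 4, 3, 4, 7, 5, 2]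
def rw1342 : List ℕ := [3, 3, 5, 2, 5, 5, 3, 5, 3, 7, 3, 6, 2, 4, 2, 4, 4, 3, 4, 2, 2, 7, 4, 1, 2, 0, 5, 6]
def rw1343 : List ℕ := [5, 2, 6, 0, 4, 3, 4, 3, 3, 1, 0, 0, 2, 2, 5, 2, 5, 1, 7, 3, 4, 3, 4, 3, 6, 1, 7, 2, 5, 2]
def rw1344 : List ℕ := [6, 5, 2, 5, 2, 0, 5, 2, 7, 3, 6, 3, 4, 1, 3, 4, 3, 4, 7, 0, 5, 3, 1, 2, 0, 2, 4, 1]
def rw1345 : List ℕ := [3, 5, 2, 0, 2, 5, 0, 5, 6, 3, 3, 1, 0, 0, 2, 2, 7, 4, 1, 4, 3, 1, 3, 4, 2, 6, 3, 1, 2, 7]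
def rw1346 : List ℕ := [1, 3, 5, 0, 5, 6, 3, 3, 1, 0, 0, 2, 2, 7, 4, 1, 4, 2, 0, 2, 4, 2, 6, 3, 1, 2, 7, 3, 5, 3]
def rw1347 : List ℕ := [4, 4, 1, 5, 5, 5, 3, 3, 5, 3, 1, 5, 1, 1, 0, 0, 0, 4, 0, 2, 4, 2, 2, 4]
def rw1348 : List ℕ := [3, 4, 3, 4, 3, 4, 3, 1, 6, 0, 2, 5, 2, 5, 2, 5, 2, 0, 4, 3, 4, 7, 5, 2, 5, 1]
def rw1349 : List ℕ := [2, 6, 1, 5, 3, 1, 5, 5, 0, 3, 1, 0, 0, 2, 1, 4, 4, 0, 2, 4, 0, 7, 3, 5, 6, 3, 1, 2, 7, 4]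
def rw1350 : List ℕ := [5, 3, 5, 3, 5, 6, 3, 3, 1, 2, 0, 2, 2, 7, 4, 2, 4, 2, 4, 1, 4, 1, 6, 3, 3, 2, 7, 0, 5, 0]
def rw1351 : List ℕ := [0, 5, 1, 3, 5, 0, 5, 3, 1, 6, 0, 2, 4, 1, 4, 2, 0, 4, 1, 4, 1, 4, 7, 5, 0, 5]
def rw1352 : List ℕ := [0, 5, 0, 3, 5, 0, 5, 3, 1, 6, 0, 2, 4, 1, 4, 2, 1, 4, 1, 4, 1, 5, 7, 4, 0, 5]
def rw1353 : List ℕ := [4, 1, 4, 3, 5, 0, 5, 3, 1, 6, 0, 2, 4, 1, 4, 2, 5, 0, 5, 0, 5, 5, 7, 4, 4, 1]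
def rw1354 : List ℕ := [5, 6, 3, 3, 1, 2, 0, 2, 2, 7, 4, 2, 4, 2, 4, 1, 4, 1, 6, 3, 3, 2, 7, 0, 5, 0, 5, 3, 5, 3]
def rw1355 : List ℕ := [5, 0, 2, 1, 3, 1, 4, 0, 2, 0, 3, 1, 4, 1, 4, 2, 4, 1, 4, 5, 5, 0, 5, 3, 5, 0]
def rw1356 : List ℕ := [3, 5, 0, 5, 3, 5, 3, 3, 2, 4, 2, 4, 1, 4, 2, 4, 2, 1, 3, 1, 2, 0, 2, 0, 3, 5]
def rw1357 : List ℕ := [5, 3, 5, 3, 1, 2, 0, 2, 4, 2, 4, 1, 4, 2, 4, 3, 1, 3, 3, 2, 0, 2, 5, 3, 5, 0]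
def rw1358 : List ℕ := [7, 4, 1, 3, 5, 6, 1, 7, 4, 2, 0, 5, 6, 4, 4, 1, 4, 2, 2, 4, 1, 0, 0, 5, 3, 3, 5, 0, 5, 5]
def rw1359 : List ℕ := [5, 6, 3, 3, 1, 4, 0, 2, 2, 7, 4, 2, 6, 5, 2, 5, 2, 0, 5, 5, 4, 1, 3, 4, 3, 4, 7, 3]
def rw1360 : List ℕ := [1, 3, 1, 4, 1, 3, 1, 6, 0, 2, 0, 5, 0, 2, 0, 5, 3, 1, 3, 5, 7, 4, 2, 0, 2, 4]
def rw1361 : List ℕ := [2, 6, 3, 3, 1, 2, 0, 2, 2, 7, 3, 5, 3, 5, 3, 1, 4, 1, 6, 3, 3, 2, 7, 0, 5, 0, 2, 4, 2, 4]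
def rw1362 : List ℕ := [1, 4, 2, 0, 2, 4, 2, 6, 3, 7, 2, 7, 3, 5, 3, 1, 3, 5, 0, 5, 6, 3, 3, 1, 6, 0, 2, 2, 7, 4]
def rw1363 : List ℕ := [7, 0, 5, 0, 2, 4, 2, 4, 2, 6, 3, 7, 3, 5, 3, 5, 3, 1, 4, 1, 6, 3, 3, 3, 1, 2, 0, 2, 2, 2]
def rw1364 : List ℕ := [5, 3, 1, 6, 0, 2, 4, 1, 4, 2, 0, 4, 1, 4, 1, 4, 7, 5, 0, 5, 0, 5, 1, 3, 5, 0]
def rw1365 : List ℕ := [1, 3, 4, 2, 6, 3, 7, 2, 7, 3, 5, 2, 0, 2, 5, 0, 5, 6, 3, 3, 1, 6, 0, 2, 2, 7, 4, 1, 4, 3]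
def rw1366 : List ℕ := [1, 4, 0, 2, 0, 2, 0, 2, 5, 3, 1, 3, 1, 3]
def rw1367 : List ℕ := [7, 3, 1, 6, 3, 4, 3, 1, 2, 0, 2, 5, 2, 7, 0, 2, 6, 3, 0, 5, 3, 5, 2, 3, 3, 4, 2, 4, 1, 2]
def rw1368 : List ℕ := [2, 0, 5, 3, 1, 6, 3, 1, 3, 1, 1, 4, 0, 0, 2, 0, 2, 7, 0, 2, 4, 1, 3, 5, 6, 3, 5, 2, 7, 4]
def rw1369 : List ℕ := [4, 2, 6, 3, 3, 2, 7, 3, 5, 3, 1, 4, 1, 4, 2, 6, 3, 3, 1, 2, 0, 2, 2, 7, 3, 5, 0, 5, 0, 2]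
def rw1370 : List ℕ := [3, 5, 3, 1, 4, 1, 4, 2, 6, 3, 3, 1, 4, 0, 2, 2, 7, 3, 5, 0, 5, 0, 2, 4, 2, 6, 3, 5, 2, 7]
def rw1371 : List ℕ := [4, 3, 4, 7, 3, 5, 6, 3, 3, 1, 2, 0, 2, 2, 7, 4, 2, 6, 5, 2, 5, 2, 0, 5, 3, 4, 1, 3]
def rw1372 : List ℕ := [0, 5, 3, 5, 1, 4, 2, 4, 1, 3, 3, 5, 3, 5, 3, 3, 1, 0, 0, 2, 2, 4, 2, 4, 2, 2]
def rw1373 : List ℕ := [3, 4, 7, 3, 5, 6, 3, 3, 1, 4, 0, 2, 2, 7, 4, 2, 6, 5, 2, 5, 2, 0, 5, 5, 4, 1, 3, 4]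
def rw1374 : List ℕ := [5, 6, 1, 7, 4, 2, 6, 5, 2, 5, 2, 0, 5, 3, 3, 1, 0, 0, 2, 2, 4, 1, 3, 4, 3, 4, 7, 3]
def rw1375 : List ℕ := [5, 1, 3, 4, 3, 4, 3, 4, 3, 1, 6, 0, 2, 5, 2, 5, 2, 5, 2, 0, 4, 3, 4, 7, 5, 2]
def rw1376 : List ℕ := [7, 2, 5, 6, 3, 6, 5, 1, 6, 0, 4, 7, 2, 7, 4, 3, 6, 3, 6, 3, 4, 3, 4, 7, 5, 2, 5, 2, 7, 2]
def rw1377 : List ℕ := [3, 6, 1, 1, 5, 2, 7, 2, 7, 4, 3, 1, 2, 5, 6, 3, 6, 3, 4, 0, 0, 7, 2, 7, 1, 1, 0, 0, 0, 6]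
def rw1378 : List ℕ := [0, 2, 5, 2, 7, 2, 7, 4, 3, 5, 6, 3, 6, 3, 4, 3, 1, 7, 2, 7, 1, 3, 1, 2, 0, 2, 0, 6, 3, 6]
def rw1379 : List ℕ := [3, 6, 3, 4, 3, 1, 7, 2, 7, 1, 3, 1, 2, 0, 2, 0, 6, 3, 6, 0, 2, 5, 2, 7, 2, 7, 4, 3, 5, 6]
def rw1380 : List ℕ := [7, 1, 3, 6, 3, 6, 6, 5, 7, 7, 2, 7, 2, 0, 6, 2, 7, 4, 1, 3, 1, 4, 0, 2, 0, 5, 6, 3]
def rw1381 : List ℕ := [1, 3, 1, 6, 0, 2, 0, 5, 6, 3, 5, 0, 5, 0, 3, 4, 7, 7, 6, 5, 2, 1, 4, 1, 4, 2, 7, 4]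
def rw1382 : List ℕ := [1, 3, 1, 6, 0, 2, 0, 6, 3, 5, 7, 2, 7, 2, 2, 7, 7, 7, 6, 6, 3, 3, 6, 3, 6, 4, 2, 7]
def rw1383 : List ℕ := [1, 5, 1, 4, 0, 6, 3, 6, 5, 0, 7, 2, 7, 1, 1, 0, 0, 0, 6, 3, 6, 1, 4, 7, 2, 7]
def rw1384 : List ℕ := [1, 4, 3, 5, 0, 2, 0, 5, 2, 0, 2, 5, 1, 3, 1, 2, 0, 2, 0, 4, 3, 1, 3, 4, 1, 3]
def rw1385 : List ℕ := [1, 3, 0, 3, 1, 4, 0, 2, 1, 2, 0, 2, 2, 2, 5, 3, 3, 3]
def rw1386 : List ℕ := [5, 2, 5, 2, 0, 5, 2, 7, 3, 6, 3, 4, 1, 3, 4, 3, 4, 7, 0, 5, 3, 1, 2, 0, 2, 4, 1, 6]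
def rw1387 : List ℕ := [0, 2, 4, 2, 4, 2, 6, 3, 7, 3, 5, 3, 5, 3, 1, 4, 1, 6, 3, 3, 3, 1, 2, 0, 2, 2, 2, 7, 0, 5]
def rw1388 : List ℕ := [4, 1, 3, 5, 3, 5, 2, 7, 5, 6, 3, 4, 2, 4, 2, 0, 5, 2, 7, 1, 3, 1, 1, 4, 0, 0, 2, 0, 6, 3]
def rw1389 : List ℕ := [0, 5, 5, 3, 4, 4, 1, 4, 1, 4, 4, 1, 4, 1, 2, 0, 5, 0, 5, 5, 0, 5]
def rw1390 : List ℕ := [3, 1, 7, 0, 2, 6, 3, 0, 5, 5, 4, 1, 2, 7, 3, 1, 6, 0, 2, 5, 3, 1, 4, 0, 2, 4]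
def rw1391 : List ℕ := [4, 0, 2, 0, 4, 0, 2, 0, 4, 3, 5, 1, 3, 1, 5, 1, 3, 1, 5, 1, 3, 1, 2, 0, 2, 0]
def rw1392 : List ℕ := [6, 3, 6, 2, 1, 3, 7, 2, 7, 2, 0, 4, 0, 6, 3, 6, 5, 3, 1, 0, 0, 2, 4, 7, 2, 7, 1, 5, 1, 3]
def rw1393 : List ℕ := [1, 5, 1, 3, 6, 3, 6, 2, 3, 3, 7, 2, 7, 2, 0, 4, 0, 6, 3, 6, 5, 3, 1, 2, 0, 2, 4, 7, 2, 7]
def rw1394 : List ℕ := [5, 5, 1, 1, 4, 0, 0, 4, 4, 4, 2, 2, 4, 2, 0, 4, 5, 5, 1, 3, 5, 3, 3, 5]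
def rw1395 : List ℕ := [5, 5, 1, 2, 0, 4, 3, 1, 2, 5, 1, 3, 0, 4, 4, 3, 4, 4, 3, 1, 0, 0, 2, 5, 5, 2]
def rw1396 : List ℕ := [7, 7, 2, 7, 1, 6, 5, 1, 2, 0, 4, 7, 0, 6, 3, 6, 6, 1, 4, 1, 4, 4, 3, 5, 5, 0, 5, 0]
def rw1397 : List ℕ := [6, 6, 5, 1, 2, 0, 4, 0, 3, 1, 6, 0, 2, 1, 5, 1, 3, 0, 4, 7, 7, 1, 3, 6, 6, 7, 7, 7, 2, 0]
def rw1398 : List ℕ := [7, 7, 1, 3, 6, 6, 3, 7, 7, 2, 0, 6, 6, 4, 3, 4, 4, 0, 3, 3, 1, 2, 0, 2, 2, 1, 5, 5, 2, 5]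
def rw1399 : List ℕ := [1, 4, 1, 1, 4, 1, 4, 1, 1, 0, 0, 0, 5, 0, 5, 0, 0, 5, 0, 5, 1, 4]
def rw1400 : List ℕ := [2, 7, 1, 4, 0, 5, 1, 4, 3, 1, 0, 0, 2, 5, 0, 4, 1, 5, 0, 6, 3, 7, 5, 6, 3, 1, 2, 7, 4, 6]
def rw1401 : List ℕ := [4, 6, 2, 7, 1, 4, 0, 5, 1, 4, 3, 1, 4, 0, 2, 5, 0, 4, 1, 5, 0, 6, 3, 7, 5, 6, 3, 5, 2, 7]
def rw1402 : List ℕ := [0, 6, 3, 4, 2, 4, 2, 0, 5, 2, 7, 3, 5, 2, 6, 3, 4, 1, 3, 5, 3, 5, 2, 7, 1, 3, 1, 4, 0, 2]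
def rw1403 : List ℕ := [5, 0, 5, 0, 3, 4, 7, 1, 3, 1, 4, 0, 2, 0, 6, 5, 2, 1, 4, 1, 4, 2, 7, 4, 5, 5, 6, 3]
def rw1404 : List ℕ := [3, 4, 3, 1, 7, 2, 7, 1, 3, 1, 4, 0, 2, 0, 6, 3, 6, 0, 2, 5, 2, 7, 2, 7, 4, 5, 5, 6, 3, 6]
def rw1405 : List ℕ := [1, 3, 4, 3, 1, 5, 1, 7, 1, 3, 1, 4, 0, 2, 0, 6, 0, 4, 0, 2, 5, 2, 0, 4, 7, 4, 5, 5, 6, 5]
def rw1406 : List ℕ := [4, 0, 2, 0, 4, 0, 2, 0, 4, 1, 5, 1, 3, 1, 5, 1, 3, 1, 5, 1, 3, 1, 0, 0, 2, 0]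
def rw1407 : List ℕ := [3, 3, 1, 4, 0, 2, 2, 7, 4, 2, 6, 5, 2, 5, 2, 0, 5, 5, 4, 1, 3, 4, 3, 4, 7, 3, 5, 6]
def rw1408 : List ℕ := [6, 3, 0, 5, 3, 5, 1, 4, 2, 4, 1, 2, 7, 4, 1, 6, 5, 2, 5, 1, 0, 0, 4, 3, 4, 7, 0, 5]
def rw1409 : List ℕ := [2, 4, 3, 5, 3, 5, 7, 4, 1, 0, 0, 5, 6, 4, 2, 4, 2, 5, 3, 4, 3, 4, 7, 1, 6, 5, 2, 5]
def rw1410 : List ℕ := [6, 3, 6, 3, 4, 0, 0, 7, 2, 7, 1, 1, 6, 0, 0, 6, 3, 6, 1, 1, 5, 2, 7, 2, 7, 4, 3, 7, 2, 5]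
def rw1411 : List ℕ := [5, 6, 3, 6, 3, 4, 3, 6, 3, 6, 3, 1, 6, 0, 2, 7, 2, 7, 2, 5, 2, 7, 2, 7, 4, 7]
def rw1412 : List ℕ := [7, 3, 1, 7, 4, 3, 4, 1, 5, 2, 5, 6, 0, 2, 6, 6, 5, 2, 5, 3, 1, 0, 0, 2, 4, 3, 4, 7]
def rw1413 : List ℕ := [1, 5, 6, 3, 6, 3, 4, 3, 6, 3, 6, 3, 1, 0, 0, 2, 7, 2, 7, 2, 5, 2, 7, 2, 7, 4]
def rw1414 : List ℕ := [3, 5, 6, 3, 6, 3, 4, 3, 6, 3, 6, 3, 1, 2, 0, 2, 7, 2, 7, 2, 5, 2, 7, 2, 7, 4]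
def rw1415 : List ℕ := [0, 6, 2, 7, 4, 3, 1, 6, 0, 2, 5, 6, 3, 7, 1, 3, 6, 3, 6, 6, 2, 7, 3, 7, 7, 2, 7, 2]
def rw1416 : List ℕ := [4, 6, 2, 7, 4, 1, 6, 3, 6, 6, 3, 4, 1, 6, 0, 5, 2, 7, 7, 2, 7, 0, 5, 6, 3, 7, 5, 7]
def rw1417 : List ℕ := [2, 5, 0, 6, 3, 6, 2, 5, 2, 7, 3, 4, 3, 7, 2, 7, 1, 4, 3, 6, 3, 6, 5, 1, 6, 0, 4, 7, 2, 7]
def rw1418 : List ℕ := [3, 1, 1, 1, 6, 0, 0, 0, 2, 0, 7, 0, 2, 4, 1, 3, 5, 6, 3, 7, 2, 7, 4, 2, 0, 5, 3, 1, 6, 1]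
def rw1419 : List ℕ := [7, 5, 7, 4, 6, 3, 6, 4, 2, 0, 5, 0, 6, 3, 6, 3, 1, 6, 0, 2, 7, 2, 7, 1, 4, 1, 3, 5, 7, 2]
def rw1420 : List ℕ := [3, 5, 7, 4, 2, 4, 6, 3, 6, 0, 6, 3, 6, 4, 2, 4, 1, 6, 0, 5, 3, 5, 7, 2, 7, 1, 7, 2, 7, 5]
def rw1421 : List ℕ := [0, 2, 1, 3, 5, 3, 5, 0, 5, 3, 5, 2, 3, 3, 4, 2, 4, 1, 4, 2, 4, 2, 0, 3, 1, 2]
def rw1422 : List ℕ := [0, 2, 6, 0, 5, 7, 0, 3, 1, 6, 0, 2, 1, 6, 4, 1, 7, 3, 1, 7, 5, 3, 6, 2, 7, 3, 7, 2, 4, 6]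
def rw1423 : List ℕ := [6, 3, 3, 5, 3, 4, 2, 2, 7, 0, 2, 6, 3, 3, 5, 3, 1, 2, 0, 2, 4, 2, 2, 7, 3, 1]
def rw1424 : List ℕ := [3, 5, 0, 5, 3, 5, 3, 1, 6, 0, 2, 4, 2, 4, 1, 4, 2, 4, 3, 1, 3, 7, 2, 0, 2, 5]
def rw1425 : List ℕ := [7, 3, 1, 3, 1, 6, 0, 2, 0, 2, 6, 0, 2, 5, 3, 1, 4, 1, 2, 7, 7, 6, 3, 0, 5, 0, 2, 4, 3, 1]
def rw1426 : List ℕ := [6, 3, 6, 2, 7, 3, 7, 2, 7, 1, 7, 2, 7, 2, 0, 3, 1, 6, 0, 2, 1, 3, 6, 3, 6, 0]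
def rw1427 : List ℕ := [0, 6, 3, 6, 0, 6, 3, 6, 7, 7, 2, 7, 1, 7, 2, 7, 1, 6]
def rw1428 : List ℕ := [1, 7, 0, 2, 6, 3, 0, 5, 1, 4, 1, 2, 7, 3, 1, 6, 0, 2, 5, 3, 1, 0, 0, 2, 4, 3]
def rw1429 : List ℕ := [4, 3, 5, 2, 5, 2, 6, 0, 2, 6, 0, 2, 6, 3, 3, 1, 2, 0, 2, 2, 7, 3, 1, 7, 3, 1, 7, 3, 4, 3]
def rw1430 : List ℕ := [2, 5, 2, 6, 3, 6, 5, 5, 4, 7, 2, 7, 3, 4, 3, 4, 7, 2, 7, 3, 4, 3, 4, 2, 5, 2, 6, 3, 6, 5]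
def rw1431 : List ℕ := [3, 4, 7, 5, 2, 5, 2, 6, 0, 2, 6, 0, 2, 6, 3, 3, 1, 6, 0, 2, 2, 7, 3, 1, 7, 3, 1, 7, 3, 4]
def rw1432 : List ℕ := [5, 2, 5, 2, 6, 0, 4, 3, 4, 3, 3, 1, 2, 0, 2, 2, 5, 2, 5, 1, 7, 3, 4, 3, 4, 3, 6, 3, 7, 2]
def rw1433 : List ℕ := [6, 6, 3, 4, 1, 4, 0, 5, 2, 7, 7, 2, 5, 2, 5, 5, 3, 5, 7, 5, 5, 4, 6, 4, 2, 4, 4, 3, 4, 3]
def rw1434 : List ℕ := [6, 0, 5, 6, 3, 4, 2, 4, 4, 3, 4, 7, 7, 6, 5, 2, 5, 5, 3, 5, 2, 7, 4, 1]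
def rw1435 : List ℕ := [1, 1, 6, 0, 0, 6, 3, 6, 1, 3, 0, 6, 3, 6, 2, 7, 3, 7, 2, 7, 1, 2, 0, 7, 2, 7]
def rw1436 : List ℕ := [7, 2, 1, 3, 1, 6, 0, 2, 0, 3, 6, 3, 6, 0, 6, 3, 6, 3, 7, 2, 7, 2, 7, 1, 7, 2]
def rw1437 : List ℕ := [0, 2, 5, 6, 1, 3, 1, 0, 0, 2, 0, 7, 4, 3, 1, 7, 4, 7, 2, 7, 1, 6, 3, 6, 5, 6]
def rw1438 : List ℕ := [4, 3, 4, 6, 3, 3, 0, 2, 2, 7, 5, 2, 5, 2, 5, 7, 3, 5, 3, 5, 7, 1, 6, 4, 2, 4, 2, 6, 4, 3]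
def rw1439 : List ℕ := [6, 0, 4, 4, 3, 1, 1, 6, 0, 0, 2, 5, 5, 1, 7, 7, 5, 6, 2, 7, 2, 7, 7, 6, 3, 6, 3, 7, 4, 6]
def rw1440 : List ℕ := [7, 2, 7, 1, 7, 1, 1, 6, 0, 0, 6, 0, 6, 3, 6, 0, 6, 0, 3, 3, 1, 3, 7, 2, 0, 2, 2, 1, 7, 1]
def rw1441 : List ℕ := [2, 7, 3, 1, 3, 1, 3, 1, 6, 0, 2, 0, 2, 0]
def rw1442 : List ℕ := [1, 7, 1, 7, 1, 7, 1, 3, 6, 0, 6, 3, 1, 6, 0, 2, 7, 1, 7, 2, 0, 6, 0, 6, 0, 6, 0, 6, 7, 7]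
def rw1443 : List ℕ := [3, 1, 7, 4, 5, 5, 6, 0, 2, 7, 2, 7, 1, 5, 6, 3, 1, 3, 1, 4, 0, 2, 0, 2, 7, 4, 0, 6, 3, 6]
def rw1444 : List ℕ := [0, 3, 1, 7, 1, 3, 1, 1, 0, 0, 0, 2, 0, 6, 0, 2, 1, 2, 7, 4, 2, 0, 5, 1, 4, 1, 3, 5, 6, 3]
def rw1445 : List ℕ := [2, 7, 1, 3, 1, 1, 6, 0, 0, 2, 0, 6, 3, 4, 1, 3, 5, 3, 5, 2, 7, 7, 6, 3, 4, 2, 4, 2, 0, 5]
def rw1446 : List ℕ := [5, 2, 6, 0, 2, 6, 0, 2, 6, 3, 3, 1, 2, 0, 2, 2, 7, 3, 1, 7, 3, 1, 7, 3, 4, 3, 4, 3, 5, 2]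
def rw1447 : List ℕ := [4, 7, 7, 3, 1, 7, 4, 3, 4, 5, 5, 2, 5, 6, 0, 2, 6, 6, 5, 2, 5, 3, 1, 4, 0, 2, 4, 3]
def rw1448 : List ℕ := [6, 3, 4, 7, 5, 2, 7, 0, 6, 3, 6, 4, 6, 2, 7, 4, 1, 6, 0, 5, 6, 3, 7, 5, 7, 2, 7, 1]
def rw1449 : List ℕ := [2, 5, 6, 1, 3, 1, 0, 0, 2, 0, 7, 4, 3, 1, 7, 4, 7, 2, 7, 1, 6, 3, 6, 5, 6, 0]
def rw1450 : List ℕ := [3, 6, 5, 3, 7, 2, 4, 7, 2, 7, 1, 5, 3, 7, 2, 7, 1, 6, 0, 6, 3, 6, 2, 4, 0, 6]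
def rw1451 : List ℕ := [5, 6, 3, 3, 5, 3, 7, 2, 4, 2, 2, 7, 4, 2, 2, 7, 0, 7, 2, 7, 1, 6, 0, 6, 3, 6, 1, 6, 3, 3]
def rw1452 : List ℕ := [5, 3, 5, 0, 5, 1, 4, 1, 4, 2, 4, 1, 4, 1, 3, 1, 3, 1, 0, 0, 2, 0, 2, 0, 5, 0]
def rw1453 : List ℕ := [5, 0, 5, 0, 2, 1, 3, 1, 0, 0, 2, 0, 3, 1, 4, 1, 4, 2, 4, 1, 4, 1, 5, 0, 5, 3]
def rw1454 : List ℕ := [3, 5, 6, 3, 0, 3, 1, 2, 0, 2, 1, 2, 7, 4, 2, 0, 5, 3, 1, 6, 3, 7, 0, 2, 4, 1]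
def rw1455 : List ℕ := [6, 3, 3, 3, 1, 7, 4, 1, 4, 1, 5, 0, 5, 6, 0, 2, 2, 2, 7, 3, 5, 1, 3, 1, 0, 0, 2, 0, 4, 2]
def rw1456 : List ℕ := [5, 2, 0, 5, 1, 4, 1, 3, 4, 3, 4, 7, 3, 5, 6, 3, 3, 1, 0, 0, 2, 2, 7, 4, 2, 6, 5, 2]
def rw1457 : List ℕ := [7, 4, 1, 6, 5, 2, 5, 1, 0, 0, 4, 3, 4, 7, 0, 5, 6, 3, 0, 5, 3, 5, 1, 4, 2, 4, 1, 2]
def rw1458 : List ℕ := [2, 4, 1, 4, 2, 4, 2, 1, 3, 1, 0, 0, 2, 0, 3, 5, 3, 5, 0, 5, 3, 5, 3, 1, 2, 4]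
def rw1459 : List ℕ := [3, 6, 0, 6, 3, 6, 7, 7, 2, 7, 1, 7, 2, 7, 1, 6, 0, 6]
def rw1460 : List ℕ := [4, 2, 2, 4, 2, 0, 4, 7, 5, 1, 3, 5, 3, 3, 5, 5, 5, 1, 1, 6, 0, 0, 4, 4]
def rw1461 : List ℕ := [1, 5, 5, 1, 1, 6, 0, 0, 4, 4, 0, 0, 5, 7, 3, 1, 6, 3, 3, 7, 2, 2, 7, 0, 2, 6, 4, 1]
def rw1462 : List ℕ := [0, 0, 4, 1, 5, 5, 1, 1, 5, 0, 4, 4, 5, 5, 5, 1, 4, 0, 0, 4, 4, 0, 5, 1, 1, 4]
def rw1463 : List ℕ := [5, 5, 1, 1, 5, 5, 1, 1, 6, 0, 0, 4, 4, 0, 0, 4, 4, 0, 0, 4, 4, 7, 5, 5, 1, 1]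
def rw1464 : List ℕ := [3, 4, 1, 3, 4, 1, 6, 0, 5, 2, 0, 5, 2, 0, 5, 2, 0, 5, 2, 7, 3, 4, 1, 3, 4, 1]
def rw1465 : List ℕ := [7, 0, 2, 6, 3, 3, 5, 0, 3, 1, 6, 0, 2, 1, 4, 2, 2, 7, 3, 1, 6, 3, 3, 5, 2, 7, 3, 4, 2, 2]
def rw1466 : List ℕ := [1, 4, 3, 1, 2, 0, 2, 5, 0, 5, 2, 7, 0, 2, 6, 0, 5, 3, 5, 3, 4, 2, 4, 1, 7, 3, 1, 6, 3, 4]
def rw1467 : List ℕ := [5, 1, 3, 5, 0, 5, 3, 1, 0, 0, 2, 4, 1, 4, 2, 0, 4, 1, 4, 1, 4, 1, 5, 0, 5, 0]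
def rw1468 : List ℕ := [0, 4, 4, 0, 0, 4, 0, 4, 4, 5, 5, 5, 1, 5, 1, 1, 5, 5, 1, 5, 1, 1, 4, 0, 0, 4]
def rw1469 : List ℕ := [6, 3, 3, 1, 6, 0, 2, 2, 7, 4, 2, 0, 5, 3, 1, 6, 3, 7, 2, 7, 0, 2, 4, 1, 3, 5]
def rw1470 : List ℕ := [7, 2, 2, 6, 3, 6, 7, 7, 2, 7, 3, 3, 6, 3, 6, 0, 4, 1, 4, 3, 1, 6, 0, 2, 5, 0, 5, 1, 7, 2]
def rw1471 : List ℕ := [1, 3, 6, 3, 6, 2, 3, 3, 7, 2, 7, 2, 0, 4, 0, 6, 3, 6, 5, 3, 1, 2, 0, 2, 4, 7, 2, 7, 1, 5]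
def rw1472 : List ℕ := [6, 3, 3, 5, 1, 4, 2, 2, 7, 0, 2, 6, 3, 3, 5, 3, 1, 0, 0, 2, 4, 2, 2, 7, 3, 1]
def rw1473 : List ℕ := [7, 2, 7, 1, 1, 0, 0, 0, 6, 3, 6, 1, 4, 7, 2, 7, 1, 5, 1, 4, 0, 6, 3, 6, 5, 0]
def rw1474 : List ℕ := [4, 7, 3, 1, 6, 0, 2, 6, 5, 2, 1, 4, 1, 4, 2, 7, 4, 2, 7, 3, 5, 6, 3, 5, 0, 5, 0, 3]
def rw1475 : List ℕ := [5, 5, 2, 0, 3, 4, 5, 5, 2, 1, 3, 4, 4, 3, 4, 4, 0, 3, 1, 4, 0, 2, 1, 5, 5, 2]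
def rw1476 : List ℕ := [1, 4, 3, 1, 2, 1, 5, 1, 4, 0, 3, 0, 2, 5, 0, 3, 3, 3, 1, 1, 0, 0, 0, 2, 2, 2]
def rw1477 : List ℕ := [7, 1, 2, 1, 4, 0, 3, 0, 6, 3, 6, 1, 3, 7, 2, 7, 2, 5, 3, 6, 3, 6, 2, 0, 7, 2]
def rw1478 : List ℕ := [2, 7, 2, 5, 3, 6, 3, 6, 1, 3, 7, 2, 7, 1, 1, 1, 4, 0, 0, 0, 6, 3, 6, 2, 0, 7]
def rw1479 : List ℕ := [4, 7, 7, 3, 1, 7, 4, 3, 4, 7, 5, 2, 5, 6, 0, 2, 6, 6, 5, 2, 5, 3, 1, 6, 0, 2, 4, 3]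
def rw1480 : List ℕ := [1, 6, 0, 5, 6, 3, 4, 2, 4, 4, 3, 4, 7, 7, 6, 5, 2, 5, 5, 3, 5, 2, 7, 4]
def rw1481 : List ℕ := [6, 4, 2, 4, 2, 5, 3, 4, 3, 4, 7, 3, 6, 5, 2, 5, 2, 4, 3, 5, 3, 5, 7, 4, 1, 2, 0, 5]
def rw1482 : List ℕ := [4, 2, 2, 5, 3, 5, 3, 5, 5, 2, 4, 2]
def rw1483 : List ℕ := [2, 4, 2, 2, 1, 4, 0, 3, 3, 5, 3, 3, 0, 3, 4, 4, 3, 5, 2, 5, 5, 2, 1, 2]
def rw1484 : List ℕ := [3, 4, 1, 2, 2, 0, 3, 0, 5, 1, 1, 1, 0, 0, 0, 0, 4, 1, 2, 1, 3, 3, 0, 5, 2, 1]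
def rw1485 : List ℕ := [5, 2, 7, 2, 7, 2, 5, 6, 3, 6, 5, 1, 0, 0, 4, 7, 2, 7, 4, 3, 6, 3, 6, 3, 4, 3, 4, 1, 5, 2]
def rw1486 : List ℕ := [2, 0, 4, 3, 4, 1, 5, 2, 5, 1, 3, 4, 3, 4, 3, 4, 3, 1, 0, 0, 2, 5, 2, 5, 2, 5]
def rw1487 : List ℕ := [0, 2, 5, 2, 7, 2, 7, 4, 1, 5, 6, 3, 6, 3, 4, 3, 1, 7, 2, 7, 1, 3, 1, 0, 0, 2, 0, 6, 3, 6]
def rw1488 : List ℕ := [4, 3, 5, 2, 1, 3, 4, 4, 3, 4, 4, 0, 3, 1, 2, 0, 2, 1, 5, 5, 2, 5, 5, 2, 0, 3]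
def rw1489 : List ℕ := [5, 0, 5, 3, 5, 5, 4, 2, 4, 1, 4, 2, 4, 1, 4, 0, 5, 3]
def rw1490 : List ℕ := [3, 5, 0, 5, 3, 4, 1, 4, 1, 2, 0, 5, 0, 5, 2, 4, 1, 4, 2, 0, 5, 5, 3, 4, 4, 1]
def rw1491 : List ℕ := [1, 2, 1, 2, 0, 0, 5, 1, 1, 1, 0, 0, 0, 0, 4, 1, 1, 3, 0, 3, 0, 5, 2, 1, 3, 4]
def rw1492 : List ℕ := [1, 2, 2, 2, 0, 0, 5, 2, 1, 3, 4, 1, 1, 3, 3, 3, 0, 5, 1, 1, 1, 0, 0, 0, 0, 4]
def rw1493 : List ℕ := [5, 2, 0, 3, 0, 4, 1, 2, 1, 1, 1, 0, 0, 0, 0, 3, 0, 5, 1, 2, 1, 3, 4, 2, 1, 3]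
def rw1494 : List ℕ := [0, 0, 2, 1, 5, 7, 4, 0, 3, 1, 1, 5, 0, 3, 0, 3, 1, 1, 6, 0, 0, 2, 1, 2, 1, 4]
def rw1495 : List ℕ := [1, 5, 0, 3, 0, 3, 1, 1, 0, 0, 0, 2, 1, 2, 1, 4, 0, 3, 0, 2, 5, 1, 4, 3, 1, 2]
def rw1496 : List ℕ := [0, 3, 1, 1, 2, 0, 0, 2, 1, 2, 1, 4, 0, 3, 0, 2, 5, 3, 4, 3, 1, 2, 1, 5, 0, 3]
def rw1497 : List ℕ := [4, 3, 1, 2, 1, 5, 0, 3, 3, 1, 0, 0, 2, 2, 1, 4, 0, 3, 0, 2, 5, 0, 3, 1, 2, 1]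
def rw1498 : List ℕ := [1, 6, 2, 1, 5, 3, 1, 4, 1, 1, 2, 0, 0, 5, 0, 2, 4, 0, 3, 7, 0, 2, 6, 2, 2, 3, 3, 3, 7, 3]
def rw1499 : List ℕ := [1, 6, 1, 3, 7, 0, 2, 6, 1, 3, 1, 0, 0, 2, 0, 7, 3, 1, 6, 2, 0, 7, 0, 2, 6, 2, 1, 3, 7, 3]
def rw1500 : List ℕ := [2, 0, 7, 0, 2, 6, 2, 1, 3, 7, 3, 1, 6, 1, 3, 7, 0, 2, 6, 1, 3, 1, 0, 0, 2, 0, 7, 3, 1, 6]
def rw1501 : List ℕ := [5, 0, 0, 5, 0, 5, 5, 4, 1, 4, 1, 1, 4, 1, 4, 1, 1, 4, 0, 0, 5, 0]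
def rw1502 : List ℕ := [1, 4, 0, 5, 0, 5, 5, 0, 5, 0, 5, 5, 5, 4, 4, 1, 4, 1, 4, 4, 1, 4]
def rw1503 : List ℕ := [2, 0, 4, 1, 4, 1, 4, 1, 5, 0, 5, 0, 5, 1, 3, 5, 0, 5, 3, 1, 0, 0, 2, 4, 1, 4]
def rw1504 : List ℕ := [0, 4, 1, 3, 1, 4, 1, 3, 1, 4, 5, 5, 0, 2, 0, 5, 0, 2, 0, 5, 1, 3, 1, 4, 0, 2]
def rw1505 : List ℕ := [5, 0, 2, 0, 5, 1, 3, 1, 4, 0, 2, 0, 4, 1, 3, 1, 4, 2, 0, 2, 4, 5, 5, 3, 1, 3]
def rw1506 : List ℕ := [3, 4, 1, 3, 1, 4, 1, 3, 1, 0, 0, 2, 0, 5, 0, 2, 0, 5, 2, 0, 2, 5, 1, 4, 3, 1]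
def rw1507 : List ℕ := [2, 4, 1, 3, 1, 4, 1, 3, 1, 0, 0, 2, 0, 5, 0, 2, 0, 5, 3, 1, 3, 5, 1, 4, 2, 0]
def rw1508 : List ℕ := [0, 5, 1, 1, 4, 0, 0, 4, 1, 5, 5, 1, 1, 5, 0, 4, 4, 5, 5, 5, 1, 4, 0, 0, 4, 4]
def rw1509 : List ℕ := [1, 1, 4, 0, 0, 4, 0, 2, 4, 2, 2, 4, 4, 4, 5, 5, 5, 5, 3, 3, 5, 3, 1, 5]
def rw1510 : List ℕ := [0, 2, 0, 3, 0, 3, 1, 3, 3, 5, 2, 2, 0, 2, 1, 2, 1, 3, 1, 1, 4, 0]
def rw1511 : List ℕ := [1, 2, 0, 2, 2, 1, 2, 1, 3, 0, 3, 3, 1, 3, 0, 3, 3, 1, 0, 0, 2, 2]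
def rw1512 : List ℕ := [5, 3, 5, 1, 3, 1, 1, 2, 0, 0, 2, 0, 4, 2, 4, 1, 4, 2, 4, 2, 3, 3, 5, 3, 5, 0]
def rw1513 : List ℕ := [0, 5, 0, 5, 3, 1, 1, 0, 0, 0, 2, 4, 1, 4, 1, 1, 4, 1, 4, 2, 1, 3, 5, 0, 5, 0]
def rw1514 : List ℕ := [4, 1, 4, 3, 5, 0, 5, 3, 1, 0, 0, 2, 4, 1, 4, 2, 5, 0, 5, 0, 5, 5, 1, 4, 4, 1]
def rw1515 : List ℕ := [2, 4, 1, 3, 5, 3, 5, 3, 5, 3, 1, 0, 0, 2, 4, 2, 4, 2, 4, 2, 0, 5, 3, 5, 1, 4]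
def rw1516 : List ℕ := [4, 0, 5, 3, 5, 3, 4, 2, 4, 1, 5, 3, 5, 3, 5, 5, 3, 1, 2, 0, 2, 4, 4, 2, 4, 2]
def rw1517 : List ℕ := [5, 3, 5, 3, 5, 1, 2, 0, 4, 2, 4, 2, 4, 4, 2, 0, 5, 3, 5, 3, 4, 2, 4, 1, 3, 5]
def rw1518 : List ℕ := [3, 5, 3, 4, 2, 4, 1, 4, 2, 4, 1, 2, 0, 5, 3, 5, 0, 5]
def rw1519 : List ℕ := [2, 0, 2, 1, 1, 2, 0, 0, 3, 1, 3, 3, 3, 3, 1, 3, 3, 2, 0, 2, 2, 2]
def rw1520 : List ℕ := [1, 1, 1, 4, 0, 0, 0, 2, 4, 0, 3, 1, 1, 5, 0, 3, 5, 2, 1, 4, 0, 0, 2, 1, 5, 3]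
def rw1521 : List ℕ := [3, 5, 0, 5, 3, 1, 1, 2, 0, 0, 2, 4, 1, 4, 2, 0, 0, 5, 0, 5, 3, 4, 1, 4, 1, 1]
def rw1522 : List ℕ := [3, 3, 0, 5, 1, 2, 7, 3, 0, 4, 1, 2, 2, 2, 0, 0, 5, 1, 1, 6, 0, 0, 4, 1, 1, 3]
def rw1523 : List ℕ := [0, 2, 0, 0, 0, 3, 1, 3, 3, 3]
def rw1524 : List ℕ := [3, 3, 0, 3, 1, 0, 0, 2, 1, 2, 2, 0, 2, 1, 2, 2, 1, 3, 3, 0, 3, 1]
def rw1525 : List ℕ := [1, 3, 3, 0, 5, 1, 1, 2, 0, 0, 4, 1, 2, 2, 0, 3, 0, 5, 1, 2, 3, 3, 0, 4, 1, 2]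
def rw1526 : List ℕ := [1, 3, 7, 3, 3, 1, 2, 0, 2, 2, 6, 2, 0, 7, 0, 2, 6, 1, 3, 7, 2, 3, 3, 6, 2, 0, 7, 3, 1, 6]
def rw1527 : List ℕ := [7, 0, 2, 6, 1, 3, 3, 0, 5, 1, 4, 1, 2, 2, 0, 7, 3, 1, 6, 2, 1, 5, 3, 1, 0, 0, 2, 4, 0, 3]
def rw1528 : List ℕ := [0, 7, 0, 2, 6, 2, 5, 3, 7, 3, 1, 6, 1, 3, 7, 0, 2, 6, 1, 3, 1, 4, 0, 2, 0, 7, 3, 1, 6, 2]
def rw1529 : List ℕ := [2, 6, 2, 1, 3, 7, 3, 1, 6, 1, 3, 7, 0, 2, 6, 1, 3, 1, 0, 0, 2, 0, 7, 3, 1, 6, 2, 0, 7, 0]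
def rw1530 : List ℕ := [1, 1, 3, 1, 2, 1, 1, 4, 0, 0, 3, 0, 2, 0, 0, 3, 3, 3, 1, 3, 5, 2, 0, 2, 2, 2]
def rw1531 : List ℕ := [2, 5, 1, 3, 1, 2, 0, 2, 0, 4, 3, 1, 3, 4, 1, 3, 1, 4, 3, 5, 0, 2, 0, 5, 2, 0]
def rw1532 : List ℕ := [2, 5, 0, 3, 7, 2, 1, 4, 3, 1, 2, 1, 5, 0, 3, 3, 1, 6, 0, 2, 2, 1, 4, 0, 3, 0]
def rw1533 : List ℕ := [3, 1, 2, 0, 2, 6, 3, 4, 2, 4, 2, 0, 5, 2, 7, 3, 6, 3, 4, 1, 3, 5, 3, 5, 2, 7]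
def rw1534 : List ℕ := [1, 1, 6, 0, 0, 5, 0, 5, 0, 0, 5, 0, 5, 7, 4, 1, 4, 1, 1, 4, 1, 4]
def rw1535 : List ℕ := [0, 5, 3, 4, 1, 4, 2, 4, 1, 4, 3, 1, 3, 3, 1, 2, 0, 2, 2, 0, 2, 5, 0, 5, 3, 5]
def rw1536 : List ℕ := [1, 4, 0, 4, 1, 3, 5, 0, 5, 3, 0, 5, 0, 5, 5, 4, 1, 4, 1, 2, 4, 1, 4, 2, 0, 5]
def rw1537 : List ℕ := [2, 5, 3, 1, 2, 0, 2, 4, 3, 5, 3, 5, 3, 0, 5, 3, 5, 3, 4, 2, 4, 1, 2, 4, 2, 4]
def rw1538 : List ℕ := [6, 3, 4, 3, 1, 2, 0, 2, 5, 2, 7, 0, 2, 6, 3, 0, 5, 3, 5, 2, 3, 3, 4, 2, 4, 1, 2, 7, 3, 1]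
def rw1539 : List ℕ := [0, 0, 5, 3, 3, 5, 7, 4, 2, 2, 4, 1, 1, 4, 2, 2, 4, 1, 1, 6, 0, 0, 5, 3, 3, 5]
def rw1540 : List ℕ := [2, 4, 4, 1, 5, 5, 3, 5, 3, 5, 5, 3, 5, 3, 0, 2, 4, 2, 4, 4, 2, 4]
def rw1541 : List ℕ := [3, 3, 4, 2, 2, 4, 2, 4, 2, 2, 4, 2, 4, 5, 5, 3, 5, 3, 3, 5, 3, 5]
def rw1542 : List ℕ := [4, 2, 4, 2, 4, 4, 7, 5, 5, 3, 5, 3, 5, 5, 3, 5, 3, 6, 2, 4, 2, 4]
def rw1543 : List ℕ := [4, 1, 3, 3, 2, 0, 5, 0, 5, 3, 5, 0, 5, 1, 3, 1, 2, 0, 2, 0, 4, 1, 4, 2, 4, 1]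
def rw1544 : List ℕ := [0, 4, 5, 5, 1, 5, 1, 5, 1, 5, 1, 5, 1, 4, 0, 4, 0, 4, 0, 4, 0, 4]
def rw1545 : List ℕ := [1, 2, 2, 1, 4, 5, 5, 0, 3, 3, 0, 0, 2, 4, 3, 1, 1, 1, 4, 0, 0, 0, 2, 5, 3, 1]
def rw1546 : List ℕ := [0, 3, 0, 5, 1, 2, 1, 3, 4, 2, 3, 3, 5, 2, 0, 3, 0, 4, 1, 2, 1, 1, 1, 2, 0, 0]
def rw1547 : List ℕ := [4, 0, 3, 1, 1, 2, 0, 0, 2, 1, 5, 0, 3, 0, 2, 2, 1, 4, 3, 5, 0, 3, 3, 1, 2, 1]
def rw1548 : List ℕ := [3, 0, 2, 5, 0, 3, 3, 3, 1, 1, 0, 0, 0, 2, 2, 2, 1, 4, 3, 1, 2, 1, 5, 1, 4, 0]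
def rw1549 : List ℕ := [0, 4, 7, 3, 6, 5, 1, 3, 0, 5, 0, 5, 7, 4, 1, 3, 1, 2, 0, 2, 0, 5, 6, 4, 1, 4, 1, 2]
def rw1550 : List ℕ := [1, 1, 4, 0, 0, 4, 3, 3, 4, 0, 0, 4, 3, 3, 4, 5, 5, 2, 2, 5, 1, 1, 5, 2, 2, 5]
def rw1551 : List ℕ := [4, 2, 5, 3, 5, 0, 5, 0, 0, 5, 0, 5, 3, 1, 1, 4, 0, 0, 2, 4, 1, 4, 1, 1, 4, 1]
def rw1552 : List ℕ := [0, 5, 5, 4, 1, 4, 1, 1, 3, 5, 0, 5, 3, 1, 1, 4, 0, 0, 2, 4, 1, 4, 2, 0, 0, 5]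
def rw1553 : List ℕ := [1, 2, 0, 4, 0, 3, 1, 6, 0, 2, 1, 5, 1, 3, 0, 4, 7, 7, 1, 3, 6, 6, 7, 7, 7, 2, 0, 6, 6, 5]
def rw1554 : List ℕ := [4, 3, 5, 3, 3, 5, 0, 4, 5, 5, 1, 4, 2, 2, 4, 2, 5, 5, 1, 1, 4, 0, 0, 4]
def rw1555 : List ℕ := [3, 3, 5, 7, 3, 6, 4, 2, 2, 4, 1, 4, 4, 2, 5, 2, 7, 3, 1, 2, 0, 2, 6, 3, 4, 3, 5, 5, 0, 5]
def rw1556 : List ℕ := [0, 5, 1, 2, 5, 3, 0, 4, 1, 2, 1, 3, 3, 0, 5, 1, 1, 4, 0, 0, 4, 1, 2, 2, 0, 3]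
def rw1557 : List ℕ := [3, 0, 5, 1, 2, 1, 3, 0, 4, 1, 2, 1, 3, 3, 0, 5, 1, 1, 0, 0, 0, 4, 1, 2, 2, 0]
def rw1558 : List ℕ := [0, 0, 5, 1, 2, 1, 3, 0, 4, 1, 1, 3, 0, 3, 0, 5, 1, 1, 0, 0, 0, 4, 1, 2, 1, 2]
def rw1559 : List ℕ := [1, 4, 2, 0, 5, 1, 4, 0, 4, 1, 3, 5, 0, 5, 3, 0, 5, 0, 5, 5, 4, 1, 4, 1, 2, 4]
def rw1560 : List ℕ := [0, 5, 0, 5, 0, 0, 5, 0, 5, 3, 4, 1, 4, 1, 1, 4, 1, 4, 1, 1, 2, 0]
def rw1561 : List ℕ := [4, 1, 4, 1, 1, 3, 5, 0, 5, 3, 1, 1, 0, 0, 0, 2, 4, 1, 4, 2, 0, 0, 5, 0, 5, 1]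
def rw1562 : List ℕ := [0, 5, 0, 5, 1, 3, 5, 0, 5, 3, 1, 0, 0, 2, 4, 1, 4, 2, 0, 4, 1, 4, 1, 4, 1, 5]
def rw1563 : List ℕ := [1, 4, 1, 4, 1, 1, 0, 0, 0, 5, 0, 5, 0, 0, 5, 0, 5, 1, 4, 1, 4, 1]
def rw1564 : List ℕ := [5, 1, 4, 4, 1, 4, 1, 4, 4, 1, 4, 1, 0, 0, 5, 0, 5, 5, 0, 5, 0, 5]
def rw1565 : List ℕ := [0, 5, 1, 4, 0, 4, 1, 3, 5, 0, 5, 3, 0, 5, 0, 5, 5, 4, 1, 4, 1, 2, 4, 1, 4, 2]
def rw1566 : List ℕ := [1, 4, 2, 4, 1, 4, 0, 5, 3, 5, 0, 5, 3, 5, 5, 4, 2, 4]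
def rw1567 : List ℕ := [5, 3, 5, 5, 3, 5, 3, 4, 2, 4, 2, 4, 4, 2, 4, 2, 4, 4, 5, 5, 5, 3]
def rw1568 : List ℕ := [3, 5, 2, 5, 3, 5, 3, 4, 2, 4, 2, 4, 3, 4, 2, 4, 2, 4, 4, 4, 5, 5, 5, 5, 3, 5]
def rw1569 : List ℕ := [1, 3, 1, 0, 0, 2, 0, 2, 4, 2, 4, 1, 4, 2, 4, 2, 1, 3, 5, 3, 5, 0, 5, 3, 5, 3]
def rw1570 : List ℕ := [0, 5, 3, 5, 3, 3, 2, 4, 2, 4, 1, 4, 2, 4, 2, 1, 3, 1, 2, 0, 2, 0, 3, 5, 3, 5]
def rw1571 : List ℕ := [2, 2, 4, 2, 4, 1, 3, 3, 1, 2, 0, 2, 2, 0, 5, 3, 5, 3, 3, 5, 3, 5, 3, 4, 2, 4]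
def rw1572 : List ℕ := [4, 2, 4, 1, 4, 2, 4, 2, 1, 3, 5, 3, 5, 0, 5, 3, 5, 1, 3, 1, 1, 0, 0, 0, 2, 0]
def rw1573 : List ℕ := [1, 4, 2, 0, 2, 4, 1, 5, 3, 1, 3, 5, 0, 2, 0, 5, 1, 3, 1, 0, 0, 2, 0, 4, 1, 3]
def rw1574 : List ℕ := [5, 3, 3, 1, 0, 0, 2, 2, 4, 2, 4, 2, 2, 0, 5, 3, 5, 1, 4, 2, 4, 1, 3, 3, 5, 3]
def rw1575 : List ℕ := [3, 5, 2, 7, 7, 6, 3, 4, 2, 4, 2, 0, 5, 2, 7, 1, 3, 1, 1, 6, 0, 0, 2, 0, 6, 3, 4, 1, 3, 5]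
def rw1576 : List ℕ := [4, 1, 4, 2, 4, 2, 2, 7, 3, 3, 5, 3, 5, 0, 5, 3, 5, 3, 3, 1, 6, 0, 2, 2, 4, 2]
def rw1577 : List ℕ := [3, 3, 5, 2, 7, 4, 6, 7, 7, 5, 6, 3, 4, 2, 2, 7, 2, 7, 7, 3, 1, 6, 0, 2, 6, 6, 3, 6]
def rw1578 : List ℕ := [4, 1, 3, 5, 3, 5, 2, 7, 7, 6, 3, 4, 2, 4, 2, 0, 5, 2, 7, 1, 3, 1, 1, 6, 0, 0, 2, 0, 6, 3]
def rw1579 : List ℕ := [5, 3, 5, 3, 3, 4, 2, 2, 7, 4, 1, 4, 0, 5, 6, 3, 3, 5, 2, 2, 4, 2, 4, 4, 7, 5, 6, 5]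
def rw1580 : List ℕ := [3, 5, 3, 7, 5, 6, 2, 4, 2, 4, 4, 3, 4, 2, 2, 7, 4, 1, 4, 0, 5, 6, 3, 3, 5, 2, 5, 5]
def rw1581 : List ℕ := [4, 1, 6, 0, 5, 6, 3, 3, 5, 2, 2, 4, 2, 4, 4, 7, 7, 6, 5, 5, 3, 5, 3, 3, 4, 2, 2, 7]
def rw1582 : List ℕ := [4, 7, 3, 5, 6, 3, 7, 4, 2, 6, 5, 2, 5, 2, 0, 5, 3, 3, 1, 2, 0, 2, 2, 4, 1, 3, 4, 3]
def rw1583 : List ℕ := [4, 2, 0, 5, 6, 4, 3, 1, 4, 0, 2, 5, 7, 4, 1, 3, 5, 6, 4, 2, 0, 5, 5, 5, 4, 4, 1, 3, 5, 7]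
def rw1584 : List ℕ := [4, 2, 2, 4, 2, 4, 1, 3, 3, 1, 0, 0, 2, 2, 0, 5, 3, 5, 3, 3, 5, 3, 5, 1, 4, 2]
def rw1585 : List ℕ := [2, 0, 5, 3, 5, 3, 4, 2, 4, 1, 3, 4, 2, 4, 2, 4, 3, 1, 2, 0, 2, 5, 3, 5, 3, 5]
def rw1586 : List ℕ := [1, 3, 5, 1, 3, 1, 0, 0, 2, 0, 4, 2, 0, 2, 4, 1, 3, 1, 4, 1, 5, 0, 2, 0, 5, 3]
def rw1587 : List ℕ := [1, 5, 0, 2, 0, 5, 1, 3, 1, 5, 1, 3, 1, 0, 0, 2, 0, 4, 0, 2, 0, 4, 1, 3, 1, 4]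
def rw1588 : List ℕ := [1, 3, 4, 1, 5, 2, 0, 2, 5, 0, 2, 0, 5, 1, 3, 1, 0, 0, 2, 0, 4, 1, 3, 1, 4, 3]
def rw1589 : List ℕ := [1, 3, 3, 0, 5, 1, 2, 1, 2, 0, 3, 0, 4, 1, 2, 2, 0, 3, 0, 5, 2, 3, 3, 4, 1, 2]
def rw1590 : List ℕ := [1, 3, 1, 1, 4, 0, 0, 2, 0, 3, 0, 3, 1, 3, 3, 5, 2, 2, 0, 2, 1, 2]
def rw1591 : List ℕ := [5, 2, 0, 5, 2, 1, 3, 4, 1, 3, 4, 1, 3, 4, 1, 3, 4, 1, 0, 0, 5, 2, 0, 5, 2, 0]
def rw1592 : List ℕ := [3, 3, 0, 3, 1, 4, 0, 2, 1, 2, 2, 0, 2, 1, 2, 2, 5, 3, 3, 0, 3, 1]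
def rw1593 : List ℕ := [3, 1, 3, 3, 1, 2, 2, 0, 2, 1, 2, 1, 3, 1, 1, 0, 0, 0, 2, 0, 3, 0]
def rw1594 : List ℕ := [1, 2, 0, 2, 1, 2, 2, 0, 2, 1, 2, 2, 3, 3, 3, 0, 3, 1, 3, 3, 0, 3]
def rw1595 : List ℕ := [3, 1, 1, 0, 0, 0, 2, 0, 0, 2, 1, 3, 1, 1]
def rw1596 : List ℕ := [3, 0, 3, 1, 2, 0, 2, 1, 2, 0, 2, 2, 2, 3, 3, 3, 3, 1]
def rw1597 : List ℕ := [0, 3, 0, 2, 1, 3, 1, 2, 1, 2, 2, 0, 2, 1, 2, 1, 1, 0, 0, 0, 3, 0, 3, 1, 3, 3]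
def rw1598 : List ℕ := [3, 3, 3, 0, 2, 0, 0, 0, 3, 1]
def rw1599 : List ℕ := [4, 4, 4, 2, 2, 4, 2, 0, 4, 3, 5, 1, 3, 5, 3, 3, 5, 5, 5, 1, 1, 2, 0, 0]
def rw1600 : List ℕ := [0, 4, 4, 0, 4, 3, 5, 1, 5, 5, 1, 1, 5, 1, 5, 5, 1, 1, 2, 0, 0, 4, 4, 0, 4, 0]
def rw1601 : List ℕ := [0, 2, 1, 5, 5, 4, 0, 3, 1, 1, 5, 0, 3, 0, 3, 1, 1, 4, 0, 0, 2, 1, 2, 1, 4, 0]
def rw1602 : List ℕ := [3, 0, 2, 5, 5, 4, 3, 1, 2, 1, 5, 0, 3, 0, 3, 1, 1, 4, 0, 0, 2, 1, 2, 1, 4, 0]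
def rw1603 : List ℕ := [3, 5, 0, 5, 1, 3, 1, 2, 0, 2, 0, 4, 1, 4, 2, 4, 1, 4, 1, 3, 3, 2, 0, 5, 0, 5]
def rw1604 : List ℕ := [0, 2, 4, 1, 3, 1, 4, 1, 3, 1, 0, 0, 2, 0, 5, 0, 2, 0, 5, 3, 1, 3, 5, 1, 4, 2]
def rw1605 : List ℕ := [0, 4, 3, 5, 1, 3, 1, 5, 1, 3, 1, 5, 1, 3, 1, 2, 0, 2, 0, 4, 0, 2, 0, 4, 0, 2]
def rw1606 : List ℕ := [1, 3, 5, 0, 2, 0, 5, 1, 3, 1, 2, 0, 2, 0, 4, 1, 3, 1, 4, 2, 0, 2, 4, 3, 5, 3]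
def rw1607 : List ℕ := [5, 5, 5, 4, 4, 1, 3, 5, 0, 5, 3, 4, 1, 4, 1, 4, 0, 5, 0, 5, 2, 4, 1, 4, 2, 0]
def rw1608 : List ℕ := [3, 1, 4, 1, 3, 1, 0, 0, 2, 0, 5, 0, 2, 0, 5, 0, 2, 0, 5, 1, 4, 1, 3, 1, 4, 1]
def rw1609 : List ℕ := [1, 5, 1, 3, 1, 2, 0, 2, 0, 4, 0, 2, 0, 4, 1, 3, 1, 4, 3, 5, 0, 2, 0, 5, 1, 3]
def rw1610 : List ℕ := [2, 0, 4, 1, 3, 1, 4, 1, 3, 1, 4, 5, 5, 0, 2, 0, 5, 0, 2, 0, 5, 1, 3, 1, 4, 0]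
def rw1611 : List ℕ := [3, 1, 4, 1, 3, 1, 4, 0, 2, 0, 5, 0, 2, 0, 5, 0, 2, 0, 5, 5, 4, 1, 3, 1, 4, 1]
def rw1612 : List ℕ := [5, 5, 1, 1, 4, 0, 0, 4, 4, 3, 5, 3, 3, 5, 0, 4, 5, 5, 1, 4, 2, 2, 4, 2]
def rw1613 : List ℕ := [3, 4, 3, 4, 3, 1, 4, 0, 2, 5, 2, 5, 2, 5, 2, 0, 4, 3, 4, 5, 5, 2, 5, 1, 3, 4]
def rw1614 : List ℕ := [5, 3, 5, 2, 5, 3, 5, 3, 4, 2, 4, 2, 4, 3, 4, 2, 4, 2, 4, 4, 4, 5, 5, 5, 5, 3]
def rw1615 : List ℕ := [6, 5, 2, 5, 1, 0, 0, 4, 3, 4, 7, 0, 5, 6, 3, 0, 5, 3, 5, 1, 4, 2, 4, 1, 2, 7, 4, 1]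
def rw1616 : List ℕ := [2, 7, 0, 2, 4, 1, 3, 5, 6, 3, 3, 1, 4, 0, 2, 2, 7, 4, 2, 0, 5, 3, 1, 6, 3, 5]
def rw1617 : List ℕ := [5, 2, 5, 1, 3, 4, 3, 4, 3, 4, 3, 1, 0, 0, 2, 5, 2, 5, 2, 5, 2, 0, 4, 3, 4, 1]
def rw1618 : List ℕ := [3, 5, 0, 5, 0, 3, 4, 7, 5, 6, 5, 2, 1, 4, 1, 4, 2, 7, 4, 1, 3, 1, 4, 0, 2, 0, 5, 6]
def rw1619 : List ℕ := [5, 0, 5, 3, 5, 3, 1, 4, 0, 2, 4, 2, 4, 1, 4, 2, 4, 3, 1, 3, 5, 2, 0, 2, 5, 3]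
def rw1620 : List ℕ := [3, 1, 4, 0, 2, 2, 4, 2, 4, 1, 4, 2, 4, 2, 2, 5, 3, 3, 5, 3, 5, 0, 5, 3, 5, 3]
def rw1621 : List ℕ := [1, 4, 2, 4, 1, 4, 1, 3, 3, 1, 4, 0, 2, 2, 0, 5, 0, 5, 3, 5, 0, 5, 2, 5, 3, 4]
def rw1622 : List ℕ := [3, 3, 0, 2, 0, 0, 3, 1]
def rw1623 : List ℕ := [4, 3, 1, 3, 1, 2, 0, 2, 5, 3, 5, 0, 5, 3, 5, 3, 1, 0, 0, 2, 4, 2, 4, 1, 4, 2]
def rw1624 : List ℕ := [5, 5, 2, 4, 2, 4, 2, 2, 5, 3, 5, 3]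
def rw1625 : List ℕ := [5, 3, 5, 3, 3, 0, 2, 2, 4, 2, 4, 2, 2, 4, 2, 4, 1, 5, 3, 5, 3, 3]
def rw1626 : List ℕ := [4, 2, 4, 1, 0, 0, 5, 3, 5, 0, 5, 3, 5, 1, 4, 2, 4, 1]
def rw1627 : List ℕ := [2, 4, 4, 2, 4, 2, 4, 4, 3, 5, 5, 3, 5, 3, 5, 5, 3, 5, 3, 2, 2, 4]
def rw1628 : List ℕ := [0, 2, 0, 3, 5, 3, 5, 0, 5, 3, 5, 3, 5, 2, 4, 2, 4, 1, 4, 2, 4, 2, 1, 3, 1, 4]
def rw1629 : List ℕ := [2, 4, 1, 3, 4, 2, 4, 2, 4, 3, 1, 2, 0, 2, 5, 3, 5, 3, 5, 2, 0, 5, 3, 5, 3, 4]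
def rw1630 : List ℕ := [1, 4, 1, 4, 0, 0, 5, 0, 5, 0, 4, 4]
def rw1631 : List ℕ := [2, 0, 2, 2, 2, 7, 3, 3, 3, 1, 3, 0, 3, 1, 6, 0, 2, 1]
def rw1632 : List ℕ := [3, 0, 5, 1, 2, 5, 3, 0, 4, 1, 2, 2, 2, 0, 0, 5, 1, 1, 4, 0, 0, 4, 1, 1, 3, 3]
def rw1633 : List ℕ := [0, 0, 5, 3, 3, 5, 1, 4, 2, 2, 4, 1, 1, 4, 2, 2, 4, 1, 1, 0, 0, 0, 5, 3, 3, 5]
def rw1634 : List ℕ := [2, 2, 0, 5, 0, 5, 3, 5, 0, 5, 2, 1, 3, 4, 1, 4, 2, 4, 1, 4, 1, 3, 3, 1, 0, 0]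
def rw1635 : List ℕ := [0, 2, 0, 5, 0, 2, 0, 5, 1, 3, 1, 2, 0, 2, 0, 4, 1, 3, 1, 4, 1, 3, 1, 4, 3, 5]
def rw1636 : List ℕ := [3, 1, 3, 5, 0, 2, 0, 5, 1, 3, 1, 2, 0, 2, 0, 4, 1, 3, 1, 4, 2, 0, 2, 4, 3, 5]
def rw1637 : List ℕ := [2, 0, 2, 5, 0, 2, 0, 5, 1, 3, 1, 2, 0, 2, 0, 4, 1, 3, 1, 4, 3, 1, 3, 4, 3, 5]
def rw1638 : List ℕ := [5, 1, 3, 1, 5, 1, 3, 1, 4, 0, 2, 0, 4, 0, 2, 0, 4, 0, 2, 0, 4, 5, 5, 1, 3, 1]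
def rw1639 : List ℕ := [0, 5, 2, 0, 2, 5, 1, 3, 1, 4, 0, 2, 0, 4, 3, 1, 3, 4, 1, 3, 1, 4, 5, 5, 0, 2]
def rw1640 : List ℕ := [2, 1, 3, 1, 0, 0, 2, 0, 3, 5, 3, 5, 0, 5, 3, 5, 3, 1, 2, 4, 2, 4, 1, 4, 2, 4]
def rw1641 : List ℕ := [0, 5, 3, 5, 0, 5, 1, 4, 1, 4, 2, 4, 1, 4, 3, 1, 3, 3, 1, 0, 0, 2, 2, 0, 2, 5]
def rw1642 : List ℕ := [5, 3, 3, 5, 3, 1, 5, 1, 1, 2, 0, 0, 4, 0, 2, 4, 2, 2, 4, 4, 4, 3, 5, 5]
def rw1643 : List ℕ := [2, 5, 2, 5, 2, 0, 4, 3, 4, 1, 5, 2, 5, 1, 3, 4, 3, 4, 3, 4, 3, 1, 0, 0, 2, 5]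
def rw1644 : List ℕ := [3, 1, 3, 3, 1, 4, 0, 2, 2, 0, 2, 2, 5, 3]
def rw1645 : List ℕ := [3, 0, 2, 2, 2, 4, 2, 4, 2, 5, 2, 4, 2, 4, 1, 5, 3, 5, 3, 4, 3, 5, 3, 5, 3, 3]
def rw1646 : List ℕ := [1, 5, 1, 5, 1, 5, 1, 4, 0, 4, 0, 4, 0, 4, 0, 4, 0, 4, 5, 5, 1, 5]
def rw1647 : List ℕ := [2, 4, 2, 4, 4, 2, 0, 5, 3, 5, 1, 4, 2, 4, 1, 3, 5, 5, 3, 5, 3, 5, 1, 0, 0, 4]
def rw1648 : List ℕ := [4, 1, 0, 0, 5, 2, 0, 5, 2, 0, 5, 2, 0, 5, 2, 1, 3, 4, 1, 3, 4, 1, 3, 4, 1, 3]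
def rw1649 : List ℕ := [5, 5, 2, 2, 2, 1, 2, 1, 0, 0, 3, 0, 3, 3, 3, 4, 4, 1, 3, 4, 3, 1, 2, 5, 2, 0]
def rw1650 : List ℕ := [2, 2, 2, 1, 2, 1, 2, 0, 3, 0, 3, 3, 3, 4, 4, 1, 3, 4, 3, 3, 2, 5, 2, 0, 5, 5]
def rw1651 : List ℕ := [1, 2, 1, 4, 0, 3, 0, 3, 3, 3, 4, 4, 1, 3, 4, 3, 5, 2, 5, 2, 0, 5, 5, 2, 2, 2]
def rw1652 : List ℕ := [1, 4, 3, 1, 1, 1, 4, 0, 0, 0, 2, 5, 0, 0, 2, 2, 2, 1, 4, 5, 5, 0, 3, 3, 3, 1]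
def rw1653 : List ℕ := [3, 1, 1, 1, 5, 3, 1, 1, 1, 2, 0, 0, 0, 2, 4, 0, 0, 0, 2, 5, 0, 3, 3, 2, 1, 4]
def rw1654 : List ℕ := [1, 2, 1, 5, 3, 4, 0, 3, 0, 2, 5, 0, 3, 3, 3, 1, 1, 2, 0, 0, 2, 2, 2, 1, 4, 3]
def rw1655 : List ℕ := [3, 3, 0, 5, 2, 0, 3, 0, 4, 2, 1, 3, 5, 1, 2, 1, 3, 4, 1, 2, 2, 1, 1, 0, 0, 0]
def rw1656 : List ℕ := [0, 3, 0, 5, 1, 1, 3, 0, 4, 2, 3, 3, 5, 1, 2, 0, 0, 4, 1, 2, 1, 1, 1, 2, 0, 0]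
def rw1657 : List ℕ := [0, 3, 4, 0, 3, 4, 7, 7, 6, 5, 2, 1, 5, 2, 1, 2, 2, 2, 5, 7, 3, 1, 6, 0, 2, 6, 4, 3, 3, 3]
def rw1658 : List ℕ := [2, 5, 5, 5, 4, 4, 3, 3, 3, 0, 3, 0, 3, 4, 3, 1, 4, 0, 2, 5, 2, 1, 2, 1, 2, 2]
def rw1659 : List ℕ := [3, 4, 3, 4, 3, 4, 3, 1, 0, 0, 2, 5, 2, 5, 2, 5, 2, 0, 4, 3, 4, 1, 5, 2, 5, 1]
def rw1660 : List ℕ := [3, 4, 3, 1, 2, 0, 2, 5, 2, 5, 2, 5, 2, 0, 4, 3, 4, 3, 5, 2, 5, 1, 3, 4, 3, 4]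
def rw1661 : List ℕ := [2, 5, 2, 0, 4, 3, 4, 7, 5, 2, 5, 1, 3, 4, 3, 4, 3, 4, 3, 1, 6, 0, 2, 5, 2, 5]
def rw1662 : List ℕ := [1, 1, 2, 2, 1, 4, 0, 3, 1, 1, 4, 0, 0, 2, 1, 5, 0, 3, 3, 0, 0, 2, 4, 5, 5, 3]
def rw1663 : List ℕ := [3, 3, 0, 3, 0, 3, 4, 3, 1, 0, 0, 2, 5, 2, 1, 2, 1, 2, 2, 2, 5, 5, 1, 4, 4, 3]
def rw1664 : List ℕ := [4, 3, 1, 4, 0, 2, 5, 2, 1, 2, 1, 2, 2, 2, 5, 5, 5, 4, 4, 3, 3, 3, 0, 3, 0, 3]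
def rw1665 : List ℕ := [1, 2, 1, 2, 0, 3, 0, 3, 3, 3, 4, 4, 1, 3, 4, 3, 3, 2, 5, 2, 0, 5, 5, 2, 2, 2]
def rw1666 : List ℕ := [0, 5, 6, 3, 5, 3, 4, 2, 7, 4, 1, 6, 4, 3, 4, 2, 2, 1, 2, 1, 2, 0, 3, 0, 3, 3, 5, 2, 5, 7]
def rw1667 : List ℕ := [1, 1, 6, 0, 0, 2, 0, 0, 2, 7, 3, 1, 1, 3]
def rw1668 : List ℕ := [3, 1, 6, 0, 2, 0, 2, 0, 2, 7, 3, 1, 3, 1]
def rw1669 : List ℕ := [2, 4, 3, 1, 7, 1, 3, 1, 1, 6, 0, 0, 2, 0, 6, 0, 2, 5, 3, 1, 4, 1, 2, 7, 7, 6, 3, 0, 5, 0]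
def rw1670 : List ℕ := [0, 5, 6, 3, 5, 5, 4, 2, 7, 4, 1, 6, 4, 3, 4, 2, 2, 1, 2, 1, 4, 0, 3, 0, 3, 3, 5, 2, 5, 7]
def rw1671 : List ℕ := [3, 5, 3, 5, 2, 2, 4, 2, 4, 2, 5, 5]
def rw1672 : List ℕ := [2, 4, 2, 4, 4, 5, 5, 5, 3, 5, 3, 5, 5, 3, 5, 3, 4, 2, 4, 2, 4, 4]
def rw1673 : List ℕ := [3, 3, 4, 1, 5, 5, 3, 3, 4, 1, 0, 0, 5, 2, 2, 4, 4, 0, 5, 2, 2, 4, 4, 1, 5, 5]
def rw1674 : List ℕ := [5, 5, 3, 3, 4, 1, 4, 0, 5, 2, 2, 4, 4, 0, 5, 2, 2, 4, 4, 5, 5, 5, 3, 3, 4, 1]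
def rw1675 : List ℕ := [5, 5, 3, 3, 4, 1, 0, 0, 5, 2, 2, 4, 4, 0, 5, 2, 2, 4, 4, 1, 5, 5, 3, 3, 4, 1]
def rw1676 : List ℕ := [4, 1, 5, 5, 3, 3, 4, 1, 0, 0, 5, 2, 2, 4, 4, 0, 5, 2, 2, 4, 4, 1, 5, 5, 3, 3]
def rw1677 : List ℕ := [4, 1, 5, 5, 3, 3, 4, 1, 2, 0, 5, 2, 2, 4, 4, 0, 5, 2, 2, 4, 4, 3, 5, 5, 3, 3]
def rw1678 : List ℕ := [4, 4, 1, 1, 1, 6, 0, 0, 0, 5, 5, 2, 1, 5, 5, 7, 0, 2, 6, 4, 7, 5, 7, 3, 1, 6, 4, 4, 0, 3]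
def rw1679 : List ℕ := [5, 5, 3, 5, 3, 5, 2, 2, 4, 2, 4, 2]
def rw1680 : List ℕ := [4, 1, 4, 2, 4, 1, 4, 1, 3, 1, 3, 1, 0, 0, 2, 0, 2, 0, 5, 0, 5, 3, 5, 0, 5, 1]
def rw1681 : List ℕ := [0, 3, 1, 4, 1, 4, 2, 4, 1, 4, 1, 5, 0, 5, 3, 5, 0, 5, 0, 2, 1, 3, 1, 0, 0, 2]
def rw1682 : List ℕ := [3, 1, 4, 0, 2, 0, 3, 1, 4, 1, 4, 2, 4, 1, 4, 5, 5, 0, 5, 3, 5, 0, 5, 0, 2, 1]
def rw1683 : List ℕ := [2, 4, 2, 4, 1, 4, 2, 4, 2, 1, 3, 1, 0, 0, 2, 0, 3, 5, 3, 5, 0, 5, 3, 5, 3, 1]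
def rw1684 : List ℕ := [5, 3, 1, 3, 5, 5, 4, 2, 0, 2, 4, 1, 3, 1, 4, 1, 3, 1, 4, 0, 2, 0, 5, 0, 2, 0]
def rw1685 : List ℕ := [1, 2, 0, 2, 2, 4, 2, 4, 1, 4, 2, 4, 2, 2, 3, 3, 3, 5, 3, 5, 0, 5, 3, 5, 3, 3]
def rw1686 : List ℕ := [0, 5, 3, 5, 1, 4, 2, 4, 1, 3, 5, 2, 4, 2, 4, 2, 1, 0, 0, 3, 5, 3, 5, 3, 4, 2]
def rw1687 : List ℕ := [7, 0, 2, 6, 5, 7, 3, 1, 6, 4, 2, 4, 1, 3, 0, 5, 0, 3, 1, 4, 0, 2, 1, 4, 1, 2, 0, 5, 3, 5]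
def rw1688 : List ℕ := [2, 1, 1, 3, 5, 2, 5, 3, 4, 2, 0, 0, 3, 3, 0, 5, 1, 1, 1, 4, 0, 0, 0, 4, 1, 2]
def rw1689 : List ℕ := [3, 1, 4, 1, 3, 1, 4, 1, 3, 1, 2, 0, 2, 0, 5, 0, 2, 0, 5, 0, 2, 0, 5, 3, 4, 1]
def rw1690 : List ℕ := [4, 3, 4, 2, 5, 2, 4, 3, 4, 2, 5, 1, 4, 3, 5, 2, 5, 3, 4, 3, 5, 2, 5, 3, 0, 2]
def rw1691 : List ℕ := [1, 1, 3, 1, 1, 2, 0, 0, 2, 0, 0, 2, 3, 3]
def rw1692 : List ℕ := [3, 5, 3, 1, 5, 1, 1, 4, 0, 0, 4, 0, 2, 4, 2, 2, 4, 4, 4, 5, 5, 5, 5, 3]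
def rw1693 : List ℕ := [4, 1, 5, 1, 1, 4, 0, 0, 4, 0, 5, 3, 3, 5, 3, 4, 4, 5, 5, 5, 2, 4, 2, 2]
def rw1694 : List ℕ := [0, 4, 4, 1, 4, 1, 4, 0, 0, 5, 0, 5]
def rw1695 : List ℕ := [1, 3, 4, 1, 3, 4, 1, 0, 0, 5, 2, 0, 5, 2, 0, 5, 2, 0, 5, 2, 1, 3, 4, 1, 3, 4]
def rw1696 : List ℕ := [2, 0, 2, 3, 3, 1, 3, 1, 3, 1, 2, 0, 2, 0]
def rw1697 : List ℕ := [1, 3, 3, 1, 3, 3, 1, 0, 0, 2, 2, 0, 2, 2]
def rw1698 : List ℕ := [3, 1, 3, 5, 1, 3, 1, 4, 0, 2, 0, 4, 2, 0, 2, 4, 1, 3, 1, 4, 5, 5, 0, 2, 0, 5]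
def rw1699 : List ℕ := [1, 4, 1, 3, 1, 4, 0, 2, 0, 5, 0, 2, 0, 5, 3, 1, 3, 5, 5, 4, 2, 0, 2, 4, 1, 3]
def rw1700 : List ℕ := [0, 3, 1, 3, 3, 3, 0, 2, 0, 0]
def rw1701 : List ℕ := [2, 0, 5, 0, 2, 0, 5, 2, 0, 2, 5, 1, 4, 3, 1, 3, 4, 1, 3, 1, 4, 1, 3, 1, 0, 0]
def rw1702 : List ℕ := [0, 2, 0, 4, 0, 2, 0, 4, 1, 5, 1, 3, 1, 5, 1, 3, 1, 5, 1, 3, 1, 0, 0, 2, 0, 4]
def rw1703 : List ℕ := [0, 2, 5, 2, 5, 2, 5, 2, 0, 4, 3, 4, 3, 5, 2, 5, 1, 3, 4, 3, 4, 3, 4, 3, 1, 2]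
def rw1704 : List ℕ := [0, 0, 0, 0, 3, 1, 3, 3, 3, 3, 3, 0, 2, 0]
def rw1705 : List ℕ := [3, 0, 2, 0, 0, 0, 0, 3, 1, 3, 3, 3]
def rw1706 : List ℕ := [0, 3, 0, 5, 1, 1, 4, 0, 0, 4, 1, 2, 1, 2, 0, 0, 5, 1, 2, 5, 3, 0, 4, 1, 1, 3]
def rw1707 : List ℕ := [3, 3, 1, 2, 1, 4, 0, 3, 1, 1, 4, 0, 0, 2, 1, 5, 0, 3, 0, 2, 2, 1, 4, 5, 5, 0]
def rw1708 : List ℕ := [2, 2, 1, 4, 0, 3, 1, 1, 4, 0, 0, 2, 1, 5, 0, 3, 3, 0, 0, 2, 4, 5, 5, 3, 1, 1]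
def rw1709 : List ℕ := [5, 3, 1, 1, 3, 1, 1, 4, 0, 0, 2, 0, 0, 2]
def rw1710 : List ℕ := [2, 1, 1, 1, 2, 0, 0, 0, 3, 1, 3, 3, 3, 3, 3, 1, 3, 3, 2, 0, 2, 2, 2, 2, 2, 0]
def rw1711 : List ℕ := [5, 3, 1, 1, 2, 2, 1, 4, 5, 5, 0, 3, 3, 0, 0, 2, 4, 3, 1, 1, 1, 4, 0, 0, 0, 2]
def rw1712 : List ℕ := [3, 0, 3, 1, 1, 4, 0, 0, 2, 1, 2, 1, 4, 0, 0, 2, 1, 5, 5, 4, 0, 3, 1, 1, 5, 0]
def rw1713 : List ℕ := [2, 0, 2, 1, 2, 1, 3, 1, 1, 0, 0, 0, 2, 0, 3, 0, 3, 1, 3, 3, 1, 2]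
def rw1714 : List ℕ := [0, 2, 2, 1, 2, 1, 3, 0, 3, 3, 1, 3, 0, 3, 3, 1, 0, 0, 2, 2, 1, 2]
def rw1715 : List ℕ := [3, 0, 5, 1, 1, 1, 4, 0, 0, 0, 4, 1, 2, 1, 3, 3, 0, 5, 2, 5, 3, 4, 1, 2, 2, 0]
def rw1716 : List ℕ := [2, 5, 0, 3, 3, 3, 1, 1, 0, 0, 0, 2, 2, 2, 1, 4, 3, 1, 2, 1, 5, 1, 4, 0, 3, 0]
def rw1717 : List ℕ := [3, 3, 3, 1, 1, 4, 0, 0, 2, 2, 2, 1, 4, 3, 1, 2, 1, 5, 5, 4, 0, 3, 0, 2, 5, 0]
def rw1718 : List ℕ := [1, 3, 3, 0, 5, 1, 2, 1, 4, 0, 3, 0, 4, 1, 2, 2, 0, 3, 0, 5, 2, 5, 3, 4, 1, 2]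
def rw1719 : List ℕ := [1, 1, 2, 0, 0, 0, 2, 0, 3, 3, 0, 3, 1, 3, 3, 3, 2, 2, 0, 2, 1, 2, 2, 1, 3, 1]
def rw1720 : List ℕ := [0, 3, 0, 2, 5, 0, 3, 3, 1, 2, 2, 1, 4, 3, 1, 2, 1, 5, 3, 1, 1, 0, 0, 0, 2, 4]
def rw1721 : List ℕ := [3, 0, 5, 1, 1, 3, 0, 4, 2, 3, 3, 5, 1, 2, 0, 0, 4, 1, 2, 1, 1, 1, 2, 0, 0, 0]
def rw1722 : List ℕ := [5, 1, 1, 2, 0, 0, 4, 4, 0, 0, 5, 7, 3, 1, 6, 3, 3, 3, 2, 2, 7, 0, 2, 6, 4, 1, 1, 5]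
def rw1723 : List ℕ := [4, 2, 5, 5, 1, 1, 2, 0, 0, 4, 4, 3, 5, 3, 3, 5, 0, 4, 3, 5, 1, 4, 2, 2]
def rw1724 : List ℕ := [2, 1, 3, 1, 1, 1, 1, 2, 0, 0, 0, 0, 2, 0, 3, 3, 3, 0, 3, 1, 3, 3, 3, 2, 2, 0, 2, 1, 2, 2]
def rw1725 : List ℕ := [1, 3, 1, 2, 1, 1, 4, 0, 0, 3, 0, 2, 0, 0, 3, 3, 3, 1, 3, 5, 2, 0, 2, 2, 2, 1]
def rw1726 : List ℕ := [4, 1, 1, 3, 0, 3, 0, 5, 2, 3, 3, 4, 1, 2, 1, 2, 0, 0, 5, 1, 1, 1, 2, 0, 0, 0]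
def rw1727 : List ℕ := [5, 5, 1, 1, 5, 1, 5, 5, 1, 1, 0, 0, 0, 4, 4, 0, 4, 0, 0, 4, 4, 0, 4, 1, 5, 1]
def rw1728 : List ℕ := [4, 0, 3, 1, 1, 4, 0, 0, 2, 1, 5, 0, 3, 0, 2, 2, 1, 4, 5, 5, 0, 3, 3, 1, 2, 1]
def rw1729 : List ℕ := [3, 0, 5, 2, 0, 3, 0, 4, 1, 1, 0, 0, 0, 5, 1, 2, 1, 3, 4, 1, 2, 2, 2, 1, 3, 3]
def rw1730 : List ℕ := [2, 2, 2, 5, 5, 1, 4, 4, 3, 3, 3, 0, 3, 0, 3, 4, 3, 1, 0, 0, 2, 5, 2, 1, 2, 1]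
def rw1731 : List ℕ := [0, 5, 1, 2, 1, 2, 0, 3, 0, 4, 1, 2, 2, 0, 3, 0, 5, 2, 3, 3, 4, 1, 2, 1, 3, 3]
def rw1732 : List ℕ := [2, 0, 0, 5, 1, 1, 1, 0, 0, 0, 0, 4, 1, 1, 3, 0, 3, 0, 5, 2, 1, 3, 4, 1, 2, 1]
def rw1733 : List ℕ := [1, 1, 2, 0, 0, 4, 1, 1, 3, 3, 3, 0, 5, 1, 2, 3, 3, 0, 4, 1, 2, 2, 2, 0, 0, 5]
def rw1734 : List ℕ := [2, 0, 2, 1, 2, 1, 3, 1, 1, 4, 0, 0, 2, 0, 3, 0, 3, 1, 3, 3, 5, 2]
def rw1735 : List ℕ := [0, 2, 6, 2, 2, 1, 3, 3, 7, 3, 1, 6, 2, 1, 5, 3, 1, 4, 1, 1, 0, 0, 0, 5, 0, 2, 4, 0, 3, 7]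
def rw1736 : List ℕ := [7, 0, 2, 6, 2, 2, 5, 3, 3, 7, 3, 1, 6, 2, 1, 5, 3, 1, 4, 1, 1, 4, 0, 0, 5, 0, 2, 4, 0, 3]
def rw1737 : List ℕ := [2, 4, 0, 3, 7, 0, 2, 6, 2, 1, 1, 0, 0, 0, 3, 7, 3, 1, 6, 2, 1, 5, 3, 1, 4, 2, 1, 3, 5, 0]
def rw1738 : List ℕ := [1, 3, 1, 1, 2, 0, 0, 2, 0, 3, 0, 0, 3, 1, 3, 3, 3, 3, 2, 2, 2, 0, 2, 1, 1, 2]
def rw1739 : List ℕ := [5, 5, 5, 1, 1, 0, 0, 0, 4, 4, 4, 2, 2, 4, 2, 0, 4, 1, 5, 1, 3, 5, 3, 3]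
def rw1740 : List ℕ := [0, 5, 3, 3, 5, 3, 4, 4, 3, 5, 5, 2, 4, 2, 2, 4, 1, 5, 1, 1, 2, 0, 0, 4]
def rw1741 : List ℕ := [5, 0, 5, 3, 1, 1, 0, 0, 0, 2, 4, 1, 4, 1, 1, 4, 1, 4, 2, 1, 3, 5, 0, 5, 0, 0]
def rw1742 : List ℕ := [4, 3, 3, 4, 1, 5, 2, 2, 5, 1, 1, 5, 2, 2, 5, 1, 1, 0, 0, 0, 4, 3, 3, 4, 0, 0]
def rw1743 : List ℕ := [0, 2, 5, 2, 5, 2, 5, 2, 0, 4, 3, 4, 5, 5, 2, 5, 1, 3, 4, 3, 4, 3, 4, 3, 1, 4]
def rw1744 : List ℕ := [5, 1, 3, 1, 5, 1, 3, 1, 2, 0, 2, 0, 4, 0, 2, 0, 4, 0, 2, 0, 4, 3, 5, 1, 3, 1]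
def rw1745 : List ℕ := [0, 4, 3, 5, 1, 5, 1, 5, 1, 5, 1, 5, 1, 2, 0, 4, 0, 4, 0, 4, 0, 4]
def rw1746 : List ℕ := [6, 5, 7, 2, 7, 2, 0, 2, 5, 6, 3, 6, 3, 4, 3, 1, 4, 0, 2, 5, 2, 7, 2, 7, 4, 3, 1, 3, 6, 3]
def rw1747 : List ℕ := [3, 5, 3, 3, 5, 0, 4, 3, 5, 1, 4, 2, 2, 4, 2, 5, 5, 1, 1, 2, 0, 0, 4, 4]
def rw1748 : List ℕ := [4, 2, 2, 4, 2, 5, 5, 1, 1, 2, 0, 0, 4, 4, 3, 5, 3, 3, 5, 0, 4, 3, 5, 1]
def rw1749 : List ℕ := [4, 4, 0, 5, 0, 5, 0, 0, 4, 1, 4, 1]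
def rw1750 : List ℕ := [1, 5, 1, 5, 1, 0, 0, 4, 0, 4, 0, 4, 0, 4, 0, 4, 1, 5, 1, 5, 1, 5]
def rw1751 : List ℕ := [1, 4, 1, 4, 1, 1, 4, 0, 0, 5, 0, 5, 0, 0, 5, 0, 5, 5, 4, 1, 4, 1]
def rw1752 : List ℕ := [3, 5, 3, 3, 5, 0, 4, 1, 5, 1, 4, 2, 2, 4, 2, 5, 5, 1, 1, 0, 0, 0, 4, 4]
def rw1753 : List ℕ := [3, 4, 5, 5, 2, 5, 1, 3, 4, 3, 4, 3, 4, 3, 1, 4, 0, 2, 5, 2, 5, 2, 5, 2, 0, 4]
def rw1754 : List ℕ := [1, 3, 4, 3, 1, 0, 0, 2, 5, 2, 0, 4, 7, 4, 2, 0, 2, 6, 0, 4, 1, 5, 1, 7, 3, 1, 3, 5, 6, 5]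
def rw1755 : List ℕ := [7, 4, 3, 1, 7, 4, 7, 2, 7, 1, 3, 1, 2, 0, 2, 0, 6, 3, 6, 5, 6, 0, 2, 5, 6, 3]
def rw1756 : List ℕ := [2, 5, 6, 0, 2, 5, 0, 7, 2, 7, 1, 1, 0, 0, 0, 6, 3, 6, 1, 4, 3, 1, 7, 4, 3, 1, 7, 1, 6, 0]
def rw1757 : List ℕ := [1, 5, 3, 1, 1, 2, 0, 0, 2, 4, 0, 3, 0, 2, 5, 0, 3, 3, 3, 2, 2, 1, 4, 3, 1, 2]
def rw1758 : List ℕ := [3, 1, 4, 3, 1, 4, 3, 1, 0, 0, 2, 5, 0, 2, 5, 0, 2, 5, 0, 2, 5, 1, 4, 3, 1, 4]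
def rw1759 : List ℕ := [6, 3, 6, 3, 7, 2, 7, 2, 0, 2, 5, 6, 3, 6, 3, 4, 3, 1, 2, 0, 2, 5, 2, 7, 2, 7, 4, 3, 1, 3]
def rw1760 : List ℕ := [5, 3, 1, 1, 0, 0, 0, 2, 4, 2, 4, 1, 4, 2, 4, 0, 2, 1, 3, 1, 5, 3, 5, 0, 5, 3]
def rw1761 : List ℕ := [5, 2, 5, 2, 0, 4, 3, 4, 1, 5, 2, 5, 1, 3, 4, 3, 4, 3, 4, 3, 1, 0, 0, 2, 5, 2]
def rw1762 : List ℕ := [6, 5, 2, 5, 2, 0, 5, 5, 4, 1, 3, 4, 3, 4, 7, 3, 5, 6, 3, 3, 1, 4, 0, 2, 2, 7, 4, 2]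
def rw1763 : List ℕ := [1, 5, 0, 3, 5, 2, 1, 4, 0, 0, 2, 1, 5, 3, 1, 1, 1, 4, 0, 0, 0, 2, 4, 0, 3, 1]
def rw1764 : List ℕ := [5, 2, 5, 5, 1, 2, 0, 4, 3, 1, 2, 5, 1, 3, 0, 4, 4, 3, 4, 4, 3, 1, 0, 0, 2, 5]
def rw1765 : List ℕ := [0, 0, 0, 2, 5, 0, 3, 1, 2, 1, 4, 3, 1, 1, 1, 5, 3, 1, 1, 1, 0, 0, 0, 0, 2, 4]
def rw1766 : List ℕ := [0, 3, 3, 3, 1, 1, 4, 3, 1, 1, 1, 4, 0, 0, 0, 2, 5, 0, 0, 2, 2, 2, 1, 4, 5, 5]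
def rw1767 : List ℕ := [1, 2, 1, 4, 3, 1, 1, 1, 0, 0, 0, 0, 2, 5, 0, 3, 0, 3, 1, 1, 4, 1, 5, 0, 0, 2]
def rw1768 : List ℕ := [5, 1, 4, 1, 3, 5, 3, 1, 4, 1, 3, 5, 3, 1, 0, 0, 2, 4, 2, 0, 5, 0, 2, 4, 2, 0]
def rw1769 : List ℕ := [2, 6, 3, 0, 5, 3, 1, 3, 1, 4, 0, 2, 0, 2, 4, 1, 2, 7, 3, 1, 6, 0, 2, 5, 5, 4, 3, 1, 7, 0]
def rw1770 : List ℕ := [4, 4, 1, 3, 4, 3, 3, 2, 5, 2, 0, 5, 5, 2, 2, 2, 1, 2, 1, 2, 0, 3, 0, 3, 3, 3]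
def rw1771 : List ℕ := [3, 0, 4, 1, 2, 1, 2, 1, 3, 0, 3, 0, 5, 1, 2, 1, 3, 4, 1, 1, 0, 0, 0, 5, 2, 0]
def rw1772 : List ℕ := [4, 1, 1, 4, 2, 2, 4, 1, 1, 2, 0, 0, 5, 3, 3, 5, 0, 0, 5, 3, 3, 5, 3, 4, 2, 2]
def rw1773 : List ℕ := [4, 0, 5, 2, 2, 4, 4, 1, 5, 5, 3, 3, 4, 1, 5, 5, 3, 3, 4, 1, 0, 0, 5, 2, 2, 4]
def rw1774 : List ℕ := [0, 2, 1, 1, 4, 0, 0, 3, 1, 3, 3, 3, 3, 1, 3, 5, 2, 0, 2, 2, 2, 2]
def rw1775 : List ℕ := [0, 4, 1, 2, 2, 1, 1, 0, 0, 0, 3, 3, 0, 5, 1, 2, 0, 0, 4, 2, 1, 3, 5, 1, 1, 3]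
def rw1776 : List ℕ := [2, 2, 2, 5, 3, 3, 3, 1, 3, 0, 3, 1, 4, 0, 2, 1, 2, 0]
def rw1777 : List ℕ := [1, 2, 2, 1, 1, 4, 0, 0, 3, 3, 0, 5, 1, 2, 0, 0, 4, 2, 5, 3, 5, 1, 1, 3, 0, 4]
def rw1778 : List ℕ := [3, 0, 5, 2, 3, 3, 4, 1, 2, 1, 2, 0, 0, 5, 1, 1, 1, 2, 0, 0, 0, 4, 1, 1, 3, 0]
def rw1779 : List ℕ := [0, 2, 0, 0, 3, 3, 3, 1, 3, 3, 2, 0, 2, 2, 2, 1, 1, 3, 1, 2, 1, 1, 2, 0, 0, 3]
def rw1780 : List ℕ := [5, 3, 5, 0, 5, 2, 3, 3, 4, 1, 4, 2, 4, 1, 4, 1, 3, 3, 1, 2, 0, 2, 2, 0, 5, 0]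
def rw1781 : List ℕ := [2, 0, 3, 1, 0, 0, 2, 1, 3, 5, 3, 5, 0, 5, 3, 5, 2, 1, 3, 4, 2, 4, 1, 4, 2, 4]
def rw1782 : List ℕ := [1, 3, 1, 4, 3, 5, 0, 2, 0, 5, 0, 2, 0, 5, 1, 3, 1, 2, 0, 2, 0, 4, 1, 3, 1, 4]
def rw1783 : List ℕ := [3, 1, 4, 1, 4, 2, 4, 1, 4, 5, 5, 0, 5, 3, 5, 0, 5, 0, 2, 1, 3, 1, 4, 0, 2, 0]
def rw1784 : List ℕ := [3, 1, 3, 4, 3, 5, 2, 0, 2, 5, 1, 3, 1, 5, 1, 3, 1, 2, 0, 2, 0, 4, 0, 2, 0, 4]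
def rw1785 : List ℕ := [4, 3, 5, 5, 5, 3, 5, 3, 5, 2, 5, 3, 5, 3, 2, 2, 4, 2, 4, 3, 4, 2, 4, 2, 4, 4]
def rw1786 : List ℕ := [4, 4, 2, 4, 2, 4, 4, 5, 5, 5, 3, 5, 3, 5, 5, 3, 5, 3, 4, 2, 4, 2]
def rw1787 : List ℕ := [0, 4, 0, 5, 3, 3, 5, 3, 4, 4, 5, 5, 5, 2, 4, 2, 2, 4, 1, 5, 1, 1, 4, 0]
def rw1788 : List ℕ := [5, 0, 2, 4, 2, 0, 5, 3, 4, 1, 3, 5, 3, 1, 4, 1, 3, 5, 3, 1, 2, 0, 2, 4, 2, 0]
def rw1789 : List ℕ := [5, 0, 4, 4, 1, 4, 1, 4, 0, 0, 5, 0]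
def rw1790 : List ℕ := [3, 5, 5, 5, 1, 1, 4, 0, 0, 4, 4, 4, 2, 2, 4, 2, 0, 4, 5, 5, 1, 3, 5, 3]
def rw1791 : List ℕ := [1, 2, 1, 3, 4, 1, 2, 2, 2, 1, 3, 3, 3, 0, 5, 2, 0, 3, 0, 4, 1, 1, 0, 0, 0, 5]
def rw1792 : List ℕ := [2, 0, 4, 3, 4, 5, 5, 2, 5, 1, 3, 4, 3, 4, 3, 4, 3, 1, 4, 0, 2, 5, 2, 5, 2, 5]
def rw1793 : List ℕ := [4, 2, 0, 4, 1, 4, 1, 4, 5, 5, 0, 5, 0, 5, 1, 3, 5, 0, 5, 3, 1, 4, 0, 2, 4, 1]
def rw1794 : List ℕ := [3, 5, 2, 5, 3, 4, 3, 5, 2, 5, 3, 2, 2, 4, 3, 4, 2, 5, 2, 4, 3, 4, 2, 5, 3, 4]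
def rw1795 : List ℕ := [5, 2, 2, 4, 2, 4, 2, 5, 5, 3, 5, 3]
def rw1796 : List ℕ := [1, 3, 5, 5, 3, 5, 3, 5, 1, 2, 0, 4, 2, 4, 2, 4, 4, 2, 0, 5, 3, 5, 3, 4, 2, 4]
def rw1797 : List ℕ := [1, 6, 3, 4, 3, 1, 2, 0, 2, 5, 2, 7, 0, 2, 6, 3, 0, 5, 3, 5, 2, 3, 3, 4, 2, 4, 1, 2, 7, 3]
def rw1798 : List ℕ := [2, 4, 3, 5, 3, 1, 3, 5, 1, 3, 1, 5, 1, 3, 1, 2, 0, 2, 0, 4, 0, 2, 0, 4, 2, 0]
def rw1799 : List ℕ := [0, 4, 1, 2, 1, 1, 1, 0, 0, 0, 0, 3, 0, 5, 1, 2, 1, 3, 4, 2, 1, 3, 5, 2, 0, 3]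
def rw1800 : List ℕ := [0, 4, 2, 1, 3, 5, 1, 1, 1, 3, 4, 1, 2, 1, 1, 1, 0, 0, 0, 0, 3, 0, 5, 2, 0, 0]
def rw1801 : List ℕ := [5, 1, 1, 4, 0, 0, 4, 0, 2, 4, 2, 2, 4, 4, 4, 5, 5, 5, 5, 3, 3, 5, 3, 1]
def rw1802 : List ℕ := [1, 5, 5, 1, 5, 1, 1, 4, 0, 0, 4, 0, 4, 4, 0, 0, 4, 0, 4, 4, 5, 5, 5, 1, 5, 1]
def rw1803 : List ℕ := [0, 2, 7, 3, 1, 2, 1, 2, 0, 2, 2, 1, 1, 6, 0, 0, 3, 3, 1, 3, 0, 3]
def rw1804 : List ℕ := [1, 2, 0, 2, 2, 1, 1, 4, 0, 0, 3, 3, 1, 3, 0, 3, 0, 2, 5, 3, 1, 2]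
def rw1805 : List ℕ := [0, 3, 0, 2, 5, 1, 4, 3, 1, 2, 1, 5, 0, 3, 0, 3, 1, 1, 0, 0, 0, 2, 1, 2, 1, 4]
def rw1806 : List ℕ := [0, 2, 2, 2, 5, 3, 3, 3, 1, 3, 0, 3, 1, 4, 0, 2, 1, 2]
def rw1807 : List ℕ := [3, 3, 5, 3, 1, 5, 1, 1, 4, 0, 0, 4, 0, 2, 4, 2, 2, 4, 4, 4, 5, 5, 5, 5]
def rw1808 : List ℕ := [5, 1, 1, 4, 0, 0, 4, 0, 4, 4, 0, 0, 4, 0, 4, 4, 5, 5, 5, 1, 5, 1, 1, 5, 5, 1]
def rw1809 : List ℕ := [0, 4, 0, 4, 0, 4, 5, 5, 1, 5, 1, 5, 1, 5, 1, 5, 1, 4, 0, 4, 0, 4]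
def rw1810 : List ℕ := [1, 4, 0, 4, 0, 4, 0, 4, 0, 4, 0, 4, 5, 5, 1, 5, 1, 5, 1, 5, 1, 5]
def rw1811 : List ℕ := [0, 5, 1, 1, 2, 0, 0, 4, 1, 5, 5, 1, 1, 5, 0, 4, 4, 3, 5, 5, 1, 4, 0, 0, 4, 4]
def rw1812 : List ℕ := [3, 5, 0, 5, 3, 1, 0, 0, 2, 4, 1, 4, 2, 1, 4, 1, 4, 1, 5, 1, 4, 0, 5, 0, 5, 0]
def rw1813 : List ℕ := [0, 5, 1, 2, 0, 4, 1, 3, 5, 0, 5, 3, 0, 5, 0, 5, 3, 4, 1, 4, 1, 2, 4, 1, 4, 2]
def rw1814 : List ℕ := [1, 1, 3, 1, 1, 4, 0, 0, 2, 0, 0, 2, 5, 3]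
def rw1815 : List ℕ := [2, 1, 1, 3, 5, 2, 1, 3, 4, 2, 0, 0, 3, 3, 0, 5, 1, 1, 1, 0, 0, 0, 0, 4, 1, 2]
def rw1816 : List ℕ := [3, 0, 5, 1, 1, 0, 0, 0, 4, 1, 2, 1, 2, 0, 0, 5, 1, 2, 1, 3, 0, 4, 1, 1, 3, 0]
def rw1817 : List ℕ := [0, 2, 1, 2, 2, 1, 3, 3, 0, 3, 1, 3, 3, 0, 3, 1, 0, 0, 2, 1, 2, 2]
def rw1818 : List ℕ := [1, 3, 1, 1, 1, 4, 0, 0, 0, 2, 0, 3, 3, 0, 3, 1, 3, 3, 5, 2, 2, 0, 2, 1, 2, 2]
def rw1819 : List ℕ := [1, 4, 0, 2, 2, 4, 2, 4, 2, 2, 0, 5, 3, 5, 5, 4, 2, 4, 1, 3, 3, 5, 3, 5, 3, 3]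
def rw1820 : List ℕ := [3, 1, 0, 0, 2, 2, 0, 2, 2, 1, 3, 3, 1, 3]
def rw1821 : List ℕ := [4, 1, 3, 1, 4, 3, 5, 0, 2, 0, 5, 1, 3, 1, 5, 1, 3, 1, 2, 0, 2, 0, 4, 0, 2, 0]
def rw1822 : List ℕ := [2, 0, 2, 4, 3, 5, 3, 1, 3, 5, 1, 3, 1, 5, 1, 3, 1, 2, 0, 2, 0, 4, 0, 2, 0, 4]
def rw1823 : List ℕ := [3, 1, 3, 0, 3, 1, 0, 0, 2, 1, 2, 0, 2, 2, 2, 1, 3, 3]
def rw1824 : List ℕ := [5, 2, 2, 5, 1, 1, 4, 0, 0, 4, 3, 3, 4, 0, 0, 4, 3, 3, 4, 5, 5, 2, 2, 5, 1, 1]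
def rw1825 : List ℕ := [0, 0, 0, 2, 4, 0, 0, 0, 2, 5, 0, 3, 5, 2, 1, 4, 3, 1, 1, 1, 5, 3, 1, 1, 1, 4]
def rw1826 : List ℕ := [2, 2, 2, 1, 4, 3, 1, 2, 1, 5, 1, 4, 0, 3, 0, 2, 5, 0, 3, 3, 3, 1, 1, 0, 0, 0]
def rw1827 : List ℕ := [1, 4, 0, 5, 0, 5, 2, 4, 1, 4, 2, 0, 5, 5, 5, 4, 4, 1, 3, 5, 0, 5, 3, 4, 1, 4]
def rw1828 : List ℕ := [6, 3, 3, 5, 5, 1, 1, 4, 0, 0, 4, 4, 2, 2, 7, 0, 2, 6, 4, 4, 4, 5, 5, 5, 5, 7, 3, 1]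
def rw1829 : List ℕ := [4, 1, 1, 1, 0, 0, 0, 0, 5, 0, 5, 0, 4, 0, 5, 0, 5, 1, 4, 1, 4, 1, 5, 1, 4, 1]
def rw1830 : List ℕ := [4, 4, 2, 2, 5, 7, 4, 3, 3, 5, 5, 1, 4, 3, 3, 5, 5, 1, 6, 0, 4, 4, 2, 2, 5, 0]
def rw1831 : List ℕ := [4, 4, 3, 5, 3, 3, 5, 0, 4, 1, 5, 1, 4, 2, 2, 4, 2, 5, 5, 1, 1, 0, 0, 0]
def rw1832 : List ℕ := [4, 1, 3, 3, 1, 0, 0, 2, 2, 0, 5, 3, 5, 3, 3, 5, 3, 5, 1, 4, 2, 4, 2, 2, 4, 2]
def rw1833 : List ℕ := [2, 2, 4, 1, 5, 1, 1, 4, 0, 0, 4, 0, 5, 3, 3, 5, 3, 4, 4, 5, 5, 5, 2, 4]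
def rw1834 : List ℕ := [2, 5, 3, 4, 3, 5, 2, 5, 3, 2, 2, 4, 3, 4, 2, 5, 2, 4, 3, 4, 2, 5, 3, 4, 3, 5]
def rw1835 : List ℕ := [1, 1, 3, 0, 3, 0, 5, 2, 5, 3, 4, 1, 2, 1, 2, 0, 0, 5, 1, 1, 1, 4, 0, 0, 0, 4]
def rw1836 : List ℕ := [5, 0, 5, 0, 0, 4, 1, 4, 1, 4, 4, 0]
def rw1837 : List ℕ := [2, 0, 5, 1, 4, 0, 4, 1, 3, 5, 0, 5, 3, 0, 5, 0, 5, 5, 4, 1, 4, 1, 2, 4, 1, 4]
def rw1838 : List ℕ := [2, 4, 2, 4, 5, 5, 3, 5, 3, 3, 5, 3, 5, 3, 3, 4, 2, 2, 4, 2, 4, 2]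
def rw1839 : List ℕ := [5, 3, 5, 3, 3, 4, 2, 2, 4, 2, 4, 2, 2, 4, 2, 4, 5, 5, 3, 5, 3, 3]
def rw1840 : List ℕ := [3, 4, 1, 1, 1, 4, 3, 4, 1, 1, 1, 0, 0, 0, 0, 5, 2, 5, 0, 0, 0, 5, 2, 5, 1, 4]
def rw1841 : List ℕ := [0, 0, 2, 3, 3, 1, 1, 3, 1, 1, 2, 0, 0, 2]
def rw1842 : List ℕ := [4, 0, 5, 0, 5, 0, 0, 4, 1, 4, 1, 4]
def rw1843 : List ℕ := [4, 4, 3, 4, 4, 0, 3, 1, 4, 0, 2, 1, 5, 5, 2, 5, 5, 1, 2, 0, 4, 5, 5, 1, 3, 0]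
def rw1844 : List ℕ := [3, 5, 7, 0, 2, 6, 3, 1, 2, 7, 3, 1, 6, 4, 2, 4, 1, 3, 0, 5, 3, 1, 0, 0, 2, 4, 1, 2, 0, 5]
def rw1845 : List ℕ := [5, 3, 1, 5, 1, 1, 4, 0, 0, 4, 0, 2, 4, 2, 2, 4, 4, 4, 5, 5, 5, 5, 3, 3]
def rw1846 : List ℕ := [2, 0, 0, 5, 1, 1, 0, 0, 0, 4, 1, 1, 3, 3, 3, 0, 5, 1, 2, 1, 3, 0, 4, 1, 2, 2]
def rw1847 : List ℕ := [1, 1, 4, 2, 2, 4, 1, 1, 0, 0, 0, 5, 3, 3, 5, 0, 0, 5, 3, 3, 5, 1, 4, 2, 2, 4]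
def rw1848 : List ℕ := [1, 4, 2, 4, 1, 4, 1, 3, 1, 3, 1, 2, 0, 2, 0, 2, 0, 5, 0, 5, 3, 5, 0, 5, 3, 4]
def rw1849 : List ℕ := [1, 4, 2, 4, 1, 4, 1, 5, 0, 5, 3, 5, 0, 5, 0, 2, 1, 3, 1, 0, 0, 2, 0, 3, 1, 4]
def rw1850 : List ℕ := [3, 3, 1, 2, 0, 2, 2, 0, 2, 5, 0, 5, 3, 5, 0, 5, 3, 4, 1, 4, 2, 4, 1, 4, 3, 1]
def rw1851 : List ℕ := [4, 2, 0, 5, 3, 5, 5, 4, 2, 4, 1, 3, 5, 3, 5, 3, 5, 3, 1, 4, 0, 2, 4, 2, 4, 2]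
def rw1852 : List ℕ := [5, 0, 2, 0, 5, 0, 2, 0, 5, 1, 3, 1, 0, 0, 2, 0, 4, 1, 3, 1, 4, 1, 3, 1, 4, 1]
def rw1853 : List ℕ := [0, 3, 3, 3, 4, 4, 1, 3, 4, 3, 1, 2, 5, 2, 0, 5, 5, 2, 2, 2, 1, 2, 1, 0, 0, 3]
def rw1854 : List ℕ := [3, 1, 6, 3, 4, 1, 4, 3, 1, 4, 0, 2, 5, 0, 5, 2, 7, 0, 2, 6, 0, 5, 3, 5, 5, 4, 2, 4, 1, 7]
def rw1855 : List ℕ := [2, 0, 0, 4, 1, 2, 1, 1, 1, 0, 0, 0, 0, 3, 0, 5, 1, 1, 3, 0, 4, 2, 1, 3, 5, 1]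
def rw1856 : List ℕ := [0, 3, 0, 2, 1, 1, 1, 1, 2, 2, 2, 2, 2, 0, 3, 3, 3, 3, 3, 0, 0, 0]
def rw1857 : List ℕ := [4, 1, 1, 3, 3, 3, 0, 5, 1, 2, 3, 3, 0, 4, 1, 2, 2, 2, 0, 0, 5, 1, 1, 2, 0, 0]
def rw1858 : List ℕ := [4, 0, 3, 0, 2, 5, 0, 3, 3, 2, 1, 4, 3, 1, 2, 1, 5, 0, 3, 3, 1, 2, 0, 2, 2, 1]
def rw1859 : List ℕ := [2, 2, 5, 3, 5, 3, 5, 5, 2, 4, 2, 4]
def rw1860 : List ℕ := [4, 2, 5, 2, 4, 3, 4, 2, 5, 3, 4, 3, 5, 2, 5, 3, 4, 3, 5, 2, 5, 3, 2, 2, 4, 3]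
def rw1861 : List ℕ := [2, 5, 3, 4, 3, 5, 2, 5, 3, 4, 2, 4, 3, 4, 2, 5, 2, 4, 3, 4, 2, 5, 5, 4, 3, 5]
def rw1862 : List ℕ := [0, 2, 6, 4, 4, 4, 5, 5, 5, 5, 7, 3, 1, 6, 3, 3, 5, 5, 1, 1, 4, 0, 0, 4, 4, 2, 2, 7]
def rw1863 : List ℕ := [1, 1, 1, 4, 0, 0, 0, 4, 1, 2, 1, 3, 3, 0, 5, 2, 5, 3, 4, 1, 2, 2, 0, 3, 0, 5]
def rw1864 : List ℕ := [2, 1, 1, 4, 0, 0, 3, 3, 0, 5, 1, 2, 0, 0, 4, 2, 5, 3, 5, 1, 1, 3, 0, 4, 1, 2]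
def rw1865 : List ℕ := [5, 3, 4, 2, 4, 3, 4, 2, 5, 2, 4, 3, 4, 2, 5, 5, 4, 3, 5, 2, 5, 3, 4, 3, 5, 2]
def rw1866 : List ℕ := [4, 3, 5, 2, 5, 3, 4, 2, 4, 3, 4, 2, 5, 2, 4, 3, 4, 2, 5, 5, 4, 3, 5, 2, 5, 3]
def rw1867 : List ℕ := [4, 2, 4, 2, 2, 4, 2, 4, 3, 5, 3, 5, 3, 3, 5, 3, 5, 3, 3, 2, 2, 2]
def rw1868 : List ℕ := [3, 1, 1, 2, 0, 0, 2, 0, 3, 0, 3, 1, 3, 3, 3, 2, 2, 0, 2, 1, 2, 1]
def rw1869 : List ℕ := [3, 5, 3, 5, 3, 3, 2, 2, 2, 4, 2, 4, 2, 2, 4, 2, 4, 3, 5, 3, 5, 3]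
def rw1870 : List ℕ := [3, 5, 0, 5, 3, 5, 3, 1, 2, 4, 2, 4, 1, 4, 2, 4, 2, 1, 3, 1, 0, 0, 2, 0, 3, 5]
def rw1871 : List ℕ := [4, 3, 4, 2, 4, 2, 4, 4, 4, 5, 5, 5, 5, 3, 5, 3, 5, 2, 5, 3, 5, 3, 4, 2, 4, 2]
def rw1872 : List ℕ := [0, 5, 3, 1, 4, 0, 2, 4, 1, 4, 2, 1, 4, 1, 4, 1, 5, 5, 4, 0, 5, 0, 5, 0, 3, 5]
def rw1873 : List ℕ := [5, 5, 5, 3, 3, 5, 3, 1, 5, 1, 1, 0, 0, 0, 4, 0, 2, 4, 2, 2, 4, 4, 4, 1]
def rw1874 : List ℕ := [4, 3, 4, 4, 3, 1, 2, 0, 2, 5, 5, 2, 5, 5, 1, 2, 0, 4, 3, 3, 2, 5, 1, 3, 0, 4]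
def rw1875 : List ℕ := [5, 1, 5, 1, 1, 5, 5, 1, 5, 1, 1, 0, 0, 0, 4, 0, 4, 4, 0, 0, 4, 0, 4, 4, 1, 5]
def rw1876 : List ℕ := [5, 1, 1, 5, 0, 4, 4, 5, 5, 5, 1, 4, 0, 0, 4, 4, 0, 5, 1, 1, 4, 0, 0, 4, 1, 5]
def rw1877 : List ℕ := [3, 4, 3, 5, 2, 1, 3, 4, 4, 3, 4, 4, 0, 3, 1, 2, 0, 2, 1, 5, 5, 2, 5, 5, 2, 0]
def rw1878 : List ℕ := [2, 5, 1, 3, 0, 4, 4, 3, 4, 4, 3, 1, 0, 0, 2, 5, 5, 2, 5, 5, 1, 2, 0, 4, 3, 1]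
def rw1879 : List ℕ := [0, 0, 4, 1, 2, 1, 1, 1, 2, 0, 0, 0, 3, 0, 5, 1, 1, 3, 0, 4, 2, 3, 3, 5, 1, 2]
def rw1880 : List ℕ := [4, 4, 1, 5, 5, 1, 4, 0, 0, 4, 4, 0, 5, 1, 1, 0, 0, 0, 4, 1, 5, 5, 1, 1, 5, 0]
def rw1881 : List ℕ := [2, 0, 5, 1, 3, 1, 2, 0, 2, 0, 4, 1, 3, 1, 4, 1, 3, 1, 4, 3, 5, 0, 2, 0, 5, 0]
def rw1882 : List ℕ := [4, 3, 5, 2, 5, 3, 2, 2, 4, 3, 4, 2, 5, 2, 4, 3, 4, 2, 5, 3, 4, 3, 5, 2, 5, 3]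
def rw1883 : List ℕ := [5, 1, 2, 0, 4, 1, 4, 1, 4, 4, 4, 1, 4, 1, 4, 3, 5, 0, 5, 0, 5, 5, 5, 0, 5, 0]
def rw1884 : List ℕ := [4, 1, 4, 1, 4, 1, 4, 1, 0, 0, 5, 0, 5, 0, 5, 0, 5, 0, 5, 1, 4, 1]
def rw1885 : List ℕ := [1, 1, 1, 2, 0, 0, 0, 5, 0, 5, 0, 4, 0, 5, 0, 5, 3, 4, 1, 4, 1, 5, 1, 4, 1, 4]
def rw1886 : List ℕ := [5, 3, 4, 2, 4, 1, 4, 2, 4, 1, 2, 0, 5, 3, 5, 0, 5, 3]
def rw1887 : List ℕ := [0, 5, 3, 1, 1, 4, 0, 0, 2, 4, 1, 4, 2, 0, 0, 5, 0, 5, 5, 4, 1, 4, 1, 1, 3, 5]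
def rw1888 : List ℕ := [1, 7, 4, 5, 5, 6, 0, 2, 2, 2, 7, 0, 2, 4, 2, 1, 3, 1, 4, 0, 2, 0, 3, 5, 3, 1, 6, 3, 3, 3]
def rw1889 : List ℕ := [3, 3, 1, 7, 4, 5, 5, 6, 0, 2, 2, 2, 7, 0, 2, 4, 2, 1, 3, 1, 4, 0, 2, 0, 3, 5, 3, 1, 6, 3]
def rw1890 : List ℕ := [0, 5, 5, 3, 4, 4, 1, 3, 5, 0, 5, 3, 4, 1, 4, 1, 2, 0, 5, 0, 5, 2, 4, 1, 4, 2]
def rw1891 : List ℕ := [5, 5, 1, 4, 3, 3, 5, 5, 1, 0, 0, 4, 4, 2, 2, 5, 0, 4, 4, 2, 2, 5, 1, 4, 3, 3]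
def rw1892 : List ℕ := [2, 2, 2, 2, 2, 2, 2, 2, 2, 2, 2, 2, 2, 2, 2, 2, 2]
def rw1893 : List ℕ := [2, 4, 2, 5, 5, 3, 5, 3, 5, 2, 2, 4]
def rw1894 : List ℕ := [1, 1, 2, 0, 0, 0, 3, 1, 3, 3, 3, 3, 3, 1, 3, 3, 2, 0, 2, 2, 2, 2, 2, 0, 2, 1]
def rw1895 : List ℕ := [2, 5, 5, 1, 2, 0, 4, 3, 5, 1, 3, 0, 4, 4, 3, 4, 4, 0, 3, 1, 2, 0, 2, 1, 5, 5]
def rw1896 : List ℕ := [0, 0, 0, 0, 0, 0, 0, 0, 0, 0, 0, 0, 0, 0, 0, 0, 0]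
def rw1897 : List ℕ := [5, 3, 1, 1, 2, 0, 0, 2, 4, 0, 3, 0, 2, 5, 0, 3, 3, 3, 2, 2, 1, 4, 3, 1, 2, 1]
def rw1898 : List ℕ := [4, 0, 0, 0, 2, 4, 0, 3, 1, 1, 5, 0, 3, 5, 2, 1, 4, 0, 0, 2, 1, 5, 3, 1, 1, 1]
def rw1899 : List ℕ := [3, 3, 0, 0, 2, 4, 3, 1, 1, 1, 4, 0, 0, 0, 2, 5, 3, 1, 1, 2, 2, 1, 4, 5, 5, 0]
def rw1900 : List ℕ := [0, 4, 4, 1, 5, 5, 1, 4, 0, 0, 4, 4, 0, 5, 1, 1, 0, 0, 0, 4, 1, 5, 5, 1, 1, 5]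
def rw1901 : List ℕ := [1, 1, 4, 0, 0, 4, 1, 5, 5, 1, 1, 5, 0, 4, 4, 5, 5, 5, 1, 4, 0, 0, 4, 4, 0, 5]
def rw1902 : List ℕ := [3, 3, 5, 5, 1, 0, 0, 4, 4, 2, 2, 5, 0, 4, 4, 2, 2, 5, 1, 4, 3, 3, 5, 5, 1, 4]
def rw1903 : List ℕ := [4, 1, 1, 1, 4, 3, 4, 1, 1, 1, 0, 0, 0, 0, 5, 2, 5, 0, 0, 0, 5, 2, 5, 1, 4, 3]
def rw1904 : List ℕ := [2, 1, 2, 0, 2, 2, 1, 2, 1, 3, 0, 3, 3, 1, 3, 0, 3, 3, 1, 0, 0, 2]
def rw1905 : List ℕ := [4, 3, 3, 2, 5, 2, 0, 5, 5, 2, 2, 2, 1, 2, 1, 2, 0, 3, 0, 3, 3, 3, 4, 4, 1, 3]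
def rw1906 : List ℕ := [2, 4, 2, 5, 5, 1, 1, 4, 0, 0, 4, 4, 3, 5, 3, 3, 5, 0, 4, 5, 5, 1, 4, 2]
def rw1907 : List ℕ := [5, 5, 5, 1, 1, 4, 0, 0, 4, 4, 4, 2, 2, 4, 2, 0, 4, 5, 5, 1, 3, 5, 3, 3]
def rw1908 : List ℕ := [3, 3, 3, 0, 3, 0, 3, 4, 3, 1, 2, 0, 2, 5, 2, 1, 2, 1, 2, 2, 2, 5, 5, 3, 4, 4]
def rw1909 : List ℕ := [1, 1, 1, 2, 0, 0, 0, 2, 4, 0, 0, 0, 2, 5, 0, 3, 3, 2, 1, 4, 3, 1, 1, 1, 5, 3]
def rw1910 : List ℕ := [3, 3, 2, 1, 4, 3, 1, 1, 1, 5, 3, 1, 1, 1, 2, 0, 0, 0, 2, 4, 0, 0, 0, 2, 5, 0]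
def rw1911 : List ℕ := [0, 2, 5, 0, 2, 5, 0, 2, 5, 5, 4, 3, 1, 4, 3, 1, 4, 3, 1, 4, 3, 1, 4, 0, 2, 5]
def rw1912 : List ℕ := [5, 3, 5, 3, 4, 2, 0, 5, 3, 5, 5, 4, 2, 4, 1, 3, 5, 2, 4, 2, 4, 2, 1, 4, 0, 3]
def rw1913 : List ℕ := [3, 1, 2, 1, 1, 4, 0, 0, 3, 0, 2, 0, 0, 3, 3, 3, 1, 3, 5, 2, 0, 2, 2, 2, 1, 1]
def rw1914 : List ℕ := [2, 0, 2, 1, 2, 1, 1, 4, 0, 0, 3, 0, 3, 1, 3, 3, 0, 3, 0, 2, 5, 3, 1, 2, 1, 2]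
def rw1915 : List ℕ := [2, 5, 0, 3, 0, 3, 1, 1, 4, 1, 5, 0, 0, 2, 1, 2, 1, 4, 3, 1, 1, 1, 0, 0, 0, 0]
def rw1916 : List ℕ := [1, 4, 1, 5, 0, 3, 3, 1, 2, 1, 4, 0, 3, 1, 1, 0, 0, 0, 2, 1, 5, 0, 3, 0, 2, 2]
def rw1917 : List ℕ := [2, 2, 1, 3, 3, 3, 0, 5, 2, 0, 3, 0, 4, 1, 1, 0, 0, 0, 5, 1, 2, 1, 3, 4, 1, 2]
def rw1918 : List ℕ := [2, 1, 4, 3, 1, 2, 1, 5, 0, 3, 3, 1, 0, 0, 2, 2, 1, 4, 0, 3, 0, 2, 5, 0, 3, 1]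
def rw1919 : List ℕ := [2, 2, 2, 0, 0, 5, 1, 1, 0, 0, 0, 4, 1, 1, 3, 3, 3, 0, 5, 1, 2, 1, 3, 0, 4, 1]
def rw1920 : List ℕ := [1, 2, 1, 3, 4, 1, 1, 2, 0, 0, 5, 2, 0, 3, 0, 4, 1, 2, 1, 2, 3, 3, 0, 3, 0, 5]
def rw1921 : List ℕ := [2, 1, 2, 2, 2, 5, 5, 5, 4, 4, 3, 3, 3, 0, 3, 0, 3, 4, 3, 1, 4, 0, 2, 5, 2, 1]
def rw1922 : List ℕ := [5, 2, 2, 2, 1, 2, 1, 2, 0, 3, 0, 3, 3, 3, 4, 4, 1, 3, 4, 3, 3, 2, 5, 2, 0, 5]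
def rw1923 : List ℕ := [1, 2, 2, 1, 3, 3, 0, 3, 1, 3, 3, 0, 3, 1, 0, 0, 2, 1, 2, 2, 0, 2]
def rw1924 : List ℕ := [0, 3, 3, 0, 2, 3, 3, 1, 2, 2, 1, 2, 0, 2, 2, 1, 1, 1, 2, 0, 0, 0, 3, 3, 1, 3]
def rw1925 : List ℕ := [1, 4, 1, 2, 3, 3, 0, 5, 0, 5, 3, 5, 0, 5, 0, 3, 1, 2, 0, 2, 1, 4, 1, 4, 2, 4]
def rw1926 : List ℕ := [0, 3, 4, 3, 1, 2, 0, 2, 5, 2, 1, 2, 1, 2, 2, 2, 5, 5, 3, 4, 4, 3, 3, 3, 0, 3]
def rw1927 : List ℕ := [0, 3, 0, 3, 1, 3, 3, 3, 2, 2, 0, 2, 1, 2, 1, 3, 1, 1, 2, 0, 0, 2]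
def rw1928 : List ℕ := [4, 0, 3, 0, 2, 5, 0, 3, 3, 3, 1, 1, 2, 0, 0, 2, 2, 2, 1, 4, 3, 1, 2, 1, 5, 3]
def rw1929 : List ℕ := [4, 2, 2, 4, 2, 5, 5, 1, 1, 0, 0, 0, 4, 4, 3, 5, 3, 3, 5, 0, 4, 1, 5, 1]
def rw1930 : List ℕ := [1, 1, 1, 2, 0, 0, 0, 3, 0, 5, 1, 1, 3, 0, 4, 2, 3, 3, 5, 1, 2, 0, 0, 4, 1, 2]
def rw1931 : List ℕ := [1, 2, 0, 0, 4, 2, 3, 3, 5, 1, 1, 3, 0, 4, 1, 2, 2, 1, 1, 2, 0, 0, 3, 3, 0, 5]
def rw1932 : List ℕ := [5, 0, 5, 0, 5, 1, 4, 0, 4, 1, 4, 1, 4, 4, 4, 1, 4, 1, 4, 5, 5, 0, 5, 0, 5, 5]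
def rw1933 : List ℕ := [1, 1, 4, 0, 0, 0, 3, 1, 3, 3, 3, 3, 3, 1, 3, 5, 2, 0, 2, 2, 2, 2, 2, 0, 2, 1]
def rw1934 : List ℕ := [1, 2, 1, 4, 0, 0, 2, 1, 5, 1, 4, 0, 3, 1, 1, 5, 0, 3, 0, 3, 1, 1, 0, 0, 0, 2]
def rw1935 : List ℕ := [0, 3, 3, 3, 2, 2, 1, 4, 3, 1, 2, 1, 5, 3, 1, 1, 2, 0, 0, 2, 4, 0, 3, 0, 2, 5]
def rw1936 : List ℕ := [4, 1, 5, 5, 1, 1, 5, 0, 4, 4, 5, 5, 5, 1, 4, 0, 0, 4, 4, 0, 5, 1, 1, 4, 0, 0]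
def rw1937 : List ℕ := [4, 1, 5, 2, 2, 5, 1, 1, 5, 2, 2, 5, 1, 1, 0, 0, 0, 4, 3, 3, 4, 0, 0, 4, 3, 3]
def rw1938 : List ℕ := [3, 1, 4, 1, 3, 5, 3, 1, 0, 0, 2, 4, 2, 0, 5, 0, 2, 4, 2, 0, 5, 1, 4, 1, 3, 5]
def rw1939 : List ℕ := [2, 4, 4, 2, 2, 4, 4, 5, 5, 5, 3, 3, 5, 5, 3, 3, 5, 5, 3, 3, 4, 2, 2, 4, 4, 2]
def rw1940 : List ℕ := [0, 3, 3, 3, 1, 1, 4, 3, 1, 1, 1, 2, 0, 0, 0, 2, 5, 0, 0, 2, 2, 2, 1, 4, 3, 5]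
def rw1941 : List ℕ := [1, 4, 3, 1, 2, 1, 5, 0, 3, 3, 1, 4, 0, 2, 2, 1, 4, 0, 3, 0, 2, 5, 0, 3, 5, 2]
def rw1942 : List ℕ := [1, 5, 5, 4, 0, 3, 1, 1, 5, 0, 3, 0, 3, 1, 1, 4, 0, 0, 2, 1, 2, 1, 4, 0, 0, 2]
def rw1943 : List ℕ := [3, 1, 2, 1, 5, 5, 4, 0, 3, 0, 2, 5, 0, 3, 3, 3, 1, 1, 4, 0, 0, 2, 2, 2, 1, 4]
def rw1944 : List ℕ := [3, 3, 0, 3, 1, 3, 3, 5, 2, 2, 0, 2, 1, 2, 2, 1, 3, 1, 1, 1, 4, 0, 0, 0, 2, 0]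
def rw1945 : List ℕ := [1, 3, 1, 1, 1, 1, 0, 0, 0, 0, 0, 2, 0, 3, 3, 3, 0, 3, 1, 3, 3, 1, 2, 2, 0, 2, 1, 2, 2, 2]
def rw1946 : List ℕ := [1, 5, 0, 3, 3, 1, 0, 0, 2, 2, 1, 4, 0, 3, 0, 2, 5, 0, 3, 1, 2, 1, 4, 3, 1, 2]
def rw1947 : List ℕ := [3, 3, 4, 4, 1, 3, 4, 3, 1, 2, 5, 2, 0, 5, 5, 2, 2, 2, 1, 2, 1, 0, 0, 3, 0, 3]
def rw1948 : List ℕ := [2, 7, 4, 1, 6, 1, 3, 3, 1, 2, 0, 2, 2, 0, 7, 0, 5, 6, 3, 3, 7, 0, 5, 6, 3, 7, 4, 1, 6, 2]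
def rw1949 : List ℕ := [3, 5, 3, 1, 2, 4, 2, 4, 1, 4, 2, 4, 2, 1, 3, 1, 0, 0, 2, 0, 3, 5, 3, 5, 0, 5]
def rw1950 : List ℕ := [5, 3, 5, 3, 5, 2, 5, 3, 5, 3, 2, 2, 4, 2, 4, 3, 4, 2, 4, 2, 4, 4, 4, 3, 5, 5]
def rw1951 : List ℕ := [3, 5, 2, 5, 3, 0, 2, 4, 3, 4, 2, 5, 2, 4, 3, 4, 2, 5, 1, 4, 3, 5, 2, 5, 3, 4]
def rw1952 : List ℕ := [4, 1, 6, 1, 3, 3, 1, 0, 0, 2, 2, 0, 7, 0, 5, 6, 3, 3, 7, 0, 5, 6, 1, 7, 4, 1, 6, 2, 2, 7]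
def rw1953 : List ℕ := [2, 4, 1, 3, 5, 6, 3, 0, 3, 1, 0, 0, 2, 1, 2, 7, 4, 2, 0, 5, 3, 1, 6, 1, 7, 0]
def rw1954 : List ℕ := [2, 5, 5, 3, 5, 3, 5, 2, 2, 4, 2, 4]
def rw1955 : List ℕ := [5, 3, 3, 4, 1, 5, 5, 3, 3, 4, 1, 0, 0, 5, 2, 2, 4, 4, 0, 5, 2, 2, 4, 4, 1, 5]
def rw1956 : List ℕ := [1, 5, 1, 5, 5, 1, 1, 0, 0, 0, 4, 4, 0, 4, 0, 0, 4, 4, 0, 4, 1, 5, 1, 5, 5, 1]
def rw1957 : List ℕ := [4, 0, 0, 4, 4, 0, 4, 1, 5, 1, 5, 5, 1, 1, 5, 1, 5, 5, 1, 1, 0, 0, 0, 4, 4, 0]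
def rw1958 : List ℕ := [0, 5, 3, 5, 3, 4, 2, 4, 1, 3, 5, 3, 5, 3, 5, 3, 1, 2, 0, 2, 4, 2, 4, 2, 4, 2]
def rw1959 : List ℕ := [4, 1, 5, 2, 5, 1, 3, 4, 3, 4, 3, 4, 3, 1, 0, 0, 2, 5, 2, 5, 2, 5, 2, 0, 4, 3]
def rw1960 : List ℕ := [1, 4, 0, 2, 5, 3, 5, 3, 5, 2, 0, 5, 3, 5, 5, 4, 2, 4, 1, 3, 4, 2, 4, 2, 4, 3]
def rw1961 : List ℕ := [2, 2, 4, 4, 0, 5, 2, 2, 4, 4, 3, 5, 5, 3, 3, 4, 1, 5, 5, 3, 3, 4, 1, 2, 0, 5]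
def rw1962 : List ℕ := [0, 5, 2, 2, 4, 4, 3, 5, 5, 3, 3, 4, 1, 5, 5, 3, 3, 4, 1, 2, 0, 5, 2, 2, 4, 4]
def rw1963 : List ℕ := [1, 4, 1, 2, 7, 3, 1, 6, 3, 1, 3, 1, 2, 0, 2, 0, 2, 7, 0, 2, 6, 3, 0, 5, 0, 2, 4, 3, 5, 3]
def rw1964 : List ℕ := [5, 0, 5, 3, 4, 1, 4, 1, 4, 1, 3, 5, 0, 5, 3, 1, 2, 0, 2, 4, 1, 4, 2, 0, 5, 0]
def rw1965 : List ℕ := [5, 3, 0, 5, 3, 5, 1, 4, 2, 4, 1, 2, 4, 2, 4, 2, 5, 3, 1, 0, 0, 2, 4, 3, 5, 3]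
def rw1966 : List ℕ := [3, 4, 1, 1, 1, 4, 0, 0, 0, 5, 2, 5, 0, 0, 0, 5, 2, 5, 5, 4, 3, 4, 1, 1, 1, 4]
def rw1967 : List ℕ := [4, 1, 1, 1, 4, 0, 0, 0, 5, 2, 5, 0, 0, 0, 5, 2, 5, 5, 4, 3, 4, 1, 1, 1, 4, 3]
def rw1968 : List ℕ := [0, 2, 5, 3, 1, 0, 0, 2, 4, 3, 1, 7, 0, 2, 6, 3, 0, 5, 1, 4, 1, 2, 7, 3, 1, 6]
def rw1969 : List ℕ := [3, 4, 4, 3, 1, 4, 0, 2, 5, 5, 2, 5, 5, 1, 2, 0, 4, 3, 5, 2, 5, 1, 3, 0, 4, 4]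
def rw1970 : List ℕ := [2, 1, 2, 0, 3, 0, 3, 3, 3, 4, 4, 1, 3, 4, 3, 3, 2, 5, 2, 0, 5, 5, 2, 2, 2, 1]
def rw1971 : List ℕ := [0, 3, 1, 3, 3, 0, 2, 0]
def rw1972 : List ℕ := [1, 1, 2, 0, 0, 2, 0, 3, 0, 3, 1, 3, 3, 3, 2, 2, 0, 2, 1, 2, 1, 3]
def rw1973 : List ℕ := [3, 3, 3, 3, 1, 3, 3, 2, 0, 2, 2, 2, 2, 0, 2, 1, 1, 2, 0, 0, 3, 1]
def rw1974 : List ℕ := [1, 2, 1, 2, 2, 0, 2, 1, 2, 1, 1, 0, 0, 0, 3, 0, 3, 1, 3, 3, 0, 3, 0, 2, 1, 3]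
def rw1975 : List ℕ := [5, 1, 2, 1, 2, 0, 3, 0, 4, 1, 2, 2, 0, 3, 0, 5, 2, 3, 3, 4, 1, 2, 1, 3, 3, 0]
def rw1976 : List ℕ := [3, 5, 2, 1, 3, 4, 2, 0, 0, 3, 3, 0, 5, 1, 1, 1, 0, 0, 0, 0, 4, 1, 2, 2, 1, 1]
def rw1977 : List ℕ := [5, 1, 2, 1, 3, 0, 4, 1, 2, 2, 2, 0, 0, 5, 1, 1, 0, 0, 0, 4, 1, 1, 3, 3, 3, 0]
def rw1978 : List ℕ := [5, 1, 1, 0, 0, 0, 4, 1, 1, 3, 3, 3, 0, 5, 1, 2, 1, 3, 0, 4, 1, 2, 2, 2, 0, 0]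
def rw1979 : List ℕ := [3, 3, 0, 5, 1, 2, 1, 2, 0, 3, 0, 4, 1, 2, 2, 0, 3, 0, 5, 2, 3, 3, 4, 1, 2, 1]
def rw1980 : List ℕ := [1, 2, 0, 2, 2, 2, 1, 3, 3, 3, 1, 3, 0, 3, 1, 0, 0, 2]
def rw1981 : List ℕ := [4, 2, 0, 0, 3, 3, 0, 5, 1, 1, 1, 0, 0, 0, 0, 4, 1, 2, 2, 1, 1, 3, 5, 2, 1, 3]
def rw1982 : List ℕ := [3, 0, 4, 1, 1, 0, 0, 0, 5, 1, 2, 1, 3, 4, 1, 2, 2, 2, 1, 3, 3, 3, 0, 5, 2, 0]
def rw1983 : List ℕ := [0, 3, 0, 4, 1, 1, 2, 0, 0, 5, 1, 2, 1, 3, 4, 1, 2, 2, 2, 3, 3, 3, 3, 0, 5, 2]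
def rw1984 : List ℕ := [3, 0, 0, 2, 4, 3, 5, 3, 1, 1, 2, 2, 1, 4, 0, 3, 1, 1, 2, 0, 0, 2, 1, 5, 0, 3]
def rw1985 : List ℕ := [5, 2, 2, 2, 1, 2, 1, 0, 0, 3, 0, 3, 3, 3, 4, 4, 1, 3, 4, 3, 1, 2, 5, 2, 0, 5]
def rw1986 : List ℕ := [2, 1, 4, 0, 3, 1, 1, 0, 0, 0, 2, 1, 5, 0, 3, 3, 0, 0, 2, 4, 1, 5, 3, 1, 1, 2]
def rw1987 : List ℕ := [0, 3, 3, 1, 2, 1, 4, 0, 3, 1, 1, 0, 0, 0, 2, 1, 5, 0, 3, 0, 2, 2, 1, 4, 1, 5]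
def rw1988 : List ℕ := [1, 4, 2, 2, 4, 2, 5, 5, 1, 1, 4, 0, 0, 4, 4, 3, 5, 3, 3, 5, 0, 4, 5, 5]
def rw1989 : List ℕ := [1, 4, 3, 1, 1, 1, 4, 0, 0, 0, 2, 5, 0, 3, 0, 3, 1, 1, 4, 5, 5, 0, 0, 2, 1, 2]
def rw1990 : List ℕ := [3, 0, 3, 1, 1, 0, 0, 0, 2, 1, 2, 1, 4, 0, 0, 2, 1, 5, 1, 4, 0, 3, 1, 1, 5, 0]
def rw1991 : List ℕ := [5, 5, 1, 5, 1, 1, 0, 0, 0, 4, 0, 4, 4, 0, 0, 4, 0, 4, 4, 1, 5, 5, 1, 5, 1, 1]
def rw1992 : List ℕ := [1, 1, 5, 5, 1, 1, 0, 0, 0, 4, 4, 0, 0, 4, 4, 0, 0, 4, 4, 1, 5, 5, 1, 1, 5, 5]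
def rw1993 : List ℕ := [4, 0, 0, 4, 4, 0, 0, 4, 4, 5, 5, 5, 1, 1, 5, 5, 1, 1, 5, 5, 1, 1, 4, 0, 0, 4]
def rw1994 : List ℕ := [0, 5, 3, 1, 0, 0, 2, 4, 1, 4, 2, 5, 0, 5, 0, 5, 5, 1, 4, 4, 1, 4, 1, 4, 3, 5]
def rw1995 : List ℕ := [1, 4, 1, 4, 4, 0, 5, 0, 5, 0, 0, 4]
def rw1996 : List ℕ := [2, 2, 2, 2, 2, 0, 2, 1, 1, 1, 0, 0, 0, 0, 3, 1, 3, 3, 3, 3, 3, 1, 3, 1, 2, 0]
def rw1997 : List ℕ := [5, 5, 1, 1, 5, 0, 4, 4, 3, 5, 5, 1, 4, 0, 0, 4, 4, 0, 5, 1, 1, 2, 0, 0, 4, 1]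
def rw1998 : List ℕ := [5, 1, 3, 1, 4, 0, 2, 0, 4, 0, 2, 0, 4, 1, 3, 1, 4, 5, 5, 0, 2, 0, 5, 1, 3, 1]
def rw1999 : List ℕ := [3, 3, 2, 0, 5, 0, 5, 3, 5, 0, 5, 1, 3, 1, 2, 0, 2, 0, 4, 1, 4, 2, 4, 1, 4, 1]
def rw2000 : List ℕ := [4, 1, 4, 2, 4, 1, 4, 1, 3, 3, 1, 0, 0, 2, 2, 0, 5, 0, 5, 3, 5, 0, 5, 2, 1, 3]
def rw2001 : List ℕ := [1, 2, 0, 2, 0, 2, 4, 2, 4, 1, 4, 2, 4, 2, 3, 3, 5, 3, 5, 0, 5, 3, 5, 3, 1, 3]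
def rw2002 : List ℕ := [0, 5, 0, 5, 0, 0, 4, 1, 4, 1, 4, 4]
def rw2003 : List ℕ := [0, 5, 1, 1, 3, 0, 4, 2, 3, 3, 5, 1, 2, 0, 0, 4, 1, 2, 1, 1, 1, 2, 0, 0, 0, 3]
def rw2004 : List ℕ := [1, 1, 1, 4, 0, 0, 0, 3, 0, 5, 1, 1, 3, 0, 4, 2, 5, 3, 5, 1, 2, 0, 0, 4, 1, 2]
def rw2005 : List ℕ := [3, 0, 5, 1, 2, 1, 3, 4, 2, 1, 3, 5, 2, 0, 3, 0, 4, 1, 2, 1, 1, 1, 0, 0, 0, 0]
def rw2006 : List ℕ := [1, 1, 1, 4, 0, 0, 0, 4, 1, 2, 2, 1, 1, 3, 5, 2, 5, 3, 4, 2, 0, 0, 3, 3, 0, 5]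
def rw2007 : List ℕ := [0, 5, 2, 0, 3, 0, 4, 1, 2, 1, 2, 5, 3, 0, 3, 0, 5, 1, 2, 1, 3, 4, 1, 1, 4, 0]
def rw2008 : List ℕ := [2, 1, 2, 1, 2, 0, 3, 0, 3, 3, 3, 4, 4, 1, 3, 4, 3, 3, 2, 5, 2, 0, 5, 5, 2, 2]
def rw2009 : List ℕ := [0, 5, 5, 2, 2, 2, 1, 2, 1, 0, 0, 3, 0, 3, 3, 3, 4, 4, 1, 3, 4, 3, 1, 2, 5, 2]
def rw2010 : List ℕ := [5, 1, 1, 4, 0, 0, 4, 0, 5, 3, 3, 5, 3, 4, 4, 5, 5, 5, 2, 4, 2, 2, 4, 1]
def rw2011 : List ℕ := [3, 5, 3, 1, 5, 1, 1, 2, 0, 0, 4, 0, 2, 4, 2, 2, 4, 4, 4, 3, 5, 5, 5, 3]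
def rw2012 : List ℕ := [2, 4, 3, 5, 3, 1, 3, 5, 0, 2, 0, 5, 1, 3, 1, 2, 0, 2, 0, 4, 1, 3, 1, 4, 2, 0]
def rw2013 : List ℕ := [0, 3, 0, 3, 1, 0, 0, 2, 1, 2, 1, 2, 0, 2, 2, 1, 2, 2, 1, 3, 3, 0, 3, 3, 1, 3]
def rw2014 : List ℕ := [3, 0, 3, 4, 4, 3, 1, 2, 5, 5, 2, 1, 2, 2, 4, 2, 2, 1, 0, 0, 3, 3, 5, 3]
def rw2015 : List ℕ := [2, 0, 3, 0, 4, 1, 2, 1, 1, 1, 0, 0, 0, 0, 3, 0, 5, 1, 2, 1, 3, 4, 2, 1, 3, 5]
def rw2016 : List ℕ := [3, 1, 2, 0, 2, 5, 2, 1, 2, 1, 2, 2, 2, 5, 5, 3, 4, 4, 3, 3, 3, 0, 3, 0, 3, 4]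
def rw2017 : List ℕ := [1, 4, 3, 1, 1, 1, 0, 0, 0, 0, 2, 5, 0, 3, 0, 3, 1, 1, 4, 1, 5, 0, 0, 2, 1, 2]
def rw2018 : List ℕ := [1, 4, 4, 1, 4, 1, 0, 0, 5, 0, 5, 5, 0, 5, 0, 5, 5, 1, 4, 4, 1, 4]
def rw2019 : List ℕ := [5, 0, 3, 0, 2, 2, 1, 4, 1, 5, 0, 3, 3, 1, 2, 1, 4, 0, 3, 1, 1, 0, 0, 0, 2, 1]
def rw2020 : List ℕ := [0, 4, 0, 5, 0, 5, 5, 4, 1, 4, 1, 5, 1, 4, 1, 4, 1, 1, 1, 4, 0, 0, 0, 5, 0, 5]
def rw2021 : List ℕ := [5, 0, 3, 3, 1, 0, 0, 2, 2, 1, 4, 0, 3, 0, 2, 5, 0, 3, 1, 2, 1, 4, 3, 1, 2, 1]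
def rw2022 : List ℕ := [0, 0, 2, 5, 0, 0, 2, 2, 2, 1, 4, 5, 5, 0, 3, 3, 3, 1, 1, 4, 3, 1, 1, 1, 4, 0]
def rw2023 : List ℕ := [5, 0, 5, 3, 5, 3, 1, 2, 4, 2, 4, 1, 4, 2, 4, 2, 1, 3, 1, 0, 0, 2, 0, 3, 5, 3]
def rw2024 : List ℕ := [4, 0, 2, 5, 0, 2, 5, 0, 2, 5, 0, 2, 5, 5, 4, 3, 1, 4, 3, 1, 4, 3, 1, 4, 3, 1]
def rw2025 : List ℕ := [3, 1, 4, 2, 0, 2, 4, 3, 5, 3, 1, 3, 5, 0, 2, 0, 5, 1, 3, 1, 2, 0, 2, 0, 4, 1]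
def rw2026 : List ℕ := [3, 1, 3, 4, 3, 5, 2, 0, 2, 5, 0, 2, 0, 5, 1, 3, 1, 2, 0, 2, 0, 4, 1, 3, 1, 4]
def rw2027 : List ℕ := [1, 3, 1, 4, 0, 2, 0, 5, 0, 2, 0, 5, 0, 2, 0, 5, 5, 4, 1, 3, 1, 4, 1, 3, 1, 4]
def rw2028 : List ℕ := [2, 2, 1, 4, 5, 5, 0, 3, 3, 1, 2, 1, 4, 0, 3, 1, 1, 4, 0, 0, 2, 1, 5, 0, 3, 0]
def rw2029 : List ℕ := [4, 1, 3, 1, 4, 1, 3, 1, 0, 0, 2, 0, 5, 0, 2, 0, 5, 2, 0, 2, 5, 1, 4, 3, 1, 3]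
def rw2030 : List ℕ := [1, 4, 0, 0, 2, 0, 0, 2, 5, 3, 1, 1, 3, 1]
def rw2031 : List ℕ := [1, 1, 3, 4, 1, 2, 1, 1, 1, 0, 0, 0, 0, 3, 0, 5, 2, 0, 0, 0, 4, 2, 1, 3, 5, 1]
def rw2032 : List ℕ := [5, 1, 1, 2, 0, 0, 4, 0, 5, 3, 3, 5, 3, 4, 4, 3, 5, 5, 2, 4, 2, 2, 4, 1]
def rw2033 : List ℕ := [0, 0, 4, 3, 3, 4, 1, 5, 2, 2, 5, 1, 1, 5, 2, 2, 5, 1, 1, 0, 0, 0, 4, 3, 3, 4]
def rw2034 : List ℕ := [0, 2, 5, 5, 2, 5, 5, 1, 2, 0, 4, 3, 1, 2, 5, 1, 3, 0, 4, 4, 3, 4, 4, 3, 1, 0]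
def rw2035 : List ℕ := [5, 1, 1, 2, 0, 0, 4, 4, 3, 5, 3, 3, 5, 0, 4, 3, 5, 1, 4, 2, 2, 4, 2, 5]
def rw2036 : List ℕ := [2, 5, 3, 4, 3, 4, 1, 1, 1, 4, 3, 4, 1, 1, 1, 2, 0, 0, 0, 5, 2, 5, 0, 0, 0, 5]
def rw2037 : List ℕ := [7, 7, 2, 0, 6, 6, 4, 3, 4, 4, 5, 5, 5, 2, 5, 7, 7, 1, 3, 6, 6, 3, 3, 1, 1, 4, 0, 0, 2, 2]
def rw2038 : List ℕ := [0, 6, 6, 3, 5, 1, 4, 2, 7, 7, 1, 7, 2, 6, 3, 1, 4, 1, 1, 0, 0, 0, 5, 0, 2, 7, 3, 6]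
def rw2039 : List ℕ := [2, 7, 2, 7, 2, 7, 4, 5, 5, 6, 3, 6, 3, 6, 3, 6, 5, 1, 5, 2, 5, 1, 4, 0, 4, 3, 4, 0, 4, 7]
def rw2040 : List ℕ := [6, 6, 1, 3, 1, 0, 0, 2, 0, 7, 7, 2, 7, 2, 0, 6, 2, 7, 4, 1, 5, 6, 3, 7, 1, 3, 6, 3]
def rw2041 : List ℕ := [6, 3, 7, 1, 3, 6, 3, 6, 6, 3, 1, 0, 0, 2, 7, 7, 2, 7, 2, 0, 6, 2, 7, 4, 2, 1, 3, 5]
def rw2042 : List ℕ := [7, 2, 0, 6, 2, 7, 4, 1, 3, 1, 6, 0, 2, 0, 5, 6, 3, 7, 1, 3, 6, 3, 6, 6, 7, 7, 7, 2]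
def rw2043 : List ℕ := [7, 3, 5, 3, 5, 3, 1, 4, 1, 6, 3, 3, 3, 1, 2, 0, 2, 2, 2, 7, 0, 5, 0, 2, 4, 2, 4, 2, 6, 3]
def rw2044 : List ℕ := [2, 2, 7, 4, 2, 4, 2, 4, 1, 4, 1, 6, 3, 3, 2, 7, 0, 5, 0, 5, 3, 5, 3, 5, 6, 3, 3, 1, 2, 0]
def rw2045 : List ℕ := [7, 0, 2, 6, 3, 3, 5, 3, 1, 2, 0, 2, 4, 2, 2, 7, 3, 1, 6, 3, 3, 5, 3, 4, 2, 2]
def rw2046 : List ℕ := [4, 1, 4, 2, 0, 2, 4, 2, 6, 3, 1, 2, 7, 3, 5, 3, 1, 3, 5, 0, 5, 6, 3, 3, 1, 0, 0, 2, 2, 7]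
def rw2047 : List ℕ := [2, 7, 4, 3, 5, 6, 3, 0, 3, 1, 7, 0, 2, 4, 2, 1, 3, 1, 2, 0, 2, 0, 3, 5, 3, 1, 6, 0, 2, 1]
def rw2048 : List ℕ := [0, 5, 1, 4, 1, 2, 7, 3, 1, 6, 0, 2, 5, 3, 1, 0, 0, 2, 4, 3, 1, 7, 0, 2, 6, 3]
def rw2049 : List ℕ := [0, 5, 7, 4, 3, 4, 7, 2, 7, 3, 6, 5, 2, 5, 6, 4, 1, 4, 1, 6, 5, 1, 6, 0, 4, 7, 0, 5]
def rw2050 : List ℕ := [3, 3, 0, 5, 5, 4, 1, 2, 2, 0, 7, 3, 1, 6, 2, 1, 5, 3, 1, 4, 0, 2, 4, 0, 3, 7, 0, 2, 6, 1]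
def rw2051 : List ℕ := [1, 4, 3, 5, 0, 3, 3, 1, 2, 1, 4, 0, 3, 1, 1, 2, 0, 0, 2, 1, 5, 0, 3, 0, 2, 2]
def rw2052 : List ℕ := [4, 0, 0, 2, 1, 5, 1, 4, 0, 3, 1, 1, 5, 0, 3, 0, 3, 1, 1, 0, 0, 0, 2, 1, 2, 1]
def rw2053 : List ℕ := [2, 1, 3, 4, 1, 2, 2, 1, 1, 4, 0, 0, 3, 3, 0, 5, 2, 0, 3, 0, 4, 2, 5, 3, 5, 1]
def rw2054 : List ℕ := [2, 2, 1, 2, 5, 3, 0, 3, 3, 1, 3, 0, 3, 3, 1, 4, 0, 2, 2, 1, 2, 0]
def rw2055 : List ℕ := [2, 2, 4, 4, 4, 5, 5, 5, 5, 3, 3, 5, 3, 1, 5, 1, 1, 4, 0, 0, 4, 0, 2, 4]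
def rw2056 : List ℕ := [5, 0, 2, 0, 5, 1, 3, 1, 4, 0, 2, 0, 4, 1, 3, 1, 4, 1, 3, 1, 4, 5, 5, 0, 2, 0]
def rw2057 : List ℕ := [4, 4, 2, 2, 5, 0, 4, 4, 2, 2, 5, 1, 4, 3, 3, 5, 5, 1, 4, 3, 3, 5, 5, 1, 0, 0]
def rw2058 : List ℕ := [5, 2, 4, 2, 4, 5, 5, 3, 5, 3, 4, 3, 5, 3, 5, 3, 3, 3, 4, 2, 2, 2, 4, 2, 4, 2]
def rw2059 : List ℕ := [0, 4, 3, 3, 4, 0, 0, 4, 3, 3, 4, 1, 5, 2, 2, 5, 1, 1, 5, 2, 2, 5, 1, 1, 0, 0]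
def rw2060 : List ℕ := [2, 2, 5, 3, 3, 3, 1, 3, 0, 3, 1, 4, 0, 2, 1, 2, 0, 2]
def rw2061 : List ℕ := [0, 3, 0, 5, 2, 0, 0, 0, 4, 2, 3, 3, 5, 1, 1, 1, 3, 4, 1, 2, 1, 1, 1, 2, 0, 0]
def rw2062 : List ℕ := [0, 0, 4, 1, 1, 3, 0, 3, 0, 5, 2, 3, 3, 4, 1, 2, 1, 2, 0, 0, 5, 1, 1, 1, 2, 0]
def rw2063 : List ℕ := [3, 0, 4, 2, 3, 3, 5, 1, 2, 1, 3, 4, 1, 2, 2, 1, 1, 2, 0, 0, 3, 3, 0, 5, 2, 0]
def rw2064 : List ℕ := [2, 1, 2, 0, 2, 2, 1, 1, 1, 4, 0, 0, 0, 3, 3, 1, 3, 0, 3, 3, 0, 2, 5, 3, 1, 2]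
def rw2065 : List ℕ := [3, 0, 5, 2, 5, 3, 4, 1, 2, 1, 2, 0, 0, 5, 1, 1, 1, 4, 0, 0, 0, 4, 1, 1, 3, 0]
def rw2066 : List ℕ := [3, 5, 3, 3, 0, 3, 4, 4, 3, 5, 2, 5, 5, 2, 1, 2, 2, 4, 2, 2, 1, 4, 0, 3]
def rw2067 : List ℕ := [0, 5, 1, 2, 0, 0, 4, 2, 1, 3, 5, 1, 1, 3, 0, 4, 1, 2, 2, 1, 1, 0, 0, 0, 3, 3]
def rw2068 : List ℕ := [4, 0, 4, 0, 4, 0, 4, 0, 4, 3, 5, 1, 5, 1, 5, 1, 5, 1, 5, 1, 2, 0]
def rw2069 : List ℕ := [2, 4, 1, 5, 1, 1, 0, 0, 0, 4, 0, 5, 3, 3, 5, 3, 4, 4, 1, 5, 5, 2, 4, 2]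
def rw2070 : List ℕ := [3, 1, 1, 5, 0, 3, 3, 2, 1, 4, 0, 0, 2, 1, 5, 3, 1, 1, 1, 2, 0, 0, 0, 2, 4, 0]
def rw2071 : List ℕ := [0, 0, 2, 1, 5, 0, 3, 3, 3, 1, 1, 4, 5, 5, 0, 0, 2, 2, 2, 1, 4, 0, 3, 1, 1, 4]
def rw2072 : List ℕ := [0, 3, 0, 5, 2, 1, 3, 4, 1, 2, 1, 2, 0, 0, 5, 1, 1, 1, 0, 0, 0, 0, 4, 1, 1, 3]
def rw2073 : List ℕ := [1, 3, 3, 0, 5, 2, 1, 3, 4, 1, 2, 2, 0, 3, 0, 5, 1, 1, 1, 0, 0, 0, 0, 4, 1, 2]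
def rw2074 : List ℕ := [3, 1, 4, 0, 2, 2, 1, 2, 0, 2, 2, 1, 2, 5, 3, 0, 3, 3, 1, 3, 0, 3]
def rw2075 : List ℕ := [3, 0, 2, 2, 1, 4, 3, 1, 1, 1, 4, 0, 0, 0, 2, 5, 0, 3, 3, 1, 2, 1, 4, 5, 5, 0]
def rw2076 : List ℕ := [1, 1, 1, 4, 0, 0, 0, 2, 4, 0, 0, 0, 2, 5, 0, 3, 5, 2, 1, 4, 3, 1, 1, 1, 5, 3]
def rw2077 : List ℕ := [3, 1, 2, 1, 4, 0, 3, 0, 2, 5, 3, 1, 1, 1, 0, 0, 0, 0, 2, 4, 3, 1, 2, 1, 5, 0]
def rw2078 : List ℕ := [3, 3, 5, 3, 1, 5, 1, 1, 2, 0, 0, 4, 0, 2, 4, 2, 2, 4, 4, 4, 3, 5, 5, 5]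
def rw2079 : List ℕ := [4, 1, 4, 3, 5, 0, 5, 0, 5, 1, 3, 5, 0, 5, 3, 1, 2, 0, 2, 4, 1, 4, 2, 0, 4, 1]
def rw2080 : List ℕ := [4, 0, 5, 0, 5, 3, 4, 1, 4, 1, 5, 1, 4, 1, 4, 1, 1, 1, 2, 0, 0, 0, 5, 0, 5, 0]
def rw2081 : List ℕ := [4, 0, 4, 0, 4, 1, 5, 1, 5, 1, 5, 1, 5, 1, 5, 1, 0, 0, 4, 0, 4, 0]
def rw2082 : List ℕ := [3, 5, 2, 4, 2, 4, 2, 1, 4, 0, 3, 5, 3, 5, 3, 4, 2, 0, 5, 3, 5, 5, 4, 2, 4, 1]
def rw2083 : List ℕ := [4, 4, 1, 5, 5, 3, 5, 3, 5, 5, 3, 5, 3, 0, 2, 4, 2, 4, 4, 2, 4, 2]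
def rw2084 : List ℕ := [1, 2, 0, 0, 3, 3, 0, 5, 2, 0, 3, 0, 4, 2, 3, 3, 5, 1, 2, 1, 3, 4, 1, 2, 2, 1]
def rw2085 : List ℕ := [4, 4, 3, 5, 5, 2, 4, 2, 2, 4, 1, 5, 1, 1, 2, 0, 0, 4, 0, 5, 3, 3, 5, 3]
def rw2086 : List ℕ := [4, 4, 3, 3, 3, 0, 3, 0, 3, 4, 3, 1, 0, 0, 2, 5, 2, 1, 2, 1, 2, 2, 2, 5, 5, 1]
def rw2087 : List ℕ := [0, 2, 5, 0, 3, 3, 3, 1, 1, 2, 0, 0, 2, 2, 2, 1, 4, 3, 1, 2, 1, 5, 3, 4, 0, 3]
def rw2088 : List ℕ := [1, 3, 4, 3, 3, 2, 5, 2, 0, 5, 5, 2, 2, 2, 1, 2, 1, 2, 0, 3, 0, 3, 3, 3, 4, 4]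
def rw2089 : List ℕ := [1, 4, 0, 2, 2, 0, 2, 2, 5, 3, 3, 1, 3, 3]
def rw2090 : List ℕ := [4, 0, 2, 0, 4, 1, 5, 1, 3, 1, 5, 1, 3, 1, 5, 1, 3, 1, 0, 0, 2, 0, 4, 0, 2, 0]
def rw2091 : List ℕ := [4, 2, 2, 4, 4, 2, 2, 4, 4, 5, 5, 5, 3, 3, 5, 5, 3, 3, 5, 5, 3, 3, 4, 2, 2, 4]
def rw2092 : List ℕ := [0, 4, 1, 4, 1, 4, 0, 5, 0, 5]
def rw2093 : List ℕ := [0, 2, 0, 4, 1, 3, 1, 4, 1, 5, 0, 2, 0, 5, 1, 3, 1, 5, 1, 3, 1, 0, 0, 2, 0, 4]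
def rw2094 : List ℕ := [3, 3, 3, 1, 3, 5, 2, 0, 2, 2, 2, 2, 0, 2, 1, 1, 4, 0, 0, 3, 1, 3]
def rw2095 : List ℕ := [1, 2, 1, 5, 3, 1, 1, 4, 0, 0, 2, 4, 0, 3, 0, 2, 5, 0, 3, 3, 5, 2, 2, 1, 4, 3]
def rw2096 : List ℕ := [0, 0, 2, 5, 0, 3, 1, 2, 1, 4, 3, 1, 1, 1, 5, 3, 1, 1, 1, 0, 0, 0, 0, 2, 4, 0]
def rw2097 : List ℕ := [2, 1, 3, 4, 2, 4, 1, 4, 2, 4, 2, 0, 3, 1, 0, 0, 2, 1, 3, 5, 3, 5, 0, 5, 3, 5]
def rw2098 : List ℕ := [0, 5, 5, 3, 4, 4, 1, 4, 1, 4, 3, 5, 0, 5, 3, 1, 2, 0, 2, 4, 1, 4, 2, 5, 0, 5]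
def rw2099 : List ℕ := [5, 3, 4, 4, 1, 4, 1, 4, 3, 5, 0, 5, 3, 1, 2, 0, 2, 4, 1, 4, 2, 5, 0, 5, 0, 5]
def rw2100 : List ℕ := [5, 1, 2, 0, 4, 4, 2, 2, 5, 0, 4, 4, 2, 2, 5, 3, 4, 3, 3, 5, 5, 1, 4, 3, 3, 5]
def rw2101 : List ℕ := [2, 0, 5, 6, 4, 4, 1, 4, 2, 2, 4, 1, 4, 0, 5, 3, 3, 5, 0, 5, 5, 7, 4, 1, 3, 5, 6, 5, 7, 4]
def rw2102 : List ℕ := [4, 4, 4, 1, 5, 5, 5, 3, 3, 5, 3, 1, 5, 1, 1, 0, 0, 0, 4, 0, 2, 4, 2, 2]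
def rw2103 : List ℕ := [0, 4, 4, 2, 2, 5, 5, 4, 3, 3, 5, 5, 1, 4, 3, 3, 5, 5, 1, 4, 0, 4, 4, 2, 2, 5]
def rw2104 : List ℕ := [0, 4, 0, 2, 4, 2, 2, 4, 4, 4, 1, 5, 5, 5, 3, 3, 5, 3, 1, 5, 1, 1, 0, 0]
def rw2105 : List ℕ := [3, 4, 4, 1, 5, 5, 2, 4, 2, 2, 4, 1, 5, 1, 1, 0, 0, 0, 4, 0, 5, 3, 3, 5]
def rw2106 : List ℕ := [4, 0, 4, 4, 0, 0, 4, 0, 4, 4, 1, 5, 5, 1, 5, 1, 1, 5, 5, 1, 5, 1, 1, 0, 0, 0]
def rw2107 : List ℕ := [2, 2, 4, 2, 0, 4, 1, 5, 1, 3, 5, 3, 3, 5, 5, 5, 1, 1, 0, 0, 0, 4, 4, 4]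
def rw2108 : List ℕ := [3, 1, 6, 3, 3, 5, 5, 1, 1, 0, 0, 0, 4, 4, 2, 2, 7, 0, 2, 6, 4, 4, 4, 1, 5, 5, 5, 7]
def rw2109 : List ℕ := [3, 1, 6, 3, 3, 5, 5, 1, 1, 4, 0, 0, 4, 4, 2, 2, 7, 0, 2, 6, 4, 4, 4, 5, 5, 5, 5, 7]
def rw2110 : List ℕ := [3, 3, 5, 5, 1, 1, 4, 0, 0, 4, 4, 2, 2, 7, 0, 2, 6, 4, 4, 4, 5, 5, 5, 5, 7, 3, 1, 6]
def rw2111 : List ℕ := [0, 3, 3, 5, 2, 2, 1, 4, 3, 1, 2, 1, 5, 3, 1, 1, 4, 0, 0, 2, 4, 0, 3, 0, 2, 5]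
def rw2112 : List ℕ := [2, 6, 3, 0, 2, 2, 7, 4, 1, 4, 1, 3, 1, 0, 0, 2, 0, 5, 0, 5, 6, 3, 3, 1, 2, 7, 3, 5, 1, 4]
def rw2113 : List ℕ := [3, 3, 5, 3, 1, 6, 0, 2, 4, 2, 2, 7, 3, 1, 6, 3, 3, 5, 7, 4, 2, 2, 7, 0, 2, 6]
def rw2114 : List ℕ := [4, 1, 3, 5, 2, 4, 2, 4, 2, 1, 0, 0, 3, 5, 3, 5, 3, 4, 2, 0, 5, 3, 5, 1, 4, 2]
def rw2115 : List ℕ := [3, 1, 2, 5, 5, 2, 1, 2, 2, 4, 2, 2, 1, 0, 0, 3, 3, 5, 3, 3, 0, 3, 4, 4]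
def rw2116 : List ℕ := [0, 3, 0, 4, 1, 2, 1, 2, 1, 3, 0, 3, 0, 5, 1, 2, 1, 3, 4, 1, 1, 0, 0, 0, 5, 2]
def rw2117 : List ℕ := [1, 4, 2, 0, 5, 5, 5, 4, 4, 1, 3, 5, 0, 5, 3, 4, 1, 4, 1, 4, 0, 5, 0, 5, 2, 4]
def rw2118 : List ℕ := [0, 2, 2, 2, 1, 3, 3, 3, 1, 3, 0, 3, 1, 0, 0, 2, 1, 2]
def rw2119 : List ℕ := [2, 1, 2, 5, 3, 0, 3, 3, 1, 3, 0, 3, 3, 1, 4, 0, 2, 2, 1, 2, 0, 2]
def rw2120 : List ℕ := [3, 1, 2, 1, 5, 3, 4, 0, 3, 0, 2, 5, 0, 3, 3, 3, 1, 1, 2, 0, 0, 2, 2, 2, 1, 4]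
def rw2121 : List ℕ := [5, 3, 1, 1, 4, 0, 0, 2, 4, 0, 3, 0, 2, 5, 0, 3, 3, 5, 2, 2, 1, 4, 3, 1, 2, 1]
def rw2122 : List ℕ := [1, 4, 4, 0, 5, 0, 5, 0, 0, 4, 1, 4]
def rw2123 : List ℕ := [1, 4, 1, 4, 1, 4, 1, 0, 0, 5, 0, 5, 0, 5, 0, 5, 0, 5, 1, 4, 1, 4]
def rw2124 : List ℕ := [0, 0, 2, 2, 2, 1, 4, 5, 5, 0, 3, 3, 3, 1, 1, 4, 3, 1, 1, 1, 4, 0, 0, 0, 2, 5]
def rw2125 : List ℕ := [5, 7, 3, 6, 4, 3, 5, 0, 5, 5, 3, 0, 5, 2, 7, 3, 1, 2, 0, 2, 6, 3, 4, 1, 2, 4, 4, 1, 4, 2]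
def rw2126 : List ℕ := [6, 4, 3, 4, 4, 5, 5, 5, 2, 5, 7, 7, 1, 3, 6, 6, 3, 3, 1, 1, 4, 0, 0, 2, 2, 7, 7, 2, 0, 6]
def rw2127 : List ℕ := [5, 1, 4, 0, 4, 0, 4, 0, 4, 0, 4, 0, 4, 5, 5, 1, 5, 1, 5, 1, 5, 1]
def rw2128 : List ℕ := [4, 1, 3, 4, 1, 0, 0, 5, 2, 0, 5, 2, 0, 5, 2, 0, 5, 2, 1, 3, 4, 1, 3, 4, 1, 3]
def rw2129 : List ℕ := [0, 0, 4, 1, 2, 1, 2, 0, 0, 5, 1, 2, 3, 3, 0, 4, 1, 1, 3, 0, 3, 0, 5, 1, 1, 2]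
def rw2130 : List ℕ := [5, 5, 3, 3, 4, 1, 5, 5, 3, 3, 4, 1, 0, 0, 5, 2, 2, 4, 4, 0, 5, 2, 2, 4, 4, 1]
def rw2131 : List ℕ := [2, 6, 5, 2, 5, 2, 0, 5, 1, 4, 1, 3, 4, 3, 4, 7, 3, 5, 6, 3, 3, 1, 0, 0, 2, 2, 7, 4]
def rw2132 : List ℕ := [4, 1, 6, 3, 0, 6, 3, 4, 1, 0, 0, 5, 2, 7, 1, 2, 7, 0, 5, 3, 5, 6, 6, 3, 1, 2, 7, 7, 4, 2]
def rw2133 : List ℕ := [4, 3, 1, 2, 5, 5, 2, 1, 2, 2, 4, 2, 2, 1, 0, 0, 3, 3, 5, 3, 3, 0, 3, 4]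
def rw2134 : List ℕ := [4, 0, 3, 1, 0, 0, 2, 1, 5, 5, 2, 5, 5, 1, 2, 0, 4, 1, 5, 1, 3, 0, 4, 4, 3, 4]
def rw2135 : List ℕ := [1, 4, 0, 2, 5, 0, 2, 5, 0, 2, 5, 0, 2, 5, 5, 4, 3, 1, 4, 3, 1, 4, 3, 1, 4, 3]
def rw2136 : List ℕ := [4, 4, 1, 3, 4, 3, 1, 2, 5, 2, 0, 5, 5, 2, 2, 2, 1, 2, 1, 0, 0, 3, 0, 3, 3, 3]
def rw2137 : List ℕ := [0, 3, 3, 3, 1, 1, 4, 3, 1, 1, 1, 0, 0, 0, 0, 2, 5, 0, 0, 2, 2, 2, 1, 4, 1, 5]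
def rw2138 : List ℕ := [4, 2, 4, 2, 2, 3, 3, 3, 5, 3, 5, 0, 5, 3, 5, 3, 3, 1, 2, 0, 2, 2, 4, 2, 4, 1]
def rw2139 : List ℕ := [0, 3, 0, 3, 1, 3, 3, 0, 3, 0, 2, 3, 3, 1, 2, 1, 2, 2, 0, 2, 1, 2, 1, 1, 2, 0]
def rw2140 : List ℕ := [3, 1, 1, 1, 0, 0, 0, 0, 2, 4, 0, 0, 0, 2, 5, 0, 3, 1, 2, 1, 4, 3, 1, 1, 1, 5]
def rw2141 : List ℕ := [1, 1, 2, 0, 0, 0, 5, 2, 5, 0, 0, 0, 5, 2, 5, 3, 4, 3, 4, 1, 1, 1, 4, 3, 4, 1]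
def rw2142 : List ℕ := [4, 0, 0, 2, 1, 2, 1, 4, 0, 0, 2, 1, 5, 5, 4, 0, 3, 1, 1, 5, 0, 3, 0, 3, 1, 1]
def rw2143 : List ℕ := [5, 0, 4, 4, 5, 5, 5, 1, 4, 0, 0, 4, 4, 0, 5, 1, 1, 4, 0, 0, 4, 1, 5, 5, 1, 1]
def rw2144 : List ℕ := [3, 3, 1, 1, 4, 3, 1, 1, 1, 2, 0, 0, 0, 2, 5, 0, 0, 2, 2, 2, 1, 4, 3, 5, 0, 3]
def rw2145 : List ℕ := [3, 5, 5, 4, 2, 2, 4, 1, 1, 4, 2, 2, 4, 1, 1, 4, 0, 0, 5, 3, 3, 5, 0, 0, 5, 3]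
def rw2146 : List ℕ := [4, 4, 0, 3, 1, 0, 0, 2, 1, 5, 5, 2, 5, 5, 1, 2, 0, 4, 1, 5, 1, 3, 0, 4, 4, 3]
def rw2147 : List ℕ := [0, 3, 1, 1, 0, 0, 0, 2, 1, 5, 0, 3, 3, 3, 1, 1, 4, 1, 5, 0, 0, 2, 2, 2, 1, 4]
def rw2148 : List ℕ := [4, 1, 2, 1, 2, 5, 3, 0, 3, 0, 5, 1, 2, 1, 3, 4, 1, 1, 4, 0, 0, 5, 2, 0, 3, 0]
def rw2149 : List ℕ := [2, 7, 3, 1, 6, 5, 7, 0, 2, 6, 3, 4, 1, 4, 1, 3, 5, 0, 3, 1, 4, 0, 2, 1, 4, 2, 0, 5, 0, 5]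
def rw2150 : List ℕ := [5, 3, 4, 3, 5, 3, 5, 3, 3, 3, 2, 2, 2, 2, 4, 2, 4, 2, 5, 2, 4, 2, 4, 3, 5, 3]
def rw2151 : List ℕ := [0, 5, 1, 3, 1, 0, 0, 2, 0, 4, 1, 4, 2, 4, 1, 4, 1, 3, 1, 2, 0, 5, 0, 5, 3, 5]
def rw2152 : List ℕ := [3, 1, 3, 3, 1, 4, 0, 2, 2, 0, 2, 5, 0, 5, 3, 5, 0, 5, 5, 4, 1, 4, 2, 4, 1, 4]
def rw2153 : List ℕ := [5, 0, 5, 0, 5, 1, 3, 5, 0, 5, 3, 1, 4, 0, 2, 4, 1, 4, 2, 0, 4, 1, 4, 1, 4, 5]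
def rw2154 : List ℕ := [4, 1, 4, 1, 2, 0, 5, 0, 5, 5, 0, 5, 0, 5, 5, 3, 4, 4, 1, 4, 1, 4]
def rw2155 : List ℕ := [0, 2, 4, 2, 2, 4, 4, 4, 1, 5, 5, 5, 3, 3, 5, 3, 1, 5, 1, 1, 0, 0, 0, 4]
def rw2156 : List ℕ := [3, 0, 2, 1, 1, 1, 1, 2, 2, 2, 2, 2, 0, 3, 3, 3, 3, 3, 0, 0, 0, 0]
def rw2157 : List ℕ := [1, 1, 4, 0, 0, 0, 5, 2, 5, 0, 0, 0, 5, 2, 5, 5, 4, 3, 4, 1, 1, 1, 4, 3, 4, 1]
def rw2158 : List ℕ := [2, 5, 5, 2, 0, 3, 4, 3, 5, 2, 1, 3, 4, 4, 3, 4, 4, 0, 3, 1, 2, 0, 2, 1, 5, 5]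
def rw2159 : List ℕ := [5, 2, 2, 2, 1, 2, 1, 4, 0, 3, 0, 3, 3, 3, 4, 4, 1, 3, 4, 3, 5, 2, 5, 2, 0, 5]
def rw2160 : List ℕ := [2, 5, 3, 1, 1, 3, 1, 1, 4, 0, 0, 2, 0, 0]
def rw2161 : List ℕ := [3, 0, 2, 5, 3, 1, 2, 1, 2, 0, 2, 2, 1, 1, 4, 0, 0, 3, 3, 1, 3, 0]
def rw2162 : List ℕ := [0, 4, 0, 4, 5, 5, 1, 5, 1, 5, 1, 5, 1, 5, 1, 4, 0, 4, 0, 4, 0, 4]
def rw2163 : List ℕ := [5, 2, 5, 3, 4, 2, 0, 0, 3, 3, 0, 5, 1, 1, 1, 4, 0, 0, 0, 4, 1, 2, 2, 1, 1, 3]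
def rw2164 : List ℕ := [2, 1, 3, 4, 1, 1, 2, 0, 0, 5, 2, 0, 3, 0, 4, 1, 2, 1, 2, 3, 3, 0, 3, 0, 5, 1]
def rw2165 : List ℕ := [4, 1, 2, 1, 1, 1, 0, 0, 0, 0, 3, 0, 5, 2, 0, 0, 0, 4, 2, 1, 3, 5, 1, 1, 1, 3]
def rw2166 : List ℕ := [2, 1, 1, 1, 2, 0, 0, 0, 3, 0, 5, 2, 0, 0, 0, 4, 2, 3, 3, 5, 1, 1, 1, 3, 4, 1]
def rw2167 : List ℕ := [2, 4, 2, 4, 4, 4, 1, 5, 5, 5, 3, 5, 3, 5, 2, 5, 3, 5, 3, 0, 2, 4, 2, 4, 3, 4]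
def rw2168 : List ℕ := [2, 2, 7, 5, 2, 5, 2, 5, 7, 3, 5, 3, 5, 7, 7, 6, 4, 2, 4, 2, 6, 4, 3, 4, 3, 4, 6, 3, 3, 6]
def rw2169 : List ℕ := [7, 2, 7, 2, 0, 6, 2, 7, 4, 2, 1, 3, 5, 6, 3, 7, 1, 3, 6, 3, 6, 6, 3, 1, 0, 0, 2, 7]
def rw2170 : List ℕ := [7, 2, 7, 2, 5, 0, 5, 6, 3, 6, 7, 7, 2, 7, 4, 1, 4, 3, 6, 3, 6, 0, 3, 3, 1, 6, 0, 2, 2, 1]
def rw2171 : List ℕ := [5, 2, 5, 7, 7, 1, 3, 6, 6, 7, 7, 7, 2, 0, 6, 6, 4, 3, 4, 4, 0, 3, 3, 1, 6, 0, 2, 2, 1, 5]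
def rw2172 : List ℕ := [1, 7, 3, 1, 2, 7, 3, 5, 2, 7, 2, 7, 3, 3, 1, 0, 0, 2, 2, 6, 3, 6, 3, 4, 2, 6, 3, 0, 2, 6]
def rw2173 : List ℕ := [3, 7, 3, 1, 2, 7, 3, 5, 2, 7, 2, 7, 3, 3, 1, 2, 0, 2, 2, 6, 3, 6, 3, 4, 2, 6, 3, 0, 2, 6]
def rw2174 : List ℕ := [5, 7, 3, 1, 2, 7, 3, 5, 2, 7, 2, 7, 3, 3, 1, 4, 0, 2, 2, 6, 3, 6, 3, 4, 2, 6, 3, 0, 2, 6]
def rw2175 : List ℕ := [2, 7, 1, 7, 1, 1, 6, 0, 0, 6, 0, 6, 3, 6, 0, 6, 0, 3, 3, 1, 3, 7, 2, 0, 2, 2, 1, 7, 1, 7]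
def rw2176 : List ℕ := [3, 6, 1, 7, 2, 7, 1, 7, 2, 7, 1, 0, 0, 6, 3, 6, 0, 6]
def rw2177 : List ℕ := [7, 4, 1, 4, 3, 6, 3, 6, 0, 3, 3, 1, 6, 0, 2, 2, 1, 7, 2, 7, 2, 5, 0, 5, 6, 3, 6, 7, 7, 2]
def rw2178 : List ℕ := [6, 3, 6, 3, 4, 0, 0, 7, 2, 7, 1, 1, 2, 0, 0, 6, 3, 6, 1, 1, 5, 2, 7, 2, 7, 4, 3, 3, 2, 5]
def rw2179 : List ℕ := [2, 5, 5, 2, 0, 3, 4, 7, 5, 2, 1, 3, 4, 4, 3, 4, 4, 0, 3, 1, 6, 0, 2, 1, 5, 5]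
def rw2180 : List ℕ := [3, 4, 0, 3, 4, 7, 3, 6, 5, 2, 1, 5, 2, 1, 2, 2, 2, 5, 7, 3, 1, 2, 0, 2, 6, 4, 3, 3, 3, 0]
def rw2181 : List ℕ := [0, 3, 4, 3, 1, 4, 0, 2, 5, 2, 1, 2, 1, 2, 2, 2, 5, 5, 5, 4, 4, 3, 3, 3, 0, 3]
def rw2182 : List ℕ := [1, 3, 5, 0, 5, 3, 1, 1, 2, 0, 0, 2, 4, 1, 4, 2, 0, 0, 5, 0, 5, 3, 4, 1, 4, 1]
def rw2183 : List ℕ := [0, 5, 3, 1, 4, 0, 2, 4, 1, 4, 2, 0, 4, 1, 4, 1, 4, 5, 5, 0, 5, 0, 5, 1, 3, 5]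
def rw2184 : List ℕ := [4, 0, 5, 0, 5, 5, 4, 1, 4, 1, 5, 1, 4, 1, 4, 1, 1, 1, 4, 0, 0, 0, 5, 0, 5, 0]
def rw2185 : List ℕ := [2, 2, 4, 4, 0, 5, 2, 2, 4, 4, 1, 5, 5, 3, 3, 4, 1, 5, 5, 3, 3, 4, 1, 0, 0, 5]
def rw2186 : List ℕ := [2, 7, 2, 3, 3, 6, 3, 6, 2, 0, 7, 2, 7, 1, 2, 1, 2, 0, 3, 0, 6, 3, 6, 1, 3, 7]
def rw2187 : List ℕ := [2, 1, 5, 3, 4, 0, 3, 1, 1, 5, 0, 3, 0, 3, 1, 1, 2, 0, 0, 2, 1, 2, 1, 4, 0, 0]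
def rw2188 : List ℕ := [0, 2, 5, 3, 4, 3, 1, 2, 1, 5, 0, 3, 0, 3, 1, 1, 2, 0, 0, 2, 1, 2, 1, 4, 0, 3]
def rw2189 : List ℕ := [5, 1, 1, 1, 2, 0, 0, 0, 4, 1, 1, 3, 0, 3, 0, 5, 2, 3, 3, 4, 1, 2, 1, 2, 0, 0]
def rw2190 : List ℕ := [5, 1, 1, 1, 0, 0, 0, 0, 4, 1, 1, 3, 0, 3, 0, 5, 2, 1, 3, 4, 1, 2, 1, 2, 0, 0]
def rw2191 : List ℕ := [1, 1, 3, 3, 3, 0, 5, 1, 2, 1, 3, 0, 4, 1, 2, 2, 2, 0, 0, 5, 1, 1, 0, 0, 0, 4]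
def rw2192 : List ℕ := [1, 2, 1, 1, 1, 2, 0, 0, 0, 3, 0, 5, 1, 1, 3, 0, 4, 2, 3, 3, 5, 1, 2, 0, 0, 4]
def rw2193 : List ℕ := [3, 4, 1, 2, 1, 1, 1, 0, 0, 0, 0, 3, 0, 5, 2, 0, 0, 0, 4, 2, 1, 3, 5, 1, 1, 1]
def rw2194 : List ℕ := [3, 1, 6, 2, 1, 5, 3, 1, 4, 2, 1, 3, 5, 0, 2, 4, 0, 3, 7, 0, 2, 6, 2, 1, 1, 0, 0, 0, 3, 7]
def rw2195 : List ℕ := [6, 2, 0, 7, 0, 2, 6, 2, 1, 3, 7, 3, 1, 6, 1, 3, 7, 0, 2, 6, 1, 3, 1, 0, 0, 2, 0, 7, 3, 1]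
def rw2196 : List ℕ := [2, 6, 2, 3, 3, 7, 3, 1, 6, 1, 3, 7, 0, 2, 6, 1, 3, 1, 2, 0, 2, 0, 7, 3, 1, 6, 2, 0, 7, 0]
def rw2197 : List ℕ := [0, 2, 4, 3, 1, 1, 1, 0, 0, 0, 0, 2, 5, 3, 1, 1, 2, 2, 1, 4, 1, 5, 0, 3, 3, 0]
def rw2198 : List ℕ := [0, 3, 0, 3, 1, 1, 4, 1, 5, 0, 0, 2, 1, 2, 1, 4, 3, 1, 1, 1, 0, 0, 0, 0, 2, 5]
def rw2199 : List ℕ := [0, 2, 0, 2, 4, 2, 4, 1, 4, 2, 4, 2, 5, 3, 5, 3, 5, 0, 5, 3, 5, 3, 1, 3, 1, 4]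
def rw2200 : List ℕ := [3, 5, 3, 1, 3, 5, 0, 5, 6, 3, 3, 1, 0, 0, 2, 2, 7, 4, 1, 4, 2, 0, 2, 4, 2, 6, 3, 1, 2, 7]
def rw2201 : List ℕ := [1, 6, 3, 3, 3, 1, 2, 0, 2, 2, 2, 7, 0, 5, 0, 2, 4, 2, 4, 2, 6, 3, 7, 3, 5, 3, 5, 3, 1, 4]
def rw2202 : List ℕ := [2, 7, 2, 1, 3, 6, 3, 6, 0, 6, 3, 6, 1, 3, 1, 1, 0, 0, 0, 2, 0, 7, 2, 7, 1, 7]
def rw2203 : List ℕ := [1, 2, 0, 2, 7, 7, 2, 7, 2, 0, 6, 2, 7, 4, 2, 3, 3, 5, 6, 3, 7, 1, 3, 6, 3, 6, 6, 3]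
def rw2204 : List ℕ := [7, 1, 5, 6, 3, 1, 3, 1, 4, 0, 2, 0, 2, 7, 4, 0, 6, 3, 6, 3, 1, 7, 4, 5, 5, 6, 0, 2, 7, 2]
def rw2205 : List ℕ := [0, 2, 7, 7, 2, 7, 2, 0, 6, 2, 7, 4, 2, 5, 3, 5, 6, 3, 7, 1, 3, 6, 3, 6, 6, 3, 1, 4]
def rw2206 : List ℕ := [2, 7, 2, 7, 4, 7, 5, 6, 3, 6, 3, 4, 3, 1, 7, 2, 7, 1, 3, 1, 6, 0, 2, 0, 6, 3, 6, 0, 2, 5]
def rw2207 : List ℕ := [5, 2, 0, 5, 2, 7, 7, 6, 3, 4, 1, 3, 4, 3, 4, 7, 0, 5, 3, 1, 6, 0, 2, 4, 1, 6, 5, 2]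
def rw2208 : List ℕ := [6, 3, 7, 5, 0, 6, 3, 6, 6, 3, 4, 5, 5, 2, 7, 7, 2, 7, 1, 4, 6, 2, 7, 4, 1, 4, 0, 5]
def rw2209 : List ℕ := [7, 2, 7, 1, 5, 3, 7, 2, 7, 2, 0, 3, 1, 2, 0, 2, 1, 3, 6, 3, 6, 2, 4, 0, 6, 3, 6, 5, 3, 4]
def rw2210 : List ℕ := [2, 7, 1, 7, 2, 7, 1, 2, 0, 6, 3, 6, 0, 6, 3, 6, 3, 7]
def rw2211 : List ℕ := [5, 1, 3, 6, 5, 2, 2, 7, 3, 3, 4, 7, 2, 0, 4, 7, 2, 0, 4, 7, 3, 1, 6, 0, 2, 6, 5, 1, 3, 6]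
def rw2212 : List ℕ := [7, 4, 7, 4, 7, 4, 7, 5, 6, 5, 6, 5, 6, 5, 6, 5, 4, 4]
def rw2213 : List ℕ := [2, 7, 4, 4, 1, 5, 5, 6, 3, 7, 5, 6, 5, 2, 5, 2, 5, 1, 0, 0, 4, 3, 4, 3, 4, 7, 4, 6]
def rw2214 : List ℕ := [2, 7, 4, 4, 3, 5, 5, 6, 3, 7, 5, 6, 5, 2, 5, 2, 5, 1, 2, 0, 4, 3, 4, 3, 4, 7, 4, 6]
def rw2215 : List ℕ := [6, 5, 2, 5, 2, 5, 1, 6, 0, 4, 3, 4, 3, 4, 7, 4, 6, 2, 7, 4, 4, 7, 5, 5, 6, 3, 7, 5]
def rw2216 : List ℕ := [4, 3, 1, 2, 0, 2, 5, 1, 3, 4, 7, 4, 0, 5, 6, 3, 7, 3, 6, 2, 7, 4, 1, 5, 6, 5, 2, 0]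
def rw2217 : List ℕ := [3, 1, 5, 5, 0, 3, 1, 6, 0, 2, 1, 4, 4, 0, 2, 4, 0, 7, 3, 5, 6, 3, 7, 2, 7, 4, 2, 6, 1, 5]
def rw2218 : List ℕ := [3, 0, 0, 2, 4, 3, 1, 1, 1, 6, 0, 0, 0, 2, 5, 3, 1, 1, 2, 2, 1, 4, 7, 5, 0, 3]
def rw2219 : List ℕ := [3, 0, 0, 2, 4, 3, 1, 1, 1, 0, 0, 0, 0, 2, 5, 3, 1, 1, 2, 2, 1, 4, 1, 5, 0, 3]
def rw2220 : List ℕ := [0, 0, 2, 2, 2, 1, 4, 1, 5, 0, 3, 3, 3, 1, 1, 4, 3, 1, 1, 1, 0, 0, 0, 0, 2, 5]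
def rw2221 : List ℕ := [0, 7, 3, 5, 6, 3, 3, 2, 7, 4, 2, 6, 1, 5, 3, 1, 5, 5, 0, 3, 1, 2, 0, 2, 1, 4, 4, 0, 2, 4]
def rw2222 : List ℕ := [3, 3, 1, 1, 4, 3, 1, 1, 1, 6, 0, 0, 0, 2, 5, 0, 0, 2, 2, 2, 1, 4, 7, 5, 0, 3]
def rw2223 : List ℕ := [2, 1, 2, 1, 4, 3, 1, 1, 1, 6, 0, 0, 0, 2, 5, 0, 3, 0, 3, 1, 1, 4, 7, 5, 0, 0]
def rw2224 : List ℕ := [1, 2, 0, 0, 2, 0, 0, 2, 3, 3, 1, 1, 3, 1]
def rw2225 : List ℕ := [3, 0, 3, 1, 1, 6, 0, 0, 2, 1, 2, 1, 4, 0, 0, 2, 1, 5, 7, 4, 0, 3, 1, 1, 5, 0]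
def rw2226 : List ℕ := [2, 4, 3, 1, 2, 0, 2, 5, 3, 5, 3, 5, 2, 0, 5, 3, 5, 3, 4, 2, 4, 1, 3, 4, 2, 4]
def rw2227 : List ℕ := [5, 3, 1, 2, 0, 2, 4, 2, 4, 1, 4, 2, 4, 3, 1, 3, 3, 2, 0, 2, 5, 3, 5, 0, 5, 3]
def rw2228 : List ℕ := [1, 4, 1, 1, 6, 0, 0, 5, 0, 5, 0, 0, 5, 0, 5, 7, 4, 1, 4, 1, 1, 4]
def rw2229 : List ℕ := [2, 0, 3, 5, 3, 5, 0, 5, 3, 5, 3, 5, 2, 4, 2, 4, 1, 4, 2, 4, 2, 1, 3, 1, 4, 0]
def rw2230 : List ℕ := [6, 3, 5, 7, 4, 2, 7, 2, 7, 2, 4, 2, 7, 2, 7, 5, 3, 1, 6, 0, 2, 4, 6, 3, 6, 3, 5, 3, 6, 3]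
def rw2231 : List ℕ := [3, 1, 7, 2, 4, 6, 7, 7, 5, 3, 6, 0, 2, 6, 4, 1, 7, 3, 1, 6, 0, 2, 6, 0, 5, 7]
def rw2232 : List ℕ := [6, 3, 0, 2, 2, 7, 4, 1, 4, 1, 3, 1, 4, 0, 2, 0, 5, 0, 5, 6, 3, 3, 1, 2, 7, 3, 5, 5, 4, 2]
def rw2233 : List ℕ := [6, 3, 3, 3, 1, 7, 4, 5, 5, 6, 0, 2, 2, 2, 7, 0, 2, 4, 2, 1, 3, 1, 4, 0, 2, 0, 3, 5, 3, 1]
def rw2234 : List ℕ := [7, 2, 7, 1, 6, 0, 6, 3, 6, 0, 6, 3, 6, 7, 7, 2, 7, 1]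
def rw2235 : List ℕ := [7, 3, 1, 6, 3, 3, 5, 1, 3, 1, 1, 0, 0, 0, 2, 0, 4, 2, 2, 7, 0, 2, 6, 3, 3, 5, 1, 4, 2, 2]
def rw2236 : List ℕ := [4, 7, 3, 1, 6, 0, 2, 6, 5, 2, 1, 3, 5, 0, 5, 7, 4, 2, 7, 3, 5, 6, 4, 1, 4, 2, 0, 3]
def rw2237 : List ℕ := [4, 1, 4, 2, 7, 4, 2, 3, 3, 5, 6, 3, 5, 0, 5, 0, 3, 4, 7, 3, 1, 2, 0, 2, 6, 5, 2, 1]
def rw2238 : List ℕ := [4, 1, 3, 1, 4, 1, 3, 1, 4, 5, 5, 0, 2, 0, 5, 0, 2, 0, 5, 1, 3, 1, 4, 0, 2, 0]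
def rw2239 : List ℕ := [4, 1, 3, 1, 4, 1, 3, 1, 2, 0, 2, 0, 5, 0, 2, 0, 5, 0, 2, 0, 5, 3, 4, 1, 3, 1]
def rw2240 : List ℕ := [3, 4, 1, 3, 4, 3, 4, 7, 0, 5, 3, 1, 0, 0, 2, 4, 1, 6, 5, 2, 5, 2, 0, 5, 2, 7, 1, 6]
def rw2241 : List ℕ := [0, 2, 1, 2, 7, 4, 2, 0, 5, 7, 4, 1, 3, 5, 6, 3, 0, 3, 1, 7, 1, 3, 1, 1, 6, 0, 0, 2, 0, 6]
def rw2242 : List ℕ := [1, 3, 0, 3, 0, 5, 1, 1, 2, 0, 0, 4, 1, 2, 1, 2, 0, 0, 5, 1, 2, 3, 3, 0, 4, 1]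
def rw2243 : List ℕ := [4, 3, 1, 0, 0, 2, 5, 0, 2, 5, 0, 2, 5, 0, 2, 5, 1, 4, 3, 1, 4, 3, 1, 4, 3, 1]
def rw2244 : List ℕ := [0, 0, 4, 0, 2, 4, 2, 2, 4, 4, 4, 5, 5, 5, 5, 3, 3, 5, 3, 1, 5, 1, 1, 4]
def rw2245 : List ℕ := [4, 4, 3, 1, 2, 5, 5, 2, 1, 2, 2, 4, 2, 2, 1, 0, 0, 3, 3, 5, 3, 3, 0, 3]
def rw2246 : List ℕ := [3, 4, 3, 1, 4, 0, 2, 5, 2, 5, 2, 5, 2, 0, 4, 3, 4, 5, 5, 2, 5, 1, 3, 4, 3, 4]
def rw2247 : List ℕ := [1, 1, 2, 0, 0, 0, 2, 5, 0, 0, 2, 2, 2, 1, 4, 3, 5, 0, 3, 3, 3, 1, 1, 4, 3, 1]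
def rw2248 : List ℕ := [0, 0, 2, 1, 5, 0, 3, 0, 2, 2, 1, 4, 5, 5, 0, 3, 3, 1, 2, 1, 4, 0, 3, 1, 1, 4]
def rw2249 : List ℕ := [3, 0, 5, 1, 2, 1, 3, 4, 1, 1, 4, 0, 0, 5, 2, 0, 3, 0, 4, 1, 2, 1, 2, 5, 3, 0]
def rw2250 : List ℕ := [1, 1, 5, 1, 5, 5, 1, 1, 0, 0, 0, 4, 4, 0, 4, 0, 0, 4, 4, 0, 4, 1, 5, 1, 5, 5]
def rw2251 : List ℕ := [0, 5, 1, 4, 0, 4, 1, 4, 1, 4, 4, 4, 1, 4, 1, 4, 5, 5, 0, 5, 0, 5, 5, 5, 0, 5]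
def rw2252 : List ℕ := [5, 3, 4, 1, 4, 1, 0, 0, 5, 0, 5, 2, 4, 1, 4, 2, 0, 5, 5, 1, 4, 4, 1, 3, 5, 0]
def rw2253 : List ℕ := [4, 3, 1, 2, 0, 2, 5, 2, 5, 2, 5, 2, 0, 4, 3, 4, 3, 5, 2, 5, 1, 3, 4, 3, 4, 3]
def rw2254 : List ℕ := [4, 3, 4, 4, 3, 1, 4, 0, 2, 5, 5, 2, 5, 5, 1, 2, 0, 4, 3, 5, 2, 5, 1, 3, 0, 4]
def rw2255 : List ℕ := [2, 2, 4, 2, 5, 5, 1, 1, 2, 0, 0, 4, 4, 3, 5, 3, 3, 5, 0, 4, 3, 5, 1, 4]
def rw2256 : List ℕ := [6, 3, 4, 2, 4, 4, 3, 4, 7, 3, 6, 5, 2, 5, 5, 3, 5, 2, 7, 4, 1, 2, 0, 5]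
def rw2257 : List ℕ := [2, 2, 7, 1, 2, 0, 6, 3, 3, 5, 6, 3, 3, 5, 0, 7, 2, 7, 2, 3, 3, 6, 3, 6, 1, 4, 2, 2, 7, 4]
def rw2258 : List ℕ := [4, 4, 3, 5, 5, 1, 5, 1, 1, 5, 5, 1, 5, 1, 1, 2, 0, 0, 4, 0, 4, 4, 0, 0, 4, 0]
def rw2259 : List ℕ := [4, 4, 4, 4, 4, 4, 4, 4, 4, 4, 4, 4, 4, 4, 4, 4, 4]
def rw2260 : List ℕ := [2, 0, 5, 1, 3, 1, 5, 1, 3, 1, 2, 0, 2, 0, 4, 0, 2, 0, 4, 1, 3, 1, 4, 3, 5, 0]
def rw2261 : List ℕ := [5, 3, 1, 3, 5, 1, 3, 1, 0, 0, 2, 0, 4, 2, 0, 2, 4, 1, 3, 1, 4, 1, 5, 0, 2, 0]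
def rw2262 : List ℕ := [0, 5, 0, 4, 4, 1, 4, 1, 4, 0, 0, 5]
def rw2263 : List ℕ := [5, 1, 3, 5, 0, 5, 3, 1, 4, 0, 2, 4, 1, 4, 2, 0, 4, 1, 4, 1, 4, 5, 5, 0, 5, 0]
def rw2264 : List ℕ := [2, 5, 2, 5, 2, 5, 2, 0, 4, 3, 4, 5, 5, 2, 5, 1, 3, 4, 3, 4, 3, 4, 3, 1, 4, 0]
def rw2265 : List ℕ := [4, 4, 4, 1, 4, 1, 4, 1, 5, 0, 5, 0, 5, 5, 5, 0, 5, 0, 5, 1, 0, 0, 4, 1, 4, 1]
def rw2266 : List ℕ := [0, 4, 1, 2, 1, 1, 1, 0, 0, 0, 0, 3, 0, 5, 1, 1, 3, 0, 4, 2, 1, 3, 5, 1, 2, 0]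
def rw2267 : List ℕ := [0, 5, 2, 0, 0, 0, 4, 2, 5, 3, 5, 1, 1, 1, 3, 4, 1, 2, 1, 1, 1, 4, 0, 0, 0, 3]
def rw2268 : List ℕ := [1, 2, 2, 1, 1, 0, 0, 0, 3, 3, 0, 5, 1, 2, 0, 0, 4, 2, 1, 3, 5, 1, 1, 3, 0, 4]
def rw2269 : List ℕ := [5, 1, 5, 1, 1, 0, 0, 0, 4, 0, 4, 4, 0, 0, 4, 0, 4, 4, 1, 5, 5, 1, 5, 1, 1, 5]
def rw2270 : List ℕ := [4, 4, 0, 0, 4, 0, 4, 4, 5, 5, 5, 1, 5, 1, 1, 5, 5, 1, 5, 1, 1, 4, 0, 0, 4, 0]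
def rw2271 : List ℕ := [4, 3, 5, 1, 3, 0, 4, 4, 3, 4, 4, 0, 3, 1, 2, 0, 2, 1, 5, 5, 2, 5, 5, 1, 2, 0]
def rw2272 : List ℕ := [5, 2, 5, 3, 4, 3, 5, 2, 5, 3, 2, 2, 4, 3, 4, 2, 5, 2, 4, 3, 4, 2, 5, 3, 4, 3]
def rw2273 : List ℕ := [0, 0, 0, 3, 0, 5, 1, 2, 1, 3, 4, 2, 3, 3, 5, 2, 0, 3, 0, 4, 1, 2, 1, 1, 1, 2]
def rw2274 : List ℕ := [2, 1, 2, 0, 0, 5, 1, 1, 1, 0, 0, 0, 0, 4, 1, 1, 3, 0, 3, 0, 5, 2, 1, 3, 4, 1]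
def rw2275 : List ℕ := [2, 6, 0, 4, 5, 5, 1, 7, 3, 1, 3, 5, 6, 5, 1, 3, 4, 3, 1, 4, 0, 2, 5, 2, 0, 4, 7, 4, 2, 0]
def rw2276 : List ℕ := [1, 6, 0, 2, 0, 2, 0, 2, 7, 3, 1, 3, 1, 3]
def rw2277 : List ℕ := [2, 1, 2, 1, 2, 2, 2, 5, 5, 5, 4, 4, 3, 3, 3, 0, 3, 0, 3, 4, 3, 1, 4, 0, 2, 5]
def rw2278 : List ℕ := [5, 3, 5, 1, 4, 2, 4, 1, 3, 4, 2, 4, 2, 4, 3, 1, 0, 0, 2, 5, 3, 5, 3, 5, 2, 0]
def rw2279 : List ℕ := [5, 1, 5, 1, 5, 1, 5, 1, 5, 1, 0, 0, 4, 0, 4, 0, 4, 0, 4, 0, 4, 1]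
def rw2280 : List ℕ := [2, 1, 3, 1, 1, 4, 0, 0, 2, 0, 3, 0, 3, 1, 3, 3, 5, 2, 2, 0, 2, 1]
def rw2281 : List ℕ := [0, 3, 1, 1, 0, 0, 0, 2, 1, 2, 1, 4, 0, 0, 2, 1, 5, 1, 4, 0, 3, 1, 1, 5, 0, 3]
def rw2282 : List ℕ := [0, 3, 0, 5, 1, 1, 2, 0, 0, 4, 1, 2, 1, 2, 0, 0, 5, 1, 2, 3, 3, 0, 4, 1, 1, 3]
def rw2283 : List ℕ := [3, 3, 0, 5, 1, 1, 2, 0, 0, 4, 1, 2, 2, 0, 3, 0, 5, 1, 2, 3, 3, 0, 4, 1, 2, 1]
def rw2284 : List ℕ := [0, 4, 1, 2, 2, 0, 3, 0, 5, 2, 1, 3, 4, 1, 2, 1, 3, 3, 0, 5, 1, 2, 1, 0, 0, 3]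
def rw2285 : List ℕ := [1, 5, 5, 1, 1, 4, 0, 0, 4, 4, 0, 0, 4, 4, 0, 0, 4, 4, 5, 5, 5, 1, 1, 5, 5, 1]
def rw2286 : List ℕ := [4, 2, 0, 2, 4, 1, 5, 3, 1, 3, 5, 1, 3, 1, 5, 1, 3, 1, 0, 0, 2, 0, 4, 0, 2, 0]
def rw2287 : List ℕ := [5, 0, 3, 0, 3, 1, 1, 4, 3, 5, 0, 0, 2, 1, 2, 1, 4, 3, 1, 1, 1, 2, 0, 0, 0, 2]
def rw2288 : List ℕ := [1, 2, 0, 0, 2, 0, 4, 2, 4, 1, 4, 2, 4, 2, 3, 3, 5, 3, 5, 0, 5, 3, 5, 1, 3, 1]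
def rw2289 : List ℕ := [0, 2, 3, 3, 1, 1, 3, 1, 1, 2, 0, 0, 2, 0]
def rw2290 : List ℕ := [1, 1, 4, 0, 0, 0, 3, 0, 5, 1, 2, 1, 3, 4, 2, 5, 3, 5, 2, 0, 3, 0, 4, 1, 2, 1]
def rw2291 : List ℕ := [3, 4, 1, 5, 2, 0, 2, 5, 0, 2, 0, 5, 1, 3, 1, 0, 0, 2, 0, 4, 1, 3, 1, 4, 3, 1]
def rw2292 : List ℕ := [0, 2, 5, 3, 1, 1, 1, 4, 0, 0, 0, 2, 4, 3, 1, 2, 1, 5, 0, 3, 5, 2, 1, 4, 0, 3]
def rw2293 : List ℕ := [0, 2, 5, 2, 5, 2, 5, 2, 0, 4, 3, 4, 1, 5, 2, 5, 1, 3, 4, 3, 4, 3, 4, 3, 1, 0]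
def rw2294 : List ℕ := [6, 0, 2, 5, 2, 7, 2, 7, 4, 1, 5, 6, 3, 6, 3, 4, 3, 1, 7, 2, 7, 1, 3, 1, 0, 0, 2, 0, 6, 3]
def rw2295 : List ℕ := [4, 3, 5, 3, 1, 3, 5, 0, 2, 0, 5, 1, 3, 1, 2, 0, 2, 0, 4, 1, 3, 1, 4, 2, 0, 2]
def rw2296 : List ℕ := [2, 2, 1, 1, 0, 0, 0, 3, 3, 0, 5, 2, 0, 3, 0, 4, 2, 1, 3, 5, 1, 2, 1, 3, 4, 1]
def rw2297 : List ℕ := [5, 5, 2, 1, 2, 2, 4, 2, 2, 1, 0, 0, 3, 3, 5, 3, 3, 0, 3, 4, 4, 3, 1, 2]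
def rw2298 : List ℕ := [1, 1, 4, 0, 0, 4, 4, 3, 5, 3, 3, 5, 0, 4, 5, 5, 1, 4, 2, 2, 4, 2, 5, 5]
def rw2299 : List ℕ := [2, 4, 1, 4, 2, 0, 0, 5, 0, 5, 5, 4, 1, 4, 1, 1, 3, 5, 0, 5, 3, 1, 1, 4, 0, 0]
def rw2300 : List ℕ := [0, 4, 1, 5, 5, 1, 1, 5, 0, 4, 4, 5, 5, 5, 1, 4, 0, 0, 4, 4, 0, 5, 1, 1, 4, 0]
def rw2301 : List ℕ := [1, 1, 1, 5, 3, 1, 1, 1, 2, 0, 0, 0, 2, 4, 0, 0, 0, 2, 5, 0, 3, 3, 2, 1, 4, 3]
def rw2302 : List ℕ := [2, 5, 0, 0, 0, 5, 2, 5, 1, 4, 3, 4, 1, 1, 1, 4, 3, 4, 1, 1, 1, 0, 0, 0, 0, 5]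
def rw2303 : List ℕ := [4, 1, 1, 1, 4, 3, 4, 1, 1, 1, 4, 0, 0, 0, 5, 2, 5, 0, 0, 0, 5, 2, 5, 5, 4, 3]
def rw2304 : List ℕ := [3, 1, 3, 5, 1, 3, 1, 0, 0, 2, 0, 4, 2, 0, 2, 4, 1, 3, 1, 4, 1, 5, 0, 2, 0, 5]
def rw2305 : List ℕ := [5, 0, 3, 0, 2, 2, 1, 4, 5, 5, 0, 3, 3, 1, 2, 1, 4, 0, 3, 1, 1, 4, 0, 0, 2, 1]
def rw2306 : List ℕ := [3, 3, 1, 1, 4, 1, 5, 0, 0, 2, 2, 2, 1, 4, 0, 3, 1, 1, 0, 0, 0, 2, 1, 5, 0, 3]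
def rw2307 : List ℕ := [0, 2, 2, 2, 1, 4, 3, 5, 0, 3, 3, 3, 1, 1, 4, 3, 1, 1, 1, 2, 0, 0, 0, 2, 5, 0]
def rw2308 : List ℕ := [2, 1, 4, 1, 5, 0, 3, 3, 3, 1, 1, 4, 3, 1, 1, 1, 0, 0, 0, 0, 2, 5, 0, 0, 2, 2]
def rw2309 : List ℕ := [0, 3, 1, 1, 4, 0, 0, 2, 1, 2, 1, 4, 0, 3, 0, 2, 5, 5, 4, 3, 1, 2, 1, 5, 0, 3]
def rw2310 : List ℕ := [4, 3, 5, 0, 3, 3, 1, 2, 1, 4, 0, 3, 1, 1, 2, 0, 0, 2, 1, 5, 0, 3, 0, 2, 2, 1]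
def rw2311 : List ℕ := [2, 2, 1, 4, 0, 3, 1, 1, 0, 0, 0, 2, 1, 5, 0, 3, 3, 3, 1, 1, 4, 1, 5, 0, 0, 2]
def rw2312 : List ℕ := [3, 1, 2, 0, 2, 2, 1, 4, 0, 3, 0, 2, 5, 0, 3, 3, 2, 1, 4, 3, 1, 2, 1, 5, 0, 3]
def rw2313 : List ℕ := [4, 2, 4, 1, 4, 1, 3, 1, 3, 1, 4, 0, 2, 0, 2, 0, 5, 0, 5, 3, 5, 0, 5, 5, 4, 1]
def rw2314 : List ℕ := [7, 2, 7, 5, 1, 4, 6, 3, 6, 4, 2, 0, 5, 7, 2, 7, 1, 3, 1, 0, 0, 2, 0, 6, 3, 6, 4, 1, 3, 5]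
def rw2315 : List ℕ := [2, 7, 5, 3, 1, 6, 0, 2, 4, 6, 3, 6, 4, 2, 0, 5, 7, 2, 7, 2, 7, 3, 6, 3, 6, 4, 1, 3, 5, 7]
def rw2316 : List ℕ := [2, 5, 5, 2, 1, 2, 2, 4, 2, 2, 1, 4, 0, 3, 3, 5, 3, 3, 0, 3, 4, 4, 3, 5]
def rw2317 : List ℕ := [4, 1, 1, 3, 5, 0, 5, 3, 1, 1, 4, 0, 0, 2, 4, 1, 4, 2, 0, 0, 5, 0, 5, 5, 4, 1]
def rw2318 : List ℕ := [7, 4, 1, 3, 1, 2, 0, 2, 0, 5, 6, 4, 1, 4, 1, 2, 0, 4, 7, 3, 6, 5, 1, 3, 0, 5, 0, 5]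
def rw2319 : List ℕ := [0, 5, 2, 1, 3, 4, 1, 3, 4, 1, 3, 4, 1, 3, 4, 1, 0, 0, 5, 2, 0, 5, 2, 0, 5, 2]
def rw2320 : List ℕ := [1, 1, 4, 0, 0, 3, 3, 1, 3, 0, 3, 0, 2, 5, 3, 1, 2, 1, 2, 0, 2, 2]
def rw2321 : List ℕ := [0, 2, 2, 1, 2, 0, 2, 2, 1, 2, 3, 3, 0, 3, 3, 1, 3, 0, 3, 3, 1, 2]
def rw2322 : List ℕ := [0, 0, 4, 2, 1, 3, 5, 1, 1, 3, 0, 4, 1, 2, 2, 1, 1, 0, 0, 0, 3, 3, 0, 5, 1, 2]
def rw2323 : List ℕ := [3, 3, 5, 3, 3, 0, 3, 4, 4, 3, 3, 2, 5, 5, 2, 1, 2, 2, 4, 2, 2, 1, 2, 0]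
def rw2324 : List ℕ := [5, 5, 2, 5, 5, 1, 2, 0, 4, 3, 1, 2, 5, 1, 3, 0, 4, 4, 3, 4, 4, 3, 1, 0, 0, 2]
def rw2325 : List ℕ := [4, 2, 2, 4, 2, 0, 4, 3, 5, 1, 3, 5, 3, 3, 5, 5, 5, 1, 1, 2, 0, 0, 4, 4]
def rw2326 : List ℕ := [0, 2, 6, 3, 3, 2, 7, 3, 1, 6, 4, 2, 4, 1, 3, 0, 5, 3, 1, 2, 0, 2, 4, 1, 2, 0, 5, 3, 5, 7]
def rw2327 : List ℕ := [5, 6, 3, 3, 1, 4, 0, 2, 2, 7, 4, 2, 0, 5, 3, 1, 6, 3, 5, 2, 7, 0, 2, 4, 1, 3]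
def rw2328 : List ℕ := [5, 1, 5, 1, 5, 1, 5, 1, 5, 1, 4, 0, 4, 0, 4, 0, 4, 0, 4, 0, 4, 5]
def rw2329 : List ℕ := [1, 5, 1, 4, 1, 4, 1, 1, 1, 4, 0, 0, 0, 5, 0, 5, 0, 4, 0, 5, 0, 5, 5, 4, 1, 4]
def rw2330 : List ℕ := [2, 2, 4, 4, 2, 2, 4, 4, 2, 2, 4, 4, 5, 5, 5, 3, 3, 5, 5, 3, 3, 5, 5, 3, 3, 4]
def rw2331 : List ℕ := [0, 0, 2, 4, 3, 1, 1, 1, 2, 0, 0, 0, 2, 5, 3, 1, 1, 2, 2, 1, 4, 3, 5, 0, 3, 3]
def rw2332 : List ℕ := [4, 1, 3, 4, 3, 1, 2, 5, 2, 0, 5, 5, 2, 2, 2, 1, 2, 1, 0, 0, 3, 0, 3, 3, 3, 4]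
def rw2333 : List ℕ := [4, 1, 2, 1, 3, 3, 0, 5, 1, 2, 1, 4, 0, 3, 0, 4, 1, 2, 2, 0, 3, 0, 5, 2, 5, 3]
def rw2334 : List ℕ := [0, 5, 5, 0, 5, 0, 5, 5, 1, 4, 4, 1, 4, 1, 4, 4, 1, 4, 1, 0, 0, 5]
def rw2335 : List ℕ := [2, 5, 0, 2, 5, 0, 2, 5, 3, 4, 3, 1, 4, 3, 1, 4, 3, 1, 4, 3, 1, 2, 0, 2, 5, 0]
def rw2336 : List ℕ := [5, 0, 2, 0, 5, 0, 2, 0, 5, 1, 3, 1, 2, 0, 2, 0, 4, 1, 3, 1, 4, 1, 3, 1, 4, 3]
def rw2337 : List ℕ := [6, 6, 2, 4, 1, 1, 6, 0, 0, 5, 3, 7, 7, 1, 7, 2, 6, 2, 0, 5, 7, 4, 1, 3, 7, 3, 6, 0]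
def rw2338 : List ℕ := [1, 1, 2, 2, 2, 2, 2, 0, 3, 3, 3, 3, 3, 0, 0, 0, 0, 3, 0, 2, 1, 1]
def rw2339 : List ℕ := [1, 5, 1, 1, 4, 0, 0, 4, 0, 5, 3, 3, 5, 3, 4, 4, 5, 5, 5, 2, 4, 2, 2, 4]
def rw2340 : List ℕ := [5, 2, 2, 5, 1, 1, 0, 0, 0, 4, 3, 3, 4, 0, 0, 4, 3, 3, 4, 1, 5, 2, 2, 5, 1, 1]
def rw2341 : List ℕ := [3, 1, 1, 3, 1, 1, 4, 0, 0, 2, 0, 0, 2, 5]
def rw2342 : List ℕ := [2, 0, 5, 2, 0, 5, 2, 3, 3, 4, 1, 3, 4, 1, 3, 4, 1, 3, 4, 1, 2, 0, 5, 2, 0, 5]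
def rw2343 : List ℕ := [3, 3, 4, 4, 1, 3, 4, 3, 5, 2, 5, 2, 0, 5, 5, 2, 2, 2, 1, 2, 1, 4, 0, 3, 0, 3]
def rw2344 : List ℕ := [3, 0, 0, 0, 2, 0, 3, 3, 3, 1]
def rw2345 : List ℕ := [3, 4, 5, 5, 2, 1, 3, 4, 4, 3, 4, 4, 0, 3, 1, 4, 0, 2, 1, 5, 5, 2, 5, 5, 2, 0]
def rw2346 : List ℕ := [4, 3, 5, 2, 5, 3, 0, 2, 4, 3, 4, 2, 5, 2, 4, 3, 4, 2, 5, 1, 4, 3, 5, 2, 5, 3]
def rw2347 : List ℕ := [5, 2, 5, 3, 4, 3, 5, 2, 5, 3, 6, 2, 4, 3, 4, 2, 5, 2, 4, 3, 4, 2, 5, 7, 4, 3]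
def rw2348 : List ℕ := [1, 3, 4, 7, 7, 2, 2, 7, 1, 4, 2, 4, 3, 4, 1, 0, 0, 5, 2, 5, 3, 5, 0, 6, 3, 3, 6, 6, 5, 2]
def rw2349 : List ℕ := [1, 4, 3, 5, 0, 5, 0, 5, 5, 5, 0, 5, 0, 5, 1, 2, 0, 4, 1, 4, 1, 4, 4, 4, 1, 4]
def rw2350 : List ℕ := [2, 1, 2, 0, 2, 2, 2, 1, 3, 3, 3, 1, 3, 0, 3, 1, 0, 0]
def rw2351 : List ℕ := [2, 1, 2, 0, 0, 5, 1, 1, 1, 4, 0, 0, 0, 4, 1, 1, 3, 0, 3, 0, 5, 2, 5, 3, 4, 1]
def rw2352 : List ℕ := [3, 3, 0, 5, 1, 1, 1, 4, 0, 0, 0, 4, 1, 2, 2, 1, 1, 3, 5, 2, 5, 3, 4, 2, 0, 0]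
def rw2353 : List ℕ := [4, 1, 2, 2, 1, 1, 0, 0, 0, 3, 3, 0, 5, 1, 2, 0, 0, 4, 2, 1, 3, 5, 1, 1, 3, 0]
def rw2354 : List ℕ := [3, 4, 1, 2, 2, 1, 1, 2, 0, 0, 3, 3, 0, 5, 2, 0, 3, 0, 4, 2, 3, 3, 5, 1, 2, 1]
def rw2355 : List ℕ := [2, 1, 1, 4, 0, 0, 3, 0, 3, 1, 3, 3, 0, 3, 0, 2, 5, 3, 1, 2, 1, 2, 2, 0, 2, 1]
def rw2356 : List ℕ := [4, 1, 1, 3, 3, 3, 0, 5, 1, 1, 1, 0, 0, 0, 0, 4, 1, 2, 2, 2, 0, 0, 5, 2, 1, 3]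
def rw2357 : List ℕ := [2, 0, 0, 0, 0, 0, 3, 1, 3, 3, 3, 3, 3, 0]
def rw2358 : List ℕ := [3, 1, 4, 0, 2, 0, 5, 0, 2, 0, 5, 0, 2, 0, 5, 5, 4, 1, 3, 1, 4, 1, 3, 1, 4, 1]
def rw2359 : List ℕ := [5, 0, 3, 3, 3, 1, 1, 4, 3, 5, 0, 0, 2, 2, 2, 1, 4, 0, 3, 1, 1, 2, 0, 0, 2, 1]
def rw2360 : List ℕ := [3, 1, 5, 1, 3, 1, 5, 1, 3, 1, 4, 0, 2, 0, 4, 0, 2, 0, 4, 0, 2, 0, 4, 5, 5, 1]
def rw2361 : List ℕ := [0, 2, 5, 5, 4, 3, 1, 3, 4, 1, 3, 1, 4, 1, 3, 1, 4, 0, 2, 0, 5, 0, 2, 0, 5, 2]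
def rw2362 : List ℕ := [5, 3, 1, 1, 1, 4, 0, 0, 0, 2, 4, 0, 3, 1, 1, 5, 0, 3, 5, 2, 1, 4, 0, 0, 2, 1]
def rw2363 : List ℕ := [5, 5, 3, 1, 2, 0, 2, 4, 4, 2, 4, 2, 4, 0, 5, 3, 5, 3, 4, 2, 4, 1, 5, 3, 5, 3]
def rw2364 : List ℕ := [4, 2, 4, 2, 4, 1, 5, 3, 5, 3, 5, 3, 5, 3, 5, 3, 0, 2, 4, 2, 4, 2]
def rw2365 : List ℕ := [0, 3, 0, 3, 3, 3, 4, 4, 1, 3, 4, 3, 3, 2, 5, 2, 0, 5, 5, 2, 2, 2, 1, 2, 1, 2]
def rw2366 : List ℕ := [5, 1, 4, 3, 3, 5, 5, 1, 0, 0, 4, 4, 2, 2, 5, 0, 4, 4, 2, 2, 5, 1, 4, 3, 3, 5]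
def rw2367 : List ℕ := [0, 3, 0, 5, 2, 3, 3, 4, 1, 2, 1, 3, 3, 0, 5, 1, 2, 1, 2, 0, 3, 0, 4, 1, 2, 2]
def rw2368 : List ℕ := [2, 7, 5, 1, 4, 6, 3, 6, 4, 2, 0, 5, 7, 2, 7, 1, 3, 1, 0, 0, 2, 0, 6, 3, 6, 4, 1, 3, 5, 7]
def rw2369 : List ℕ := [3, 6, 3, 6, 5, 1, 0, 0, 4, 7, 2, 7, 2, 5, 0, 6, 3, 6, 2, 5, 2, 1, 3, 4, 3, 7, 2, 7, 1, 4]
def rw2370 : List ℕ := [4, 3, 4, 3, 5, 2, 5, 1, 3, 4, 3, 4, 3, 4, 3, 1, 2, 0, 2, 5, 2, 5, 2, 5, 2, 0]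
def rw2371 : List ℕ := [1, 5, 1, 3, 1, 0, 0, 2, 0, 4, 0, 2, 0, 4, 0, 2, 0, 4, 1, 5, 1, 3, 1, 5, 1, 3]
def rw2372 : List ℕ := [0, 4, 3, 5, 1, 3, 0, 4, 4, 3, 4, 4, 0, 3, 1, 2, 0, 2, 1, 5, 5, 2, 5, 5, 1, 2]
def rw2373 : List ℕ := [2, 0, 3, 4, 3, 5, 2, 1, 3, 4, 4, 3, 4, 4, 0, 3, 1, 2, 0, 2, 1, 5, 5, 2, 5, 5]
def rw2374 : List ℕ := [1, 2, 5, 3, 0, 5, 0, 5, 3, 5, 0, 5, 0, 3, 1, 4, 0, 2, 1, 4, 1, 4, 2, 4, 1, 4]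
def rw2375 : List ℕ := [0, 2, 6, 5, 7, 3, 1, 6, 4, 2, 4, 1, 3, 0, 5, 0, 3, 1, 4, 0, 2, 1, 4, 1, 2, 0, 5, 3, 5, 7]
def rw2376 : List ℕ := [2, 4, 1, 2, 0, 5, 3, 5, 0, 5, 3, 5, 3, 4, 2, 4, 1, 4]
def rw2377 : List ℕ := [3, 3, 3, 1, 7, 4, 1, 5, 6, 0, 2, 2, 2, 7, 0, 2, 4, 2, 1, 3, 1, 0, 0, 2, 0, 3, 5, 3, 1, 6]
def rw2378 : List ℕ := [0, 2, 1, 2, 7, 4, 1, 1, 4, 0, 0, 5, 6, 3, 0, 3, 1, 7, 0, 2, 4, 0, 2, 5, 3, 1, 5, 3, 1, 6]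
def rw2379 : List ℕ := [4, 2, 4, 2, 4, 6, 3, 3, 1, 6, 0, 2, 2, 7, 5, 3, 5, 3, 5, 1, 4, 1, 6, 3, 7, 2, 7, 0, 5, 0]
def rw2380 : List ℕ := [5, 3, 3, 5, 5, 3, 3, 4, 2, 2, 4, 4, 2, 2, 4, 4, 2, 2, 4, 4, 5, 5, 5, 3, 3, 5]
def rw2381 : List ℕ := [3, 4, 1, 3, 1, 4, 5, 5, 0, 2, 0, 5, 2, 0, 2, 5, 1, 3, 1, 4, 0, 2, 0, 4, 3, 1]
def rw2382 : List ℕ := [5, 1, 3, 1, 5, 1, 3, 1, 0, 0, 2, 0, 4, 0, 2, 0, 4, 1, 3, 1, 4, 1, 5, 0, 2, 0]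
def rw2383 : List ℕ := [5, 0, 2, 0, 5, 1, 3, 1, 5, 1, 3, 1, 4, 0, 2, 0, 4, 0, 2, 0, 4, 1, 3, 1, 4, 5]
def rw2384 : List ℕ := [4, 4, 1, 4, 1, 4, 0, 0, 5, 0, 5, 0]
def rw2385 : List ℕ := [0, 0, 4, 3, 3, 4, 5, 5, 2, 2, 5, 1, 1, 5, 2, 2, 5, 1, 1, 4, 0, 0, 4, 3, 3, 4]
def rw2386 : List ℕ := [3, 3, 5, 5, 1, 4, 0, 4, 4, 2, 2, 5, 0, 4, 4, 2, 2, 5, 5, 4, 3, 3, 5, 5, 1, 4]
def rw2387 : List ℕ := [3, 3, 4, 1, 5, 5, 3, 3, 4, 1, 2, 0, 5, 2, 2, 4, 4, 0, 5, 2, 2, 4, 4, 3, 5, 5]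
def rw2388 : List ℕ := [2, 4, 2, 2, 4, 1, 5, 1, 1, 4, 0, 0, 4, 0, 5, 3, 3, 5, 3, 4, 4, 5, 5, 5]
def rw2389 : List ℕ := [0, 4, 4, 0, 0, 4, 4, 5, 5, 5, 1, 1, 5, 5, 1, 1, 5, 5, 1, 1, 4, 0, 0, 4, 4, 0]
def rw2390 : List ℕ := [4, 3, 5, 1, 3, 1, 5, 1, 3, 1, 5, 1, 3, 1, 2, 0, 2, 0, 4, 0, 2, 0, 4, 0, 2, 0]
def rw2391 : List ℕ := [1, 5, 5, 1, 1, 2, 0, 0, 4, 4, 0, 0, 4, 4, 0, 0, 4, 4, 3, 5, 5, 1, 1, 5, 5, 1]
def rw2392 : List ℕ := [1, 3, 0, 3, 3, 0, 2, 5, 3, 1, 2, 2, 1, 2, 0, 2, 2, 1, 1, 1, 4, 0, 0, 0, 3, 3]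
def rw2393 : List ℕ := [5, 0, 3, 1, 2, 1, 4, 3, 1, 1, 1, 5, 3, 1, 1, 1, 0, 0, 0, 0, 2, 4, 0, 0, 0, 2]
def rw2394 : List ℕ := [4, 3, 5, 0, 5, 3, 1, 0, 0, 2, 4, 1, 4, 2, 5, 0, 5, 0, 5, 5, 1, 4, 4, 1, 4, 1]
def rw2395 : List ℕ := [5, 1, 1, 0, 0, 0, 4, 4, 4, 2, 2, 4, 2, 0, 4, 1, 5, 1, 3, 5, 3, 3, 5, 5]
def rw2396 : List ℕ := [2, 5, 0, 4, 4, 2, 2, 5, 1, 4, 3, 3, 5, 5, 1, 4, 3, 3, 5, 5, 1, 0, 0, 4, 4, 2]
def rw2397 : List ℕ := [4, 3, 4, 1, 1, 1, 0, 0, 0, 0, 5, 2, 5, 0, 0, 0, 5, 2, 5, 1, 4, 3, 4, 1, 1, 1]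
def rw2398 : List ℕ := [2, 5, 2, 0, 4, 3, 4, 1, 5, 2, 5, 1, 3, 4, 3, 4, 3, 4, 3, 1, 0, 0, 2, 5, 2, 5]
def rw2399 : List ℕ := [4, 2, 6, 5, 2, 5, 2, 0, 5, 3, 3, 1, 4, 0, 2, 2, 4, 1, 3, 4, 3, 4, 7, 3, 5, 6, 5, 7]
def rw2400 : List ℕ := [5, 3, 5, 3, 4, 2, 4, 1, 4, 2, 4, 1, 2, 0, 5, 3, 5, 0]
def rw2401 : List ℕ := [5, 2, 0, 4, 3, 4, 5, 5, 2, 5, 1, 3, 4, 3, 4, 3, 4, 3, 1, 4, 0, 2, 5, 2, 5, 2]
def rw2402 : List ℕ := [4, 1, 6, 3, 7, 0, 5, 0, 3, 5, 3, 5, 3, 6, 3, 0, 3, 1, 2, 0, 2, 1, 2, 7, 2, 4, 2, 4, 2, 1]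
def rw2403 : List ℕ := [4, 0, 0, 2, 4, 1, 4, 1, 1, 4, 1, 4, 2, 5, 3, 5, 0, 5, 0, 0, 5, 0, 5, 3, 1, 1]
def rw2404 : List ℕ := [4, 1, 3, 5, 3, 1, 2, 0, 2, 4, 2, 0, 5, 0, 2, 4, 2, 0, 5, 3, 4, 1, 3, 5, 3, 1]
def rw2405 : List ℕ := [5, 5, 3, 3, 4, 1, 2, 0, 5, 2, 2, 4, 4, 0, 5, 2, 2, 4, 4, 3, 5, 5, 3, 3, 4, 1]
def rw2406 : List ℕ := [3, 4, 1, 4, 1, 3, 5, 0, 3, 1, 2, 0, 2, 1, 4, 2, 0, 5, 0, 5, 2, 7, 3, 1, 6, 3, 7, 0, 2, 6]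
def rw2407 : List ℕ := [2, 2, 1, 1, 2, 0, 0, 3, 3, 0, 5, 1, 2, 0, 0, 4, 2, 3, 3, 5, 1, 1, 3, 0, 4, 1]
def rw2408 : List ℕ := [5, 2, 7, 3, 1, 0, 0, 2, 6, 3, 4, 3, 5, 5, 0, 5, 3, 3, 5, 7, 1, 6, 4, 2, 2, 4, 1, 4, 4, 2]
def rw2409 : List ℕ := [2, 5, 1, 3, 4, 3, 4, 3, 4, 3, 1, 4, 0, 2, 5, 2, 5, 2, 5, 2, 0, 4, 3, 4, 5, 5]
def rw2410 : List ℕ := [5, 2, 5, 5, 1, 2, 0, 4, 3, 5, 2, 5, 1, 3, 0, 4, 4, 3, 4, 4, 3, 1, 4, 0, 2, 5]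
def rw2411 : List ℕ := [5, 3, 5, 3, 1, 0, 0, 2, 4, 2, 4, 2, 4, 2, 0, 5, 3, 5, 1, 4, 2, 4, 1, 3, 5, 3]
def rw2412 : List ℕ := [1, 3, 1, 0, 0, 2, 0, 5, 0, 2, 0, 5, 0, 2, 0, 5, 1, 4, 1, 3, 1, 4, 1, 3, 1, 4]
def rw2413 : List ℕ := [0, 5, 6, 3, 6, 3, 3, 1, 2, 0, 2, 2, 7, 2, 7, 4, 1, 4, 3, 1, 7, 2, 7, 3, 6, 3, 6, 0, 2, 5]
def rw2414 : List ℕ := [4, 2, 4, 1, 4, 1, 3, 1, 3, 1, 6, 0, 2, 0, 2, 0, 5, 0, 5, 3, 5, 0, 5, 7, 4, 1]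
def rw2415 : List ℕ := [2, 7, 2, 7, 4, 1, 0, 0, 5, 6, 3, 6, 3, 0, 5, 6, 3, 6, 3, 1, 2, 7, 2, 7, 4, 1]
def rw2416 : List ℕ := [6, 5, 3, 4, 3, 4, 2, 5, 1, 4, 3, 5, 2, 5, 2, 4, 7, 0, 5, 6, 1, 2, 1, 0, 0, 3, 0, 7, 4, 1]
def rw2417 : List ℕ := [5, 2, 7, 2, 7, 4, 3, 1, 3, 6, 3, 6, 7, 7, 2, 7, 2, 0, 2, 5, 6, 3, 6, 3, 4, 3, 1, 6, 0, 2]
def rw2418 : List ℕ := [3, 6, 3, 4, 3, 1, 4, 0, 2, 5, 2, 7, 2, 7, 4, 3, 1, 3, 6, 3, 6, 5, 7, 2, 7, 2, 0, 2, 5, 6]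
def rw2419 : List ℕ := [2, 7, 1, 3, 1, 2, 0, 2, 0, 6, 3, 6, 0, 2, 5, 2, 7, 2, 7, 4, 3, 5, 6, 3, 6, 3, 4, 3, 1, 7]
def rw2420 : List ℕ := [3, 6, 5, 1, 0, 0, 4, 7, 2, 7, 1, 5, 2, 5, 6, 3, 6, 3, 4, 1, 5, 2, 7, 2, 7, 4, 3, 4, 0, 6]
def rw2421 : List ℕ := [6, 4, 2, 0, 5, 7, 2, 7, 2, 1, 3, 6, 3, 6, 4, 1, 3, 5, 7, 2, 7, 5, 3, 1, 0, 0, 2, 4, 6, 3]
def rw2422 : List ℕ := [5, 3, 1, 6, 7, 7, 0, 2, 4, 1, 3, 5, 6, 3, 0, 3, 1, 6, 0, 2, 1, 2, 7, 4, 2, 0]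
def rw2423 : List ℕ := [5, 5, 3, 5, 2, 7, 4, 1, 6, 0, 5, 6, 3, 4, 2, 4, 4, 3, 4, 7, 7, 6, 5, 2]
def rw2424 : List ℕ := [5, 0, 2, 4, 2, 4, 2, 6, 3, 3, 1, 0, 0, 2, 2, 7, 3, 5, 3, 5, 3, 1, 4, 1, 6, 3, 1, 2, 7, 0]
def rw2425 : List ℕ := [3, 5, 7, 4, 1, 2, 0, 5, 6, 4, 2, 4, 2, 5, 3, 4, 3, 4, 7, 3, 6, 5, 2, 5, 2, 4, 3, 5]
def rw2426 : List ℕ := [3, 4, 2, 2, 7, 4, 1, 6, 0, 5, 6, 3, 3, 5, 2, 5, 5, 3, 5, 3, 7, 7, 6, 2, 4, 2, 4, 4]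
def rw2427 : List ℕ := [3, 5, 3, 5, 0, 5, 3, 5, 3, 7, 2, 4, 2, 4, 1, 4, 2, 4, 2, 1, 3, 1, 6, 0, 2, 0]
def rw2428 : List ℕ := [5, 2, 4, 3, 5, 3, 5, 7, 4, 1, 0, 0, 5, 6, 4, 2, 4, 2, 5, 3, 4, 3, 4, 7, 1, 6, 5, 2]
def rw2429 : List ℕ := [5, 6, 3, 3, 1, 2, 0, 2, 2, 7, 4, 3, 1, 3, 3, 5, 3, 1, 6, 3, 3, 2, 7, 0, 2, 4, 2, 2, 0, 2]
def rw2430 : List ℕ := [2, 7, 0, 2, 6, 3, 3, 5, 3, 1, 6, 0, 2, 4, 2, 2, 7, 3, 1, 6, 3, 3, 5, 7, 4, 2]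
def rw2431 : List ℕ := [0, 3, 0, 2, 5, 3, 1, 1, 1, 2, 0, 0, 0, 2, 4, 3, 1, 2, 1, 5, 0, 3, 3, 2, 1, 4]
def rw2432 : List ℕ := [0, 0, 4, 2, 1, 3, 5, 1, 1, 1, 3, 4, 1, 2, 1, 1, 1, 0, 0, 0, 0, 3, 0, 5, 2, 0]
def rw2433 : List ℕ := [0, 4, 1, 2, 1, 3, 3, 0, 5, 2, 3, 3, 4, 1, 2, 2, 0, 3, 0, 5, 1, 1, 1, 2, 0, 0]
def rw2434 : List ℕ := [3, 3, 0, 5, 1, 1, 1, 2, 0, 0, 0, 4, 1, 2, 2, 1, 1, 3, 5, 2, 3, 3, 4, 2, 0, 0]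
def rw2435 : List ℕ := [2, 0, 3, 5, 3, 5, 0, 5, 3, 5, 3, 1, 2, 4, 2, 4, 1, 4, 2, 4, 2, 1, 3, 1, 0, 0]
def rw2436 : List ℕ := [5, 2, 4, 3, 4, 2, 5, 1, 4, 3, 5, 2, 5, 3, 4, 3, 5, 2, 5, 3, 0, 2, 4, 3, 4, 2]
def rw2437 : List ℕ := [5, 1, 1, 5, 1, 5, 5, 1, 1, 0, 0, 0, 4, 4, 0, 4, 0, 0, 4, 4, 0, 4, 1, 5, 1, 5]
def rw2438 : List ℕ := [4, 3, 1, 4, 0, 2, 5, 5, 2, 5, 5, 1, 2, 0, 4, 3, 5, 2, 5, 1, 3, 0, 4, 4, 3, 4]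
def rw2439 : List ℕ := [4, 0, 4, 1, 5, 1, 5, 1, 5, 1, 5, 1, 5, 1, 0, 0, 4, 0, 4, 0, 4, 0]
def rw2440 : List ℕ := [4, 4, 1, 5, 5, 5, 3, 5, 3, 5, 2, 5, 3, 5, 3, 0, 2, 4, 2, 4, 3, 4, 2, 4, 2, 4]
def rw2441 : List ℕ := [0, 2, 5, 5, 4, 3, 1, 2, 1, 5, 0, 3, 0, 3, 1, 1, 4, 0, 0, 2, 1, 2, 1, 4, 0, 3]
def rw2442 : List ℕ := [5, 1, 1, 0, 0, 0, 4, 4, 0, 4, 0, 0, 4, 4, 0, 4, 1, 5, 1, 5, 5, 1, 1, 5, 1, 5]
def rw2443 : List ℕ := [5, 0, 4, 3, 5, 1, 4, 2, 2, 4, 2, 5, 5, 1, 1, 2, 0, 0, 4, 4, 3, 5, 3, 3]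
def rw2444 : List ℕ := [5, 3, 3, 5, 3, 5, 1, 4, 2, 4, 2, 2, 4, 2, 4, 1, 3, 3, 1, 0, 0, 2, 2, 0, 5, 3]
def rw2445 : List ℕ := [1, 4, 0, 4, 4, 2, 2, 5, 0, 4, 4, 2, 2, 5, 5, 4, 3, 3, 5, 5, 1, 4, 3, 3, 5, 5]
def rw2446 : List ℕ := [4, 4, 3, 3, 3, 0, 3, 0, 3, 4, 3, 1, 2, 0, 2, 5, 2, 1, 2, 1, 2, 2, 2, 5, 5, 3]
def rw2447 : List ℕ := [4, 3, 3, 4, 0, 0, 4, 3, 3, 4, 5, 5, 2, 2, 5, 1, 1, 5, 2, 2, 5, 1, 1, 4, 0, 0]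
def rw2448 : List ℕ := [6, 3, 3, 5, 0, 3, 1, 0, 0, 2, 1, 4, 2, 2, 7, 3, 1, 6, 3, 3, 5, 2, 1, 3, 4, 2, 2, 7, 0, 2]
def rw2449 : List ℕ := [0, 0, 4, 4, 4, 2, 2, 4, 2, 0, 4, 5, 5, 1, 3, 5, 3, 3, 5, 5, 5, 1, 1, 4]
def rw2450 : List ℕ := [5, 1, 1, 0, 0, 0, 4, 4, 0, 0, 4, 4, 0, 0, 4, 4, 1, 5, 5, 1, 1, 5, 5, 1, 1, 5]
def rw2451 : List ℕ := [2, 4, 1, 1, 2, 0, 0, 5, 3, 3, 5, 0, 0, 5, 3, 3, 5, 3, 4, 2, 2, 4, 1, 1, 4, 2]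
def rw2452 : List ℕ := [2, 5, 3, 3, 3, 1, 3, 0, 3, 1, 4, 0, 2, 1, 2, 0, 2, 2]
def rw2453 : List ℕ := [1, 5, 1, 3, 1, 4, 0, 2, 0, 4, 0, 2, 0, 4, 0, 2, 0, 4, 5, 5, 1, 3, 1, 5, 1, 3]
def rw2454 : List ℕ := [3, 0, 2, 5, 1, 4, 3, 1, 2, 1, 5, 0, 3, 0, 3, 1, 1, 0, 0, 0, 2, 1, 2, 1, 4, 0]
def rw2455 : List ℕ := [3, 0, 3, 1, 1, 4, 0, 0, 2, 1, 2, 1, 4, 0, 3, 0, 2, 5, 5, 4, 3, 1, 2, 1, 5, 0]
def rw2456 : List ℕ := [5, 0, 3, 0, 3, 1, 1, 4, 0, 0, 2, 1, 2, 1, 4, 0, 0, 2, 1, 5, 5, 4, 0, 3, 1, 1]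
def rw2457 : List ℕ := [5, 1, 4, 3, 4, 1, 1, 1, 4, 3, 4, 1, 1, 1, 0, 0, 0, 0, 5, 2, 5, 0, 0, 0, 5, 2]
def rw2458 : List ℕ := [5, 5, 2, 5, 5, 1, 2, 0, 4, 3, 3, 2, 5, 1, 3, 0, 4, 4, 3, 4, 4, 3, 1, 2, 0, 2]
def rw2459 : List ℕ := [0, 5, 6, 1, 2, 1, 2, 0, 3, 0, 7, 4, 1, 6, 5, 3, 4, 3, 4, 2, 5, 3, 4, 3, 5, 2, 5, 2, 4, 7]
def rw2460 : List ℕ := [1, 1, 1, 4, 0, 0, 0, 3, 0, 5, 1, 2, 1, 3, 4, 2, 5, 3, 5, 2, 0, 3, 0, 4, 1, 2]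
def rw2461 : List ℕ := [0, 0, 3, 3, 1, 3, 0, 3, 3, 0, 2, 5, 3, 1, 2, 2, 1, 2, 0, 2, 2, 1, 1, 1, 4, 0]
def rw2462 : List ℕ := [2, 0, 0, 3, 3, 3, 1, 3, 1, 2, 0, 2, 2, 2, 1, 1, 3, 1, 2, 1, 1, 0, 0, 0, 3, 0]
def rw2463 : List ℕ := [5, 3, 5, 3, 4, 2, 4, 1, 3, 3, 5, 3, 5, 3, 3, 1, 2, 0, 2, 2, 4, 2, 4, 2, 2, 0]
def rw2464 : List ℕ := [2, 2, 2, 1, 3, 1, 1, 1, 1, 4, 0, 0, 0, 0, 2, 0, 3, 3, 3, 0, 3, 1, 3, 3, 5, 2, 2, 0, 2, 1]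
def rw2465 : List ℕ := [4, 4, 0, 3, 1, 4, 0, 2, 1, 5, 5, 2, 5, 5, 2, 0, 3, 4, 5, 5, 2, 1, 3, 4, 4, 3]
def rw2466 : List ℕ := [2, 6, 1, 5, 3, 1, 5, 5, 0, 3, 1, 4, 0, 2, 1, 4, 4, 0, 2, 4, 0, 7, 3, 5, 6, 3, 5, 2, 7, 4]
def rw2467 : List ℕ := [0, 3, 0, 2, 2, 1, 4, 3, 5, 0, 3, 3, 1, 2, 1, 4, 0, 3, 1, 1, 2, 0, 0, 2, 1, 5]
def rw2468 : List ℕ := [4, 1, 1, 0, 0, 0, 5, 2, 0, 3, 0, 4, 1, 2, 1, 2, 1, 3, 0, 3, 0, 5, 1, 2, 1, 3]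
def rw2469 : List ℕ := [4, 3, 4, 4, 0, 3, 1, 4, 0, 2, 1, 5, 5, 2, 5, 5, 2, 0, 3, 4, 5, 5, 2, 1, 3, 4]
def rw2470 : List ℕ := [3, 0, 2, 2, 1, 4, 3, 5, 0, 3, 3, 1, 2, 1, 4, 0, 3, 1, 1, 2, 0, 0, 2, 1, 5, 0]
def rw2471 : List ℕ := [2, 0, 0, 0, 4, 2, 1, 3, 5, 1, 1, 1, 3, 4, 1, 2, 1, 1, 1, 0, 0, 0, 0, 3, 0, 5]
def rw2472 : List ℕ := [5, 6, 3, 1, 2, 7, 4, 2, 6, 1, 5, 3, 1, 5, 5, 0, 3, 1, 0, 0, 2, 1, 4, 4, 0, 2, 4, 0, 7, 3]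
def rw2473 : List ℕ := [5, 6, 3, 5, 2, 7, 4, 2, 6, 1, 5, 3, 1, 5, 5, 0, 3, 1, 4, 0, 2, 1, 4, 4, 0, 2, 4, 0, 7, 3]
def rw2474 : List ℕ := [5, 1, 2, 1, 3, 0, 4, 1, 1, 3, 0, 3, 0, 5, 1, 1, 0, 0, 0, 4, 1, 2, 1, 2, 0, 0]
def rw2475 : List ℕ := [3, 4, 3, 1, 0, 0, 2, 5, 2, 1, 2, 1, 2, 2, 2, 5, 5, 1, 4, 4, 3, 3, 3, 0, 3, 0]
def rw2476 : List ℕ := [5, 2, 2, 4, 4, 5, 5, 5, 3, 3, 4, 1, 5, 5, 3, 3, 4, 1, 4, 0, 5, 2, 2, 4, 4, 0]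
def rw2477 : List ℕ := [2, 5, 0, 2, 5, 3, 4, 3, 1, 4, 3, 1, 4, 3, 1, 4, 3, 1, 2, 0, 2, 5, 0, 2, 5, 0]
def rw2478 : List ℕ := [0, 2, 5, 0, 2, 5, 1, 4, 3, 1, 4, 3, 1, 4, 3, 1, 4, 3, 1, 0, 0, 2, 5, 0, 2, 5]
def rw2479 : List ℕ := [2, 4, 2, 2, 0, 5, 3, 5, 1, 4, 2, 4, 1, 3, 3, 5, 3, 5, 3, 3, 1, 0, 0, 2, 2, 4]
def rw2480 : List ℕ := [2, 1, 5, 3, 4, 0, 3, 0, 2, 5, 0, 3, 3, 3, 1, 1, 2, 0, 0, 2, 2, 2, 1, 4, 3, 1]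
def rw2481 : List ℕ := [4, 1, 3, 5, 3, 1, 0, 0, 2, 4, 2, 0, 5, 0, 2, 4, 2, 0, 5, 1, 4, 1, 3, 5, 3, 1]
def rw2482 : List ℕ := [3, 4, 3, 5, 2, 5, 3, 2, 2, 4, 3, 4, 2, 5, 2, 4, 3, 4, 2, 5, 3, 4, 3, 5, 2, 5]
def rw2483 : List ℕ := [5, 3, 3, 5, 3, 4, 4, 1, 5, 5, 2, 4, 2, 2, 4, 1, 5, 1, 1, 0, 0, 0, 4, 0]
def rw2484 : List ℕ := [1, 4, 3, 1, 1, 1, 0, 0, 0, 0, 2, 5, 0, 0, 2, 2, 2, 1, 4, 1, 5, 0, 3, 3, 3, 1]
def rw2485 : List ℕ := [1, 1, 2, 0, 0, 5, 0, 5, 0, 0, 5, 0, 5, 3, 4, 1, 4, 1, 1, 4, 1, 4]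
def rw2486 : List ℕ := [2, 4, 1, 1, 4, 2, 2, 4, 1, 1, 0, 0, 0, 5, 3, 3, 5, 0, 0, 5, 3, 3, 5, 1, 4, 2]
def rw2487 : List ℕ := [0, 4, 1, 4, 1, 4, 1, 5, 0, 5, 0, 5, 1, 3, 5, 0, 5, 3, 1, 0, 0, 2, 4, 1, 4, 2]
def rw2488 : List ℕ := [5, 1, 1, 1, 2, 0, 0, 0, 4, 1, 2, 2, 1, 1, 3, 5, 2, 3, 3, 4, 2, 0, 0, 3, 3, 0]
def rw2489 : List ℕ := [2, 2, 1, 1, 3, 5, 2, 5, 3, 4, 2, 0, 0, 3, 3, 0, 5, 1, 1, 1, 4, 0, 0, 0, 4, 1]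
def rw2490 : List ℕ := [3, 0, 5, 1, 2, 1, 4, 0, 3, 0, 4, 1, 2, 2, 0, 3, 0, 5, 2, 5, 3, 4, 1, 2, 1, 3]
def rw2491 : List ℕ := [1, 2, 0, 4, 1, 3, 5, 0, 5, 3, 0, 5, 0, 5, 3, 4, 1, 4, 1, 2, 4, 1, 4, 2, 0, 5]
def rw2492 : List ℕ := [1, 1, 4, 0, 0, 4, 0, 4, 4, 0, 0, 4, 0, 4, 4, 5, 5, 5, 1, 5, 1, 1, 5, 5, 1, 5]
def rw2493 : List ℕ := [4, 1, 4, 1, 2, 4, 1, 4, 2, 0, 5, 1, 0, 0, 4, 1, 3, 5, 0, 5, 3, 0, 5, 0, 5, 1]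
def rw2494 : List ℕ := [2, 6, 3, 0, 5, 0, 2, 4, 3, 5, 3, 1, 4, 1, 2, 7, 3, 1, 6, 3, 1, 3, 1, 2, 0, 2, 0, 2, 7, 0]
def rw2495 : List ℕ := [0, 4, 4, 1, 5, 5, 1, 5, 1, 1, 5, 5, 1, 5, 1, 1, 0, 0, 0, 4, 0, 4, 4, 0, 0, 4]
def rw2496 : List ℕ := [3, 1, 5, 1, 1, 0, 0, 0, 4, 0, 2, 4, 2, 2, 4, 4, 4, 1, 5, 5, 5, 3, 3, 5]
def rw2497 : List ℕ := [2, 2, 5, 1, 1, 5, 2, 2, 5, 1, 1, 0, 0, 0, 4, 3, 3, 4, 0, 0, 4, 3, 3, 4, 1, 5]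
def rw2498 : List ℕ := [4, 3, 5, 2, 5, 5, 2, 1, 2, 2, 4, 2, 2, 1, 4, 0, 3, 3, 5, 3, 3, 0, 3, 4]
def rw2499 : List ℕ := [5, 5, 5, 4, 4, 3, 3, 3, 0, 3, 0, 3, 4, 3, 1, 4, 0, 2, 5, 2, 1, 2, 1, 2, 2, 2]
def rw2500 : List ℕ := [0, 5, 0, 5, 5, 0, 5, 0, 5, 5, 3, 4, 4, 1, 4, 1, 4, 4, 1, 4, 1, 2]
def rw2501 : List ℕ := [1, 1, 5, 1, 5, 5, 1, 1, 2, 0, 0, 4, 4, 0, 4, 0, 0, 4, 4, 0, 4, 3, 5, 1, 5, 5]
def rw2502 : List ℕ := [3, 4, 2, 5, 5, 4, 3, 5, 2, 5, 3, 4, 3, 5, 2, 5, 3, 4, 2, 4, 3, 4, 2, 5, 2, 4]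
def rw2503 : List ℕ := [4, 2, 5, 2, 4, 3, 4, 2, 5, 5, 4, 3, 5, 2, 5, 3, 4, 3, 5, 2, 5, 3, 4, 2, 4, 3]
def rw2504 : List ℕ := [4, 3, 5, 1, 3, 5, 3, 3, 5, 5, 5, 1, 1, 2, 0, 0, 4, 4, 4, 2, 2, 4, 2, 0]
def rw2505 : List ℕ := [6, 3, 4, 3, 1, 4, 0, 2, 5, 2, 7, 0, 2, 6, 3, 0, 5, 3, 5, 2, 5, 3, 4, 2, 4, 1, 2, 7, 3, 1]
def rw2506 : List ℕ := [1, 5, 1, 1, 5, 5, 1, 5, 1, 1, 0, 0, 0, 4, 0, 4, 4, 0, 0, 4, 0, 4, 4, 1, 5, 5]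
def rw2507 : List ℕ := [5, 5, 1, 4, 0, 0, 4, 4, 0, 5, 1, 1, 0, 0, 0, 4, 1, 5, 5, 1, 1, 5, 0, 4, 4, 1]
def rw2508 : List ℕ := [0, 4, 4, 3, 1, 1, 6, 0, 0, 2, 5, 5, 1, 7, 7, 5, 6, 2, 7, 2, 7, 7, 6, 3, 6, 3, 7, 4, 6, 6]
def rw2509 : List ℕ := [3, 3, 5, 3, 4, 4, 1, 5, 5, 2, 4, 2, 2, 4, 1, 5, 1, 1, 0, 0, 0, 4, 0, 5]
def rw2510 : List ℕ := [2, 6, 3, 7, 1, 6, 4, 2, 2, 5, 1, 4, 3, 3, 5, 7, 0, 6, 2, 7, 3, 4, 3, 1, 0, 0, 2, 5]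
def rw2511 : List ℕ := [3, 1, 7, 1, 3, 1, 1, 6, 0, 0, 2, 0, 6, 0, 2, 5, 3, 1, 4, 1, 2, 7, 7, 6, 3, 0, 5, 0, 2, 4]
def rw2512 : List ℕ := [0, 0, 4, 4, 0, 5, 1, 1, 4, 0, 0, 4, 1, 5, 5, 1, 1, 5, 0, 4, 4, 5, 5, 5, 1, 4]
def rw2513 : List ℕ := [4, 0, 5, 1, 1, 2, 0, 0, 4, 1, 5, 5, 1, 1, 5, 0, 4, 4, 3, 5, 5, 1, 4, 0, 0, 4]
def rw2514 : List ℕ := [2, 6, 4, 1, 1, 5, 5, 1, 1, 2, 0, 0, 4, 4, 0, 0, 5, 7, 3, 1, 6, 3, 3, 3, 2, 2, 7, 0]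
def rw2515 : List ℕ := [4, 0, 0, 4, 4, 0, 4, 3, 5, 1, 5, 5, 1, 1, 5, 1, 5, 5, 1, 1, 2, 0, 0, 4, 4, 0]
def rw2516 : List ℕ := [0, 5, 3, 5, 1, 4, 2, 4, 1, 2, 4, 2, 4, 2, 5, 3, 1, 0, 0, 2, 4, 3, 5, 3, 5, 3]
def rw2517 : List ℕ := [0, 5, 2, 5, 3, 4, 1, 2, 1, 3, 3, 0, 5, 1, 2, 1, 4, 0, 3, 0, 4, 1, 2, 2, 0, 3]
def rw2518 : List ℕ := [1, 1, 5, 0, 4, 4, 5, 5, 5, 1, 4, 0, 0, 4, 4, 0, 5, 1, 1, 4, 0, 0, 4, 1, 5, 5]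
def rw2519 : List ℕ := [4, 1, 5, 1, 5, 1, 5, 1, 5, 1, 5, 1, 0, 0, 4, 0, 4, 0, 4, 0, 4, 0]
def rw2520 : List ℕ := [3, 1, 1, 1, 4, 0, 0, 0, 2, 5, 0, 3, 3, 1, 2, 1, 4, 5, 5, 0, 3, 0, 2, 2, 1, 4]
def rw2521 : List ℕ := [3, 4, 4, 1, 3, 4, 3, 3, 2, 5, 2, 0, 5, 5, 2, 2, 2, 1, 2, 1, 2, 0, 3, 0, 3, 3]
def rw2522 : List ℕ := [5, 3, 3, 2, 2, 2, 4, 4, 2, 2, 4, 4, 2, 2, 4, 4, 3, 5, 5, 3, 3, 5, 5, 3, 3, 5]
def rw2523 : List ℕ := [2, 0, 3, 3, 5, 3, 3, 0, 3, 4, 4, 3, 3, 2, 5, 5, 2, 1, 2, 2, 4, 2, 2, 1]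
def rw2524 : List ℕ := [5, 2, 0, 3, 4, 1, 5, 2, 1, 3, 4, 4, 3, 4, 4, 0, 3, 1, 0, 0, 2, 1, 5, 5, 2, 5]
def rw2525 : List ℕ := [1, 3, 3, 3, 0, 5, 1, 2, 5, 3, 0, 4, 1, 2, 2, 2, 0, 0, 5, 1, 1, 4, 0, 0, 4, 1]
def rw2526 : List ℕ := [2, 5, 0, 0, 0, 5, 2, 5, 3, 4, 3, 4, 1, 1, 1, 4, 3, 4, 1, 1, 1, 2, 0, 0, 0, 5]
def rw2527 : List ℕ := [4, 1, 1, 3, 0, 3, 0, 5, 1, 1, 0, 0, 0, 4, 1, 2, 1, 2, 0, 0, 5, 1, 2, 1, 3, 0]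
def rw2528 : List ℕ := [5, 2, 2, 4, 4, 1, 5, 5, 3, 3, 4, 1, 5, 5, 3, 3, 4, 1, 0, 0, 5, 2, 2, 4, 4, 0]
def rw2529 : List ℕ := [3, 3, 0, 2, 0, 0, 0, 0, 0, 3, 1, 3, 3, 3]
def rw2530 : List ℕ := [2, 0, 2, 2, 2, 2, 0, 2, 1, 1, 0, 0, 0, 3, 1, 3, 3, 3, 3, 1, 3, 1]
def rw2531 : List ℕ := [0, 3, 0, 2, 5, 0, 3, 1, 2, 1, 4, 3, 1, 2, 1, 5, 0, 3, 3, 1, 0, 0, 2, 2, 1, 4]
def rw2532 : List ℕ := [3, 3, 3, 4, 4, 1, 3, 4, 3, 5, 2, 5, 2, 0, 5, 5, 2, 2, 2, 1, 2, 1, 4, 0, 3, 0]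
def rw2533 : List ℕ := [2, 2, 2, 2, 0, 3, 3, 3, 3, 3, 0, 0, 0, 0, 3, 0, 2, 1, 1, 1, 1, 2]
def rw2534 : List ℕ := [3, 5, 3, 3, 0, 3, 4, 4, 3, 3, 2, 5, 5, 2, 1, 2, 2, 4, 2, 2, 1, 2, 0, 3]
def rw2535 : List ℕ := [4, 1, 0, 0, 5, 3, 5, 0, 5, 3, 5, 1, 4, 2, 4, 1, 4, 2]
def rw2536 : List ℕ := [0, 2, 4, 0, 0, 0, 2, 5, 0, 3, 1, 2, 1, 4, 3, 1, 1, 1, 5, 3, 1, 1, 1, 0, 0, 0]
def rw2537 : List ℕ := [0, 2, 5, 3, 1, 1, 2, 2, 1, 4, 5, 5, 0, 3, 3, 0, 0, 2, 4, 3, 1, 1, 1, 4, 0, 0]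
def rw2538 : List ℕ := [1, 2, 1, 3, 4, 2, 1, 3, 5, 2, 0, 3, 0, 4, 1, 2, 1, 1, 1, 0, 0, 0, 0, 3, 0, 5]
def rw2539 : List ℕ := [0, 0, 3, 0, 5, 1, 1, 3, 0, 4, 2, 3, 3, 5, 1, 2, 0, 0, 4, 1, 2, 1, 1, 1, 2, 0]
def rw2540 : List ℕ := [0, 5, 5, 1, 4, 4, 1, 3, 5, 0, 5, 3, 4, 1, 4, 1, 0, 0, 5, 0, 5, 2, 4, 1, 4, 2]
def rw2541 : List ℕ := [4, 2, 4, 1, 3, 5, 5, 3, 5, 3, 5, 1, 0, 0, 4, 2, 4, 2, 4, 4, 2, 0, 5, 3, 5, 1]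
def rw2542 : List ℕ := [0, 4, 4, 2, 2, 5, 3, 4, 3, 3, 5, 5, 1, 4, 3, 3, 5, 5, 1, 2, 0, 4, 4, 2, 2, 5]
def rw2543 : List ℕ := [0, 2, 1, 5, 0, 3, 0, 2, 2, 1, 4, 5, 5, 0, 3, 3, 1, 2, 1, 4, 0, 3, 1, 1, 4, 0]
def rw2544 : List ℕ := [3, 4, 4, 0, 3, 1, 4, 0, 2, 1, 5, 5, 2, 5, 5, 1, 2, 0, 4, 5, 5, 1, 3, 0, 4, 4]
def rw2545 : List ℕ := [5, 5, 3, 5, 3, 5, 5, 3, 5, 3, 0, 2, 4, 2, 4, 4, 2, 4, 2, 4, 4, 1]
def rw2546 : List ℕ := [1, 1, 3, 0, 3, 0, 5, 2, 1, 3, 4, 1, 2, 1, 2, 0, 0, 5, 1, 1, 1, 0, 0, 0, 0, 4]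
def rw2547 : List ℕ := [2, 4, 4, 2, 0, 5, 3, 5, 5, 4, 2, 4, 1, 3, 5, 5, 3, 5, 3, 5, 1, 4, 0, 4, 2, 4]
def rw2548 : List ℕ := [0, 4, 1, 1, 4, 0, 0, 5, 1, 2, 1, 3, 4, 1, 2, 2, 2, 5, 3, 3, 3, 0, 5, 2, 0, 3]
def rw2549 : List ℕ := [4, 3, 5, 1, 5, 5, 1, 1, 5, 1, 5, 5, 1, 1, 2, 0, 0, 4, 4, 0, 4, 0, 0, 4, 4, 0]
def rw2550 : List ℕ := [5, 2, 0, 3, 4, 5, 5, 2, 1, 3, 4, 4, 3, 4, 4, 0, 3, 1, 4, 0, 2, 1, 5, 5, 2, 5]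
def rw2551 : List ℕ := [2, 2, 5, 5, 5, 4, 4, 3, 3, 3, 0, 3, 0, 3, 4, 3, 1, 4, 0, 2, 5, 2, 1, 2, 1, 2]
def rw2552 : List ℕ := [1, 4, 0, 2, 4, 1, 4, 2, 5, 0, 5, 0, 5, 5, 5, 4, 4, 1, 4, 1, 4, 3, 5, 0, 5, 3]
def rw2553 : List ℕ := [4, 0, 0, 2, 1, 5, 3, 1, 1, 1, 0, 0, 0, 0, 2, 4, 0, 3, 1, 1, 5, 0, 3, 1, 2, 1]
def rw2554 : List ℕ := [2, 2, 0, 0, 5, 2, 1, 3, 4, 1, 1, 3, 3, 3, 0, 5, 1, 1, 1, 0, 0, 0, 0, 4, 1, 2]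
def rw2555 : List ℕ := [1, 5, 2, 2, 5, 1, 1, 4, 0, 0, 4, 3, 3, 4, 0, 0, 4, 3, 3, 4, 5, 5, 2, 2, 5, 1]
def rw2556 : List ℕ := [0, 0, 0, 0, 3, 0, 2, 1, 1, 1, 1, 2, 2, 2, 2, 2, 0, 3, 3, 3, 3, 3]
def rw2557 : List ℕ := [4, 1, 5, 5, 1, 5, 1, 1, 5, 5, 1, 5, 1, 1, 0, 0, 0, 4, 0, 4, 4, 0, 0, 4, 0, 4]
def rw2558 : List ℕ := [2, 1, 2, 0, 0, 5, 1, 2, 5, 3, 0, 4, 1, 1, 3, 0, 3, 0, 5, 1, 1, 4, 0, 0, 4, 1]
def rw2559 : List ℕ := [4, 4, 1, 4, 1, 0, 0, 5, 0, 5, 5, 0, 5, 0, 5, 5, 1, 4, 4, 1, 4, 1]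
def rw2560 : List ℕ := [4, 3, 1, 1, 1, 5, 3, 1, 1, 1, 4, 0, 0, 0, 2, 4, 0, 0, 0, 2, 5, 0, 3, 5, 2, 1]
def rw2561 : List ℕ := [4, 3, 4, 4, 0, 3, 1, 0, 0, 2, 1, 5, 5, 2, 5, 5, 1, 2, 0, 4, 1, 5, 1, 3, 0, 4]
def rw2562 : List ℕ := [2, 1, 3, 4, 4, 3, 4, 4, 0, 3, 1, 4, 0, 2, 1, 5, 5, 2, 5, 5, 2, 0, 3, 4, 5, 5]
def rw2563 : List ℕ := [4, 2, 2, 5, 0, 4, 4, 2, 2, 5, 5, 4, 3, 3, 5, 5, 1, 4, 3, 3, 5, 5, 1, 4, 0, 4]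
def rw2564 : List ℕ := [2, 4, 2, 2, 1, 0, 0, 3, 3, 5, 3, 3, 0, 3, 4, 4, 3, 1, 2, 5, 5, 2, 1, 2]
def rw2565 : List ℕ := [3, 5, 1, 4, 2, 4, 2, 2, 4, 2, 4, 1, 3, 3, 1, 0, 0, 2, 2, 0, 5, 3, 5, 3, 3, 5]
def rw2566 : List ℕ := [1, 1, 1, 2, 0, 0, 0, 2, 5, 3, 1, 1, 2, 2, 1, 4, 3, 5, 0, 3, 3, 0, 0, 2, 4, 3]
def rw2567 : List ℕ := [4, 3, 1, 0, 0, 2, 5, 2, 5, 2, 5, 2, 0, 4, 3, 4, 1, 5, 2, 5, 1, 3, 4, 3, 4, 3]
def rw2568 : List ℕ := [4, 1, 1, 3, 0, 3, 0, 5, 1, 1, 4, 0, 0, 4, 1, 2, 1, 2, 0, 0, 5, 1, 2, 5, 3, 0]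
def rw2569 : List ℕ := [3, 3, 1, 0, 0, 2, 2, 4, 2, 4, 1, 4, 2, 4, 2, 2, 1, 3, 3, 5, 3, 5, 0, 5, 3, 5]
def rw2570 : List ℕ := [5, 0, 4, 4, 3, 5, 5, 1, 4, 0, 0, 4, 4, 0, 5, 1, 1, 2, 0, 0, 4, 1, 5, 5, 1, 1]
def rw2571 : List ℕ := [4, 2, 0, 5, 3, 5, 1, 4, 2, 4, 1, 3, 5, 5, 3, 5, 3, 5, 1, 0, 0, 4, 2, 4, 2, 4]
def rw2572 : List ℕ := [3, 4, 7, 2, 7, 3, 4, 3, 2, 2, 5, 2, 6, 3, 6, 5, 2, 5, 2, 6, 3, 6, 5, 3, 4, 7, 2, 7, 3, 4]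
def rw2573 : List ℕ := [4, 0, 5, 3, 3, 5, 3, 4, 4, 3, 5, 5, 2, 4, 2, 2, 4, 1, 5, 1, 1, 2, 0, 0]
def rw2574 : List ℕ := [1, 4, 0, 0, 5, 3, 3, 5, 0, 0, 5, 3, 3, 5, 5, 4, 2, 2, 4, 1, 1, 4, 2, 2, 4, 1]
def rw2575 : List ℕ := [3, 5, 5, 3, 5, 3, 5, 1, 0, 0, 4, 2, 4, 2, 4, 4, 2, 0, 5, 3, 5, 1, 4, 2, 4, 1]
def rw2576 : List ℕ := [4, 3, 1, 0, 0, 2, 5, 2, 1, 2, 1, 2, 2, 2, 5, 5, 1, 4, 4, 3, 3, 3, 0, 3, 0, 3]
def rw2577 : List ℕ := [1, 5, 5, 4, 0, 5, 0, 5, 0, 3, 5, 0, 5, 3, 1, 4, 0, 2, 4, 1, 4, 2, 1, 4, 1, 4]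
def rw2578 : List ℕ := [0, 3, 0, 3, 1, 1, 2, 0, 0, 2, 1, 2, 1, 4, 0, 0, 2, 1, 5, 3, 4, 0, 3, 1, 1, 5]
def rw2579 : List ℕ := [2, 2, 5, 1, 1, 4, 0, 0, 4, 3, 3, 4, 0, 0, 4, 3, 3, 4, 5, 5, 2, 2, 5, 1, 1, 5]
def rw2580 : List ℕ := [4, 2, 0, 0, 3, 3, 0, 5, 1, 1, 1, 2, 0, 0, 0, 4, 1, 2, 2, 1, 1, 3, 5, 2, 3, 3]
def rw2581 : List ℕ := [2, 6, 1, 5, 3, 1, 2, 0, 2, 4, 0, 7, 3, 5, 6, 3, 3, 0, 2, 4, 4, 3, 5, 5, 3, 1, 2, 2, 7, 4]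
def rw2582 : List ℕ := [1, 2, 2, 5, 3, 1, 2, 0, 2, 4, 3, 3, 0, 7, 0, 5, 6, 1, 2, 4, 3, 5, 3, 0, 7, 4, 1, 6]
def rw2583 : List ℕ := [5, 1, 5, 1, 5, 1, 5, 1, 2, 0, 4, 0, 4, 0, 4, 0, 4, 0, 4, 3, 5, 1]
def rw2584 : List ℕ := [5, 5, 3, 3, 6, 2, 2, 4, 4, 2, 2, 4, 4, 2, 2, 4, 4, 7, 5, 5, 3, 3, 5, 5, 3, 3]
def rw2585 : List ℕ := [4, 3, 4, 2, 5, 3, 4, 3, 5, 2, 5, 3, 4, 3, 5, 2, 5, 3, 2, 2, 4, 3, 4, 2, 5, 2]
def rw2586 : List ℕ := [4, 3, 4, 3, 4, 3, 1, 0, 0, 2, 5, 2, 5, 2, 5, 2, 0, 4, 3, 4, 1, 5, 2, 5, 1, 3]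
def rw2587 : List ℕ := [3, 0, 5, 1, 2, 0, 0, 4, 2, 5, 3, 5, 1, 1, 3, 0, 4, 1, 2, 2, 1, 1, 4, 0, 0, 3]
def rw2588 : List ℕ := [0, 4, 1, 1, 3, 0, 3, 0, 5, 1, 1, 4, 0, 0, 4, 1, 2, 1, 2, 0, 0, 5, 1, 2, 5, 3]
def rw2589 : List ℕ := [2, 5, 3, 5, 1, 2, 0, 0, 4, 1, 2, 1, 1, 1, 4, 0, 0, 0, 3, 0, 5, 1, 1, 3, 0, 4]
def rw2590 : List ℕ := [4, 2, 0, 0, 5, 0, 5, 1, 4, 1, 4, 1, 1, 3, 5, 0, 5, 3, 1, 1, 0, 0, 0, 2, 4, 1]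
def rw2591 : List ℕ := [1, 2, 2, 2, 5, 5, 5, 4, 4, 3, 3, 3, 0, 3, 0, 3, 4, 3, 1, 4, 0, 2, 5, 2, 1, 2]
def rw2592 : List ℕ := [0, 3, 0, 5, 1, 1, 3, 0, 4, 2, 5, 3, 5, 1, 2, 0, 0, 4, 1, 2, 1, 1, 1, 4, 0, 0]
def rw2593 : List ℕ := [5, 5, 1, 1, 5, 5, 1, 1, 5, 5, 1, 1, 0, 0, 0, 4, 4, 0, 0, 4, 4, 0, 0, 4, 4, 1]
def rw2594 : List ℕ := [2, 2, 1, 1, 3, 5, 2, 1, 3, 4, 2, 0, 0, 3, 3, 0, 5, 1, 1, 1, 0, 0, 0, 0, 4, 1]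
def rw2595 : List ℕ := [1, 2, 2, 1, 1, 3, 5, 2, 1, 3, 4, 2, 0, 0, 3, 3, 0, 5, 1, 1, 1, 0, 0, 0, 0, 4]
def rw2596 : List ℕ := [2, 5, 0, 3, 3, 3, 1, 1, 2, 0, 0, 2, 2, 2, 1, 4, 3, 1, 2, 1, 5, 3, 4, 0, 3, 0]
def rw2597 : List ℕ := [0, 4, 4, 0, 5, 1, 1, 0, 0, 0, 4, 1, 5, 5, 1, 1, 5, 0, 4, 4, 1, 5, 5, 1, 4, 0]
def rw2598 : List ℕ := [5, 1, 5, 1, 5, 1, 5, 1, 0, 0, 4, 0, 4, 0, 4, 0, 4, 0, 4, 1, 5, 1]
def rw2599 : List ℕ := [6, 4, 2, 0, 5, 7, 2, 7, 2, 3, 3, 6, 3, 6, 4, 1, 3, 5, 7, 2, 7, 5, 3, 1, 2, 0, 2, 4, 6, 3]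
def rw2600 : List ℕ := [1, 1, 2, 0, 0, 0, 4, 1, 2, 2, 2, 0, 0, 5, 2, 3, 3, 4, 1, 1, 3, 3, 3, 0, 5, 1]
def rw2601 : List ℕ := [5, 2, 4, 2, 4, 1, 5, 3, 5, 3, 4, 3, 5, 3, 5, 3, 3, 3, 0, 2, 2, 2, 4, 2, 4, 2]
def rw2602 : List ℕ := [4, 3, 3, 4, 0, 0, 4, 3, 3, 4, 3, 5, 2, 2, 5, 1, 1, 5, 2, 2, 5, 1, 1, 2, 0, 0]
def rw2603 : List ℕ := [3, 7, 1, 6, 2, 7, 4, 1, 5, 6, 5, 2, 0, 4, 3, 1, 0, 0, 2, 5, 1, 3, 4, 7, 4, 0, 5, 6]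
def rw2604 : List ℕ := [6, 3, 7, 5, 6, 5, 2, 5, 2, 5, 1, 2, 0, 4, 3, 4, 3, 4, 7, 4, 6, 2, 7, 4, 4, 3, 5, 5]
def rw2605 : List ℕ := [3, 7, 5, 6, 5, 2, 5, 2, 5, 1, 0, 0, 4, 3, 4, 3, 4, 7, 4, 6, 2, 7, 4, 4, 1, 5, 5, 6]
def rw2606 : List ℕ := [5, 1, 1, 1, 0, 0, 0, 0, 4, 1, 2, 2, 1, 1, 3, 5, 2, 1, 3, 4, 2, 0, 0, 3, 3, 0]
def rw2607 : List ℕ := [3, 3, 4, 0, 0, 4, 3, 3, 4, 5, 5, 2, 2, 5, 1, 1, 5, 2, 2, 5, 1, 1, 4, 0, 0, 4]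
def rw2608 : List ℕ := [1, 4, 3, 1, 2, 1, 5, 0, 3, 3, 1, 0, 0, 2, 2, 1, 4, 0, 3, 0, 2, 5, 0, 3, 1, 2]
def rw2609 : List ℕ := [5, 5, 5, 3, 5, 3, 5, 2, 5, 3, 5, 3, 0, 2, 4, 2, 4, 3, 4, 2, 4, 2, 4, 4, 4, 1]
def rw2610 : List ℕ := [5, 1, 3, 0, 4, 4, 3, 4, 4, 3, 1, 0, 0, 2, 5, 5, 2, 5, 5, 1, 2, 0, 4, 3, 1, 2]
def rw2611 : List ℕ := [1, 6, 4, 4, 0, 3, 4, 4, 1, 1, 1, 4, 0, 0, 0, 5, 5, 2, 1, 5, 5, 7, 0, 2, 6, 4, 5, 5, 7, 3]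
def rw2612 : List ℕ := [1, 3, 4, 1, 2, 1, 1, 1, 4, 0, 0, 0, 3, 0, 5, 2, 0, 0, 0, 4, 2, 5, 3, 5, 1, 1]
def rw2613 : List ℕ := [3, 5, 6, 3, 1, 2, 7, 4, 2, 6, 1, 5, 3, 1, 5, 5, 0, 3, 1, 0, 0, 2, 1, 4, 4, 0, 2, 4, 0, 7]
def rw2614 : List ℕ := [1, 6, 3, 3, 3, 1, 6, 0, 2, 2, 2, 7, 0, 5, 0, 2, 4, 2, 4, 2, 6, 7, 7, 3, 5, 3, 5, 3, 1, 4]
def rw2615 : List ℕ := [2, 0, 5, 0, 2, 0, 5, 3, 4, 1, 3, 1, 4, 1, 3, 1, 4, 1, 3, 1, 2, 0, 2, 0, 5, 0]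
def rw2616 : List ℕ := [3, 4, 7, 0, 5, 3, 1, 2, 0, 2, 4, 1, 6, 5, 2, 5, 2, 0, 5, 2, 7, 3, 6, 3, 4, 1, 3, 4]
def rw2617 : List ℕ := [6, 1, 2, 0, 2, 7, 2, 7, 2, 7, 3, 6, 3, 6, 3, 1, 3, 0, 7, 2, 7, 1, 1, 1, 6, 0, 0, 0, 6, 3]
def rw2618 : List ℕ := [6, 2, 1, 1, 6, 0, 0, 3, 7, 2, 7, 5, 5, 0, 7, 0, 3, 1, 7, 7, 6, 0, 2, 1, 6, 1, 4, 4, 6, 3]
def rw2619 : List ℕ := [3, 7, 2, 7, 1, 2, 5, 3, 0, 6, 3, 6, 2, 0, 7, 2, 7, 1, 1, 4, 0, 0, 6, 3, 6, 1]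
def rw2620 : List ℕ := [6, 3, 6, 2, 0, 7, 2, 7, 1, 1, 6, 0, 0, 6, 3, 6, 1, 3, 7, 2, 7, 1, 2, 7, 3, 0]
def rw2621 : List ℕ := [7, 4, 5, 5, 6, 0, 2, 7, 2, 7, 1, 5, 6, 3, 1, 3, 1, 4, 0, 2, 0, 2, 7, 4, 0, 6, 3, 6, 3, 1]
def rw2622 : List ℕ := [7, 2, 7, 2, 2, 7, 7, 3, 1, 6, 0, 2, 6, 6, 3, 3, 6, 3, 6, 4, 2, 7, 2, 7, 3, 6, 3, 5]
def rw2623 : List ℕ := [7, 2, 7, 1, 2, 0, 7, 2, 7, 1, 1, 4, 0, 0, 6, 3, 6, 1, 3, 0, 6, 3, 6, 2, 5, 3]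
def rw2624 : List ℕ := [7, 2, 7, 2, 0, 3, 7, 2, 7, 3, 1, 6, 0, 2, 6, 3, 6, 2, 1, 3, 6, 3, 6, 1, 2, 2, 7, 3, 3, 0]
def rw2625 : List ℕ := [5, 2, 4, 2, 2, 4, 1, 5, 1, 1, 0, 0, 0, 4, 0, 5, 3, 3, 5, 3, 4, 4, 1, 5]
def rw2626 : List ℕ := [0, 4, 4, 4, 2, 2, 4, 2, 0, 4, 3, 5, 1, 3, 5, 3, 3, 5, 5, 5, 1, 1, 2, 0]
def rw2627 : List ℕ := [2, 7, 1, 1, 2, 0, 0, 6, 3, 6, 1, 4, 3, 1, 7, 4, 3, 1, 7, 3, 6, 0, 2, 5, 6, 0, 2, 5, 0, 7]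
def rw2628 : List ℕ := [1, 5, 1, 5, 1, 5, 1, 2, 0, 4, 0, 4, 0, 4, 0, 4, 0, 4, 3, 5, 1, 5]
def rw2629 : List ℕ := [5, 2, 7, 4, 5, 5, 6, 3, 4, 6, 6, 5, 1, 2, 2, 4, 4, 2, 1, 4, 0, 3, 5, 5, 3, 3, 0, 4, 7, 7]
def rw2630 : List ℕ := [1, 2, 0, 4, 3, 1, 2, 5, 1, 3, 0, 4, 4, 3, 4, 4, 3, 1, 0, 0, 2, 5, 5, 2, 5, 5]
def rw2631 : List ℕ := [2, 0, 0, 4, 1, 2, 1, 1, 1, 2, 0, 0, 0, 3, 0, 5, 1, 1, 3, 0, 4, 2, 3, 3, 5, 1]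
def rw2632 : List ℕ := [5, 3, 1, 1, 0, 0, 0, 2, 4, 0, 3, 0, 2, 5, 0, 3, 3, 1, 2, 2, 1, 4, 3, 1, 2, 1]
def rw2633 : List ℕ := [0, 5, 3, 1, 6, 0, 2, 4, 1, 4, 2, 0, 4, 1, 4, 1, 4, 7, 5, 0, 5, 0, 5, 1, 3, 5]
def rw2634 : List ℕ := [3, 5, 3, 5, 5, 0, 5, 2, 7, 7, 6, 3, 4, 1, 4, 4, 2, 4, 2, 4, 2, 7, 3, 1, 6, 0, 2, 6, 3, 5]
def rw2635 : List ℕ := [5, 3, 5, 3, 5, 1, 4, 1, 6, 3, 3, 3, 1, 2, 0, 2, 2, 2, 7, 0, 5, 0, 4, 2, 4, 2, 4, 6, 3, 7]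
def rw2636 : List ℕ := [4, 2, 4, 2, 1, 4, 1, 6, 3, 7, 0, 5, 0, 3, 5, 3, 5, 3, 6, 3, 0, 3, 1, 2, 0, 2, 1, 2, 7, 2]
def rw2637 : List ℕ := [5, 2, 6, 0, 4, 3, 4, 3, 3, 1, 6, 0, 2, 2, 5, 2, 5, 1, 7, 3, 4, 3, 4, 3, 6, 7, 7, 2, 5, 2]
def rw2638 : List ℕ := [2, 6, 5, 2, 5, 2, 0, 5, 3, 3, 1, 6, 0, 2, 2, 4, 1, 3, 4, 3, 4, 7, 3, 5, 6, 7, 7, 4]
def rw2639 : List ℕ := [1, 7, 3, 4, 3, 4, 3, 6, 7, 7, 2, 5, 2, 5, 2, 6, 0, 4, 3, 4, 3, 3, 1, 6, 0, 2, 2, 5, 2, 5]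
def rw2640 : List ℕ := [0, 2, 6, 0, 4, 5, 5, 1, 7, 3, 1, 3, 5, 6, 5, 1, 3, 4, 3, 1, 4, 0, 2, 5, 2, 0, 4, 7, 4, 2]
def rw2641 : List ℕ := [0, 5, 6, 3, 7, 4, 1, 2, 0, 2, 5, 3, 1, 6, 3, 3, 3, 1, 2, 0, 2, 2, 2, 7, 0, 2, 4, 3, 1, 3]
def rw2642 : List ℕ := [3, 1, 6, 0, 2, 0, 3, 5, 3, 5, 0, 5, 3, 5, 3, 7, 2, 4, 2, 4, 1, 4, 2, 4, 2, 1]
def rw2643 : List ℕ := [7, 3, 1, 6, 0, 2, 5, 3, 1, 4, 0, 2, 4, 3, 1, 7, 0, 2, 6, 3, 0, 5, 5, 4, 1, 2]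
def rw2644 : List ℕ := [2, 7, 3, 1, 6, 0, 2, 5, 3, 1, 2, 0, 2, 4, 3, 1, 7, 0, 2, 6, 3, 0, 5, 3, 4, 1]
def rw2645 : List ℕ := [1, 2, 2, 2, 5, 5, 3, 4, 4, 3, 3, 3, 0, 3, 0, 3, 4, 3, 1, 2, 0, 2, 5, 2, 1, 2]
def rw2646 : List ℕ := [0, 3, 1, 6, 0, 2, 1, 4, 4, 0, 2, 4, 0, 7, 3, 5, 6, 3, 7, 2, 7, 4, 2, 6, 1, 5, 3, 1, 5, 5]
def rw2647 : List ℕ := [6, 3, 4, 3, 5, 2, 7, 0, 6, 3, 6, 4, 6, 2, 7, 4, 1, 2, 0, 5, 6, 3, 7, 5, 7, 2, 7, 1]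
def rw2648 : List ℕ := [4, 7, 0, 5, 3, 1, 6, 0, 2, 4, 1, 6, 5, 2, 5, 2, 0, 5, 2, 7, 7, 6, 3, 4, 1, 3, 4, 3]
def rw2649 : List ℕ := [6, 3, 7, 2, 7, 3, 5, 3, 1, 3, 5, 0, 5, 6, 3, 3, 1, 6, 0, 2, 2, 7, 4, 1, 4, 2, 0, 2, 4, 2]
def rw2650 : List ℕ := [7, 4, 1, 6, 1, 3, 3, 1, 2, 0, 2, 2, 0, 7, 0, 5, 6, 3, 3, 7, 0, 5, 6, 3, 7, 4, 1, 6, 2, 2]
def rw2651 : List ℕ := [4, 4, 1, 4, 1, 4, 4, 1, 4, 1, 0, 0, 5, 0, 5, 5, 0, 5, 0, 5, 5, 1]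
def rw2652 : List ℕ := [6, 0, 2, 2, 2, 7, 3, 1, 3, 1, 6, 0, 2, 0, 2, 6, 3, 3, 3, 1, 7, 4, 2, 0, 5, 7, 4, 1, 3, 5]
def rw2653 : List ℕ := [3, 3, 1, 2, 1, 4, 1, 5, 0, 3, 0, 2, 2, 1, 4, 3, 1, 1, 1, 0, 0, 0, 0, 2, 5, 0]
def rw2654 : List ℕ := [1, 6, 1, 7, 0, 2, 6, 3, 4, 1, 4, 1, 3, 5, 0, 3, 1, 0, 0, 2, 1, 4, 2, 0, 5, 0, 5, 2, 7, 3]
def rw2655 : List ℕ := [4, 1, 3, 4, 3, 5, 2, 5, 2, 0, 5, 5, 2, 2, 2, 1, 2, 1, 4, 0, 3, 0, 3, 3, 3, 4]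
def rw2656 : List ℕ := [7, 2, 7, 5, 2, 5, 3, 4, 6, 3, 6, 4, 2, 0, 5, 7, 2, 7, 3, 1, 4, 0, 2, 6, 3, 6, 4, 1, 3, 5]
def rw2657 : List ℕ := [5, 6, 4, 4, 1, 4, 2, 2, 4, 1, 4, 0, 5, 3, 3, 5, 0, 5, 5, 7, 4, 1, 3, 5, 6, 5, 7, 4, 2, 0]
def rw2658 : List ℕ := [7, 1, 3, 1, 2, 0, 2, 0, 6, 3, 6, 4, 1, 3, 5, 7, 2, 7, 5, 3, 4, 6, 3, 6, 4, 2, 0, 5, 7, 2]
def rw2659 : List ℕ := [7, 2, 7, 5, 5, 4, 6, 3, 6, 4, 2, 0, 5, 7, 2, 7, 1, 3, 1, 4, 0, 2, 0, 6, 3, 6, 4, 1, 3, 5]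
def rw2660 : List ℕ := [1, 6, 5, 3, 4, 3, 4, 2, 5, 5, 4, 3, 5, 2, 5, 2, 4, 7, 0, 5, 6, 1, 2, 1, 4, 0, 3, 0, 7, 4]
def rw2661 : List ℕ := [7, 0, 5, 6, 1, 2, 1, 2, 0, 3, 0, 7, 4, 1, 6, 5, 3, 4, 3, 4, 2, 5, 3, 4, 3, 5, 2, 5, 2, 4]
def rw2662 : List ℕ := [4, 1, 6, 5, 3, 4, 3, 4, 2, 5, 5, 4, 3, 5, 2, 5, 2, 4, 7, 0, 5, 6, 1, 2, 1, 4, 0, 3, 0, 7]
def rw2663 : List ℕ := [2, 6, 5, 7, 3, 1, 6, 4, 2, 4, 1, 3, 0, 5, 0, 3, 1, 4, 0, 2, 1, 4, 1, 2, 0, 5, 3, 5, 7, 0]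
def rw2664 : List ℕ := [7, 4, 2, 2, 7, 0, 7, 2, 7, 1, 0, 0, 6, 3, 6, 1, 6, 3, 3, 5, 6, 3, 3, 5, 3, 1, 2, 4, 2, 2]
def rw2665 : List ℕ := [6, 6, 5, 1, 2, 2, 4, 4, 2, 1, 0, 0, 3, 5, 5, 3, 3, 0, 4, 7, 7, 5, 2, 7, 4, 1, 5, 6, 3, 4]
def rw2666 : List ℕ := [0, 5, 2, 2, 4, 4, 1, 5, 5, 3, 3, 4, 1, 5, 5, 3, 3, 4, 1, 0, 0, 5, 2, 2, 4, 4]
def rw2667 : List ℕ := [7, 2, 2, 7, 5, 3, 5, 1, 4, 2, 4, 6, 3, 3, 6, 6, 5, 2, 0, 5, 2, 1, 0, 0, 3, 4, 1, 3, 4, 7]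
def rw2668 : List ℕ := [6, 3, 6, 5, 0, 7, 2, 7, 1, 1, 2, 0, 0, 6, 3, 6, 1, 4, 7, 2, 7, 1, 5, 3, 4, 0]
def rw2669 : List ℕ := [7, 3, 1, 6, 3, 3, 5, 5, 1, 1, 0, 0, 0, 4, 4, 2, 2, 7, 0, 2, 6, 4, 4, 4, 1, 5, 5, 5]
def rw2670 : List ℕ := [7, 3, 1, 6, 4, 4, 0, 3, 4, 4, 1, 1, 1, 0, 0, 0, 0, 5, 5, 2, 1, 5, 5, 7, 0, 2, 6, 4, 1, 5]
def rw2671 : List ℕ := [7, 3, 1, 4, 2, 0, 5, 0, 2, 6, 3, 7, 3, 1, 4, 1, 3, 5, 0, 2, 6, 3, 3, 3, 1, 2, 0, 2, 2, 2]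
def rw2672 : List ℕ := [7, 3, 5, 6, 1, 7, 4, 2, 6, 5, 2, 5, 2, 0, 5, 3, 3, 1, 0, 0, 2, 2, 4, 1, 3, 4, 3, 4]
def rw2673 : List ℕ := [5, 3, 1, 5, 5, 0, 3, 1, 4, 0, 2, 1, 4, 4, 0, 2, 4, 0, 7, 3, 5, 6, 3, 5, 2, 7, 4, 2, 6, 1]
def rw2674 : List ℕ := [4, 1, 6, 5, 2, 5, 1, 2, 0, 4, 3, 4, 7, 0, 5, 6, 3, 0, 5, 3, 5, 3, 4, 2, 4, 1, 2, 7]
def rw2675 : List ℕ := [5, 2, 5, 7, 0, 5, 6, 3, 5, 1, 4, 2, 7, 4, 1, 6, 4, 3, 4, 2, 2, 1, 2, 1, 0, 0, 3, 0, 3, 3]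
def rw2676 : List ℕ := [5, 2, 5, 6, 3, 6, 3, 4, 7, 5, 2, 7, 2, 7, 4, 3, 4, 0, 6, 3, 6, 5, 1, 6, 0, 4, 7, 2, 7, 1]
def rw2677 : List ℕ := [0, 4, 0, 6, 3, 1, 2, 7, 1, 5, 1, 5, 1, 2, 7, 1, 5, 1, 5, 1, 0, 0, 4, 0, 4, 0, 6, 3, 0, 4]
def rw2678 : List ℕ := [4, 3, 4, 7, 4, 2, 2, 7, 3, 3, 5, 6, 5, 2, 5, 5, 2, 7, 5, 2, 5, 1, 6, 0, 4, 3, 4, 6, 3, 4]
def rw2679 : List ℕ := [5, 0, 2, 6, 5, 7, 3, 1, 4, 1, 3, 5, 0, 2, 6, 3, 3, 3, 1, 4, 0, 2, 2, 2, 7, 3, 1, 4, 2, 0]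
def rw2680 : List ℕ := [3, 6, 0, 3, 3, 1, 2, 0, 2, 2, 1, 7, 2, 7, 2, 5, 0, 5, 6, 3, 6, 3, 7, 2, 7, 4, 1, 4, 3, 6]
def rw2681 : List ℕ := [6, 3, 6, 0, 3, 3, 1, 4, 0, 2, 2, 1, 7, 2, 7, 2, 5, 0, 5, 6, 3, 6, 5, 7, 2, 7, 4, 1, 4, 3]
def rw2682 : List ℕ := [3, 5, 6, 1, 7, 4, 2, 0, 5, 6, 4, 4, 1, 4, 2, 2, 4, 1, 0, 0, 5, 3, 3, 5, 0, 5, 5, 7, 4, 1]
def rw2683 : List ℕ := [2, 7, 7, 6, 3, 0, 5, 0, 2, 4, 3, 1, 7, 1, 3, 1, 1, 6, 0, 0, 2, 0, 6, 0, 2, 5, 3, 1, 4, 1]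
def rw2684 : List ℕ := [2, 7, 1, 2, 1, 4, 0, 3, 0, 6, 3, 6, 1, 3, 7, 2, 7, 2, 5, 3, 6, 3, 6, 2, 0, 7]
def rw2685 : List ℕ := [6, 1, 3, 7, 2, 7, 3, 1, 2, 0, 2, 6, 3, 6, 2, 0, 7, 2, 7, 1, 2, 2, 2, 3, 3, 3, 3, 0, 6, 3]
def rw2686 : List ℕ := [3, 6, 1, 3, 7, 2, 7, 5, 6, 3, 6, 2, 0, 7, 2, 7, 1, 2, 2, 1, 3, 1, 4, 0, 2, 0, 3, 3, 0, 6]
def rw2687 : List ℕ := [5, 0, 2, 5, 0, 2, 5, 5, 4, 3, 1, 4, 3, 1, 4, 3, 1, 4, 3, 1, 4, 0, 2, 5, 0, 2]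
def rw2688 : List ℕ := [2, 1, 5, 5, 4, 0, 3, 1, 1, 5, 0, 3, 0, 3, 1, 1, 4, 0, 0, 2, 1, 2, 1, 4, 0, 0]
def rw2689 : List ℕ := [1, 1, 2, 0, 0, 0, 3, 3, 1, 3, 0, 3, 3, 0, 2, 3, 3, 1, 2, 2, 1, 2, 0, 2, 2, 1]
def rw2690 : List ℕ := [4, 2, 2, 1, 4, 0, 3, 3, 5, 3, 3, 0, 3, 4, 4, 3, 5, 2, 5, 5, 2, 1, 2, 2]
def rw2691 : List ℕ := [5, 2, 5, 3, 4, 3, 4, 1, 1, 1, 4, 3, 4, 1, 1, 1, 2, 0, 0, 0, 5, 2, 5, 0, 0, 0]
def rw2692 : List ℕ := [3, 0, 5, 1, 2, 0, 0, 4, 2, 3, 3, 5, 1, 1, 3, 0, 4, 1, 2, 2, 1, 1, 2, 0, 0, 3]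
def rw2693 : List ℕ := [2, 7, 4, 3, 1, 3, 6, 3, 6, 1, 7, 2, 7, 2, 0, 2, 5, 6, 3, 6, 3, 4, 3, 1, 0, 0, 2, 5, 2, 7]
def rw2694 : List ℕ := [6, 3, 7, 5, 6, 5, 2, 5, 2, 5, 1, 6, 0, 4, 3, 4, 3, 4, 7, 4, 6, 2, 7, 4, 4, 7, 5, 5]
def rw2695 : List ℕ := [1, 5, 5, 6, 3, 7, 5, 6, 5, 2, 5, 2, 5, 1, 0, 0, 4, 3, 4, 3, 4, 7, 4, 6, 2, 7, 4, 4]
def rw2696 : List ℕ := [3, 6, 0, 2, 5, 0, 5, 6, 3, 6, 3, 3, 1, 0, 0, 2, 2, 7, 2, 7, 4, 1, 4, 3, 1, 7, 2, 7, 1, 6]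
def rw2697 : List ℕ := [7, 0, 6, 0, 3, 1, 6, 0, 2, 1, 7, 1, 6, 1, 5, 5, 1, 3, 4, 6, 7, 7, 5, 2, 0, 4, 4, 0]
def rw2698 : List ℕ := [4, 4, 2, 2, 5, 0, 4, 4, 2, 2, 5, 3, 4, 3, 3, 5, 5, 1, 4, 3, 3, 5, 5, 1, 2, 0]
def rw2699 : List ℕ := [6, 6, 3, 4, 5, 5, 2, 7, 7, 2, 7, 1, 4, 6, 2, 7, 4, 1, 4, 0, 5, 6, 3, 7, 5, 0, 6, 3]
def rw2700 : List ℕ := [3, 6, 0, 4, 1, 4, 3, 1, 2, 0, 2, 5, 0, 5, 1, 7, 2, 7, 2, 2, 6, 3, 6, 3, 7, 2, 7, 3, 3, 6]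
def rw2701 : List ℕ := [7, 2, 5, 0, 5, 6, 3, 6, 7, 7, 2, 7, 4, 1, 4, 3, 6, 3, 6, 0, 3, 3, 1, 6, 0, 2, 2, 1, 7, 2]
def rw2702 : List ℕ := [2, 7, 2, 2, 6, 3, 6, 3, 7, 2, 7, 3, 3, 6, 3, 6, 0, 4, 1, 4, 3, 1, 2, 0, 2, 5, 0, 5, 1, 7]
def rw2703 : List ℕ := [5, 1, 7, 1, 5, 1, 3, 1, 2, 0, 2, 0, 4, 0, 6, 0, 4, 7, 2, 0, 4, 3, 6, 3, 7, 2, 5, 1, 3, 6]
def rw2704 : List ℕ := [5, 5, 1, 3, 4, 6, 3, 1, 2, 7, 5, 2, 0, 4, 4, 0, 7, 0, 6, 3, 1, 0, 0, 2, 7, 1, 6, 1]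
def rw2705 : List ℕ := [1, 5, 0, 4, 4, 5, 5, 5, 1, 4, 0, 0, 4, 4, 0, 5, 1, 1, 4, 0, 0, 4, 1, 5, 5, 1]
def rw2706 : List ℕ := [7, 3, 5, 6, 3, 3, 0, 2, 4, 4, 3, 5, 5, 3, 1, 2, 2, 7, 4, 2, 6, 1, 5, 3, 1, 2, 0, 2, 4, 0]
def rw2707 : List ℕ := [4, 1, 2, 2, 0, 3, 0, 5, 1, 1, 1, 2, 0, 0, 0, 4, 1, 2, 1, 3, 3, 0, 5, 2, 3, 3]
def rw2708 : List ℕ := [3, 3, 1, 1, 2, 0, 0, 2, 2, 2, 1, 4, 3, 1, 2, 1, 5, 3, 4, 0, 3, 0, 2, 5, 0, 3]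
def rw2709 : List ℕ := [3, 1, 7, 2, 4, 6, 3, 3, 1, 6, 0, 2, 2, 7, 5, 3, 6, 0, 2, 6, 4, 1, 7, 2, 7, 3, 6, 0, 5, 7]
def rw2710 : List ℕ := [3, 3, 1, 3, 3, 1, 6, 0, 2, 2, 0, 2, 2, 7]
def rw2711 : List ℕ := [2, 7, 3, 1, 6, 0, 2, 6, 3, 4, 3, 5, 5, 0, 5, 3, 3, 5, 7, 7, 6, 4, 2, 2, 4, 1, 4, 4, 2, 5]
def rw2712 : List ℕ := [0, 2, 2, 0, 2, 2, 1, 3, 3, 1, 3, 3, 1, 0]
def rw2713 : List ℕ := [3, 4, 4, 3, 3, 2, 5, 5, 2, 1, 2, 2, 4, 2, 2, 1, 2, 0, 3, 3, 5, 3, 3, 0]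
def rw2714 : List ℕ := [5, 2, 1, 2, 2, 4, 2, 2, 1, 0, 0, 3, 3, 5, 3, 3, 0, 3, 4, 4, 3, 1, 2, 5]
def rw2715 : List ℕ := [1, 5, 1, 6, 0, 4, 0, 4, 0, 6, 3, 0, 4, 0, 4, 0, 6, 3, 7, 2, 7, 1, 5, 1, 5, 1, 2, 7, 1, 5]
def rw2716 : List ℕ := [5, 7, 2, 7, 1, 7, 2, 7, 1, 4, 0, 6, 3, 6, 0, 6, 3, 6]
def rw2717 : List ℕ := [3, 6, 6, 5, 1, 0, 0, 4, 7, 7, 2, 7, 1, 6, 1, 4, 1, 4, 4, 1, 5, 5, 0, 5, 0, 7, 0, 6]
def rw2718 : List ℕ := [0, 6, 3, 6, 0, 6, 3, 6, 5, 7, 2, 7, 1, 7, 2, 7, 1, 4]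
def rw2719 : List ℕ := [1, 6, 1, 5, 5, 1, 3, 4, 6, 3, 7, 5, 2, 0, 4, 4, 0, 7, 0, 6, 0, 3, 1, 2, 0, 2, 1, 7]
def rw2720 : List ℕ := [7, 2, 7, 5, 3, 1, 0, 0, 2, 4, 6, 3, 6, 4, 2, 0, 5, 7, 2, 7, 2, 1, 3, 6, 3, 6, 4, 1, 3, 5]
def rw2721 : List ℕ := [3, 6, 4, 2, 0, 5, 7, 2, 7, 1, 3, 1, 6, 0, 2, 0, 6, 3, 6, 4, 1, 3, 5, 7, 2, 7, 5, 7, 4, 6]
def rw2722 : List ℕ := [1, 7, 1, 6, 3, 7, 0, 6, 0, 6, 6, 5, 1, 4, 0, 2, 5, 3, 1, 2, 0, 2, 4, 3, 1, 5, 0, 4, 7, 7]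
def rw2723 : List ℕ := [2, 0, 6, 6, 4, 3, 4, 4, 1, 5, 5, 2, 5, 7, 7, 1, 3, 6, 6, 3, 3, 1, 1, 0, 0, 0, 2, 2, 7, 7]
def rw2724 : List ℕ := [6, 6, 3, 3, 1, 1, 2, 0, 0, 2, 2, 7, 7, 2, 0, 6, 6, 4, 3, 4, 4, 3, 5, 5, 2, 5, 7, 7, 1, 3]
def rw2725 : List ℕ := [2, 6, 0, 5, 7, 1, 3, 1, 6, 0, 2, 0, 6, 4, 1, 7, 3, 1, 7, 5, 3, 6, 3, 7, 2, 7, 2, 4, 6, 0]
def rw2726 : List ℕ := [5, 6, 3, 7, 5, 5, 4, 6, 2, 7, 4, 1, 6, 3, 6, 6, 3, 4, 1, 4, 0, 5, 2, 7, 7, 2, 7, 0]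
def rw2727 : List ℕ := [7, 1, 6, 0, 6, 3, 6, 0, 6, 3, 6, 7, 7, 2, 7, 1, 7, 2]
def rw2728 : List ℕ := [7, 1, 5, 5, 4, 0, 6, 3, 6, 5, 0, 7, 2, 7, 1, 1, 4, 0, 0, 6, 3, 6, 1, 4, 7, 2]
def rw2729 : List ℕ := [0, 6, 0, 3, 1, 2, 0, 2, 1, 7, 1, 6, 1, 5, 5, 1, 3, 4, 6, 3, 7, 5, 2, 0, 4, 4, 0, 7]
def rw2730 : List ℕ := [7, 1, 7, 1, 7, 1, 3, 6, 0, 6, 3, 1, 0, 0, 2, 7, 1, 7, 2, 0, 6, 0, 6, 0, 6, 0, 6, 1, 7, 1]
def rw2731 : List ℕ := [7, 1, 3, 6, 6, 3, 3, 1, 1, 4, 0, 0, 2, 2, 7, 7, 2, 0, 6, 6, 4, 3, 4, 4, 5, 5, 5, 2, 5, 7]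
def rw2732 : List ℕ := [4, 7, 4, 7, 4, 7, 4, 7, 7, 6, 5, 6, 5, 6, 5, 6, 5, 6]
def rw2733 : List ℕ := [2, 7, 1, 6, 5, 1, 2, 0, 4, 7, 0, 6, 3, 6, 6, 1, 4, 1, 4, 4, 3, 5, 5, 0, 5, 0, 7, 7]
def rw2734 : List ℕ := [6, 3, 7, 1, 3, 6, 3, 6, 6, 1, 3, 1, 2, 0, 2, 0, 7, 7, 2, 7, 2, 0, 6, 2, 7, 4, 3, 5]
def rw2735 : List ℕ := [6, 3, 0, 5, 3, 5, 7, 4, 2, 4, 1, 2, 7, 4, 1, 6, 5, 2, 5, 1, 6, 0, 4, 3, 4, 7, 0, 5]
def rw2736 : List ℕ := [7, 7, 3, 1, 7, 4, 3, 4, 1, 5, 2, 5, 6, 0, 2, 6, 6, 5, 2, 5, 3, 1, 0, 0, 2, 4, 3, 4]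
def rw2737 : List ℕ := [5, 2, 5, 2, 0, 5, 1, 4, 1, 3, 4, 3, 4, 7, 3, 5, 6, 3, 3, 1, 0, 0, 2, 2, 7, 4, 2, 6]
def rw2738 : List ℕ := [2, 5, 2, 0, 5, 2, 7, 1, 6, 3, 4, 1, 3, 4, 3, 4, 7, 0, 5, 3, 1, 0, 0, 2, 4, 1, 6, 5]
def rw2739 : List ℕ := [4, 2, 4, 4, 3, 4, 7, 5, 6, 5, 2, 5, 5, 3, 5, 2, 7, 4, 1, 4, 0, 5, 6, 3]
def rw2740 : List ℕ := [3, 5, 3, 5, 2, 7, 1, 6, 3, 4, 2, 4, 2, 0, 5, 2, 7, 1, 3, 1, 1, 0, 0, 0, 2, 0, 6, 3, 4, 1]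
def rw2741 : List ℕ := [3, 5, 3, 5, 7, 4, 2, 4, 2, 2, 4, 2, 4, 1, 3, 3, 1, 6, 0, 2, 2, 0, 5, 3, 5, 3]
def rw2742 : List ℕ := [4, 1, 2, 0, 5, 3, 5, 7, 0, 2, 6, 7, 7, 3, 1, 6, 4, 2, 4, 1, 3, 0, 5, 0, 3, 1, 6, 0, 2, 1]
def rw2743 : List ℕ := [0, 2, 0, 5, 7, 4, 1, 3, 1, 4, 1, 3, 1, 4, 1, 3, 1, 6, 0, 2, 0, 5, 0, 2, 0, 5]
def rw2744 : List ℕ := [2, 0, 2, 5, 7, 4, 3, 1, 3, 4, 1, 3, 1, 4, 1, 3, 1, 6, 0, 2, 0, 5, 0, 2, 0, 5]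
def rw2745 : List ℕ := [3, 1, 3, 5, 7, 4, 2, 0, 2, 4, 1, 3, 1, 4, 1, 3, 1, 6, 0, 2, 0, 5, 0, 2, 0, 5]
def rw2746 : List ℕ := [0, 5, 3, 5, 0, 5, 2, 7, 3, 4, 1, 4, 2, 4, 1, 4, 1, 3, 3, 1, 6, 0, 2, 2, 0, 5]
def rw2747 : List ℕ := [3, 1, 4, 1, 2, 7, 1, 6, 3, 0, 5, 0, 2, 4, 3, 1, 7, 1, 3, 1, 1, 0, 0, 0, 2, 0, 6, 0, 2, 5]
def rw2748 : List ℕ := [6, 3, 6, 4, 2, 0, 5, 7, 2, 7, 2, 7, 3, 6, 3, 6, 4, 1, 3, 5, 7, 2, 7, 5, 3, 1, 6, 0, 2, 4]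
def rw2749 : List ℕ := [3, 5, 3, 2, 2, 4, 2, 4, 2, 4, 2, 4, 2, 4, 3, 5, 3, 5, 3, 5, 3, 5]
def rw2750 : List ℕ := [2, 4, 2, 4, 2, 4, 2, 4, 3, 5, 3, 5, 3, 5, 3, 5, 3, 5, 3, 2, 2, 4]
def rw2751 : List ℕ := [3, 4, 6, 3, 4, 4, 3, 4, 7, 4, 2, 2, 3, 3, 3, 5, 6, 5, 2, 5, 5, 2, 7, 5, 2, 5, 1, 2, 0, 4]
def rw2752 : List ℕ := [2, 5, 1, 3, 4, 3, 4, 3, 4, 3, 1, 6, 0, 2, 5, 2, 5, 2, 5, 2, 0, 4, 3, 4, 7, 5]
def rw2753 : List ℕ := [1, 4, 1, 4, 1, 5, 3, 4, 0, 5, 0, 5, 0, 3, 5, 0, 5, 3, 1, 2, 0, 2, 4, 1, 4, 2]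
def rw2754 : List ℕ := [1, 3, 5, 6, 5, 1, 3, 4, 3, 1, 4, 0, 2, 5, 2, 0, 4, 7, 4, 2, 0, 2, 6, 0, 4, 5, 5, 1, 7, 3]
def rw2755 : List ℕ := [4, 7, 3, 6, 5, 2, 1, 4, 1, 4, 2, 7, 4, 1, 3, 1, 2, 0, 2, 0, 5, 6, 3, 5, 0, 5, 0, 3]
def rw2756 : List ℕ := [0, 4, 3, 5, 2, 5, 1, 3, 0, 4, 4, 3, 4, 4, 3, 1, 4, 0, 2, 5, 5, 2, 5, 5, 1, 2]
def rw2757 : List ℕ := [4, 0, 7, 2, 6, 3, 0, 5, 2, 2, 7, 3, 4, 5, 5, 2, 6, 3, 3, 4, 1, 2, 7, 3, 6, 1, 5, 1, 4, 0]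
def rw2758 : List ℕ := [3, 4, 3, 3, 1, 2, 0, 2, 2, 5, 2, 5, 2, 6, 0, 2, 6, 0, 2, 6, 3, 7, 3, 1, 7, 3, 1, 7, 3, 4]
def rw2759 : List ℕ := [5, 6, 3, 0, 3, 1, 7, 3, 3, 2, 6, 0, 2, 1, 2, 7, 4, 2, 0, 5, 1, 3, 1, 2, 0, 2, 0, 4, 1, 3]
def rw2760 : List ℕ := [4, 3, 4, 6, 3, 4, 4, 3, 4, 7, 4, 2, 2, 7, 3, 3, 5, 6, 5, 2, 5, 5, 2, 7, 5, 2, 5, 1, 6, 0]
def rw2761 : List ℕ := [1, 7, 4, 6, 2, 5, 1, 6, 0, 4, 3, 7, 5, 6, 0, 4, 3, 7, 5, 6, 7, 7, 4, 6, 2, 5]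
def rw2762 : List ℕ := [4, 3, 7, 5, 6, 3, 7, 4, 6, 2, 5, 1, 7, 4, 6, 2, 5, 1, 2, 0, 4, 3, 7, 5, 6, 0]
def rw2763 : List ℕ := [7, 1, 3, 1, 6, 0, 2, 0, 6, 6, 3, 3, 6, 3, 6, 4, 2, 7, 7, 6, 3, 5, 7, 2, 7, 2, 2, 7]
def rw2764 : List ℕ := [2, 5, 7, 3, 5, 3, 5, 7, 3, 6, 4, 2, 4, 2, 6, 4, 3, 4, 3, 4, 6, 3, 3, 2, 2, 2, 7, 5, 2, 5]
def rw2765 : List ℕ := [3, 3, 5, 3, 3, 0, 3, 4, 4, 3, 1, 2, 5, 5, 2, 1, 2, 2, 4, 2, 2, 1, 0, 0]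
def rw2766 : List ℕ := [5, 2, 5, 3, 0, 2, 4, 3, 4, 2, 5, 2, 4, 3, 4, 2, 5, 1, 4, 3, 5, 2, 5, 3, 4, 3]
def rw2767 : List ℕ := [2, 7, 2, 0, 6, 2, 7, 4, 5, 5, 6, 3, 7, 1, 3, 6, 3, 6, 6, 1, 3, 1, 4, 0, 2, 0, 7, 7]
def rw2768 : List ℕ := [7, 2, 7, 1, 7, 2, 7, 1, 0, 0, 6, 3, 6, 0, 6, 3, 6, 1]
def rw2769 : List ℕ := [5, 3, 5, 7, 1, 6, 4, 2, 4, 2, 6, 4, 3, 4, 3, 4, 6, 3, 3, 0, 2, 2, 7, 5, 2, 5, 2, 5, 7, 3]
def rw2770 : List ℕ := [6, 3, 3, 3, 1, 6, 0, 2, 2, 2, 7, 0, 5, 0, 2, 4, 2, 4, 2, 6, 7, 7, 3, 5, 3, 5, 3, 1, 4, 1]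
def rw2771 : List ℕ := [4, 2, 4, 2, 6, 4, 3, 4, 3, 4, 6, 3, 3, 2, 2, 2, 7, 5, 2, 5, 2, 5, 7, 3, 5, 3, 5, 7, 3, 6]
def rw2772 : List ℕ := [4, 1, 4, 4, 0, 5, 0, 5, 0, 0, 4, 1]
def rw2773 : List ℕ := [6, 3, 4, 3, 6, 3, 6, 3, 1, 2, 0, 2, 7, 2, 7, 2, 5, 2, 7, 2, 7, 4, 3, 5, 6, 3]
def rw2774 : List ℕ := [1, 5, 0, 3, 1, 2, 1, 4, 0, 0, 2, 1, 5, 3, 1, 1, 1, 0, 0, 0, 0, 2, 4, 0, 3, 1]
def rw2775 : List ℕ := [3, 1, 6, 2, 1, 5, 3, 1, 4, 2, 5, 3, 5, 0, 2, 4, 0, 3, 7, 0, 2, 6, 2, 1, 1, 4, 0, 0, 3, 7]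
def rw2776 : List ℕ := [1, 1, 4, 0, 0, 5, 0, 5, 0, 0, 5, 0, 5, 5, 4, 1, 4, 1, 1, 4, 1, 4]
def rw2777 : List ℕ := [3, 0, 5, 0, 5, 3, 4, 1, 4, 1, 2, 4, 1, 4, 2, 0, 5, 1, 2, 0, 4, 1, 3, 5, 0, 5]
def rw2778 : List ℕ := [0, 2, 4, 3, 1, 1, 1, 2, 0, 0, 0, 2, 5, 3, 1, 1, 2, 2, 1, 4, 3, 5, 0, 3, 3, 0]
def rw2779 : List ℕ := [1, 1, 1, 2, 2, 2, 2, 2, 0, 3, 3, 3, 3, 3, 0, 0, 0, 0, 3, 0, 2, 1]
def rw2780 : List ℕ := [3, 1, 6, 3, 3, 5, 3, 4, 2, 2, 7, 0, 2, 6, 3, 3, 5, 3, 1, 2, 0, 2, 4, 2, 2, 7]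
def rw2781 : List ℕ := [0, 2, 6, 0, 5, 3, 5, 5, 4, 2, 4, 1, 7, 3, 1, 6, 3, 4, 1, 4, 3, 1, 4, 0, 2, 5, 0, 5, 2, 7]
def rw2782 : List ℕ := [5, 0, 5, 0, 5, 5, 1, 4, 4, 1, 4, 1, 4, 4, 1, 4, 1, 0, 0, 5, 0, 5]
def rw2783 : List ℕ := [4, 3, 5, 1, 4, 2, 2, 4, 2, 5, 5, 1, 1, 2, 0, 0, 4, 4, 3, 5, 3, 3, 5, 0]
def rw2784 : List ℕ := [2, 2, 0, 0, 5, 2, 3, 3, 4, 1, 1, 3, 3, 3, 0, 5, 1, 1, 1, 2, 0, 0, 0, 4, 1, 2]
def rw2785 : List ℕ := [5, 2, 1, 2, 1, 2, 2, 2, 5, 5, 5, 4, 4, 3, 3, 3, 0, 3, 0, 3, 4, 3, 1, 4, 0, 2]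
def rw2786 : List ℕ := [1, 3, 0, 3, 0, 5, 2, 3, 3, 4, 1, 2, 1, 2, 0, 0, 5, 1, 1, 1, 2, 0, 0, 0, 4, 1]
def rw2787 : List ℕ := [3, 4, 3, 1, 2, 0, 2, 5, 2, 1, 2, 1, 2, 2, 2, 5, 5, 3, 4, 4, 3, 3, 3, 0, 3, 0]
def rw2788 : List ℕ := [0, 4, 1, 2, 2, 1, 1, 3, 5, 2, 3, 3, 4, 2, 0, 0, 3, 3, 0, 5, 1, 1, 1, 2, 0, 0]
def rw2789 : List ℕ := [2, 4, 2, 4, 1, 4, 2, 4, 2, 1, 3, 1, 4, 0, 2, 0, 3, 5, 3, 5, 0, 5, 3, 5, 3, 5]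
def rw2790 : List ℕ := [3, 3, 1, 4, 0, 2, 2, 4, 2, 4, 2, 2, 0, 5, 3, 5, 5, 4, 2, 4, 1, 3, 3, 5, 3, 5]
def rw2791 : List ℕ := [1, 2, 1, 2, 2, 2, 5, 5, 5, 4, 4, 3, 3, 3, 0, 3, 0, 3, 4, 3, 1, 4, 0, 2, 5, 2]
def rw2792 : List ℕ := [3, 0, 4, 1, 2, 1, 1, 1, 0, 0, 0, 0, 3, 0, 5, 1, 2, 1, 3, 4, 2, 1, 3, 5, 2, 0]
def rw2793 : List ℕ := [1, 1, 5, 3, 1, 1, 1, 0, 0, 0, 0, 2, 4, 0, 0, 0, 2, 5, 0, 3, 1, 2, 1, 4, 3, 1]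
def rw2794 : List ℕ := [2, 1, 5, 3, 1, 1, 1, 0, 0, 0, 0, 2, 4, 0, 3, 1, 1, 5, 0, 3, 1, 2, 1, 4, 0, 0]
def rw2795 : List ℕ := [6, 1, 5, 3, 1, 5, 5, 0, 3, 1, 0, 0, 2, 1, 4, 4, 0, 2, 4, 0, 7, 3, 5, 6, 3, 1, 2, 7, 4, 2]
def rw2796 : List ℕ := [7, 3, 5, 6, 3, 3, 2, 7, 4, 2, 6, 1, 5, 3, 1, 5, 5, 0, 3, 1, 2, 0, 2, 1, 4, 4, 0, 2, 4, 0]
def rw2797 : List ℕ := [4, 2, 6, 1, 5, 3, 1, 4, 0, 2, 4, 0, 7, 3, 5, 6, 3, 3, 0, 2, 4, 4, 5, 5, 5, 3, 1, 2, 2, 7]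
def rw2798 : List ℕ := [4, 3, 5, 2, 5, 2, 4, 7, 0, 5, 6, 1, 2, 1, 0, 0, 3, 0, 7, 4, 1, 6, 5, 3, 4, 3, 4, 2, 5, 1]
def rw2799 : List ℕ := [3, 0, 5, 2, 3, 3, 4, 1, 2, 2, 0, 3, 0, 5, 1, 1, 1, 2, 0, 0, 0, 4, 1, 2, 1, 3]
def rw2800 : List ℕ := [2, 5, 3, 4, 1, 1, 3, 3, 3, 0, 5, 1, 1, 1, 4, 0, 0, 0, 4, 1, 2, 2, 2, 0, 0, 5]
def rw2801 : List ℕ := [4, 3, 3, 5, 5, 1, 4, 0, 4, 4, 2, 2, 5, 0, 4, 4, 2, 2, 5, 5, 4, 3, 3, 5, 5, 1]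
def rw2802 : List ℕ := [3, 3, 1, 3, 3, 1, 4, 0, 2, 2, 0, 2, 2, 5]
def rw2803 : List ℕ := [2, 1, 3, 1, 1, 2, 0, 0, 2, 0, 3, 0, 3, 1, 3, 3, 3, 2, 2, 0, 2, 1]
def rw2804 : List ℕ := [2, 0, 2, 2, 1, 2, 1, 3, 0, 3, 3, 1, 3, 0, 3, 3, 1, 0, 0, 2, 2, 1]
def rw2805 : List ℕ := [3, 0, 0, 2, 4, 1, 5, 3, 1, 1, 2, 2, 1, 4, 0, 3, 1, 1, 0, 0, 0, 2, 1, 5, 0, 3]
def rw2806 : List ℕ := [2, 4, 2, 2, 4, 4, 4, 1, 5, 5, 5, 3, 3, 5, 3, 1, 5, 1, 1, 0, 0, 0, 4, 0]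
def rw2807 : List ℕ := [5, 3, 3, 5, 3, 1, 5, 1, 1, 4, 0, 0, 4, 0, 2, 4, 2, 2, 4, 4, 4, 5, 5, 5]
def rw2808 : List ℕ := [1, 5, 3, 1, 1, 1, 0, 0, 0, 0, 2, 4, 0, 0, 0, 2, 5, 0, 3, 1, 2, 1, 4, 3, 1, 1]
def rw2809 : List ℕ := [5, 5, 4, 0, 3, 0, 2, 5, 0, 3, 3, 3, 1, 1, 4, 0, 0, 2, 2, 2, 1, 4, 3, 1, 2, 1]
def rw2810 : List ℕ := [5, 0, 5, 3, 4, 1, 4, 1, 4, 0, 5, 0, 5, 2, 4, 1, 4, 2, 0, 5, 5, 5, 4, 4, 1, 3]
def rw2811 : List ℕ := [2, 5, 0, 2, 5, 0, 2, 5, 1, 4, 3, 1, 4, 3, 1, 4, 3, 1, 4, 3, 1, 0, 0, 2, 5, 0]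
def rw2812 : List ℕ := [7, 7, 5, 2, 7, 4, 1, 5, 6, 3, 4, 6, 6, 5, 1, 2, 2, 4, 4, 2, 1, 0, 0, 3, 5, 5, 3, 3, 0, 4]
def rw2813 : List ℕ := [5, 6, 3, 7, 4, 1, 6, 2, 2, 7, 4, 1, 6, 1, 3, 3, 1, 2, 0, 2, 2, 0, 7, 0, 5, 6, 3, 3, 7, 0]
def rw2814 : List ℕ := [2, 1, 2, 1, 3, 1, 1, 0, 0, 0, 2, 0, 3, 0, 3, 1, 3, 3, 1, 2, 2, 0]
def rw2815 : List ℕ := [1, 2, 2, 2, 2, 2, 0, 3, 3, 3, 3, 3, 0, 0, 0, 0, 3, 0, 2, 1, 1, 1]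
def rw2816 : List ℕ := [5, 2, 0, 2, 5, 0, 2, 0, 5, 1, 3, 1, 2, 0, 2, 0, 4, 1, 3, 1, 4, 3, 1, 3, 4, 3]
def rw2817 : List ℕ := [5, 5, 2, 5, 5, 2, 0, 3, 4, 1, 5, 2, 1, 3, 4, 4, 3, 4, 4, 0, 3, 1, 0, 0, 2, 1]
def rw2818 : List ℕ := [0, 0, 2, 0, 0, 2, 5, 3, 1, 1, 3, 1, 1, 4]
def rw2819 : List ℕ := [5, 5, 4, 2, 4, 1, 4, 2, 4, 1, 4, 0, 5, 3, 5, 0, 5, 3]
def rw2820 : List ℕ := [3, 7, 5, 6, 0, 4, 4, 4, 1, 5, 5, 1, 4, 0, 4, 4, 0, 5, 5, 5, 1, 7, 4, 6, 2, 7, 5, 5, 4, 6]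
def rw2821 : List ℕ := [7, 2, 7, 1, 2, 2, 1, 3, 1, 0, 0, 2, 0, 3, 3, 0, 6, 3, 6, 1, 3, 7, 2, 7, 1, 6, 3, 6, 2, 0]
def rw2822 : List ℕ := [1, 6, 5, 3, 4, 3, 4, 2, 5, 3, 4, 3, 5, 2, 5, 2, 4, 7, 0, 5, 6, 1, 2, 1, 2, 0, 3, 0, 7, 4]
def rw2823 : List ℕ := [3, 1, 6, 2, 1, 5, 3, 1, 4, 2, 3, 3, 5, 0, 2, 4, 0, 3, 7, 0, 2, 6, 2, 1, 1, 2, 0, 0, 3, 7]
def rw2824 : List ℕ := [2, 5, 3, 5, 2, 0, 3, 0, 4, 1, 2, 1, 1, 1, 4, 0, 0, 0, 3, 0, 5, 1, 2, 1, 3, 4]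
def rw2825 : List ℕ := [6, 3, 3, 7, 3, 6, 2, 2, 7, 4, 1, 6, 2, 2, 7, 4, 1, 2, 0, 5, 6, 3, 3, 7, 0, 5]
def rw2826 : List ℕ := [3, 1, 4, 0, 2, 5, 2, 1, 2, 1, 2, 2, 2, 5, 5, 5, 4, 4, 3, 3, 3, 0, 3, 0, 3, 4]
def rw2827 : List ℕ := [3, 3, 0, 0, 2, 4, 5, 5, 3, 1, 1, 2, 2, 1, 4, 0, 3, 1, 1, 4, 0, 0, 2, 1, 5, 0]
def rw2828 : List ℕ := [0, 5, 3, 1, 0, 0, 2, 4, 1, 4, 2, 1, 4, 1, 4, 1, 5, 1, 4, 0, 5, 0, 5, 0, 3, 5]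
def rw2829 : List ℕ := [4, 2, 6, 5, 2, 5, 2, 0, 5, 3, 4, 1, 3, 4, 3, 4, 7, 3, 5, 6, 3, 3, 1, 2, 0, 2, 2, 7]
def rw2830 : List ℕ := [0, 5, 3, 3, 5, 5, 4, 2, 2, 4, 1, 1, 4, 2, 2, 4, 1, 1, 4, 0, 0, 5, 3, 3, 5, 0]
def rw2831 : List ℕ := [5, 1, 4, 0, 4, 2, 4, 2, 4, 4, 2, 0, 5, 3, 5, 5, 4, 2, 4, 1, 3, 5, 5, 3, 5, 3]
def rw2832 : List ℕ := [1, 2, 1, 3, 4, 2, 3, 3, 5, 2, 0, 3, 0, 4, 1, 2, 1, 1, 1, 2, 0, 0, 0, 3, 0, 5]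
def rw2833 : List ℕ := [4, 2, 4, 0, 2, 5, 3, 1, 5, 3, 5, 0, 5, 3, 5, 3, 1, 1, 4, 0, 0, 2, 4, 2, 4, 1]
def rw2834 : List ℕ := [0, 2, 0, 4, 0, 2, 0, 4, 0, 2, 0, 4, 5, 5, 1, 3, 1, 5, 1, 3, 1, 5, 1, 3, 1, 4]
def rw2835 : List ℕ := [0, 3, 1, 7, 0, 2, 4, 0, 2, 3, 3, 1, 5, 3, 1, 6, 0, 2, 1, 2, 7, 4, 1, 1, 2, 0, 0, 5, 6, 3]
def rw2836 : List ℕ := [6, 3, 1, 3, 1, 2, 0, 2, 0, 2, 7, 0, 2, 6, 3, 0, 5, 0, 2, 4, 3, 5, 3, 1, 4, 1, 2, 7, 3, 1]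
def rw2837 : List ℕ := [0, 2, 6, 1, 3, 1, 2, 0, 2, 0, 7, 3, 1, 6, 2, 0, 7, 0, 2, 6, 2, 3, 3, 7, 3, 1, 6, 1, 3, 7]
def rw2838 : List ℕ := [2, 0, 5, 3, 1, 6, 3, 3, 3, 1, 6, 0, 2, 2, 2, 7, 0, 2, 4, 1, 3, 5, 6, 7, 7, 4]
def rw2839 : List ℕ := [5, 3, 1, 4, 0, 2, 4, 1, 4, 2, 5, 0, 5, 0, 5, 5, 5, 4, 4, 1, 4, 1, 4, 3, 5, 0]
def rw2840 : List ℕ := [1, 5, 1, 4, 0, 3, 1, 1, 5, 0, 3, 0, 3, 1, 1, 0, 0, 0, 2, 1, 2, 1, 4, 0, 0, 2]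
def rw2841 : List ℕ := [1, 3, 0, 4, 2, 3, 3, 5, 1, 2, 0, 0, 4, 1, 2, 1, 1, 1, 2, 0, 0, 0, 3, 0, 5, 1]
def rw2842 : List ℕ := [5, 5, 2, 4, 2, 2, 4, 1, 5, 1, 1, 0, 0, 0, 4, 0, 5, 3, 3, 5, 3, 4, 4, 1]
def rw2843 : List ℕ := [1, 5, 1, 1, 4, 0, 0, 4, 0, 2, 4, 2, 2, 4, 4, 4, 5, 5, 5, 5, 3, 3, 5, 3]
def rw2844 : List ℕ := [4, 3, 1, 3, 4, 1, 3, 1, 4, 3, 5, 0, 2, 0, 5, 2, 0, 2, 5, 1, 3, 1, 2, 0, 2, 0]
def rw2845 : List ℕ := [1, 6, 3, 1, 3, 1, 0, 0, 2, 0, 2, 7, 0, 2, 6, 3, 0, 5, 0, 2, 4, 1, 5, 3, 1, 4, 1, 2, 7, 3]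
def rw2846 : List ℕ := [0, 2, 4, 3, 3, 0, 7, 0, 5, 6, 1, 2, 4, 1, 5, 3, 0, 7, 4, 1, 6, 1, 2, 2, 5, 3, 1, 0]
def rw2847 : List ℕ := [2, 6, 4, 0, 5, 3, 5, 1, 2, 0, 4, 2, 4, 1, 5, 7, 3, 5, 6, 2, 2, 2, 4, 3, 5, 3, 3, 3, 7, 4]
def rw2848 : List ℕ := [3, 5, 1, 3, 1, 4, 0, 2, 0, 4, 2, 0, 2, 4, 1, 3, 1, 4, 5, 5, 0, 2, 0, 5, 3, 1]
def rw2849 : List ℕ := [5, 3, 5, 0, 5, 3, 5, 1, 4, 2, 4, 1, 4, 2, 4, 1, 0, 0]
def rw2850 : List ℕ := [3, 3, 4, 0, 0, 4, 3, 3, 4, 1, 5, 2, 2, 5, 1, 1, 5, 2, 2, 5, 1, 1, 0, 0, 0, 4]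
def rw2851 : List ℕ := [1, 3, 1, 4, 1, 3, 1, 4, 1, 5, 0, 2, 0, 5, 0, 2, 0, 5, 1, 3, 1, 0, 0, 2, 0, 4]
def rw2852 : List ℕ := [5, 1, 5, 1, 1, 5, 5, 1, 5, 1, 1, 2, 0, 0, 4, 0, 4, 4, 0, 0, 4, 0, 4, 4, 3, 5]
def rw2853 : List ℕ := [7, 3, 5, 6, 3, 7, 4, 2, 6, 5, 2, 5, 2, 0, 5, 3, 3, 1, 2, 0, 2, 2, 4, 1, 3, 4, 3, 4]
def rw2854 : List ℕ := [7, 0, 2, 6, 1, 7, 3, 1, 6, 4, 2, 4, 1, 3, 0, 5, 0, 3, 1, 0, 0, 2, 1, 4, 1, 2, 0, 5, 3, 5]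
def rw2855 : List ℕ := [4, 4, 3, 5, 3, 3, 5, 0, 4, 5, 5, 1, 4, 2, 2, 4, 2, 5, 5, 1, 1, 4, 0, 0]
def rw2856 : List ℕ := [2, 2, 4, 2, 2, 1, 0, 0, 3, 3, 5, 3, 3, 0, 3, 4, 4, 3, 1, 2, 5, 5, 2, 1]
def rw2857 : List ℕ := [5, 1, 1, 2, 0, 0, 4, 0, 4, 4, 0, 0, 4, 0, 4, 4, 3, 5, 5, 1, 5, 1, 1, 5, 5, 1]
def rw2858 : List ℕ := [4, 2, 2, 4, 4, 4, 5, 5, 5, 5, 3, 3, 5, 3, 1, 5, 1, 1, 4, 0, 0, 4, 0, 2]
def rw2859 : List ℕ := [2, 2, 2, 7, 3, 5, 3, 1, 3, 5, 0, 5, 6, 7, 7, 4, 1, 4, 2, 0, 2, 4, 2, 6, 3, 3, 3, 1, 6, 0]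
def rw2860 : List ℕ := [3, 1, 6, 0, 2, 2, 0, 2, 2, 7, 3, 3, 1, 3]
def rw2861 : List ℕ := [4, 3, 4, 4, 0, 3, 1, 4, 0, 2, 1, 5, 5, 2, 5, 5, 1, 2, 0, 4, 5, 5, 1, 3, 0, 4]
def rw2862 : List ℕ := [4, 4, 2, 2, 4, 2, 0, 4, 3, 5, 1, 3, 5, 3, 3, 5, 5, 5, 1, 1, 2, 0, 0, 4]
def rw2863 : List ℕ := [5, 2, 0, 2, 5, 1, 3, 1, 4, 0, 2, 0, 4, 3, 1, 3, 4, 1, 3, 1, 4, 5, 5, 0, 2, 0]
def rw2864 : List ℕ := [6, 4, 1, 1, 5, 5, 1, 1, 2, 0, 0, 4, 4, 0, 0, 5, 7, 3, 1, 6, 3, 3, 3, 2, 2, 7, 0, 2]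
def rw2865 : List ℕ := [5, 1, 3, 1, 5, 1, 3, 1, 5, 1, 3, 1, 0, 0, 2, 0, 4, 0, 2, 0, 4, 0, 2, 0, 4, 1]
def rw2866 : List ℕ := [5, 1, 1, 0, 0, 0, 4, 4, 3, 5, 3, 3, 5, 0, 4, 1, 5, 1, 4, 2, 2, 4, 2, 5]
def rw2867 : List ℕ := [2, 4, 1, 4, 1, 5, 0, 5, 3, 5, 0, 5, 0, 2, 1, 3, 1, 0, 0, 2, 0, 3, 1, 4, 1, 4]
def rw2868 : List ℕ := [0, 0, 0, 2, 0, 3, 3, 3, 1, 3]
def rw2869 : List ℕ := [3, 4, 3, 5, 2, 0, 2, 5, 0, 2, 0, 5, 1, 3, 1, 2, 0, 2, 0, 4, 1, 3, 1, 4, 3, 1]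
def rw2870 : List ℕ := [1, 1, 4, 0, 0, 0, 2, 4, 0, 0, 0, 2, 5, 0, 3, 5, 2, 1, 4, 3, 1, 1, 1, 5, 3, 1]
def rw2871 : List ℕ := [1, 2, 7, 3, 5, 2, 7, 2, 7, 3, 3, 1, 4, 0, 2, 2, 6, 3, 6, 3, 4, 2, 6, 3, 0, 2, 6, 5, 7, 3]
def rw2872 : List ℕ := [5, 0, 5, 3, 5, 7, 4, 2, 4, 1, 4, 2, 4, 1, 6, 0, 5, 3]
def rw2873 : List ℕ := [4, 7, 0, 5, 6, 3, 0, 5, 3, 5, 7, 4, 2, 4, 1, 2, 7, 4, 1, 6, 5, 2, 5, 1, 6, 0, 4, 3]
def rw2874 : List ℕ := [5, 2, 0, 4, 3, 4, 1, 5, 2, 5, 1, 3, 4, 3, 4, 3, 4, 3, 1, 0, 0, 2, 5, 2, 5, 2]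
def rw2875 : List ℕ := [4, 4, 2, 0, 5, 3, 5, 5, 4, 2, 4, 1, 3, 5, 5, 3, 5, 3, 5, 1, 4, 0, 4, 2, 4, 2]
def rw2876 : List ℕ := [4, 1, 1, 4, 1, 4, 1, 1, 4, 0, 0, 5, 0, 5, 0, 0, 5, 0, 5, 5, 4, 1]
def rw2877 : List ℕ := [5, 3, 5, 1, 4, 2, 4, 1, 4, 2, 4, 1, 0, 0, 5, 3, 5, 0]
def rw2878 : List ℕ := [5, 5, 1, 4, 4, 1, 4, 1, 4, 4, 1, 4, 1, 0, 0, 5, 0, 5, 5, 0, 5, 0]
def rw2879 : List ℕ := [5, 5, 2, 5, 5, 1, 2, 0, 4, 1, 5, 1, 3, 0, 4, 4, 3, 4, 4, 0, 3, 1, 0, 0, 2, 1]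
def rw2880 : List ℕ := [3, 4, 4, 3, 5, 2, 5, 5, 2, 1, 2, 2, 4, 2, 2, 1, 4, 0, 3, 3, 5, 3, 3, 0]
def rw2881 : List ℕ := [0, 4, 2, 1, 3, 5, 1, 2, 1, 3, 4, 1, 2, 2, 1, 1, 0, 0, 0, 3, 3, 0, 5, 2, 0, 3]
def rw2882 : List ℕ := [4, 2, 5, 1, 4, 3, 5, 2, 5, 3, 4, 3, 5, 2, 5, 3, 0, 2, 4, 3, 4, 2, 5, 2, 4, 3]
def rw2883 : List ℕ := [2, 2, 7, 3, 5, 1, 3, 1, 2, 0, 2, 0, 4, 2, 6, 3, 3, 3, 1, 7, 4, 1, 4, 3, 5, 0, 5, 6, 0, 2]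
def rw2884 : List ℕ := [2, 1, 2, 0, 2, 2, 2, 7, 3, 3, 3, 1, 3, 0, 3, 1, 6, 0]
def rw2885 : List ℕ := [5, 2, 7, 3, 1, 2, 0, 2, 6, 3, 4, 2, 4, 2, 0, 5, 2, 7, 3, 6, 3, 4, 1, 3, 5, 3]
def rw2886 : List ℕ := [5, 3, 5, 7, 3, 1, 2, 0, 2, 6, 4, 2, 4, 2, 5, 0, 5, 2, 7, 3, 6, 3, 4, 1, 4, 3]
def rw2887 : List ℕ := [2, 2, 6, 3, 6, 3, 7, 2, 7, 3, 3, 6, 3, 6, 0, 4, 1, 4, 3, 1, 2, 0, 2, 5, 0, 5, 1, 7, 2, 7]
def rw2888 : List ℕ := [3, 0, 2, 0, 0, 0, 3, 1, 3, 3]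
def rw2889 : List ℕ := [7, 1, 6, 5, 1, 0, 0, 4, 7, 0, 6, 3, 6, 6, 1, 4, 1, 4, 4, 1, 5, 5, 0, 5, 0, 7, 7, 2]
def rw2890 : List ℕ := [4, 3, 3, 2, 5, 1, 3, 0, 4, 4, 3, 4, 4, 3, 1, 2, 0, 2, 5, 5, 2, 5, 5, 1, 2, 0]
def rw2891 : List ℕ := [3, 5, 3, 5, 3, 3, 0, 2, 2, 4, 2, 4, 2, 2, 4, 2, 4, 1, 5, 3, 5, 3]
def rw2892 : List ℕ := [1, 1, 2, 1, 2, 2, 2, 7, 2, 1, 1, 1, 1, 1, 1, 1, 1, 1, 1, 1, 1, 1, 3, 6, 3, 3, 3, 0, 3, 0, 0, 6]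
def rw2893 : List ℕ := [7, 3, 5, 6, 2, 2, 2, 4, 5, 5, 3, 3, 3, 7, 4, 2, 6, 4, 0, 5, 3, 5, 1, 4, 0, 4, 2, 4, 1, 5]
def rw2894 : List ℕ := [5, 1, 1, 5, 2, 2, 5, 1, 1, 2, 0, 0, 4, 3, 3, 4, 0, 0, 4, 3, 3, 4, 3, 5, 2, 2]
def rw2895 : List ℕ := [0, 4, 3, 5, 1, 4, 2, 2, 4, 2, 5, 5, 1, 1, 2, 0, 0, 4, 4, 3, 5, 3, 3, 5]
def rw2896 : List ℕ := [2, 5, 2, 5, 2, 0, 4, 3, 4, 3, 5, 2, 5, 1, 3, 4, 3, 4, 3, 4, 3, 1, 2, 0, 2, 5]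
def rw2897 : List ℕ := [6, 3, 0, 5, 3, 4, 1, 2, 7, 3, 1, 6, 0, 2, 5, 3, 1, 2, 0, 2, 4, 3, 1, 7, 0, 2]
def rw2898 : List ℕ := [4, 0, 0, 6, 3, 6, 1, 4, 7, 2, 7, 1, 5, 5, 4, 0, 6, 3, 6, 5, 0, 7, 2, 7, 1, 1]
def rw2899 : List ℕ := [3, 1, 2, 1, 4, 1, 5, 0, 3, 0, 2, 2, 1, 4, 3, 1, 1, 1, 0, 0, 0, 0, 2, 5, 0, 3]
def rw2900 : List ℕ := [3, 4, 1, 5, 2, 2, 5, 1, 1, 5, 2, 2, 5, 1, 1, 0, 0, 0, 4, 3, 3, 4, 0, 0, 4, 3]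
def rw2901 : List ℕ := [2, 1, 3, 3, 1, 3, 3, 1, 0, 0, 2, 2, 0, 2]
def rw2902 : List ℕ := [1, 2, 0, 2, 2, 2, 5, 3, 3, 3, 1, 3, 0, 3, 1, 4, 0, 2]
def rw2903 : List ℕ := [1, 6, 5, 3, 4, 3, 4, 2, 5, 1, 4, 3, 5, 2, 5, 2, 4, 7, 0, 5, 6, 1, 2, 1, 0, 0, 3, 0, 7, 4]
def rw2904 : List ℕ := [2, 4, 2, 0, 4, 5, 5, 1, 3, 5, 3, 3, 5, 5, 5, 1, 1, 4, 0, 0, 4, 4, 4, 2]
def rw2905 : List ℕ := [3, 3, 5, 3, 3, 0, 3, 4, 4, 3, 5, 2, 5, 5, 2, 1, 2, 2, 4, 2, 2, 1, 4, 0]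
def rw2906 : List ℕ := [1, 3, 5, 3, 1, 4, 1, 3, 5, 3, 1, 0, 0, 2, 4, 2, 0, 5, 0, 2, 4, 2, 0, 5, 1, 4]
def rw2907 : List ℕ := [5, 2, 5, 0, 0, 0, 5, 2, 5, 3, 4, 3, 4, 1, 1, 1, 4, 3, 4, 1, 1, 1, 2, 0, 0, 0]
def rw2908 : List ℕ := [1, 2, 0, 4, 0, 4, 0, 4, 0, 4, 0, 4, 3, 5, 1, 5, 1, 5, 1, 5, 1, 5]
def rw2909 : List ℕ := [5, 5, 3, 3, 5, 3, 1, 5, 1, 1, 2, 0, 0, 4, 0, 2, 4, 2, 2, 4, 4, 4, 3, 5]
def rw2910 : List ℕ := [3, 4, 4, 3, 1, 0, 0, 2, 5, 5, 2, 5, 5, 1, 2, 0, 4, 3, 1, 2, 5, 1, 3, 0, 4, 4]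
def rw2911 : List ℕ := [0, 5, 6, 1, 2, 4, 1, 5, 3, 0, 7, 4, 1, 6, 1, 2, 2, 5, 3, 1, 0, 0, 2, 4, 3, 3, 0, 7]
def rw2912 : List ℕ := [2, 2, 2, 7, 0, 2, 4, 1, 3, 5, 6, 7, 7, 4, 2, 0, 5, 3, 1, 6, 3, 3, 3, 1, 6, 0]
def rw2913 : List ℕ := [7, 5, 5, 4, 6, 3, 6, 4, 2, 0, 5, 7, 2, 7, 1, 3, 1, 4, 0, 2, 0, 6, 3, 6, 4, 1, 3, 5, 7, 2]
def rw2914 : List ℕ := [5, 6, 3, 6, 3, 4, 5, 5, 2, 7, 2, 7, 4, 3, 4, 0, 6, 3, 6, 5, 1, 4, 0, 4, 7, 2, 7, 1, 5, 2]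
def rw2915 : List ℕ := [1, 4, 0, 0, 5, 0, 5, 0, 0, 5, 0, 5, 5, 4, 1, 4, 1, 1, 4, 1, 4, 1]
def rw2916 : List ℕ := [0, 4, 4, 3, 5, 3, 3, 5, 0, 4, 5, 5, 1, 4, 2, 2, 4, 2, 5, 5, 1, 1, 4, 0]
def rw2917 : List ℕ := [4, 2, 4, 2, 2, 1, 3, 3, 5, 3, 5, 0, 5, 3, 5, 3, 3, 1, 0, 0, 2, 2, 4, 2, 4, 1]
def rw2918 : List ℕ := [3, 4, 1, 3, 4, 1, 3, 4, 1, 4, 0, 5, 2, 0, 5, 2, 0, 5, 2, 0, 5, 2, 5, 3, 4, 1]
def rw2919 : List ℕ := [4, 4, 3, 5, 5, 3, 3, 5, 5, 3, 3, 5, 5, 3, 3, 2, 2, 2, 4, 4, 2, 2, 4, 4, 2, 2]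
def rw2920 : List ℕ := [1, 1, 5, 3, 1, 1, 1, 2, 0, 0, 0, 2, 4, 0, 0, 0, 2, 5, 0, 3, 3, 2, 1, 4, 3, 1]
def rw2921 : List ℕ := [1, 2, 0, 0, 4, 0, 2, 4, 2, 2, 4, 4, 4, 3, 5, 5, 5, 3, 3, 5, 3, 1, 5, 1]
def rw2922 : List ℕ := [0, 0, 3, 0, 2, 1, 1, 1, 1, 2, 2, 2, 2, 2, 0, 3, 3, 3, 3, 3, 0, 0]
def rw2923 : List ℕ := [3, 5, 6, 5, 7, 4, 2, 6, 5, 2, 5, 2, 0, 5, 3, 3, 1, 4, 0, 2, 2, 4, 1, 3, 4, 3, 4, 7]
def rw2924 : List ℕ := [6, 1, 5, 3, 1, 5, 5, 0, 3, 1, 2, 0, 2, 1, 4, 4, 0, 2, 4, 0, 7, 3, 5, 6, 3, 3, 2, 7, 4, 2]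
def rw2925 : List ℕ := [4, 1, 1, 3, 0, 3, 0, 5, 2, 1, 3, 4, 1, 2, 1, 2, 0, 0, 5, 1, 1, 1, 0, 0, 0, 0]
def rw2926 : List ℕ := [3, 1, 1, 4, 3, 5, 0, 0, 2, 2, 2, 1, 4, 0, 3, 1, 1, 2, 0, 0, 2, 1, 5, 0, 3, 3]
def rw2927 : List ℕ := [1, 2, 2, 1, 4, 3, 5, 0, 3, 3, 0, 0, 2, 4, 3, 1, 1, 1, 2, 0, 0, 0, 2, 5, 3, 1]
def rw2928 : List ℕ := [1, 2, 0, 0, 4, 1, 2, 1, 1, 1, 0, 0, 0, 0, 3, 0, 5, 1, 1, 3, 0, 4, 2, 1, 3, 5]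
def rw2929 : List ℕ := [3, 4, 1, 1, 0, 0, 0, 5, 2, 0, 3, 0, 4, 1, 2, 1, 2, 1, 3, 0, 3, 0, 5, 1, 2, 1]
def rw2930 : List ℕ := [4, 0, 0, 0, 2, 5, 0, 3, 5, 2, 1, 4, 3, 1, 1, 1, 5, 3, 1, 1, 1, 4, 0, 0, 0, 2]
def rw2931 : List ℕ := [4, 1, 4, 1, 2, 0, 5, 0, 5, 0, 5, 0, 5, 0, 5, 3, 4, 1, 4, 1, 4, 1]
def rw2932 : List ℕ := [2, 1, 4, 3, 1, 1, 1, 4, 0, 0, 0, 2, 5, 0, 3, 0, 3, 1, 1, 4, 5, 5, 0, 0, 2, 1]
def rw2933 : List ℕ := [6, 3, 0, 5, 3, 5, 2, 1, 3, 4, 2, 4, 1, 2, 7, 3, 1, 6, 3, 4, 3, 1, 0, 0, 2, 5, 2, 7, 0, 2]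
def rw2934 : List ℕ := [2, 7, 3, 1, 6, 3, 4, 3, 1, 0, 0, 2, 5, 2, 7, 0, 2, 6, 3, 0, 5, 3, 5, 2, 1, 3, 4, 2, 4, 1]
def rw2935 : List ℕ := [4, 3, 4, 1, 1, 1, 2, 0, 0, 0, 5, 2, 5, 0, 0, 0, 5, 2, 5, 3, 4, 3, 4, 1, 1, 1]
def rw2936 : List ℕ := [5, 3, 1, 3, 5, 1, 3, 1, 5, 1, 3, 1, 0, 0, 2, 0, 4, 0, 2, 0, 4, 2, 0, 2, 4, 1]
def rw2937 : List ℕ := [3, 1, 6, 3, 1, 3, 1, 4, 0, 2, 0, 2, 7, 0, 2, 6, 3, 0, 5, 0, 2, 4, 5, 5, 3, 1, 4, 1, 2, 7]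
def rw2938 : List ℕ := [4, 4, 4, 3, 5, 5, 5, 3, 3, 5, 3, 1, 5, 1, 1, 2, 0, 0, 4, 0, 2, 4, 2, 2]
def rw2939 : List ℕ := [0, 4, 2, 4, 2, 4, 4, 2, 0, 5, 3, 5, 1, 4, 2, 4, 1, 3, 5, 5, 3, 5, 3, 5, 1, 0]
def rw2940 : List ℕ := [5, 6, 2, 2, 2, 4, 5, 5, 3, 3, 3, 7, 4, 2, 6, 4, 0, 5, 3, 5, 1, 4, 0, 4, 2, 4, 1, 5, 7, 3]
def rw2941 : List ℕ := [1, 4, 3, 1, 2, 1, 5, 5, 4, 0, 3, 0, 2, 5, 0, 3, 3, 3, 1, 1, 4, 0, 0, 2, 2, 2]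
def rw2942 : List ℕ := [0, 2, 0, 4, 1, 3, 1, 4, 3, 5, 0, 2, 0, 5, 1, 3, 1, 5, 1, 3, 1, 2, 0, 2, 0, 4]
def rw2943 : List ℕ := [0, 5, 1, 2, 5, 3, 0, 4, 1, 1, 3, 0, 3, 0, 5, 1, 1, 4, 0, 0, 4, 1, 2, 1, 2, 0]
def rw2944 : List ℕ := [1, 4, 0, 0, 0, 5, 0, 5, 0, 4, 0, 5, 0, 5, 5, 4, 1, 4, 1, 5, 1, 4, 1, 4, 1, 1]
def rw2945 : List ℕ := [0, 0, 0, 3, 1, 3, 3, 3, 0, 2]
def rw2946 : List ℕ := [5, 2, 0, 3, 0, 4, 1, 2, 1, 1, 1, 4, 0, 0, 0, 3, 0, 5, 1, 2, 1, 3, 4, 2, 5, 3]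
def rw2947 : List ℕ := [6, 3, 3, 3, 1, 4, 0, 2, 2, 2, 7, 0, 2, 4, 1, 3, 5, 6, 5, 7, 4, 2, 0, 5, 3, 1]
def rw2948 : List ℕ := [1, 5, 1, 4, 1, 4, 1, 1, 1, 0, 0, 0, 0, 5, 0, 5, 0, 4, 0, 5, 0, 5, 1, 4, 1, 4]
def rw2949 : List ℕ := [2, 5, 5, 1, 2, 0, 4, 3, 1, 2, 5, 1, 3, 0, 4, 4, 3, 4, 4, 3, 1, 0, 0, 2, 5, 5]
def rw2950 : List ℕ := [1, 1, 5, 0, 3, 5, 2, 1, 4, 0, 0, 2, 1, 5, 3, 1, 1, 1, 4, 0, 0, 0, 2, 4, 0, 3]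
def rw2951 : List ℕ := [2, 2, 4, 4, 2, 1, 2, 0, 3, 5, 5, 3, 3, 0, 4, 7, 7, 5, 2, 7, 4, 3, 5, 6, 3, 4, 6, 6, 5, 1]
def rw2952 : List ℕ := [0, 3, 3, 1, 4, 0, 2, 2, 1, 2, 0, 2, 2, 1, 2, 5, 3, 0, 3, 3, 1, 3]
def rw2953 : List ℕ := [1, 6, 3, 3, 5, 5, 4, 2, 2, 7, 0, 2, 6, 3, 3, 5, 3, 1, 4, 0, 2, 4, 2, 2, 7, 3]
def rw2954 : List ℕ := [2, 0, 6, 6, 4, 3, 4, 4, 0, 3, 3, 1, 0, 0, 2, 2, 1, 5, 5, 2, 5, 7, 7, 1, 3, 6, 6, 1, 7, 7]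
def rw2955 : List ℕ := [3, 5, 5, 4, 2, 4, 1, 4, 2, 4, 1, 4, 0, 5, 3, 5, 0, 5]
def rw2956 : List ℕ := [1, 5, 0, 3, 5, 2, 1, 4, 0, 3, 0, 2, 5, 3, 1, 1, 1, 4, 0, 0, 0, 2, 4, 3, 1, 2]
def rw2957 : List ℕ := [5, 6, 3, 0, 3, 1, 2, 0, 2, 1, 2, 7, 4, 2, 0, 5, 3, 1, 6, 3, 7, 0, 2, 4, 1, 3]
def rw2958 : List ℕ := [2, 6, 3, 3, 1, 2, 0, 2, 2, 7, 3, 5, 0, 5, 0, 2, 4, 2, 6, 3, 3, 2, 7, 3, 5, 3, 1, 4, 1, 4]
def rw2959 : List ℕ := [3, 6, 3, 3, 1, 6, 0, 2, 2, 7, 2, 7, 4, 1, 4, 3, 1, 7, 2, 7, 7, 6, 3, 6, 0, 2, 5, 0, 5, 6]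
def rw2960 : List ℕ := [0, 2, 6, 2, 1, 1, 0, 0, 0, 3, 7, 3, 1, 6, 2, 1, 5, 3, 1, 4, 2, 1, 3, 5, 0, 2, 4, 0, 3, 7]
def rw2961 : List ℕ := [6, 3, 6, 3, 4, 3, 4, 3, 5, 2, 5, 2, 7, 2, 7, 2, 5, 6, 3, 6, 5, 1, 2, 0, 4, 7, 2, 7, 4, 3]
def rw2962 : List ℕ := [6, 3, 3, 2, 7, 4, 2, 6, 1, 5, 3, 1, 5, 5, 0, 3, 1, 2, 0, 2, 1, 4, 4, 0, 2, 4, 0, 7, 3, 5]
def rw2963 : List ℕ := [6, 3, 6, 3, 4, 3, 1, 7, 2, 7, 1, 3, 1, 0, 0, 2, 0, 6, 3, 6, 0, 2, 5, 2, 7, 2, 7, 4, 1, 5]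
def rw2964 : List ℕ := [2, 1, 1, 1, 1, 2, 2, 2, 2, 2, 0, 3, 3, 3, 3, 3, 0, 0, 0, 0, 3, 0]
def rw2965 : List ℕ := [4, 3, 5, 0, 2, 0, 5, 1, 3, 1, 5, 1, 3, 1, 2, 0, 2, 0, 4, 0, 2, 0, 4, 1, 3, 1]
def rw2966 : List ℕ := [6, 3, 5, 0, 5, 0, 3, 4, 7, 7, 6, 5, 2, 1, 4, 1, 4, 2, 7, 4, 1, 3, 1, 6, 0, 2, 0, 5]
def rw2967 : List ℕ := [1, 5, 1, 5, 1, 5, 1, 0, 0, 4, 0, 4, 0, 4, 0, 4, 0, 4, 1, 5, 1, 5]
def rw2968 : List ℕ := [0, 5, 1, 1, 1, 4, 0, 0, 0, 4, 1, 1, 3, 0, 3, 0, 5, 2, 5, 3, 4, 1, 2, 1, 2, 0]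
def rw2969 : List ℕ := [2, 5, 1, 3, 1, 5, 1, 3, 1, 4, 0, 2, 0, 4, 0, 2, 0, 4, 3, 1, 3, 4, 5, 5, 2, 0]
def rw2970 : List ℕ := [4, 7, 2, 0, 4, 3, 6, 7, 7, 2, 5, 1, 3, 6, 5, 1, 7, 1, 5, 1, 3, 1, 6, 0, 2, 0, 4, 0, 6, 0]
def rw2971 : List ℕ := [3, 0, 4, 1, 1, 3, 0, 3, 0, 5, 1, 1, 0, 0, 0, 4, 1, 2, 1, 2, 0, 0, 5, 1, 2, 1]
def rw2972 : List ℕ := [0, 5, 3, 5, 0, 5, 3, 5, 3, 4, 2, 4, 1, 4, 2, 4, 1, 2]
def rw2973 : List ℕ := [3, 4, 3, 5, 2, 5, 3, 4, 2, 4, 3, 4, 2, 5, 2, 4, 3, 4, 2, 5, 5, 4, 3, 5, 2, 5]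
def rw2974 : List ℕ := [6, 3, 6, 2, 0, 7, 2, 7, 2, 5, 3, 6, 3, 6, 1, 3, 7, 2, 7, 1, 1, 1, 4, 0, 0, 0]
def rw2975 : List ℕ := [5, 6, 3, 3, 7, 3, 6, 2, 2, 7, 4, 1, 6, 2, 2, 7, 4, 1, 2, 0, 5, 6, 3, 3, 7, 0]
def rw2976 : List ℕ := [1, 6, 2, 0, 7, 3, 6, 1, 3, 7, 0, 2, 6, 2, 0, 7, 3, 1, 2, 0, 2, 6, 1, 3, 7, 3]
def rw2977 : List ℕ := [3, 1, 1, 1, 5, 3, 1, 1, 1, 0, 0, 0, 0, 2, 4, 0, 0, 0, 2, 5, 0, 3, 1, 2, 1, 4]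
def rw2978 : List ℕ := [2, 7, 4, 3, 6, 3, 6, 3, 4, 3, 4, 3, 5, 2, 5, 2, 7, 2, 7, 2, 5, 6, 3, 6, 5, 1, 2, 0, 4, 7]
def rw2979 : List ℕ := [0, 0, 0, 5, 2, 5, 1, 4, 3, 4, 1, 1, 1, 4, 3, 4, 1, 1, 1, 0, 0, 0, 0, 5, 2, 5]
def rw2980 : List ℕ := [3, 3, 4, 5, 5, 2, 2, 5, 1, 1, 5, 2, 2, 5, 1, 1, 4, 0, 0, 4, 3, 3, 4, 0, 0, 4]
def rw2981 : List ℕ := [1, 5, 1, 2, 0, 4, 0, 4, 0, 4, 0, 4, 0, 4, 3, 5, 1, 5, 1, 5, 1, 5]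
def rw2982 : List ℕ := [6, 1, 5, 3, 1, 2, 0, 2, 4, 0, 7, 3, 5, 6, 3, 3, 0, 2, 4, 4, 3, 5, 5, 3, 1, 2, 2, 7, 4, 2]
def rw2983 : List ℕ := [7, 0, 2, 6, 2, 1, 1, 2, 0, 0, 3, 7, 3, 1, 6, 2, 1, 5, 3, 1, 4, 2, 3, 3, 5, 0, 2, 4, 0, 3]
def rw2984 : List ℕ := [2, 0, 3, 3, 3, 3, 3, 0, 0, 0, 0, 3, 0, 2, 1, 1, 1, 1, 2, 2, 2, 2]
def rw2985 : List ℕ := [4, 2, 0, 4, 1, 4, 1, 4, 3, 5, 0, 5, 0, 5, 1, 3, 5, 0, 5, 3, 1, 2, 0, 2, 4, 1]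
def rw2986 : List ℕ := [0, 2, 1, 1, 1, 1, 2, 2, 2, 2, 2, 0, 3, 3, 3, 3, 3, 0, 0, 0, 0, 3]
def rw2987 : List ℕ := [6, 3, 4, 3, 4, 1, 5, 2, 5, 2, 7, 2, 7, 2, 5, 6, 3, 6, 5, 1, 0, 0, 4, 7, 2, 7, 4, 3, 6, 3]
def rw2988 : List ℕ := [6, 5, 1, 4, 0, 4, 7, 2, 7, 4, 3, 6, 3, 6, 3, 4, 3, 4, 5, 5, 2, 5, 2, 7, 2, 7, 2, 5, 6, 3]
def rw2989 : List ℕ := [1, 1, 2, 0, 0, 0, 2, 4, 0, 0, 0, 2, 5, 0, 3, 3, 2, 1, 4, 3, 1, 1, 1, 5, 3, 1]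
def rw2990 : List ℕ := [2, 5, 0, 3, 1, 2, 1, 4, 3, 1, 1, 1, 5, 3, 1, 1, 1, 0, 0, 0, 0, 2, 4, 0, 0, 0]
def rw2991 : List ℕ := [1, 5, 0, 3, 3, 0, 0, 2, 4, 5, 5, 3, 1, 1, 2, 2, 1, 4, 0, 3, 1, 1, 4, 0, 0, 2]
def rw2992 : List ℕ := [6, 0, 2, 5, 3, 1, 0, 0, 2, 4, 3, 1, 7, 0, 2, 6, 3, 0, 5, 1, 4, 1, 2, 7, 3, 1]
def rw2993 : List ℕ := [6, 3, 6, 1, 3, 7, 2, 7, 1, 2, 5, 3, 0, 6, 3, 6, 2, 0, 7, 2, 7, 1, 1, 4, 0, 0]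
def rw2994 : List ℕ := [2, 7, 1, 5, 3, 1, 2, 4, 0, 6, 3, 6, 5, 3, 7, 2, 7, 1, 0, 0, 6, 3, 6, 2, 4, 7]
def rw2995 : List ℕ := [3, 6, 3, 4, 3, 4, 1, 5, 2, 5, 2, 7, 2, 7, 2, 5, 6, 3, 6, 5, 1, 0, 0, 4, 7, 2, 7, 4, 3, 6]
def rw2996 : List ℕ := [6, 3, 6, 1, 3, 7, 2, 7, 1, 1, 1, 2, 0, 0, 0, 6, 3, 6, 2, 0, 7, 2, 7, 2, 3, 3]
def rw2997 : List ℕ := [4, 1, 4, 1, 4, 1, 2, 0, 5, 0, 5, 0, 5, 0, 5, 0, 5, 3, 4, 1, 4, 1]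
def rw2998 : List ℕ := [5, 5, 4, 1, 4, 1, 4, 1, 4, 1, 4, 1, 4, 0, 5, 0, 5, 0, 5, 0, 5, 0]
def rw2999 : List ℕ := [0, 4, 0, 4, 4, 0, 0, 4, 0, 4, 4, 3, 5, 5, 1, 5, 1, 1, 5, 5, 1, 5, 1, 1, 2, 0]
def rw3000 : List ℕ := [3, 4, 1, 3, 1, 4, 3, 5, 0, 2, 0, 5, 2, 0, 2, 5, 1, 3, 1, 2, 0, 2, 0, 4, 3, 1]
def rw3001 : List ℕ := [1, 1, 2, 0, 0, 4, 0, 5, 3, 3, 5, 3, 4, 4, 3, 5, 5, 2, 4, 2, 2, 4, 1, 5]
def rw3002 : List ℕ := [0, 2, 6, 3, 0, 5, 3, 4, 1, 2, 7, 3, 1, 6, 0, 2, 5, 3, 1, 2, 0, 2, 4, 3, 1, 7]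
def rw3003 : List ℕ := [4, 2, 6, 5, 2, 5, 2, 0, 5, 3, 3, 1, 0, 0, 2, 2, 4, 1, 3, 4, 3, 4, 7, 3, 5, 6, 1, 7]
def rw3004 : List ℕ := [5, 5, 1, 2, 0, 4, 3, 5, 2, 5, 1, 3, 0, 4, 4, 3, 4, 4, 3, 1, 4, 0, 2, 5, 5, 2]
def rw3005 : List ℕ := [2, 6, 5, 2, 5, 2, 0, 5, 5, 4, 1, 3, 4, 3, 4, 7, 3, 5, 6, 3, 3, 1, 4, 0, 2, 2, 7, 4]
def rw3006 : List ℕ := [6, 3, 3, 1, 4, 0, 2, 2, 7, 4, 2, 6, 5, 2, 5, 2, 0, 5, 5, 4, 1, 3, 4, 3, 4, 7, 3, 5]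
def rw3007 : List ℕ := [0, 2, 6, 3, 0, 5, 5, 4, 1, 2, 7, 3, 1, 6, 0, 2, 5, 3, 1, 4, 0, 2, 4, 3, 1, 7]
def rw3008 : List ℕ := [3, 7, 1, 6, 4, 2, 2, 5, 3, 4, 3, 3, 5, 7, 0, 6, 2, 7, 3, 4, 3, 1, 2, 0, 2, 5, 2, 6]
def rw3009 : List ℕ := [7, 0, 2, 6, 3, 3, 5, 3, 4, 2, 2, 7, 3, 1, 6, 3, 3, 5, 1, 3, 1, 1, 2, 0, 0, 2, 0, 4, 2, 2]
def rw3010 : List ℕ := [5, 6, 3, 7, 7, 6, 2, 7, 4, 1, 5, 6, 5, 2, 0, 4, 3, 1, 6, 0, 2, 5, 1, 3, 4, 7, 4, 0]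
def rw3011 : List ℕ := [7, 3, 1, 6, 0, 2, 5, 3, 1, 0, 0, 2, 4, 3, 1, 7, 0, 2, 6, 3, 0, 5, 1, 4, 1, 2]
def rw3012 : List ℕ := [0, 4, 3, 4, 1, 5, 2, 5, 1, 3, 4, 3, 4, 3, 4, 3, 1, 0, 0, 2, 5, 2, 5, 2, 5, 2]
def rw3013 : List ℕ := [4, 1, 3, 1, 4, 1, 5, 0, 2, 0, 5, 3, 1, 3, 5, 1, 3, 1, 0, 0, 2, 0, 4, 2, 0, 2]
def rw3014 : List ℕ := [4, 0, 2, 4, 2, 2, 4, 4, 4, 1, 5, 5, 5, 3, 3, 5, 3, 1, 5, 1, 1, 0, 0, 0]
def rw3015 : List ℕ := [2, 4, 2, 4, 1, 5, 3, 5, 3, 5, 3, 5, 3, 5, 3, 0, 2, 4, 2, 4, 2, 4]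
def rw3016 : List ℕ := [3, 4, 2, 1, 3, 5, 2, 0, 3, 0, 4, 1, 2, 1, 1, 1, 0, 0, 0, 0, 3, 0, 5, 1, 2, 1]
def rw3017 : List ℕ := [0, 4, 1, 1, 3, 0, 3, 0, 5, 2, 1, 3, 4, 1, 2, 1, 2, 0, 0, 5, 1, 1, 1, 0, 0, 0]
def rw3018 : List ℕ := [1, 2, 1, 2, 0, 2, 2, 1, 1, 0, 0, 0, 3, 3, 1, 3, 0, 3, 0, 2, 1, 3]
def rw3019 : List ℕ := [2, 6, 2, 0, 7, 3, 1, 2, 0, 2, 6, 1, 3, 7, 3, 1, 6, 2, 0, 7, 3, 6, 1, 3, 7, 0]
def rw3020 : List ℕ := [6, 6, 1, 7, 0, 5, 2, 7, 5, 1, 2, 0, 4, 6, 3, 4, 1, 6, 0, 7, 7, 2, 6, 3, 3, 2, 7, 3]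
def rw3021 : List ℕ := [3, 0, 0, 2, 4, 3, 1, 1, 1, 2, 0, 0, 0, 2, 5, 3, 1, 1, 2, 2, 1, 4, 3, 5, 0, 3]
def rw3022 : List ℕ := [3, 3, 5, 3, 5, 3, 3, 4, 2, 2, 4, 2, 4, 2, 2, 4, 2, 4, 5, 5, 3, 5]
def rw3023 : List ℕ := [3, 3, 0, 2, 4, 4, 1, 5, 5, 3, 1, 2, 2, 7, 4, 2, 6, 1, 5, 3, 1, 0, 0, 2, 4, 0, 7, 3, 5, 6]
def rw3024 : List ℕ := [7, 4, 2, 0, 5, 6, 4, 3, 1, 2, 0, 2, 5, 7, 4, 1, 3, 5, 6, 4, 2, 0, 5, 5, 3, 4, 4, 1, 3, 5]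
def rw3025 : List ℕ := [1, 6, 3, 3, 5, 5, 1, 1, 4, 0, 0, 4, 4, 2, 2, 7, 0, 2, 6, 4, 4, 4, 5, 5, 5, 5, 7, 3]
def rw3026 : List ℕ := [2, 7, 0, 2, 6, 3, 0, 5, 0, 2, 4, 1, 5, 3, 1, 4, 1, 2, 7, 3, 1, 6, 3, 1, 3, 1, 0, 0, 2, 0]
def rw3027 : List ℕ := [6, 2, 2, 2, 4, 1, 5, 3, 3, 3, 7, 4, 2, 6, 4, 0, 5, 3, 5, 1, 0, 0, 4, 2, 4, 1, 5, 7, 3, 5]
def rw3028 : List ℕ := [6, 1, 2, 4, 3, 5, 3, 0, 7, 4, 1, 6, 1, 2, 2, 5, 3, 1, 2, 0, 2, 4, 3, 3, 0, 7, 0, 5]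
def rw3029 : List ℕ := [7, 0, 5, 6, 1, 2, 1, 0, 0, 3, 0, 7, 4, 1, 6, 5, 3, 4, 3, 4, 2, 5, 1, 4, 3, 5, 2, 5, 2, 4]
def rw3030 : List ℕ := [6, 4, 2, 0, 5, 5, 5, 4, 4, 1, 3, 5, 7, 4, 2, 0, 5, 6, 4, 3, 1, 4, 0, 2, 5, 7, 4, 1, 3, 5]
def rw3031 : List ℕ := [5, 2, 5, 2, 5, 2, 0, 4, 3, 4, 1, 5, 2, 5, 1, 3, 4, 3, 4, 3, 4, 3, 1, 0, 0, 2]
def rw3032 : List ℕ := [3, 1, 3, 5, 0, 2, 0, 5, 1, 3, 1, 4, 0, 2, 0, 4, 1, 3, 1, 4, 2, 0, 2, 4, 5, 5]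
def rw3033 : List ℕ := [1, 6, 3, 3, 3, 1, 0, 0, 2, 2, 2, 7, 0, 2, 4, 1, 3, 5, 6, 1, 7, 4, 2, 0, 5, 3]
def rw3034 : List ℕ := [0, 0, 2, 1, 2, 1, 4, 3, 1, 1, 1, 0, 0, 0, 0, 2, 5, 0, 3, 0, 3, 1, 1, 4, 1, 5]
def rw3035 : List ℕ := [6, 3, 0, 5, 1, 4, 1, 2, 7, 3, 1, 6, 0, 2, 5, 3, 1, 0, 0, 2, 4, 3, 1, 7, 0, 2]
def rw3036 : List ℕ := [0, 4, 4, 4, 2, 2, 4, 2, 0, 4, 5, 5, 1, 3, 5, 3, 3, 5, 5, 5, 1, 1, 4, 0]
def rw3037 : List ℕ := [5, 0, 5, 3, 5, 3, 1, 2, 0, 2, 4, 2, 4, 1, 4, 2, 4, 3, 1, 3, 3, 2, 0, 2, 5, 3]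
def rw3038 : List ℕ := [0, 4, 1, 1, 3, 3, 3, 0, 5, 1, 2, 3, 3, 0, 4, 1, 2, 2, 2, 0, 0, 5, 1, 1, 2, 0]
def rw3039 : List ℕ := [1, 4, 3, 3, 5, 5, 1, 0, 0, 4, 4, 2, 2, 5, 0, 4, 4, 2, 2, 5, 1, 4, 3, 3, 5, 5]
def rw3040 : List ℕ := [3, 0, 3, 0, 5, 2, 3, 3, 4, 1, 2, 1, 2, 0, 0, 5, 1, 1, 1, 2, 0, 0, 0, 4, 1, 1]
def rw3041 : List ℕ := [4, 3, 5, 5, 5, 3, 3, 5, 3, 1, 5, 1, 1, 2, 0, 0, 4, 0, 2, 4, 2, 2, 4, 4]
def rw3042 : List ℕ := [4, 1, 6, 3, 3, 3, 1, 0, 0, 2, 2, 2, 7, 0, 5, 0, 2, 4, 2, 4, 2, 6, 1, 7, 3, 5, 3, 5, 3, 1]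
def rw3043 : List ℕ := [1, 6, 4, 3, 4, 2, 2, 1, 2, 1, 0, 0, 3, 0, 3, 3, 5, 2, 5, 7, 0, 5, 6, 3, 5, 1, 4, 2, 7, 4]
def rw3044 : List ℕ := [5, 3, 1, 0, 0, 2, 4, 6, 3, 6, 4, 2, 0, 5, 7, 2, 7, 2, 1, 3, 6, 3, 6, 4, 1, 3, 5, 7, 2, 7]
def rw3045 : List ℕ := [0, 0, 2, 0, 3, 0, 3, 1, 3, 3, 3, 2, 2, 0, 2, 1, 2, 1, 3, 1, 1, 2]
def rw3046 : List ℕ := [2, 2, 0, 2, 1, 2, 1, 3, 1, 1, 4, 0, 0, 2, 0, 3, 0, 3, 1, 3, 3, 5]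
def rw3047 : List ℕ := [4, 2, 0, 5, 5, 1, 4, 4, 1, 3, 5, 0, 5, 3, 4, 1, 4, 1, 0, 0, 5, 0, 5, 2, 4, 1]
def rw3048 : List ℕ := [0, 5, 0, 5, 5, 1, 4, 4, 1, 4, 1, 4, 4, 1, 4, 1, 0, 0, 5, 0, 5, 5]
def rw3049 : List ℕ := [4, 0, 0, 0, 2, 5, 0, 3, 1, 2, 1, 4, 3, 1, 1, 1, 5, 3, 1, 1, 1, 0, 0, 0, 0, 2]
def rw3050 : List ℕ := [5, 1, 5, 1, 0, 0, 4, 0, 4, 0, 4, 0, 4, 0, 4, 1, 5, 1, 5, 1, 5, 1]
def rw3051 : List ℕ := [1, 2, 0, 5, 3, 5, 0, 5, 3, 5, 3, 4, 2, 4, 1, 4, 2, 4]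
def rw3052 : List ℕ := [2, 1, 3, 1, 1, 3, 1, 1, 0, 0, 0, 2, 0, 0]
def rw3053 : List ℕ := [2, 5, 2, 1, 3, 4, 3, 7, 2, 7, 1, 4, 3, 6, 3, 6, 5, 1, 0, 0, 4, 7, 2, 7, 2, 5, 0, 6, 3, 6]
def rw3054 : List ℕ := [6, 3, 6, 0, 4, 1, 4, 3, 1, 4, 0, 2, 5, 0, 5, 1, 7, 2, 7, 2, 2, 6, 3, 6, 5, 7, 2, 7, 3, 3]
def rw3055 : List ℕ := [7, 1, 7, 2, 7, 1, 7, 1, 3, 1, 3, 1, 2, 0, 2, 0, 2, 0, 6, 0, 6, 3, 6, 0, 6, 3]
def rw3056 : List ℕ := [0, 5, 6, 1, 2, 1, 0, 0, 3, 0, 7, 4, 1, 6, 5, 3, 4, 3, 4, 2, 5, 1, 4, 3, 5, 2, 5, 2, 4, 7]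
def rw3057 : List ℕ := [2, 5, 0, 3, 5, 2, 1, 4, 3, 1, 1, 1, 5, 3, 1, 1, 1, 4, 0, 0, 0, 2, 4, 0, 0, 0]
def rw3058 : List ℕ := [0, 0, 4, 0, 2, 4, 2, 2, 4, 4, 4, 3, 5, 5, 5, 3, 3, 5, 3, 1, 5, 1, 1, 2]
def rw3059 : List ℕ := [5, 3, 1, 1, 1, 4, 0, 0, 0, 2, 4, 0, 0, 0, 2, 5, 0, 3, 5, 2, 1, 4, 3, 1, 1, 1]
def rw3060 : List ℕ := [2, 2, 2, 4, 5, 5, 3, 3, 3, 7, 4, 2, 6, 4, 0, 5, 3, 5, 1, 4, 0, 4, 2, 4, 1, 5, 7, 3, 5, 6]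
def rw3061 : List ℕ := [0, 3, 1, 1, 4, 3, 5, 0, 0, 2, 1, 2, 1, 4, 3, 1, 1, 1, 2, 0, 0, 0, 2, 5, 0, 3]
def rw3062 : List ℕ := [1, 1, 3, 3, 3, 0, 5, 1, 2, 3, 3, 0, 4, 1, 2, 2, 2, 0, 0, 5, 1, 1, 2, 0, 0, 4]
def rw3063 : List ℕ := [3, 3, 3, 3, 0, 0, 0, 0, 3, 0, 2, 1, 1, 1, 1, 2, 2, 2, 2, 2, 0, 3]
def rw3064 : List ℕ := [1, 3, 1, 2, 1, 1, 2, 0, 0, 3, 0, 2, 0, 0, 3, 3, 3, 1, 3, 3, 2, 0, 2, 2, 2, 1]
def rw3065 : List ℕ := [4, 3, 1, 2, 1, 5, 0, 3, 5, 2, 1, 4, 0, 3, 0, 2, 5, 3, 1, 1, 1, 4, 0, 0, 0, 2]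
def rw3066 : List ℕ := [6, 1, 7, 4, 2, 6, 5, 2, 5, 2, 0, 5, 3, 3, 1, 0, 0, 2, 2, 4, 1, 3, 4, 3, 4, 7, 3, 5]
def rw3067 : List ℕ := [0, 5, 6, 3, 3, 7, 0, 5, 6, 1, 7, 4, 1, 6, 2, 2, 7, 4, 1, 6, 1, 3, 3, 1, 0, 0, 2, 2, 0, 7]
def rw3068 : List ℕ := [1, 4, 3, 5, 0, 3, 3, 3, 1, 1, 4, 3, 1, 1, 1, 2, 0, 0, 0, 2, 5, 0, 0, 2, 2, 2]
def rw3069 : List ℕ := [0, 5, 5, 1, 4, 4, 1, 4, 1, 4, 4, 1, 4, 1, 0, 0, 5, 0, 5, 5, 0, 5]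
def rw3070 : List ℕ := [1, 7, 4, 2, 0, 5, 3, 4, 1, 3, 5, 6, 0, 2, 2, 2, 7, 3, 1, 3, 1, 2, 0, 2, 0, 2, 6, 3, 3, 3]
def rw3071 : List ℕ := [3, 4, 3, 1, 2, 0, 2, 5, 2, 7, 2, 7, 4, 3, 1, 3, 6, 3, 6, 3, 7, 2, 7, 2, 0, 2, 5, 6, 3, 6]
def rw3072 : List ℕ := [1, 2, 2, 1, 2, 0, 2, 2, 1, 1, 1, 0, 0, 0, 0, 3, 3, 1, 3, 0, 3, 3, 0, 2, 1, 3]
def rw3073 : List ℕ := [2, 2, 5, 0, 4, 4, 2, 2, 5, 1, 4, 3, 3, 5, 5, 1, 4, 3, 3, 5, 5, 1, 0, 0, 4, 4]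
def rw3074 : List ℕ := [3, 5, 5, 5, 1, 1, 0, 0, 0, 4, 4, 4, 2, 2, 4, 2, 0, 4, 1, 5, 1, 3, 5, 3]
def rw3075 : List ℕ := [5, 5, 4, 3, 3, 5, 5, 1, 4, 3, 3, 5, 5, 1, 4, 0, 4, 4, 2, 2, 5, 0, 4, 4, 2, 2]
def rw3076 : List ℕ := [2, 6, 1, 7, 3, 1, 6, 4, 2, 4, 1, 3, 0, 5, 0, 3, 1, 0, 0, 2, 1, 4, 1, 2, 0, 5, 3, 5, 7, 0]
def rw3077 : List ℕ := [2, 2, 0, 2, 1, 2, 1, 3, 1, 1, 0, 0, 0, 2, 0, 3, 0, 3, 1, 3, 3, 1]
def rw3078 : List ℕ := [5, 3, 3, 5, 5, 3, 3, 2, 2, 2, 4, 4, 2, 2, 4, 4, 2, 2, 4, 4, 3, 5, 5, 3, 3, 5]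
def rw3079 : List ℕ := [0, 0, 3, 1, 3, 3, 3, 0, 2, 0]
def rw3080 : List ℕ := [2, 4, 2, 4, 2, 4, 2, 4, 2, 4, 1, 5, 3, 5, 3, 5, 3, 5, 3, 5, 3, 0]
def rw3081 : List ℕ := [4, 4, 3, 5, 5, 3, 5, 3, 5, 5, 3, 5, 3, 2, 2, 4, 2, 4, 4, 2, 4, 2]
def rw3082 : List ℕ := [1, 4, 3, 4, 1, 1, 1, 0, 0, 0, 0, 5, 2, 5, 0, 0, 0, 5, 2, 5, 1, 4, 3, 4, 1, 1]
def rw3083 : List ℕ := [6, 4, 2, 4, 1, 3, 0, 5, 0, 3, 1, 0, 0, 2, 1, 4, 1, 2, 0, 5, 3, 5, 7, 0, 2, 6, 1, 7, 3, 1]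
def rw3084 : List ℕ := [4, 2, 0, 5, 3, 5, 7, 4, 2, 4, 1, 3, 5, 2, 4, 2, 4, 2, 1, 6, 0, 3, 5, 3, 5, 3]
def rw3085 : List ℕ := [2, 7, 4, 3, 1, 3, 6, 3, 6, 7, 7, 2, 7, 2, 0, 2, 5, 6, 3, 6, 3, 4, 3, 1, 6, 0, 2, 5, 2, 7]
def rw3086 : List ℕ := [7, 0, 2, 6, 3, 0, 5, 5, 4, 1, 2, 7, 3, 1, 6, 0, 2, 5, 3, 1, 4, 0, 2, 4, 3, 1]
def rw3087 : List ℕ := [6, 1, 2, 1, 2, 0, 3, 0, 7, 4, 1, 6, 5, 3, 4, 3, 4, 2, 5, 3, 4, 3, 5, 2, 5, 2, 4, 7, 0, 5]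
def rw3088 : List ℕ := [6, 5, 2, 5, 2, 0, 5, 3, 4, 1, 3, 4, 3, 4, 7, 3, 5, 6, 3, 3, 1, 2, 0, 2, 2, 7, 4, 2]
def rw3089 : List ℕ := [3, 5, 6, 3, 7, 4, 2, 6, 5, 2, 5, 2, 0, 5, 3, 3, 1, 2, 0, 2, 2, 4, 1, 3, 4, 3, 4, 7]
def rw3090 : List ℕ := [5, 6, 3, 5, 5, 4, 2, 7, 4, 1, 6, 4, 3, 4, 2, 2, 1, 2, 1, 4, 0, 3, 0, 3, 3, 5, 2, 5, 7, 0]
def rw3091 : List ℕ := [2, 2, 7, 4, 1, 6, 1, 3, 3, 1, 4, 0, 2, 2, 0, 7, 0, 5, 6, 3, 3, 7, 0, 5, 6, 5, 7, 4, 1, 6]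
def rw3092 : List ℕ := [4, 1, 6, 1, 3, 3, 1, 4, 0, 2, 2, 0, 7, 0, 5, 6, 3, 3, 7, 0, 5, 6, 5, 7, 4, 1, 6, 2, 2, 7]
def rw3093 : List ℕ := [0, 2, 6, 4, 4, 4, 1, 5, 5, 5, 7, 3, 1, 6, 3, 3, 5, 5, 1, 1, 0, 0, 0, 4, 4, 2, 2, 7]
def rw3094 : List ℕ := [3, 4, 2, 4, 2, 0, 5, 2, 7, 1, 3, 1, 1, 0, 0, 0, 2, 0, 6, 3, 4, 1, 3, 5, 3, 5, 2, 7, 1, 6]
def rw3095 : List ℕ := [7, 5, 2, 1, 3, 4, 6, 3, 6, 4, 2, 0, 5, 7, 2, 7, 3, 1, 0, 0, 2, 6, 3, 6, 4, 1, 3, 5, 7, 2]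
def rw3096 : List ℕ := [7, 1, 5, 3, 5, 2, 4, 0, 6, 3, 6, 5, 3, 7, 2, 7, 1, 4, 0, 6, 3, 6, 2, 4, 7, 2]
def rw3097 : List ℕ := [1, 6, 4, 3, 4, 2, 2, 1, 2, 1, 4, 0, 3, 0, 3, 3, 5, 2, 5, 7, 0, 5, 6, 3, 5, 5, 4, 2, 7, 4]
def rw3098 : List ℕ := [2, 0, 7, 2, 7, 2, 1, 3, 6, 3, 6, 1, 3, 7, 2, 7, 1, 1, 1, 0, 0, 0, 0, 6, 3, 6]
def rw3099 : List ℕ := [6, 0, 4, 7, 2, 0, 4, 7, 2, 0, 4, 7, 2, 7, 3, 6, 5, 1, 3, 6, 5, 1, 3, 6, 5, 1]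
def rw3100 : List ℕ := [2, 7, 1, 6, 1, 4, 1, 4, 4, 7, 5, 5, 0, 5, 0, 7, 0, 6, 3, 6, 6, 5, 1, 6, 0, 4, 7, 7]
def rw3101 : List ℕ := [2, 7, 1, 5, 1, 3, 6, 3, 6, 2, 3, 3, 7, 2, 7, 2, 0, 4, 0, 6, 3, 6, 5, 3, 1, 2, 0, 2, 4, 7]
def rw3102 : List ℕ := [7, 2, 7, 1, 5, 1, 3, 6, 3, 6, 2, 3, 3, 7, 2, 7, 2, 0, 4, 0, 6, 3, 6, 5, 3, 1, 2, 0, 2, 4]
def rw3103 : List ℕ := [6, 4, 1, 3, 5, 7, 2, 7, 5, 2, 7, 3, 4, 6, 3, 6, 4, 2, 0, 5, 7, 2, 7, 3, 1, 6, 0, 2, 6, 3]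
def rw3104 : List ℕ := [6, 3, 1, 4, 1, 1, 2, 0, 0, 5, 0, 2, 7, 3, 6, 0, 6, 6, 3, 5, 3, 4, 2, 7, 7, 1, 7, 2]
def rw3105 : List ℕ := [3, 7, 4, 2, 0, 2, 2, 7, 4, 7, 2, 7, 1, 3, 1, 2, 0, 2, 0, 6, 3, 6, 5, 6, 3, 3, 1, 3, 5, 6]
def rw3106 : List ℕ := [2, 5, 7, 3, 5, 3, 5, 7, 7, 6, 4, 2, 4, 2, 6, 4, 3, 4, 3, 4, 6, 3, 3, 6, 2, 2, 7, 5, 2, 5]
def rw3107 : List ℕ := [1, 4, 3, 1, 4, 3, 1, 6, 0, 2, 5, 0, 2, 5, 0, 2, 5, 0, 2, 5, 7, 4, 3, 1, 4, 3]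
def rw3108 : List ℕ := [7, 3, 5, 2, 6, 0, 2, 1, 2, 7, 4, 2, 0, 5, 1, 3, 1, 4, 0, 2, 0, 4, 1, 3, 5, 6, 3, 0, 3, 1]
def rw3109 : List ℕ := [2, 5, 5, 1, 2, 0, 4, 3, 5, 2, 5, 1, 3, 0, 4, 4, 3, 4, 4, 3, 1, 4, 0, 2, 5, 5]
def rw3110 : List ℕ := [6, 4, 3, 4, 4, 7, 5, 5, 2, 5, 7, 7, 1, 3, 6, 6, 3, 3, 1, 1, 6, 0, 0, 2, 2, 7, 7, 2, 0, 6]
def rw3111 : List ℕ := [5, 3, 7, 2, 7, 1, 0, 0, 6, 3, 6, 2, 4, 7, 2, 7, 1, 5, 3, 1, 2, 4, 0, 6, 3, 6]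
def rw3112 : List ℕ := [1, 3, 7, 2, 7, 1, 1, 1, 0, 0, 0, 0, 6, 3, 6, 2, 0, 7, 2, 7, 2, 1, 3, 6, 3, 6]
def rw3113 : List ℕ := [3, 3, 1, 7, 4, 2, 0, 5, 7, 4, 1, 3, 5, 6, 0, 2, 2, 2, 7, 3, 1, 3, 1, 6, 0, 2, 0, 2, 6, 3]
def rw3114 : List ℕ := [4, 2, 7, 5, 2, 7, 7, 2, 7, 5, 2, 7, 7, 5, 6, 6, 3, 4, 6, 3, 6, 6, 3, 4, 6, 3]
def rw3115 : List ℕ := [1, 2, 1, 2, 0, 2, 2, 1, 1, 2, 0, 0, 3, 3, 1, 3, 0, 3, 0, 2, 3, 3]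
def rw3116 : List ℕ := [6, 2, 0, 7, 2, 7, 2, 1, 3, 6, 3, 6, 1, 3, 7, 2, 7, 1, 1, 1, 0, 0, 0, 0, 6, 3]
def rw3117 : List ℕ := [3, 6, 3, 4, 0, 0, 7, 2, 7, 1, 1, 0, 0, 0, 6, 3, 6, 1, 1, 5, 2, 7, 2, 7, 4, 3, 1, 2, 5, 6]
def rw3118 : List ℕ := [6, 3, 6, 1, 3, 7, 2, 7, 2, 1, 3, 6, 3, 6, 2, 0, 7, 2, 7, 1, 2, 1, 0, 0, 3, 0]
def rw3119 : List ℕ := [0, 6, 3, 6, 5, 3, 7, 2, 7, 1, 2, 0, 6, 3, 6, 2, 4, 7, 2, 7, 1, 5, 3, 3, 2, 4]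
def rw3120 : List ℕ := [2, 0, 3, 3, 0, 6, 3, 6, 1, 3, 7, 2, 7, 1, 6, 3, 6, 2, 0, 7, 2, 7, 1, 2, 2, 1, 3, 1, 0, 0]
def rw3121 : List ℕ := [1, 3, 0, 3, 3, 2, 1, 2, 0, 2, 2, 1, 2, 1, 3, 1, 1, 2, 0, 0, 2, 0, 3, 0, 3, 3]
def rw3122 : List ℕ := [1, 3, 0, 3, 1, 2, 1, 2, 0, 2, 2, 1, 2, 1, 3, 1, 1, 0, 0, 0, 2, 0, 3, 0, 3, 3]
def rw3123 : List ℕ := [2, 2, 1, 2, 0, 2, 2, 1, 2, 7, 3, 0, 3, 3, 1, 3, 0, 3, 3, 1, 6, 0]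
def rw3124 : List ℕ := [4, 2, 4, 2, 0, 3, 1, 6, 0, 2, 1, 3, 5, 3, 5, 0, 5, 3, 5, 2, 7, 3, 4, 2, 4, 1]
def rw3125 : List ℕ := [6, 3, 0, 3, 1, 7, 1, 3, 1, 1, 0, 0, 0, 2, 0, 6, 0, 2, 1, 2, 7, 4, 2, 0, 5, 1, 4, 1, 3, 5]
def rw3126 : List ℕ := [6, 4, 4, 1, 4, 2, 2, 4, 1, 4, 0, 5, 3, 3, 5, 0, 5, 5, 7, 4, 1, 3, 5, 6, 5, 7, 4, 2, 0, 5]
def rw3127 : List ℕ := [3, 0, 0, 0, 0, 3, 0, 2, 1, 1, 1, 1, 2, 2, 2, 2, 2, 0, 3, 3, 3, 3]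
def rw3128 : List ℕ := [7, 5, 3, 4, 6, 3, 6, 4, 2, 0, 5, 7, 2, 7, 1, 3, 1, 2, 0, 2, 0, 6, 3, 6, 4, 1, 3, 5, 7, 2]
def rw3129 : List ℕ := [1, 4, 0, 0, 6, 3, 6, 1, 4, 7, 2, 7, 1, 5, 5, 4, 0, 6, 3, 6, 5, 0, 7, 2, 7, 1]
def rw3130 : List ℕ := [4, 2, 6, 5, 2, 5, 2, 0, 5, 1, 4, 1, 3, 4, 3, 4, 7, 3, 5, 6, 3, 3, 1, 0, 0, 2, 2, 7]
def rw3131 : List ℕ := [0, 5, 7, 4, 1, 2, 7, 3, 1, 6, 0, 2, 5, 3, 1, 6, 0, 2, 4, 3, 1, 7, 0, 2, 6, 3]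
def rw3132 : List ℕ := [5, 0, 4, 4, 2, 2, 5, 1, 4, 3, 3, 5, 5, 1, 4, 3, 3, 5, 5, 1, 0, 0, 4, 4, 2, 2]
def rw3133 : List ℕ := [4, 4, 3, 4, 4, 3, 1, 0, 0, 2, 5, 5, 2, 5, 5, 1, 2, 0, 4, 3, 1, 2, 5, 1, 3, 0]
def rw3134 : List ℕ := [3, 4, 3, 4, 3, 1, 6, 0, 2, 5, 2, 5, 2, 5, 2, 0, 4, 3, 4, 7, 5, 2, 5, 1, 3, 4]
def rw3135 : List ℕ := [0, 2, 5, 1, 3, 1, 2, 0, 2, 0, 4, 3, 1, 3, 4, 1, 3, 1, 4, 3, 5, 0, 2, 0, 5, 2]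
def rw3136 : List ℕ := [2, 1, 1, 4, 0, 0, 3, 3, 1, 3, 0, 3, 0, 2, 5, 3, 1, 2, 1, 2, 0, 2]
def rw3137 : List ℕ := [2, 5, 1, 3, 1, 0, 0, 2, 0, 4, 3, 1, 3, 4, 1, 3, 1, 4, 1, 5, 0, 2, 0, 5, 2, 0]
def rw3138 : List ℕ := [5, 7, 2, 7, 2, 2, 7, 7, 7, 6, 6, 3, 3, 6, 3, 6, 4, 2, 7, 1, 3, 1, 6, 0, 2, 0, 6, 3]
def rw3139 : List ℕ := [3, 4, 7, 0, 5, 6, 3, 0, 5, 3, 5, 7, 4, 2, 4, 1, 2, 7, 4, 1, 6, 5, 2, 5, 1, 6, 0, 4]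
def rw3140 : List ℕ := [0, 4, 3, 4, 7, 5, 2, 5, 1, 3, 4, 3, 4, 3, 4, 3, 1, 6, 0, 2, 5, 2, 5, 2, 5, 2]
def rw3141 : List ℕ := [6, 0, 6, 1, 3, 1, 6, 0, 2, 0, 7, 1, 7, 2, 7, 1, 7, 1, 3, 7, 2, 0, 6, 0, 6, 3]
def rw3142 : List ℕ := [5, 6, 1, 2, 4, 3, 5, 3, 0, 7, 4, 1, 6, 1, 2, 2, 5, 3, 1, 2, 0, 2, 4, 3, 3, 0, 7, 0]
def rw3143 : List ℕ := [7, 3, 5, 6, 3, 1, 2, 7, 4, 2, 6, 1, 5, 3, 1, 5, 5, 0, 3, 1, 0, 0, 2, 1, 4, 4, 0, 2, 4, 0]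
def rw3144 : List ℕ := [3, 1, 3, 4, 7, 5, 2, 0, 2, 5, 0, 2, 0, 5, 1, 3, 1, 6, 0, 2, 0, 4, 1, 3, 1, 4]
def rw3145 : List ℕ := [2, 6, 2, 0, 7, 1, 6, 1, 3, 7, 3, 1, 6, 2, 0, 7, 3, 1, 3, 1, 0, 0, 2, 0, 2, 6, 1, 3, 7, 0]
def rw3146 : List ℕ := [3, 6, 5, 6, 3, 7, 2, 7, 4, 7, 2, 7, 1, 3, 1, 7, 4, 1, 3, 1, 6, 0, 2, 0, 5, 6, 0, 2, 0, 6]
def rw3147 : List ℕ := [5, 1, 2, 1, 6, 0, 3, 0, 4, 1, 2, 2, 0, 3, 0, 5, 2, 7, 3, 4, 1, 2, 1, 3, 3, 0]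
def rw3148 : List ℕ := [2, 4, 7, 5, 3, 1, 3, 5, 0, 2, 0, 5, 1, 3, 1, 6, 0, 2, 0, 4, 1, 3, 1, 4, 2, 0]
def rw3149 : List ℕ := [3, 5, 3, 5, 0, 5, 3, 5, 1, 3, 1, 1, 0, 0, 0, 2, 0, 4, 2, 4, 1, 4, 2, 4, 2, 1]
def rw3150 : List ℕ := [0, 2, 0, 5, 1, 3, 1, 0, 0, 2, 0, 4, 1, 3, 1, 4, 3, 1, 3, 4, 1, 5, 2, 0, 2, 5]
def rw3151 : List ℕ := [2, 7, 5, 2, 7, 7, 2, 7, 5, 2, 7, 7, 7, 6, 6, 3, 4, 6, 3, 6, 6, 3, 4, 6, 3, 6]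
def rw3152 : List ℕ := [5, 7, 4, 2, 7, 7, 1, 7, 2, 6, 3, 1, 4, 1, 1, 6, 0, 0, 5, 0, 2, 7, 3, 6, 0, 6, 6, 3]
def rw3153 : List ℕ := [1, 7, 7, 2, 7, 2, 0, 6, 2, 7, 4, 1, 3, 1, 0, 0, 2, 0, 5, 6, 3, 7, 1, 3, 6, 3, 6, 6]
def rw3154 : List ℕ := [7, 4, 1, 6, 1, 3, 3, 1, 6, 0, 2, 2, 0, 7, 0, 5, 6, 3, 3, 7, 0, 5, 6, 7, 7, 4, 1, 6, 2, 2]
def rw3155 : List ℕ := [0, 2, 4, 1, 4, 1, 1, 4, 1, 4, 2, 3, 3, 5, 0, 5, 0, 0, 5, 0, 5, 3, 1, 1, 2, 0]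
def rw3156 : List ℕ := [1, 3, 1, 2, 1, 1, 6, 0, 0, 3, 0, 2, 0, 0, 3, 3, 3, 1, 3, 7, 2, 0, 2, 2, 2, 1]
def rw3157 : List ℕ := [2, 7, 1, 7, 2, 7, 1, 0, 0, 6, 3, 6, 0, 6, 3, 6, 1, 7]
def rw3158 : List ℕ := [6, 3, 6, 0, 6, 3, 6, 3, 1, 3, 1, 2, 0, 2, 0, 2, 7, 2, 7, 1, 7, 2, 7, 2, 3, 3]
def rw3159 : List ℕ := [7, 2, 0, 3, 5, 6, 3, 7, 4, 2, 1, 3, 6, 3, 6, 1, 2, 7, 4, 3, 1, 2, 0, 2, 5, 6, 3, 0, 7, 2]
def rw3160 : List ℕ := [7, 1, 5, 7, 4, 0, 6, 3, 6, 5, 0, 7, 2, 7, 1, 1, 6, 0, 0, 6, 3, 6, 1, 4, 7, 2]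
def rw3161 : List ℕ := [7, 4, 3, 1, 7, 7, 6, 0, 2, 5, 6, 0, 2, 5, 0, 7, 2, 7, 1, 1, 6, 0, 0, 6, 3, 6, 1, 4, 3, 1]
def rw3162 : List ℕ := [7, 3, 1, 2, 6, 3, 3, 3, 1, 7, 4, 2, 0, 5, 1, 3, 1, 0, 0, 2, 0, 4, 1, 3, 5, 6, 0, 2, 2, 2]
def rw3163 : List ℕ := [6, 3, 0, 2, 2, 7, 4, 1, 4, 1, 5, 0, 5, 6, 3, 3, 1, 2, 7, 3, 5, 1, 3, 1, 0, 0, 2, 0, 4, 2]
def rw3164 : List ℕ := [3, 5, 0, 7, 2, 7, 2, 1, 3, 6, 3, 6, 1, 4, 2, 2, 7, 4, 2, 2, 7, 1, 0, 0, 6, 3, 3, 5, 6, 3]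
def rw3165 : List ℕ := [3, 3, 5, 1, 4, 2, 2, 7, 0, 2, 6, 3, 3, 5, 3, 1, 0, 0, 2, 4, 2, 2, 7, 3, 1, 6]
def rw3166 : List ℕ := [2, 2, 2, 7, 3, 1, 3, 1, 0, 0, 2, 0, 2, 6, 3, 3, 3, 1, 7, 4, 2, 0, 5, 1, 4, 1, 3, 5, 6, 0]
def rw3167 : List ℕ := [0, 5, 0, 2, 4, 3, 1, 7, 1, 3, 1, 1, 4, 0, 0, 2, 0, 6, 0, 2, 5, 3, 1, 4, 1, 2, 7, 5, 6, 3]
def rw3168 : List ℕ := [2, 5, 1, 4, 3, 1, 7, 0, 2, 6, 3, 0, 5, 3, 1, 3, 1, 0, 0, 2, 0, 2, 4, 1, 2, 7, 3, 1, 6, 0]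
def rw3169 : List ℕ := [0, 5, 6, 3, 3, 7, 3, 6, 2, 2, 7, 4, 1, 6, 2, 2, 7, 4, 1, 2, 0, 5, 6, 3, 3, 7]
def rw3170 : List ℕ := [6, 3, 4, 0, 0, 7, 2, 7, 1, 1, 6, 0, 0, 6, 3, 6, 1, 1, 5, 2, 7, 2, 7, 4, 3, 7, 2, 5, 6, 3]
def rw3171 : List ℕ := [4, 3, 4, 0, 4, 7, 2, 7, 2, 7, 2, 7, 4, 5, 5, 6, 3, 6, 3, 6, 3, 6, 5, 1, 5, 2, 5, 1, 4, 0]
def rw3172 : List ℕ := [0, 0, 5, 0, 5, 3, 4, 1, 4, 1, 1, 4, 1, 4, 1, 1, 2, 0, 0, 5, 0, 5]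
def rw3173 : List ℕ := [2, 2, 1, 4, 7, 5, 0, 3, 3, 3, 1, 1, 4, 3, 1, 1, 1, 6, 0, 0, 0, 2, 5, 0, 0, 2]
def rw3174 : List ℕ := [2, 0, 7, 2, 7, 1, 2, 2, 1, 3, 1, 4, 0, 2, 0, 3, 3, 0, 6, 3, 6, 1, 3, 7, 2, 7, 5, 6, 3, 6]
def rw3175 : List ℕ := [1, 6, 2, 0, 7, 3, 3, 1, 2, 0, 2, 2, 6, 1, 3, 7, 0, 2, 6, 2, 0, 7, 2, 3, 3, 6, 1, 3, 7, 3]
def rw3176 : List ℕ := [5, 2, 7, 2, 7, 4, 1, 5, 6, 3, 6, 3, 4, 3, 1, 7, 2, 7, 1, 3, 1, 0, 0, 2, 0, 6, 3, 6, 0, 2]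
def rw3177 : List ℕ := [0, 5, 2, 7, 2, 3, 3, 6, 3, 4, 1, 4, 3, 5, 3, 5, 7, 0, 3, 1, 2, 0, 2, 1, 6, 4, 2, 4, 2, 5]
def rw3178 : List ℕ := [0, 4, 1, 4, 3, 1, 6, 0, 2, 5, 0, 5, 1, 7, 2, 7, 2, 2, 6, 3, 6, 7, 7, 2, 7, 3, 3, 6, 3, 6]
def rw3179 : List ℕ := [6, 2, 7, 3, 7, 7, 2, 7, 2, 0, 6, 2, 7, 4, 3, 1, 6, 0, 2, 5, 6, 3, 7, 1, 3, 6, 3, 6]
def rw3180 : List ℕ := [1, 4, 0, 5, 1, 4, 3, 1, 6, 0, 2, 5, 0, 4, 1, 5, 0, 6, 3, 7, 5, 6, 3, 7, 2, 7, 4, 6, 2, 7]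
def rw3181 : List ℕ := [2, 7, 1, 7, 3, 6, 0, 6, 3, 6, 0, 6, 0, 2, 1, 3, 1, 2, 0, 2, 0, 3, 1, 7, 1, 7]
def rw3182 : List ℕ := [2, 7, 1, 5, 6, 3, 7, 4, 0, 6, 3, 6, 3, 1, 7, 4, 3, 1, 2, 0, 2, 5, 6, 0, 2, 7]
def rw3183 : List ℕ := [4, 0, 6, 3, 1, 2, 7, 1, 5, 1, 5, 1, 2, 7, 1, 5, 1, 5, 1, 0, 0, 4, 0, 4, 0, 6, 3, 0, 4, 0]
def rw3184 : List ℕ := [2, 5, 1, 6, 0, 4, 3, 4, 3, 7, 5, 2, 7, 2, 0, 4, 7, 7, 6, 5, 1, 3, 6, 3, 4, 6, 2, 5]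
def rw3185 : List ℕ := [3, 0, 5, 3, 5, 1, 4, 2, 4, 1, 2, 7, 4, 1, 6, 5, 2, 5, 1, 0, 0, 4, 3, 4, 7, 0, 5, 6]
def rw3186 : List ℕ := [2, 4, 1, 5, 3, 1, 3, 5, 1, 3, 1, 5, 1, 3, 1, 0, 0, 2, 0, 4, 0, 2, 0, 4, 2, 0]
def rw3187 : List ℕ := [7, 4, 1, 2, 0, 5, 6, 3, 4, 2, 4, 4, 3, 4, 7, 3, 6, 5, 2, 5, 5, 3, 5, 2]
def rw3188 : List ℕ := [5, 6, 1, 2, 4, 5, 5, 3, 0, 7, 4, 1, 6, 1, 2, 2, 5, 3, 1, 4, 0, 2, 4, 3, 3, 0, 7, 0]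
def rw3189 : List ℕ := [6, 3, 6, 1, 3, 7, 2, 7, 1, 1, 1, 0, 0, 0, 0, 6, 3, 6, 2, 0, 7, 2, 7, 2, 1, 3]
def rw3190 : List ℕ := [0, 4, 0, 4, 0, 4, 0, 4, 0, 4, 1, 5, 1, 5, 1, 5, 1, 5, 1, 5, 1, 0]
def rw3191 : List ℕ := [5, 0, 7, 0, 6, 3, 6, 6, 5, 1, 2, 0, 4, 7, 7, 2, 7, 1, 6, 1, 4, 1, 4, 4, 3, 5, 5, 0]
def rw3192 : List ℕ := [4, 3, 4, 7, 1, 6, 5, 2, 5, 5, 3, 5, 2, 7, 4, 1, 0, 0, 5, 6, 3, 4, 2, 4]
def rw3193 : List ℕ := [5, 2, 5, 5, 3, 5, 2, 7, 4, 1, 2, 0, 5, 6, 3, 4, 2, 4, 4, 3, 4, 7, 3, 6]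
def rw3194 : List ℕ := [2, 7, 1, 5, 6, 1, 7, 4, 0, 6, 3, 6, 3, 1, 7, 4, 3, 1, 0, 0, 2, 5, 6, 0, 2, 7]
def rw3195 : List ℕ := [6, 3, 3, 3, 1, 7, 4, 3, 5, 6, 0, 2, 2, 2, 7, 0, 2, 4, 2, 1, 3, 1, 2, 0, 2, 0, 3, 5, 3, 1]
def rw3196 : List ℕ := [3, 4, 6, 3, 4, 4, 3, 4, 7, 4, 2, 2, 7, 3, 3, 5, 6, 5, 2, 5, 5, 2, 7, 5, 2, 5, 1, 6, 0, 4]
def rw3197 : List ℕ := [7, 3, 1, 4, 0, 2, 6, 4, 2, 4, 2, 5, 0, 5, 2, 7, 5, 6, 3, 4, 1, 4, 3, 5, 3, 5]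
def rw3198 : List ℕ := [3, 3, 3, 1, 7, 4, 1, 4, 1, 5, 0, 5, 6, 0, 2, 2, 2, 7, 3, 5, 1, 3, 1, 0, 0, 2, 0, 4, 2, 6]
def rw3199 : List ℕ := [2, 1, 1, 6, 0, 0, 3, 1, 3, 3, 3, 3, 1, 3, 7, 2, 0, 2, 2, 2, 2, 0]
def rw3200 : List ℕ := [0, 2, 0, 4, 2, 4, 1, 4, 2, 4, 2, 1, 3, 5, 3, 5, 0, 5, 3, 5, 1, 3, 1, 1, 0, 0]
def rw3201 : List ℕ := [0, 2, 4, 1, 3, 5, 6, 3, 3, 1, 4, 0, 2, 2, 7, 4, 2, 0, 5, 3, 1, 6, 3, 5, 2, 7]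
def rw3202 : List ℕ := [4, 2, 4, 2, 4, 2, 4, 2, 4, 1, 5, 3, 5, 3, 5, 3, 5, 3, 5, 3, 0, 2]
def rw3203 : List ℕ := [0, 2, 5, 6, 3, 3, 1, 4, 0, 2, 2, 7, 4, 3, 1, 3, 3, 5, 3, 1, 6, 3, 5, 2, 7, 0, 2, 4, 2, 2]
def rw3204 : List ℕ := [2, 5, 2, 0, 5, 2, 7, 7, 6, 3, 4, 1, 3, 4, 3, 4, 7, 0, 5, 3, 1, 6, 0, 2, 4, 1, 6, 5]
def rw3205 : List ℕ := [7, 2, 1, 3, 6, 5, 2, 1, 4, 1, 4, 2, 7, 4, 3, 1, 0, 0, 2, 5, 6, 3, 5, 0, 5, 0, 3, 4]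
def rw3206 : List ℕ := [7, 0, 2, 4, 1, 3, 5, 6, 3, 3, 1, 4, 0, 2, 2, 7, 4, 2, 0, 5, 3, 1, 6, 3, 5, 2]
def rw3207 : List ℕ := [7, 4, 1, 6, 0, 5, 6, 3, 3, 7, 0, 5, 6, 3, 3, 7, 7, 6, 2, 2, 7, 4, 1, 6, 2, 2]
def rw3208 : List ℕ := [2, 5, 5, 2, 1, 2, 2, 4, 2, 2, 1, 0, 0, 3, 3, 5, 3, 3, 0, 3, 4, 4, 3, 1]
def rw3209 : List ℕ := [5, 5, 1, 1, 0, 0, 0, 4, 4, 0, 0, 4, 4, 0, 0, 4, 4, 1, 5, 5, 1, 1, 5, 5, 1, 1]
def rw3210 : List ℕ := [1, 3, 5, 3, 3, 5, 5, 5, 1, 1, 0, 0, 0, 4, 4, 4, 2, 2, 4, 2, 0, 4, 1, 5]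
def rw3211 : List ℕ := [4, 3, 5, 0, 3, 3, 3, 1, 1, 4, 3, 1, 1, 1, 2, 0, 0, 0, 2, 5, 0, 0, 2, 2, 2, 1]
def rw3212 : List ℕ := [3, 1, 6, 3, 3, 5, 5, 1, 1, 2, 0, 0, 4, 4, 2, 2, 7, 0, 2, 6, 4, 4, 4, 3, 5, 5, 5, 7]
def rw3213 : List ℕ := [2, 2, 2, 7, 3, 1, 2, 6, 3, 3, 3, 1, 7, 4, 2, 0, 5, 1, 3, 1, 0, 0, 2, 0, 4, 1, 3, 5, 6, 0]
def rw3214 : List ℕ := [0, 0, 3, 1, 3, 3, 3, 3, 1, 3, 5, 2, 0, 2, 2, 2, 2, 0, 2, 1, 1, 4]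
def rw3215 : List ℕ := [2, 5, 3, 1, 2, 2, 1, 2, 0, 2, 2, 1, 1, 1, 4, 0, 0, 0, 3, 3, 1, 3, 0, 3, 3, 0]
def rw3216 : List ℕ := [0, 5, 3, 3, 5, 3, 4, 4, 1, 5, 5, 2, 4, 2, 2, 4, 1, 5, 1, 1, 0, 0, 0, 4]
def rw3217 : List ℕ := [5, 2, 5, 5, 1, 2, 0, 4, 5, 5, 1, 3, 0, 4, 4, 3, 4, 4, 0, 3, 1, 4, 0, 2, 1, 5]
def rw3218 : List ℕ := [5, 6, 1, 2, 1, 2, 0, 3, 0, 7, 4, 1, 6, 5, 3, 4, 3, 4, 2, 5, 3, 4, 3, 5, 2, 5, 2, 4, 7, 0]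
def rw3219 : List ℕ := [4, 4, 1, 5, 5, 2, 4, 2, 2, 4, 1, 5, 1, 1, 0, 0, 0, 4, 0, 5, 3, 3, 5, 3]
def rw3220 : List ℕ := [0, 4, 4, 3, 5, 3, 3, 5, 0, 4, 3, 5, 1, 4, 2, 2, 4, 2, 5, 5, 1, 1, 2, 0]
def rw3221 : List ℕ := [0, 0, 2, 1, 5, 3, 1, 1, 1, 2, 0, 0, 0, 2, 4, 0, 3, 1, 1, 5, 0, 3, 3, 2, 1, 4]
def rw3222 : List ℕ := [2, 6, 3, 3, 5, 0, 3, 1, 4, 0, 2, 1, 4, 2, 2, 7, 3, 1, 6, 3, 3, 5, 2, 5, 3, 4, 2, 2, 7, 0]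
def rw3223 : List ℕ := [0, 3, 1, 7, 3, 5, 1, 3, 1, 0, 0, 2, 0, 4, 2, 6, 0, 2, 1, 2, 7, 4, 1, 4, 1, 5, 0, 5, 6, 3]
def rw3224 : List ℕ := [5, 1, 1, 2, 0, 0, 4, 1, 2, 2, 0, 3, 0, 5, 1, 2, 3, 3, 0, 4, 1, 2, 1, 3, 3, 0]
def rw3225 : List ℕ := [1, 5, 3, 1, 5, 5, 0, 3, 1, 2, 0, 2, 1, 4, 4, 0, 2, 4, 0, 7, 3, 5, 6, 3, 3, 2, 7, 4, 2, 6]
def rw3226 : List ℕ := [5, 3, 5, 5, 3, 5, 3, 0, 2, 4, 2, 4, 4, 2, 4, 2, 4, 4, 1, 5, 5, 3]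
def rw3227 : List ℕ := [1, 2, 0, 0, 2, 0, 3, 0, 3, 1, 3, 3, 3, 2, 2, 0, 2, 1, 2, 1, 3, 1]
def rw3228 : List ℕ := [3, 1, 6, 4, 2, 4, 1, 3, 0, 5, 0, 3, 1, 0, 0, 2, 1, 4, 1, 2, 0, 5, 3, 5, 7, 0, 2, 6, 1, 7]
def rw3229 : List ℕ := [2, 2, 4, 2, 4, 2, 2, 4, 2, 4, 5, 5, 3, 5, 3, 3, 5, 3, 5, 3, 3, 4]
def rw3230 : List ℕ := [0, 0, 2, 4, 0, 3, 0, 2, 5, 0, 3, 3, 5, 2, 2, 1, 4, 3, 1, 2, 1, 5, 3, 1, 1, 4]
def rw3231 : List ℕ := [2, 5, 3, 3, 3, 0, 5, 2, 0, 3, 0, 4, 1, 1, 4, 0, 0, 5, 1, 2, 1, 3, 4, 1, 2, 2]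
def rw3232 : List ℕ := [0, 5, 1, 3, 1, 5, 1, 3, 1, 0, 0, 2, 0, 4, 0, 2, 0, 4, 1, 3, 1, 4, 1, 5, 0, 2]
def rw3233 : List ℕ := [6, 4, 0, 5, 3, 5, 1, 4, 0, 4, 2, 4, 1, 5, 7, 3, 5, 6, 2, 2, 2, 4, 5, 5, 3, 3, 3, 7, 4, 2]
def rw3234 : List ℕ := [5, 0, 3, 0, 2, 2, 1, 4, 3, 5, 0, 3, 3, 1, 2, 1, 4, 0, 3, 1, 1, 2, 0, 0, 2, 1]
def rw3235 : List ℕ := [0, 5, 0, 5, 5, 3, 4, 4, 1, 4, 1, 4, 4, 1, 4, 1, 2, 0, 5, 0, 5, 5]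
def rw3236 : List ℕ := [3, 6, 3, 1, 7, 4, 3, 1, 2, 0, 2, 5, 6, 0, 2, 7, 2, 7, 1, 5, 6, 3, 7, 4, 0, 6]
def rw3237 : List ℕ := [2, 6, 1, 3, 7, 1, 6, 2, 0, 7, 3, 1, 6, 1, 3, 7, 3, 1, 3, 1, 0, 0, 2, 0, 2, 6, 2, 0, 7, 0]
def rw3238 : List ℕ := [0, 5, 3, 5, 0, 5, 7, 4, 1, 4, 2, 4, 1, 4, 1, 3, 1, 3, 1, 6, 0, 2, 0, 2, 0, 5]
def rw3239 : List ℕ := [5, 0, 5, 3, 5, 3, 4, 2, 4, 1, 4, 2, 4, 1, 2, 0, 5, 3]
def rw3240 : List ℕ := [2, 2, 7, 3, 5, 1, 3, 1, 0, 0, 2, 0, 4, 2, 6, 3, 3, 3, 1, 7, 4, 1, 4, 1, 5, 0, 5, 6, 0, 2]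
def rw3241 : List ℕ := [5, 3, 5, 0, 5, 3, 5, 3, 5, 2, 4, 2, 4, 1, 4, 2, 4, 2, 1, 3, 1, 4, 0, 2, 0, 3]
def rw3242 : List ℕ := [7, 3, 1, 6, 3, 3, 5, 2, 7, 3, 4, 2, 2, 7, 0, 2, 6, 3, 3, 5, 0, 3, 1, 6, 0, 2, 1, 4, 2, 2]
def rw3243 : List ℕ := [1, 4, 2, 5, 7, 3, 1, 0, 0, 2, 6, 4, 3, 5, 0, 5, 2, 4, 2, 2, 2, 7, 1, 6, 3, 3, 3, 5, 3, 4]
def rw3244 : List ℕ := [3, 5, 3, 3, 0, 2, 2, 4, 2, 4, 2, 2, 4, 2, 4, 1, 5, 3, 5, 3, 3, 5]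
def rw3245 : List ℕ := [4, 3, 4, 4, 4, 3, 4, 7, 4, 1, 4, 2, 6, 7, 7, 3, 5, 0, 5, 6, 5, 2, 5, 5, 5, 2, 5, 1, 6, 0]
def rw3246 : List ℕ := [5, 6, 4, 1, 4, 1, 2, 0, 4, 7, 3, 1, 6, 0, 2, 6, 5, 1, 3, 0, 5, 0, 5, 7, 4, 2, 7, 3]
def rw3247 : List ℕ := [4, 1, 4, 3, 1, 6, 0, 2, 5, 0, 5, 2, 7, 0, 2, 6, 0, 5, 3, 5, 7, 4, 2, 4, 1, 7, 3, 1, 6, 3]
def rw3248 : List ℕ := [5, 0, 6, 6, 3, 3, 1, 2, 0, 2, 2, 7, 7, 1, 4, 2, 7, 5, 6, 5, 1, 5, 3, 4, 0, 4, 7, 4, 6, 3]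
def rw3249 : List ℕ := [4, 2, 7, 5, 6, 5, 1, 5, 1, 4, 0, 4, 7, 4, 6, 3, 5, 0, 6, 6, 3, 3, 1, 0, 0, 2, 2, 7, 7, 1]
def rw3250 : List ℕ := [0, 2, 6, 0, 2, 6, 3, 3, 1, 2, 0, 2, 2, 7, 3, 1, 7, 3, 1, 7, 3, 4, 3, 4, 3, 5, 2, 5, 2, 6]
def rw3251 : List ℕ := [6, 6, 3, 1, 4, 1, 1, 4, 0, 0, 5, 0, 2, 7, 7, 1, 7, 2, 6, 3, 5, 5, 4, 2, 7, 3, 6, 0]
def rw3252 : List ℕ := [2, 1, 2, 0, 2, 2, 1, 1, 2, 0, 0, 3, 3, 1, 3, 0, 3, 0, 2, 3, 3, 1]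
def rw3253 : List ℕ := [4, 1, 2, 1, 1, 1, 0, 0, 0, 0, 3, 0, 5, 1, 2, 1, 3, 4, 2, 1, 3, 5, 2, 0, 3, 0]
def rw3254 : List ℕ := [5, 0, 3, 3, 3, 1, 1, 4, 3, 1, 1, 1, 4, 0, 0, 0, 2, 5, 0, 0, 2, 2, 2, 1, 4, 5]
def rw3255 : List ℕ := [0, 2, 2, 2, 1, 4, 0, 3, 1, 1, 4, 0, 0, 2, 1, 5, 0, 3, 3, 3, 1, 1, 4, 5, 5, 0]
def rw3256 : List ℕ := [6, 4, 2, 4, 1, 3, 0, 5, 0, 3, 1, 4, 0, 2, 1, 4, 1, 2, 0, 5, 3, 5, 7, 0, 2, 6, 5, 7, 3, 1]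
def rw3257 : List ℕ := [2, 6, 1, 7, 3, 5, 3, 5, 3, 1, 4, 1, 6, 3, 3, 3, 1, 0, 0, 2, 2, 2, 7, 0, 5, 0, 2, 4, 2, 4]
def rw3258 : List ℕ := [3, 3, 5, 2, 2, 7, 0, 2, 6, 4, 1, 1, 5, 5, 1, 1, 4, 0, 0, 4, 4, 0, 0, 5, 7, 3, 1, 6]
def rw3259 : List ℕ := [3, 0, 5, 0, 5, 7, 4, 2, 7, 3, 5, 6, 4, 1, 4, 1, 2, 0, 4, 7, 3, 1, 6, 0, 2, 6, 5, 1]
def rw3260 : List ℕ := [7, 4, 1, 3, 1, 0, 0, 2, 0, 5, 6, 4, 1, 4, 1, 2, 0, 4, 7, 1, 6, 5, 1, 3, 0, 5, 0, 5]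
def rw3261 : List ℕ := [4, 2, 0, 4, 5, 5, 1, 3, 5, 3, 3, 5, 5, 5, 1, 1, 4, 0, 0, 4, 4, 4, 2, 2]
def rw3262 : List ℕ := [1, 2, 0, 0, 0, 2, 4, 0, 0, 0, 2, 5, 0, 3, 3, 2, 1, 4, 3, 1, 1, 1, 5, 3, 1, 1]
def rw3263 : List ℕ := [5, 2, 0, 0, 0, 4, 2, 3, 3, 5, 1, 1, 1, 3, 4, 1, 2, 1, 1, 1, 2, 0, 0, 0, 3, 0]
def rw3264 : List ℕ := [7, 3, 5, 6, 3, 5, 2, 7, 4, 2, 6, 1, 5, 3, 1, 5, 5, 0, 3, 1, 4, 0, 2, 1, 4, 4, 0, 2, 4, 0]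
def rw3265 : List ℕ := [2, 2, 2, 0, 3, 3, 3, 3, 3, 0, 0, 0, 0, 3, 0, 2, 1, 1, 1, 1, 2, 2]
def rw3266 : List ℕ := [0, 2, 5, 5, 4, 3, 1, 4, 3, 1, 4, 3, 1, 4, 3, 1, 4, 0, 2, 5, 0, 2, 5, 0, 2, 5]
def rw3267 : List ℕ := [5, 6, 5, 1, 3, 4, 3, 1, 2, 0, 2, 5, 2, 0, 4, 7, 4, 2, 0, 2, 6, 0, 4, 3, 5, 1, 7, 3, 1, 3]
def rw3268 : List ℕ := [6, 5, 7, 0, 2, 4, 1, 3, 5, 6, 3, 0, 3, 1, 4, 0, 2, 1, 2, 7, 4, 2, 0, 5, 3, 1]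
def rw3269 : List ℕ := [0, 0, 0, 3, 0, 5, 1, 1, 3, 0, 4, 2, 3, 3, 5, 1, 2, 0, 0, 4, 1, 2, 1, 1, 1, 2]
def rw3270 : List ℕ := [3, 1, 1, 3, 1, 1, 2, 0, 0, 2, 0, 0, 2, 3]
def rw3271 : List ℕ := [5, 1, 1, 2, 0, 0, 4, 0, 2, 4, 2, 2, 4, 4, 4, 3, 5, 5, 5, 3, 3, 5, 3, 1]
def rw3272 : List ℕ := [1, 1, 4, 3, 4, 1, 1, 1, 0, 0, 0, 0, 5, 2, 5, 0, 0, 0, 5, 2, 5, 1, 4, 3, 4, 1]
def rw3273 : List ℕ := [4, 2, 2, 4, 1, 1, 4, 2, 2, 4, 1, 1, 2, 0, 0, 5, 3, 3, 5, 0, 0, 5, 3, 3, 5, 3]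
def rw3274 : List ℕ := [1, 4, 1, 4, 1, 1, 2, 0, 0, 5, 0, 5, 0, 0, 5, 0, 5, 3, 4, 1, 4, 1]
def rw3275 : List ℕ := [2, 6, 4, 1, 1, 5, 5, 1, 1, 0, 0, 0, 4, 4, 0, 0, 5, 7, 3, 1, 6, 3, 3, 1, 2, 2, 7, 0]
def rw3276 : List ℕ := [1, 6, 4, 3, 4, 2, 2, 1, 2, 1, 2, 0, 3, 0, 3, 3, 5, 2, 5, 7, 0, 5, 6, 3, 5, 3, 4, 2, 7, 4]
def rw3277 : List ℕ := [5, 1, 5, 1, 5, 1, 0, 0, 4, 0, 4, 0, 4, 0, 4, 0, 4, 1, 5, 1, 5, 1]
def rw3278 : List ℕ := [2, 6, 3, 0, 5, 3, 5, 2, 1, 3, 4, 2, 4, 1, 2, 7, 3, 1, 6, 3, 4, 3, 1, 0, 0, 2, 5, 2, 7, 0]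
def rw3279 : List ℕ := [2, 6, 1, 5, 3, 1, 0, 0, 2, 4, 0, 7, 3, 5, 6, 3, 3, 0, 2, 4, 4, 1, 5, 5, 3, 1, 2, 2, 7, 4]
def rw3280 : List ℕ := [2, 1, 2, 2, 4, 2, 2, 1, 4, 0, 3, 3, 5, 3, 3, 0, 3, 4, 4, 3, 5, 2, 5, 5]
def rw3281 : List ℕ := [4, 1, 2, 2, 2, 0, 0, 5, 1, 1, 4, 0, 0, 4, 1, 1, 3, 3, 3, 0, 5, 1, 2, 5, 3, 0]
def rw3282 : List ℕ := [1, 2, 1, 4, 3, 1, 1, 1, 2, 0, 0, 0, 2, 5, 0, 3, 0, 3, 1, 1, 4, 3, 5, 0, 0, 2]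
def rw3283 : List ℕ := [0, 0, 4, 4, 3, 5, 3, 3, 5, 0, 4, 5, 5, 1, 4, 2, 2, 4, 2, 5, 5, 1, 1, 4]
def rw3284 : List ℕ := [5, 5, 1, 5, 1, 1, 5, 5, 1, 5, 1, 1, 2, 0, 0, 4, 0, 4, 4, 0, 0, 4, 0, 4, 4, 3]
def rw3285 : List ℕ := [2, 5, 3, 0, 4, 1, 2, 2, 2, 0, 0, 5, 1, 1, 4, 0, 0, 4, 1, 1, 3, 3, 3, 0, 5, 1]
def rw3286 : List ℕ := [0, 5, 0, 5, 3, 4, 1, 4, 1, 1, 4, 1, 4, 1, 1, 2, 0, 0, 5, 0, 5, 0]
def rw3287 : List ℕ := [5, 6, 5, 7, 4, 1, 4, 2, 0, 2, 4, 2, 6, 3, 3, 3, 1, 4, 0, 2, 2, 2, 7, 3, 5, 3, 1, 3, 5, 0]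
def rw3288 : List ℕ := [2, 1, 2, 7, 4, 1, 4, 1, 5, 0, 5, 6, 3, 0, 3, 1, 7, 3, 5, 1, 3, 1, 0, 0, 2, 0, 4, 2, 6, 0]
def rw3289 : List ℕ := [6, 3, 6, 5, 3, 5, 2, 4, 7, 2, 7, 1, 5, 3, 7, 2, 7, 1, 4, 0, 6, 3, 6, 2, 4, 0]
def rw3290 : List ℕ := [2, 0, 5, 6, 4, 3, 1, 0, 0, 2, 5, 7, 4, 1, 3, 5, 6, 4, 2, 0, 5, 5, 1, 4, 4, 1, 3, 5, 7, 4]
def rw3291 : List ℕ := [5, 6, 1, 3, 4, 4, 5, 5, 5, 2, 0, 7, 4, 2, 0, 5, 6, 4, 1, 1, 4, 0, 0, 5, 7, 4, 1, 3]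
def rw3292 : List ℕ := [6, 4, 3, 5, 7, 3, 1, 6, 4, 4, 0, 3, 4, 4, 1, 1, 1, 2, 0, 0, 0, 5, 5, 2, 1, 5, 5, 7, 0, 2]
def rw3293 : List ℕ := [6, 3, 3, 5, 5, 1, 1, 0, 0, 0, 4, 4, 2, 2, 7, 0, 2, 6, 4, 4, 4, 1, 5, 5, 5, 7, 3, 1]
def rw3294 : List ℕ := [4, 2, 6, 1, 5, 3, 1, 0, 0, 2, 4, 0, 7, 3, 5, 6, 3, 3, 0, 2, 4, 4, 1, 5, 5, 3, 1, 2, 2, 7]
def rw3295 : List ℕ := [5, 6, 4, 4, 1, 4, 2, 2, 4, 1, 2, 0, 5, 3, 3, 5, 0, 5, 5, 7, 4, 1, 3, 5, 6, 3, 7, 4, 2, 0]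
def rw3296 : List ℕ := [4, 1, 1, 2, 0, 0, 5, 7, 4, 1, 3, 5, 6, 1, 3, 4, 4, 3, 5, 5, 2, 0, 7, 4, 2, 0, 5, 6]
def rw3297 : List ℕ := [1, 2, 1, 3, 4, 1, 2, 2, 1, 1, 0, 0, 0, 3, 3, 0, 5, 2, 0, 3, 0, 4, 2, 1, 3, 5]
def rw3298 : List ℕ := [4, 2, 6, 5, 2, 5, 2, 0, 5, 3, 3, 1, 2, 0, 2, 2, 4, 1, 3, 4, 3, 4, 7, 3, 5, 6, 3, 7]
def rw3299 : List ℕ := [1, 4, 2, 6, 1, 7, 3, 5, 0, 5, 6, 5, 2, 5, 5, 5, 2, 5, 1, 0, 0, 4, 3, 4, 4, 4, 3, 4, 7, 4]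
def rw3300 : List ℕ := [6, 6, 4, 3, 4, 4, 0, 3, 3, 1, 0, 0, 2, 2, 1, 5, 5, 2, 5, 7, 7, 1, 3, 6, 6, 1, 7, 7, 2, 0]
def rw3301 : List ℕ := [2, 1, 3, 1, 2, 1, 2, 0, 2, 2, 1, 1, 0, 0, 0, 3, 3, 1, 3, 0, 3, 0]
def rw3302 : List ℕ := [3, 3, 5, 3, 1, 4, 0, 2, 4, 2, 2, 7, 3, 1, 6, 3, 3, 5, 5, 4, 2, 2, 7, 0, 2, 6]
def rw3303 : List ℕ := [5, 5, 4, 3, 1, 2, 1, 5, 0, 3, 0, 3, 1, 1, 4, 0, 0, 2, 1, 2, 1, 4, 0, 3, 0, 2]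
def rw3304 : List ℕ := [0, 5, 3, 5, 7, 4, 2, 4, 1, 3, 3, 5, 3, 5, 3, 3, 1, 6, 0, 2, 2, 4, 2, 4, 2, 2]
def rw3305 : List ℕ := [5, 1, 5, 1, 5, 1, 5, 1, 5, 1, 2, 0, 4, 0, 4, 0, 4, 0, 4, 0, 4, 3]
def rw3306 : List ℕ := [2, 2, 2, 1, 3, 3, 3, 1, 3, 0, 3, 1, 0, 0, 2, 1, 2, 0]
def rw3307 : List ℕ := [5, 2, 5, 0, 0, 0, 5, 2, 5, 5, 4, 3, 4, 1, 1, 1, 4, 3, 4, 1, 1, 1, 4, 0, 0, 0]
def rw3308 : List ℕ := [0, 4, 3, 3, 4, 0, 0, 4, 3, 3, 4, 5, 5, 2, 2, 5, 1, 1, 5, 2, 2, 5, 1, 1, 4, 0]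
def rw3309 : List ℕ := [5, 1, 1, 3, 0, 4, 1, 2, 2, 1, 1, 2, 0, 0, 3, 3, 0, 5, 1, 2, 0, 0, 4, 2, 3, 3]
def rw3310 : List ℕ := [2, 2, 2, 2, 2, 0, 3, 3, 3, 3, 3, 0, 0, 0, 0, 3, 0, 2, 1, 1, 1, 1]
def rw3311 : List ℕ := [4, 2, 4, 2, 4, 4, 3, 5, 5, 3, 5, 3, 5, 5, 3, 5, 3, 2, 2, 4, 2, 4]
def rw3312 : List ℕ := [4, 1, 6, 5, 3, 4, 3, 4, 2, 5, 3, 4, 3, 5, 2, 5, 2, 4, 7, 0, 5, 6, 1, 2, 1, 2, 0, 3, 0, 7]
def rw3313 : List ℕ := [0, 2, 1, 2, 7, 4, 3, 5, 6, 3, 0, 3, 1, 7, 0, 2, 4, 2, 1, 3, 1, 2, 0, 2, 0, 3, 5, 3, 1, 6]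
def rw3314 : List ℕ := [3, 3, 3, 1, 7, 4, 2, 0, 5, 1, 3, 1, 0, 0, 2, 0, 4, 1, 3, 5, 6, 0, 2, 2, 2, 7, 3, 1, 2, 6]
def rw3315 : List ℕ := [1, 2, 7, 2, 7, 4, 1, 2, 7, 2, 7, 4, 1, 0, 0, 5, 6, 3, 6, 3, 0, 5, 6, 3, 6, 3]
def rw3316 : List ℕ := [4, 2, 0, 5, 2, 7, 3, 6, 3, 4, 1, 3, 5, 3, 5, 2, 7, 3, 1, 2, 0, 2, 6, 3, 4, 2]
def rw3317 : List ℕ := [2, 5, 0, 5, 2, 7, 3, 6, 3, 4, 1, 4, 3, 5, 3, 5, 7, 3, 1, 2, 0, 2, 6, 4, 2, 4]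
def rw3318 : List ℕ := [3, 5, 7, 4, 2, 4, 1, 3, 5, 3, 5, 3, 5, 3, 1, 6, 0, 2, 4, 2, 4, 2, 4, 2, 0, 5]
def rw3319 : List ℕ := [4, 2, 4, 2, 0, 5, 2, 7, 1, 6, 3, 4, 1, 3, 5, 3, 5, 2, 7, 3, 1, 0, 0, 2, 6, 3]
def rw3320 : List ℕ := [6, 3, 0, 3, 1, 7, 3, 1, 2, 6, 0, 2, 1, 2, 7, 4, 2, 0, 5, 1, 3, 1, 0, 0, 2, 0, 4, 1, 3, 5]
def rw3321 : List ℕ := [3, 4, 7, 4, 2, 2, 3, 3, 3, 5, 6, 5, 2, 5, 5, 2, 7, 5, 2, 5, 1, 2, 0, 4, 3, 4, 6, 3, 4, 4]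
def rw3322 : List ℕ := [1, 4, 1, 4, 2, 6, 3, 3, 1, 2, 0, 2, 2, 7, 3, 5, 0, 5, 0, 2, 4, 2, 6, 3, 3, 2, 7, 3, 5, 3]
def rw3323 : List ℕ := [0, 2, 5, 2, 6, 3, 7, 1, 6, 4, 2, 2, 5, 5, 4, 3, 3, 5, 7, 0, 6, 2, 7, 3, 4, 3, 1, 4]
def rw3324 : List ℕ := [0, 2, 0, 2, 7, 0, 2, 6, 3, 0, 5, 0, 2, 4, 5, 5, 3, 1, 4, 1, 2, 7, 3, 1, 6, 3, 1, 3, 1, 4]
def rw3325 : List ℕ := [4, 3, 6, 0, 4, 3, 6, 7, 7, 2, 5, 1, 7, 2, 5, 1, 7, 2, 5, 1, 6, 0, 4, 3, 6, 0]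
def rw3326 : List ℕ := [7, 0, 2, 6, 4, 1, 1, 5, 5, 1, 1, 2, 0, 0, 4, 4, 0, 0, 5, 7, 3, 1, 6, 3, 3, 3, 2, 2]
def rw3327 : List ℕ := [7, 4, 2, 0, 5, 3, 1, 6, 3, 1, 2, 7, 0, 2, 4, 1, 3, 5, 6, 3, 3, 1, 0, 0, 2, 2]
def rw3328 : List ℕ := [1, 4, 1, 2, 7, 0, 3, 1, 2, 0, 2, 1, 6, 3, 0, 5, 0, 2, 4, 3, 1, 7, 2, 3, 3, 6, 0, 2, 5, 3]
def rw3329 : List ℕ := [3, 0, 2, 2, 7, 4, 1, 4, 1, 5, 0, 5, 6, 3, 3, 1, 2, 7, 3, 5, 1, 3, 1, 0, 0, 2, 0, 4, 2, 6]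
def rw3330 : List ℕ := [2, 5, 2, 0, 5, 7, 4, 1, 3, 4, 3, 4, 7, 3, 5, 6, 3, 3, 1, 6, 0, 2, 2, 7, 4, 2, 6, 5]
def rw3331 : List ℕ := [4, 4, 0, 5, 1, 1, 0, 0, 0, 4, 1, 5, 5, 1, 1, 5, 0, 4, 4, 1, 5, 5, 1, 4, 0, 0]
def rw3332 : List ℕ := [0, 2, 0, 0, 2, 5, 3, 1, 1, 3, 1, 1, 4, 0]
def rw3333 : List ℕ := [4, 4, 2, 2, 5, 1, 4, 3, 3, 5, 5, 1, 4, 3, 3, 5, 5, 1, 0, 0, 4, 4, 2, 2, 5, 0]
def rw3334 : List ℕ := [1, 6, 3, 4, 1, 4, 3, 1, 0, 0, 2, 5, 0, 5, 2, 7, 0, 2, 6, 0, 5, 3, 5, 1, 4, 2, 4, 1, 7, 3]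
def rw3335 : List ℕ := [3, 3, 3, 0, 0, 0, 0, 3, 0, 2, 1, 1, 1, 1, 2, 2, 2, 2, 2, 0, 3, 3]
def rw3336 : List ℕ := [0, 4, 4, 0, 0, 4, 0, 4, 4, 3, 5, 5, 1, 5, 1, 1, 5, 5, 1, 5, 1, 1, 2, 0, 0, 4]
def rw3337 : List ℕ := [3, 4, 1, 5, 2, 0, 2, 5, 1, 3, 1, 5, 1, 3, 1, 0, 0, 2, 0, 4, 0, 2, 0, 4, 3, 1]
def rw3338 : List ℕ := [4, 1, 6, 1, 2, 2, 5, 3, 1, 4, 0, 2, 4, 3, 3, 0, 7, 0, 5, 6, 1, 2, 4, 5, 5, 3, 0, 7]
def rw3339 : List ℕ := [4, 1, 6, 0, 5, 3, 5, 0, 5, 3, 5, 7, 4, 2, 4, 1, 4, 2]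
def rw3340 : List ℕ := [4, 4, 0, 3, 1, 2, 0, 2, 1, 5, 5, 2, 5, 5, 2, 0, 3, 4, 3, 5, 2, 1, 3, 4, 4, 3]
def rw3341 : List ℕ := [2, 0, 2, 2, 1, 1, 2, 0, 0, 3, 3, 1, 3, 0, 3, 0, 2, 3, 3, 1, 2, 1]
def rw3342 : List ℕ := [0, 2, 5, 3, 1, 1, 1, 0, 0, 0, 0, 2, 4, 3, 1, 2, 1, 5, 0, 3, 1, 2, 1, 4, 0, 3]
def rw3343 : List ℕ := [1, 2, 1, 3, 4, 2, 5, 3, 5, 2, 0, 3, 0, 4, 1, 2, 1, 1, 1, 4, 0, 0, 0, 3, 0, 5]
def rw3344 : List ℕ := [7, 3, 1, 6, 4, 2, 4, 1, 3, 0, 5, 0, 3, 1, 0, 0, 2, 1, 4, 1, 2, 0, 5, 3, 5, 7, 0, 2, 6, 1]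
def rw3345 : List ℕ := [2, 1, 4, 3, 1, 1, 1, 5, 3, 1, 1, 1, 4, 0, 0, 0, 2, 4, 0, 0, 0, 2, 5, 0, 3, 5]
def rw3346 : List ℕ := [1, 1, 4, 3, 1, 1, 1, 0, 0, 0, 0, 2, 5, 0, 0, 2, 2, 2, 1, 4, 1, 5, 0, 3, 3, 3]
def rw3347 : List ℕ := [5, 1, 2, 0, 0, 4, 1, 2, 1, 1, 1, 0, 0, 0, 0, 3, 0, 5, 1, 1, 3, 0, 4, 2, 1, 3]
def rw3348 : List ℕ := [0, 2, 6, 4, 0, 4, 4, 3, 1, 4, 0, 2, 5, 5, 1, 5, 7, 3, 1, 6, 4, 0, 4, 4, 5, 5, 5, 1, 5, 7]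
def rw3349 : List ℕ := [3, 1, 6, 0, 2, 5, 3, 1, 0, 0, 2, 4, 3, 1, 7, 0, 2, 6, 3, 0, 5, 1, 4, 1, 2, 7]
def rw3350 : List ℕ := [3, 3, 5, 5, 5, 1, 1, 2, 0, 0, 4, 4, 4, 2, 2, 4, 2, 0, 4, 3, 5, 1, 3, 5]
def rw3351 : List ℕ := [5, 5, 3, 5, 3, 0, 2, 4, 2, 4, 4, 2, 4, 2, 4, 4, 1, 5, 5, 3, 5, 3]
def rw3352 : List ℕ := [4, 4, 4, 2, 2, 4, 2, 0, 4, 1, 5, 1, 3, 5, 3, 3, 5, 5, 5, 1, 1, 0, 0, 0]
def rw3353 : List ℕ := [3, 4, 4, 3, 1, 2, 5, 5, 2, 1, 2, 2, 4, 2, 2, 1, 0, 0, 3, 3, 5, 3, 3, 0]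
def rw3354 : List ℕ := [1, 6, 5, 2, 5, 1, 4, 0, 4, 3, 4, 7, 0, 5, 6, 3, 0, 5, 3, 5, 5, 4, 2, 4, 1, 2, 7, 4]
def rw3355 : List ℕ := [6, 2, 7, 4, 4, 1, 5, 5, 6, 3, 7, 5, 6, 5, 2, 5, 2, 5, 1, 0, 0, 4, 3, 4, 3, 4, 7, 4]
def rw3356 : List ℕ := [2, 2, 5, 3, 3, 1, 3, 3, 1, 4, 0, 2, 2, 0]
def rw3357 : List ℕ := [3, 0, 5, 1, 1, 1, 0, 0, 0, 0, 4, 1, 2, 2, 1, 1, 3, 5, 2, 1, 3, 4, 2, 0, 0, 3]
def rw3358 : List ℕ := [5, 2, 4, 2, 2, 4, 1, 5, 1, 1, 2, 0, 0, 4, 0, 5, 3, 3, 5, 3, 4, 4, 3, 5]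
def rw3359 : List ℕ := [5, 6, 2, 2, 2, 4, 1, 5, 3, 3, 3, 7, 4, 2, 6, 4, 0, 5, 3, 5, 1, 0, 0, 4, 2, 4, 1, 5, 7, 3]
def rw3360 : List ℕ := [2, 1, 2, 2, 2, 5, 5, 1, 4, 4, 3, 3, 3, 0, 3, 0, 3, 4, 3, 1, 0, 0, 2, 5, 2, 1]
def rw3361 : List ℕ := [4, 2, 2, 4, 4, 4, 1, 5, 5, 5, 3, 3, 5, 3, 1, 5, 1, 1, 0, 0, 0, 4, 0, 2]
def rw3362 : List ℕ := [5, 2, 0, 3, 0, 4, 1, 1, 4, 0, 0, 5, 1, 2, 1, 3, 4, 1, 2, 2, 2, 5, 3, 3, 3, 0]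
def rw3363 : List ℕ := [6, 4, 1, 1, 5, 5, 1, 1, 6, 0, 0, 4, 4, 0, 0, 5, 7, 3, 1, 6, 3, 3, 7, 2, 2, 7, 0, 2]
def rw3364 : List ℕ := [6, 3, 6, 5, 1, 2, 0, 4, 7, 2, 7, 4, 3, 6, 3, 6, 3, 4, 3, 4, 3, 5, 2, 5, 2, 7, 2, 7, 2, 5]
def rw3365 : List ℕ := [4, 2, 6, 4, 0, 5, 3, 5, 1, 4, 0, 4, 2, 4, 1, 5, 7, 3, 5, 6, 2, 2, 2, 4, 5, 5, 3, 3, 3, 7]
def rw3366 : List ℕ := [2, 6, 3, 4, 1, 4, 1, 3, 5, 0, 3, 1, 0, 0, 2, 1, 4, 2, 0, 5, 0, 5, 2, 7, 3, 1, 6, 1, 7, 0]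
def rw3367 : List ℕ := [3, 1, 4, 0, 2, 4, 1, 4, 2, 1, 4, 1, 4, 1, 5, 5, 4, 0, 5, 0, 5, 0, 3, 5, 0, 5]
def rw3368 : List ℕ := [0, 0, 0, 2, 5, 0, 3, 3, 2, 1, 4, 3, 1, 1, 1, 5, 3, 1, 1, 1, 2, 0, 0, 0, 2, 4]
def rw3369 : List ℕ := [0, 3, 1, 1, 5, 0, 3, 1, 2, 1, 4, 0, 0, 2, 1, 5, 3, 1, 1, 1, 0, 0, 0, 0, 2, 4]
def rw3370 : List ℕ := [3, 3, 5, 0, 0, 5, 3, 3, 5, 1, 4, 2, 2, 4, 1, 1, 4, 2, 2, 4, 1, 1, 0, 0, 0, 5]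
def rw3371 : List ℕ := [4, 3, 4, 7, 4, 2, 2, 1, 3, 3, 5, 6, 5, 2, 5, 5, 2, 7, 5, 2, 5, 1, 0, 0, 4, 3, 4, 6, 3, 4]
def rw3372 : List ℕ := [2, 7, 3, 4, 3, 1, 6, 0, 2, 5, 2, 6, 3, 7, 1, 6, 4, 2, 2, 5, 7, 4, 3, 3, 5, 7, 0, 6]
def rw3373 : List ℕ := [7, 0, 2, 6, 4, 3, 5, 7, 3, 1, 6, 4, 4, 0, 3, 4, 4, 1, 1, 1, 2, 0, 0, 0, 5, 5, 2, 1, 5, 5]
def rw3374 : List ℕ := [0, 5, 6, 4, 3, 1, 0, 0, 2, 5, 7, 4, 1, 3, 5, 6, 4, 2, 0, 5, 5, 1, 4, 4, 1, 3, 5, 7, 4, 2]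
def rw3375 : List ℕ := [3, 0, 3, 1, 7, 1, 3, 1, 1, 0, 0, 0, 2, 0, 6, 0, 2, 1, 2, 7, 4, 2, 0, 5, 1, 4, 1, 3, 5, 6]
def rw3376 : List ℕ := [3, 3, 3, 1, 7, 4, 5, 5, 6, 0, 2, 2, 2, 7, 0, 2, 4, 2, 1, 3, 1, 4, 0, 2, 0, 3, 5, 3, 1, 6]
def rw3377 : List ℕ := [3, 3, 0, 2, 4, 4, 3, 5, 5, 3, 1, 2, 2, 7, 4, 2, 6, 1, 5, 3, 1, 2, 0, 2, 4, 0, 7, 3, 5, 6]
def rw3378 : List ℕ := [7, 1, 3, 6, 6, 1, 7, 7, 2, 0, 6, 6, 4, 3, 4, 4, 0, 3, 3, 1, 0, 0, 2, 2, 1, 5, 5, 2, 5, 7]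
def rw3379 : List ℕ := [0, 0, 0, 2, 5, 0, 3, 0, 3, 1, 1, 4, 5, 5, 0, 0, 2, 1, 2, 1, 4, 3, 1, 1, 1, 4]
def rw3380 : List ℕ := [3, 5, 1, 3, 1, 5, 1, 3, 1, 0, 0, 2, 0, 4, 0, 2, 0, 4, 2, 0, 2, 4, 1, 5, 3, 1]
def rw3381 : List ℕ := [7, 0, 2, 6, 4, 4, 4, 5, 5, 5, 5, 7, 3, 1, 6, 3, 3, 5, 5, 1, 1, 4, 0, 0, 4, 4, 2, 2]
def rw3382 : List ℕ := [4, 1, 4, 1, 1, 3, 5, 0, 5, 3, 1, 1, 2, 0, 0, 2, 4, 1, 4, 2, 0, 0, 5, 0, 5, 3]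
def rw3383 : List ℕ := [3, 6, 4, 2, 0, 5, 7, 2, 7, 3, 1, 0, 0, 2, 6, 3, 6, 4, 1, 3, 5, 7, 2, 7, 5, 2, 1, 3, 4, 6]
def rw3384 : List ℕ := [0, 2, 6, 3, 0, 5, 0, 2, 4, 3, 5, 3, 1, 4, 1, 2, 7, 3, 1, 6, 3, 1, 3, 1, 2, 0, 2, 0, 2, 7]
def rw3385 : List ℕ := [5, 6, 1, 2, 4, 1, 5, 3, 0, 7, 4, 1, 6, 1, 2, 2, 5, 3, 1, 0, 0, 2, 4, 3, 3, 0, 7, 0]
def rw3386 : List ℕ := [4, 1, 6, 2, 2, 7, 4, 1, 4, 0, 5, 6, 3, 3, 7, 0, 5, 6, 3, 3, 7, 5, 6, 2, 2, 7]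
def rw3387 : List ℕ := [7, 5, 6, 5, 2, 5, 2, 5, 1, 2, 0, 4, 3, 4, 3, 4, 7, 4, 6, 2, 7, 4, 4, 3, 5, 5, 6, 3]
def rw3388 : List ℕ := [1, 6, 3, 3, 5, 1, 4, 2, 2, 7, 0, 2, 6, 3, 3, 5, 3, 1, 0, 0, 2, 4, 2, 2, 7, 3]
def rw3389 : List ℕ := [3, 1, 6, 3, 4, 1, 4, 3, 1, 2, 0, 2, 5, 0, 5, 2, 7, 0, 2, 6, 0, 5, 3, 5, 3, 4, 2, 4, 1, 7]
def rw3390 : List ℕ := [5, 1, 4, 1, 4, 1, 1, 1, 2, 0, 0, 0, 5, 0, 5, 0, 4, 0, 5, 0, 5, 3, 4, 1, 4, 1]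
def rw3391 : List ℕ := [5, 2, 5, 5, 4, 3, 4, 1, 1, 1, 4, 3, 4, 1, 1, 1, 4, 0, 0, 0, 5, 2, 5, 0, 0, 0]
def rw3392 : List ℕ := [3, 5, 6, 1, 7, 4, 2, 6, 5, 2, 5, 2, 0, 5, 3, 3, 1, 0, 0, 2, 2, 4, 1, 3, 4, 3, 4, 7]
def rw3393 : List ℕ := [5, 7, 0, 5, 6, 3, 5, 1, 4, 2, 7, 4, 1, 6, 4, 3, 4, 2, 2, 1, 2, 1, 0, 0, 3, 0, 3, 3, 5, 2]
def rw3394 : List ℕ := [3, 0, 2, 2, 1, 4, 3, 1, 1, 1, 0, 0, 0, 0, 2, 5, 0, 3, 3, 1, 2, 1, 4, 1, 5, 0]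
def rw3395 : List ℕ := [6, 3, 4, 1, 4, 3, 1, 0, 0, 2, 5, 0, 5, 2, 7, 0, 2, 6, 0, 5, 3, 5, 1, 4, 2, 4, 1, 7, 3, 1]
def rw3396 : List ℕ := [6, 5, 2, 1, 4, 1, 4, 2, 7, 4, 5, 5, 6, 3, 5, 0, 5, 0, 3, 4, 7, 1, 3, 1, 4, 0, 2, 0]
def rw3397 : List ℕ := [1, 6, 3, 3, 3, 1, 6, 0, 2, 2, 2, 7, 0, 2, 4, 1, 3, 5, 6, 7, 7, 4, 2, 0, 5, 3]
def rw3398 : List ℕ := [4, 1, 4, 1, 4, 1, 0, 0, 5, 0, 5, 0, 5, 0, 5, 0, 5, 1, 4, 1, 4, 1]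
def rw3399 : List ℕ := [0, 4, 1, 5, 1, 5, 5, 1, 1, 5, 1, 5, 5, 1, 1, 0, 0, 0, 4, 4, 0, 4, 0, 0, 4, 4]
def rw3400 : List ℕ := [2, 7, 3, 3, 1, 7, 0, 3, 1, 2, 0, 2, 1, 6, 0, 2, 2, 6, 3, 6, 3, 4, 2, 6, 3, 7, 3, 5, 2, 7]
def rw3401 : List ℕ := [3, 0, 5, 1, 1, 3, 0, 4, 2, 5, 3, 5, 1, 2, 0, 0, 4, 1, 2, 1, 1, 1, 4, 0, 0, 0]
def rw3402 : List ℕ := [4, 3, 1, 0, 0, 2, 5, 3, 5, 3, 5, 2, 0, 5, 3, 5, 1, 4, 2, 4, 1, 3, 4, 2, 4, 2]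
def rw3403 : List ℕ := [2, 5, 3, 1, 1, 2, 2, 1, 4, 3, 5, 0, 3, 3, 0, 0, 2, 4, 3, 1, 1, 1, 2, 0, 0, 0]
def rw3404 : List ℕ := [1, 5, 3, 1, 1, 4, 0, 0, 2, 4, 0, 3, 0, 2, 5, 0, 3, 3, 5, 2, 2, 1, 4, 3, 1, 2]
def rw3405 : List ℕ := [2, 6, 3, 3, 5, 3, 1, 0, 0, 2, 4, 2, 2, 7, 3, 1, 6, 3, 3, 5, 1, 4, 2, 2, 7, 0]
def rw3406 : List ℕ := [1, 6, 3, 3, 5, 3, 4, 2, 2, 7, 0, 2, 6, 3, 3, 5, 3, 1, 2, 0, 2, 4, 2, 2, 7, 3]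
def rw3407 : List ℕ := [5, 6, 5, 7, 4, 2, 6, 5, 2, 5, 2, 0, 5, 3, 3, 1, 4, 0, 2, 2, 4, 1, 3, 4, 3, 4, 7, 3]
def rw3408 : List ℕ := [1, 2, 2, 1, 1, 3, 5, 2, 5, 3, 4, 2, 0, 0, 3, 3, 0, 5, 1, 1, 1, 4, 0, 0, 0, 4]
def rw3409 : List ℕ := [2, 6, 5, 2, 5, 2, 0, 5, 3, 3, 1, 2, 0, 2, 2, 4, 1, 3, 4, 3, 4, 7, 3, 5, 6, 3, 7, 4]
def rw3410 : List ℕ := [4, 7, 2, 7, 1, 5, 1, 4, 0, 6, 3, 6, 5, 0, 7, 2, 7, 1, 1, 0, 0, 0, 6, 3, 6, 1]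
def rw3411 : List ℕ := [6, 5, 2, 5, 2, 6, 3, 6, 5, 1, 4, 7, 2, 7, 3, 4, 3, 4, 7, 2, 7, 3, 4, 3, 0, 2, 5, 2, 6, 3]
def rw3412 : List ℕ := [7, 0, 2, 6, 2, 2, 3, 3, 3, 7, 3, 1, 6, 2, 1, 5, 3, 1, 4, 1, 1, 2, 0, 0, 5, 0, 2, 4, 0, 3]
def rw3413 : List ℕ := [1, 3, 5, 6, 1, 7, 4, 2, 0, 5, 3, 1, 6, 3, 3, 3, 1, 0, 0, 2, 2, 2, 7, 0, 2, 4]
def rw3414 : List ℕ := [0, 5, 2, 0, 0, 0, 4, 2, 3, 3, 5, 1, 1, 1, 3, 4, 1, 2, 1, 1, 1, 2, 0, 0, 0, 3]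
def rw3415 : List ℕ := [1, 5, 1, 4, 0, 3, 0, 2, 5, 0, 3, 3, 3, 1, 1, 0, 0, 0, 2, 2, 2, 1, 4, 3, 1, 2]
def rw3416 : List ℕ := [2, 5, 3, 5, 1, 2, 1, 3, 4, 1, 2, 2, 1, 1, 4, 0, 0, 3, 3, 0, 5, 2, 0, 3, 0, 4]
def rw3417 : List ℕ := [6, 5, 2, 5, 2, 0, 5, 3, 3, 1, 0, 0, 2, 2, 4, 1, 3, 4, 3, 4, 7, 3, 5, 6, 1, 7, 4, 2]
def rw3418 : List ℕ := [1, 4, 2, 2, 4, 2, 5, 5, 1, 1, 2, 0, 0, 4, 4, 3, 5, 3, 3, 5, 0, 4, 3, 5]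
def rw3419 : List ℕ := [5, 3, 5, 0, 5, 0, 2, 1, 3, 1, 4, 0, 2, 0, 3, 1, 4, 1, 4, 2, 4, 1, 4, 5, 5, 0]
def rw3420 : List ℕ := [7, 2, 5, 0, 6, 3, 6, 2, 5, 2, 5, 3, 4, 3, 7, 2, 7, 1, 4, 3, 6, 3, 6, 5, 1, 4, 0, 4, 7, 2]
def rw3421 : List ℕ := [0, 2, 0, 0, 2, 3, 3, 1, 1, 3, 1, 1, 2, 0]
def rw3422 : List ℕ := [1, 2, 1, 1, 1, 4, 0, 0, 0, 3, 0, 5, 1, 1, 3, 0, 4, 2, 5, 3, 5, 1, 2, 0, 0, 4]
def rw3423 : List ℕ := [4, 2, 0, 0, 5, 0, 5, 3, 4, 1, 4, 1, 1, 3, 5, 0, 5, 3, 1, 1, 2, 0, 0, 2, 4, 1]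
def rw3424 : List ℕ := [2, 5, 1, 4, 3, 4, 1, 1, 1, 4, 3, 4, 1, 1, 1, 0, 0, 0, 0, 5, 2, 5, 0, 0, 0, 5]
def rw3425 : List ℕ := [2, 1, 3, 1, 1, 1, 2, 0, 0, 0, 2, 0, 3, 3, 0, 3, 1, 3, 3, 3, 2, 2, 0, 2, 1, 2]
def rw3426 : List ℕ := [0, 0, 2, 0, 0, 2, 3, 3, 1, 1, 3, 1, 1, 2]
def rw3427 : List ℕ := [5, 2, 5, 1, 4, 3, 4, 1, 1, 1, 4, 3, 4, 1, 1, 1, 0, 0, 0, 0, 5, 2, 5, 0, 0, 0]
def rw3428 : List ℕ := [1, 5, 1, 1, 2, 0, 0, 4, 0, 2, 4, 2, 2, 4, 4, 4, 3, 5, 5, 5, 3, 3, 5, 3]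
def rw3429 : List ℕ := [2, 5, 3, 1, 1, 1, 2, 0, 0, 0, 2, 4, 3, 1, 2, 1, 5, 0, 3, 3, 2, 1, 4, 0, 3, 0]
def rw3430 : List ℕ := [3, 4, 1, 1, 1, 0, 0, 0, 0, 5, 2, 5, 0, 0, 0, 5, 2, 5, 1, 4, 3, 4, 1, 1, 1, 4]
def rw3431 : List ℕ := [1, 2, 0, 2, 0, 2, 0, 2, 3, 3, 1, 3, 1, 3]
def rw3432 : List ℕ := [7, 0, 2, 6, 3, 3, 5, 0, 3, 1, 0, 0, 2, 1, 4, 2, 2, 7, 3, 1, 6, 3, 3, 5, 2, 1, 3, 4, 2, 2]
def rw3433 : List ℕ := [1, 5, 5, 1, 1, 5, 1, 5, 5, 1, 1, 4, 0, 0, 4, 4, 0, 4, 0, 0, 4, 4, 0, 4, 5, 5]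
def rw3434 : List ℕ := [4, 1, 6, 5, 3, 4, 3, 4, 2, 5, 1, 4, 3, 5, 2, 5, 2, 4, 7, 0, 5, 6, 1, 2, 1, 0, 0, 3, 0, 7]
def rw3435 : List ℕ := [7, 4, 2, 6, 5, 2, 5, 2, 0, 5, 3, 3, 1, 4, 0, 2, 2, 4, 1, 3, 4, 3, 4, 7, 3, 5, 6, 5]
def rw3436 : List ℕ := [7, 4, 1, 6, 4, 3, 4, 2, 2, 1, 2, 1, 2, 0, 3, 0, 3, 3, 5, 2, 5, 7, 0, 5, 6, 3, 5, 3, 4, 2]
def rw3437 : List ℕ := [2, 2, 2, 5, 5, 5, 4, 4, 3, 3, 3, 0, 3, 0, 3, 4, 3, 1, 4, 0, 2, 5, 2, 1, 2, 1]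
def rw3438 : List ℕ := [1, 4, 3, 1, 4, 3, 1, 0, 0, 2, 5, 0, 2, 5, 0, 2, 5, 0, 2, 5, 1, 4, 3, 1, 4, 3]
def rw3439 : List ℕ := [5, 5, 5, 4, 4, 1, 4, 1, 4, 3, 5, 0, 5, 3, 1, 4, 0, 2, 4, 1, 4, 2, 5, 0, 5, 0]
def rw3440 : List ℕ := [6, 3, 5, 0, 5, 0, 3, 4, 7, 1, 3, 1, 4, 0, 2, 0, 6, 5, 2, 1, 4, 1, 4, 2, 7, 4, 5, 5]
def rw3441 : List ℕ := [2, 2, 6, 3, 6, 3, 4, 2, 6, 3, 0, 2, 6, 7, 7, 3, 1, 2, 7, 3, 5, 2, 7, 2, 7, 3, 3, 1, 6, 0]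
def rw3442 : List ℕ := [4, 7, 2, 0, 4, 3, 6, 3, 7, 2, 5, 1, 3, 6, 5, 1, 7, 1, 5, 1, 3, 1, 2, 0, 2, 0, 4, 0, 6, 0]
def rw3443 : List ℕ := [7, 2, 5, 6, 3, 6, 5, 1, 0, 0, 4, 7, 2, 7, 4, 3, 6, 3, 6, 3, 4, 3, 4, 1, 5, 2, 5, 2, 7, 2]
def rw3444 : List ℕ := [2, 7, 1, 5, 1, 3, 6, 3, 6, 2, 7, 3, 7, 2, 7, 2, 0, 4, 0, 6, 3, 6, 5, 3, 1, 6, 0, 2, 4, 7]
def rw3445 : List ℕ := [4, 1, 2, 7, 3, 1, 6, 3, 4, 3, 1, 2, 0, 2, 5, 2, 7, 0, 2, 6, 3, 0, 5, 3, 5, 2, 3, 3, 4, 2]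
def rw3446 : List ℕ := [4, 3, 4, 7, 3, 5, 6, 7, 7, 4, 2, 6, 5, 2, 5, 2, 0, 5, 3, 3, 1, 6, 0, 2, 2, 4, 1, 3]
def rw3447 : List ℕ := [7, 3, 1, 6, 3, 7, 0, 2, 6, 3, 4, 1, 4, 1, 3, 5, 0, 3, 1, 2, 0, 2, 1, 4, 2, 0, 5, 0, 5, 2]
def rw3448 : List ℕ := [4, 7, 3, 5, 6, 7, 7, 4, 2, 6, 5, 2, 5, 2, 0, 5, 3, 3, 1, 6, 0, 2, 2, 4, 1, 3, 4, 3]
def rw3449 : List ℕ := [2, 1, 5, 0, 3, 3, 2, 1, 4, 0, 3, 0, 2, 5, 3, 1, 1, 1, 2, 0, 0, 0, 2, 4, 3, 1]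
def rw3450 : List ℕ := [5, 3, 1, 1, 2, 2, 1, 4, 0, 3, 1, 1, 0, 0, 0, 2, 1, 5, 0, 3, 3, 0, 0, 2, 4, 1]
def rw3451 : List ℕ := [7, 3, 1, 6, 3, 3, 5, 5, 4, 2, 2, 7, 0, 2, 6, 3, 3, 5, 3, 1, 4, 0, 2, 4, 2, 2]
def rw3452 : List ℕ := [1, 2, 1, 2, 0, 2, 2, 1, 1, 4, 0, 0, 3, 3, 1, 3, 0, 3, 0, 2, 5, 3]
def rw3453 : List ℕ := [0, 5, 3, 5, 0, 5, 3, 5, 5, 4, 2, 4, 1, 4, 2, 4, 1, 4]
def rw3454 : List ℕ := [2, 5, 0, 3, 3, 2, 1, 4, 3, 1, 1, 1, 5, 3, 1, 1, 1, 2, 0, 0, 0, 2, 4, 0, 0, 0]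
def rw3455 : List ℕ := [0, 0, 2, 1, 5, 3, 1, 1, 1, 0, 0, 0, 0, 2, 4, 0, 3, 1, 1, 5, 0, 3, 1, 2, 1, 4]
def rw3456 : List ℕ := [4, 4, 3, 4, 4, 3, 1, 4, 0, 2, 5, 5, 2, 5, 5, 1, 2, 0, 4, 3, 5, 2, 5, 1, 3, 0]
def rw3457 : List ℕ := [6, 4, 0, 5, 3, 5, 1, 0, 0, 4, 2, 4, 1, 5, 7, 3, 5, 6, 2, 2, 2, 4, 1, 5, 3, 3, 3, 7, 4, 2]
def rw3458 : List ℕ := [1, 2, 0, 0, 5, 1, 1, 1, 2, 0, 0, 0, 4, 1, 1, 3, 0, 3, 0, 5, 2, 3, 3, 4, 1, 2]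
def rw3459 : List ℕ := [4, 2, 6, 4, 0, 5, 3, 5, 1, 2, 0, 4, 2, 4, 1, 5, 7, 3, 5, 6, 2, 2, 2, 4, 3, 5, 3, 3, 3, 7]
def rw3460 : List ℕ := [4, 0, 4, 0, 4, 0, 4, 1, 5, 1, 5, 1, 5, 1, 5, 1, 5, 1, 0, 0, 4, 0]
def rw3461 : List ℕ := [5, 0, 4, 1, 5, 1, 4, 2, 2, 4, 2, 5, 5, 1, 1, 0, 0, 0, 4, 4, 3, 5, 3, 3]
def rw3462 : List ℕ := [1, 4, 1, 5, 0, 3, 3, 3, 1, 1, 4, 3, 1, 1, 1, 0, 0, 0, 0, 2, 5, 0, 0, 2, 2, 2]
def rw3463 : List ℕ := [3, 4, 1, 2, 1, 3, 3, 0, 5, 1, 2, 1, 4, 0, 3, 0, 4, 1, 2, 2, 0, 3, 0, 5, 2, 5]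
def rw3464 : List ℕ := [4, 2, 2, 4, 1, 1, 0, 0, 0, 5, 3, 3, 5, 0, 0, 5, 3, 3, 5, 1, 4, 2, 2, 4, 1, 1]
def rw3465 : List ℕ := [1, 5, 1, 5, 1, 5, 1, 5, 1, 2, 0, 4, 0, 4, 0, 4, 0, 4, 0, 4, 3, 5]
def rw3466 : List ℕ := [4, 3, 4, 1, 1, 1, 4, 3, 4, 1, 1, 1, 0, 0, 0, 0, 5, 2, 5, 0, 0, 0, 5, 2, 5, 1]
def rw3467 : List ℕ := [0, 5, 6, 1, 2, 4, 3, 5, 3, 0, 7, 4, 1, 6, 1, 2, 2, 5, 3, 1, 2, 0, 2, 4, 3, 3, 0, 7]
def rw3468 : List ℕ := [5, 2, 4, 2, 2, 4, 1, 5, 1, 1, 4, 0, 0, 4, 0, 5, 3, 3, 5, 3, 4, 4, 5, 5]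
def rw3469 : List ℕ := [3, 4, 2, 2, 4, 4, 2, 2, 4, 4, 2, 2, 4, 4, 5, 5, 5, 3, 3, 5, 5, 3, 3, 5, 5, 3]
def rw3470 : List ℕ := [6, 4, 4, 0, 3, 4, 4, 1, 1, 1, 4, 0, 0, 0, 5, 5, 2, 1, 5, 5, 7, 0, 2, 6, 4, 5, 5, 7, 3, 1]
def rw3471 : List ℕ := [6, 3, 3, 0, 2, 4, 4, 3, 5, 5, 3, 1, 2, 2, 7, 4, 2, 6, 1, 5, 3, 1, 2, 0, 2, 4, 0, 7, 3, 5]
def rw3472 : List ℕ := [2, 1, 2, 1, 3, 1, 1, 4, 0, 0, 2, 0, 3, 0, 3, 1, 3, 3, 5, 2, 2, 0]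
def rw3473 : List ℕ := [2, 2, 4, 2, 4, 2, 2, 4, 2, 4, 1, 5, 3, 5, 3, 3, 5, 3, 5, 3, 3, 0]
def rw3474 : List ℕ := [5, 1, 4, 2, 2, 4, 2, 5, 5, 1, 1, 4, 0, 0, 4, 4, 3, 5, 3, 3, 5, 0, 4, 5]
def rw3475 : List ℕ := [2, 1, 5, 1, 4, 0, 3, 0, 2, 5, 0, 3, 3, 3, 1, 1, 0, 0, 0, 2, 2, 2, 1, 4, 3, 1]
def rw3476 : List ℕ := [6, 2, 2, 5, 3, 3, 7, 3, 1, 6, 2, 1, 5, 3, 1, 4, 1, 1, 4, 0, 0, 5, 0, 2, 4, 0, 3, 7, 0, 2]
def rw3477 : List ℕ := [1, 2, 0, 2, 2, 2, 3, 3, 3, 3, 1, 3, 0, 3, 1, 2, 0, 2]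
def rw3478 : List ℕ := [1, 6, 1, 2, 2, 5, 3, 1, 4, 0, 2, 4, 3, 3, 0, 7, 0, 5, 6, 1, 2, 4, 5, 5, 3, 0, 7, 4]
def rw3479 : List ℕ := [1, 6, 3, 3, 1, 2, 2, 7, 0, 2, 6, 4, 1, 1, 5, 5, 1, 1, 0, 0, 0, 4, 4, 0, 0, 5, 7, 3]
def rw3480 : List ℕ := [3, 4, 1, 4, 1, 3, 5, 0, 3, 1, 0, 0, 2, 1, 4, 2, 0, 5, 0, 5, 2, 7, 3, 1, 6, 1, 7, 0, 2, 6]
def rw3481 : List ℕ := [0, 2, 2, 2, 7, 0, 2, 4, 2, 1, 3, 1, 4, 0, 2, 0, 3, 5, 3, 1, 6, 3, 3, 3, 1, 7, 4, 5, 5, 6]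
def rw3482 : List ℕ := [5, 3, 1, 1, 1, 0, 0, 0, 0, 2, 4, 0, 0, 0, 2, 5, 0, 3, 1, 2, 1, 4, 3, 1, 1, 1]
def rw3483 : List ℕ := [7, 1, 3, 6, 6, 1, 7, 7, 2, 0, 6, 6, 5, 1, 2, 0, 4, 0, 3, 1, 0, 0, 2, 1, 5, 1, 3, 0, 4, 7]
def rw3484 : List ℕ := [4, 0, 0, 0, 2, 5, 0, 3, 3, 2, 1, 4, 3, 1, 1, 1, 5, 3, 1, 1, 1, 2, 0, 0, 0, 2]
def rw3485 : List ℕ := [4, 3, 3, 2, 5, 5, 2, 1, 2, 2, 4, 2, 2, 1, 2, 0, 3, 3, 5, 3, 3, 0, 3, 4]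
def rw3486 : List ℕ := [1, 6, 5, 2, 5, 5, 3, 5, 2, 7, 4, 1, 0, 0, 5, 6, 3, 4, 2, 4, 4, 3, 4, 7]
def rw3487 : List ℕ := [5, 6, 5, 2, 5, 2, 4, 3, 5, 3, 5, 7, 4, 1, 4, 0, 5, 6, 4, 2, 4, 2, 5, 3, 4, 3, 4, 7]
def rw3488 : List ℕ := [7, 4, 1, 3, 1, 4, 0, 2, 0, 5, 6, 5, 1, 3, 4, 3, 1, 5, 1, 7, 5, 6, 0, 4, 0, 2, 5, 2, 0, 4]
def rw3489 : List ℕ := [6, 5, 2, 5, 2, 0, 5, 2, 7, 1, 6, 3, 4, 1, 3, 4, 3, 4, 7, 0, 5, 3, 1, 0, 0, 2, 4, 1]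
def rw3490 : List ℕ := [4, 7, 0, 5, 3, 1, 4, 0, 2, 4, 1, 6, 5, 2, 5, 2, 0, 5, 2, 7, 5, 6, 3, 4, 1, 3, 4, 3]
def rw3491 : List ℕ := [4, 1, 3, 1, 2, 0, 2, 0, 5, 6, 5, 1, 3, 4, 3, 1, 5, 1, 7, 3, 6, 0, 4, 0, 2, 5, 2, 0, 4, 7]
def rw3492 : List ℕ := [6, 3, 4, 1, 4, 1, 3, 5, 0, 3, 1, 2, 0, 2, 1, 4, 2, 0, 5, 0, 5, 2, 7, 3, 1, 6, 3, 7, 0, 2]
def rw3493 : List ℕ := [1, 5, 3, 1, 1, 1, 4, 0, 0, 0, 2, 4, 0, 0, 0, 2, 5, 0, 3, 5, 2, 1, 4, 3, 1, 1]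
def rw3494 : List ℕ := [3, 1, 4, 1, 2, 7, 0, 3, 1, 0, 0, 2, 1, 6, 3, 0, 5, 0, 2, 4, 3, 1, 7, 2, 1, 3, 6, 0, 2, 5]
def rw3495 : List ℕ := [0, 5, 0, 5, 0, 5, 0, 5, 7, 4, 1, 4, 1, 4, 1, 4, 1, 4, 1, 6, 0, 5]
def rw3496 : List ℕ := [6, 3, 0, 3, 1, 4, 0, 2, 1, 2, 7, 4, 2, 0, 5, 3, 1, 6, 5, 7, 0, 2, 4, 1, 3, 5]
def rw3497 : List ℕ := [3, 3, 1, 6, 0, 2, 2, 7, 4, 2, 0, 5, 3, 1, 6, 3, 7, 2, 7, 0, 2, 4, 1, 3, 5, 6]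
def rw3498 : List ℕ := [7, 3, 1, 6, 0, 2, 6, 3, 4, 2, 4, 2, 0, 5, 2, 7, 7, 6, 3, 4, 1, 3, 5, 3, 5, 2]
def rw3499 : List ℕ := [7, 4, 2, 0, 2, 6, 0, 4, 5, 5, 1, 7, 3, 1, 3, 5, 6, 5, 1, 3, 4, 3, 1, 4, 0, 2, 5, 2, 0, 4]
def rw3500 : List ℕ := [7, 0, 5, 6, 1, 2, 4, 1, 5, 3, 0, 7, 4, 1, 6, 1, 2, 2, 5, 3, 1, 0, 0, 2, 4, 3, 3, 0]
def rw3501 : List ℕ := [7, 2, 7, 2, 7, 4, 2, 4, 1, 2, 7, 7, 6, 3, 0, 5, 3, 5, 6, 3, 6, 3, 6, 3, 4, 1, 6, 0, 5, 2]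
def rw3502 : List ℕ := [4, 3, 5, 5, 3, 1, 2, 2, 7, 4, 2, 6, 1, 5, 3, 1, 2, 0, 2, 4, 0, 7, 3, 5, 6, 3, 3, 0, 2, 4]
def rw3503 : List ℕ := [1, 4, 1, 3, 1, 6, 0, 2, 0, 5, 0, 2, 0, 5, 0, 2, 0, 5, 7, 4, 1, 3, 1, 4, 1, 3]
def rw3504 : List ℕ := [7, 4, 1, 6, 5, 2, 5, 1, 2, 0, 4, 3, 4, 7, 0, 5, 6, 3, 0, 5, 3, 5, 3, 4, 2, 4, 1, 2]
def rw3505 : List ℕ := [6, 0, 6, 3, 6, 1, 3, 1, 1, 2, 0, 0, 2, 0, 7, 2, 7, 1, 7, 2, 7, 2, 3, 3, 6, 3]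
def rw3506 : List ℕ := [3, 0, 3, 1, 2, 0, 2, 1, 2, 7, 4, 2, 0, 5, 3, 1, 6, 3, 7, 0, 2, 4, 1, 3, 5, 6]
def rw3507 : List ℕ := [4, 3, 4, 6, 3, 3, 4, 2, 2, 7, 5, 2, 5, 2, 5, 7, 3, 5, 3, 5, 7, 5, 6, 4, 2, 4, 2, 6, 4, 3]
def rw3508 : List ℕ := [1, 3, 6, 6, 3, 3, 1, 1, 0, 0, 0, 2, 2, 7, 7, 2, 0, 6, 6, 4, 3, 4, 4, 1, 5, 5, 2, 5, 7, 7]
def rw3509 : List ℕ := [3, 4, 1, 2, 2, 1, 1, 0, 0, 0, 3, 3, 0, 5, 2, 0, 3, 0, 4, 2, 1, 3, 5, 1, 2, 1]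
def rw3510 : List ℕ := [4, 4, 0, 5, 1, 1, 2, 0, 0, 4, 1, 5, 5, 1, 1, 5, 0, 4, 4, 3, 5, 5, 1, 4, 0, 0]
def rw3511 : List ℕ := [2, 6, 5, 2, 5, 2, 0, 5, 3, 3, 1, 0, 0, 2, 2, 4, 1, 3, 4, 3, 4, 7, 3, 5, 6, 1, 7, 4]
def rw3512 : List ℕ := [5, 1, 0, 0, 4, 0, 4, 0, 4, 0, 4, 0, 4, 1, 5, 1, 5, 1, 5, 1, 5, 1]
def rw3513 : List ℕ := [2, 2, 4, 2, 4, 3, 5, 3, 5, 3, 3, 5, 3, 5, 3, 3, 2, 2, 2, 4, 2, 4]
def rw3514 : List ℕ := [1, 2, 1, 3, 3, 0, 5, 2, 1, 3, 4, 1, 2, 2, 0, 3, 0, 5, 1, 1, 1, 0, 0, 0, 0, 4]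
def rw3515 : List ℕ := [3, 3, 3, 0, 3, 0, 0, 6, 1, 1, 2, 1, 2, 2, 2, 7, 2, 1, 1, 1, 1, 1, 1, 1, 1, 1, 1, 1, 1, 1, 3, 6]
def rw3516 : List ℕ := [4, 4, 2, 4, 2, 4, 4, 1, 5, 5, 3, 5, 3, 5, 5, 3, 5, 3, 0, 2, 4, 2]
def rw3517 : List ℕ := [3, 4, 2, 4, 2, 4, 4, 2, 4, 2, 4, 4, 5, 5, 5, 3, 5, 3, 5, 5, 3, 5]
def rw3518 : List ℕ := [4, 1, 5, 6, 5, 2, 0, 4, 3, 1, 0, 0, 2, 5, 1, 3, 4, 7, 4, 0, 5, 6, 3, 7, 1, 6, 2, 7]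
def rw3519 : List ℕ := [2, 5, 5, 1, 1, 2, 0, 0, 4, 4, 3, 5, 3, 3, 5, 0, 4, 3, 5, 1, 4, 2, 2, 4]
def rw3520 : List ℕ := [5, 5, 2, 4, 2, 2, 4, 1, 5, 1, 1, 2, 0, 0, 4, 0, 5, 3, 3, 5, 3, 4, 4, 3]
def rw3521 : List ℕ := [5, 1, 4, 2, 4, 1, 4, 2, 4, 1, 0, 0, 5, 3, 5, 0, 5, 3]
def rw3522 : List ℕ := [3, 6, 2, 7, 3, 7, 2, 7, 1, 7, 2, 7, 2, 0, 3, 1, 6, 0, 2, 1, 3, 6, 3, 6, 0, 6]
def rw3523 : List ℕ := [2, 6, 3, 3, 5, 3, 1, 4, 0, 2, 4, 2, 2, 7, 3, 1, 6, 3, 3, 5, 5, 4, 2, 2, 7, 0]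
def rw3524 : List ℕ := [5, 6, 0, 2, 7, 2, 7, 1, 5, 6, 7, 7, 4, 0, 6, 3, 6, 3, 1, 7, 4, 3, 1, 6, 0, 2]
def rw3525 : List ℕ := [2, 6, 5, 2, 5, 2, 0, 5, 3, 4, 1, 3, 4, 3, 4, 7, 3, 5, 6, 3, 3, 1, 2, 0, 2, 2, 7, 4]
def rw3526 : List ℕ := [2, 2, 7, 5, 3, 5, 3, 4, 2, 4, 6, 3, 3, 6, 6, 5, 2, 0, 5, 2, 1, 2, 0, 3, 4, 1, 3, 4, 7, 7]
def rw3527 : List ℕ := [1, 2, 1, 3, 1, 1, 4, 0, 0, 2, 0, 3, 0, 3, 1, 3, 3, 5, 2, 2, 0, 2]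
def rw3528 : List ℕ := [0, 4, 0, 4, 4, 0, 0, 4, 0, 4, 4, 1, 5, 5, 1, 5, 1, 1, 5, 5, 1, 5, 1, 1, 0, 0]
def rw3529 : List ℕ := [1, 5, 3, 1, 1, 1, 2, 0, 0, 0, 2, 4, 0, 0, 0, 2, 5, 0, 3, 3, 2, 1, 4, 3, 1, 1]
def rw3530 : List ℕ := [2, 6, 2, 2, 1, 3, 3, 7, 3, 1, 6, 2, 1, 5, 3, 1, 4, 1, 1, 0, 0, 0, 5, 0, 2, 4, 0, 3, 7, 0]
def rw3531 : List ℕ := [7, 3, 1, 6, 0, 2, 5, 3, 1, 2, 0, 2, 4, 3, 1, 7, 0, 2, 6, 3, 0, 5, 3, 4, 1, 2]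
def rw3532 : List ℕ := [2, 4, 2, 6, 3, 3, 2, 7, 3, 5, 3, 1, 3, 5, 0, 5, 6, 3, 3, 1, 2, 0, 2, 2, 7, 4, 1, 4, 2, 0]
def rw3533 : List ℕ := [6, 5, 1, 3, 4, 3, 1, 4, 0, 2, 5, 2, 0, 4, 7, 4, 2, 0, 2, 6, 0, 4, 5, 5, 1, 7, 3, 1, 3, 5]
def rw3534 : List ℕ := [2, 5, 5, 2, 7, 5, 2, 5, 1, 0, 0, 4, 3, 4, 6, 3, 4, 4, 3, 4, 7, 4, 2, 2, 1, 3, 3, 5, 6, 5]
def rw3535 : List ℕ := [3, 5, 0, 2, 0, 5, 0, 2, 0, 5, 1, 3, 1, 2, 0, 2, 0, 4, 1, 3, 1, 4, 1, 3, 1, 4]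
def rw3536 : List ℕ := [3, 4, 4, 0, 3, 1, 6, 0, 2, 1, 5, 5, 2, 5, 5, 1, 2, 0, 4, 7, 5, 1, 3, 0, 4, 4]
def rw3537 : List ℕ := [5, 5, 2, 0, 3, 4, 3, 5, 2, 1, 3, 4, 4, 3, 4, 4, 0, 3, 1, 2, 0, 2, 1, 5, 5, 2]
def rw3538 : List ℕ := [4, 2, 5, 5, 4, 3, 5, 2, 5, 3, 4, 3, 5, 2, 5, 3, 4, 2, 4, 3, 4, 2, 5, 2, 4, 3]
def rw3539 : List ℕ := [1, 3, 4, 4, 1, 5, 5, 2, 0, 7, 4, 2, 0, 5, 6, 4, 1, 1, 0, 0, 0, 5, 7, 4, 1, 3, 5, 6]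
def rw3540 : List ℕ := [1, 5, 5, 1, 1, 5, 0, 4, 4, 5, 5, 5, 1, 4, 0, 0, 4, 4, 0, 5, 1, 1, 4, 0, 0, 4]
def rw3541 : List ℕ := [5, 3, 0, 5, 0, 5, 1, 4, 1, 4, 1, 2, 4, 1, 4, 2, 0, 5, 1, 0, 0, 4, 1, 3, 5, 0]
def rw3542 : List ℕ := [7, 1, 5, 1, 4, 0, 6, 3, 6, 5, 0, 7, 2, 7, 1, 1, 0, 0, 0, 6, 3, 6, 1, 4, 7, 2]
def rw3543 : List ℕ := [4, 2, 4, 2, 4, 3, 1, 0, 0, 2, 5, 3, 5, 3, 5, 2, 0, 5, 3, 5, 1, 4, 2, 4, 1, 3]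
def rw3544 : List ℕ := [6, 2, 7, 3, 4, 3, 1, 2, 0, 2, 5, 2, 6, 3, 7, 1, 6, 4, 2, 2, 5, 3, 4, 3, 3, 5, 7, 0]
def rw3545 : List ℕ := [4, 1, 6, 0, 5, 6, 3, 4, 2, 4, 4, 3, 4, 7, 7, 6, 5, 2, 5, 5, 3, 5, 2, 7]
def rw3546 : List ℕ := [0, 5, 5, 5, 4, 4, 1, 4, 1, 4, 4, 1, 4, 1, 4, 0, 5, 0, 5, 5, 0, 5]
def rw3547 : List ℕ := [4, 2, 2, 4, 4, 2, 2, 4, 4, 7, 5, 5, 3, 3, 5, 5, 3, 3, 5, 5, 3, 3, 6, 2, 2, 4]
def rw3548 : List ℕ := [2, 4, 2, 4, 3, 4, 2, 4, 2, 4, 4, 4, 5, 5, 5, 5, 3, 5, 3, 5, 2, 5, 3, 5, 3, 4]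
def rw3549 : List ℕ := [0, 5, 1, 2, 5, 3, 0, 4, 1, 2, 2, 2, 0, 0, 5, 1, 1, 4, 0, 0, 4, 1, 1, 3, 3, 3]
def rw3550 : List ℕ := [3, 6, 0, 4, 1, 4, 3, 1, 6, 0, 2, 5, 0, 5, 1, 7, 2, 7, 2, 2, 6, 3, 6, 7, 7, 2, 7, 3, 3, 6]
def rw3551 : List ℕ := [6, 0, 4, 1, 4, 3, 1, 0, 0, 2, 5, 0, 5, 1, 7, 2, 7, 2, 2, 6, 3, 6, 1, 7, 2, 7, 3, 3, 6, 3]
def rw3552 : List ℕ := [4, 6, 2, 5, 2, 5, 1, 4, 0, 4, 3, 4, 3, 7, 5, 2, 7, 2, 0, 4, 7, 5, 6, 5, 1, 3, 6, 3]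
def rw3553 : List ℕ := [3, 5, 6, 0, 2, 5, 1, 6, 7, 7, 0, 4, 3, 1, 7, 4, 2, 7, 1, 4, 3, 1, 6, 0, 2, 5, 0, 6]
def rw3554 : List ℕ := [5, 6, 3, 6, 3, 4, 3, 6, 3, 6, 3, 1, 0, 0, 2, 7, 2, 7, 2, 5, 2, 7, 2, 7, 4, 1]
def rw3555 : List ℕ := [2, 5, 2, 6, 6, 3, 0, 5, 1, 0, 0, 4, 1, 2, 7, 7, 3, 4, 3, 4, 2, 7, 4, 2, 1, 3, 5, 6, 3, 5]
def rw3556 : List ℕ := [2, 7, 7, 3, 4, 3, 4, 2, 7, 4, 2, 3, 3, 5, 6, 3, 5, 2, 5, 2, 6, 6, 3, 0, 5, 1, 2, 0, 4, 1]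
def rw3557 : List ℕ := [3, 1, 6, 0, 2, 0, 6, 6, 3, 3, 6, 3, 6, 4, 2, 7, 7, 6, 3, 5, 7, 2, 7, 2, 2, 7, 7, 1]
def rw3558 : List ℕ := [6, 6, 4, 3, 4, 4, 1, 5, 5, 2, 5, 7, 7, 1, 3, 6, 6, 3, 3, 1, 1, 0, 0, 0, 2, 2, 7, 7, 2, 0]
def rw3559 : List ℕ := [3, 6, 6, 3, 3, 1, 1, 2, 0, 0, 2, 2, 7, 7, 2, 0, 6, 6, 4, 3, 4, 4, 3, 5, 5, 2, 5, 7, 7, 1]
def rw3560 : List ℕ := [6, 3, 6, 3, 1, 7, 4, 3, 1, 6, 0, 2, 5, 6, 0, 2, 7, 2, 7, 1, 5, 6, 7, 7, 4, 0]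
def rw3561 : List ℕ := [4, 7, 5, 6, 3, 6, 3, 4, 3, 6, 3, 6, 3, 1, 6, 0, 2, 7, 2, 7, 2, 5, 2, 7, 2, 7]
def rw3562 : List ℕ := [4, 0, 6, 3, 6, 3, 1, 7, 4, 3, 1, 6, 0, 2, 5, 6, 0, 2, 7, 2, 7, 1, 5, 6, 7, 7]
def rw3563 : List ℕ := [1, 5, 1, 1, 0, 0, 0, 4, 0, 5, 3, 3, 5, 3, 4, 4, 1, 5, 5, 2, 4, 2, 2, 4]
def rw3564 : List ℕ := [3, 1, 3, 0, 3, 1, 2, 0, 2, 1, 2, 0, 2, 2, 2, 3, 3, 3]
def rw3565 : List ℕ := [6, 0, 4, 3, 5, 1, 7, 3, 1, 3, 5, 6, 5, 1, 3, 4, 3, 1, 2, 0, 2, 5, 2, 0, 4, 7, 4, 2, 0, 2]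
def rw3566 : List ℕ := [0, 2, 4, 1, 3, 5, 6, 3, 1, 2, 7, 4, 2, 0, 5, 3, 1, 6, 1, 3, 1, 1, 1, 0, 0, 0, 0, 2, 0, 7]
def rw3567 : List ℕ := [5, 3, 1, 1, 1, 2, 0, 0, 0, 2, 4, 0, 0, 0, 2, 5, 0, 3, 3, 2, 1, 4, 3, 1, 1, 1]
def rw3568 : List ℕ := [7, 0, 5, 6, 1, 2, 1, 4, 0, 3, 0, 7, 4, 1, 6, 5, 3, 4, 3, 4, 2, 5, 5, 4, 3, 5, 2, 5, 2, 4]
def rw3569 : List ℕ := [2, 6, 1, 3, 3, 0, 5, 3, 4, 1, 2, 2, 0, 7, 3, 1, 6, 2, 1, 5, 3, 1, 2, 0, 2, 4, 0, 3, 7, 0]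
def rw3570 : List ℕ := [2, 1, 5, 3, 1, 2, 0, 2, 4, 0, 3, 7, 0, 2, 6, 1, 3, 3, 0, 5, 3, 4, 1, 2, 2, 0, 7, 3, 1, 6]
def rw3571 : List ℕ := [5, 2, 5, 5, 5, 2, 5, 1, 0, 0, 4, 3, 4, 4, 4, 3, 4, 7, 4, 1, 4, 2, 6, 1, 7, 3, 5, 0, 5, 6]
def rw3572 : List ℕ := [1, 1, 4, 1, 4, 1, 1, 4, 0, 0, 5, 0, 5, 0, 0, 5, 0, 5, 5, 4, 1, 4]
def rw3573 : List ℕ := [4, 1, 4, 1, 4, 1, 4, 1, 6, 0, 5, 0, 5, 0, 5, 0, 5, 0, 5, 7, 4, 1]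
def rw3574 : List ℕ := [4, 1, 4, 1, 0, 0, 5, 0, 5, 5, 0, 5, 0, 5, 5, 1, 4, 4, 1, 4, 1, 4]
def rw3575 : List ℕ := [2, 4, 2, 4, 2, 2, 4, 2, 4, 5, 5, 3, 5, 3, 3, 5, 3, 5, 3, 3, 4, 2]
def rw3576 : List ℕ := [1, 1, 1, 4, 0, 0, 0, 3, 0, 5, 2, 0, 0, 0, 4, 2, 5, 3, 5, 1, 1, 1, 3, 4, 1, 2]
def rw3577 : List ℕ := [0, 3, 3, 0, 5, 1, 1, 1, 0, 0, 0, 0, 4, 1, 2, 2, 1, 1, 3, 5, 2, 1, 3, 4, 2, 0]
def rw3578 : List ℕ := [1, 3, 5, 2, 3, 3, 4, 2, 0, 0, 3, 3, 0, 5, 1, 1, 1, 2, 0, 0, 0, 4, 1, 2, 2, 1]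
def rw3579 : List ℕ := [2, 4, 1, 4, 2, 4, 2, 5, 3, 5, 3, 5, 0, 5, 3, 5, 1, 3, 1, 1, 4, 0, 0, 2, 0, 4]
def rw3580 : List ℕ := [4, 1, 1, 4, 1, 4, 2, 3, 3, 5, 0, 5, 0, 0, 5, 0, 5, 3, 1, 1, 2, 0, 0, 2, 4, 1]
def rw3581 : List ℕ := [1, 4, 1, 4, 2, 5, 3, 5, 0, 5, 0, 0, 5, 0, 5, 3, 1, 1, 4, 0, 0, 2, 4, 1, 4, 1]
def rw3582 : List ℕ := [0, 5, 1, 4, 1, 4, 1, 1, 3, 5, 0, 5, 3, 1, 1, 0, 0, 0, 2, 4, 1, 4, 2, 0, 0, 5]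
def rw3583 : List ℕ := [4, 2, 4, 0, 2, 7, 3, 1, 5, 3, 5, 0, 5, 3, 5, 3, 1, 1, 6, 0, 0, 2, 4, 2, 4, 1]
def rw3584 : List ℕ := [1, 1, 3, 0, 4, 1, 2, 2, 1, 1, 4, 0, 0, 3, 3, 0, 5, 1, 2, 0, 0, 4, 2, 5, 3, 5]
def rw3585 : List ℕ := [4, 1, 5, 5, 1, 1, 5, 5, 1, 1, 5, 5, 1, 1, 0, 0, 0, 4, 4, 0, 0, 4, 4, 0, 0, 4]
def rw3586 : List ℕ := [0, 4, 1, 1, 2, 0, 0, 5, 1, 2, 1, 3, 4, 1, 2, 2, 2, 3, 3, 3, 3, 0, 5, 2, 0, 3]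
def rw3587 : List ℕ := [2, 4, 1, 4, 1, 2, 5, 3, 0, 5, 0, 5, 3, 5, 0, 5, 0, 3, 1, 4, 0, 2, 1, 4, 1, 4]
def rw3588 : List ℕ := [4, 0, 3, 1, 4, 0, 2, 1, 5, 5, 2, 5, 5, 1, 2, 0, 4, 5, 5, 1, 3, 0, 4, 4, 3, 4]
def rw3589 : List ℕ := [2, 4, 2, 2, 1, 3, 3, 5, 3, 5, 0, 5, 3, 5, 3, 3, 1, 0, 0, 2, 2, 4, 2, 4, 1, 4]
def rw3590 : List ℕ := [4, 2, 4, 2, 2, 0, 5, 3, 5, 1, 4, 2, 4, 1, 3, 3, 5, 3, 5, 3, 3, 1, 0, 0, 2, 2]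
def rw3591 : List ℕ := [3, 5, 3, 1, 4, 1, 3, 5, 3, 1, 2, 0, 2, 4, 2, 0, 5, 0, 2, 4, 2, 0, 5, 3, 4, 1]
def rw3592 : List ℕ := [3, 5, 3, 0, 5, 3, 5, 1, 4, 2, 4, 1, 2, 4, 2, 4, 2, 5, 3, 1, 0, 0, 2, 4, 3, 5]
def rw3593 : List ℕ := [2, 5, 0, 2, 5, 1, 4, 3, 1, 4, 3, 1, 4, 3, 1, 4, 3, 1, 0, 0, 2, 5, 0, 2, 5, 0]
def rw3594 : List ℕ := [3, 4, 3, 4, 3, 1, 0, 0, 2, 5, 2, 5, 2, 5, 2, 0, 4, 3, 4, 1, 5, 2, 5, 1, 3, 4]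
def rw3595 : List ℕ := [3, 4, 4, 1, 3, 4, 3, 1, 2, 5, 2, 0, 5, 5, 2, 2, 2, 1, 2, 1, 0, 0, 3, 0, 3, 3]
def rw3596 : List ℕ := [0, 3, 3, 3, 4, 4, 1, 3, 4, 3, 5, 2, 5, 2, 0, 5, 5, 2, 2, 2, 1, 2, 1, 4, 0, 3]
def rw3597 : List ℕ := [1, 4, 1, 4, 3, 5, 0, 5, 0, 5, 5, 5, 0, 5, 0, 5, 1, 2, 0, 4, 1, 4, 1, 4, 4, 4]
def rw3598 : List ℕ := [3, 5, 5, 1, 4, 3, 3, 5, 5, 1, 0, 0, 4, 4, 2, 2, 5, 0, 4, 4, 2, 2, 5, 1, 4, 3]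
def rw3599 : List ℕ := [0, 5, 3, 4, 1, 4, 1, 0, 0, 5, 0, 5, 2, 4, 1, 4, 2, 0, 5, 5, 1, 4, 4, 1, 3, 5]
def rw3600 : List ℕ := [4, 1, 4, 2, 0, 5, 5, 5, 4, 4, 1, 3, 5, 0, 5, 3, 4, 1, 4, 1, 4, 0, 5, 0, 5, 2]
def rw3601 : List ℕ := [4, 3, 4, 2, 5, 5, 4, 3, 5, 2, 5, 3, 4, 3, 5, 2, 5, 3, 4, 2, 4, 3, 4, 2, 5, 2]
def rw3602 : List ℕ := [4, 3, 1, 7, 4, 7, 2, 7, 1, 3, 1, 2, 0, 2, 0, 6, 3, 6, 5, 6, 0, 2, 5, 6, 3, 7]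
def rw3603 : List ℕ := [4, 1, 1, 5, 5, 1, 1, 0, 0, 0, 4, 4, 0, 0, 5, 7, 3, 1, 6, 3, 3, 1, 2, 2, 7, 0, 2, 6]
def rw3604 : List ℕ := [4, 1, 3, 4, 3, 4, 7, 0, 5, 3, 1, 0, 0, 2, 4, 1, 6, 5, 2, 5, 2, 0, 5, 2, 7, 1, 6, 3]
def rw3605 : List ℕ := [5, 1, 2, 0, 4, 7, 2, 7, 1, 5, 2, 5, 6, 3, 6, 3, 4, 3, 5, 2, 7, 2, 7, 4, 3, 4, 0, 6, 3, 6]
def rw3606 : List ℕ := [6, 2, 2, 5, 6, 3, 6, 3, 4, 3, 5, 2, 7, 2, 7, 4, 3, 3, 7, 2, 7, 1, 2, 1, 2, 0, 3, 0, 6, 3]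
def rw3607 : List ℕ := [1, 2, 5, 6, 3, 6, 3, 4, 3, 5, 2, 7, 2, 7, 4, 3, 0, 7, 2, 7, 1, 1, 1, 2, 0, 0, 0, 6, 3, 6]
def rw3608 : List ℕ := [0, 3, 3, 0, 3, 1, 3, 3, 5, 2, 2, 0, 2, 1, 2, 2, 1, 3, 1, 1, 1, 4, 0, 0, 0, 2]
def rw3609 : List ℕ := [4, 2, 4, 1, 4, 2, 4, 1, 0, 0, 5, 3, 5, 0, 5, 3, 5, 1]
def rw3610 : List ℕ := [0, 4, 4, 4, 2, 2, 4, 2, 0, 4, 1, 5, 1, 3, 5, 3, 3, 5, 5, 5, 1, 1, 0, 0]
def rw3611 : List ℕ := [3, 1, 1, 1, 5, 3, 1, 1, 1, 4, 0, 0, 0, 2, 4, 0, 0, 0, 2, 5, 0, 3, 5, 2, 1, 4]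
def rw3612 : List ℕ := [4, 3, 1, 1, 1, 4, 0, 0, 0, 2, 5, 0, 0, 2, 2, 2, 1, 4, 5, 5, 0, 3, 3, 3, 1, 1]
def rw3613 : List ℕ := [1, 2, 1, 4, 3, 5, 0, 3, 0, 2, 2, 1, 4, 3, 1, 1, 1, 2, 0, 0, 0, 2, 5, 0, 3, 3]
def rw3614 : List ℕ := [2, 2, 1, 4, 3, 1, 2, 1, 5, 3, 1, 1, 4, 0, 0, 2, 4, 0, 3, 0, 2, 5, 0, 3, 3, 5]
def rw3615 : List ℕ := [0, 4, 4, 1, 5, 5, 1, 1, 5, 5, 1, 1, 5, 5, 1, 1, 0, 0, 0, 4, 4, 0, 0, 4, 4, 0]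
def rw3616 : List ℕ := [0, 0, 4, 4, 0, 0, 4, 4, 3, 5, 5, 1, 1, 5, 5, 1, 1, 5, 5, 1, 1, 2, 0, 0, 4, 4]
def rw3617 : List ℕ := [0, 4, 0, 2, 0, 4, 0, 2, 0, 4, 5, 5, 1, 3, 1, 5, 1, 3, 1, 5, 1, 3, 1, 4, 0, 2]
def rw3618 : List ℕ := [4, 1, 3, 1, 4, 3, 5, 0, 2, 0, 5, 0, 2, 0, 5, 1, 3, 1, 2, 0, 2, 0, 4, 1, 3, 1]
def rw3619 : List ℕ := [3, 1, 4, 1, 3, 1, 4, 5, 5, 0, 2, 0, 5, 0, 2, 0, 5, 1, 3, 1, 4, 0, 2, 0, 4, 1]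
def rw3620 : List ℕ := [1, 4, 2, 4, 1, 4, 1, 2, 5, 3, 0, 5, 0, 5, 3, 5, 0, 5, 0, 3, 1, 4, 0, 2, 1, 4]
def rw3621 : List ℕ := [4, 1, 4, 1, 3, 3, 1, 4, 0, 2, 2, 0, 5, 0, 5, 3, 5, 0, 5, 2, 5, 3, 4, 1, 4, 2]
def rw3622 : List ℕ := [4, 2, 4, 3, 1, 4, 0, 2, 5, 3, 5, 3, 5, 2, 0, 5, 3, 5, 5, 4, 2, 4, 1, 3, 4, 2]
def rw3623 : List ℕ := [2, 0, 5, 3, 5, 1, 4, 2, 4, 1, 3, 5, 2, 4, 2, 4, 2, 1, 0, 0, 3, 5, 3, 5, 3, 4]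
def rw3624 : List ℕ := [6, 3, 1, 0, 0, 2, 7, 2, 7, 2, 5, 2, 7, 2, 7, 4, 1, 5, 6, 3, 6, 3, 4, 3, 6, 3]
def rw3625 : List ℕ := [6, 3, 4, 3, 6, 3, 6, 1, 7, 2, 7, 2, 5, 2, 7, 2, 7, 4, 1, 3, 1, 1, 0, 0, 0, 2, 0, 5, 6, 3]
def rw3626 : List ℕ := [3, 5, 5, 4, 2, 4, 1, 7, 3, 1, 6, 3, 4, 1, 4, 3, 1, 4, 0, 2, 5, 0, 5, 2, 7, 0, 2, 6, 0, 5]
def rw3627 : List ℕ := [4, 4, 2, 5, 2, 7, 3, 1, 6, 0, 2, 6, 3, 4, 3, 5, 5, 0, 5, 3, 3, 5, 7, 7, 6, 4, 2, 2, 4, 1]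
def rw3628 : List ℕ := [7, 0, 2, 6, 4, 0, 4, 4, 3, 1, 4, 0, 2, 5, 5, 1, 5, 7, 3, 1, 6, 4, 0, 4, 4, 5, 5, 5, 1, 5]
def rw3629 : List ℕ := [5, 3, 5, 3, 5, 1, 4, 1, 6, 3, 5, 2, 7, 0, 5, 0, 4, 2, 4, 2, 4, 6, 3, 3, 1, 4, 0, 2, 2, 7]
def rw3630 : List ℕ := [1, 5, 3, 1, 4, 2, 3, 3, 5, 0, 2, 4, 0, 3, 7, 0, 2, 6, 2, 1, 1, 2, 0, 0, 3, 7, 3, 1, 6, 2]
def rw3631 : List ℕ := [0, 2, 6, 2, 1, 1, 4, 0, 0, 3, 7, 3, 1, 6, 2, 1, 5, 3, 1, 4, 2, 5, 3, 5, 0, 2, 4, 0, 3, 7]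
def rw3632 : List ℕ := [0, 2, 5, 6, 5, 6, 3, 6, 3, 4, 3, 1, 4, 0, 2, 5, 2, 7, 2, 7, 4, 7, 4, 3, 1, 7, 4, 5, 5, 6]
def rw3633 : List ℕ := [3, 6, 5, 2, 5, 2, 6, 3, 6, 5, 3, 4, 7, 2, 7, 3, 4, 3, 4, 7, 2, 7, 3, 4, 3, 2, 2, 5, 2, 6]
def rw3634 : List ℕ := [7, 2, 7, 1, 1, 0, 0, 0, 6, 3, 6, 1, 4, 0, 6, 3, 6, 5, 1, 4, 7, 2, 7, 1, 5, 0]
def rw3635 : List ℕ := [7, 1, 1, 4, 0, 0, 6, 3, 6, 1, 4, 7, 2, 7, 1, 5, 5, 4, 0, 6, 3, 6, 5, 0, 7, 2]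
def rw3636 : List ℕ := [3, 1, 7, 4, 7, 2, 7, 1, 6, 3, 6, 5, 6, 0, 2, 5, 6, 1, 3, 1, 0, 0, 2, 0, 7, 4]
def rw3637 : List ℕ := [7, 2, 7, 1, 4, 3, 6, 3, 6, 5, 1, 0, 0, 4, 7, 2, 7, 2, 5, 0, 6, 3, 6, 2, 5, 2, 1, 3, 4, 3]
def rw3638 : List ℕ := [7, 2, 7, 4, 3, 1, 2, 5, 6, 3, 6, 3, 4, 0, 0, 7, 2, 7, 1, 1, 0, 0, 0, 6, 3, 6, 1, 1, 5, 2]
def rw3639 : List ℕ := [0, 2, 2, 6, 3, 6, 3, 4, 2, 6, 3, 0, 2, 6, 7, 7, 3, 1, 2, 7, 3, 5, 2, 7, 2, 7, 3, 3, 1, 6]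
def rw3640 : List ℕ := [3, 4, 1, 3, 5, 3, 5, 2, 7, 1, 6, 3, 4, 2, 4, 2, 0, 5, 2, 7, 1, 3, 1, 1, 0, 0, 0, 2, 0, 6]
def rw3641 : List ℕ := [2, 7, 2, 0, 4, 7, 2, 7, 1, 5, 5, 4, 0, 6, 3, 6, 5, 1, 3, 6, 3, 6, 1, 3, 1, 4, 0, 2, 0, 7]
def rw3642 : List ℕ := [3, 6, 0, 2, 1, 3, 1, 7, 2, 7, 2, 0, 0, 7, 2, 7, 1, 1, 1, 0, 0, 0, 0, 6, 3, 6, 1, 1, 3, 6]
def rw3643 : List ℕ := [3, 6, 1, 3, 7, 2, 7, 1, 6, 3, 6, 2, 0, 7, 2, 7, 1, 2, 2, 1, 3, 1, 0, 0, 2, 0, 3, 3, 0, 6]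
def rw3644 : List ℕ := [7, 3, 4, 3, 2, 2, 5, 2, 6, 3, 6, 5, 2, 5, 2, 6, 3, 6, 5, 3, 4, 7, 2, 7, 3, 4, 3, 4, 7, 2]
def rw3645 : List ℕ := [3, 6, 0, 6, 3, 6, 3, 7, 2, 7, 1, 7, 2, 7, 1, 2, 0, 6]
def rw3646 : List ℕ := [7, 1, 7, 2, 7, 1, 4, 0, 6, 3, 6, 0, 6, 3, 6, 5, 7, 2]
def rw3647 : List ℕ := [2, 7, 2, 5, 3, 6, 3, 6, 0, 6, 3, 6, 1, 3, 1, 1, 4, 0, 0, 2, 0, 7, 2, 7, 1, 7]
def rw3648 : List ℕ := [7, 2, 1, 3, 1, 2, 0, 2, 0, 3, 6, 3, 6, 0, 6, 3, 6, 3, 3, 2, 7, 2, 7, 1, 7, 2]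
def rw3649 : List ℕ := [7, 2, 1, 3, 1, 4, 0, 2, 0, 3, 6, 3, 6, 0, 6, 3, 6, 3, 5, 2, 7, 2, 7, 1, 7, 2]
def rw3650 : List ℕ := [2, 7, 2, 2, 7, 3, 3, 6, 3, 6, 0, 6, 3, 6, 3, 3, 1, 6, 0, 2, 2, 7, 2, 7, 1, 7]
def rw3651 : List ℕ := [6, 3, 4, 3, 6, 3, 6, 3, 1, 0, 0, 2, 7, 2, 7, 2, 5, 2, 7, 2, 7, 4, 1, 5, 6, 3]
def rw3652 : List ℕ := [7, 4, 3, 5, 6, 3, 6, 3, 6, 3, 6, 5, 1, 5, 2, 5, 1, 2, 0, 4, 3, 4, 0, 4, 7, 2, 7, 2, 7, 2]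
def rw3653 : List ℕ := [3, 6, 4, 2, 0, 5, 0, 6, 3, 6, 3, 1, 0, 0, 2, 7, 2, 7, 1, 4, 1, 3, 5, 7, 2, 7, 5, 1, 4, 6]
def rw3654 : List ℕ := [5, 6, 3, 3, 5, 3, 5, 2, 4, 2, 2, 7, 4, 2, 2, 7, 0, 7, 2, 7, 1, 4, 0, 6, 3, 6, 1, 6, 3, 3]
def rw3655 : List ℕ := [6, 3, 6, 3, 1, 2, 0, 2, 7, 2, 7, 2, 0, 4, 7, 2, 7, 1, 5, 2, 3, 3, 4, 0, 6, 3, 6, 5, 1, 3]
def rw3656 : List ℕ := [3, 4, 5, 5, 2, 7, 2, 7, 4, 3, 4, 0, 6, 3, 6, 5, 1, 4, 0, 4, 7, 2, 7, 1, 5, 2, 5, 6, 3, 6]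
def rw3657 : List ℕ := [2, 7, 1, 5, 2, 5, 6, 3, 6, 3, 4, 5, 5, 2, 7, 2, 7, 4, 3, 4, 0, 6, 3, 6, 5, 1, 4, 0, 4, 7]
def rw3658 : List ℕ := [2, 7, 1, 5, 1, 4, 0, 6, 3, 6, 5, 1, 3, 6, 3, 6, 1, 3, 1, 0, 0, 2, 0, 7, 2, 7, 2, 0, 4, 7]
def rw3659 : List ℕ := [7, 5, 3, 1, 4, 0, 2, 4, 6, 3, 6, 3, 5, 3, 6, 3, 6, 3, 5, 5, 4, 2, 7, 2, 7, 2, 4, 2, 7, 2]
def rw3660 : List ℕ := [3, 6, 2, 2, 5, 6, 3, 6, 3, 4, 5, 5, 2, 7, 2, 7, 4, 3, 3, 7, 2, 7, 1, 2, 1, 4, 0, 3, 0, 6]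
def rw3661 : List ℕ := [6, 1, 2, 5, 6, 3, 6, 3, 4, 5, 5, 2, 7, 2, 7, 4, 3, 0, 7, 2, 7, 1, 1, 1, 4, 0, 0, 0, 6, 3]
def rw3662 : List ℕ := [7, 1, 1, 1, 2, 0, 0, 0, 6, 3, 6, 2, 0, 7, 2, 7, 2, 3, 3, 6, 3, 6, 1, 3, 7, 2]
def rw3663 : List ℕ := [2, 7, 1, 2, 0, 7, 2, 7, 1, 1, 0, 0, 0, 6, 3, 6, 1, 3, 0, 6, 3, 6, 2, 1, 3, 7]
def rw3664 : List ℕ := [2, 7, 1, 2, 5, 3, 0, 6, 3, 6, 2, 0, 7, 2, 7, 1, 1, 4, 0, 0, 6, 3, 6, 1, 3, 7]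
def rw3665 : List ℕ := [1, 3, 6, 3, 6, 2, 1, 3, 7, 2, 7, 2, 0, 3, 7, 2, 7, 1, 1, 0, 0, 0, 6, 3, 6, 2]
def rw3666 : List ℕ := [2, 7, 1, 2, 0, 7, 2, 7, 2, 3, 3, 6, 3, 6, 1, 3, 0, 6, 3, 6, 1, 1, 2, 0, 0, 7]
def rw3667 : List ℕ := [7, 2, 0, 3, 1, 0, 0, 2, 1, 3, 6, 3, 6, 0, 6, 3, 6, 2, 1, 3, 7, 2, 7, 1, 7, 2]
def rw3668 : List ℕ := [7, 4, 3, 1, 7, 1, 6, 0, 2, 5, 6, 0, 2, 5, 0, 7, 2, 7, 1, 1, 0, 0, 0, 6, 3, 6, 1, 4, 3, 1]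
def rw3669 : List ℕ := [7, 2, 7, 1, 0, 0, 6, 3, 6, 0, 6, 3, 6, 1, 7, 2, 7, 1]
def rw3670 : List ℕ := [2, 7, 1, 0, 0, 6, 3, 6, 0, 6, 3, 6, 1, 7, 2, 7, 1, 7]
def rw3671 : List ℕ := [7, 2, 1, 3, 6, 3, 6, 1, 3, 7, 2, 7, 1, 1, 1, 0, 0, 0, 0, 6, 3, 6, 2, 0, 7, 2]
def rw3672 : List ℕ := [2, 7, 1, 1, 0, 0, 0, 6, 3, 6, 1, 4, 0, 6, 3, 6, 5, 1, 4, 7, 2, 7, 1, 5, 0, 7]
def rw3673 : List ℕ := [1, 1, 4, 0, 0, 6, 3, 6, 1, 4, 0, 6, 3, 6, 5, 5, 4, 7, 2, 7, 1, 5, 0, 7, 2, 7]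
def rw3674 : List ℕ := [2, 7, 1, 5, 7, 4, 0, 6, 3, 6, 5, 0, 7, 2, 7, 1, 1, 6, 0, 0, 6, 3, 6, 1, 4, 7]
def rw3675 : List ℕ := [3, 1, 7, 4, 7, 2, 7, 5, 6, 3, 6, 5, 6, 0, 2, 5, 6, 1, 3, 1, 4, 0, 2, 0, 7, 4]
def rw3676 : List ℕ := [2, 7, 1, 7, 2, 7, 3, 1, 0, 0, 2, 6, 3, 6, 0, 6, 3, 6, 3, 1, 2, 1, 3, 0, 2, 7]
def rw3677 : List ℕ := [6, 5, 1, 5, 2, 5, 1, 4, 0, 4, 3, 4, 0, 4, 7, 2, 7, 2, 7, 2, 7, 4, 5, 5, 6, 3, 6, 3, 6, 3]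
def rw3678 : List ℕ := [7, 2, 7, 2, 5, 2, 7, 2, 7, 4, 1, 3, 1, 1, 0, 0, 0, 2, 0, 5, 6, 3, 6, 3, 4, 3, 6, 3, 6, 1]
def rw3679 : List ℕ := [7, 4, 1, 3, 1, 1, 4, 0, 0, 2, 0, 5, 6, 3, 6, 3, 4, 3, 6, 3, 6, 5, 7, 2, 7, 2, 5, 2, 7, 2]
def rw3680 : List ℕ := [7, 2, 5, 2, 7, 2, 7, 4, 1, 3, 1, 1, 6, 0, 0, 2, 0, 5, 6, 3, 6, 3, 4, 3, 6, 3, 6, 7, 7, 2]
def rw3681 : List ℕ := [7, 2, 7, 3, 3, 6, 3, 6, 0, 4, 1, 4, 3, 1, 4, 0, 2, 5, 0, 5, 1, 7, 2, 7, 2, 2, 6, 3, 6, 5]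
def rw3682 : List ℕ := [1, 3, 1, 4, 0, 2, 0, 6, 3, 6, 0, 2, 5, 2, 7, 2, 7, 4, 5, 5, 6, 3, 6, 3, 4, 3, 1, 7, 2, 7]
def rw3683 : List ℕ := [7, 1, 5, 2, 7, 3, 4, 0, 6, 3, 6, 5, 1, 3, 6, 3, 6, 3, 1, 6, 0, 2, 7, 2, 7, 2, 0, 4, 7, 2]
def rw3684 : List ℕ := [2, 7, 1, 5, 2, 5, 6, 3, 6, 3, 4, 3, 5, 2, 7, 2, 7, 4, 3, 4, 0, 6, 3, 6, 5, 1, 2, 0, 4, 7]
def rw3685 : List ℕ := [7, 1, 5, 5, 4, 0, 6, 3, 6, 5, 1, 3, 6, 3, 6, 1, 3, 1, 4, 0, 2, 0, 7, 2, 7, 2, 0, 4, 7, 2]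
def rw3686 : List ℕ := [7, 2, 0, 4, 7, 2, 7, 1, 5, 7, 4, 0, 6, 3, 6, 5, 1, 3, 6, 3, 6, 1, 3, 1, 6, 0, 2, 0, 7, 2]
def rw3687 : List ℕ := [7, 1, 2, 2, 1, 3, 1, 0, 0, 2, 0, 3, 3, 0, 6, 3, 6, 1, 3, 7, 2, 7, 1, 6, 3, 6, 2, 0, 7, 2]
def rw3688 : List ℕ := [7, 2, 7, 4, 3, 1, 3, 6, 3, 6, 3, 7, 2, 7, 2, 0, 2, 5, 6, 3, 6, 3, 4, 3, 1, 2, 0, 2, 5, 2]
def rw3689 : List ℕ := [2, 7, 4, 3, 6, 3, 6, 3, 4, 3, 4, 1, 5, 2, 5, 2, 7, 2, 7, 2, 5, 6, 3, 6, 5, 1, 0, 0, 4, 7]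
def rw3690 : List ℕ := [1, 7, 2, 7, 2, 2, 1, 3, 1, 1, 2, 0, 0, 2, 0, 3, 3, 6, 3, 6, 0, 6, 3, 6, 3, 3, 2, 7, 2, 7]
def rw3691 : List ℕ := [6, 3, 6, 5, 7, 2, 7, 1, 7, 2, 7, 1, 4, 0, 6, 3, 6, 0]
def rw3692 : List ℕ := [2, 7, 1, 7, 2, 7, 2, 1, 3, 1, 0, 0, 2, 0, 3, 6, 3, 6, 0, 6, 3, 6, 3, 1, 2, 7]
def rw3693 : List ℕ := [1, 7, 2, 7, 2, 1, 3, 1, 2, 0, 2, 0, 3, 6, 3, 6, 0, 6, 3, 6, 3, 3, 2, 7, 2, 7]
def rw3694 : List ℕ := [4, 3, 6, 3, 6, 3, 1, 2, 0, 2, 7, 2, 7, 2, 5, 2, 7, 2, 7, 4, 3, 5, 6, 3, 6, 3]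
def rw3695 : List ℕ := [6, 3, 4, 3, 6, 3, 6, 5, 7, 2, 7, 2, 5, 2, 7, 2, 7, 4, 1, 3, 1, 1, 4, 0, 0, 2, 0, 5, 6, 3]
def rw3696 : List ℕ := [4, 3, 1, 4, 0, 2, 5, 2, 7, 2, 7, 4, 3, 1, 3, 6, 3, 6, 5, 7, 2, 7, 2, 0, 2, 5, 6, 3, 6, 3]
def rw3697 : List ℕ := [6, 3, 7, 2, 7, 1, 7, 2, 7, 1, 2, 0, 6, 3, 6, 0, 6, 3]
def rw3698 : List ℕ := [6, 0, 6, 3, 6, 5, 7, 2, 7, 1, 7, 2, 7, 1, 4, 0, 6, 3]
def rw3699 : List ℕ := [6, 1, 3, 7, 2, 7, 1, 1, 1, 0, 0, 0, 0, 6, 3, 6, 2, 0, 7, 2, 7, 2, 1, 3, 6, 3]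
def rw3700 : List ℕ := [3, 6, 1, 4, 0, 6, 3, 6, 5, 1, 4, 7, 2, 7, 1, 5, 0, 7, 2, 7, 1, 1, 0, 0, 0, 6]
def rw3701 : List ℕ := [1, 2, 0, 2, 0, 3, 6, 3, 6, 0, 6, 3, 6, 3, 3, 2, 7, 2, 7, 1, 7, 2, 7, 2, 1, 3]
def rw3702 : List ℕ := [3, 4, 3, 6, 3, 6, 3, 1, 0, 0, 2, 7, 2, 7, 2, 5, 2, 7, 2, 7, 4, 1, 5, 6, 3, 6]
def rw3703 : List ℕ := [7, 4, 1, 2, 0, 5, 6, 3, 6, 3, 0, 5, 6, 3, 6, 3, 3, 2, 7, 2, 7, 4, 1, 2, 7, 2]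
def rw3704 : List ℕ := [3, 6, 3, 5, 2, 7, 2, 7, 4, 1, 2, 7, 2, 7, 4, 1, 4, 0, 5, 6, 3, 6, 3, 0, 5, 6]
def rw3705 : List ℕ := [6, 2, 7, 4, 4, 5, 5, 5, 6, 3, 7, 5, 6, 5, 2, 5, 2, 5, 1, 4, 0, 4, 3, 4, 3, 4, 7, 4]
def rw3706 : List ℕ := [3, 6, 3, 4, 0, 0, 7, 2, 7, 1, 1, 4, 0, 0, 6, 3, 6, 1, 1, 5, 2, 7, 2, 7, 4, 3, 5, 2, 5, 6]
def rw3707 : List ℕ := [6, 3, 6, 1, 2, 2, 5, 3, 3, 0, 7, 2, 7, 2, 0, 3, 7, 2, 7, 3, 1, 4, 0, 2, 6, 3, 6, 2, 1, 3]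
def rw3708 : List ℕ := [3, 7, 2, 7, 2, 1, 3, 6, 3, 6, 2, 6, 3, 3, 5, 6, 3, 3, 5, 1, 0, 0, 4, 2, 2, 7, 4, 2, 2, 7]
def rw3709 : List ℕ := [3, 6, 1, 7, 2, 7, 2, 5, 2, 7, 2, 7, 4, 1, 3, 1, 1, 0, 0, 0, 2, 0, 5, 6, 3, 6, 3, 4, 3, 6]
def rw3710 : List ℕ := [6, 3, 3, 5, 6, 3, 3, 5, 3, 5, 2, 4, 2, 2, 7, 4, 2, 2, 7, 0, 7, 2, 7, 1, 4, 0, 6, 3, 6, 1]
def rw3711 : List ℕ := [3, 6, 1, 7, 2, 7, 2, 5, 0, 5, 1, 7, 2, 7, 2, 2, 1, 0, 0, 3, 3, 6, 3, 6, 0, 4, 1, 4, 3, 6]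
def rw3712 : List ℕ := [3, 6, 5, 3, 1, 0, 0, 2, 4, 7, 2, 7, 1, 5, 1, 3, 6, 3, 6, 2, 1, 3, 7, 2, 7, 2, 0, 4, 0, 6]
def rw3713 : List ℕ := [3, 6, 1, 2, 5, 6, 3, 6, 3, 4, 5, 5, 2, 7, 2, 7, 4, 3, 0, 7, 2, 7, 1, 1, 1, 4, 0, 0, 0, 6]
def rw3714 : List ℕ := [6, 2, 5, 3, 7, 2, 7, 2, 5, 2, 7, 2, 7, 4, 3, 3, 1, 4, 0, 2, 2, 5, 6, 3, 6, 3, 4, 3, 6, 3]
def rw3715 : List ℕ := [2, 7, 1, 2, 0, 6, 3, 6, 0, 6, 3, 6, 3, 7, 2, 7, 1, 7]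
def rw3716 : List ℕ := [2, 7, 1, 4, 0, 6, 3, 6, 0, 6, 3, 6, 5, 7, 2, 7, 1, 7]
def rw3717 : List ℕ := [7, 1, 7, 2, 7, 2, 3, 3, 6, 3, 6, 0, 6, 3, 6, 1, 3, 1, 1, 2, 0, 0, 2, 0, 7, 2]
def rw3718 : List ℕ := [0, 6, 3, 6, 3, 1, 1, 2, 0, 0, 2, 7, 2, 7, 1, 7, 2, 7, 0, 2, 3, 3, 1, 6, 3, 6]
def rw3719 : List ℕ := [1, 7, 2, 7, 2, 1, 3, 1, 0, 0, 2, 0, 3, 6, 3, 6, 0, 6, 3, 6, 3, 1, 2, 7, 2, 7]
def rw3720 : List ℕ := [7, 2, 7, 1, 7, 1, 2, 1, 3, 0, 6, 0, 6, 3, 6, 0, 6, 0, 3, 1, 0, 0, 2, 1, 7, 1]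
def rw3721 : List ℕ := [2, 7, 1, 7, 3, 1, 3, 3, 1, 6, 0, 2, 2, 0, 2, 6, 0, 6, 3, 6, 0, 6, 7, 7, 1, 7]
def rw3722 : List ℕ := [2, 7, 3, 1, 4, 0, 2, 6, 3, 6, 0, 6, 3, 6, 3, 1, 2, 5, 3, 0, 2, 7, 2, 7, 1, 7]
def rw3723 : List ℕ := [2, 7, 4, 3, 5, 6, 3, 6, 3, 4, 3, 6, 3, 6, 3, 1, 2, 0, 2, 7, 2, 7, 2, 5, 2, 7]
def rw3724 : List ℕ := [3, 6, 3, 6, 0, 3, 3, 1, 2, 0, 2, 2, 1, 7, 2, 7, 2, 5, 0, 5, 6, 3, 6, 3, 7, 2, 7, 4, 1, 4]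
def rw3725 : List ℕ := [7, 2, 7, 2, 5, 0, 5, 6, 3, 6, 5, 7, 2, 7, 4, 1, 4, 3, 6, 3, 6, 0, 3, 3, 1, 4, 0, 2, 2, 1]
def rw3726 : List ℕ := [5, 6, 3, 6, 3, 4, 3, 1, 2, 0, 2, 5, 2, 7, 2, 7, 4, 3, 1, 3, 6, 3, 6, 3, 7, 2, 7, 2, 0, 2]
def rw3727 : List ℕ := [2, 4, 2, 1, 3, 1, 0, 0, 2, 0, 3, 5, 3, 1, 6, 0, 2, 1, 2, 7, 4, 1, 5, 6, 3, 0, 3, 1, 7, 0]
def rw3728 : List ℕ := [0, 0, 0, 0, 0, 0, 3, 1, 3, 3, 3, 3, 3, 3, 0, 2]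
def rw3729 : List ℕ := [2, 1, 2, 1, 3, 0, 3, 3, 1, 3, 0, 3, 3, 1, 0, 0, 2, 2, 1, 2, 0, 2]
def rw3730 : List ℕ := [0, 2, 2, 1, 2, 5, 3, 0, 3, 3, 1, 3, 0, 3, 3, 1, 4, 0, 2, 2, 1, 2]
def rw3731 : List ℕ := [0, 2, 1, 2, 2, 1, 3, 1, 1, 1, 0, 0, 0, 0, 2, 0, 3, 3, 0, 3, 1, 3, 3, 1, 2, 2]
def rw3732 : List ℕ := [0, 2, 1, 1, 1, 4, 0, 0, 0, 3, 1, 3, 3, 3, 3, 3, 1, 3, 5, 2, 0, 2, 2, 2, 2, 2]
def rw3733 : List ℕ := [2, 2, 1, 2, 0, 2, 2, 1, 1, 1, 2, 0, 0, 0, 3, 3, 1, 3, 0, 3, 3, 0, 2, 3, 3, 1]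
def rw3734 : List ℕ := [0, 2, 1, 1, 2, 1, 3, 1, 1, 4, 0, 0, 2, 0, 3, 0, 0, 3, 1, 3, 3, 3, 5, 2, 2, 2]
def rw3735 : List ℕ := [3, 0, 2, 0, 0, 3, 3, 3, 1, 3, 5, 2, 0, 2, 2, 2, 1, 1, 3, 1, 2, 1, 1, 4, 0, 0]
def rw3736 : List ℕ := [4, 2, 2, 1, 0, 0, 3, 3, 5, 3, 3, 0, 3, 4, 4, 3, 1, 2, 5, 5, 2, 1, 2, 2]
def rw3737 : List ℕ := [4, 4, 3, 3, 2, 5, 5, 2, 1, 2, 2, 4, 2, 2, 1, 2, 0, 3, 3, 5, 3, 3, 0, 3]
def rw3738 : List ℕ := [0, 2, 5, 0, 3, 3, 2, 1, 4, 3, 1, 1, 1, 5, 3, 1, 1, 1, 2, 0, 0, 0, 2, 4, 0, 0]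
def rw3739 : List ℕ := [1, 2, 2, 0, 3, 0, 5, 1, 1, 1, 4, 0, 0, 0, 4, 1, 2, 1, 3, 3, 0, 5, 2, 5, 3, 4]
def rw3740 : List ℕ := [3, 0, 2, 2, 1, 4, 1, 5, 0, 3, 3, 1, 2, 1, 4, 0, 3, 1, 1, 0, 0, 0, 2, 1, 5, 0]
def rw3741 : List ℕ := [0, 2, 4, 3, 5, 3, 1, 1, 2, 2, 1, 4, 0, 3, 1, 1, 2, 0, 0, 2, 1, 5, 0, 3, 3, 0]
def rw3742 : List ℕ := [1, 1, 4, 3, 5, 0, 0, 2, 2, 2, 1, 4, 0, 3, 1, 1, 2, 0, 0, 2, 1, 5, 0, 3, 3, 3]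
def rw3743 : List ℕ := [1, 2, 1, 5, 5, 4, 0, 3, 0, 2, 5, 0, 3, 3, 3, 1, 1, 4, 0, 0, 2, 2, 2, 1, 4, 3]
def rw3744 : List ℕ := [1, 3, 0, 4, 1, 2, 2, 1, 1, 2, 0, 0, 3, 3, 0, 5, 1, 2, 0, 0, 4, 2, 3, 3, 5, 1]
def rw3745 : List ℕ := [0, 0, 4, 3, 3, 4, 3, 5, 2, 2, 5, 1, 1, 5, 2, 2, 5, 1, 1, 2, 0, 0, 4, 3, 3, 4]
def rw3746 : List ℕ := [1, 4, 7, 5, 0, 5, 3, 5, 0, 5, 0, 2, 1, 3, 1, 6, 0, 2, 0, 3, 1, 4, 1, 4, 2, 4]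
def rw3747 : List ℕ := [2, 0, 4, 0, 2, 0, 4, 1, 5, 1, 3, 1, 5, 1, 3, 1, 5, 1, 3, 1, 0, 0, 2, 0, 4, 0]
def rw3748 : List ℕ := [0, 4, 5, 5, 1, 3, 1, 5, 1, 3, 1, 5, 1, 3, 1, 4, 0, 2, 0, 4, 0, 2, 0, 4, 0, 2]
def rw3749 : List ℕ := [4, 1, 5, 0, 2, 0, 5, 1, 3, 1, 5, 1, 3, 1, 0, 0, 2, 0, 4, 0, 2, 0, 4, 1, 3, 1]
def rw3750 : List ℕ := [5, 0, 3, 3, 1, 4, 0, 2, 2, 1, 4, 0, 3, 0, 2, 5, 0, 3, 5, 2, 1, 4, 3, 1, 2, 1]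
def rw3751 : List ℕ := [2, 0, 5, 3, 5, 3, 4, 2, 4, 1, 3, 3, 5, 3, 5, 3, 3, 1, 2, 0, 2, 2, 4, 2, 4, 2]
def rw3752 : List ℕ := [2, 4, 2, 5, 3, 1, 2, 0, 2, 4, 3, 5, 3, 5, 3, 0, 5, 3, 5, 3, 4, 2, 4, 1, 2, 4]
def rw3753 : List ℕ := [2, 2, 2, 5, 5, 3, 4, 4, 3, 3, 3, 0, 3, 0, 3, 4, 3, 1, 2, 0, 2, 5, 2, 1, 2, 1]
def rw3754 : List ℕ := [4, 4, 0, 5, 2, 2, 4, 4, 1, 5, 5, 3, 3, 4, 1, 5, 5, 3, 3, 4, 1, 0, 0, 5, 2, 2]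
def rw3755 : List ℕ := [2, 4, 4, 0, 5, 2, 2, 4, 4, 3, 5, 5, 3, 3, 4, 1, 5, 5, 3, 3, 4, 1, 2, 0, 5, 2]
def rw3756 : List ℕ := [6, 2, 1, 3, 6, 3, 6, 1, 2, 2, 1, 3, 3, 0, 7, 2, 7, 2, 0, 3, 7, 2, 7, 3, 1, 0, 0, 2, 6, 3]
def rw3757 : List ℕ := [6, 0, 2, 2, 2, 7, 0, 2, 4, 2, 1, 3, 1, 4, 0, 2, 0, 3, 5, 3, 1, 6, 3, 3, 3, 1, 7, 4, 5, 5]
def rw3758 : List ℕ := [1, 3, 5, 6, 0, 2, 2, 2, 7, 3, 1, 3, 1, 0, 0, 2, 0, 2, 6, 3, 3, 3, 1, 7, 4, 2, 0, 5, 1, 4]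
def rw3759 : List ℕ := [2, 7, 1, 2, 1, 4, 0, 3, 0, 6, 3, 6, 2, 2, 5, 6, 3, 6, 3, 4, 5, 5, 2, 7, 2, 7, 4, 3, 3, 7]
def rw3760 : List ℕ := [4, 2, 0, 5, 2, 7, 3, 1, 2, 6, 3, 4, 1, 3, 5, 3, 5, 2, 7, 1, 3, 1, 0, 0, 2, 0, 6, 3, 4, 2]
def rw3761 : List ℕ := [3, 5, 3, 5, 2, 7, 1, 3, 1, 0, 0, 2, 0, 6, 3, 4, 2, 4, 2, 0, 5, 2, 7, 3, 1, 2, 6, 3, 4, 1]
def rw3762 : List ℕ := [3, 3, 1, 6, 0, 2, 2, 0, 2, 2, 7, 3, 3, 1]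
def rw3763 : List ℕ := [1, 4, 1, 6, 0, 5, 0, 5, 0, 5, 0, 5, 0, 5, 7, 4, 1, 4, 1, 4, 1, 4]
def rw3764 : List ℕ := [1, 6, 0, 0, 0, 4, 1, 1, 3, 0, 3, 0, 5, 2, 7, 3, 4, 1, 2, 1, 2, 0, 0, 5, 1, 1]
def rw3765 : List ℕ := [1, 3, 1, 6, 0, 2, 0, 5, 0, 2, 0, 5, 0, 2, 0, 5, 7, 4, 1, 3, 1, 4, 1, 3, 1, 4]
def rw3766 : List ℕ := [1, 3, 5, 7, 4, 2, 0, 2, 4, 1, 3, 1, 4, 1, 3, 1, 6, 0, 2, 0, 5, 0, 2, 0, 5, 3]
def rw3767 : List ℕ := [5, 3, 5, 7, 4, 2, 4, 2, 2, 4, 2, 4, 1, 3, 3, 1, 6, 0, 2, 2, 0, 5, 3, 5, 3, 3]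
def rw3768 : List ℕ := [4, 2, 1, 6, 0, 3, 5, 3, 5, 3, 4, 2, 0, 5, 3, 5, 7, 4, 2, 4, 1, 3, 5, 2, 4, 2]
def rw3769 : List ℕ := [2, 5, 2, 6, 3, 6, 5, 3, 4, 7, 2, 7, 3, 4, 3, 4, 7, 2, 7, 3, 4, 3, 2, 2, 5, 2, 6, 3, 6, 5]
def rw3770 : List ℕ := [6, 5, 7, 2, 5, 2, 5, 2, 6, 0, 4, 3, 4, 3, 3, 1, 4, 0, 2, 2, 5, 2, 5, 1, 7, 3, 4, 3, 4, 3]
def rw3771 : List ℕ := [6, 3, 6, 5, 2, 5, 2, 6, 3, 6, 5, 3, 4, 7, 2, 7, 3, 4, 3, 4, 7, 2, 7, 3, 4, 3, 2, 2, 5, 2]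
def rw3772 : List ℕ := [6, 3, 4, 3, 1, 2, 0, 2, 5, 2, 7, 5, 0, 5, 0, 3, 4, 3, 6, 3, 7, 2, 5, 2, 1, 4, 1, 4]
def rw3773 : List ℕ := [2, 5, 5, 2, 7, 5, 2, 5, 1, 2, 0, 4, 3, 4, 6, 3, 4, 4, 3, 4, 7, 4, 2, 2, 3, 3, 3, 5, 6, 5]
def rw3774 : List ℕ := [2, 7, 4, 1, 4, 0, 5, 6, 3, 4, 2, 4, 4, 3, 4, 7, 5, 6, 5, 2, 5, 5, 3, 5]
def rw3775 : List ℕ := [0, 2, 5, 2, 7, 5, 0, 5, 0, 3, 4, 3, 6, 7, 7, 2, 5, 2, 1, 4, 1, 4, 6, 3, 4, 3, 1, 6]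
def rw3776 : List ℕ := [7, 1, 1, 1, 0, 0, 0, 0, 6, 3, 6, 1, 2, 5, 6, 3, 6, 3, 4, 1, 5, 2, 7, 2, 7, 4, 3, 0, 7, 2]
def rw3777 : List ℕ := [7, 2, 5, 0, 5, 1, 7, 2, 7, 2, 2, 1, 0, 0, 3, 3, 6, 3, 6, 0, 4, 1, 4, 3, 6, 3, 6, 1, 7, 2]
def rw3778 : List ℕ := [2, 7, 2, 0, 2, 5, 6, 3, 6, 3, 4, 3, 1, 4, 0, 2, 5, 2, 7, 2, 7, 4, 3, 1, 3, 6, 3, 6, 5, 7]
def rw3779 : List ℕ := [7, 1, 5, 3, 7, 2, 7, 2, 0, 3, 1, 0, 0, 2, 1, 3, 6, 3, 6, 2, 4, 0, 6, 3, 6, 5, 1, 4, 7, 2]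
def rw3780 : List ℕ := [3, 6, 2, 5, 2, 3, 3, 4, 3, 7, 2, 7, 1, 4, 3, 6, 3, 6, 5, 1, 2, 0, 4, 7, 2, 7, 2, 5, 0, 6]
def rw3781 : List ℕ := [3, 3, 1, 3, 0, 3, 1, 6, 0, 2, 1, 2, 0, 2, 2, 2, 7, 3]
def rw3782 : List ℕ := [0, 3, 1, 3, 3, 5, 2, 2, 0, 2, 1, 2, 1, 3, 1, 1, 4, 0, 0, 2, 0, 3]
def rw3783 : List ℕ := [3, 3, 0, 3, 1, 3, 3, 1, 2, 2, 0, 2, 1, 2, 2, 1, 3, 1, 1, 1, 0, 0, 0, 0, 2, 0]
def rw3784 : List ℕ := [3, 1, 3, 5, 2, 0, 2, 2, 2, 2, 2, 0, 2, 1, 1, 1, 4, 0, 0, 0, 3, 1, 3, 3, 3, 3]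
def rw3785 : List ℕ := [0, 2, 1, 1, 2, 1, 3, 1, 1, 2, 0, 0, 2, 0, 3, 0, 0, 3, 1, 3, 3, 3, 3, 2, 2, 2]
def rw3786 : List ℕ := [0, 2, 0, 3, 0, 0, 3, 1, 3, 3, 3, 5, 2, 2, 2, 0, 2, 1, 1, 2, 1, 3, 1, 1, 4, 0]
def rw3787 : List ℕ := [5, 3, 1, 1, 1, 4, 0, 0, 0, 2, 4, 3, 1, 2, 1, 5, 0, 3, 5, 2, 1, 4, 0, 3, 0, 2]
def rw3788 : List ℕ := [2, 5, 0, 3, 3, 3, 2, 2, 1, 4, 3, 1, 2, 1, 5, 3, 1, 1, 2, 0, 0, 2, 4, 0, 3, 0]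
def rw3789 : List ℕ := [0, 3, 0, 2, 5, 0, 3, 3, 5, 2, 2, 1, 4, 3, 1, 2, 1, 5, 3, 1, 1, 4, 0, 0, 2, 4]
def rw3790 : List ℕ := [5, 1, 1, 4, 0, 0, 4, 1, 2, 1, 2, 0, 0, 5, 1, 2, 5, 3, 0, 4, 1, 1, 3, 0, 3, 0]
def rw3791 : List ℕ := [5, 2, 2, 5, 1, 1, 5, 2, 2, 5, 1, 1, 0, 0, 0, 4, 3, 3, 4, 0, 0, 4, 3, 3, 4, 1]
def rw3792 : List ℕ := [3, 4, 0, 0, 4, 3, 3, 4, 5, 5, 2, 2, 5, 1, 1, 5, 2, 2, 5, 1, 1, 4, 0, 0, 4, 3]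
def rw3793 : List ℕ := [1, 4, 2, 4, 2, 5, 3, 5, 3, 5, 0, 5, 3, 5, 3, 1, 3, 1, 4, 0, 2, 0, 2, 4, 2, 4]
def rw3794 : List ℕ := [5, 1, 3, 1, 5, 1, 3, 1, 2, 0, 2, 0, 4, 0, 2, 0, 4, 1, 3, 1, 4, 3, 5, 0, 2, 0]
def rw3795 : List ℕ := [2, 0, 2, 4, 5, 5, 3, 1, 3, 5, 0, 2, 0, 5, 1, 3, 1, 4, 0, 2, 0, 4, 1, 3, 1, 4]
def rw3796 : List ℕ := [3, 1, 3, 4, 5, 5, 2, 0, 2, 5, 0, 2, 0, 5, 1, 3, 1, 4, 0, 2, 0, 4, 1, 3, 1, 4]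
def rw3797 : List ℕ := [1, 2, 0, 4, 3, 5, 1, 3, 0, 4, 4, 3, 4, 4, 0, 3, 1, 2, 0, 2, 1, 5, 5, 2, 5, 5]
def rw3798 : List ℕ := [2, 4, 2, 2, 3, 3, 3, 5, 3, 5, 0, 5, 3, 5, 3, 3, 1, 2, 0, 2, 2, 4, 2, 4, 1, 4]
def rw3799 : List ℕ := [4, 3, 1, 4, 3, 1, 4, 3, 1, 4, 3, 1, 2, 0, 2, 5, 0, 2, 5, 0, 2, 5, 0, 2, 5, 3]
def rw3800 : List ℕ := [7, 1, 2, 0, 6, 3, 6, 0, 6, 3, 6, 3, 7, 2, 7, 1, 7, 2]
def rw3801 : List ℕ := [6, 0, 6, 3, 6, 3, 1, 1, 2, 0, 0, 2, 7, 2, 7, 1, 7, 2, 7, 0, 2, 3, 3, 1, 6, 3]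
def rw3802 : List ℕ := [3, 6, 1, 3, 7, 2, 7, 1, 2, 5, 3, 0, 6, 3, 6, 2, 0, 7, 2, 7, 1, 1, 4, 0, 0, 6]
def rw3803 : List ℕ := [3, 6, 0, 6, 0, 2, 1, 3, 1, 0, 0, 2, 0, 3, 1, 7, 1, 7, 2, 7, 1, 7, 1, 6, 0, 6]
def rw3804 : List ℕ := [0, 2, 5, 3, 1, 2, 0, 2, 4, 3, 1, 7, 0, 2, 6, 3, 0, 5, 3, 4, 1, 2, 7, 3, 1, 6]
def rw3805 : List ℕ := [6, 3, 6, 3, 1, 2, 0, 2, 7, 2, 7, 2, 5, 2, 7, 2, 7, 4, 3, 5, 6, 3, 6, 3, 4, 3]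
def rw3806 : List ℕ := [7, 1, 5, 3, 7, 2, 7, 1, 2, 0, 6, 3, 6, 2, 4, 0, 6, 3, 6, 5, 3, 3, 2, 4, 7, 2]
def rw3807 : List ℕ := [2, 0, 5, 7, 4, 1, 3, 5, 6, 0, 2, 2, 2, 7, 3, 1, 3, 1, 6, 0, 2, 0, 2, 6, 3, 3, 3, 1, 7, 4]
def rw3808 : List ℕ := [3, 6, 0, 6, 3, 6, 4, 2, 4, 1, 0, 0, 5, 3, 5, 7, 2, 7, 1, 7, 2, 7, 5, 3, 5, 1, 4, 2, 4, 6]
def rw3809 : List ℕ := [1, 5, 3, 1, 0, 0, 2, 4, 0, 7, 3, 5, 6, 3, 3, 0, 2, 4, 4, 1, 5, 5, 3, 1, 2, 2, 7, 4, 2, 6]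
def rw3810 : List ℕ := [3, 6, 3, 7, 2, 7, 1, 7, 2, 7, 1, 2, 0, 6, 3, 6, 0, 6]
def rw3811 : List ℕ := [2, 7, 1, 1, 2, 0, 0, 6, 3, 6, 1, 4, 0, 6, 3, 6, 5, 3, 4, 7, 2, 7, 1, 5, 0, 7]
def rw3812 : List ℕ := [0, 6, 3, 6, 2, 1, 3, 7, 2, 7, 1, 7, 2, 7, 2, 0, 3, 1, 0, 0, 2, 1, 3, 6, 3, 6]
def rw3813 : List ℕ := [3, 6, 5, 3, 3, 2, 4, 7, 2, 7, 1, 5, 3, 7, 2, 7, 1, 2, 0, 6, 3, 6, 2, 4, 0, 6]
def rw3814 : List ℕ := [5, 3, 7, 2, 7, 1, 2, 0, 6, 3, 6, 2, 4, 7, 2, 7, 1, 5, 3, 3, 2, 4, 0, 6, 3, 6]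
def rw3815 : List ℕ := [3, 6, 2, 4, 7, 2, 7, 1, 5, 3, 5, 2, 4, 0, 6, 3, 6, 5, 3, 7, 2, 7, 1, 4, 0, 6]
def rw3816 : List ℕ := [6, 0, 6, 3, 6, 4, 2, 4, 1, 4, 0, 5, 3, 5, 7, 2, 7, 1, 7, 2, 7, 5, 3, 5, 5, 4, 2, 4, 6, 3]
def rw3817 : List ℕ := [6, 1, 4, 7, 2, 7, 1, 5, 1, 4, 0, 6, 3, 6, 5, 0, 7, 2, 7, 1, 1, 0, 0, 0, 6, 3]
def rw3818 : List ℕ := [3, 1, 2, 0, 2, 0, 3, 6, 3, 6, 0, 6, 3, 6, 3, 3, 2, 7, 2, 7, 1, 7, 2, 7, 2, 1]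
def rw3819 : List ℕ := [4, 7, 2, 7, 2, 7, 2, 7, 4, 3, 5, 6, 3, 6, 3, 6, 3, 6, 5, 1, 5, 2, 5, 1, 2, 0, 4, 3, 4, 0]
def rw3820 : List ℕ := [3, 6, 0, 2, 5, 0, 5, 6, 3, 6, 3, 3, 1, 2, 0, 2, 2, 7, 2, 7, 4, 1, 4, 3, 1, 7, 2, 7, 3, 6]
def rw3821 : List ℕ := [2, 7, 1, 1, 2, 0, 0, 6, 3, 6, 1, 3, 0, 6, 3, 6, 2, 3, 3, 7, 2, 7, 1, 2, 0, 7]
def rw3822 : List ℕ := [3, 6, 2, 7, 5, 2, 7, 7, 2, 7, 5, 2, 7, 7, 7, 6, 6, 3, 4, 6, 3, 6, 6, 3, 4, 6]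
def rw3823 : List ℕ := [2, 7, 4, 2, 2, 7, 3, 7, 2, 7, 2, 5, 3, 6, 3, 6, 2, 6, 3, 3, 5, 6, 3, 3, 5, 1, 4, 0, 4, 2]
def rw3824 : List ℕ := [1, 1, 6, 0, 0, 2, 0, 2, 7, 0, 2, 4, 1, 3, 5, 6, 3, 7, 2, 7, 4, 2, 0, 5, 3, 1, 6, 3, 1, 3]
def rw3825 : List ℕ := [7, 4, 3, 1, 7, 3, 6, 0, 2, 5, 6, 0, 2, 5, 0, 7, 2, 7, 1, 1, 2, 0, 0, 6, 3, 6, 1, 4, 3, 1]
def rw3826 : List ℕ := [6, 0, 2, 1, 3, 1, 7, 2, 7, 2, 0, 0, 7, 2, 7, 1, 1, 1, 0, 0, 0, 0, 6, 3, 6, 1, 1, 3, 6, 3]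
def rw3827 : List ℕ := [3, 6, 3, 4, 3, 5, 2, 7, 2, 7, 4, 3, 0, 7, 2, 7, 1, 1, 1, 2, 0, 0, 0, 6, 3, 6, 1, 2, 5, 6]
def rw3828 : List ℕ := [6, 3, 6, 1, 2, 5, 6, 3, 6, 3, 4, 5, 5, 2, 7, 2, 7, 4, 3, 0, 7, 2, 7, 1, 1, 1, 4, 0, 0, 0]
def rw3829 : List ℕ := [5, 3, 5, 0, 5, 2, 7, 3, 4, 1, 4, 2, 4, 1, 4, 1, 3, 3, 1, 6, 0, 2, 2, 0, 5, 0]
def rw3830 : List ℕ := [5, 6, 3, 0, 7, 2, 7, 1, 2, 0, 5, 6, 5, 7, 4, 1, 3, 0, 6, 3, 6, 1, 2, 7, 4, 3, 1, 4, 0, 2]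
def rw3831 : List ℕ := [6, 0, 2, 2, 2, 7, 0, 2, 4, 0, 2, 1, 3, 1, 5, 3, 1, 6, 3, 3, 3, 1, 7, 4, 1, 1, 0, 0, 0, 5]
def rw3832 : List ℕ := [7, 4, 2, 0, 5, 1, 4, 1, 3, 5, 6, 0, 2, 2, 2, 7, 3, 1, 3, 1, 0, 0, 2, 0, 2, 6, 3, 3, 3, 1]
def rw3833 : List ℕ := [7, 4, 5, 5, 6, 3, 0, 3, 1, 7, 0, 2, 4, 2, 1, 3, 1, 4, 0, 2, 0, 3, 5, 3, 1, 6, 0, 2, 1, 2]
def rw3834 : List ℕ := [2, 7, 2, 1, 3, 6, 3, 6, 1, 3, 7, 2, 7, 1, 1, 1, 0, 0, 0, 0, 6, 3, 6, 2, 0, 7]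
def rw3835 : List ℕ := [6, 3, 6, 0, 6, 3, 6, 1, 3, 1, 1, 0, 0, 0, 2, 0, 7, 2, 7, 1, 7, 2, 7, 2, 1, 3]
def rw3836 : List ℕ := [6, 3, 6, 0, 6, 3, 6, 3, 1, 1, 2, 0, 0, 2, 7, 2, 7, 1, 7, 2, 7, 0, 2, 3, 3, 1]
def rw3837 : List ℕ := [6, 3, 5, 2, 7, 2, 7, 1, 7, 2, 7, 2, 1, 3, 1, 4, 0, 2, 0, 3, 6, 3, 6, 0, 6, 3]
def rw3838 : List ℕ := [6, 3, 6, 3, 3, 1, 0, 0, 2, 2, 7, 2, 7, 1, 7, 2, 7, 2, 2, 1, 3, 3, 6, 3, 6, 0]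
def rw3839 : List ℕ := [3, 6, 3, 4, 3, 6, 3, 6, 3, 1, 2, 0, 2, 7, 2, 7, 2, 5, 2, 7, 2, 7, 4, 3, 5, 6]
def rw3840 : List ℕ := [5, 2, 7, 5, 0, 5, 0, 3, 4, 3, 6, 7, 7, 2, 5, 2, 1, 4, 1, 4, 6, 3, 4, 3, 1, 6, 0, 2]
def rw3841 : List ℕ := [2, 0, 3, 3, 7, 2, 7, 1, 1, 0, 0, 0, 6, 3, 6, 2, 2, 1, 3, 1, 6, 3, 6, 2, 1, 3, 7, 2, 7, 0]
def rw3842 : List ℕ := [6, 3, 7, 2, 7, 2, 5, 2, 7, 2, 7, 4, 1, 3, 1, 1, 2, 0, 0, 2, 0, 5, 6, 3, 6, 3, 4, 3, 6, 3]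
def rw3843 : List ℕ := [6, 0, 2, 5, 0, 7, 2, 7, 1, 1, 2, 0, 0, 6, 3, 6, 1, 4, 3, 1, 7, 4, 3, 1, 7, 3, 6, 0, 2, 5]
def rw3844 : List ℕ := [2, 5, 0, 5, 6, 3, 6, 3, 3, 1, 6, 0, 2, 2, 7, 2, 7, 4, 1, 4, 3, 1, 7, 2, 7, 7, 6, 3, 6, 0]
def rw3845 : List ℕ := [7, 1, 2, 2, 1, 3, 1, 4, 0, 2, 0, 3, 3, 0, 6, 3, 6, 1, 3, 7, 2, 7, 5, 6, 3, 6, 2, 0, 7, 2]
def rw3846 : List ℕ := [4, 2, 6, 3, 0, 2, 6, 3, 3, 1, 6, 0, 2, 2, 7, 3, 1, 2, 7, 3, 5, 2, 7, 2, 7, 7, 6, 3, 6, 3]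
def rw3847 : List ℕ := [6, 3, 6, 0, 6, 3, 6, 3, 3, 2, 7, 2, 7, 1, 7, 2, 7, 2, 2, 1, 3, 1, 1, 2, 0, 0, 2, 0, 3, 3]
def rw3848 : List ℕ := [5, 7, 4, 2, 4, 1, 4, 2, 4, 1, 6, 0, 5, 3, 5, 0, 5, 3]
def rw3849 : List ℕ := [7, 1, 7, 2, 7, 1, 0, 0, 6, 3, 6, 0, 6, 3, 6, 1, 7, 2]
def rw3850 : List ℕ := [7, 1, 7, 2, 7, 1, 6, 0, 6, 3, 6, 0, 6, 3, 6, 7, 7, 2]
def rw3851 : List ℕ := [6, 3, 6, 1, 3, 0, 6, 3, 6, 2, 3, 3, 7, 2, 7, 1, 2, 0, 7, 2, 7, 1, 1, 2, 0, 0]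
def rw3852 : List ℕ := [2, 7, 2, 7, 1, 7, 2, 7, 2, 7, 3, 6, 3, 6, 0, 6, 3, 6, 3, 1, 3, 1, 6, 0, 2, 0]
def rw3853 : List ℕ := [7, 2, 7, 1, 7, 5, 6, 0, 6, 3, 6, 0, 6, 0, 2, 1, 3, 1, 4, 0, 2, 0, 3, 1, 7, 1]
def rw3854 : List ℕ := [2, 5, 6, 5, 7, 4, 3, 1, 7, 4, 7, 2, 7, 1, 3, 1, 4, 0, 2, 0, 6, 3, 6, 5, 6, 0]
def rw3855 : List ℕ := [7, 2, 7, 1, 7, 3, 1, 3, 3, 1, 6, 0, 2, 2, 0, 2, 6, 0, 6, 3, 6, 0, 6, 7, 7, 1]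
def rw3856 : List ℕ := [1, 7, 2, 7, 2, 2, 7, 3, 3, 6, 3, 6, 0, 6, 3, 6, 3, 3, 1, 6, 0, 2, 2, 7, 2, 7]
def rw3857 : List ℕ := [7, 1, 7, 2, 7, 2, 2, 7, 3, 3, 6, 3, 6, 0, 6, 3, 6, 3, 3, 1, 6, 0, 2, 2, 7, 2]
def rw3858 : List ℕ := [7, 5, 5, 4, 6, 2, 7, 4, 1, 6, 3, 6, 6, 3, 4, 1, 4, 0, 5, 2, 7, 7, 2, 7, 0, 5, 6, 3]
def rw3859 : List ℕ := [2, 7, 2, 7, 4, 2, 4, 1, 2, 7, 1, 6, 3, 0, 5, 3, 5, 6, 3, 6, 3, 6, 3, 4, 1, 0, 0, 5, 2, 7]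
def rw3860 : List ℕ := [2, 7, 2, 7, 2, 7, 4, 2, 4, 1, 2, 7, 5, 6, 3, 0, 5, 3, 5, 6, 3, 6, 3, 6, 3, 4, 1, 4, 0, 5]
def rw3861 : List ℕ := [2, 5, 1, 2, 0, 4, 3, 4, 0, 4, 7, 2, 7, 2, 7, 2, 7, 4, 3, 5, 6, 3, 6, 3, 6, 3, 6, 5, 1, 5]
def rw3862 : List ℕ := [6, 4, 2, 0, 5, 0, 6, 3, 6, 3, 1, 0, 0, 2, 7, 2, 7, 1, 4, 1, 3, 5, 7, 2, 7, 5, 1, 4, 6, 3]
def rw3863 : List ℕ := [7, 2, 7, 5, 3, 4, 6, 3, 6, 4, 2, 0, 5, 0, 6, 3, 6, 3, 1, 2, 0, 2, 7, 2, 7, 1, 4, 1, 3, 5]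
def rw3864 : List ℕ := [7, 1, 4, 1, 3, 5, 7, 2, 7, 5, 5, 4, 6, 3, 6, 4, 2, 0, 5, 0, 6, 3, 6, 3, 1, 4, 0, 2, 7, 2]
def rw3865 : List ℕ := [2, 7, 2, 2, 6, 3, 6, 7, 7, 2, 7, 3, 3, 6, 3, 6, 0, 4, 1, 4, 3, 1, 6, 0, 2, 5, 0, 5, 1, 7]
def rw3866 : List ℕ := [2, 7, 1, 3, 1, 2, 0, 2, 0, 6, 3, 6, 4, 1, 3, 5, 7, 2, 7, 5, 3, 4, 6, 3, 6, 4, 2, 0, 5, 7]
def rw3867 : List ℕ := [2, 7, 7, 6, 3, 6, 0, 2, 5, 0, 5, 6, 3, 6, 3, 3, 1, 6, 0, 2, 2, 7, 2, 7, 4, 1, 4, 3, 1, 7]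
def rw3868 : List ℕ := [3, 3, 5, 0, 3, 1, 6, 0, 2, 1, 4, 2, 2, 7, 3, 1, 6, 3, 3, 5, 2, 7, 3, 4, 2, 2, 7, 0, 2, 6]
def rw3869 : List ℕ := [5, 7, 0, 2, 6, 3, 1, 2, 7, 3, 1, 6, 4, 2, 4, 1, 3, 0, 5, 3, 1, 0, 0, 2, 4, 1, 2, 0, 5, 3]
def rw3870 : List ℕ := [1, 2, 7, 3, 5, 2, 7, 2, 7, 3, 3, 1, 6, 0, 2, 2, 6, 3, 6, 3, 4, 2, 6, 3, 0, 2, 6, 7, 7, 3]
def rw3871 : List ℕ := [3, 6, 3, 7, 2, 7, 2, 0, 2, 5, 6, 3, 6, 3, 4, 3, 1, 2, 0, 2, 5, 2, 7, 2, 7, 4, 3, 1, 3, 6]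
def rw3872 : List ℕ := [2, 7, 3, 6, 3, 6, 3, 4, 2, 6, 3, 0, 2, 6, 3, 3, 1, 2, 0, 2, 2, 7, 3, 1, 2, 7, 3, 5, 2, 7]
def rw3873 : List ℕ := [2, 7, 3, 5, 2, 7, 2, 7, 5, 6, 3, 6, 3, 4, 2, 6, 3, 0, 2, 6, 3, 3, 1, 4, 0, 2, 2, 7, 3, 1]
def rw3874 : List ℕ := [6, 3, 6, 2, 2, 5, 6, 3, 6, 3, 4, 1, 5, 2, 7, 2, 7, 4, 3, 3, 7, 2, 7, 1, 2, 1, 0, 0, 3, 0]
def rw3875 : List ℕ := [4, 4, 3, 4, 3, 6, 6, 3, 4, 1, 2, 0, 5, 2, 7, 7, 2, 5, 2, 5, 5, 3, 5, 7, 5, 3, 4, 6, 4, 2]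
def rw3876 : List ℕ := [3, 1, 6, 0, 2, 0, 2, 6, 3, 4, 1, 3, 5, 3, 5, 2, 7, 7, 6, 3, 4, 2, 4, 2, 0, 5, 2, 7, 3, 1]
def rw3877 : List ℕ := [3, 1, 1, 2, 0, 0, 2, 0, 6, 0, 2, 1, 2, 7, 4, 2, 0, 5, 3, 4, 1, 3, 5, 6, 3, 0, 3, 1, 7, 1]
def rw3878 : List ℕ := [6, 6, 0, 4, 4, 3, 1, 1, 0, 0, 0, 2, 5, 5, 1, 7, 7, 5, 6, 2, 7, 2, 7, 1, 6, 3, 6, 3, 7, 4]
def rw3879 : List ℕ := [3, 5, 3, 5, 7, 5, 6, 4, 2, 4, 2, 6, 4, 3, 4, 3, 4, 6, 3, 3, 4, 2, 2, 7, 5, 2, 5, 2, 5, 7]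
def rw3880 : List ℕ := [6, 6, 0, 4, 4, 3, 1, 1, 2, 0, 0, 2, 5, 5, 1, 7, 7, 5, 6, 2, 7, 2, 7, 3, 6, 3, 6, 3, 7, 4]
def rw3881 : List ℕ := [7, 5, 6, 2, 7, 2, 7, 1, 6, 3, 6, 3, 7, 4, 6, 6, 0, 4, 4, 3, 1, 1, 0, 0, 0, 2, 5, 5, 1, 7]
def rw3882 : List ℕ := [0, 6, 6, 5, 1, 2, 0, 4, 0, 3, 1, 4, 0, 2, 1, 5, 1, 3, 0, 4, 7, 7, 1, 3, 6, 6, 5, 7, 7, 2]
def rw3883 : List ℕ := [1, 3, 6, 6, 3, 3, 2, 7, 7, 2, 0, 6, 6, 4, 3, 4, 4, 3, 1, 1, 2, 0, 0, 2, 5, 5, 2, 5, 7, 7]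
def rw3884 : List ℕ := [2, 0, 6, 6, 4, 3, 4, 4, 3, 1, 1, 4, 0, 0, 2, 5, 5, 2, 5, 7, 7, 1, 3, 6, 6, 3, 5, 2, 7, 7]
def rw3885 : List ℕ := [6, 3, 6, 6, 5, 5, 0, 5, 1, 4, 1, 4, 4, 7, 7, 2, 7, 1, 6, 5, 1, 1, 0, 0, 0, 4, 7, 0]
def rw3886 : List ℕ := [7, 1, 6, 5, 1, 1, 4, 0, 0, 4, 7, 0, 6, 3, 6, 6, 5, 5, 0, 5, 5, 4, 1, 4, 4, 7, 7, 2]
def rw3887 : List ℕ := [2, 7, 1, 6, 5, 5, 0, 5, 3, 4, 1, 4, 4, 7, 0, 6, 3, 6, 6, 5, 1, 1, 2, 0, 0, 4, 7, 7]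
def rw3888 : List ℕ := [2, 0, 2, 0, 2, 7, 3, 1, 3, 1, 3, 1, 6, 0]
def rw3889 : List ℕ := [1, 6, 0, 6, 3, 6, 0, 6, 3, 6, 7, 7, 2, 7, 1, 7, 2, 7]
def rw3890 : List ℕ := [2, 1, 2, 2, 0, 2, 1, 2, 1, 1, 0, 0, 0, 3, 0, 3, 1, 3, 3, 0, 3, 0, 2, 1, 3, 1]
def rw3891 : List ℕ := [5, 0, 5, 3, 4, 1, 4, 1, 1, 4, 1, 4, 1, 1, 2, 0, 0, 5, 0, 5, 0, 0]
def rw3892 : List ℕ := [1, 2, 2, 1, 4, 1, 5, 0, 3, 3, 0, 0, 2, 4, 3, 1, 1, 1, 0, 0, 0, 0, 2, 5, 3, 1]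
def rw3893 : List ℕ := [1, 2, 1, 1, 1, 2, 0, 0, 0, 3, 0, 5, 2, 0, 0, 0, 4, 2, 3, 3, 5, 1, 1, 1, 3, 4]
def rw3894 : List ℕ := [2, 1, 3, 4, 1, 2, 1, 2, 0, 0, 5, 1, 1, 1, 0, 0, 0, 0, 4, 1, 1, 3, 0, 3, 0, 5]
def rw3895 : List ℕ := [1, 2, 2, 1, 1, 2, 0, 0, 3, 3, 0, 5, 1, 2, 0, 0, 4, 2, 3, 3, 5, 1, 1, 3, 0, 4]
def rw3896 : List ℕ := [2, 0, 0, 5, 1, 2, 1, 3, 0, 4, 1, 1, 3, 0, 3, 0, 5, 1, 1, 0, 0, 0, 4, 1, 2, 1]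
def rw3897 : List ℕ := [4, 1, 4, 2, 5, 0, 5, 0, 5, 5, 3, 4, 4, 1, 4, 1, 4, 3, 5, 0, 5, 3, 1, 2, 0, 2]
def rw3898 : List ℕ := [1, 2, 2, 2, 5, 5, 1, 4, 4, 3, 3, 3, 0, 3, 0, 3, 4, 3, 1, 0, 0, 2, 5, 2, 1, 2]
def rw3899 : List ℕ := [6, 3, 0, 5, 5, 4, 1, 2, 7, 3, 1, 6, 0, 2, 5, 3, 1, 4, 0, 2, 4, 3, 1, 7, 0, 2]
def rw3900 : List ℕ := [2, 7, 1, 6, 5, 1, 1, 2, 0, 0, 4, 7, 0, 6, 3, 6, 6, 5, 5, 0, 5, 3, 4, 1, 4, 4, 7, 7]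
def rw3901 : List ℕ := [3, 1, 6, 3, 4, 3, 1, 0, 0, 2, 5, 2, 7, 0, 2, 6, 3, 0, 5, 3, 5, 2, 1, 3, 4, 2, 4, 1, 2, 7]
def rw3902 : List ℕ := [0, 2, 2, 2, 7, 0, 2, 4, 0, 2, 3, 3, 1, 5, 3, 1, 6, 3, 3, 3, 1, 7, 4, 1, 1, 2, 0, 0, 5, 6]
def rw3903 : List ℕ := [7, 1, 6, 1, 7, 0, 6, 0, 6, 6, 5, 1, 4, 0, 2, 5, 3, 1, 0, 0, 2, 4, 3, 1, 5, 0, 4, 7, 7, 1]
def rw3904 : List ℕ := [6, 3, 3, 5, 1, 3, 1, 1, 0, 0, 0, 2, 0, 4, 2, 2, 7, 0, 2, 6, 3, 3, 5, 1, 4, 2, 2, 7, 3, 1]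
def rw3905 : List ℕ := [3, 1, 6, 4, 0, 4, 4, 1, 5, 5, 1, 5, 7, 0, 2, 6, 4, 0, 4, 4, 3, 1, 0, 0, 2, 5, 5, 1, 5, 7]
def rw3906 : List ℕ := [3, 1, 6, 5, 7, 0, 2, 6, 3, 4, 1, 4, 1, 3, 5, 0, 3, 1, 4, 0, 2, 1, 4, 2, 0, 5, 0, 5, 2, 7]
def rw3907 : List ℕ := [1, 6, 0, 2, 5, 2, 1, 3, 4, 3, 1, 7, 0, 2, 6, 3, 0, 5, 3, 3, 1, 0, 0, 2, 2, 4, 1, 2, 7, 3]
def rw3908 : List ℕ := [2, 0, 5, 0, 5, 2, 7, 3, 1, 6, 7, 7, 0, 2, 6, 3, 4, 1, 4, 1, 3, 5, 0, 3, 1, 6, 0, 2, 1, 4]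
def rw3909 : List ℕ := [4, 2, 7, 3, 5, 3, 5, 0, 5, 3, 5, 3, 1, 3, 1, 6, 0, 2, 0, 2, 4, 2, 4, 1, 4, 2]
def rw3910 : List ℕ := [2, 4, 2, 1, 3, 1, 4, 0, 2, 0, 3, 5, 3, 5, 0, 5, 3, 5, 3, 5, 2, 4, 2, 4, 1, 4]
def rw3911 : List ℕ := [1, 3, 1, 5, 1, 3, 1, 0, 0, 2, 0, 4, 0, 2, 0, 4, 2, 0, 2, 4, 1, 5, 3, 1, 3, 5]
def rw3912 : List ℕ := [0, 2, 5, 3, 4, 3, 1, 3, 4, 1, 3, 1, 4, 1, 3, 1, 2, 0, 2, 0, 5, 0, 2, 0, 5, 2]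
def rw3913 : List ℕ := [2, 1, 3, 5, 3, 5, 0, 5, 3, 5, 2, 7, 3, 4, 2, 4, 1, 4, 2, 4, 2, 0, 3, 1, 6, 0]
def rw3914 : List ℕ := [3, 5, 3, 4, 2, 0, 5, 3, 5, 3, 4, 2, 4, 1, 3, 5, 2, 4, 2, 4, 2, 1, 2, 0, 3, 5]
def rw3915 : List ℕ := [6, 5, 7, 4, 2, 0, 5, 3, 1, 6, 3, 3, 3, 1, 4, 0, 2, 2, 2, 7, 0, 2, 4, 1, 3, 5]
def rw3916 : List ℕ := [0, 2, 5, 3, 1, 4, 0, 2, 4, 3, 1, 7, 0, 2, 6, 3, 0, 5, 5, 4, 1, 2, 7, 3, 1, 6]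
def rw3917 : List ℕ := [0, 5, 2, 7, 5, 6, 3, 4, 1, 3, 5, 3, 5, 2, 7, 3, 1, 4, 0, 2, 6, 3, 4, 2, 4, 2]
def rw3918 : List ℕ := [4, 1, 4, 1, 2, 0, 4, 7, 5, 6, 5, 1, 3, 0, 5, 0, 5, 7, 4, 1, 3, 1, 4, 0, 2, 0, 5, 6]
def rw3919 : List ℕ := [2, 0, 3, 4, 7, 5, 6, 5, 2, 1, 3, 5, 0, 5, 7, 4, 1, 3, 1, 4, 0, 2, 0, 5, 6, 4, 1, 4]
def rw3920 : List ℕ := [5, 7, 4, 2, 5, 3, 5, 6, 4, 1, 4, 1, 2, 0, 4, 7, 3, 1, 4, 0, 2, 6, 5, 1, 3, 0, 5, 0]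
def rw3921 : List ℕ := [2, 0, 2, 4, 2, 6, 3, 3, 3, 1, 0, 0, 2, 2, 2, 7, 3, 5, 3, 1, 3, 5, 0, 5, 6, 1, 7, 4, 1, 4]
def rw3922 : List ℕ := [7, 3, 5, 2, 7, 2, 7, 1, 6, 3, 6, 3, 4, 2, 6, 3, 0, 2, 6, 3, 3, 1, 0, 0, 2, 2, 7, 3, 1, 2]
def rw3923 : List ℕ := [2, 6, 3, 0, 5, 0, 2, 4, 5, 5, 3, 1, 4, 1, 2, 7, 3, 1, 6, 3, 1, 3, 1, 4, 0, 2, 0, 2, 7, 0]
def rw3924 : List ℕ := [5, 3, 0, 5, 2, 7, 3, 1, 4, 0, 2, 6, 3, 4, 1, 2, 4, 4, 1, 4, 2, 5, 7, 5, 6, 4, 3, 5, 0, 5]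
def rw3925 : List ℕ := [5, 5, 3, 3, 5, 5, 3, 3, 4, 2, 2, 4, 4, 2, 2, 4, 4, 2, 2, 4, 4, 5, 5, 5, 3, 3]
def rw3926 : List ℕ := [7, 4, 2, 6, 1, 5, 3, 1, 5, 5, 0, 3, 1, 0, 0, 2, 1, 4, 4, 0, 2, 4, 0, 7, 3, 5, 6, 3, 1, 2]
def rw3927 : List ℕ := [4, 1, 4, 1, 4, 4, 1, 4, 1, 0, 0, 5, 0, 5, 5, 0, 5, 0, 5, 5, 1, 4]
def rw3928 : List ℕ := [4, 2, 4, 2, 2, 4, 2, 4, 5, 5, 3, 5, 3, 3, 5, 3, 5, 3, 3, 4, 2, 2]
def rw3929 : List ℕ := [4, 2, 2, 4, 2, 4, 5, 5, 3, 5, 3, 3, 5, 3, 5, 3, 3, 4, 2, 2, 4, 2]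
def rw3930 : List ℕ := [2, 1, 3, 5, 1, 2, 0, 0, 4, 1, 2, 1, 1, 1, 0, 0, 0, 0, 3, 0, 5, 1, 1, 3, 0, 4]
def rw3931 : List ℕ := [2, 4, 2, 1, 3, 5, 3, 5, 0, 5, 3, 5, 1, 3, 1, 1, 0, 0, 0, 2, 0, 4, 2, 4, 1, 4]
def rw3932 : List ℕ := [3, 1, 1, 4, 0, 0, 2, 2, 2, 1, 4, 3, 1, 2, 1, 5, 5, 4, 0, 3, 0, 2, 5, 0, 3, 3]
def rw3933 : List ℕ := [0, 4, 4, 0, 0, 4, 4, 3, 5, 5, 1, 1, 5, 5, 1, 1, 5, 5, 1, 1, 2, 0, 0, 4, 4, 0]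
def rw3934 : List ℕ := [0, 0, 4, 4, 0, 0, 4, 4, 5, 5, 5, 1, 1, 5, 5, 1, 1, 5, 5, 1, 1, 4, 0, 0, 4, 4]
def rw3935 : List ℕ := [3, 0, 5, 2, 0, 3, 0, 4, 1, 1, 2, 0, 0, 5, 1, 2, 1, 3, 4, 1, 2, 2, 2, 3, 3, 3]
def rw3936 : List ℕ := [4, 1, 4, 2, 4, 2, 0, 3, 1, 0, 0, 2, 1, 3, 5, 3, 5, 0, 5, 3, 5, 2, 1, 3, 4, 2]
def rw3937 : List ℕ := [1, 2, 0, 4, 1, 5, 1, 3, 0, 4, 4, 3, 4, 4, 0, 3, 1, 0, 0, 2, 1, 5, 5, 2, 5, 5]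
def rw3938 : List ℕ := [0, 4, 4, 3, 4, 4, 0, 3, 1, 0, 0, 2, 1, 5, 5, 2, 5, 5, 1, 2, 0, 4, 1, 5, 1, 3]
def rw3939 : List ℕ := [2, 4, 1, 4, 3, 1, 3, 3, 1, 6, 0, 2, 2, 0, 2, 5, 0, 5, 3, 5, 0, 5, 7, 4, 1, 4]
def rw3940 : List ℕ := [1, 4, 1, 3, 5, 0, 5, 3, 1, 6, 0, 2, 4, 1, 4, 2, 0, 5, 0, 5, 0, 5, 7, 4, 1, 4]
def rw3941 : List ℕ := [1, 4, 1, 3, 5, 3, 1, 2, 0, 2, 4, 2, 0, 5, 0, 2, 4, 2, 0, 5, 3, 4, 1, 3, 5, 3]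
def rw3942 : List ℕ := [3, 5, 1, 4, 2, 4, 1, 5, 3, 5, 3, 5, 5, 3, 1, 0, 0, 2, 4, 4, 2, 4, 2, 4, 0, 5]
def rw3943 : List ℕ := [5, 3, 5, 5, 3, 1, 6, 0, 2, 4, 4, 2, 4, 2, 4, 0, 5, 3, 5, 7, 4, 2, 4, 1, 5, 3]
def rw3944 : List ℕ := [1, 3, 5, 2, 4, 2, 4, 2, 1, 0, 0, 3, 5, 3, 5, 3, 4, 2, 0, 5, 3, 5, 1, 4, 2, 4]
def rw3945 : List ℕ := [4, 1, 3, 5, 2, 4, 2, 4, 2, 1, 4, 0, 3, 5, 3, 5, 3, 4, 2, 0, 5, 3, 5, 5, 4, 2]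
def rw3946 : List ℕ := [4, 1, 4, 1, 2, 4, 1, 4, 2, 0, 5, 1, 2, 0, 4, 1, 3, 5, 0, 5, 3, 0, 5, 0, 5, 3]
def rw3947 : List ℕ := [2, 4, 1, 3, 5, 5, 3, 5, 3, 5, 1, 0, 0, 4, 2, 4, 2, 4, 4, 2, 0, 5, 3, 5, 1, 4]
def rw3948 : List ℕ := [5, 5, 1, 4, 3, 3, 5, 5, 1, 2, 0, 4, 4, 2, 2, 5, 0, 4, 4, 2, 2, 5, 3, 4, 3, 3]
def rw3949 : List ℕ := [4, 4, 2, 2, 4, 4, 5, 5, 5, 3, 3, 5, 5, 3, 3, 5, 5, 3, 3, 4, 2, 2, 4, 4, 2, 2]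
def rw3950 : List ℕ := [4, 3, 5, 2, 5, 3, 4, 3, 5, 2, 5, 3, 0, 2, 4, 3, 4, 2, 5, 2, 4, 3, 4, 2, 5, 1]
def rw3951 : List ℕ := [6, 3, 3, 5, 2, 2, 7, 0, 2, 6, 4, 1, 1, 5, 5, 1, 1, 4, 0, 0, 4, 4, 0, 0, 5, 7, 3, 1]
def rw3952 : List ℕ := [6, 5, 1, 5, 2, 5, 1, 0, 0, 4, 3, 4, 0, 4, 7, 2, 7, 2, 7, 2, 7, 4, 1, 5, 6, 3, 6, 3, 6, 3]
def rw3953 : List ℕ := [4, 1, 3, 5, 7, 2, 7, 5, 3, 1, 2, 0, 2, 4, 6, 3, 6, 4, 2, 0, 5, 7, 2, 7, 2, 3, 3, 6, 3, 6]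
def rw3954 : List ℕ := [7, 2, 7, 1, 7, 2, 7, 5, 3, 5, 1, 4, 2, 4, 6, 3, 6, 0, 6, 3, 6, 4, 2, 4, 1, 0, 0, 5, 3, 5]
def rw3955 : List ℕ := [3, 6, 4, 2, 4, 1, 6, 0, 5, 3, 5, 7, 2, 7, 1, 7, 2, 7, 5, 3, 5, 7, 4, 2, 4, 6, 3, 6, 0, 6]
def rw3956 : List ℕ := [7, 1, 7, 1, 1, 3, 1, 1, 0, 0, 0, 2, 0, 0, 6, 0, 6, 3, 6, 0, 6, 1, 7, 1, 7, 2]
def rw3957 : List ℕ := [0, 6, 3, 6, 0, 6, 7, 7, 1, 7, 2, 7, 1, 7, 3, 1, 3, 3, 1, 6, 0, 2, 2, 0, 2, 6]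
def rw3958 : List ℕ := [2, 1, 1, 4, 0, 0, 3, 0, 2, 0, 0, 3, 3, 3, 1, 3, 5, 2, 0, 2, 2, 2, 1, 1, 3, 1]
def rw3959 : List ℕ := [3, 1, 1, 4, 1, 5, 0, 0, 2, 1, 2, 1, 4, 3, 1, 1, 1, 0, 0, 0, 0, 2, 5, 0, 3, 0]
def rw3960 : List ℕ := [2, 1, 4, 1, 5, 0, 3, 0, 2, 2, 1, 4, 3, 1, 1, 1, 0, 0, 0, 0, 2, 5, 0, 3, 3, 1]
def rw3961 : List ℕ := [1, 1, 2, 2, 1, 4, 3, 5, 0, 3, 3, 0, 0, 2, 4, 3, 1, 1, 1, 2, 0, 0, 0, 2, 5, 3]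
def rw3962 : List ℕ := [1, 2, 1, 2, 0, 0, 5, 1, 1, 1, 2, 0, 0, 0, 4, 1, 1, 3, 0, 3, 0, 5, 2, 3, 3, 4]
def rw3963 : List ℕ := [3, 1, 1, 2, 2, 1, 4, 0, 3, 1, 1, 0, 0, 0, 2, 1, 5, 0, 3, 3, 0, 0, 2, 4, 1, 5]
def rw3964 : List ℕ := [5, 2, 0, 3, 0, 4, 2, 1, 3, 5, 1, 2, 1, 3, 4, 1, 2, 2, 1, 1, 0, 0, 0, 3, 3, 0]
def rw3965 : List ℕ := [0, 4, 4, 0, 0, 4, 0, 4, 4, 1, 5, 5, 1, 5, 1, 1, 5, 5, 1, 5, 1, 1, 0, 0, 0, 4]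
def rw3966 : List ℕ := [1, 2, 1, 3, 0, 4, 1, 2, 2, 2, 0, 0, 5, 1, 1, 0, 0, 0, 4, 1, 1, 3, 3, 3, 0, 5]
def rw3967 : List ℕ := [5, 1, 1, 4, 0, 0, 4, 1, 2, 2, 0, 3, 0, 5, 1, 2, 5, 3, 0, 4, 1, 2, 1, 3, 3, 0]
def rw3968 : List ℕ := [1, 1, 2, 0, 0, 4, 3, 3, 4, 0, 0, 4, 3, 3, 4, 3, 5, 2, 2, 5, 1, 1, 5, 2, 2, 5]
def rw3969 : List ℕ := [3, 4, 3, 5, 2, 2, 5, 1, 1, 5, 2, 2, 5, 1, 1, 2, 0, 0, 4, 3, 3, 4, 0, 0, 4, 3]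
def rw3970 : List ℕ := [2, 1, 3, 4, 1, 1, 4, 0, 0, 5, 2, 0, 3, 0, 4, 1, 2, 1, 2, 5, 3, 0, 3, 0, 5, 1]
def rw3971 : List ℕ := [0, 0, 5, 3, 3, 5, 0, 0, 5, 3, 3, 5, 5, 4, 2, 2, 4, 1, 1, 4, 2, 2, 4, 1, 1, 4]
def rw3972 : List ℕ := [3, 5, 0, 2, 0, 5, 1, 3, 1, 0, 0, 2, 0, 4, 1, 3, 1, 4, 2, 0, 2, 4, 1, 5, 3, 1]
def rw3973 : List ℕ := [3, 5, 0, 5, 3, 5, 2, 5, 3, 4, 2, 4, 1, 4, 2, 4, 2, 0, 3, 1, 4, 0, 2, 1, 3, 5]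
def rw3974 : List ℕ := [5, 5, 1, 2, 0, 4, 1, 5, 1, 3, 0, 4, 4, 3, 4, 4, 0, 3, 1, 0, 0, 2, 1, 5, 5, 2]
def rw3975 : List ℕ := [0, 5, 3, 5, 3, 3, 5, 3, 5, 1, 4, 2, 4, 2, 2, 4, 2, 4, 1, 3, 3, 1, 0, 0, 2, 2]
def rw3976 : List ℕ := [2, 0, 5, 0, 2, 4, 2, 0, 5, 1, 4, 1, 3, 5, 3, 1, 4, 1, 3, 5, 3, 1, 0, 0, 2, 4]
def rw3977 : List ℕ := [4, 2, 0, 5, 0, 2, 4, 2, 0, 5, 5, 4, 1, 3, 5, 3, 1, 4, 1, 3, 5, 3, 1, 4, 0, 2]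
def rw3978 : List ℕ := [2, 0, 4, 3, 4, 3, 5, 2, 5, 1, 3, 4, 3, 4, 3, 4, 3, 1, 2, 0, 2, 5, 2, 5, 2, 5]
def rw3979 : List ℕ := [5, 3, 4, 2, 0, 5, 3, 5, 1, 4, 2, 4, 1, 3, 5, 2, 4, 2, 4, 2, 1, 0, 0, 3, 5, 3]
def rw3980 : List ℕ := [4, 1, 3, 4, 1, 3, 4, 1, 3, 4, 1, 0, 0, 5, 2, 0, 5, 2, 0, 5, 2, 0, 5, 2, 1, 3]
def rw3981 : List ℕ := [1, 5, 5, 3, 3, 4, 1, 0, 0, 5, 2, 2, 4, 4, 0, 5, 2, 2, 4, 4, 1, 5, 5, 3, 3, 4]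
def rw3982 : List ℕ := [2, 5, 3, 5, 3, 0, 2, 4, 2, 4, 3, 4, 2, 4, 2, 4, 4, 4, 1, 5, 5, 5, 3, 5, 3, 5]
def rw3983 : List ℕ := [3, 6, 0, 6, 3, 6, 2, 5, 3, 7, 2, 7, 1, 7, 2, 7, 2, 0, 3, 1, 4, 0, 2, 1, 3, 6]
def rw3984 : List ℕ := [2, 7, 1, 7, 2, 7, 2, 2, 5, 3, 3, 6, 3, 6, 0, 6, 3, 6, 3, 3, 1, 4, 0, 2, 2, 7]
def rw3985 : List ℕ := [3, 1, 6, 0, 2, 5, 3, 1, 4, 0, 2, 4, 3, 1, 7, 0, 2, 6, 3, 0, 5, 5, 4, 1, 2, 7]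
def rw3986 : List ℕ := [7, 0, 2, 6, 4, 1, 1, 5, 5, 1, 1, 4, 0, 0, 4, 4, 0, 0, 5, 7, 3, 1, 6, 3, 3, 5, 2, 2]
def rw3987 : List ℕ := [4, 2, 6, 4, 0, 5, 3, 5, 1, 0, 0, 4, 2, 4, 1, 5, 7, 3, 5, 6, 2, 2, 2, 4, 1, 5, 3, 3, 3, 7]
def rw3988 : List ℕ := [2, 7, 1, 4, 1, 3, 5, 7, 2, 7, 5, 3, 4, 6, 3, 6, 4, 2, 0, 5, 0, 6, 3, 6, 3, 1, 2, 0, 2, 7]
def rw3989 : List ℕ := [2, 6, 3, 0, 5, 3, 1, 2, 4, 1, 2, 7, 3, 1, 6, 0, 2, 5, 1, 3, 1, 0, 0, 2, 0, 4, 3, 1, 7, 0]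
def rw3990 : List ℕ := [3, 6, 4, 1, 3, 5, 7, 2, 7, 5, 1, 4, 6, 3, 6, 4, 2, 0, 5, 7, 2, 7, 1, 3, 1, 0, 0, 2, 0, 6]
def rw3991 : List ℕ := [7, 2, 7, 5, 2, 1, 3, 4, 6, 3, 6, 4, 2, 0, 5, 7, 2, 7, 3, 1, 0, 0, 2, 6, 3, 6, 4, 1, 3, 5]
def rw3992 : List ℕ := [2, 6, 3, 0, 5, 3, 1, 3, 1, 0, 0, 2, 0, 2, 4, 1, 2, 7, 3, 1, 6, 0, 2, 5, 1, 4, 3, 1, 7, 0]
def rw3993 : List ℕ := [5, 6, 5, 6, 3, 6, 3, 4, 3, 1, 0, 0, 2, 5, 2, 7, 2, 7, 4, 7, 4, 3, 1, 7, 4, 1, 5, 6, 0, 2]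
def rw3994 : List ℕ := [6, 0, 2, 1, 2, 7, 4, 2, 0, 5, 3, 4, 1, 3, 5, 6, 3, 0, 3, 1, 7, 1, 3, 1, 1, 2, 0, 0, 2, 0]
def rw3995 : List ℕ := [3, 0, 3, 1, 7, 3, 1, 2, 6, 0, 2, 1, 2, 7, 4, 2, 0, 5, 1, 3, 1, 0, 0, 2, 0, 4, 1, 3, 5, 6]
def rw3996 : List ℕ := [1, 7, 3, 3, 2, 6, 0, 2, 1, 2, 7, 4, 2, 0, 5, 1, 3, 1, 2, 0, 2, 0, 4, 1, 3, 5, 6, 3, 0, 3]
def rw3997 : List ℕ := [0, 2, 0, 4, 1, 3, 5, 6, 3, 0, 3, 1, 7, 3, 5, 2, 6, 0, 2, 1, 2, 7, 4, 2, 0, 5, 1, 3, 1, 4]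
def rw3998 : List ℕ := [0, 2, 2, 2, 7, 3, 1, 2, 6, 3, 3, 3, 1, 7, 4, 2, 0, 5, 1, 3, 1, 0, 0, 2, 0, 4, 1, 3, 5, 6]
def rw3999 : List ℕ := [2, 7, 5, 5, 4, 6, 3, 6, 4, 2, 0, 5, 7, 2, 7, 1, 3, 1, 4, 0, 2, 0, 6, 3, 6, 4, 1, 3, 5, 7]
def rw4000 : List ℕ := [7, 2, 7, 4, 1, 4, 3, 1, 7, 2, 7, 5, 6, 3, 6, 0, 2, 5, 0, 5, 6, 3, 6, 3, 3, 1, 4, 0, 2, 2]
def rw4001 : List ℕ := [5, 2, 7, 2, 7, 3, 3, 1, 7, 0, 3, 1, 6, 0, 2, 1, 6, 0, 2, 2, 6, 3, 6, 3, 4, 2, 6, 7, 7, 3]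
def rw4002 : List ℕ := [7, 2, 7, 1, 7, 2, 7, 1, 2, 0, 6, 3, 6, 0, 6, 3, 6, 3]
def rw4003 : List ℕ := [1, 2, 0, 7, 2, 7, 1, 1, 0, 0, 0, 6, 3, 6, 1, 3, 0, 6, 3, 6, 2, 1, 3, 7, 2, 7]
def rw4004 : List ℕ := [6, 3, 6, 2, 1, 3, 7, 2, 7, 2, 0, 3, 7, 2, 7, 1, 1, 0, 0, 0, 6, 3, 6, 2, 1, 3]
def rw4005 : List ℕ := [6, 3, 6, 1, 1, 4, 0, 0, 7, 2, 7, 1, 2, 0, 7, 2, 7, 2, 5, 3, 6, 3, 6, 1, 3, 0]
def rw4006 : List ℕ := [6, 1, 3, 7, 2, 7, 2, 5, 3, 6, 3, 6, 2, 0, 7, 2, 7, 1, 2, 1, 4, 0, 3, 0, 6, 3]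
def rw4007 : List ℕ := [7, 2, 7, 4, 1, 6, 0, 5, 6, 3, 6, 3, 0, 5, 6, 3, 6, 3, 7, 2, 7, 2, 7, 4, 1, 2]
def rw4008 : List ℕ := [6, 2, 4, 7, 2, 7, 1, 5, 3, 1, 2, 4, 0, 6, 3, 6, 5, 3, 7, 2, 7, 1, 0, 0, 6, 3]
def rw4009 : List ℕ := [1, 2, 4, 3, 5, 3, 0, 7, 4, 1, 6, 1, 2, 2, 5, 3, 1, 2, 0, 2, 4, 3, 3, 0, 7, 0, 5, 6]
def rw4010 : List ℕ := [3, 3, 1, 3, 5, 2, 0, 2, 2, 2, 2, 0, 2, 1, 1, 4, 0, 0, 3, 1, 3, 3]
def rw4011 : List ℕ := [0, 3, 0, 0, 3, 1, 3, 3, 3, 5, 2, 2, 2, 0, 2, 1, 1, 2, 1, 3, 1, 1, 4, 0, 0, 2]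
def rw4012 : List ℕ := [2, 4, 1, 5, 3, 5, 3, 3, 5, 3, 5, 3, 3, 0, 2, 2, 4, 2, 4, 2, 2, 4]
def rw4013 : List ℕ := [3, 1, 1, 2, 0, 0, 2, 4, 1, 4, 1, 1, 4, 1, 4, 2, 3, 3, 5, 0, 5, 0, 0, 5, 0, 5]
def rw4014 : List ℕ := [2, 2, 4, 1, 1, 4, 2, 2, 4, 1, 1, 0, 0, 0, 5, 3, 3, 5, 0, 0, 5, 3, 3, 5, 1, 4]
def rw4015 : List ℕ := [4, 2, 4, 2, 1, 3, 1, 4, 0, 2, 0, 3, 5, 3, 5, 0, 5, 3, 5, 3, 5, 2, 4, 2, 4, 1]
def rw4016 : List ℕ := [1, 4, 2, 4, 1, 4, 1, 3, 3, 2, 0, 5, 0, 5, 3, 5, 0, 5, 1, 3, 1, 2, 0, 2, 0, 4]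
def rw4017 : List ℕ := [4, 1, 3, 1, 4, 1, 3, 1, 2, 0, 2, 0, 5, 0, 2, 0, 5, 2, 0, 2, 5, 3, 4, 3, 1, 3]
def rw4018 : List ℕ := [1, 4, 0, 2, 1, 4, 1, 4, 2, 4, 1, 4, 1, 2, 5, 3, 0, 5, 0, 5, 3, 5, 0, 5, 0, 3]
def rw4019 : List ℕ := [3, 5, 3, 1, 4, 0, 2, 4, 2, 0, 5, 0, 2, 4, 2, 0, 5, 5, 4, 1, 3, 5, 3, 1, 4, 1]
def rw4020 : List ℕ := [4, 4, 1, 3, 5, 0, 5, 3, 4, 1, 4, 1, 0, 0, 5, 0, 5, 2, 4, 1, 4, 2, 0, 5, 5, 1]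
def rw4021 : List ℕ := [4, 1, 3, 4, 1, 3, 4, 1, 0, 0, 5, 2, 0, 5, 2, 0, 5, 2, 0, 5, 2, 1, 3, 4, 1, 3]
def rw4022 : List ℕ := [2, 6, 3, 3, 5, 3, 1, 2, 0, 2, 4, 2, 2, 7, 3, 1, 6, 3, 3, 5, 3, 4, 2, 2, 7, 0]
def rw4023 : List ℕ := [5, 3, 5, 5, 4, 2, 4, 1, 7, 3, 1, 6, 3, 4, 1, 4, 3, 1, 4, 0, 2, 5, 0, 5, 2, 7, 0, 2, 6, 0]
def rw4024 : List ℕ := [7, 3, 1, 3, 5, 6, 5, 1, 3, 4, 3, 1, 4, 0, 2, 5, 2, 0, 4, 7, 4, 2, 0, 2, 6, 0, 4, 5, 5, 1]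
def rw4025 : List ℕ := [3, 3, 1, 2, 0, 2, 2, 7, 2, 4, 2, 4, 2, 1, 4, 1, 6, 3, 3, 2, 7, 0, 5, 0, 3, 5, 3, 5, 3, 6]
def rw4026 : List ℕ := [7, 2, 7, 3, 4, 3, 4, 7, 2, 7, 3, 4, 3, 0, 2, 5, 2, 6, 3, 6, 5, 2, 5, 2, 6, 3, 6, 5, 1, 4]
def rw4027 : List ℕ := [1, 6, 0, 2, 2, 6, 3, 6, 3, 4, 2, 6, 7, 7, 3, 5, 2, 7, 2, 7, 3, 3, 1, 7, 0, 3, 1, 6, 0, 2]
def rw4028 : List ℕ := [1, 5, 0, 3, 1, 2, 1, 4, 0, 3, 0, 2, 5, 3, 1, 1, 1, 0, 0, 0, 0, 2, 4, 3, 1, 2]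
def rw4029 : List ℕ := [4, 3, 1, 1, 1, 4, 0, 0, 0, 2, 5, 0, 3, 0, 3, 1, 1, 4, 5, 5, 0, 0, 2, 1, 2, 1]
def rw4030 : List ℕ := [1, 1, 3, 0, 4, 2, 1, 3, 5, 1, 2, 0, 0, 4, 1, 2, 1, 1, 1, 0, 0, 0, 0, 3, 0, 5]
def rw4031 : List ℕ := [1, 1, 3, 0, 4, 2, 5, 3, 5, 1, 2, 0, 0, 4, 1, 2, 1, 1, 1, 4, 0, 0, 0, 3, 0, 5]
def rw4032 : List ℕ := [4, 1, 1, 1, 2, 0, 0, 0, 5, 0, 5, 0, 4, 0, 5, 0, 5, 3, 4, 1, 4, 1, 5, 1, 4, 1]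
def rw4033 : List ℕ := [0, 2, 2, 1, 4, 1, 5, 0, 3, 3, 1, 2, 1, 4, 0, 3, 1, 1, 0, 0, 0, 2, 1, 5, 0, 3]
def rw4034 : List ℕ := [0, 3, 3, 3, 1, 1, 0, 0, 0, 2, 2, 2, 1, 4, 3, 1, 2, 1, 5, 1, 4, 0, 3, 0, 2, 5]
def rw4035 : List ℕ := [3, 5, 3, 1, 1, 2, 0, 0, 2, 4, 2, 4, 1, 4, 2, 4, 0, 2, 3, 3, 1, 5, 3, 5, 0, 5]
def rw4036 : List ℕ := [5, 3, 5, 0, 5, 3, 5, 3, 1, 1, 4, 0, 0, 2, 4, 2, 4, 1, 4, 2, 4, 0, 2, 5, 3, 1]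
def rw4037 : List ℕ := [1, 3, 1, 5, 1, 3, 1, 2, 0, 2, 0, 4, 0, 2, 0, 4, 2, 0, 2, 4, 3, 5, 3, 1, 3, 5]
def rw4038 : List ℕ := [4, 2, 4, 1, 4, 1, 3, 1, 2, 0, 5, 0, 5, 3, 5, 0, 5, 1, 3, 1, 0, 0, 2, 0, 4, 1]
def rw4039 : List ℕ := [0, 5, 3, 5, 2, 1, 3, 4, 2, 4, 1, 4, 2, 4, 2, 0, 3, 1, 0, 0, 2, 1, 3, 5, 3, 5]
def rw4040 : List ℕ := [4, 1, 4, 2, 4, 1, 4, 1, 2, 5, 3, 0, 5, 0, 5, 3, 5, 0, 5, 0, 3, 1, 4, 0, 2, 1]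
def rw4041 : List ℕ := [4, 1, 4, 1, 5, 1, 4, 0, 5, 0, 5, 0, 3, 5, 0, 5, 3, 1, 0, 0, 2, 4, 1, 4, 2, 1]
def rw4042 : List ℕ := [5, 0, 5, 0, 3, 5, 0, 5, 3, 1, 0, 0, 2, 4, 1, 4, 2, 1, 4, 1, 4, 1, 5, 1, 4, 0]
def rw4043 : List ℕ := [3, 0, 5, 3, 5, 5, 4, 2, 4, 1, 2, 4, 2, 4, 2, 5, 3, 1, 4, 0, 2, 4, 3, 5, 3, 5]
def rw4044 : List ℕ := [5, 3, 5, 3, 5, 5, 3, 1, 4, 0, 2, 4, 4, 2, 4, 2, 4, 0, 5, 3, 5, 5, 4, 2, 4, 1]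
def rw4045 : List ℕ := [1, 3, 4, 3, 1, 2, 5, 2, 0, 5, 5, 2, 2, 2, 1, 2, 1, 0, 0, 3, 0, 3, 3, 3, 4, 4]
def rw4046 : List ℕ := [2, 1, 3, 7, 2, 7, 1, 7, 2, 7, 2, 0, 3, 1, 0, 0, 2, 1, 3, 6, 3, 6, 0, 6, 3, 6]
def rw4047 : List ℕ := [2, 5, 6, 1, 2, 5, 3, 0, 7, 4, 3, 1, 7, 4, 7, 2, 7, 3, 3, 1, 4, 0, 2, 2, 6, 3, 6, 5, 6, 0]
def rw4048 : List ℕ := [6, 3, 3, 3, 1, 7, 4, 2, 0, 5, 1, 3, 1, 4, 0, 2, 0, 4, 1, 3, 5, 6, 0, 2, 2, 2, 7, 3, 5, 2]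
def rw4049 : List ℕ := [7, 1, 5, 1, 3, 6, 3, 6, 2, 1, 3, 7, 2, 7, 2, 0, 4, 0, 6, 3, 6, 5, 3, 1, 0, 0, 2, 4, 7, 2]
def rw4050 : List ℕ := [6, 4, 2, 4, 1, 0, 0, 5, 3, 5, 7, 2, 7, 1, 7, 2, 7, 5, 3, 5, 1, 4, 2, 4, 6, 3, 6, 0, 6, 3]
def rw4051 : List ℕ := [6, 2, 1, 5, 3, 1, 0, 0, 2, 4, 0, 3, 7, 0, 2, 6, 1, 3, 3, 0, 5, 1, 4, 1, 2, 2, 0, 7, 3, 1]
def rw4052 : List ℕ := [3, 1, 3, 1, 3, 1, 6, 0, 2, 0, 2, 0, 2, 7]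
def rw4053 : List ℕ := [5, 7, 3, 1, 2, 0, 2, 6, 4, 2, 4, 2, 5, 0, 5, 2, 7, 3, 6, 3, 4, 1, 4, 3, 5, 3]
def rw4054 : List ℕ := [5, 6, 3, 7, 4, 2, 6, 5, 2, 5, 2, 0, 5, 3, 3, 1, 2, 0, 2, 2, 4, 1, 3, 4, 3, 4, 7, 3]
def rw4055 : List ℕ := [3, 1, 6, 2, 1, 5, 3, 1, 4, 1, 1, 4, 0, 0, 5, 0, 2, 4, 0, 3, 7, 0, 2, 6, 2, 2, 5, 3, 3, 7]
def rw4056 : List ℕ := [4, 3, 1, 3, 3, 5, 3, 1, 6, 3, 7, 2, 7, 0, 2, 4, 2, 2, 0, 2, 5, 6, 3, 3, 1, 6, 0, 2, 2, 7]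
def rw4057 : List ℕ := [2, 1, 6, 3, 0, 5, 0, 2, 4, 3, 1, 7, 2, 3, 3, 6, 0, 2, 5, 3, 1, 4, 1, 2, 7, 0, 3, 1, 2, 0]
def rw4058 : List ℕ := [3, 5, 2, 5, 3, 4, 2, 2, 7, 0, 2, 6, 3, 3, 5, 0, 3, 1, 4, 0, 2, 1, 4, 2, 2, 7, 3, 1, 6, 3]
def rw4059 : List ℕ := [7, 3, 1, 6, 3, 1, 3, 1, 4, 0, 2, 0, 2, 7, 0, 2, 6, 3, 0, 5, 0, 2, 4, 5, 5, 3, 1, 4, 1, 2]
def rw4060 : List ℕ := [7, 3, 1, 6, 2, 1, 5, 3, 1, 2, 0, 2, 4, 0, 3, 7, 0, 2, 6, 1, 3, 3, 0, 5, 3, 4, 1, 2, 2, 0]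
def rw4061 : List ℕ := [7, 3, 1, 6, 3, 1, 3, 1, 2, 0, 2, 0, 2, 7, 0, 2, 6, 3, 0, 5, 0, 2, 4, 3, 5, 3, 1, 4, 1, 2]
def rw4062 : List ℕ := [6, 3, 6, 3, 1, 2, 7, 3, 0, 2, 7, 2, 7, 1, 7, 2, 7, 3, 1, 6, 0, 2, 6, 3, 6, 0]
def rw4063 : List ℕ := [2, 6, 3, 0, 2, 2, 7, 4, 1, 4, 3, 5, 0, 5, 6, 3, 3, 1, 2, 7, 3, 5, 1, 3, 1, 2, 0, 2, 0, 4]
def rw4064 : List ℕ := [5, 3, 5, 1, 4, 2, 4, 1, 7, 3, 1, 6, 3, 4, 1, 4, 3, 1, 0, 0, 2, 5, 0, 5, 2, 7, 0, 2, 6, 0]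
def rw4065 : List ℕ := [6, 3, 6, 5, 1, 3, 6, 3, 6, 1, 3, 1, 0, 0, 2, 0, 7, 2, 7, 2, 0, 4, 7, 2, 7, 1, 5, 1, 4, 0]
def rw4066 : List ℕ := [3, 6, 3, 5, 5, 4, 2, 7, 2, 7, 2, 4, 2, 7, 2, 7, 5, 3, 1, 4, 0, 2, 4, 6, 3, 6, 3, 5, 3, 6]
def rw4067 : List ℕ := [3, 6, 4, 2, 4, 1, 4, 0, 5, 3, 5, 7, 2, 7, 1, 7, 2, 7, 5, 3, 5, 5, 4, 2, 4, 6, 3, 6, 0, 6]
def rw4068 : List ℕ := [7, 4, 3, 5, 6, 3, 6, 3, 4, 3, 6, 3, 6, 3, 1, 2, 0, 2, 7, 2, 7, 2, 5, 2, 7, 2]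
def rw4069 : List ℕ := [2, 7, 1, 1, 2, 0, 0, 6, 3, 6, 1, 1, 5, 2, 7, 2, 7, 4, 3, 3, 2, 5, 6, 3, 6, 3, 4, 0, 0, 7]
def rw4070 : List ℕ := [7, 2, 7, 2, 7, 2, 7, 4, 3, 5, 6, 3, 6, 3, 6, 3, 6, 5, 1, 5, 2, 5, 1, 2, 0, 4, 3, 4, 0, 4]
def rw4071 : List ℕ := [2, 7, 2, 5, 2, 7, 2, 7, 4, 1, 3, 1, 1, 0, 0, 0, 2, 0, 5, 6, 3, 6, 3, 4, 3, 6, 3, 6, 1, 7]
def rw4072 : List ℕ := [3, 1, 7, 4, 2, 0, 5, 1, 3, 1, 2, 0, 2, 0, 4, 1, 3, 5, 6, 0, 2, 2, 2, 7, 3, 3, 2, 6, 3, 3]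
def rw4073 : List ℕ := [2, 7, 2, 5, 0, 5, 1, 7, 2, 7, 2, 2, 1, 2, 0, 3, 3, 6, 3, 6, 0, 4, 1, 4, 3, 6, 3, 6, 3, 7]
def rw4074 : List ℕ := [7, 2, 7, 3, 4, 3, 2, 2, 5, 2, 6, 3, 6, 5, 2, 5, 2, 6, 3, 6, 5, 3, 4, 7, 2, 7, 3, 4, 3, 4]
def rw4075 : List ℕ := [7, 2, 7, 4, 3, 3, 1, 6, 0, 2, 2, 5, 6, 3, 6, 3, 4, 3, 6, 3, 6, 2, 7, 3, 7, 2, 7, 2, 5, 2]
def rw4076 : List ℕ := [1, 3, 6, 5, 1, 3, 6, 5, 1, 2, 0, 4, 7, 2, 0, 4, 7, 2, 0, 4, 7, 2, 3, 3, 6, 5]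
def rw4077 : List ℕ := [0, 4, 7, 2, 0, 4, 7, 3, 1, 2, 0, 2, 6, 5, 1, 3, 6, 5, 1, 3, 6, 5, 2, 2, 3, 3, 3, 4, 7, 2]
def rw4078 : List ℕ := [3, 1, 7, 4, 7, 2, 7, 1, 3, 1, 0, 0, 2, 0, 6, 3, 6, 5, 6, 0, 2, 5, 6, 1, 7, 4]
def rw4079 : List ℕ := [3, 0, 5, 7, 4, 1, 2, 7, 3, 1, 6, 0, 2, 5, 3, 1, 6, 0, 2, 4, 3, 1, 7, 0, 2, 6]
def rw4080 : List ℕ := [1, 1, 6, 0, 0, 2, 0, 4, 1, 2, 7, 3, 1, 6, 0, 2, 5, 7, 4, 3, 1, 7, 0, 2, 6, 3, 0, 5, 1, 3]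
def rw4081 : List ℕ := [3, 1, 6, 0, 2, 0, 2, 4, 1, 2, 7, 3, 1, 6, 0, 2, 5, 7, 4, 3, 1, 7, 0, 2, 6, 3, 0, 5, 3, 1]
def rw4082 : List ℕ := [3, 1, 6, 0, 2, 0, 5, 0, 2, 0, 5, 3, 1, 3, 5, 7, 4, 2, 0, 2, 4, 1, 3, 1, 4, 1]
def rw4083 : List ℕ := [3, 1, 6, 3, 7, 0, 2, 4, 1, 3, 5, 6, 3, 0, 3, 1, 2, 0, 2, 1, 2, 7, 4, 2, 0, 5]
def rw4084 : List ℕ := [6, 3, 4, 2, 4, 2, 0, 5, 2, 7, 1, 6, 3, 4, 1, 3, 5, 3, 5, 2, 7, 3, 1, 0, 0, 2]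
def rw4085 : List ℕ := [3, 1, 6, 4, 4, 0, 3, 4, 4, 1, 1, 1, 4, 0, 0, 0, 5, 5, 2, 1, 5, 5, 7, 0, 2, 6, 4, 5, 5, 7]
def rw4086 : List ℕ := [6, 0, 2, 5, 1, 3, 1, 0, 0, 2, 0, 4, 3, 1, 7, 0, 2, 6, 3, 0, 5, 3, 1, 2, 4, 1, 2, 7, 3, 1]
def rw4087 : List ℕ := [1, 6, 4, 0, 4, 4, 1, 5, 5, 1, 5, 7, 0, 2, 6, 4, 0, 4, 4, 3, 1, 0, 0, 2, 5, 5, 1, 5, 7, 3]
def rw4088 : List ℕ := [6, 3, 4, 2, 6, 3, 0, 2, 6, 3, 7, 3, 1, 2, 7, 3, 5, 2, 7, 2, 7, 3, 3, 1, 2, 0, 2, 2, 6, 3]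
def rw4089 : List ℕ := [7, 0, 2, 6, 2, 0, 7, 3, 6, 1, 3, 7, 3, 1, 6, 2, 0, 7, 3, 1, 3, 1, 2, 0, 2, 0, 2, 6, 1, 3]
def rw4090 : List ℕ := [2, 7, 5, 3, 1, 6, 0, 2, 4, 6, 3, 6, 3, 5, 3, 6, 3, 6, 3, 5, 7, 4, 2, 7, 2, 7, 2, 4, 2, 7]
def rw4091 : List ℕ := [7, 3, 5, 6, 3, 3, 0, 2, 4, 4, 1, 5, 5, 3, 1, 2, 2, 7, 4, 2, 6, 1, 5, 3, 1, 0, 0, 2, 4, 0]
def rw4092 : List ℕ := [7, 3, 5, 6, 3, 3, 0, 2, 4, 4, 5, 5, 5, 3, 1, 2, 2, 7, 4, 2, 6, 1, 5, 3, 1, 4, 0, 2, 4, 0]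
def rw4093 : List ℕ := [4, 1, 4, 2, 6, 3, 7, 3, 5, 0, 5, 6, 5, 2, 5, 5, 5, 2, 5, 1, 2, 0, 4, 3, 4, 4, 4, 3, 4, 7]
def rw4094 : List ℕ := [3, 3, 1, 3, 5, 6, 5, 7, 4, 2, 0, 2, 2, 7, 4, 7, 2, 7, 1, 3, 1, 4, 0, 2, 0, 6, 3, 6, 5, 6]
def rw4095 : List ℕ := [7, 4, 2, 0, 5, 6, 4, 3, 1, 4, 0, 2, 5, 7, 4, 1, 3, 5, 6, 4, 2, 0, 5, 5, 5, 4, 4, 1, 3, 5]
def rw4096 : List ℕ := [1, 1, 4, 3, 4, 1, 1, 1, 6, 0, 0, 0, 5, 2, 5, 0, 0, 0, 5, 2, 5, 7, 4, 3, 4, 1]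
def rw4097 : List ℕ := [0, 5, 0, 2, 0, 5, 7, 4, 1, 3, 1, 4, 1, 3, 1, 4, 1, 3, 1, 6, 0, 2, 0, 5, 0, 2]
def rw4098 : List ℕ := [0, 5, 3, 1, 6, 0, 2, 4, 1, 4, 2, 0, 5, 0, 5, 0, 5, 7, 4, 1, 4, 1, 4, 1, 3, 5]
def rw4099 : List ℕ := [1, 4, 3, 3, 5, 5, 1, 6, 0, 4, 4, 2, 2, 5, 0, 4, 4, 2, 2, 5, 7, 4, 3, 3, 5, 5]
def rw4100 : List ℕ := [7, 3, 1, 6, 3, 3, 5, 5, 1, 1, 2, 0, 0, 4, 4, 2, 2, 7, 0, 2, 6, 4, 4, 4, 3, 5, 5, 5]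
def rw4101 : List ℕ := [0, 6, 6, 3, 1, 4, 1, 1, 0, 0, 0, 5, 0, 2, 7, 7, 1, 7, 2, 6, 3, 5, 1, 4, 2, 7, 3, 6]
def rw4102 : List ℕ := [4, 1, 1, 4, 0, 0, 5, 7, 4, 1, 3, 5, 6, 1, 3, 4, 4, 5, 5, 5, 2, 0, 7, 4, 2, 0, 5, 6]
def rw4103 : List ℕ := [7, 0, 2, 4, 1, 3, 5, 6, 3, 5, 2, 7, 4, 2, 0, 5, 3, 1, 6, 1, 3, 1, 1, 1, 4, 0, 0, 0, 2, 0]
def rw4104 : List ℕ := [6, 1, 3, 7, 2, 7, 3, 1, 4, 0, 2, 6, 3, 6, 2, 0, 7, 2, 7, 1, 2, 2, 2, 5, 3, 3, 3, 0, 6, 3]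
def rw4105 : List ℕ := [2, 7, 4, 2, 0, 5, 1, 3, 1, 4, 0, 2, 0, 4, 1, 3, 5, 6, 3, 0, 3, 1, 7, 3, 5, 2, 6, 0, 2, 1]
def rw4106 : List ℕ := [1, 4, 5, 5, 0, 5, 6, 3, 0, 3, 1, 7, 3, 5, 1, 3, 1, 4, 0, 2, 0, 4, 2, 6, 0, 2, 1, 2, 7, 4]
def rw4107 : List ℕ := [4, 0, 2, 5, 2, 0, 4, 7, 4, 1, 5, 6, 5, 1, 3, 4, 3, 1, 5, 1, 7, 1, 3, 1, 0, 0, 2, 0, 6, 0]
def rw4108 : List ℕ := [0, 2, 6, 0, 4, 1, 5, 1, 7, 3, 1, 3, 5, 6, 5, 1, 3, 4, 3, 1, 0, 0, 2, 5, 2, 0, 4, 7, 4, 2]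
def rw4109 : List ℕ := [1, 3, 5, 6, 3, 7, 4, 2, 0, 5, 6, 4, 4, 1, 4, 2, 2, 4, 1, 2, 0, 5, 3, 3, 5, 0, 5, 5, 7, 4]
def rw4110 : List ℕ := [2, 5, 2, 7, 2, 7, 4, 3, 1, 3, 6, 3, 6, 7, 7, 2, 7, 2, 0, 2, 5, 6, 3, 6, 3, 4, 3, 1, 6, 0]
def rw4111 : List ℕ := [0, 2, 4, 3, 1, 3, 0, 5, 6, 3, 7, 4, 1, 2, 0, 2, 5, 3, 1, 6, 3, 3, 3, 1, 2, 0, 2, 2, 2, 7]
def rw4112 : List ℕ := [7, 0, 2, 6, 3, 0, 5, 1, 3, 1, 1, 4, 0, 0, 2, 0, 4, 1, 2, 7, 3, 1, 6, 0, 2, 5, 5, 4, 3, 1]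
def rw4113 : List ℕ := [3, 0, 5, 3, 5, 2, 4, 1, 2, 7, 3, 1, 6, 0, 2, 5, 1, 3, 1, 4, 0, 2, 0, 4, 3, 1, 7, 0, 2, 6]
def rw4114 : List ℕ := [2, 7, 0, 5, 0, 5, 3, 5, 3, 5, 6, 3, 3, 1, 6, 0, 2, 2, 7, 4, 2, 4, 2, 4, 1, 4, 1, 6, 3, 7]
def rw4115 : List ℕ := [5, 3, 1, 4, 1, 1, 2, 0, 0, 5, 0, 2, 4, 0, 3, 7, 0, 2, 6, 2, 2, 3, 3, 3, 7, 3, 1, 6, 2, 1]
def rw4116 : List ℕ := [0, 2, 6, 3, 3, 5, 3, 4, 2, 2, 7, 3, 1, 6, 3, 3, 5, 1, 3, 1, 1, 2, 0, 0, 2, 0, 4, 2, 2, 7]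
def rw4117 : List ℕ := [2, 6, 3, 3, 5, 5, 4, 2, 2, 7, 3, 1, 6, 3, 3, 5, 1, 3, 1, 1, 4, 0, 0, 2, 0, 4, 2, 2, 7, 0]
def rw4118 : List ℕ := [1, 2, 0, 5, 3, 5, 7, 0, 2, 6, 3, 3, 2, 7, 3, 1, 6, 4, 2, 4, 1, 3, 0, 5, 3, 1, 2, 0, 2, 4]
def rw4119 : List ℕ := [1, 3, 0, 0, 0, 0, 2, 0, 3, 3, 3, 3]
def rw4120 : List ℕ := [3, 1, 3, 3, 3, 3, 0, 2, 0, 0, 0, 0]
def rw4121 : List ℕ := [0, 2, 2, 2, 2, 0, 2, 1, 1, 0, 0, 0, 3, 1, 3, 3, 3, 3, 1, 3, 1, 2]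
def rw4122 : List ℕ := [1, 1, 2, 0, 0, 3, 3, 1, 3, 0, 3, 0, 2, 3, 3, 1, 2, 1, 2, 0, 2, 2]
def rw4123 : List ℕ := [1, 3, 0, 3, 3, 1, 0, 0, 2, 2, 1, 2, 0, 2, 2, 1, 2, 1, 3, 0, 3, 3]
def rw4124 : List ℕ := [3, 1, 1, 2, 0, 0, 2, 0, 3, 0, 0, 3, 1, 3, 3, 3, 3, 2, 2, 2, 0, 2, 1, 1, 2, 1]
def rw4125 : List ℕ := [2, 2, 0, 2, 1, 2, 1, 1, 2, 0, 0, 3, 0, 3, 1, 3, 3, 0, 3, 0, 2, 3, 3, 1, 2, 1]
def rw4126 : List ℕ := [5, 3, 1, 5, 1, 1, 6, 0, 0, 4, 0, 2, 4, 2, 2, 4, 4, 4, 7, 5, 5, 5, 3, 3]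
def rw4127 : List ℕ := [5, 0, 3, 3, 0, 0, 2, 4, 3, 1, 1, 1, 4, 0, 0, 0, 2, 5, 3, 1, 1, 2, 2, 1, 4, 5]
def rw4128 : List ℕ := [0, 4, 1, 2, 1, 1, 1, 2, 0, 0, 0, 3, 0, 5, 1, 2, 1, 3, 4, 2, 3, 3, 5, 2, 0, 3]
def rw4129 : List ℕ := [0, 0, 5, 1, 1, 1, 4, 0, 0, 0, 4, 1, 1, 3, 0, 3, 0, 5, 2, 5, 3, 4, 1, 2, 1, 2]
def rw4130 : List ℕ := [1, 3, 3, 0, 5, 2, 3, 3, 4, 1, 2, 2, 0, 3, 0, 5, 1, 1, 1, 2, 0, 0, 0, 4, 1, 2]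
def rw4131 : List ℕ := [4, 0, 3, 1, 1, 4, 0, 0, 2, 1, 5, 0, 3, 3, 0, 0, 2, 4, 5, 5, 3, 1, 1, 2, 2, 1]
def rw4132 : List ℕ := [4, 0, 0, 4, 0, 4, 4, 3, 5, 5, 1, 5, 1, 1, 5, 5, 1, 5, 1, 1, 2, 0, 0, 4, 0, 4]
def rw4133 : List ℕ := [3, 4, 0, 0, 4, 3, 3, 4, 1, 5, 2, 2, 5, 1, 1, 5, 2, 2, 5, 1, 1, 0, 0, 0, 4, 3]
def rw4134 : List ℕ := [1, 5, 5, 1, 1, 5, 5, 1, 1, 2, 0, 0, 4, 4, 0, 0, 4, 4, 0, 0, 4, 4, 3, 5, 5, 1]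
def rw4135 : List ℕ := [2, 1, 3, 4, 1, 2, 2, 2, 3, 3, 3, 3, 0, 5, 2, 0, 3, 0, 4, 1, 1, 2, 0, 0, 5, 1]
def rw4136 : List ℕ := [0, 5, 2, 0, 3, 0, 4, 1, 1, 2, 0, 0, 5, 1, 2, 1, 3, 4, 1, 2, 2, 2, 3, 3, 3, 3]
def rw4137 : List ℕ := [0, 4, 0, 2, 0, 4, 1, 5, 1, 3, 1, 5, 1, 3, 1, 5, 1, 3, 1, 0, 0, 2, 0, 4, 0, 2]
def rw4138 : List ℕ := [5, 0, 3, 1, 2, 1, 4, 3, 1, 2, 1, 5, 0, 3, 3, 1, 0, 0, 2, 2, 1, 4, 0, 3, 0, 2]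
def rw4139 : List ℕ := [4, 1, 4, 0, 5, 2, 2, 4, 4, 0, 5, 2, 2, 4, 4, 5, 5, 5, 3, 3, 4, 1, 5, 5, 3, 3]
def rw4140 : List ℕ := [7, 0, 2, 6, 3, 0, 5, 3, 4, 1, 2, 7, 3, 1, 6, 0, 2, 5, 3, 1, 2, 0, 2, 4, 3, 1]
def rw4141 : List ℕ := [2, 1, 5, 3, 1, 4, 1, 1, 0, 0, 0, 5, 0, 2, 4, 0, 3, 7, 0, 2, 6, 2, 2, 1, 3, 3, 7, 3, 1, 6]
def rw4142 : List ℕ := [3, 3, 1, 2, 7, 3, 5, 1, 3, 1, 4, 0, 2, 0, 4, 2, 6, 3, 0, 2, 2, 7, 4, 1, 4, 5, 5, 0, 5, 6]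
def rw4143 : List ℕ := [6, 3, 1, 2, 7, 1, 5, 1, 5, 1, 2, 7, 1, 5, 1, 5, 1, 0, 0, 4, 0, 4, 0, 6, 3, 0, 4, 0, 4, 0]
def rw4144 : List ℕ := [1, 2, 7, 4, 1, 4, 5, 5, 0, 5, 6, 3, 0, 3, 1, 7, 3, 5, 1, 3, 1, 4, 0, 2, 0, 4, 2, 6, 0, 2]
def rw4145 : List ℕ := [2, 5, 3, 6, 3, 6, 3, 1, 3, 0, 7, 2, 7, 1, 1, 1, 4, 0, 0, 0, 6, 3, 6, 1, 2, 0, 2, 7, 2, 7]
def rw4146 : List ℕ := [7, 4, 1, 1, 2, 0, 0, 5, 6, 3, 3, 1, 2, 7, 0, 2, 4, 0, 2, 3, 3, 1, 5, 3, 1, 6, 3, 0, 2, 2]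
def rw4147 : List ℕ := [6, 0, 6, 3, 6, 0, 6, 0, 3, 3, 1, 3, 3, 2, 0, 2, 2, 1, 7, 1, 7, 2, 7, 1, 7, 1, 1, 2, 0, 0]
def rw4148 : List ℕ := [3, 3, 3, 3, 3, 1, 3, 7, 2, 0, 2, 2, 2, 2, 2, 0, 2, 1, 1, 1, 6, 0, 0, 0, 3, 1]
def rw4149 : List ℕ := [4, 2, 4, 2, 2, 7, 3, 3, 5, 3, 5, 0, 5, 3, 5, 3, 3, 1, 6, 0, 2, 2, 4, 2, 4, 1]
def rw4150 : List ℕ := [2, 4, 1, 3, 3, 5, 3, 5, 3, 3, 1, 6, 0, 2, 2, 4, 2, 4, 2, 2, 0, 5, 3, 5, 7, 4]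
def rw4151 : List ℕ := [7, 1, 1, 3, 1, 1, 2, 0, 0, 2, 0, 0, 6, 0, 6, 3, 6, 0, 6, 3, 7, 1, 7, 2, 7, 1]
def rw4152 : List ℕ := [2, 7, 2, 1, 3, 1, 6, 0, 2, 0, 3, 6, 3, 6, 0, 6, 3, 6, 3, 7, 2, 7, 2, 7, 1, 7]
def rw4153 : List ℕ := [2, 7, 1, 7, 1, 3, 3, 1, 4, 0, 2, 2, 0, 6, 0, 6, 3, 6, 0, 6, 2, 5, 3, 7, 1, 7]
def rw4154 : List ℕ := [6, 5, 6, 3, 7, 2, 7, 4, 7, 2, 7, 0, 2, 0, 7, 4, 1, 3, 1, 6, 0, 2, 0, 5, 6, 1, 3, 1, 6, 3]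
def rw4155 : List ℕ := [7, 2, 5, 3, 6, 3, 6, 2, 6, 3, 3, 5, 6, 3, 3, 5, 1, 4, 0, 4, 2, 2, 7, 4, 2, 2, 7, 3, 7, 2]
def rw4156 : List ℕ := [7, 3, 1, 6, 0, 2, 5, 2, 7, 3, 4, 3, 1, 7, 0, 2, 6, 3, 0, 5, 3, 3, 1, 6, 0, 2, 2, 4, 1, 2]
def rw4157 : List ℕ := [6, 4, 2, 0, 5, 7, 2, 7, 2, 5, 3, 6, 3, 6, 4, 1, 3, 5, 7, 2, 7, 5, 3, 1, 4, 0, 2, 4, 6, 3]
def rw4158 : List ℕ := [6, 4, 6, 3, 6, 3, 7, 2, 7, 5, 7, 4, 1, 2, 7, 3, 3, 5, 3, 1, 2, 0, 2, 4, 2, 2, 6, 3, 0, 5]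
def rw4159 : List ℕ := [3, 6, 4, 2, 0, 5, 7, 2, 7, 1, 3, 1, 2, 0, 2, 0, 6, 3, 6, 4, 1, 3, 5, 7, 2, 7, 5, 3, 4, 6]
def rw4160 : List ℕ := [7, 3, 1, 6, 3, 4, 1, 4, 3, 1, 0, 0, 2, 5, 0, 5, 2, 7, 0, 2, 6, 0, 5, 3, 5, 1, 4, 2, 4, 1]
def rw4161 : List ℕ := [7, 1, 5, 1, 3, 6, 3, 6, 2, 3, 3, 7, 2, 7, 2, 0, 4, 0, 6, 3, 6, 5, 3, 1, 2, 0, 2, 4, 7, 2]
def rw4162 : List ℕ := [3, 1, 2, 0, 2, 6, 5, 5, 5, 5, 0, 3, 4, 1, 5, 3, 7, 3, 6, 2, 4, 0, 5, 2, 1, 4, 4, 4, 4, 7]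
def rw4163 : List ℕ := [6, 1, 3, 1, 0, 0, 2, 0, 7, 2, 7, 2, 0, 4, 7, 2, 7, 1, 5, 1, 4, 0, 6, 3, 6, 5, 1, 3, 6, 3]
def rw4164 : List ℕ := [4, 3, 1, 7, 4, 7, 2, 7, 1, 2, 5, 3, 0, 6, 3, 6, 5, 6, 0, 2, 5, 6, 3, 3, 1, 4, 0, 2, 2, 7]
def rw4165 : List ℕ := [7, 1, 6, 3, 6, 3, 4, 2, 6, 3, 0, 2, 6, 3, 3, 1, 0, 0, 2, 2, 7, 3, 1, 2, 7, 3, 5, 2, 7, 2]
def rw4166 : List ℕ := [3, 6, 2, 2, 5, 6, 3, 6, 3, 4, 1, 5, 2, 7, 2, 7, 4, 3, 3, 7, 2, 7, 1, 2, 1, 0, 0, 3, 0, 6]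
def rw4167 : List ℕ := [2, 7, 1, 1, 1, 0, 0, 0, 0, 6, 3, 6, 1, 2, 5, 6, 3, 6, 3, 4, 1, 5, 2, 7, 2, 7, 4, 3, 0, 7]
def rw4168 : List ℕ := [7, 1, 1, 1, 4, 0, 0, 0, 6, 3, 6, 1, 2, 5, 6, 3, 6, 3, 4, 5, 5, 2, 7, 2, 7, 4, 3, 0, 7, 2]
def rw4169 : List ℕ := [7, 1, 7, 1, 1, 0, 0, 0, 6, 0, 6, 3, 6, 0, 6, 0, 3, 3, 1, 3, 1, 2, 0, 2, 2, 1, 7, 1, 7, 2]
def rw4170 : List ℕ := [7, 0, 2, 3, 3, 1, 6, 3, 6, 0, 6, 3, 6, 3, 1, 1, 2, 0, 0, 2, 7, 2, 7, 1, 7, 2]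
def rw4171 : List ℕ := [7, 1, 7, 2, 7, 2, 0, 3, 1, 0, 0, 2, 1, 3, 6, 3, 6, 0, 6, 3, 6, 2, 1, 3, 7, 2]
def rw4172 : List ℕ := [3, 1, 4, 1, 4, 2, 6, 3, 3, 1, 6, 0, 2, 2, 7, 3, 5, 0, 5, 0, 2, 4, 2, 6, 3, 7, 2, 7, 3, 5]
def rw4173 : List ℕ := [3, 1, 7, 3, 1, 2, 6, 0, 2, 1, 2, 7, 4, 2, 0, 5, 1, 3, 1, 0, 0, 2, 0, 4, 1, 3, 5, 6, 3, 0]
def rw4174 : List ℕ := [1, 2, 7, 4, 2, 0, 5, 1, 3, 1, 2, 0, 2, 0, 4, 1, 3, 5, 6, 3, 0, 3, 1, 7, 3, 3, 2, 6, 0, 2]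
def rw4175 : List ℕ := [3, 6, 3, 7, 2, 7, 4, 1, 4, 3, 6, 3, 6, 0, 3, 3, 1, 2, 0, 2, 2, 1, 7, 2, 7, 2, 5, 0, 5, 6]
def rw4176 : List ℕ := [6, 0, 2, 1, 2, 7, 4, 2, 0, 5, 5, 4, 1, 3, 5, 6, 3, 0, 3, 1, 7, 1, 3, 1, 1, 4, 0, 0, 2, 0]
def rw4177 : List ℕ := [0, 3, 3, 1, 6, 0, 2, 2, 1, 2, 0, 2, 2, 1, 2, 7, 3, 0, 3, 3, 1, 3]
def rw4178 : List ℕ := [2, 0, 2, 2, 1, 2, 2, 7, 3, 3, 0, 3, 3, 1, 3, 0, 3, 0, 3, 1, 6, 0, 2, 1, 2, 1]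
def rw4179 : List ℕ := [1, 3, 1, 5, 1, 3, 1, 6, 0, 2, 0, 4, 0, 2, 0, 4, 0, 2, 0, 4, 7, 5, 1, 3, 1, 5]
def rw4180 : List ℕ := [2, 5, 1, 3, 1, 6, 0, 2, 0, 4, 3, 1, 3, 4, 1, 3, 1, 4, 7, 5, 0, 2, 0, 5, 2, 0]
def rw4181 : List ℕ := [4, 2, 4, 1, 4, 2, 4, 2, 0, 3, 1, 6, 0, 2, 1, 3, 5, 3, 5, 0, 5, 3, 5, 2, 7, 3]
def rw4182 : List ℕ := [5, 0, 5, 3, 5, 0, 5, 2, 7, 3, 4, 1, 4, 2, 4, 1, 4, 1, 3, 3, 1, 6, 0, 2, 2, 0]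
def rw4183 : List ℕ := [2, 4, 4, 2, 2, 4, 4, 7, 5, 5, 3, 3, 5, 5, 3, 3, 5, 5, 3, 3, 6, 2, 2, 4, 4, 2]
def rw4184 : List ℕ := [2, 7, 1, 7, 1, 3, 5, 2, 0, 6, 0, 6, 3, 6, 0, 6, 1, 3, 1, 4, 0, 2, 0, 7, 1, 7]
def rw4185 : List ℕ := [3, 1, 4, 0, 2, 6, 3, 4, 2, 4, 2, 0, 5, 2, 7, 5, 6, 3, 4, 1, 3, 5, 3, 5, 2, 7]
def rw4186 : List ℕ := [2, 7, 2, 5, 2, 7, 2, 7, 4, 5, 5, 6, 3, 6, 3, 4, 3, 6, 3, 6, 3, 1, 4, 0, 2, 7]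
def rw4187 : List ℕ := [6, 3, 3, 3, 2, 2, 7, 0, 2, 6, 4, 1, 1, 5, 5, 1, 1, 2, 0, 0, 4, 4, 0, 0, 5, 7, 3, 1]
def rw4188 : List ℕ := [7, 1, 3, 1, 4, 0, 2, 0, 6, 5, 2, 1, 3, 5, 0, 5, 7, 4, 5, 5, 6, 4, 1, 4, 2, 0, 3, 4]
def rw4189 : List ℕ := [1, 6, 3, 4, 3, 1, 6, 0, 2, 5, 2, 7, 0, 2, 6, 3, 0, 5, 3, 5, 2, 7, 3, 4, 2, 4, 1, 2, 7, 3]
def rw4190 : List ℕ := [0, 7, 0, 2, 4, 1, 3, 5, 6, 3, 1, 2, 7, 4, 2, 0, 5, 3, 1, 6, 1, 3, 1, 1, 1, 0, 0, 0, 0, 2]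
def rw4191 : List ℕ := [3, 1, 6, 0, 2, 5, 5, 4, 3, 1, 7, 0, 2, 6, 3, 0, 5, 1, 3, 1, 1, 4, 0, 0, 2, 0, 4, 1, 2, 7]
def rw4192 : List ℕ := [7, 2, 7, 2, 5, 0, 5, 6, 3, 6, 1, 7, 2, 7, 4, 1, 4, 3, 6, 3, 6, 0, 3, 3, 1, 0, 0, 2, 2, 1]
def rw4193 : List ℕ := [6, 3, 6, 3, 3, 1, 4, 0, 2, 2, 7, 2, 7, 4, 1, 4, 3, 1, 7, 2, 7, 5, 6, 3, 6, 0, 2, 5, 0, 5]
def rw4194 : List ℕ := [6, 3, 4, 1, 3, 5, 3, 5, 2, 7, 5, 6, 3, 4, 2, 4, 2, 0, 5, 2, 7, 3, 1, 3, 1, 4, 0, 2, 0, 2]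
def rw4195 : List ℕ := [2, 7, 2, 5, 2, 7, 2, 7, 4, 3, 3, 1, 4, 0, 2, 2, 5, 6, 3, 6, 3, 4, 3, 6, 3, 6, 2, 5, 3, 7]
def rw4196 : List ℕ := [1, 3, 3, 1, 0, 0, 2, 2, 0, 2, 2, 1, 3, 3]
def rw4197 : List ℕ := [0, 3, 0, 3, 1, 3, 3, 1, 2, 2, 0, 2, 1, 2, 1, 3, 1, 1, 0, 0, 0, 2]
def rw4198 : List ℕ := [3, 3, 3, 3, 1, 3, 1, 2, 0, 2, 2, 2, 2, 0, 2, 1, 1, 0, 0, 0, 3, 1]
def rw4199 : List ℕ := [0, 3, 1, 3, 3, 3, 3, 1, 3, 5, 2, 0, 2, 2, 2, 2, 0, 2, 1, 1, 4, 0]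
def rw4200 : List ℕ := [0, 3, 1, 0, 0, 2, 1, 2, 2, 0, 2, 1, 2, 2, 1, 3, 3, 0, 3, 1, 3, 3]
def rw4201 : List ℕ := [3, 3, 3, 5, 2, 2, 2, 0, 2, 1, 1, 2, 1, 3, 1, 1, 4, 0, 0, 2, 0, 3, 0, 0, 3, 1]
def rw4202 : List ℕ := [0, 3, 3, 3, 0, 3, 1, 3, 3, 1, 2, 2, 0, 2, 1, 2, 2, 2, 1, 3, 1, 1, 1, 1, 0, 0, 0, 0, 0, 2]
def rw4203 : List ℕ := [2, 0, 3, 3, 3, 0, 3, 1, 3, 3, 1, 2, 2, 0, 2, 1, 2, 2, 2, 1, 3, 1, 1, 1, 1, 0, 0, 0, 0, 0]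
def rw4204 : List ℕ := [5, 5, 3, 5, 3, 4, 2, 4, 2, 4, 4, 2, 4, 2, 4, 4, 5, 5, 5, 3, 5, 3]
def rw4205 : List ℕ := [5, 1, 1, 6, 0, 0, 4, 0, 2, 4, 2, 2, 4, 4, 4, 7, 5, 5, 5, 3, 3, 5, 3, 1]
def rw4206 : List ℕ := [2, 1, 4, 3, 1, 1, 1, 0, 0, 0, 0, 2, 5, 0, 3, 0, 3, 1, 1, 4, 1, 5, 0, 0, 2, 1]
def rw4207 : List ℕ := [1, 3, 0, 4, 2, 1, 3, 5, 1, 2, 0, 0, 4, 1, 2, 1, 1, 1, 0, 0, 0, 0, 3, 0, 5, 1]
def rw4208 : List ℕ := [1, 1, 1, 3, 4, 1, 2, 1, 1, 1, 4, 0, 0, 0, 3, 0, 5, 2, 0, 0, 0, 4, 2, 5, 3, 5]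
def rw4209 : List ℕ := [1, 3, 3, 3, 0, 5, 1, 1, 1, 2, 0, 0, 0, 4, 1, 2, 2, 2, 0, 0, 5, 2, 3, 3, 4, 1]
def rw4210 : List ℕ := [4, 1, 5, 3, 1, 1, 2, 2, 1, 4, 0, 3, 1, 1, 0, 0, 0, 2, 1, 5, 0, 3, 3, 0, 0, 2]
def rw4211 : List ℕ := [2, 1, 5, 0, 3, 3, 0, 0, 2, 4, 5, 5, 3, 1, 1, 2, 2, 1, 4, 0, 3, 1, 1, 4, 0, 0]
def rw4212 : List ℕ := [3, 1, 1, 4, 1, 5, 0, 0, 2, 2, 2, 1, 4, 0, 3, 1, 1, 0, 0, 0, 2, 1, 5, 0, 3, 3]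
def rw4213 : List ℕ := [1, 1, 3, 0, 3, 0, 5, 1, 1, 2, 0, 0, 4, 1, 2, 1, 2, 0, 0, 5, 1, 2, 3, 3, 0, 4]
def rw4214 : List ℕ := [5, 1, 1, 2, 0, 0, 4, 3, 3, 4, 0, 0, 4, 3, 3, 4, 3, 5, 2, 2, 5, 1, 1, 5, 2, 2]
def rw4215 : List ℕ := [5, 3, 5, 0, 5, 3, 5, 3, 1, 3, 1, 4, 0, 2, 0, 2, 4, 2, 4, 1, 4, 2, 4, 2, 5, 3]
def rw4216 : List ℕ := [5, 3, 5, 3, 1, 2, 4, 2, 4, 1, 4, 2, 4, 2, 1, 3, 1, 0, 0, 2, 0, 3, 5, 3, 5, 0]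
def rw4217 : List ℕ := [0, 2, 0, 5, 1, 3, 1, 0, 0, 2, 0, 4, 1, 3, 1, 4, 1, 3, 1, 4, 1, 5, 0, 2, 0, 5]
def rw4218 : List ℕ := [1, 3, 4, 5, 5, 2, 0, 2, 5, 0, 2, 0, 5, 1, 3, 1, 4, 0, 2, 0, 4, 1, 3, 1, 4, 3]
def rw4219 : List ℕ := [5, 3, 1, 3, 5, 1, 3, 1, 2, 0, 2, 0, 4, 2, 0, 2, 4, 1, 3, 1, 4, 3, 5, 0, 2, 0]
def rw4220 : List ℕ := [0, 5, 3, 1, 3, 5, 1, 3, 1, 4, 0, 2, 0, 4, 2, 0, 2, 4, 1, 3, 1, 4, 5, 5, 0, 2]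
def rw4221 : List ℕ := [0, 4, 3, 1, 3, 4, 1, 3, 1, 4, 1, 5, 0, 2, 0, 5, 2, 0, 2, 5, 1, 3, 1, 0, 0, 2]
def rw4222 : List ℕ := [3, 4, 4, 0, 3, 1, 2, 0, 2, 1, 5, 5, 2, 5, 5, 1, 2, 0, 4, 3, 5, 1, 3, 0, 4, 4]
def rw4223 : List ℕ := [2, 4, 1, 4, 3, 1, 3, 3, 1, 4, 0, 2, 2, 0, 2, 5, 0, 5, 3, 5, 0, 5, 5, 4, 1, 4]
def rw4224 : List ℕ := [5, 5, 4, 2, 4, 1, 3, 3, 5, 3, 5, 3, 3, 1, 4, 0, 2, 2, 4, 2, 4, 2, 2, 0, 5, 3]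
def rw4225 : List ℕ := [3, 1, 6, 0, 2, 2, 4, 2, 4, 2, 2, 0, 5, 3, 5, 7, 4, 2, 4, 1, 3, 3, 5, 3, 5, 3]
def rw4226 : List ℕ := [4, 4, 2, 4, 2, 4, 0, 5, 3, 5, 1, 4, 2, 4, 1, 5, 3, 5, 3, 5, 5, 3, 1, 0, 0, 2]
def rw4227 : List ℕ := [5, 3, 5, 1, 4, 0, 4, 2, 4, 2, 4, 4, 2, 0, 5, 3, 5, 5, 4, 2, 4, 1, 3, 5, 5, 3]
def rw4228 : List ℕ := [3, 0, 2, 2, 4, 4, 2, 2, 4, 4, 2, 2, 4, 4, 1, 5, 5, 3, 3, 5, 5, 3, 3, 5, 5, 3]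
def rw4229 : List ℕ := [0, 2, 6, 3, 3, 5, 3, 1, 4, 0, 2, 4, 2, 2, 7, 3, 1, 6, 3, 3, 5, 5, 4, 2, 2, 7]
def rw4230 : List ℕ := [7, 3, 1, 2, 0, 2, 6, 3, 4, 2, 4, 2, 0, 5, 2, 7, 3, 6, 3, 4, 1, 3, 5, 3, 5, 2]
def rw4231 : List ℕ := [4, 2, 6, 5, 2, 5, 2, 0, 5, 3, 3, 1, 6, 0, 2, 2, 4, 1, 3, 4, 3, 4, 7, 3, 5, 6, 7, 7]
def rw4232 : List ℕ := [6, 4, 1, 4, 1, 2, 0, 4, 7, 3, 1, 2, 0, 2, 6, 5, 1, 3, 0, 5, 0, 5, 7, 4, 2, 3, 3, 5]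
def rw4233 : List ℕ := [3, 4, 3, 1, 2, 0, 2, 5, 2, 7, 0, 2, 6, 3, 0, 5, 3, 5, 2, 3, 3, 4, 2, 4, 1, 2, 7, 3, 1, 6]
def rw4234 : List ℕ := [6, 2, 1, 5, 3, 1, 4, 1, 1, 0, 0, 0, 5, 0, 2, 4, 0, 3, 7, 0, 2, 6, 2, 2, 1, 3, 3, 7, 3, 1]
def rw4235 : List ℕ := [6, 2, 1, 5, 3, 1, 4, 1, 1, 2, 0, 0, 5, 0, 2, 4, 0, 3, 7, 0, 2, 6, 2, 2, 3, 3, 3, 7, 3, 1]
def rw4236 : List ℕ := [3, 1, 1, 4, 0, 0, 2, 0, 4, 2, 2, 7, 0, 2, 6, 3, 3, 5, 5, 4, 2, 2, 7, 3, 1, 6, 3, 3, 5, 1]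
def rw4237 : List ℕ := [3, 1, 4, 2, 0, 5, 0, 2, 6, 1, 7, 3, 1, 4, 1, 3, 5, 0, 2, 6, 3, 3, 3, 1, 0, 0, 2, 2, 2, 7]
def rw4238 : List ℕ := [5, 0, 2, 6, 3, 3, 3, 1, 6, 0, 2, 2, 2, 7, 3, 1, 4, 2, 0, 5, 0, 2, 6, 7, 7, 3, 1, 4, 1, 3]
def rw4239 : List ℕ := [1, 2, 7, 3, 1, 6, 0, 2, 5, 2, 3, 3, 4, 3, 1, 7, 0, 2, 6, 3, 0, 5, 3, 3, 1, 2, 0, 2, 2, 4]
def rw4240 : List ℕ := [0, 2, 2, 2, 7, 0, 2, 4, 0, 2, 5, 3, 1, 5, 3, 1, 6, 3, 3, 3, 1, 7, 4, 1, 1, 4, 0, 0, 5, 6]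
def rw4241 : List ℕ := [7, 2, 7, 5, 3, 1, 2, 0, 2, 4, 6, 3, 6, 4, 2, 0, 5, 7, 2, 7, 2, 3, 3, 6, 3, 6, 4, 1, 3, 5]
def rw4242 : List ℕ := [6, 0, 2, 2, 2, 7, 3, 1, 2, 6, 3, 3, 3, 1, 7, 4, 2, 0, 5, 1, 3, 1, 0, 0, 2, 0, 4, 1, 3, 5]
def rw4243 : List ℕ := [7, 3, 3, 2, 6, 3, 3, 3, 1, 7, 4, 2, 0, 5, 1, 3, 1, 2, 0, 2, 0, 4, 1, 3, 5, 6, 0, 2, 2, 2]
def rw4244 : List ℕ := [3, 0, 3, 1, 4, 0, 2, 1, 2, 7, 4, 1, 4, 2, 0, 2, 4, 2, 6, 5, 7, 3, 5, 3, 1, 3, 5, 0, 5, 6]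
def rw4245 : List ℕ := [4, 4, 1, 4, 2, 2, 4, 1, 6, 0, 5, 3, 3, 5, 0, 5, 5, 7, 4, 1, 3, 5, 6, 7, 7, 4, 2, 0, 5, 6]
def rw4246 : List ℕ := [0, 2, 2, 2, 7, 3, 1, 3, 1, 0, 0, 2, 0, 2, 6, 3, 3, 3, 1, 7, 4, 2, 0, 5, 1, 4, 1, 3, 5, 6]
def rw4247 : List ℕ := [7, 3, 1, 3, 1, 4, 0, 2, 0, 2, 6, 3, 3, 3, 1, 7, 4, 2, 0, 5, 5, 4, 1, 3, 5, 6, 0, 2, 2, 2]
def rw4248 : List ℕ := [1, 6, 4, 2, 4, 1, 3, 0, 5, 3, 1, 2, 0, 2, 4, 1, 2, 0, 5, 3, 5, 7, 0, 2, 6, 3, 3, 2, 7, 3]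
def rw4249 : List ℕ := [4, 2, 4, 2, 6, 3, 3, 1, 2, 0, 2, 2, 7, 3, 5, 3, 5, 3, 1, 4, 1, 6, 3, 3, 2, 7, 0, 5, 0, 2]
def rw4250 : List ℕ := [3, 1, 6, 1, 3, 7, 3, 1, 3, 1, 0, 0, 2, 0, 2, 6, 2, 0, 7, 0, 2, 6, 1, 3, 7, 1, 6, 2, 0, 7]
def rw4251 : List ℕ := [4, 7, 5, 6, 5, 1, 3, 4, 3, 1, 5, 1, 7, 1, 3, 1, 6, 0, 2, 0, 6, 0, 4, 0, 2, 5, 2, 0, 4, 7]
def rw4252 : List ℕ := [1, 3, 0, 5, 6, 3, 0, 3, 1, 4, 0, 2, 1, 2, 7, 4, 1, 2, 0, 2, 5, 3, 1, 6, 5, 7, 0, 2, 4, 3]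
def rw4253 : List ℕ := [4, 2, 7, 3, 1, 2, 0, 2, 6, 3, 5, 3, 5, 3, 5, 5, 0, 5, 2, 7, 3, 6, 3, 4, 1, 4, 4, 2, 4, 2]
def rw4254 : List ℕ := [2, 7, 1, 3, 1, 0, 0, 2, 0, 6, 3, 6, 5, 6, 3, 3, 1, 3, 5, 6, 1, 7, 4, 2, 0, 2, 2, 7, 4, 7]
def rw4255 : List ℕ := [1, 3, 7, 0, 2, 6, 1, 3, 1, 0, 0, 2, 0, 7, 3, 1, 6, 2, 0, 7, 0, 2, 6, 2, 1, 3, 7, 3, 1, 6]
def rw4256 : List ℕ := [7, 4, 3, 1, 3, 3, 5, 3, 1, 6, 1, 7, 0, 2, 4, 2, 2, 0, 2, 5, 6, 3, 0, 3, 1, 0, 0, 2, 1, 2]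
def rw4257 : List ℕ := [7, 1, 1, 1, 6, 0, 0, 0, 6, 3, 6, 2, 0, 7, 2, 7, 2, 7, 3, 6, 3, 6, 1, 3, 7, 2]
def rw4258 : List ℕ := [3, 6, 3, 1, 3, 1, 0, 0, 2, 0, 2, 7, 2, 7, 1, 7, 2, 7, 2, 1, 3, 6, 3, 6, 0, 6]
def rw4259 : List ℕ := [6, 3, 6, 0, 6, 3, 6, 3, 3, 1, 0, 0, 2, 2, 7, 2, 7, 1, 7, 2, 7, 2, 2, 1, 3, 3]
def rw4260 : List ℕ := [7, 2, 7, 1, 2, 1, 4, 0, 3, 0, 6, 3, 6, 1, 3, 7, 2, 7, 2, 5, 3, 6, 3, 6, 2, 0]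
def rw4261 : List ℕ := [6, 1, 3, 7, 2, 7, 5, 6, 3, 6, 2, 0, 7, 2, 7, 1, 2, 2, 1, 3, 1, 4, 0, 2, 0, 3, 3, 0, 6, 3]
def rw4262 : List ℕ := [4, 7, 2, 7, 3, 4, 3, 4, 7, 2, 7, 3, 4, 3, 0, 2, 5, 2, 6, 3, 6, 5, 2, 5, 2, 6, 3, 6, 5, 1]
def rw4263 : List ℕ := [6, 1, 3, 7, 0, 2, 6, 1, 3, 1, 0, 0, 2, 0, 7, 3, 1, 6, 2, 0, 7, 0, 2, 6, 2, 1, 3, 7, 3, 1]
def rw4264 : List ℕ := [2, 7, 3, 1, 6, 3, 3, 5, 5, 4, 2, 2, 7, 0, 2, 6, 3, 3, 5, 3, 1, 4, 0, 2, 4, 2]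
def rw4265 : List ℕ := [3, 0, 5, 5, 4, 1, 2, 7, 3, 1, 6, 0, 2, 5, 3, 1, 4, 0, 2, 4, 3, 1, 7, 0, 2, 6]
def rw4266 : List ℕ := [7, 2, 7, 1, 7, 2, 7, 3, 1, 0, 0, 2, 6, 3, 6, 0, 6, 3, 6, 3, 1, 2, 1, 3, 0, 2]
def rw4267 : List ℕ := [6, 3, 3, 7, 0, 5, 6, 3, 3, 7, 1, 6, 2, 2, 7, 4, 1, 6, 2, 2, 7, 4, 1, 0, 0, 5]
def rw4268 : List ℕ := [2, 7, 1, 4, 1, 3, 5, 7, 2, 7, 5, 5, 4, 6, 3, 6, 4, 2, 0, 5, 0, 6, 3, 6, 3, 1, 4, 0, 2, 7]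
def rw4269 : List ℕ := [3, 6, 0, 6, 3, 6, 4, 2, 4, 1, 4, 0, 5, 3, 5, 7, 2, 7, 1, 7, 2, 7, 5, 3, 5, 5, 4, 2, 4, 6]
def rw4270 : List ℕ := [0, 2, 6, 3, 0, 5, 0, 2, 4, 5, 5, 3, 1, 4, 1, 2, 7, 3, 1, 6, 3, 1, 3, 1, 4, 0, 2, 0, 2, 7]
def rw4271 : List ℕ := [0, 2, 2, 7, 4, 1, 1, 0, 0, 0, 5, 6, 3, 3, 1, 2, 7, 0, 2, 4, 0, 2, 1, 3, 1, 5, 3, 1, 6, 3]
def rw4272 : List ℕ := [6, 3, 3, 2, 7, 0, 2, 4, 1, 3, 5, 6, 3, 3, 1, 2, 0, 2, 2, 7, 4, 2, 0, 5, 3, 1]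
def rw4273 : List ℕ := [2, 6, 3, 1, 2, 7, 3, 1, 6, 4, 2, 4, 1, 3, 0, 5, 3, 1, 0, 0, 2, 4, 1, 2, 0, 5, 3, 5, 7, 0]
def rw4274 : List ℕ := [2, 6, 4, 1, 5, 7, 3, 1, 6, 4, 4, 0, 3, 4, 4, 1, 1, 1, 0, 0, 0, 0, 5, 5, 2, 1, 5, 5, 7, 0]
def rw4275 : List ℕ := [5, 3, 5, 7, 0, 2, 6, 1, 7, 3, 1, 6, 4, 2, 4, 1, 3, 0, 5, 0, 3, 1, 0, 0, 2, 1, 4, 1, 2, 0]
def rw4276 : List ℕ := [0, 2, 6, 2, 5, 3, 7, 3, 1, 6, 1, 3, 7, 0, 2, 6, 1, 3, 1, 4, 0, 2, 0, 7, 3, 1, 6, 2, 0, 7]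
def rw4277 : List ℕ := [7, 5, 5, 5, 3, 3, 5, 3, 1, 5, 1, 1, 6, 0, 0, 4, 0, 2, 4, 2, 2, 4, 4, 4]
def rw4278 : List ℕ := [5, 5, 5, 1, 1, 6, 0, 0, 4, 4, 4, 2, 2, 4, 2, 0, 4, 7, 5, 1, 3, 5, 3, 3]
def rw4279 : List ℕ := [2, 1, 6, 0, 3, 3, 5, 3, 3, 0, 3, 4, 4, 3, 7, 2, 5, 5, 2, 1, 2, 2, 4, 2]
def rw4280 : List ℕ := [2, 2, 2, 1, 4, 7, 5, 0, 3, 3, 3, 1, 1, 4, 3, 1, 1, 1, 6, 0, 0, 0, 2, 5, 0, 0]
def rw4281 : List ℕ := [3, 1, 2, 1, 4, 7, 5, 0, 3, 0, 2, 2, 1, 4, 3, 1, 1, 1, 6, 0, 0, 0, 2, 5, 0, 3]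
def rw4282 : List ℕ := [7, 2, 7, 1, 5, 6, 5, 7, 4, 0, 6, 3, 6, 3, 1, 7, 4, 3, 1, 4, 0, 2, 5, 6, 0, 2]
def rw4283 : List ℕ := [1, 2, 7, 4, 3, 1, 4, 0, 2, 5, 6, 3, 0, 7, 2, 7, 1, 2, 0, 5, 6, 5, 7, 4, 1, 3, 0, 6, 3, 6]
def rw4284 : List ℕ := [2, 7, 4, 3, 5, 6, 3, 6, 3, 4, 3, 1, 7, 2, 7, 1, 3, 1, 2, 0, 2, 0, 6, 3, 6, 0, 2, 5, 2, 7]
def rw4285 : List ℕ := [2, 2, 7, 0, 2, 6, 3, 3, 5, 0, 3, 1, 2, 0, 2, 1, 4, 2, 2, 7, 3, 1, 6, 3, 3, 5, 2, 3, 3, 4]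
def rw4286 : List ℕ := [6, 4, 2, 4, 1, 3, 0, 5, 3, 1, 0, 0, 2, 4, 1, 2, 0, 5, 3, 5, 7, 0, 2, 6, 3, 1, 2, 7, 3, 1]
def rw4287 : List ℕ := [3, 3, 1, 2, 0, 2, 2, 7, 3, 5, 3, 5, 3, 1, 4, 1, 6, 3, 3, 2, 7, 0, 5, 0, 2, 4, 2, 4, 2, 6]
def rw4288 : List ℕ := [4, 1, 6, 3, 7, 2, 7, 0, 5, 0, 2, 4, 2, 4, 2, 6, 3, 3, 1, 6, 0, 2, 2, 7, 3, 5, 3, 5, 3, 1]
def rw4289 : List ℕ := [3, 1, 6, 2, 1, 5, 3, 1, 0, 0, 2, 4, 0, 3, 7, 0, 2, 6, 1, 3, 3, 0, 5, 1, 4, 1, 2, 2, 0, 7]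
def rw4290 : List ℕ := [6, 1, 4, 4, 6, 3, 6, 2, 1, 1, 4, 0, 0, 3, 7, 2, 7, 5, 5, 0, 7, 0, 3, 1, 7, 5, 6, 0, 2, 1]
def rw4291 : List ℕ := [4, 2, 6, 3, 7, 2, 7, 3, 5, 2, 0, 2, 5, 0, 5, 6, 3, 3, 1, 6, 0, 2, 2, 7, 4, 1, 4, 3, 1, 3]
def rw4292 : List ℕ := [2, 1, 2, 0, 2, 2, 1, 2, 1, 3, 1, 1, 4, 0, 0, 2, 0, 3, 0, 3, 3, 1, 3, 0, 3, 5]
def rw4293 : List ℕ := [0, 2, 2, 2, 1, 1, 3, 1, 2, 1, 1, 4, 0, 0, 3, 0, 2, 0, 0, 3, 3, 3, 1, 3, 5, 2]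
def rw4294 : List ℕ := [2, 4, 3, 5, 3, 5, 3, 3, 5, 3, 5, 3, 3, 2, 2, 2, 4, 2, 4, 2, 2, 4]
def rw4295 : List ℕ := [5, 3, 4, 4, 5, 5, 5, 2, 4, 2, 2, 4, 1, 5, 1, 1, 4, 0, 0, 4, 0, 5, 3, 3]
def rw4296 : List ℕ := [3, 3, 5, 3, 4, 4, 5, 5, 5, 2, 4, 2, 2, 4, 1, 5, 1, 1, 4, 0, 0, 4, 0, 5]
def rw4297 : List ℕ := [2, 0, 0, 5, 1, 1, 1, 2, 0, 0, 0, 4, 1, 1, 3, 0, 3, 0, 5, 2, 3, 3, 4, 1, 2, 1]
def rw4298 : List ℕ := [3, 3, 3, 0, 5, 1, 1, 1, 4, 0, 0, 0, 4, 1, 2, 2, 2, 0, 0, 5, 2, 5, 3, 4, 1, 1]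
def rw4299 : List ℕ := [4, 1, 4, 1, 1, 1, 0, 0, 0, 0, 5, 0, 5, 0, 4, 0, 5, 0, 5, 1, 4, 1, 4, 1, 5, 1]
def rw4300 : List ℕ := [1, 2, 0, 0, 2, 1, 2, 1, 4, 0, 0, 2, 1, 5, 3, 4, 0, 3, 1, 1, 5, 0, 3, 0, 3, 1]
def rw4301 : List ℕ := [1, 4, 2, 4, 0, 2, 5, 3, 1, 5, 3, 5, 0, 5, 3, 5, 3, 1, 1, 4, 0, 0, 2, 4, 2, 4]
def rw4302 : List ℕ := [1, 1, 5, 5, 1, 5, 1, 1, 0, 0, 0, 4, 0, 4, 4, 0, 0, 4, 0, 4, 4, 1, 5, 5, 1, 5]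
def rw4303 : List ℕ := [3, 4, 1, 2, 2, 2, 1, 3, 3, 3, 0, 5, 2, 0, 3, 0, 4, 1, 1, 0, 0, 0, 5, 1, 2, 1]
def rw4304 : List ℕ := [0, 5, 1, 2, 1, 3, 4, 1, 1, 2, 0, 0, 5, 2, 0, 3, 0, 4, 1, 2, 1, 2, 3, 3, 0, 3]
def rw4305 : List ℕ := [1, 4, 1, 5, 0, 2, 0, 5, 1, 3, 1, 5, 1, 3, 1, 0, 0, 2, 0, 4, 0, 2, 0, 4, 1, 3]
def rw4306 : List ℕ := [1, 3, 4, 1, 5, 2, 0, 2, 5, 1, 3, 1, 5, 1, 3, 1, 0, 0, 2, 0, 4, 0, 2, 0, 4, 3]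
def rw4307 : List ℕ := [0, 2, 4, 1, 3, 1, 4, 1, 3, 1, 2, 0, 2, 0, 5, 0, 2, 0, 5, 3, 1, 3, 5, 3, 4, 2]
def rw4308 : List ℕ := [1, 2, 7, 3, 0, 5, 0, 5, 3, 5, 0, 5, 0, 3, 1, 6, 0, 2, 1, 4, 1, 4, 2, 4, 1, 4]
def rw4309 : List ℕ := [1, 3, 0, 4, 4, 3, 4, 4, 0, 3, 1, 4, 0, 2, 1, 5, 5, 2, 5, 5, 1, 2, 0, 4, 5, 5]
def rw4310 : List ℕ := [2, 5, 3, 3, 5, 3, 5, 0, 5, 3, 5, 3, 3, 1, 4, 0, 2, 2, 4, 2, 4, 1, 4, 2, 4, 2]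
def rw4311 : List ℕ := [1, 3, 3, 5, 3, 5, 3, 3, 1, 2, 0, 2, 2, 4, 2, 4, 2, 2, 0, 5, 3, 5, 3, 4, 2, 4]
def rw4312 : List ℕ := [2, 2, 0, 5, 3, 5, 5, 4, 2, 4, 1, 3, 3, 5, 3, 5, 3, 3, 1, 4, 0, 2, 2, 4, 2, 4]
def rw4313 : List ℕ := [2, 1, 4, 1, 4, 1, 5, 3, 4, 0, 5, 0, 5, 0, 3, 5, 0, 5, 3, 1, 2, 0, 2, 4, 1, 4]
def rw4314 : List ℕ := [2, 5, 0, 5, 0, 5, 5, 1, 4, 4, 1, 4, 1, 4, 3, 5, 0, 5, 3, 1, 0, 0, 2, 4, 1, 4]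
def rw4315 : List ℕ := [1, 3, 5, 3, 5, 3, 5, 3, 1, 0, 0, 2, 4, 2, 4, 2, 4, 2, 0, 5, 3, 5, 1, 4, 2, 4]
def rw4316 : List ℕ := [4, 4, 2, 4, 2, 4, 0, 5, 3, 5, 3, 4, 2, 4, 1, 5, 3, 5, 3, 5, 5, 3, 1, 2, 0, 2]
def rw4317 : List ℕ := [1, 4, 3, 1, 4, 3, 1, 2, 0, 2, 5, 0, 2, 5, 0, 2, 5, 0, 2, 5, 3, 4, 3, 1, 4, 3]
def rw4318 : List ℕ := [1, 2, 0, 2, 5, 2, 5, 2, 5, 2, 0, 4, 3, 4, 3, 5, 2, 5, 1, 3, 4, 3, 4, 3, 4, 3]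
def rw4319 : List ℕ := [2, 0, 5, 2, 1, 3, 4, 1, 3, 4, 1, 3, 4, 1, 3, 4, 1, 0, 0, 5, 2, 0, 5, 2, 0, 5]
def rw4320 : List ℕ := [4, 1, 3, 4, 1, 4, 0, 5, 2, 0, 5, 2, 0, 5, 2, 0, 5, 2, 5, 3, 4, 1, 3, 4, 1, 3]
def rw4321 : List ℕ := [5, 5, 3, 5, 3, 5, 2, 5, 3, 5, 3, 2, 2, 4, 2, 4, 3, 4, 2, 4, 2, 4, 4, 4, 3, 5]
def rw4322 : List ℕ := [3, 4, 2, 5, 3, 4, 3, 5, 2, 5, 3, 4, 3, 5, 2, 5, 3, 2, 2, 4, 3, 4, 2, 5, 2, 4]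
def rw4323 : List ℕ := [4, 3, 4, 2, 5, 2, 4, 3, 4, 2, 5, 3, 4, 3, 5, 2, 5, 3, 4, 3, 5, 2, 5, 3, 2, 2]
def rw4324 : List ℕ := [2, 5, 3, 4, 3, 5, 2, 5, 2, 4, 7, 0, 5, 6, 1, 2, 1, 2, 0, 3, 0, 7, 4, 1, 6, 5, 3, 4, 3, 4]
def rw4325 : List ℕ := [0, 2, 6, 3, 0, 5, 1, 3, 1, 1, 4, 0, 0, 2, 0, 4, 1, 2, 7, 3, 1, 6, 0, 2, 5, 5, 4, 3, 1, 7]
def rw4326 : List ℕ := [3, 3, 3, 1, 4, 0, 2, 2, 2, 7, 0, 5, 0, 2, 4, 2, 4, 2, 6, 5, 7, 3, 5, 3, 5, 3, 1, 4, 1, 6]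
def rw4327 : List ℕ := [3, 1, 0, 0, 2, 1, 2, 7, 5, 3, 5, 3, 5, 1, 4, 1, 6, 1, 7, 0, 5, 0, 4, 2, 4, 2, 4, 6, 3, 0]
def rw4328 : List ℕ := [3, 3, 3, 1, 3, 0, 0, 0, 2, 0]
def rw4329 : List ℕ := [1, 1, 2, 1, 3, 1, 1, 0, 0, 0, 2, 0, 3, 0, 0, 3, 1, 3, 3, 3, 1, 2, 2, 2, 0, 2]
def rw4330 : List ℕ := [2, 0, 3, 3, 3, 0, 3, 1, 3, 3, 3, 2, 2, 0, 2, 1, 2, 2, 2, 1, 3, 1, 1, 1, 1, 2, 0, 0, 0, 0]
def rw4331 : List ℕ := [4, 2, 1, 3, 5, 1, 2, 0, 0, 4, 1, 2, 1, 1, 1, 0, 0, 0, 0, 3, 0, 5, 1, 1, 3, 0]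
def rw4332 : List ℕ := [3, 0, 5, 2, 7, 3, 4, 1, 2, 1, 2, 0, 0, 5, 1, 1, 1, 6, 0, 0, 0, 4, 1, 1, 3, 0]
def rw4333 : List ℕ := [0, 4, 2, 3, 3, 5, 1, 2, 1, 3, 4, 1, 2, 2, 1, 1, 2, 0, 0, 3, 3, 0, 5, 2, 0, 3]
def rw4334 : List ℕ := [3, 0, 5, 1, 2, 3, 3, 0, 4, 1, 2, 2, 2, 0, 0, 5, 1, 1, 2, 0, 0, 4, 1, 1, 3, 3]
def rw4335 : List ℕ := [4, 4, 0, 0, 4, 4, 0, 0, 4, 4, 5, 5, 5, 1, 1, 5, 5, 1, 1, 5, 5, 1, 1, 4, 0, 0]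
def rw4336 : List ℕ := [1, 3, 1, 5, 1, 3, 1, 5, 1, 3, 1, 0, 0, 2, 0, 4, 0, 2, 0, 4, 0, 2, 0, 4, 1, 5]
def rw4337 : List ℕ := [3, 1, 3, 5, 1, 3, 1, 5, 1, 3, 1, 0, 0, 2, 0, 4, 0, 2, 0, 4, 2, 0, 2, 4, 1, 5]
def rw4338 : List ℕ := [1, 4, 2, 4, 1, 4, 1, 3, 1, 2, 0, 5, 0, 5, 3, 5, 0, 5, 1, 3, 1, 0, 0, 2, 0, 4]
def rw4339 : List ℕ := [5, 0, 5, 1, 3, 1, 2, 0, 2, 0, 4, 1, 4, 2, 4, 1, 4, 1, 3, 3, 2, 0, 5, 0, 5, 3]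
def rw4340 : List ℕ := [0, 2, 0, 5, 2, 0, 2, 5, 1, 4, 3, 1, 3, 4, 1, 3, 1, 4, 1, 3, 1, 0, 0, 2, 0, 5]
def rw4341 : List ℕ := [5, 3, 5, 0, 5, 2, 1, 3, 4, 1, 4, 2, 4, 1, 4, 1, 3, 3, 1, 0, 0, 2, 2, 0, 5, 0]
def rw4342 : List ℕ := [0, 2, 5, 0, 3, 1, 2, 1, 4, 3, 1, 2, 1, 5, 0, 3, 3, 1, 0, 0, 2, 2, 1, 4, 0, 3]
def rw4343 : List ℕ := [2, 2, 1, 4, 0, 3, 0, 2, 5, 0, 3, 7, 2, 1, 4, 3, 1, 2, 1, 5, 0, 3, 3, 1, 6, 0]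
def rw4344 : List ℕ := [5, 5, 3, 1, 0, 0, 2, 4, 4, 2, 4, 2, 4, 0, 5, 3, 5, 1, 4, 2, 4, 1, 5, 3, 5, 3]
def rw4345 : List ℕ := [5, 0, 2, 5, 0, 2, 5, 0, 2, 5, 1, 4, 3, 1, 4, 3, 1, 4, 3, 1, 4, 3, 1, 0, 0, 2]
def rw4346 : List ℕ := [2, 5, 7, 4, 3, 1, 4, 3, 1, 4, 3, 1, 4, 3, 1, 6, 0, 2, 5, 0, 2, 5, 0, 2, 5, 0]
def rw4347 : List ℕ := [3, 5, 3, 5, 1, 0, 0, 4, 2, 4, 2, 4, 4, 2, 0, 5, 3, 5, 1, 4, 2, 4, 1, 3, 5, 5]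
def rw4348 : List ℕ := [2, 0, 5, 2, 7, 3, 4, 1, 3, 4, 1, 3, 4, 1, 3, 4, 1, 6, 0, 5, 2, 0, 5, 2, 0, 5]
def rw4349 : List ℕ := [0, 2, 4, 1, 3, 5, 6, 3, 0, 3, 1, 6, 0, 2, 1, 2, 7, 4, 2, 0, 5, 3, 1, 6, 7, 7]
def rw4350 : List ℕ := [7, 0, 2, 6, 3, 3, 5, 3, 1, 0, 0, 2, 4, 2, 2, 7, 3, 1, 6, 3, 3, 5, 1, 4, 2, 2]
def rw4351 : List ℕ := [7, 4, 1, 4, 2, 0, 2, 4, 2, 6, 3, 5, 2, 7, 3, 5, 3, 1, 3, 5, 0, 5, 6, 3, 3, 1, 4, 0, 2, 2]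
def rw4352 : List ℕ := [5, 6, 3, 3, 5, 1, 0, 0, 4, 2, 2, 7, 4, 2, 2, 7, 3, 7, 2, 7, 2, 1, 3, 6, 3, 6, 2, 6, 3, 3]
def rw4353 : List ℕ := [7, 0, 2, 4, 1, 3, 5, 6, 3, 3, 2, 7, 4, 2, 0, 5, 3, 1, 6, 1, 3, 1, 1, 1, 2, 0, 0, 0, 2, 0]
def rw4354 : List ℕ := [0, 4, 0, 2, 5, 2, 0, 4, 7, 4, 1, 3, 1, 0, 0, 2, 0, 5, 6, 5, 1, 3, 4, 3, 1, 5, 1, 7, 1, 6]
def rw4355 : List ℕ := [2, 4, 2, 6, 5, 7, 3, 5, 3, 1, 3, 5, 0, 5, 6, 3, 0, 3, 1, 4, 0, 2, 1, 2, 7, 4, 1, 4, 2, 0]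
def rw4356 : List ℕ := [2, 6, 3, 3, 2, 7, 3, 1, 6, 4, 2, 4, 1, 3, 0, 5, 3, 1, 2, 0, 2, 4, 1, 2, 0, 5, 3, 5, 7, 0]
def rw4357 : List ℕ := [2, 7, 2, 7, 4, 3, 1, 3, 6, 3, 6, 1, 7, 2, 7, 2, 0, 2, 5, 6, 3, 6, 3, 4, 3, 1, 0, 0, 2, 5]
def rw4358 : List ℕ := [7, 3, 1, 6, 5, 7, 0, 2, 6, 3, 4, 1, 4, 1, 3, 5, 0, 3, 1, 4, 0, 2, 1, 4, 2, 0, 5, 0, 5, 2]
def rw4359 : List ℕ := [2, 0, 2, 2, 1, 1, 6, 0, 0, 3, 3, 1, 3, 0, 3, 0, 2, 7, 3, 1, 2, 1]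
def rw4360 : List ℕ := [4, 2, 0, 5, 0, 2, 4, 2, 0, 5, 7, 4, 1, 3, 5, 3, 1, 4, 1, 3, 5, 3, 1, 6, 0, 2]
def rw4361 : List ℕ := [5, 2, 0, 5, 5, 2, 2, 2, 1, 2, 1, 6, 0, 3, 0, 3, 3, 3, 4, 4, 1, 3, 4, 3, 7, 2]
def rw4362 : List ℕ := [6, 3, 3, 5, 7, 4, 2, 2, 7, 0, 2, 6, 3, 3, 5, 3, 1, 6, 0, 2, 4, 2, 2, 7, 3, 1]
def rw4363 : List ℕ := [6, 6, 5, 5, 0, 5, 7, 4, 1, 4, 4, 7, 7, 2, 7, 1, 6, 5, 1, 1, 6, 0, 0, 4, 7, 0, 6, 3]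
def rw4364 : List ℕ := [2, 2, 1, 3, 1, 6, 3, 6, 2, 3, 3, 7, 2, 7, 0, 2, 0, 3, 3, 7, 2, 7, 1, 1, 2, 0, 0, 6, 3, 6]
def rw4365 : List ℕ := [6, 3, 6, 5, 1, 0, 0, 4, 7, 2, 7, 2, 5, 0, 6, 3, 6, 2, 5, 2, 1, 3, 4, 3, 7, 2, 7, 1, 4, 3]
def rw4366 : List ℕ := [4, 0, 5, 3, 5, 1, 0, 0, 4, 2, 4, 1, 5, 7, 3, 5, 6, 2, 2, 2, 4, 1, 5, 3, 3, 3, 7, 4, 2, 6]
def rw4367 : List ℕ := [6, 1, 2, 5, 3, 0, 7, 4, 3, 1, 7, 4, 7, 2, 7, 3, 3, 1, 4, 0, 2, 2, 6, 3, 6, 5, 6, 0, 2, 5]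
def rw4368 : List ℕ := [3, 3, 5, 5, 4, 2, 2, 7, 3, 1, 6, 3, 3, 5, 1, 3, 1, 1, 4, 0, 0, 2, 0, 4, 2, 2, 7, 0, 2, 6]
def rw4369 : List ℕ := [3, 4, 3, 6, 3, 6, 3, 7, 2, 7, 2, 5, 2, 7, 2, 7, 4, 1, 3, 1, 1, 2, 0, 0, 2, 0, 5, 6, 3, 6]
def rw4370 : List ℕ := [1, 3, 7, 2, 7, 3, 1, 0, 0, 2, 6, 3, 6, 2, 0, 7, 2, 7, 1, 2, 2, 2, 1, 3, 3, 3, 0, 6, 3, 6]
def rw4371 : List ℕ := [1, 7, 0, 2, 6, 3, 0, 5, 3, 7, 2, 4, 1, 2, 7, 3, 1, 6, 0, 2, 5, 1, 3, 1, 6, 0, 2, 0, 4, 3]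
def rw4372 : List ℕ := [2, 7, 3, 3, 2, 6, 3, 3, 3, 1, 7, 4, 2, 0, 5, 1, 3, 1, 2, 0, 2, 0, 4, 1, 3, 5, 6, 0, 2, 2]
def rw4373 : List ℕ := [0, 5, 6, 4, 4, 1, 4, 2, 2, 4, 1, 0, 0, 5, 3, 3, 5, 0, 5, 5, 7, 4, 1, 3, 5, 6, 1, 7, 4, 2]
def rw4374 : List ℕ := [3, 3, 4, 2, 2, 4, 2, 0, 5, 5, 7, 3, 1, 2, 0, 2, 6, 4, 4, 1, 3, 5, 3, 3, 5, 2, 2, 7, 3, 6]
def rw4375 : List ℕ := [6, 2, 4, 0, 5, 2, 1, 4, 4, 4, 4, 7, 3, 1, 0, 0, 2, 6, 5, 5, 5, 5, 0, 3, 4, 1, 5, 3, 7, 1]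
def rw4376 : List ℕ := [0, 2, 4, 6, 3, 6, 3, 5, 3, 6, 3, 6, 3, 5, 1, 4, 2, 7, 2, 7, 2, 4, 2, 7, 2, 7, 5, 3, 1, 0]
def rw4377 : List ℕ := [5, 2, 7, 5, 2, 5, 1, 0, 0, 4, 3, 4, 6, 3, 4, 4, 3, 4, 7, 4, 2, 2, 1, 3, 3, 5, 6, 5, 2, 5]
def rw4378 : List ℕ := [6, 2, 1, 5, 3, 1, 2, 0, 2, 4, 0, 3, 7, 0, 2, 6, 1, 3, 3, 0, 5, 3, 4, 1, 2, 2, 0, 7, 3, 1]
def rw4379 : List ℕ := [3, 1, 2, 2, 0, 2, 6, 3, 6, 1, 3, 7, 2, 7, 1, 1, 0, 0, 0, 6, 3, 6, 2, 0, 7, 2, 7, 3, 1, 3]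
def rw4380 : List ℕ := [5, 1, 2, 0, 4, 7, 2, 7, 4, 3, 6, 3, 6, 3, 4, 3, 4, 3, 5, 2, 5, 2, 7, 2, 7, 2, 5, 6, 3, 6]
def rw4381 : List ℕ := [6, 3, 4, 3, 4, 5, 5, 2, 5, 2, 7, 2, 7, 2, 5, 6, 3, 6, 5, 1, 4, 0, 4, 7, 2, 7, 4, 3, 6, 3]
def rw4382 : List ℕ := [3, 6, 0, 6, 3, 6, 1, 3, 1, 1, 0, 0, 0, 2, 0, 7, 2, 7, 1, 7, 2, 7, 2, 1, 3, 6]
def rw4383 : List ℕ := [0, 6, 3, 6, 1, 3, 1, 1, 4, 0, 0, 2, 0, 7, 2, 7, 1, 7, 2, 7, 2, 5, 3, 6, 3, 6]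
def rw4384 : List ℕ := [3, 6, 0, 6, 3, 6, 3, 3, 1, 4, 0, 2, 2, 7, 2, 7, 1, 7, 2, 7, 2, 2, 5, 3, 3, 6]
def rw4385 : List ℕ := [6, 3, 6, 3, 1, 4, 0, 2, 7, 2, 7, 2, 5, 2, 7, 2, 7, 4, 5, 5, 6, 3, 6, 3, 4, 3]
def rw4386 : List ℕ := [7, 2, 7, 1, 2, 1, 2, 0, 3, 0, 6, 3, 6, 1, 3, 7, 2, 7, 2, 3, 3, 6, 3, 6, 2, 0]
def rw4387 : List ℕ := [2, 7, 3, 1, 0, 0, 2, 6, 3, 6, 2, 1, 3, 6, 3, 6, 1, 2, 2, 1, 3, 3, 0, 7, 2, 7, 2, 0, 3, 7]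
def rw4388 : List ℕ := [6, 1, 2, 2, 3, 3, 3, 0, 7, 2, 7, 2, 0, 3, 7, 2, 7, 3, 1, 2, 0, 2, 6, 3, 6, 2, 1, 3, 6, 3]
def rw4389 : List ℕ := [7, 2, 7, 5, 1, 4, 6, 3, 6, 4, 2, 0, 5, 0, 6, 3, 6, 3, 1, 0, 0, 2, 7, 2, 7, 1, 4, 1, 3, 5]
def rw4390 : List ℕ := [3, 6, 3, 4, 3, 6, 3, 6, 1, 7, 2, 7, 2, 5, 2, 7, 2, 7, 4, 1, 3, 1, 1, 0, 0, 0, 2, 0, 5, 6]
def rw4391 : List ℕ := [2, 7, 5, 3, 4, 6, 3, 6, 4, 2, 0, 5, 7, 2, 7, 1, 3, 1, 2, 0, 2, 0, 6, 3, 6, 4, 1, 3, 5, 7]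
def rw4392 : List ℕ := [6, 3, 6, 0, 3, 3, 1, 0, 0, 2, 2, 1, 7, 2, 7, 2, 5, 0, 5, 6, 3, 6, 1, 7, 2, 7, 4, 1, 4, 3]
def rw4393 : List ℕ := [2, 7, 3, 6, 3, 6, 0, 2, 5, 0, 5, 6, 3, 6, 3, 3, 1, 2, 0, 2, 2, 7, 2, 7, 4, 1, 4, 3, 1, 7]
def rw4394 : List ℕ := [6, 5, 3, 1, 2, 0, 2, 4, 7, 2, 7, 1, 5, 1, 3, 6, 3, 6, 2, 3, 3, 7, 2, 7, 2, 0, 4, 0, 6, 3]
def rw4395 : List ℕ := [3, 6, 5, 1, 3, 6, 3, 6, 1, 3, 1, 0, 0, 2, 0, 7, 2, 7, 2, 0, 4, 7, 2, 7, 1, 5, 1, 4, 0, 6]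
def rw4396 : List ℕ := [2, 0, 2, 7, 2, 7, 2, 1, 3, 6, 3, 6, 3, 1, 3, 0, 7, 2, 7, 1, 1, 1, 0, 0, 0, 0, 6, 3, 6, 1]
def rw4397 : List ℕ := [5, 6, 5, 7, 4, 2, 0, 2, 2, 7, 4, 7, 2, 7, 1, 3, 1, 4, 0, 2, 0, 6, 3, 6, 5, 6, 3, 3, 1, 3]
def rw4398 : List ℕ := [0, 2, 2, 5, 3, 3, 1, 3, 3, 1, 4, 0, 2, 2]
def rw4399 : List ℕ := [1, 3, 1, 1, 2, 0, 0, 2, 0, 3, 0, 3, 1, 3, 3, 3, 2, 2, 0, 2, 1, 2]
def rw4400 : List ℕ := [5, 1, 3, 5, 3, 3, 5, 5, 5, 1, 1, 0, 0, 0, 4, 4, 4, 2, 2, 4, 2, 0, 4, 1]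
def rw4401 : List ℕ := [1, 1, 1, 2, 0, 0, 0, 4, 1, 1, 3, 0, 3, 0, 5, 2, 3, 3, 4, 1, 2, 1, 2, 0, 0, 5]
def rw4402 : List ℕ := [1, 5, 0, 3, 3, 0, 0, 2, 4, 1, 5, 3, 1, 1, 2, 2, 1, 4, 0, 3, 1, 1, 0, 0, 0, 2]
def rw4403 : List ℕ := [3, 1, 1, 2, 2, 1, 4, 0, 3, 1, 1, 2, 0, 0, 2, 1, 5, 0, 3, 3, 0, 0, 2, 4, 3, 5]
def rw4404 : List ℕ := [4, 2, 1, 3, 5, 1, 1, 3, 0, 4, 1, 2, 2, 1, 1, 0, 0, 0, 3, 3, 0, 5, 1, 2, 0, 0]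
def rw4405 : List ℕ := [1, 3, 3, 3, 0, 5, 1, 2, 1, 3, 0, 4, 1, 2, 2, 2, 0, 0, 5, 1, 1, 0, 0, 0, 4, 1]
def rw4406 : List ℕ := [2, 2, 2, 0, 0, 5, 1, 1, 2, 0, 0, 4, 1, 1, 3, 3, 3, 0, 5, 1, 2, 3, 3, 0, 4, 1]
def rw4407 : List ℕ := [2, 1, 2, 0, 0, 5, 1, 2, 3, 3, 0, 4, 1, 1, 3, 0, 3, 0, 5, 1, 1, 2, 0, 0, 4, 1]
def rw4408 : List ℕ := [1, 2, 5, 3, 0, 4, 1, 1, 3, 0, 3, 0, 5, 1, 1, 4, 0, 0, 4, 1, 2, 1, 2, 0, 0, 5]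
def rw4409 : List ℕ := [3, 1, 3, 3, 2, 0, 2, 5, 3, 5, 0, 5, 3, 5, 3, 1, 2, 0, 2, 4, 2, 4, 1, 4, 2, 4]
def rw4410 : List ℕ := [3, 6, 1, 3, 7, 2, 7, 1, 2, 1, 3, 0, 6, 3, 6, 2, 0, 7, 2, 7, 1, 1, 0, 0, 0, 6]
def rw4411 : List ℕ := [0, 3, 7, 0, 2, 6, 2, 2, 3, 3, 3, 7, 3, 1, 6, 2, 1, 5, 3, 1, 4, 1, 1, 2, 0, 0, 5, 0, 2, 4]
def rw4412 : List ℕ := [6, 3, 6, 1, 3, 7, 2, 7, 3, 1, 2, 0, 2, 6, 3, 6, 2, 0, 7, 2, 7, 1, 2, 2, 2, 3, 3, 3, 3, 0]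
def rw4413 : List ℕ := [7, 4, 3, 3, 7, 2, 7, 1, 2, 1, 4, 0, 3, 0, 6, 3, 6, 2, 2, 5, 6, 3, 6, 3, 4, 5, 5, 2, 7, 2]
def rw4414 : List ℕ := [3, 6, 5, 2, 5, 5, 3, 5, 2, 7, 4, 1, 2, 0, 5, 6, 3, 4, 2, 4, 4, 3, 4, 7]
def rw4415 : List ℕ := [6, 3, 6, 1, 3, 7, 2, 7, 1, 1, 1, 4, 0, 0, 0, 6, 3, 6, 2, 0, 7, 2, 7, 2, 5, 3]
def rw4416 : List ℕ := [2, 1, 3, 7, 2, 7, 1, 2, 0, 7, 2, 7, 1, 1, 0, 0, 0, 6, 3, 6, 1, 3, 0, 6, 3, 6]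
def rw4417 : List ℕ := [7, 2, 5, 3, 6, 3, 6, 1, 3, 0, 6, 3, 6, 1, 1, 4, 0, 0, 7, 2, 7, 1, 2, 0, 7, 2]
def rw4418 : List ℕ := [5, 6, 3, 6, 3, 7, 2, 7, 2, 7, 4, 1, 2, 7, 2, 7, 4, 1, 6, 0, 5, 6, 3, 6, 3, 0]
def rw4419 : List ℕ := [4, 7, 2, 7, 1, 5, 3, 7, 2, 7, 1, 4, 0, 6, 3, 6, 2, 4, 0, 6, 3, 6, 5, 3, 5, 2]
def rw4420 : List ℕ := [6, 5, 5, 0, 5, 5, 4, 1, 4, 4, 7, 7, 2, 7, 1, 6, 5, 1, 1, 4, 0, 0, 4, 7, 0, 6, 3, 6]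
def rw4421 : List ℕ := [2, 7, 2, 5, 0, 6, 3, 6, 2, 5, 2, 3, 3, 4, 3, 7, 2, 7, 1, 4, 3, 6, 3, 6, 5, 1, 2, 0, 4, 7]
def rw4422 : List ℕ := [1, 1, 5, 2, 7, 2, 7, 4, 3, 3, 2, 5, 6, 3, 6, 3, 4, 0, 0, 7, 2, 7, 1, 1, 2, 0, 0, 6, 3, 6]
def rw4423 : List ℕ := [0, 4, 3, 4, 3, 3, 1, 2, 0, 2, 2, 5, 2, 5, 1, 7, 3, 4, 3, 4, 3, 6, 3, 7, 2, 5, 2, 5, 2, 6]
def rw4424 : List ℕ := [7, 2, 7, 2, 2, 6, 3, 6, 5, 7, 2, 7, 3, 3, 6, 3, 6, 0, 4, 1, 4, 3, 1, 4, 0, 2, 5, 0, 5, 1]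
def rw4425 : List ℕ := [3, 5, 6, 3, 3, 2, 7, 4, 2, 6, 1, 5, 3, 1, 5, 5, 0, 3, 1, 2, 0, 2, 1, 4, 4, 0, 2, 4, 0, 7]
def rw4426 : List ℕ := [3, 6, 1, 3, 7, 2, 7, 1, 1, 4, 0, 0, 6, 3, 6, 2, 0, 7, 2, 7, 3, 1, 3, 3, 5, 2, 2, 0, 2, 6]
def rw4427 : List ℕ := [7, 3, 1, 2, 7, 3, 5, 2, 7, 2, 7, 1, 6, 3, 6, 3, 4, 2, 6, 3, 0, 2, 6, 3, 3, 1, 0, 0, 2, 2]
def rw4428 : List ℕ := [3, 6, 5, 1, 0, 0, 4, 7, 2, 7, 4, 3, 6, 3, 6, 3, 4, 3, 4, 1, 5, 2, 5, 2, 7, 2, 7, 2, 5, 6]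
def rw4429 : List ℕ := [1, 3, 7, 0, 2, 6, 2, 0, 7, 1, 3, 1, 2, 0, 2, 0, 6, 1, 3, 7, 3, 1, 6, 2, 0, 7, 3, 3, 2, 6]
def rw4430 : List ℕ := [5, 3, 1, 1, 1, 6, 0, 0, 0, 2, 4, 0, 0, 0, 2, 5, 0, 3, 7, 2, 1, 4, 3, 1, 1, 1]
def rw4431 : List ℕ := [0, 3, 1, 1, 5, 0, 3, 0, 3, 1, 1, 6, 0, 0, 2, 1, 2, 1, 4, 0, 0, 2, 1, 5, 7, 4]
def rw4432 : List ℕ := [0, 5, 0, 5, 3, 5, 0, 5, 1, 3, 1, 6, 0, 2, 0, 4, 1, 4, 2, 4, 1, 4, 1, 3, 7, 2]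
def rw4433 : List ℕ := [4, 1, 3, 1, 4, 1, 3, 1, 6, 0, 2, 0, 5, 0, 2, 0, 5, 2, 0, 2, 5, 7, 4, 3, 1, 3]
def rw4434 : List ℕ := [7, 1, 1, 0, 0, 0, 6, 3, 6, 1, 3, 7, 2, 7, 1, 2, 1, 3, 0, 6, 3, 6, 2, 0, 7, 2]
def rw4435 : List ℕ := [3, 6, 1, 4, 0, 6, 3, 6, 5, 3, 4, 7, 2, 7, 1, 5, 0, 7, 2, 7, 1, 1, 2, 0, 0, 6]
def rw4436 : List ℕ := [3, 7, 2, 7, 1, 1, 0, 0, 0, 6, 3, 6, 2, 1, 3, 6, 3, 6, 2, 1, 3, 7, 2, 7, 2, 0]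
def rw4437 : List ℕ := [6, 1, 3, 0, 6, 3, 6, 1, 1, 6, 0, 0, 7, 2, 7, 1, 2, 0, 7, 2, 7, 2, 7, 3, 6, 3]
def rw4438 : List ℕ := [6, 1, 3, 7, 0, 2, 6, 2, 0, 7, 3, 1, 0, 0, 2, 6, 1, 3, 7, 3, 1, 6, 2, 0, 7, 1]
def rw4439 : List ℕ := [7, 1, 2, 0, 6, 3, 6, 2, 4, 7, 2, 7, 1, 5, 3, 3, 2, 4, 0, 6, 3, 6, 5, 3, 7, 2]
def rw4440 : List ℕ := [7, 0, 6, 3, 6, 6, 5, 1, 1, 4, 0, 0, 4, 7, 7, 2, 7, 1, 6, 5, 5, 0, 5, 5, 4, 1, 4, 4]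
def rw4441 : List ℕ := [5, 6, 4, 1, 1, 2, 0, 0, 5, 7, 4, 1, 3, 5, 6, 1, 3, 4, 4, 3, 5, 5, 2, 0, 7, 4, 2, 0]
def rw4442 : List ℕ := [3, 3, 7, 2, 7, 1, 1, 0, 0, 0, 6, 3, 6, 2, 2, 1, 3, 1, 6, 3, 6, 2, 1, 3, 7, 2, 7, 0, 2, 0]
def rw4443 : List ℕ := [0, 2, 6, 3, 0, 5, 3, 3, 1, 2, 0, 2, 2, 4, 1, 2, 7, 3, 1, 6, 0, 2, 5, 2, 3, 3, 4, 3, 1, 7]
def rw4444 : List ℕ := [7, 4, 1, 2, 7, 3, 3, 5, 3, 1, 2, 0, 2, 4, 2, 2, 6, 3, 0, 5, 6, 4, 6, 3, 6, 3, 7, 2, 7, 5]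
def rw4445 : List ℕ := [2, 5, 0, 5, 1, 7, 2, 7, 2, 2, 1, 2, 0, 3, 3, 6, 3, 6, 0, 4, 1, 4, 3, 6, 3, 6, 3, 7, 2, 7]
def rw4446 : List ℕ := [4, 0, 6, 3, 3, 2, 7, 1, 5, 1, 5, 1, 2, 7, 1, 5, 1, 5, 1, 2, 0, 4, 0, 4, 0, 6, 3, 0, 4, 0]
def rw4447 : List ℕ := [1, 5, 7, 3, 1, 6, 4, 0, 4, 4, 5, 5, 5, 1, 5, 7, 0, 2, 6, 4, 0, 4, 4, 3, 1, 4, 0, 2, 5, 5]
def rw4448 : List ℕ := [6, 3, 3, 1, 6, 0, 2, 2, 7, 5, 3, 5, 3, 5, 1, 4, 1, 6, 3, 7, 2, 7, 0, 5, 0, 4, 2, 4, 2, 4]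
def rw4449 : List ℕ := [3, 3, 1, 2, 0, 2, 2, 7, 2, 7, 4, 1, 4, 3, 1, 7, 2, 7, 3, 6, 3, 6, 0, 2, 5, 0, 5, 6, 3, 6]
def rw4450 : List ℕ := [3, 1, 3, 1, 4, 0, 2, 0, 2, 6, 3, 3, 3, 1, 7, 4, 2, 0, 5, 5, 4, 1, 3, 5, 6, 0, 2, 2, 2, 7]
def rw4451 : List ℕ := [2, 1, 1, 4, 0, 0, 3, 7, 3, 1, 6, 2, 1, 5, 3, 1, 4, 2, 5, 3, 5, 0, 2, 4, 0, 3, 7, 0, 2, 6]
def rw4452 : List ℕ := [7, 2, 7, 3, 6, 3, 6, 2, 0, 7, 2, 7, 1, 2, 2, 1, 3, 1, 2, 0, 2, 0, 3, 3, 0, 6, 3, 6, 1, 3]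
def rw4453 : List ℕ := [7, 1, 5, 3, 7, 2, 7, 2, 0, 3, 1, 2, 0, 2, 1, 3, 6, 3, 6, 2, 4, 0, 6, 3, 6, 5, 3, 4, 7, 2]
def rw4454 : List ℕ := [3, 4, 3, 4, 7, 2, 7, 3, 4, 3, 2, 2, 5, 2, 6, 3, 6, 5, 2, 5, 2, 6, 3, 6, 5, 3, 4, 7, 2, 7]
def rw4455 : List ℕ := [6, 3, 6, 5, 5, 4, 7, 2, 7, 3, 4, 3, 4, 7, 2, 7, 3, 4, 3, 4, 2, 5, 2, 6, 3, 6, 5, 2, 5, 2]
def rw4456 : List ℕ := [1, 3, 1, 1, 4, 0, 0, 2, 0, 6, 0, 2, 1, 2, 7, 4, 2, 0, 5, 5, 4, 1, 3, 5, 6, 3, 0, 3, 1, 7]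
def rw4457 : List ℕ := [6, 3, 6, 1, 2, 0, 2, 7, 2, 7, 2, 7, 3, 6, 3, 6, 3, 1, 3, 0, 7, 2, 7, 1, 1, 1, 6, 0, 0, 0]
def rw4458 : List ℕ := [6, 3, 6, 3, 4, 3, 4, 1, 5, 2, 5, 2, 7, 2, 7, 2, 5, 6, 3, 6, 5, 1, 0, 0, 4, 7, 2, 7, 4, 3]
def rw4459 : List ℕ := [6, 3, 0, 3, 1, 4, 0, 2, 1, 2, 7, 4, 3, 1, 3, 3, 5, 3, 1, 6, 5, 7, 0, 2, 4, 2, 2, 0, 2, 5]
def rw4460 : List ℕ := [4, 1, 2, 2, 0, 3, 0, 5, 1, 2, 7, 3, 0, 4, 1, 2, 1, 3, 3, 0, 5, 1, 1, 6, 0, 0]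
def rw4461 : List ℕ := [5, 2, 0, 3, 0, 4, 1, 2, 1, 2, 7, 3, 0, 3, 0, 5, 1, 2, 1, 3, 4, 1, 1, 6, 0, 0]
def rw4462 : List ℕ := [0, 5, 7, 4, 1, 4, 1, 4, 1, 3, 5, 0, 5, 3, 1, 6, 0, 2, 4, 1, 4, 2, 0, 5, 0, 5]
def rw4463 : List ℕ := [4, 4, 2, 0, 5, 3, 5, 7, 4, 2, 4, 1, 3, 5, 5, 3, 5, 3, 5, 1, 6, 0, 4, 2, 4, 2]
def rw4464 : List ℕ := [2, 0, 5, 3, 1, 6, 3, 7, 0, 2, 4, 1, 3, 5, 6, 3, 0, 3, 1, 2, 0, 2, 1, 2, 7, 4]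
def rw4465 : List ℕ := [7, 4, 2, 0, 5, 3, 1, 6, 7, 7, 0, 2, 4, 1, 3, 5, 6, 3, 0, 3, 1, 6, 0, 2, 1, 2]
def rw4466 : List ℕ := [7, 0, 2, 4, 1, 3, 5, 6, 7, 7, 4, 2, 0, 5, 3, 1, 6, 3, 3, 3, 1, 6, 0, 2, 2, 2]
def rw4467 : List ℕ := [6, 3, 6, 2, 4, 0, 6, 3, 6, 5, 3, 3, 2, 4, 7, 2, 7, 1, 5, 3, 7, 2, 7, 1, 2, 0]
def rw4468 : List ℕ := [5, 3, 3, 2, 4, 0, 6, 3, 6, 5, 3, 7, 2, 7, 1, 2, 0, 6, 3, 6, 2, 4, 7, 2, 7, 1]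
def rw4469 : List ℕ := [6, 2, 4, 7, 2, 7, 1, 5, 3, 7, 2, 4, 0, 6, 3, 6, 5, 3, 7, 2, 7, 1, 6, 0, 6, 3]
def rw4470 : List ℕ := [0, 0, 5, 7, 3, 1, 6, 3, 3, 3, 2, 2, 7, 0, 2, 6, 4, 1, 1, 5, 5, 1, 1, 2, 0, 0, 4, 4]
def rw4471 : List ℕ := [2, 6, 4, 1, 1, 5, 5, 1, 1, 6, 0, 0, 4, 4, 0, 0, 5, 7, 3, 1, 6, 3, 3, 7, 2, 2, 7, 0]
def rw4472 : List ℕ := [3, 5, 0, 5, 0, 3, 4, 7, 7, 6, 5, 2, 1, 4, 1, 4, 2, 7, 4, 1, 3, 1, 6, 0, 2, 0, 5, 6]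
def rw4473 : List ℕ := [5, 2, 5, 2, 0, 5, 2, 7, 7, 6, 3, 4, 1, 3, 4, 3, 4, 7, 0, 5, 3, 1, 6, 0, 2, 4, 1, 6]
def rw4474 : List ℕ := [3, 5, 3, 1, 3, 5, 0, 5, 6, 3, 3, 1, 6, 0, 2, 2, 7, 4, 1, 4, 2, 0, 2, 4, 2, 6, 3, 7, 2, 7]
def rw4475 : List ℕ := [7, 1, 5, 6, 2, 3, 3, 7, 4, 0, 6, 3, 6, 3, 1, 7, 4, 0, 3, 1, 2, 0, 2, 1, 5, 6, 0, 2, 7, 2]
def rw4476 : List ℕ := [0, 3, 5, 3, 1, 6, 3, 3, 3, 1, 7, 4, 7, 5, 6, 0, 2, 2, 2, 7, 0, 2, 4, 2, 1, 3, 1, 6, 0, 2]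
def rw4477 : List ℕ := [4, 2, 4, 1, 2, 7, 7, 6, 3, 0, 5, 3, 5, 6, 3, 6, 3, 6, 3, 4, 1, 6, 0, 5, 2, 7, 2, 7, 2, 7]
def rw4478 : List ℕ := [0, 7, 0, 2, 4, 1, 3, 5, 6, 3, 3, 2, 7, 4, 2, 0, 5, 3, 1, 6, 1, 3, 1, 1, 1, 2, 0, 0, 0, 2]
def rw4479 : List ℕ := [6, 3, 3, 1, 2, 7, 3, 5, 1, 3, 1, 4, 0, 2, 0, 4, 2, 6, 3, 0, 2, 2, 7, 4, 1, 4, 5, 5, 0, 5]
def rw4480 : List ℕ := [7, 4, 1, 1, 2, 0, 0, 5, 6, 0, 2, 2, 2, 7, 0, 2, 4, 0, 2, 3, 3, 1, 5, 3, 1, 6, 3, 3, 3, 1]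
def rw4481 : List ℕ := [2, 7, 5, 7, 4, 1, 2, 7, 3, 3, 5, 3, 1, 2, 0, 2, 4, 2, 2, 6, 3, 0, 5, 6, 4, 6, 3, 6, 3, 7]
def rw4482 : List ℕ := [4, 1, 3, 5, 6, 7, 7, 4, 2, 0, 5, 6, 4, 4, 1, 4, 2, 2, 4, 1, 6, 0, 5, 3, 3, 5, 0, 5, 5, 7]
def rw4483 : List ℕ := [2, 2, 0, 2, 5, 6, 3, 3, 1, 6, 0, 2, 2, 7, 4, 3, 1, 3, 3, 5, 3, 1, 6, 3, 7, 2, 7, 0, 2, 4]
def rw4484 : List ℕ := [2, 2, 2, 7, 3, 1, 3, 1, 2, 0, 2, 0, 2, 6, 3, 3, 3, 1, 7, 4, 2, 0, 5, 3, 4, 1, 3, 5, 6, 0]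
def rw4485 : List ℕ := [2, 2, 2, 7, 7, 6, 3, 3, 3, 5, 3, 4, 1, 4, 2, 5, 7, 3, 1, 6, 0, 2, 6, 4, 3, 5, 0, 5, 2, 4]
def rw4486 : List ℕ := [0, 7, 3, 5, 6, 3, 7, 2, 7, 4, 2, 6, 1, 5, 3, 1, 5, 5, 0, 3, 1, 6, 0, 2, 1, 4, 4, 0, 2, 4]
def rw4487 : List ℕ := [0, 3, 1, 7, 3, 5, 1, 3, 1, 4, 0, 2, 0, 4, 2, 6, 0, 2, 1, 2, 7, 4, 1, 4, 5, 5, 0, 5, 6, 3]
def rw4488 : List ℕ := [6, 0, 4, 0, 2, 5, 2, 0, 4, 7, 4, 7, 5, 6, 5, 1, 3, 4, 3, 1, 5, 1, 7, 1, 3, 1, 6, 0, 2, 0]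
def rw4489 : List ℕ := [2, 6, 1, 3, 3, 0, 5, 7, 4, 1, 2, 2, 0, 7, 3, 1, 6, 2, 1, 5, 3, 1, 6, 0, 2, 4, 0, 3, 7, 0]
def rw4490 : List ℕ := [7, 4, 3, 5, 6, 3, 0, 3, 1, 7, 0, 2, 4, 2, 1, 3, 1, 2, 0, 2, 0, 3, 5, 3, 1, 6, 0, 2, 1, 2]
def rw4491 : List ℕ := [1, 3, 1, 1, 4, 0, 0, 2, 0, 7, 4, 7, 2, 7, 0, 2, 0, 7, 4, 5, 5, 6, 1, 3, 1, 6, 3, 6, 5, 6]
def rw4492 : List ℕ := [6, 2, 2, 5, 6, 3, 6, 3, 4, 1, 5, 2, 7, 2, 7, 4, 3, 3, 7, 2, 7, 1, 2, 1, 0, 0, 3, 0, 6, 3]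
def rw4493 : List ℕ := [1, 6, 1, 4, 4, 6, 3, 6, 2, 1, 1, 2, 0, 0, 3, 7, 2, 7, 5, 5, 0, 7, 0, 3, 1, 7, 3, 6, 0, 2]
def rw4494 : List ℕ := [6, 3, 4, 3, 4, 3, 5, 2, 5, 2, 7, 2, 7, 2, 5, 6, 3, 6, 5, 1, 2, 0, 4, 7, 2, 7, 4, 3, 6, 3]
def rw4495 : List ℕ := [3, 6, 3, 4, 3, 6, 3, 6, 2, 1, 3, 7, 2, 7, 2, 5, 2, 7, 2, 7, 4, 3, 3, 1, 0, 0, 2, 2, 5, 6]
def rw4496 : List ℕ := [5, 3, 5, 3, 6, 3, 3, 1, 6, 0, 2, 2, 7, 2, 4, 2, 4, 2, 1, 4, 1, 6, 3, 7, 2, 7, 0, 5, 0, 3]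
def rw4497 : List ℕ := [5, 0, 3, 5, 3, 5, 3, 6, 3, 3, 1, 6, 0, 2, 2, 7, 2, 4, 2, 4, 2, 1, 4, 1, 6, 3, 7, 2, 7, 0]
def rw4498 : List ℕ := [2, 0, 2, 2, 2, 3, 3, 3, 3, 1, 3, 0, 3, 1, 2, 0, 2, 1]
def rw4499 : List ℕ := [0, 2, 1, 2, 2, 3, 3, 3, 0, 3, 1, 3, 3, 0, 3, 1, 2, 0, 2, 1, 2, 2]
def rw4500 : List ℕ := [3, 1, 3, 0, 3, 3, 1, 2, 0, 2, 2, 1, 2, 0, 2, 2, 1, 2, 3, 3, 0, 3]
def rw4501 : List ℕ := [0, 0, 2, 5, 0, 3, 3, 2, 1, 4, 3, 1, 1, 1, 5, 3, 1, 1, 1, 2, 0, 0, 0, 2, 4, 0]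
def rw4502 : List ℕ := [3, 1, 1, 0, 0, 0, 2, 1, 5, 0, 3, 0, 2, 2, 1, 4, 1, 5, 0, 3, 3, 1, 2, 1, 4, 0]
def rw4503 : List ℕ := [4, 1, 1, 2, 0, 0, 5, 3, 3, 5, 0, 0, 5, 3, 3, 5, 3, 4, 2, 2, 4, 1, 1, 4, 2, 2]
def rw4504 : List ℕ := [3, 3, 5, 0, 0, 5, 3, 3, 5, 7, 4, 2, 2, 4, 1, 1, 4, 2, 2, 4, 1, 1, 6, 0, 0, 5]
def rw4505 : List ℕ := [4, 2, 4, 1, 4, 2, 4, 2, 1, 3, 1, 0, 0, 2, 0, 3, 5, 3, 5, 0, 5, 3, 5, 3, 1, 2]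
def rw4506 : List ℕ := [4, 1, 2, 3, 3, 0, 5, 0, 5, 3, 5, 0, 5, 0, 3, 1, 2, 0, 2, 1, 4, 1, 4, 2, 4, 1]
def rw4507 : List ℕ := [4, 1, 5, 1, 3, 0, 4, 4, 3, 4, 4, 0, 3, 1, 0, 0, 2, 1, 5, 5, 2, 5, 5, 1, 2, 0]
def rw4508 : List ℕ := [3, 4, 1, 5, 2, 1, 3, 4, 4, 3, 4, 4, 0, 3, 1, 0, 0, 2, 1, 5, 5, 2, 5, 5, 2, 0]
def rw4509 : List ℕ := [2, 4, 1, 4, 2, 1, 4, 1, 4, 1, 5, 1, 4, 0, 5, 0, 5, 0, 3, 5, 0, 5, 3, 1, 0, 0]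
def rw4510 : List ℕ := [2, 5, 5, 2, 5, 5, 1, 2, 0, 4, 3, 1, 2, 5, 1, 3, 0, 4, 4, 3, 4, 4, 3, 1, 0, 0]
def rw4511 : List ℕ := [3, 4, 2, 0, 5, 3, 5, 5, 4, 2, 4, 1, 3, 5, 2, 4, 2, 4, 2, 1, 4, 0, 3, 5, 3, 5]
def rw4512 : List ℕ := [3, 3, 1, 2, 0, 2, 2, 4, 1, 3, 4, 3, 4, 7, 3, 5, 6, 3, 7, 4, 2, 6, 5, 2, 5, 2, 0, 5]
def rw4513 : List ℕ := [6, 3, 7, 4, 2, 6, 5, 2, 5, 2, 0, 5, 3, 3, 1, 2, 0, 2, 2, 4, 1, 3, 4, 3, 4, 7, 3, 5]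
def rw4514 : List ℕ := [7, 3, 5, 6, 3, 3, 1, 2, 0, 2, 2, 7, 4, 2, 6, 5, 2, 5, 2, 0, 5, 3, 4, 1, 3, 4, 3, 4]
def rw4515 : List ℕ := [6, 5, 2, 5, 2, 0, 5, 2, 7, 5, 6, 3, 4, 1, 3, 4, 3, 4, 7, 0, 5, 3, 1, 4, 0, 2, 4, 1]
def rw4516 : List ℕ := [4, 1, 4, 2, 6, 3, 3, 1, 4, 0, 2, 2, 7, 3, 5, 0, 5, 0, 2, 4, 2, 6, 3, 5, 2, 7, 3, 5, 3, 1]
def rw4517 : List ℕ := [3, 5, 3, 1, 4, 1, 6, 3, 3, 3, 1, 4, 0, 2, 2, 2, 7, 0, 5, 0, 2, 4, 2, 4, 2, 6, 5, 7, 3, 5]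
def rw4518 : List ℕ := [3, 1, 2, 7, 3, 5, 2, 7, 2, 7, 3, 3, 1, 2, 0, 2, 2, 6, 3, 6, 3, 4, 2, 6, 3, 0, 2, 6, 3, 7]
def rw4519 : List ℕ := [7, 3, 6, 3, 4, 2, 4, 2, 0, 5, 2, 7, 1, 3, 1, 1, 2, 0, 0, 2, 0, 6, 3, 4, 1, 3, 5, 3, 5, 2]
def rw4520 : List ℕ := [7, 2, 7, 5, 6, 3, 6, 3, 4, 2, 6, 3, 0, 2, 6, 3, 3, 1, 4, 0, 2, 2, 7, 3, 1, 2, 7, 3, 5, 2]
def rw4521 : List ℕ := [7, 2, 7, 7, 6, 3, 6, 3, 4, 2, 6, 3, 0, 2, 6, 3, 3, 1, 6, 0, 2, 2, 7, 3, 1, 2, 7, 3, 5, 2]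
def rw4522 : List ℕ := [5, 6, 3, 3, 7, 0, 5, 6, 3, 7, 4, 1, 6, 2, 2, 7, 4, 1, 6, 1, 3, 3, 1, 2, 0, 2, 2, 0, 7, 0]
def rw4523 : List ℕ := [2, 7, 2, 7, 3, 3, 1, 7, 0, 3, 1, 4, 0, 2, 1, 6, 0, 2, 2, 6, 3, 6, 3, 4, 2, 6, 5, 7, 3, 5]
def rw4524 : List ℕ := [5, 3, 3, 0, 2, 2, 4, 2, 4, 2, 2, 4, 2, 4, 1, 5, 3, 5, 3, 3, 5, 3]
def rw4525 : List ℕ := [4, 2, 2, 4, 2, 4, 3, 5, 3, 5, 3, 3, 5, 3, 5, 3, 3, 2, 2, 2, 4, 2]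
def rw4526 : List ℕ := [1, 5, 3, 5, 3, 5, 3, 5, 3, 5, 3, 0, 2, 4, 2, 4, 2, 4, 2, 4, 2, 4]
def rw4527 : List ℕ := [3, 0, 3, 4, 4, 3, 3, 2, 5, 5, 2, 1, 2, 2, 4, 2, 2, 1, 2, 0, 3, 3, 5, 3]
def rw4528 : List ℕ := [1, 2, 2, 4, 2, 2, 1, 4, 0, 3, 3, 5, 3, 3, 0, 3, 4, 4, 3, 5, 2, 5, 5, 2]
def rw4529 : List ℕ := [5, 2, 1, 2, 2, 4, 2, 2, 1, 4, 0, 3, 3, 5, 3, 3, 0, 3, 4, 4, 3, 5, 2, 5]
def rw4530 : List ℕ := [4, 0, 0, 2, 1, 5, 3, 1, 1, 1, 4, 0, 0, 0, 2, 4, 0, 3, 1, 1, 5, 0, 3, 5, 2, 1]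
def rw4531 : List ℕ := [0, 2, 5, 3, 1, 1, 2, 2, 1, 4, 1, 5, 0, 3, 3, 0, 0, 2, 4, 3, 1, 1, 1, 0, 0, 0]
def rw4532 : List ℕ := [4, 3, 1, 2, 1, 5, 0, 3, 0, 3, 1, 1, 0, 0, 0, 2, 1, 2, 1, 4, 0, 3, 0, 2, 5, 1]
def rw4533 : List ℕ := [2, 1, 5, 0, 3, 0, 2, 2, 1, 4, 5, 5, 0, 3, 3, 1, 2, 1, 4, 0, 3, 1, 1, 4, 0, 0]
def rw4534 : List ℕ := [4, 1, 4, 2, 5, 3, 5, 0, 5, 0, 0, 5, 0, 5, 3, 1, 1, 4, 0, 0, 2, 4, 1, 4, 1, 1]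
def rw4535 : List ℕ := [0, 0, 2, 4, 2, 4, 1, 4, 2, 4, 0, 2, 3, 3, 1, 5, 3, 5, 0, 5, 3, 5, 3, 1, 1, 2]
def rw4536 : List ℕ := [4, 1, 4, 2, 4, 1, 4, 5, 5, 0, 5, 3, 5, 0, 5, 0, 2, 1, 3, 1, 4, 0, 2, 0, 3, 1]
def rw4537 : List ℕ := [3, 5, 2, 4, 2, 4, 1, 4, 2, 4, 2, 1, 3, 1, 4, 0, 2, 0, 3, 5, 3, 5, 0, 5, 3, 5]
def rw4538 : List ℕ := [0, 3, 1, 0, 0, 2, 1, 5, 5, 2, 5, 5, 1, 2, 0, 4, 1, 5, 1, 3, 0, 4, 4, 3, 4, 4]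
def rw4539 : List ℕ := [4, 2, 4, 1, 3, 3, 1, 2, 0, 2, 2, 0, 5, 3, 5, 3, 3, 5, 3, 5, 3, 4, 2, 4, 2, 2]
def rw4540 : List ℕ := [4, 0, 3, 0, 2, 5, 0, 3, 1, 2, 1, 4, 3, 1, 2, 1, 5, 0, 3, 3, 1, 0, 0, 2, 2, 1]
def rw4541 : List ℕ := [3, 0, 2, 5, 0, 3, 7, 2, 1, 4, 3, 1, 2, 1, 5, 0, 3, 3, 1, 6, 0, 2, 2, 1, 4, 0]
def rw4542 : List ℕ := [2, 0, 5, 3, 5, 1, 4, 2, 4, 1, 3, 3, 5, 3, 5, 3, 3, 1, 0, 0, 2, 2, 4, 2, 4, 2]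
def rw4543 : List ℕ := [0, 2, 5, 3, 5, 0, 5, 3, 5, 3, 1, 4, 0, 2, 4, 2, 4, 1, 4, 2, 4, 3, 1, 3, 5, 2]
def rw4544 : List ℕ := [4, 4, 2, 4, 2, 4, 0, 5, 3, 5, 5, 4, 2, 4, 1, 5, 3, 5, 3, 5, 5, 3, 1, 4, 0, 2]
def rw4545 : List ℕ := [4, 3, 3, 5, 5, 1, 2, 0, 4, 4, 2, 2, 5, 0, 4, 4, 2, 2, 5, 3, 4, 3, 3, 5, 5, 1]
def rw4546 : List ℕ := [5, 1, 4, 3, 3, 5, 5, 1, 2, 0, 4, 4, 2, 2, 5, 0, 4, 4, 2, 2, 5, 3, 4, 3, 3, 5]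
def rw4547 : List ℕ := [2, 4, 1, 4, 2, 0, 5, 5, 5, 4, 4, 1, 3, 5, 0, 5, 3, 4, 1, 4, 1, 4, 0, 5, 0, 5]
def rw4548 : List ℕ := [4, 2, 4, 2, 5, 2, 4, 2, 4, 5, 5, 3, 5, 3, 4, 3, 5, 3, 5, 3, 3, 3, 4, 2, 2, 2]
def rw4549 : List ℕ := [6, 3, 4, 1, 3, 5, 3, 5, 2, 7, 3, 1, 2, 0, 2, 6, 3, 4, 2, 4, 2, 0, 5, 2, 7, 3]
def rw4550 : List ℕ := [5, 3, 5, 2, 7, 3, 1, 4, 0, 2, 6, 3, 4, 2, 4, 2, 0, 5, 2, 7, 5, 6, 3, 4, 1, 3]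
def rw4551 : List ℕ := [3, 6, 3, 4, 1, 4, 3, 5, 3, 5, 7, 3, 1, 2, 0, 2, 6, 4, 2, 4, 2, 5, 0, 5, 2, 7]
def rw4552 : List ℕ := [6, 5, 3, 7, 2, 7, 1, 0, 0, 6, 3, 6, 2, 4, 7, 2, 7, 1, 5, 3, 1, 2, 4, 0, 6, 3]
def rw4553 : List ℕ := [5, 2, 1, 4, 1, 4, 2, 7, 4, 1, 3, 1, 4, 0, 2, 0, 5, 6, 3, 5, 0, 5, 0, 3, 4, 7, 5, 6]
def rw4554 : List ℕ := [4, 3, 4, 7, 0, 5, 3, 1, 4, 0, 2, 4, 1, 6, 5, 2, 5, 2, 0, 5, 2, 7, 5, 6, 3, 4, 1, 3]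
def rw4555 : List ℕ := [3, 6, 2, 6, 3, 3, 5, 6, 3, 3, 5, 1, 2, 0, 4, 2, 2, 7, 4, 2, 2, 7, 3, 7, 2, 7, 2, 3, 3, 6]
def rw4556 : List ℕ := [6, 5, 1, 5, 2, 5, 1, 6, 0, 4, 3, 4, 0, 4, 7, 2, 7, 2, 7, 2, 7, 4, 7, 5, 6, 3, 6, 3, 6, 3]
def rw4557 : List ℕ := [4, 1, 5, 6, 3, 6, 3, 4, 3, 1, 7, 2, 7, 1, 3, 1, 0, 0, 2, 0, 6, 3, 6, 0, 2, 5, 2, 7, 2, 7]
def rw4558 : List ℕ := [3, 6, 0, 2, 5, 2, 7, 2, 7, 4, 3, 5, 6, 3, 6, 3, 4, 3, 1, 7, 2, 7, 1, 3, 1, 2, 0, 2, 0, 6]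
def rw4559 : List ℕ := [4, 4, 1, 3, 5, 3, 3, 5, 2, 2, 7, 5, 6, 3, 3, 4, 2, 2, 4, 2, 0, 5, 5, 7, 3, 1, 4, 0, 2, 6]
def rw4560 : List ℕ := [1, 3, 6, 3, 6, 0, 2, 1, 3, 1, 7, 2, 7, 2, 0, 0, 7, 2, 7, 1, 1, 1, 0, 0, 0, 0, 6, 3, 6, 1]
def rw4561 : List ℕ := [6, 3, 6, 1, 7, 2, 7, 2, 0, 2, 5, 6, 3, 6, 3, 4, 3, 1, 0, 0, 2, 5, 2, 7, 2, 7, 4, 3, 1, 3]
def rw4562 : List ℕ := [2, 4, 1, 4, 0, 5, 3, 5, 7, 2, 7, 1, 7, 2, 7, 5, 3, 5, 5, 4, 2, 4, 6, 3, 6, 0, 6, 3, 6, 4]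
def rw4563 : List ℕ := [3, 5, 5, 0, 5, 2, 7, 5, 6, 3, 4, 1, 4, 4, 2, 4, 2, 4, 2, 7, 3, 1, 4, 0, 2, 6, 3, 5, 3, 5]
def rw4564 : List ℕ := [7, 3, 5, 2, 7, 2, 7, 3, 3, 1, 7, 0, 3, 1, 6, 0, 2, 1, 6, 0, 2, 2, 6, 3, 6, 3, 4, 2, 6, 7]
def rw4565 : List ℕ := [2, 4, 2, 4, 4, 2, 4, 2, 4, 4, 7, 5, 5, 3, 5, 3, 5, 5, 3, 5, 3, 6]
def rw4566 : List ℕ := [2, 7, 3, 7, 2, 7, 1, 2, 0, 7, 2, 7, 1, 1, 6, 0, 0, 6, 3, 6, 1, 3, 0, 6, 3, 6]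
def rw4567 : List ℕ := [1, 3, 6, 3, 6, 2, 7, 3, 7, 2, 7, 2, 0, 3, 7, 2, 7, 1, 1, 6, 0, 0, 6, 3, 6, 2]
def rw4568 : List ℕ := [1, 1, 2, 0, 0, 7, 2, 7, 1, 2, 0, 7, 2, 7, 2, 3, 3, 6, 3, 6, 1, 3, 0, 6, 3, 6]
def rw4569 : List ℕ := [7, 2, 5, 3, 6, 3, 6, 2, 1, 3, 6, 3, 6, 1, 1, 4, 0, 0, 7, 2, 7, 2, 0, 3, 7, 2]
def rw4570 : List ℕ := [1, 7, 2, 7, 2, 5, 3, 6, 3, 6, 0, 6, 3, 6, 3, 1, 3, 1, 4, 0, 2, 0, 2, 7, 2, 7]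
def rw4571 : List ℕ := [2, 7, 2, 1, 3, 1, 0, 0, 2, 0, 3, 6, 3, 6, 0, 6, 3, 6, 3, 1, 2, 7, 2, 7, 1, 7]
def rw4572 : List ℕ := [7, 2, 7, 1, 3, 1, 4, 0, 2, 0, 6, 3, 6, 5, 6, 0, 2, 5, 6, 5, 7, 4, 3, 1, 7, 4]
def rw4573 : List ℕ := [3, 1, 4, 0, 2, 1, 3, 6, 3, 6, 0, 6, 3, 6, 2, 5, 3, 7, 2, 7, 1, 7, 2, 7, 2, 0]
def rw4574 : List ℕ := [1, 6, 3, 3, 5, 7, 4, 2, 2, 7, 0, 2, 6, 3, 3, 5, 3, 1, 6, 0, 2, 4, 2, 2, 7, 3]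
def rw4575 : List ℕ := [7, 2, 7, 3, 1, 6, 0, 2, 6, 3, 6, 0, 6, 3, 6, 3, 1, 2, 7, 3, 0, 2, 7, 2, 7, 1]
def rw4576 : List ℕ := [2, 1, 3, 1, 6, 3, 6, 2, 7, 3, 7, 2, 7, 0, 2, 0, 3, 3, 7, 2, 7, 1, 1, 6, 0, 0, 6, 3, 6, 2]
def rw4577 : List ℕ := [7, 3, 5, 6, 2, 2, 2, 4, 1, 5, 3, 3, 3, 7, 4, 2, 6, 4, 0, 5, 3, 5, 1, 0, 0, 4, 2, 4, 1, 5]
def rw4578 : List ℕ := [3, 5, 1, 0, 0, 4, 2, 4, 1, 5, 7, 3, 5, 6, 2, 2, 2, 4, 1, 5, 3, 3, 3, 7, 4, 2, 6, 4, 0, 5]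
def rw4579 : List ℕ := [7, 2, 5, 2, 5, 2, 6, 0, 4, 3, 4, 3, 3, 1, 0, 0, 2, 2, 5, 2, 5, 1, 7, 3, 4, 3, 4, 3, 6, 1]
def rw4580 : List ℕ := [7, 4, 3, 1, 7, 4, 7, 2, 7, 3, 3, 1, 0, 0, 2, 2, 6, 3, 6, 5, 6, 0, 2, 5, 6, 1, 2, 1, 3, 0]
def rw4581 : List ℕ := [6, 3, 3, 3, 1, 0, 0, 2, 2, 2, 7, 3, 1, 4, 2, 0, 5, 0, 2, 6, 1, 7, 3, 1, 4, 1, 3, 5, 0, 2]
def rw4582 : List ℕ := [6, 3, 4, 3, 1, 7, 2, 7, 1, 3, 1, 0, 0, 2, 0, 6, 3, 6, 0, 2, 5, 2, 7, 2, 7, 4, 1, 5, 6, 3]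
def rw4583 : List ℕ := [3, 0, 2, 2, 7, 4, 1, 4, 1, 3, 1, 0, 0, 2, 0, 5, 0, 5, 6, 3, 3, 1, 2, 7, 3, 5, 1, 4, 2, 6]
def rw4584 : List ℕ := [6, 5, 1, 3, 6, 3, 6, 3, 1, 6, 0, 2, 7, 2, 7, 2, 0, 4, 7, 2, 7, 1, 5, 2, 7, 3, 4, 0, 6, 3]
def rw4585 : List ℕ := [6, 3, 5, 2, 7, 4, 2, 6, 1, 5, 3, 1, 5, 5, 0, 3, 1, 4, 0, 2, 1, 4, 4, 0, 2, 4, 0, 7, 3, 5]
def rw4586 : List ℕ := [7, 1, 1, 1, 4, 0, 0, 0, 6, 3, 6, 1, 1, 3, 6, 3, 6, 0, 2, 5, 3, 1, 7, 2, 7, 2, 0, 0, 7, 2]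
def rw4587 : List ℕ := [2, 1, 2, 7, 4, 2, 0, 5, 5, 4, 1, 3, 5, 6, 3, 0, 3, 1, 7, 1, 3, 1, 1, 4, 0, 0, 2, 0, 6, 0]
def rw4588 : List ℕ := [2, 1, 2, 7, 4, 2, 0, 5, 7, 4, 1, 3, 5, 6, 3, 0, 3, 1, 7, 1, 3, 1, 1, 6, 0, 0, 2, 0, 6, 0]
def rw4589 : List ℕ := [1, 3, 1, 1, 6, 0, 0, 2, 0, 6, 0, 2, 1, 2, 7, 4, 2, 0, 5, 7, 4, 1, 3, 5, 6, 3, 0, 3, 1, 7]
def rw4590 : List ℕ := [7, 4, 0, 6, 3, 6, 3, 1, 7, 4, 5, 5, 6, 0, 2, 7, 2, 7, 1, 5, 6, 3, 1, 3, 1, 4, 0, 2, 0, 2]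
def rw4591 : List ℕ := [1, 3, 1, 1, 4, 0, 0, 2, 0, 3, 3, 6, 3, 6, 0, 6, 3, 6, 3, 5, 2, 7, 2, 7, 1, 7, 2, 7, 2, 2]
def rw4592 : List ℕ := [1, 3, 3, 1, 2, 2, 0, 2, 1, 2, 1, 3, 1, 1, 0, 0, 0, 2, 0, 3, 0, 3]
def rw4593 : List ℕ := [2, 0, 2, 2, 2, 1, 1, 3, 1, 2, 1, 1, 6, 0, 0, 3, 0, 2, 0, 0, 3, 3, 3, 1, 3, 7]
def rw4594 : List ℕ := [3, 0, 3, 1, 3, 3, 5, 2, 2, 0, 2, 1, 2, 2, 2, 0, 2, 1, 1, 4, 0, 0, 3, 1, 3, 3]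
def rw4595 : List ℕ := [0, 3, 3, 2, 1, 4, 3, 1, 1, 1, 5, 3, 1, 1, 1, 2, 0, 0, 0, 2, 4, 0, 0, 0, 2, 5]
def rw4596 : List ℕ := [0, 2, 5, 0, 0, 2, 2, 2, 1, 4, 1, 5, 0, 3, 3, 3, 1, 1, 4, 3, 1, 1, 1, 0, 0, 0]
def rw4597 : List ℕ := [5, 1, 1, 3, 0, 4, 2, 1, 3, 5, 1, 2, 0, 0, 4, 1, 2, 1, 1, 1, 0, 0, 0, 0, 3, 0]
def rw4598 : List ℕ := [5, 1, 1, 3, 0, 4, 2, 3, 3, 5, 1, 2, 0, 0, 4, 1, 2, 1, 1, 1, 2, 0, 0, 0, 3, 0]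
def rw4599 : List ℕ := [1, 1, 3, 0, 4, 2, 3, 3, 5, 1, 2, 0, 0, 4, 1, 2, 1, 1, 1, 2, 0, 0, 0, 3, 0, 5]
def rw4600 : List ℕ := [2, 1, 1, 1, 4, 0, 0, 0, 3, 0, 5, 1, 2, 1, 3, 4, 2, 5, 3, 5, 2, 0, 3, 0, 4, 1]
def rw4601 : List ℕ := [0, 0, 5, 1, 1, 1, 0, 0, 0, 0, 4, 1, 1, 3, 0, 3, 0, 5, 2, 1, 3, 4, 1, 2, 1, 2]
def rw4602 : List ℕ := [3, 1, 1, 5, 0, 3, 0, 3, 1, 1, 4, 0, 0, 2, 1, 2, 1, 4, 0, 0, 2, 1, 5, 5, 4, 0]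
def rw4603 : List ℕ := [5, 0, 3, 3, 3, 1, 1, 2, 0, 0, 2, 2, 2, 1, 4, 3, 1, 2, 1, 5, 3, 4, 0, 3, 0, 2]
def rw4604 : List ℕ := [0, 2, 4, 0, 3, 0, 2, 5, 0, 3, 3, 1, 2, 2, 1, 4, 3, 1, 2, 1, 5, 3, 1, 1, 0, 0]
def rw4605 : List ℕ := [1, 1, 4, 0, 0, 4, 4, 0, 0, 4, 4, 0, 0, 4, 4, 5, 5, 5, 1, 1, 5, 5, 1, 1, 5, 5]
def rw4606 : List ℕ := [4, 0, 4, 1, 5, 1, 5, 5, 1, 1, 5, 1, 5, 5, 1, 1, 0, 0, 0, 4, 4, 0, 4, 0, 0, 4]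
def rw4607 : List ℕ := [3, 0, 4, 1, 2, 1, 2, 5, 3, 0, 3, 0, 5, 1, 2, 1, 3, 4, 1, 1, 4, 0, 0, 5, 2, 0]
def rw4608 : List ℕ := [0, 0, 5, 3, 3, 5, 3, 4, 2, 2, 4, 1, 1, 4, 2, 2, 4, 1, 1, 2, 0, 0, 5, 3, 3, 5]
def rw4609 : List ℕ := [5, 0, 2, 1, 3, 1, 0, 0, 2, 0, 3, 1, 4, 1, 4, 2, 4, 1, 4, 1, 5, 0, 5, 3, 5, 0]
def rw4610 : List ℕ := [5, 1, 3, 1, 0, 0, 2, 0, 4, 0, 2, 0, 4, 3, 1, 3, 4, 1, 5, 2, 0, 2, 5, 1, 3, 1]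
def rw4611 : List ℕ := [3, 5, 0, 5, 3, 5, 2, 1, 3, 4, 2, 4, 1, 4, 2, 4, 2, 0, 3, 1, 0, 0, 2, 1, 3, 5]
def rw4612 : List ℕ := [1, 4, 1, 2, 1, 3, 0, 5, 0, 5, 3, 5, 0, 5, 0, 3, 1, 0, 0, 2, 1, 4, 1, 4, 2, 4]
def rw4613 : List ℕ := [4, 1, 4, 2, 4, 1, 4, 3, 1, 3, 3, 1, 0, 0, 2, 2, 0, 2, 5, 0, 5, 3, 5, 0, 5, 1]
def rw4614 : List ℕ := [4, 3, 1, 2, 1, 5, 0, 3, 3, 1, 6, 0, 2, 2, 1, 4, 0, 3, 0, 2, 5, 0, 3, 7, 2, 1]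
def rw4615 : List ℕ := [3, 1, 4, 3, 1, 4, 3, 1, 4, 0, 2, 5, 0, 2, 5, 0, 2, 5, 0, 2, 5, 5, 4, 3, 1, 4]
def rw4616 : List ℕ := [3, 4, 3, 1, 0, 0, 2, 5, 2, 5, 2, 5, 2, 0, 4, 3, 4, 1, 5, 2, 5, 1, 3, 4, 3, 4]
def rw4617 : List ℕ := [3, 3, 4, 4, 1, 3, 4, 3, 3, 2, 5, 2, 0, 5, 5, 2, 2, 2, 1, 2, 1, 2, 0, 3, 0, 3]
def rw4618 : List ℕ := [5, 3, 3, 4, 1, 4, 0, 5, 2, 2, 4, 4, 0, 5, 2, 2, 4, 4, 5, 5, 5, 3, 3, 4, 1, 5]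
def rw4619 : List ℕ := [7, 1, 0, 0, 6, 3, 6, 0, 6, 3, 6, 1, 7, 2, 7, 1, 7, 2]
def rw4620 : List ℕ := [7, 2, 3, 3, 6, 3, 6, 0, 6, 3, 6, 1, 3, 1, 1, 2, 0, 0, 2, 0, 7, 2, 7, 1, 7, 2]
def rw4621 : List ℕ := [2, 7, 1, 7, 2, 7, 0, 2, 3, 3, 1, 6, 3, 6, 0, 6, 3, 6, 3, 1, 1, 2, 0, 0, 2, 7]
def rw4622 : List ℕ := [3, 2, 7, 2, 7, 1, 7, 2, 7, 2, 1, 3, 1, 2, 0, 2, 0, 3, 6, 3, 6, 0, 6, 3, 6, 3]
def rw4623 : List ℕ := [3, 6, 5, 7, 2, 7, 1, 7, 2, 7, 1, 4, 0, 6, 3, 6, 0, 6]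
def rw4624 : List ℕ := [3, 6, 2, 0, 7, 2, 7, 1, 2, 1, 4, 0, 3, 0, 6, 3, 6, 1, 3, 7, 2, 7, 2, 5, 3, 6]
def rw4625 : List ℕ := [7, 2, 7, 1, 5, 3, 5, 2, 4, 0, 6, 3, 6, 5, 3, 7, 2, 7, 1, 4, 0, 6, 3, 6, 2, 4]
def rw4626 : List ℕ := [6, 3, 3, 1, 2, 0, 2, 2, 7, 4, 2, 6, 5, 2, 5, 2, 0, 5, 3, 4, 1, 3, 4, 3, 4, 7, 3, 5]
def rw4627 : List ℕ := [7, 0, 7, 2, 7, 1, 4, 0, 6, 3, 6, 1, 6, 3, 3, 5, 6, 3, 3, 5, 3, 5, 2, 4, 2, 2, 7, 4, 2, 2]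
def rw4628 : List ℕ := [2, 7, 3, 5, 2, 7, 2, 7, 3, 3, 1, 2, 0, 2, 2, 6, 3, 6, 3, 4, 2, 6, 3, 0, 2, 6, 3, 7, 3, 1]
def rw4629 : List ℕ := [2, 7, 1, 2, 2, 1, 3, 1, 4, 0, 2, 0, 3, 3, 0, 6, 3, 6, 1, 3, 7, 2, 7, 5, 6, 3, 6, 2, 0, 7]
def rw4630 : List ℕ := [3, 0, 2, 6, 3, 3, 1, 2, 0, 2, 2, 7, 3, 1, 2, 7, 3, 5, 2, 7, 2, 7, 3, 6, 3, 6, 3, 4, 2, 6]
def rw4631 : List ℕ := [3, 1, 3, 4, 2, 6, 3, 1, 2, 7, 3, 5, 2, 0, 2, 5, 0, 5, 6, 3, 3, 1, 0, 0, 2, 2, 7, 4, 1, 4]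
def rw4632 : List ℕ := [3, 6, 0, 6, 0, 3, 3, 1, 3, 3, 2, 0, 2, 2, 1, 7, 1, 7, 2, 7, 1, 7, 1, 1, 2, 0, 0, 6, 0, 6]
def rw4633 : List ℕ := [3, 6, 0, 6, 0, 3, 3, 1, 3, 5, 2, 0, 2, 2, 1, 7, 1, 7, 2, 7, 1, 7, 1, 1, 4, 0, 0, 6, 0, 6]
def rw4634 : List ℕ := [6, 0, 6, 3, 6, 3, 7, 2, 7, 1, 7, 2, 7, 1, 2, 0, 6, 3]
def rw4635 : List ℕ := [3, 6, 0, 6, 3, 6, 5, 7, 2, 7, 1, 7, 2, 7, 1, 4, 0, 6]
def rw4636 : List ℕ := [0, 6, 3, 6, 1, 3, 1, 1, 2, 0, 0, 2, 0, 7, 2, 7, 1, 7, 2, 7, 2, 3, 3, 6, 3, 6]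
def rw4637 : List ℕ := [7, 1, 2, 0, 7, 2, 7, 1, 1, 2, 0, 0, 6, 3, 6, 1, 3, 0, 6, 3, 6, 2, 3, 3, 7, 2]
def rw4638 : List ℕ := [6, 3, 6, 2, 5, 3, 7, 2, 7, 1, 7, 2, 7, 2, 0, 3, 1, 4, 0, 2, 1, 3, 6, 3, 6, 0]
def rw4639 : List ℕ := [6, 3, 1, 2, 7, 2, 7, 4, 1, 2, 7, 2, 7, 4, 1, 0, 0, 5, 6, 3, 6, 3, 0, 5, 6, 3]
def rw4640 : List ℕ := [1, 5, 3, 1, 2, 4, 0, 6, 3, 6, 5, 3, 7, 2, 7, 1, 0, 0, 6, 3, 6, 2, 4, 7, 2, 7]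
def rw4641 : List ℕ := [3, 6, 5, 1, 2, 0, 4, 7, 2, 7, 2, 5, 0, 6, 3, 6, 2, 5, 2, 3, 3, 4, 3, 7, 2, 7, 1, 4, 3, 6]
def rw4642 : List ℕ := [1, 3, 6, 3, 6, 1, 2, 2, 1, 3, 3, 0, 7, 2, 7, 2, 0, 3, 7, 2, 7, 3, 1, 0, 0, 2, 6, 3, 6, 2]
def rw4643 : List ℕ := [3, 6, 0, 2, 5, 3, 1, 7, 2, 7, 2, 0, 0, 7, 2, 7, 1, 1, 1, 4, 0, 0, 0, 6, 3, 6, 1, 1, 3, 6]
def rw4644 : List ℕ := [6, 3, 6, 3, 5, 3, 6, 3, 6, 3, 5, 5, 4, 2, 7, 2, 7, 2, 4, 2, 7, 2, 7, 5, 3, 1, 4, 0, 2, 4]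
def rw4645 : List ℕ := [3, 6, 3, 4, 1, 5, 2, 7, 2, 7, 4, 3, 0, 7, 2, 7, 1, 1, 1, 0, 0, 0, 0, 6, 3, 6, 1, 2, 5, 6]
def rw4646 : List ℕ := [4, 2, 4, 1, 2, 7, 1, 6, 3, 0, 5, 3, 5, 6, 3, 6, 3, 6, 3, 4, 1, 0, 0, 5, 2, 7, 2, 7, 2, 7]
def rw4647 : List ℕ := [6, 3, 6, 5, 7, 2, 7, 2, 5, 2, 7, 2, 7, 4, 3, 1, 3, 1, 4, 0, 2, 0, 2, 5, 6, 3, 6, 3, 4, 3]
def rw4648 : List ℕ := [3, 6, 1, 2, 5, 6, 3, 6, 3, 4, 1, 5, 2, 7, 2, 7, 4, 3, 0, 7, 2, 7, 1, 1, 1, 0, 0, 0, 0, 6]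
def rw4649 : List ℕ := [3, 6, 3, 4, 5, 5, 2, 7, 2, 7, 4, 3, 0, 7, 2, 7, 1, 1, 1, 4, 0, 0, 0, 6, 3, 6, 1, 2, 5, 6]
def rw4650 : List ℕ := [3, 1, 1, 2, 0, 0, 2, 0, 7, 2, 7, 1, 7, 2, 7, 2, 3, 3, 6, 3, 6, 0, 6, 3, 6, 1]
def rw4651 : List ℕ := [7, 1, 1, 0, 0, 0, 6, 3, 6, 1, 3, 0, 6, 3, 6, 2, 1, 3, 7, 2, 7, 1, 2, 0, 7, 2]
def rw4652 : List ℕ := [2, 7, 1, 7, 1, 3, 1, 3, 1, 6, 0, 2, 0, 2, 0, 6, 0, 6, 3, 6, 0, 6, 7, 7, 1, 7]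
def rw4653 : List ℕ := [7, 2, 7, 4, 1, 5, 6, 3, 6, 3, 4, 3, 6, 3, 6, 3, 1, 0, 0, 2, 7, 2, 7, 2, 5, 2]
def rw4654 : List ℕ := [2, 5, 0, 6, 3, 6, 2, 5, 2, 1, 3, 4, 3, 7, 2, 7, 1, 4, 3, 6, 3, 6, 5, 1, 0, 0, 4, 7, 2, 7]
def rw4655 : List ℕ := [7, 2, 7, 1, 1, 0, 0, 0, 6, 3, 6, 1, 1, 5, 2, 7, 2, 7, 4, 3, 1, 2, 5, 6, 3, 6, 3, 4, 0, 0]
def rw4656 : List ℕ := [2, 7, 2, 5, 0, 5, 1, 7, 2, 7, 2, 2, 1, 0, 0, 3, 3, 6, 3, 6, 0, 4, 1, 4, 3, 6, 3, 6, 1, 7]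
def rw4657 : List ℕ := [7, 2, 7, 4, 3, 1, 3, 1, 0, 0, 2, 0, 2, 5, 6, 3, 6, 3, 4, 3, 6, 3, 6, 1, 7, 2, 7, 2, 5, 2]
def rw4658 : List ℕ := [6, 3, 6, 1, 3, 7, 2, 7, 1, 1, 2, 0, 0, 6, 3, 6, 2, 0, 7, 2, 7, 3, 1, 3, 3, 3, 2, 2, 0, 2]
def rw4659 : List ℕ := [7, 2, 7, 4, 3, 6, 3, 6, 3, 4, 3, 4, 1, 5, 2, 5, 2, 7, 2, 7, 2, 5, 6, 3, 6, 5, 1, 0, 0, 4]
def rw4660 : List ℕ := [2, 7, 4, 3, 3, 1, 0, 0, 2, 2, 5, 6, 3, 6, 3, 4, 3, 6, 3, 6, 2, 1, 3, 7, 2, 7, 2, 5, 2, 7]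
def rw4661 : List ℕ := [7, 2, 7, 1, 1, 0, 0, 0, 6, 3, 6, 1, 3, 7, 2, 7, 1, 2, 1, 3, 0, 6, 3, 6, 2, 0]
def rw4662 : List ℕ := [6, 3, 1, 2, 7, 2, 7, 1, 7, 2, 7, 2, 1, 3, 1, 0, 0, 2, 0, 3, 6, 3, 6, 0, 6, 3]
def rw4663 : List ℕ := [7, 2, 5, 2, 7, 2, 7, 4, 1, 3, 1, 1, 0, 0, 0, 2, 0, 5, 6, 3, 6, 3, 4, 3, 6, 3, 6, 1, 7, 2]
def rw4664 : List ℕ := [7, 5, 3, 1, 0, 0, 2, 4, 6, 3, 6, 4, 2, 0, 5, 7, 2, 7, 2, 1, 3, 6, 3, 6, 4, 1, 3, 5, 7, 2]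
def rw4665 : List ℕ := [2, 7, 2, 5, 3, 6, 3, 6, 4, 1, 3, 5, 7, 2, 7, 5, 3, 1, 4, 0, 2, 4, 6, 3, 6, 4, 2, 0, 5, 7]
def rw4666 : List ℕ := [6, 3, 6, 4, 2, 0, 5, 7, 2, 7, 1, 3, 1, 0, 0, 2, 0, 6, 3, 6, 4, 1, 3, 5, 7, 2, 7, 5, 1, 4]
def rw4667 : List ℕ := [4, 2, 0, 5, 7, 2, 7, 1, 3, 1, 4, 0, 2, 0, 6, 3, 6, 4, 1, 3, 5, 7, 2, 7, 5, 5, 4, 6, 3, 6]
def rw4668 : List ℕ := [7, 4, 3, 3, 1, 0, 0, 2, 2, 5, 6, 3, 6, 3, 4, 3, 6, 3, 6, 2, 1, 3, 7, 2, 7, 2, 5, 2, 7, 2]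
def rw4669 : List ℕ := [4, 2, 7, 3, 5, 2, 0, 3, 0, 4, 1, 2, 1, 1, 1, 6, 0, 0, 0, 3, 0, 5, 1, 2, 1, 3]
def rw4670 : List ℕ := [0, 4, 2, 7, 3, 5, 1, 1, 1, 3, 4, 1, 2, 1, 1, 1, 6, 0, 0, 0, 3, 0, 5, 2, 0, 0]
def rw4671 : List ℕ := [0, 0, 5, 2, 7, 3, 4, 1, 1, 3, 3, 3, 0, 5, 1, 1, 1, 6, 0, 0, 0, 4, 1, 2, 2, 2]
def rw4672 : List ℕ := [5, 7, 4, 0, 3, 1, 1, 5, 0, 3, 0, 3, 1, 1, 6, 0, 0, 2, 1, 2, 1, 4, 0, 0, 2, 1]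
def rw4673 : List ℕ := [4, 1, 3, 1, 4, 1, 3, 1, 4, 7, 5, 0, 2, 0, 5, 0, 2, 0, 5, 1, 3, 1, 6, 0, 2, 0]
def rw4674 : List ℕ := [5, 0, 5, 3, 5, 2, 7, 3, 4, 2, 4, 1, 4, 2, 4, 2, 0, 3, 1, 6, 0, 2, 1, 3, 5, 3]
def rw4675 : List ℕ := [4, 2, 2, 7, 3, 3, 5, 3, 5, 0, 5, 3, 5, 3, 3, 1, 6, 0, 2, 2, 4, 2, 4, 1, 4, 2]
def rw4676 : List ℕ := [3, 5, 7, 4, 2, 4, 1, 3, 3, 5, 3, 5, 3, 3, 1, 6, 0, 2, 2, 4, 2, 4, 2, 2, 0, 5]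
def rw4677 : List ℕ := [7, 4, 1, 0, 0, 5, 6, 3, 4, 2, 4, 4, 3, 4, 7, 1, 6, 5, 2, 5, 5, 3, 5, 2]
def rw4678 : List ℕ := [5, 6, 3, 4, 2, 4, 4, 3, 4, 7, 5, 6, 5, 2, 5, 5, 3, 5, 2, 7, 4, 1, 4, 0]
def rw4679 : List ℕ := [7, 2, 7, 1, 2, 1, 3, 0, 6, 3, 6, 2, 0, 7, 2, 7, 1, 1, 0, 0, 0, 6, 3, 6, 1, 3]
def rw4680 : List ℕ := [0, 2, 6, 4, 1, 1, 5, 5, 1, 1, 0, 0, 0, 4, 4, 0, 0, 5, 7, 3, 1, 6, 3, 3, 1, 2, 2, 7]
def rw4681 : List ℕ := [4, 1, 4, 1, 2, 0, 4, 7, 1, 3, 1, 4, 0, 2, 0, 6, 5, 1, 3, 0, 5, 0, 5, 7, 4, 5, 5, 6]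
def rw4682 : List ℕ := [0, 3, 4, 7, 1, 3, 1, 4, 0, 2, 0, 6, 5, 2, 1, 4, 1, 4, 2, 7, 4, 5, 5, 6, 3, 5, 0, 5]
def rw4683 : List ℕ := [7, 7, 6, 3, 4, 1, 3, 4, 3, 4, 7, 0, 5, 3, 1, 6, 0, 2, 4, 1, 6, 5, 2, 5, 2, 0, 5, 2]
def rw4684 : List ℕ := [7, 0, 5, 3, 1, 6, 0, 2, 4, 1, 6, 5, 2, 5, 2, 0, 5, 2, 7, 7, 6, 3, 4, 1, 3, 4, 3, 4]
def rw4685 : List ℕ := [6, 4, 1, 4, 1, 2, 0, 4, 7, 3, 1, 4, 0, 2, 6, 5, 1, 3, 0, 5, 0, 5, 7, 4, 2, 5, 3, 5]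
def rw4686 : List ℕ := [4, 7, 3, 1, 0, 0, 2, 6, 5, 2, 1, 3, 5, 0, 5, 7, 4, 2, 1, 3, 5, 6, 4, 1, 4, 2, 0, 3]
def rw4687 : List ℕ := [5, 2, 2, 4, 2, 4, 4, 7, 1, 6, 5, 5, 3, 5, 3, 3, 4, 2, 2, 7, 4, 1, 0, 0, 5, 6, 3, 3]
def rw4688 : List ℕ := [3, 3, 5, 2, 2, 4, 2, 4, 4, 7, 7, 6, 5, 5, 3, 5, 3, 3, 4, 2, 2, 7, 4, 1, 6, 0, 5, 6]
def rw4689 : List ℕ := [5, 3, 5, 3, 3, 4, 7, 1, 6, 5, 2, 2, 4, 2, 4, 4, 2, 2, 7, 4, 1, 0, 0, 5, 6, 3, 3, 5]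
def rw4690 : List ℕ := [1, 2, 1, 4, 0, 3, 0, 7, 4, 1, 6, 5, 3, 4, 3, 4, 2, 5, 5, 4, 3, 5, 2, 5, 2, 4, 7, 0, 5, 6]
def rw4691 : List ℕ := [7, 2, 7, 4, 1, 3, 1, 1, 6, 0, 0, 2, 0, 5, 6, 3, 6, 3, 4, 3, 6, 3, 6, 7, 7, 2, 7, 2, 5, 2]
def rw4692 : List ℕ := [7, 2, 2, 6, 3, 6, 1, 7, 2, 7, 3, 3, 6, 3, 6, 0, 4, 1, 4, 3, 1, 0, 0, 2, 5, 0, 5, 1, 7, 2]
def rw4693 : List ℕ := [2, 7, 2, 5, 0, 5, 1, 7, 2, 7, 2, 2, 1, 4, 0, 3, 3, 6, 3, 6, 0, 4, 1, 4, 3, 6, 3, 6, 5, 7]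
def rw4694 : List ℕ := [7, 2, 7, 4, 1, 5, 6, 3, 6, 3, 4, 3, 1, 7, 2, 7, 1, 3, 1, 0, 0, 2, 0, 6, 3, 6, 0, 2, 5, 2]
def rw4695 : List ℕ := [7, 2, 7, 4, 5, 5, 6, 3, 6, 3, 4, 3, 1, 7, 2, 7, 1, 3, 1, 4, 0, 2, 0, 6, 3, 6, 0, 2, 5, 2]
def rw4696 : List ℕ := [3, 6, 0, 2, 5, 2, 7, 2, 7, 4, 7, 5, 6, 3, 6, 3, 4, 3, 1, 7, 2, 7, 1, 3, 1, 6, 0, 2, 0, 6]
def rw4697 : List ℕ := [4, 2, 2, 4, 2, 0, 5, 5, 7, 3, 1, 4, 0, 2, 6, 4, 4, 1, 3, 5, 3, 3, 5, 2, 2, 7, 5, 6, 3, 3]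
def rw4698 : List ℕ := [3, 6, 2, 0, 7, 2, 7, 1, 2, 2, 1, 3, 1, 0, 0, 2, 0, 3, 3, 0, 6, 3, 6, 1, 3, 7, 2, 7, 1, 6]
def rw4699 : List ℕ := [0, 3, 4, 0, 3, 4, 7, 1, 6, 5, 2, 1, 5, 2, 1, 2, 2, 2, 5, 7, 3, 1, 0, 0, 2, 6, 4, 3, 3, 3]
def rw4700 : List ℕ := [2, 7, 1, 2, 1, 0, 0, 3, 0, 6, 3, 6, 2, 2, 5, 6, 3, 6, 3, 4, 1, 5, 2, 7, 2, 7, 4, 3, 3, 7]
def rw4701 : List ℕ := [6, 0, 2, 1, 6, 1, 4, 4, 6, 3, 6, 2, 1, 1, 0, 0, 0, 3, 7, 2, 7, 5, 5, 0, 7, 0, 3, 1, 7, 1]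
def rw4702 : List ℕ := [7, 0, 3, 1, 7, 7, 6, 0, 2, 1, 6, 1, 4, 4, 6, 3, 6, 2, 1, 1, 6, 0, 0, 3, 7, 2, 7, 5, 5, 0]
def rw4703 : List ℕ := [4, 1, 4, 2, 5, 7, 7, 6, 4, 3, 5, 0, 5, 5, 3, 0, 5, 2, 7, 3, 1, 6, 0, 2, 6, 3, 4, 1, 2, 4]
def rw4704 : List ℕ := [2, 7, 4, 3, 6, 3, 6, 3, 4, 3, 4, 5, 5, 2, 5, 2, 7, 2, 7, 2, 5, 6, 3, 6, 5, 1, 4, 0, 4, 7]
def rw4705 : List ℕ := [7, 1, 1, 1, 4, 0, 0, 0, 6, 3, 6, 2, 0, 7, 2, 7, 2, 5, 3, 6, 3, 6, 1, 3, 7, 2]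
def rw4706 : List ℕ := [7, 1, 2, 1, 3, 0, 6, 0, 6, 3, 6, 0, 6, 0, 3, 1, 0, 0, 2, 1, 7, 1, 7, 2, 7, 1]
def rw4707 : List ℕ := [2, 7, 2, 5, 3, 6, 3, 6, 2, 0, 7, 2, 7, 1, 2, 1, 4, 0, 3, 0, 6, 3, 6, 1, 3, 7]
def rw4708 : List ℕ := [7, 3, 4, 3, 4, 7, 2, 7, 3, 4, 3, 2, 2, 5, 2, 6, 3, 6, 5, 2, 5, 2, 6, 3, 6, 5, 3, 4, 7, 2]
def rw4709 : List ℕ := [1, 2, 0, 2, 7, 2, 7, 2, 5, 3, 6, 3, 6, 3, 1, 3, 0, 7, 2, 7, 1, 1, 1, 4, 0, 0, 0, 6, 3, 6]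
def rw4710 : List ℕ := [0, 2, 2, 2, 7, 3, 3, 3, 1, 3, 0, 3, 1, 6, 0, 2, 1, 2]
def rw4711 : List ℕ := [0, 2, 1, 2, 2, 7, 3, 3, 0, 3, 1, 3, 3, 0, 3, 1, 6, 0, 2, 1, 2, 2]
def rw4712 : List ℕ := [3, 3, 1, 3, 0, 3, 3, 0, 2, 7, 3, 1, 2, 2, 1, 2, 0, 2, 2, 1, 1, 1, 6, 0, 0, 0]
def rw4713 : List ℕ := [3, 0, 2, 5, 0, 3, 3, 7, 2, 2, 1, 4, 3, 1, 2, 1, 5, 3, 1, 1, 6, 0, 0, 2, 4, 0]
def rw4714 : List ℕ := [2, 1, 3, 4, 1, 2, 2, 2, 7, 3, 3, 3, 0, 5, 2, 0, 3, 0, 4, 1, 1, 6, 0, 0, 5, 1]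
def rw4715 : List ℕ := [3, 5, 0, 5, 0, 3, 1, 6, 0, 2, 1, 4, 1, 4, 2, 4, 1, 4, 1, 2, 7, 3, 0, 5, 0, 5]
def rw4716 : List ℕ := [4, 2, 4, 1, 4, 1, 3, 3, 1, 6, 0, 2, 2, 0, 5, 0, 5, 3, 5, 0, 5, 2, 7, 3, 4, 1]
def rw4717 : List ℕ := [2, 7, 1, 7, 2, 7, 1, 6, 0, 6, 3, 6, 0, 6, 3, 6, 7, 7]
def rw4718 : List ℕ := [2, 7, 2, 7, 3, 6, 3, 6, 0, 6, 3, 6, 1, 3, 1, 1, 6, 0, 0, 2, 0, 7, 2, 7, 1, 7]
def rw4719 : List ℕ := [0, 3, 1, 7, 1, 7, 2, 7, 1, 7, 1, 6, 0, 6, 3, 6, 0, 6, 0, 2, 1, 3, 1, 0, 0, 2]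
def rw4720 : List ℕ := [0, 2, 6, 1, 3, 7, 3, 1, 6, 2, 0, 7, 7, 6, 1, 3, 7, 0, 2, 6, 2, 0, 7, 3, 1, 6]
def rw4721 : List ℕ := [2, 7, 1, 2, 0, 6, 3, 6, 2, 4, 7, 2, 7, 1, 5, 3, 3, 2, 4, 0, 6, 3, 6, 5, 3, 7]
def rw4722 : List ℕ := [7, 4, 1, 3, 1, 2, 0, 2, 0, 5, 6, 3, 5, 0, 5, 0, 3, 4, 7, 3, 6, 5, 2, 1, 4, 1, 4, 2]
def rw4723 : List ℕ := [5, 7, 4, 1, 3, 1, 2, 0, 2, 0, 5, 6, 4, 1, 4, 2, 0, 3, 4, 7, 3, 6, 5, 2, 1, 3, 5, 0]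
def rw4724 : List ℕ := [5, 6, 3, 4, 1, 3, 4, 3, 4, 7, 0, 5, 3, 1, 4, 0, 2, 4, 1, 6, 5, 2, 5, 2, 0, 5, 2, 7]
def rw4725 : List ℕ := [2, 4, 4, 7, 3, 6, 5, 5, 3, 5, 3, 3, 4, 2, 2, 7, 4, 1, 2, 0, 5, 6, 3, 3, 5, 2, 2, 4]
def rw4726 : List ℕ := [6, 3, 6, 2, 1, 3, 7, 2, 7, 0, 2, 0, 3, 3, 7, 2, 7, 1, 1, 0, 0, 0, 6, 3, 6, 2, 2, 1, 3, 1]
def rw4727 : List ℕ := [0, 6, 3, 6, 2, 2, 1, 3, 1, 6, 3, 6, 2, 5, 3, 7, 2, 7, 0, 2, 0, 3, 3, 7, 2, 7, 1, 1, 4, 0]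
def rw4728 : List ℕ := [3, 6, 3, 6, 1, 2, 2, 3, 3, 3, 0, 7, 2, 7, 2, 0, 3, 7, 2, 7, 3, 1, 2, 0, 2, 6, 3, 6, 2, 1]
def rw4729 : List ℕ := [6, 2, 0, 7, 2, 5, 3, 6, 1, 3, 7, 0, 2, 6, 2, 0, 7, 0, 3, 1, 4, 0, 2, 1, 6, 1, 3, 7, 3, 1]
def rw4730 : List ℕ := [3, 1, 4, 1, 3, 5, 0, 2, 6, 3, 3, 3, 1, 0, 0, 2, 2, 2, 7, 3, 1, 4, 2, 0, 5, 0, 2, 6, 1, 7]
def rw4731 : List ℕ := [4, 2, 0, 5, 3, 1, 6, 1, 3, 1, 1, 1, 6, 0, 0, 0, 2, 0, 7, 0, 2, 4, 1, 3, 5, 6, 3, 7, 2, 7]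
def rw4732 : List ℕ := [7, 5, 1, 4, 6, 3, 6, 4, 2, 0, 5, 0, 6, 3, 6, 3, 1, 0, 0, 2, 7, 2, 7, 1, 4, 1, 3, 5, 7, 2]
def rw4733 : List ℕ := [1, 5, 1, 7, 3, 6, 0, 4, 0, 2, 5, 2, 0, 4, 7, 4, 1, 3, 1, 2, 0, 2, 0, 5, 6, 5, 1, 3, 4, 3]
def rw4734 : List ℕ := [3, 5, 1, 3, 1, 2, 0, 2, 0, 4, 2, 6, 3, 0, 2, 2, 7, 4, 1, 4, 3, 5, 0, 5, 6, 3, 3, 1, 2, 7]
def rw4735 : List ℕ := [7, 2, 7, 1, 2, 2, 2, 3, 3, 3, 3, 0, 6, 3, 6, 1, 3, 7, 2, 7, 3, 1, 2, 0, 2, 6, 3, 6, 2, 0]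
def rw4736 : List ℕ := [6, 3, 6, 4, 2, 0, 5, 7, 2, 7, 2, 1, 3, 6, 3, 6, 4, 1, 3, 5, 7, 2, 7, 5, 3, 1, 0, 0, 2, 4]
def rw4737 : List ℕ := [3, 5, 6, 3, 3, 5, 3, 7, 2, 4, 2, 2, 7, 4, 2, 2, 7, 0, 7, 2, 7, 1, 6, 0, 6, 3, 6, 1, 6, 3]
def rw4738 : List ℕ := [2, 0, 7, 0, 2, 6, 1, 3, 7, 2, 7, 3, 6, 2, 0, 7, 3, 1, 6, 1, 3, 7, 3, 3, 1, 6, 0, 2, 2, 6]
def rw4739 : List ℕ := [7, 1, 3, 1, 0, 0, 2, 0, 6, 3, 6, 4, 1, 3, 5, 7, 2, 7, 5, 1, 4, 6, 3, 6, 4, 2, 0, 5, 7, 2]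
def rw4740 : List ℕ := [6, 3, 3, 1, 2, 7, 3, 5, 5, 4, 2, 6, 3, 0, 2, 2, 7, 4, 1, 4, 1, 3, 1, 4, 0, 2, 0, 5, 0, 5]
def rw4741 : List ℕ := [4, 1, 3, 5, 3, 3, 5, 2, 2, 7, 3, 6, 3, 3, 4, 2, 2, 4, 2, 0, 5, 5, 7, 3, 1, 2, 0, 2, 6, 4]
def rw4742 : List ℕ := [2, 7, 4, 3, 4, 0, 6, 3, 6, 5, 1, 2, 0, 4, 7, 2, 7, 1, 5, 2, 5, 6, 3, 6, 3, 4, 3, 5, 2, 7]
def rw4743 : List ℕ := [3, 1, 6, 4, 2, 4, 1, 3, 0, 5, 3, 1, 0, 0, 2, 4, 1, 2, 0, 5, 3, 5, 7, 0, 2, 6, 3, 1, 2, 7]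
def rw4744 : List ℕ := [5, 3, 5, 3, 1, 4, 1, 6, 3, 3, 2, 7, 0, 5, 0, 2, 4, 2, 4, 2, 6, 3, 3, 1, 2, 0, 2, 2, 7, 3]
def rw4745 : List ℕ := [5, 5, 4, 1, 1, 7, 7, 1, 2, 7, 5, 2, 5, 1, 1, 1, 4, 0, 0, 0, 4, 3, 4, 6, 3, 0, 6, 6, 0, 0]
def rw4746 : List ℕ := [7, 3, 1, 3, 3, 7, 2, 2, 0, 2, 6, 3, 6, 1, 3, 7, 2, 7, 1, 1, 6, 0, 0, 6, 3, 6, 2, 0, 7, 2]
def rw4747 : List ℕ := [4, 0, 3, 4, 7, 7, 6, 5, 2, 1, 5, 2, 1, 2, 2, 2, 5, 7, 3, 1, 6, 0, 2, 6, 4, 3, 3, 3, 0, 3]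
def rw4748 : List ℕ := [4, 1, 2, 4, 4, 1, 4, 2, 5, 7, 3, 6, 4, 3, 5, 0, 5, 5, 3, 0, 5, 2, 7, 3, 1, 2, 0, 2, 6, 3]
def rw4749 : List ℕ := [2, 2, 2, 7, 3, 3, 3, 1, 3, 0, 3, 1, 6, 0, 2, 1, 2, 0]
def rw4750 : List ℕ := [0, 2, 1, 2, 1, 3, 1, 1, 6, 0, 0, 2, 0, 3, 0, 3, 1, 3, 3, 7, 2, 2]
def rw4751 : List ℕ := [2, 2, 2, 2, 0, 2, 1, 1, 6, 0, 0, 3, 1, 3, 3, 3, 3, 1, 3, 7, 2, 0]
def rw4752 : List ℕ := [2, 1, 2, 7, 3, 0, 3, 3, 1, 3, 0, 3, 3, 1, 6, 0, 2, 2, 1, 2, 0, 2]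
def rw4753 : List ℕ := [2, 0, 2, 2, 1, 2, 1, 3, 1, 1, 6, 0, 0, 2, 0, 3, 0, 3, 3, 1, 3, 0, 3, 7, 2, 1]
def rw4754 : List ℕ := [1, 4, 2, 0, 4, 1, 4, 1, 4, 7, 5, 0, 5, 0, 5, 1, 3, 5, 0, 5, 3, 1, 6, 0, 2, 4]
def rw4755 : List ℕ := [5, 3, 4, 7, 2, 7, 1, 5, 0, 7, 2, 7, 1, 1, 2, 0, 0, 6, 3, 6, 1, 4, 0, 6, 3, 6]
def rw4756 : List ℕ := [7, 1, 1, 2, 0, 0, 6, 3, 6, 1, 4, 7, 2, 7, 1, 5, 3, 4, 0, 6, 3, 6, 5, 0, 7, 2]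
def rw4757 : List ℕ := [6, 3, 7, 2, 7, 0, 2, 4, 1, 3, 5, 6, 3, 3, 1, 6, 0, 2, 2, 7, 4, 2, 0, 5, 3, 1]
def rw4758 : List ℕ := [5, 3, 4, 2, 2, 7, 0, 2, 6, 3, 3, 5, 3, 1, 2, 0, 2, 4, 2, 2, 7, 3, 1, 6, 3, 3]
def rw4759 : List ℕ := [7, 0, 2, 6, 3, 3, 5, 3, 1, 6, 0, 2, 4, 2, 2, 7, 3, 1, 6, 3, 3, 5, 7, 4, 2, 2]
def rw4760 : List ℕ := [5, 7, 3, 1, 0, 0, 2, 6, 4, 2, 4, 2, 5, 0, 5, 2, 7, 1, 6, 3, 4, 1, 4, 3, 5, 3]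
def rw4761 : List ℕ := [3, 6, 1, 3, 7, 2, 7, 2, 3, 3, 6, 3, 6, 2, 0, 7, 2, 7, 1, 2, 1, 2, 0, 3, 0, 6]
def rw4762 : List ℕ := [7, 2, 7, 2, 7, 3, 6, 3, 6, 2, 0, 7, 2, 7, 1, 2, 1, 6, 0, 3, 0, 6, 3, 6, 1, 3]
def rw4763 : List ℕ := [4, 2, 7, 3, 5, 6, 4, 1, 4, 1, 2, 0, 4, 7, 3, 1, 6, 0, 2, 6, 5, 1, 3, 0, 5, 0, 5, 7]
def rw4764 : List ℕ := [3, 6, 5, 6, 3, 7, 2, 7, 4, 7, 2, 7, 0, 2, 0, 7, 4, 1, 3, 1, 6, 0, 2, 0, 5, 6, 1, 3, 1, 6]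
def rw4765 : List ℕ := [2, 7, 4, 3, 3, 2, 5, 6, 3, 6, 3, 4, 0, 0, 7, 2, 7, 1, 1, 2, 0, 0, 6, 3, 6, 1, 1, 5, 2, 7]
def rw4766 : List ℕ := [2, 7, 2, 7, 4, 3, 5, 2, 5, 6, 3, 6, 3, 4, 0, 0, 7, 2, 7, 1, 1, 4, 0, 0, 6, 3, 6, 1, 1, 5]
def rw4767 : List ℕ := [0, 2, 4, 2, 6, 3, 7, 2, 7, 3, 5, 3, 1, 4, 1, 4, 2, 6, 3, 3, 1, 6, 0, 2, 2, 7, 3, 5, 0, 5]
def rw4768 : List ℕ := [6, 1, 3, 1, 1, 1, 6, 0, 0, 0, 2, 0, 7, 0, 2, 4, 1, 3, 5, 6, 3, 7, 2, 7, 4, 2, 0, 5, 3, 1]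
def rw4769 : List ℕ := [2, 0, 2, 7, 0, 2, 4, 1, 3, 5, 6, 3, 7, 2, 7, 4, 2, 0, 5, 3, 1, 6, 3, 1, 3, 1, 1, 6, 0, 0]
def rw4770 : List ℕ := [2, 7, 1, 2, 2, 2, 1, 3, 3, 3, 0, 6, 3, 6, 1, 3, 7, 2, 7, 3, 1, 0, 0, 2, 6, 3, 6, 2, 0, 7]
def rw4771 : List ℕ := [7, 2, 2, 6, 3, 6, 3, 7, 2, 7, 3, 3, 6, 3, 6, 0, 4, 1, 4, 3, 1, 2, 0, 2, 5, 0, 5, 1, 7, 2]
def rw4772 : List ℕ := [7, 0, 2, 6, 3, 0, 5, 3, 5, 2, 4, 1, 2, 7, 3, 1, 6, 0, 2, 5, 1, 3, 1, 4, 0, 2, 0, 4, 3, 1]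
def rw4773 : List ℕ := [7, 7, 6, 4, 2, 2, 4, 1, 4, 4, 2, 5, 2, 7, 3, 1, 6, 0, 2, 6, 3, 4, 3, 5, 5, 0, 5, 3, 3, 5]
def rw4774 : List ℕ := [2, 7, 2, 2, 1, 2, 0, 3, 3, 6, 3, 6, 0, 4, 1, 4, 3, 6, 3, 6, 3, 7, 2, 7, 2, 5, 0, 5, 1, 7]
def rw4775 : List ℕ := [0, 2, 5, 6, 0, 2, 5, 0, 7, 2, 7, 1, 1, 2, 0, 0, 6, 3, 6, 1, 4, 3, 1, 7, 4, 3, 1, 7, 3, 6]
def rw4776 : List ℕ := [2, 5, 6, 0, 2, 5, 0, 7, 2, 7, 1, 1, 4, 0, 0, 6, 3, 6, 1, 4, 3, 1, 7, 4, 3, 1, 7, 5, 6, 0]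
def rw4777 : List ℕ := [4, 0, 4, 0, 6, 3, 0, 4, 0, 4, 0, 6, 3, 1, 2, 7, 1, 5, 1, 5, 1, 2, 7, 1, 5, 1, 5, 1, 0, 0]
def rw4778 : List ℕ := [7, 1, 5, 1, 5, 1, 6, 0, 4, 0, 4, 0, 6, 3, 0, 4, 0, 4, 0, 6, 3, 7, 2, 7, 1, 5, 1, 5, 1, 2]
def rw4779 : List ℕ := [7, 0, 5, 0, 4, 2, 4, 2, 4, 6, 3, 3, 1, 4, 0, 2, 2, 7, 5, 3, 5, 3, 5, 1, 4, 1, 6, 3, 5, 2]
def rw4780 : List ℕ := [6, 3, 6, 0, 2, 5, 0, 5, 6, 3, 6, 3, 3, 1, 4, 0, 2, 2, 7, 2, 7, 4, 1, 4, 3, 1, 7, 2, 7, 5]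
def rw4781 : List ℕ := [7, 3, 5, 7, 4, 2, 6, 3, 0, 2, 2, 7, 4, 1, 4, 1, 3, 1, 6, 0, 2, 0, 5, 0, 5, 6, 3, 3, 1, 2]
def rw4782 : List ℕ := [1, 7, 4, 2, 0, 5, 1, 4, 1, 3, 5, 6, 0, 2, 2, 2, 7, 3, 1, 3, 1, 0, 0, 2, 0, 2, 6, 3, 3, 3]
def rw4783 : List ℕ := [2, 7, 2, 0, 4, 0, 6, 3, 6, 5, 3, 1, 0, 0, 2, 4, 7, 2, 7, 1, 5, 1, 3, 6, 3, 6, 2, 1, 3, 7]
def rw4784 : List ℕ := [4, 2, 4, 1, 3, 0, 5, 3, 1, 0, 0, 2, 4, 1, 2, 0, 5, 3, 5, 7, 0, 2, 6, 3, 1, 2, 7, 3, 1, 6]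
def rw4785 : List ℕ := [3, 5, 3, 1, 4, 1, 6, 3, 7, 2, 7, 0, 5, 0, 2, 4, 2, 4, 2, 6, 3, 3, 1, 6, 0, 2, 2, 7, 3, 5]
def rw4786 : List ℕ := [4, 1, 6, 0, 5, 2, 7, 1, 2, 7, 0, 5, 3, 5, 6, 6, 3, 7, 2, 7, 7, 4, 2, 4, 1, 6, 3, 0, 6, 3]
def rw4787 : List ℕ := [2, 7, 2, 0, 3, 1, 4, 0, 2, 1, 3, 6, 3, 6, 2, 4, 0, 6, 3, 6, 5, 5, 4, 7, 2, 7, 1, 5, 3, 7]
def rw4788 : List ℕ := [3, 0, 3, 1, 7, 0, 2, 4, 2, 1, 3, 1, 0, 0, 2, 0, 3, 5, 3, 1, 6, 0, 2, 1, 2, 7, 4, 1, 5, 6]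
def rw4789 : List ℕ := [4, 2, 4, 1, 3, 0, 5, 0, 3, 1, 4, 0, 2, 1, 4, 1, 2, 0, 5, 3, 5, 7, 0, 2, 6, 5, 7, 3, 1, 6]
def rw4790 : List ℕ := [1, 7, 1, 3, 1, 1, 0, 0, 0, 2, 0, 6, 0, 2, 1, 2, 7, 4, 2, 0, 5, 1, 4, 1, 3, 5, 6, 3, 0, 3]
def rw4791 : List ℕ := [2, 7, 4, 3, 0, 7, 2, 7, 1, 1, 1, 2, 0, 0, 0, 6, 3, 6, 1, 2, 5, 6, 3, 6, 3, 4, 3, 5, 2, 7]
def rw4792 : List ℕ := [5, 2, 5, 2, 7, 2, 7, 2, 5, 6, 3, 6, 5, 1, 0, 0, 4, 7, 2, 7, 4, 3, 6, 3, 6, 3, 4, 3, 4, 1]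
def rw4793 : List ℕ := [1, 3, 7, 3, 1, 6, 2, 0, 7, 3, 5, 2, 6, 1, 3, 7, 0, 2, 6, 2, 0, 7, 1, 3, 1, 4, 0, 2, 0, 6]
def rw4794 : List ℕ := [3, 6, 3, 4, 2, 6, 5, 7, 3, 5, 2, 7, 2, 7, 3, 3, 1, 7, 0, 3, 1, 4, 0, 2, 1, 6, 0, 2, 2, 6]
def rw4795 : List ℕ := [5, 1, 6, 0, 4, 0, 4, 0, 4, 0, 4, 0, 4, 7, 5, 1, 5, 1, 5, 1, 5, 1]
def rw4796 : List ℕ := [5, 2, 0, 3, 0, 4, 1, 2, 1, 1, 1, 6, 0, 0, 0, 3, 0, 5, 1, 2, 1, 3, 4, 2, 7, 3]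
def rw4797 : List ℕ := [4, 3, 3, 4, 7, 5, 2, 2, 5, 1, 1, 5, 2, 2, 5, 1, 1, 6, 0, 0, 4, 3, 3, 4, 0, 0]
def rw4798 : List ℕ := [0, 3, 0, 4, 1, 1, 6, 0, 0, 5, 1, 2, 1, 3, 4, 1, 2, 2, 2, 7, 3, 3, 3, 0, 5, 2]
def rw4799 : List ℕ := [1, 4, 1, 3, 3, 1, 6, 0, 2, 2, 0, 5, 0, 5, 3, 5, 0, 5, 2, 7, 3, 4, 1, 4, 2, 4]
def rw4800 : List ℕ := [4, 3, 1, 6, 0, 2, 5, 2, 1, 2, 1, 2, 2, 2, 5, 5, 7, 4, 4, 3, 3, 3, 0, 3, 0, 3]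
def rw4801 : List ℕ := [5, 5, 1, 6, 0, 4, 4, 2, 2, 5, 0, 4, 4, 2, 2, 5, 7, 4, 3, 3, 5, 5, 1, 4, 3, 3]
def rw4802 : List ℕ := [6, 5, 2, 5, 5, 3, 5, 2, 7, 4, 1, 2, 0, 5, 6, 3, 4, 2, 4, 4, 3, 4, 7, 3]
def rw4803 : List ℕ := [4, 2, 4, 4, 3, 4, 7, 7, 6, 5, 2, 5, 5, 3, 5, 2, 7, 4, 1, 6, 0, 5, 6, 3]
def rw4804 : List ℕ := [6, 2, 0, 7, 2, 7, 2, 7, 3, 6, 3, 6, 1, 3, 7, 2, 7, 1, 1, 1, 6, 0, 0, 0, 6, 3]
def rw4805 : List ℕ := [7, 4, 3, 1, 7, 4, 7, 2, 7, 1, 3, 1, 0, 0, 2, 0, 6, 3, 6, 5, 6, 0, 2, 5, 6, 1]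
def rw4806 : List ℕ := [7, 4, 2, 0, 5, 3, 1, 6, 3, 3, 3, 1, 2, 0, 2, 2, 2, 7, 0, 2, 4, 1, 3, 5, 6, 3]
def rw4807 : List ℕ := [0, 5, 3, 1, 6, 3, 3, 3, 1, 4, 0, 2, 2, 2, 7, 0, 2, 4, 1, 3, 5, 6, 5, 7, 4, 2]
def rw4808 : List ℕ := [3, 6, 3, 1, 0, 0, 2, 7, 2, 7, 2, 5, 2, 7, 2, 7, 4, 1, 5, 6, 3, 6, 3, 4, 3, 6]
def rw4809 : List ℕ := [3, 6, 3, 4, 3, 6, 3, 6, 3, 1, 4, 0, 2, 7, 2, 7, 2, 5, 2, 7, 2, 7, 4, 5, 5, 6]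
def rw4810 : List ℕ := [3, 6, 5, 3, 7, 2, 7, 1, 6, 0, 6, 3, 6, 2, 4, 7, 2, 7, 1, 5, 3, 7, 2, 4, 0, 6]
def rw4811 : List ℕ := [4, 4, 4, 1, 5, 5, 5, 7, 3, 1, 6, 3, 3, 5, 5, 1, 1, 0, 0, 0, 4, 4, 2, 2, 7, 0, 2, 6]
def rw4812 : List ℕ := [5, 1, 1, 0, 0, 0, 4, 7, 7, 2, 7, 1, 6, 5, 5, 0, 5, 1, 4, 1, 4, 4, 7, 0, 6, 3, 6, 6]
def rw4813 : List ℕ := [6, 6, 2, 0, 5, 5, 4, 1, 3, 7, 7, 1, 7, 2, 6, 2, 4, 1, 1, 4, 0, 0, 5, 3, 7, 3, 6, 0]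
def rw4814 : List ℕ := [2, 6, 2, 0, 5, 5, 4, 1, 3, 7, 3, 6, 0, 6, 6, 2, 4, 1, 1, 4, 0, 0, 5, 3, 7, 7, 1, 7]
def rw4815 : List ℕ := [6, 2, 0, 5, 7, 4, 1, 3, 7, 3, 6, 0, 6, 6, 2, 4, 1, 1, 6, 0, 0, 5, 3, 7, 7, 1, 7, 2]
def rw4816 : List ℕ := [6, 4, 1, 4, 1, 2, 0, 4, 7, 3, 6, 5, 1, 3, 0, 5, 0, 5, 7, 4, 1, 3, 1, 2, 0, 2, 0, 5]
def rw4817 : List ℕ := [5, 7, 4, 1, 3, 1, 6, 0, 2, 0, 5, 6, 4, 1, 4, 1, 2, 0, 4, 7, 7, 6, 5, 1, 3, 0, 5, 0]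
def rw4818 : List ℕ := [7, 3, 6, 6, 3, 3, 6, 3, 6, 4, 2, 7, 1, 3, 1, 2, 0, 2, 0, 6, 3, 5, 7, 2, 7, 2, 2, 7]
def rw4819 : List ℕ := [7, 4, 3, 5, 6, 4, 1, 4, 1, 2, 0, 4, 7, 1, 3, 1, 2, 0, 2, 0, 6, 5, 1, 3, 0, 5, 0, 5]
def rw4820 : List ℕ := [2, 7, 4, 3, 5, 6, 3, 5, 0, 5, 0, 3, 4, 7, 1, 3, 1, 2, 0, 2, 0, 6, 5, 2, 1, 4, 1, 4]
def rw4821 : List ℕ := [3, 5, 6, 3, 3, 1, 6, 0, 2, 2, 7, 4, 2, 6, 5, 2, 5, 2, 0, 5, 7, 4, 1, 3, 4, 3, 4, 7]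
def rw4822 : List ℕ := [6, 5, 7, 2, 5, 2, 1, 4, 1, 4, 6, 3, 4, 3, 1, 4, 0, 2, 5, 2, 7, 5, 0, 5, 0, 3, 4, 3]
def rw4823 : List ℕ := [1, 4, 2, 7, 4, 3, 1, 2, 0, 2, 5, 6, 3, 5, 0, 5, 0, 3, 4, 7, 2, 3, 3, 6, 5, 2, 1, 4]
def rw4824 : List ℕ := [4, 1, 4, 1, 2, 0, 4, 7, 2, 1, 3, 6, 5, 1, 3, 0, 5, 0, 5, 7, 4, 3, 1, 0, 0, 2, 5, 6]
def rw4825 : List ℕ := [4, 2, 1, 3, 5, 6, 4, 1, 4, 1, 2, 0, 4, 7, 3, 1, 0, 0, 2, 6, 5, 1, 3, 0, 5, 0, 5, 7]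
def rw4826 : List ℕ := [0, 0, 7, 2, 7, 1, 1, 0, 0, 0, 6, 3, 6, 1, 1, 5, 2, 7, 2, 7, 4, 3, 1, 2, 5, 6, 3, 6, 3, 4]
def rw4827 : List ℕ := [7, 2, 5, 2, 5, 2, 6, 0, 4, 3, 4, 3, 3, 1, 4, 0, 2, 2, 5, 2, 5, 1, 7, 3, 4, 3, 4, 3, 6, 5]
def rw4828 : List ℕ := [6, 0, 4, 3, 4, 3, 3, 1, 6, 0, 2, 2, 5, 2, 5, 1, 7, 3, 4, 3, 4, 3, 6, 7, 7, 2, 5, 2, 5, 2]
def rw4829 : List ℕ := [1, 2, 2, 7, 3, 3, 0, 7, 2, 7, 2, 0, 3, 7, 2, 7, 3, 1, 6, 0, 2, 6, 3, 6, 2, 1, 3, 6, 3, 6]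
def rw4830 : List ℕ := [0, 2, 6, 3, 3, 3, 1, 2, 0, 2, 2, 2, 7, 3, 1, 4, 2, 0, 5, 0, 2, 6, 3, 7, 3, 1, 4, 1, 3, 5]
def rw4831 : List ℕ := [3, 1, 6, 0, 2, 5, 2, 7, 3, 4, 3, 1, 7, 0, 2, 6, 3, 0, 5, 3, 3, 1, 6, 0, 2, 2, 4, 1, 2, 7]
def rw4832 : List ℕ := [7, 5, 6, 0, 4, 0, 2, 5, 2, 0, 4, 7, 4, 1, 3, 1, 4, 0, 2, 0, 5, 6, 5, 1, 3, 4, 3, 1, 5, 1]
def rw4833 : List ℕ := [6, 0, 2, 5, 7, 4, 3, 1, 7, 0, 2, 6, 3, 0, 5, 1, 3, 1, 1, 6, 0, 0, 2, 0, 4, 1, 2, 7, 3, 1]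
def rw4834 : List ℕ := [3, 6, 2, 0, 7, 2, 7, 1, 2, 2, 2, 1, 3, 3, 3, 0, 6, 3, 6, 1, 3, 7, 2, 7, 3, 1, 0, 0, 2, 6]
def rw4835 : List ℕ := [3, 6, 2, 0, 7, 2, 7, 1, 2, 2, 2, 7, 3, 3, 3, 0, 6, 3, 6, 1, 3, 7, 2, 7, 3, 1, 6, 0, 2, 6]
def rw4836 : List ℕ := [7, 4, 2, 0, 5, 1, 3, 1, 2, 0, 2, 0, 4, 1, 3, 5, 6, 3, 0, 3, 1, 7, 3, 3, 2, 6, 0, 2, 1, 2]
def rw4837 : List ℕ := [6, 3, 6, 0, 4, 1, 4, 3, 1, 0, 0, 2, 5, 0, 5, 1, 7, 2, 7, 2, 2, 6, 3, 6, 1, 7, 2, 7, 3, 3]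
def rw4838 : List ℕ := [4, 2, 4, 1, 7, 3, 1, 6, 3, 4, 1, 4, 3, 1, 6, 0, 2, 5, 0, 5, 2, 7, 0, 2, 6, 0, 5, 3, 5, 7]
def rw4839 : List ℕ := [3, 6, 0, 4, 1, 4, 3, 6, 3, 6, 3, 7, 2, 7, 2, 5, 0, 5, 1, 7, 2, 7, 2, 2, 1, 2, 0, 3, 3, 6]
def rw4840 : List ℕ := [6, 4, 4, 1, 4, 2, 2, 4, 1, 2, 0, 5, 3, 3, 5, 0, 5, 5, 7, 4, 1, 3, 5, 6, 3, 7, 4, 2, 0, 5]
def rw4841 : List ℕ := [7, 4, 1, 3, 5, 6, 7, 7, 4, 2, 0, 5, 6, 4, 4, 1, 4, 2, 2, 4, 1, 6, 0, 5, 3, 3, 5, 0, 5, 5]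
def rw4842 : List ℕ := [6, 0, 2, 5, 3, 1, 4, 1, 2, 7, 0, 3, 1, 6, 0, 2, 1, 6, 3, 0, 5, 0, 2, 4, 3, 1, 7, 2, 7, 3]
def rw4843 : List ℕ := [7, 3, 6, 3, 3, 4, 2, 2, 4, 2, 0, 5, 5, 7, 3, 1, 2, 0, 2, 6, 4, 4, 1, 3, 5, 3, 3, 5, 2, 2]
def rw4844 : List ℕ := [2, 0, 4, 0, 6, 3, 6, 5, 3, 1, 4, 0, 2, 4, 7, 2, 7, 1, 5, 1, 3, 6, 3, 6, 2, 5, 3, 7, 2, 7]
def rw4845 : List ℕ := [0, 2, 1, 2, 7, 4, 1, 1, 2, 0, 0, 5, 6, 3, 0, 3, 1, 7, 0, 2, 4, 0, 2, 3, 3, 1, 5, 3, 1, 6]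
def rw4846 : List ℕ := [1, 3, 0, 5, 3, 1, 6, 0, 2, 4, 1, 2, 0, 5, 3, 5, 7, 0, 2, 6, 3, 7, 2, 7, 3, 1, 6, 4, 2, 4]
def rw4847 : List ℕ := [6, 3, 6, 3, 4, 2, 6, 3, 0, 2, 6, 7, 7, 3, 1, 2, 7, 3, 5, 2, 7, 2, 7, 3, 3, 1, 6, 0, 2, 2]
def rw4848 : List ℕ := [0, 2, 5, 6, 3, 3, 1, 0, 0, 2, 2, 7, 4, 3, 1, 7, 4, 7, 2, 7, 1, 2, 1, 3, 0, 6, 3, 6, 5, 6]
def rw4849 : List ℕ := [2, 0, 2, 5, 6, 3, 6, 3, 4, 3, 1, 2, 0, 2, 5, 2, 7, 2, 7, 4, 3, 1, 3, 6, 3, 6, 3, 7, 2, 7]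
def rw4850 : List ℕ := [7, 4, 3, 1, 3, 6, 3, 6, 7, 7, 2, 7, 2, 0, 2, 5, 6, 3, 6, 3, 4, 3, 1, 6, 0, 2, 5, 2, 7, 2]
def rw4851 : List ℕ := [3, 6, 5, 5, 4, 7, 2, 7, 1, 5, 3, 7, 2, 7, 2, 0, 3, 1, 4, 0, 2, 1, 3, 6, 3, 6, 2, 4, 0, 6]
def rw4852 : List ℕ := [2, 5, 1, 6, 0, 4, 3, 4, 6, 3, 4, 4, 3, 4, 7, 4, 2, 2, 7, 3, 3, 5, 6, 5, 2, 5, 5, 2, 7, 5]
def rw4853 : List ℕ := [1, 3, 5, 7, 2, 7, 5, 2, 1, 3, 4, 6, 3, 6, 4, 2, 0, 5, 7, 2, 7, 3, 1, 0, 0, 2, 6, 3, 6, 4]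
def rw4854 : List ℕ := [6, 5, 1, 3, 4, 3, 1, 0, 0, 2, 5, 2, 0, 4, 7, 4, 2, 0, 2, 6, 0, 4, 1, 5, 1, 7, 3, 1, 3, 5]
def rw4855 : List ℕ := [3, 6, 3, 4, 2, 6, 3, 0, 2, 6, 3, 3, 1, 2, 0, 2, 2, 7, 3, 1, 2, 7, 3, 5, 2, 7, 2, 7, 3, 6]
def rw4856 : List ℕ := [6, 5, 2, 5, 2, 6, 3, 6, 5, 5, 4, 7, 2, 7, 3, 4, 3, 4, 7, 2, 7, 3, 4, 3, 4, 2, 5, 2, 6, 3]
def rw4857 : List ℕ := [2, 7, 4, 0, 6, 3, 6, 3, 1, 7, 4, 3, 5, 6, 0, 2, 7, 2, 7, 1, 5, 6, 3, 1, 3, 1, 2, 0, 2, 0]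
def rw4858 : List ℕ := [5, 2, 5, 5, 5, 2, 5, 1, 4, 0, 4, 3, 4, 4, 4, 3, 4, 7, 4, 1, 4, 2, 6, 5, 7, 3, 5, 0, 5, 6]
def rw4859 : List ℕ := [6, 5, 2, 5, 5, 5, 2, 5, 1, 6, 0, 4, 3, 4, 4, 4, 3, 4, 7, 4, 1, 4, 2, 6, 7, 7, 3, 5, 0, 5]
def rw4860 : List ℕ := [3, 6, 3, 4, 3, 4, 5, 5, 2, 5, 2, 7, 2, 7, 2, 5, 6, 3, 6, 5, 1, 4, 0, 4, 7, 2, 7, 4, 3, 6]
def rw4861 : List ℕ := [5, 6, 3, 5, 1, 4, 2, 7, 4, 1, 6, 4, 3, 4, 2, 2, 1, 2, 1, 0, 0, 3, 0, 3, 3, 5, 2, 5, 7, 0]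
def rw4862 : List ℕ := [3, 1, 6, 1, 3, 7, 0, 2, 6, 1, 3, 1, 2, 0, 2, 0, 7, 3, 1, 6, 2, 0, 7, 0, 2, 6, 2, 3, 3, 7]
def rw4863 : List ℕ := [1, 2, 0, 2, 5, 3, 1, 6, 3, 3, 3, 1, 2, 0, 2, 2, 2, 7, 0, 2, 4, 3, 1, 3, 0, 5, 6, 3, 7, 4]
def rw4864 : List ℕ := [0, 0, 0, 2, 0, 3, 3, 3, 3, 1, 3, 0]
def rw4865 : List ℕ := [3, 3, 1, 3, 3, 2, 0, 2, 2, 2, 2, 2, 0, 2, 1, 1, 1, 2, 0, 0, 0, 3, 1, 3, 3, 3]
def rw4866 : List ℕ := [1, 5, 1, 5, 1, 4, 0, 4, 0, 4, 0, 4, 0, 4, 0, 4, 5, 5, 1, 5, 1, 5]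
def rw4867 : List ℕ := [1, 4, 1, 4, 1, 4, 1, 4, 1, 2, 0, 5, 0, 5, 0, 5, 0, 5, 0, 5, 3, 4]
def rw4868 : List ℕ := [1, 4, 1, 2, 0, 5, 0, 5, 0, 5, 0, 5, 0, 5, 3, 4, 1, 4, 1, 4, 1, 4]
def rw4869 : List ℕ := [3, 1, 5, 1, 1, 2, 0, 0, 4, 0, 2, 4, 2, 2, 4, 4, 4, 3, 5, 5, 5, 3, 3, 5]
def rw4870 : List ℕ := [0, 2, 5, 0, 0, 2, 2, 2, 1, 4, 3, 5, 0, 3, 3, 3, 1, 1, 4, 3, 1, 1, 1, 2, 0, 0]
def rw4871 : List ℕ := [3, 3, 0, 0, 2, 4, 3, 1, 1, 1, 0, 0, 0, 0, 2, 5, 3, 1, 1, 2, 2, 1, 4, 1, 5, 0]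
def rw4872 : List ℕ := [0, 0, 4, 1, 2, 1, 1, 1, 6, 0, 0, 0, 3, 0, 5, 1, 1, 3, 0, 4, 2, 7, 3, 5, 1, 2]
def rw4873 : List ℕ := [2, 1, 3, 4, 2, 1, 3, 5, 2, 0, 3, 0, 4, 1, 2, 1, 1, 1, 0, 0, 0, 0, 3, 0, 5, 1]
def rw4874 : List ℕ := [3, 0, 4, 1, 2, 1, 1, 1, 6, 0, 0, 0, 3, 0, 5, 1, 2, 1, 3, 4, 2, 7, 3, 5, 2, 0]
def rw4875 : List ℕ := [1, 2, 1, 1, 1, 4, 0, 0, 0, 3, 0, 5, 2, 0, 0, 0, 4, 2, 5, 3, 5, 1, 1, 1, 3, 4]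
def rw4876 : List ℕ := [3, 3, 3, 0, 5, 1, 1, 1, 2, 0, 0, 0, 4, 1, 2, 2, 2, 0, 0, 5, 2, 3, 3, 4, 1, 1]
def rw4877 : List ℕ := [3, 5, 0, 5, 3, 5, 1, 3, 1, 1, 2, 0, 0, 2, 0, 4, 2, 4, 1, 4, 2, 4, 2, 3, 3, 5]
def rw4878 : List ℕ := [5, 3, 4, 0, 3, 1, 1, 5, 0, 3, 0, 3, 1, 1, 2, 0, 0, 2, 1, 2, 1, 4, 0, 0, 2, 1]
def rw4879 : List ℕ := [3, 1, 1, 6, 0, 0, 2, 1, 2, 1, 4, 0, 3, 0, 2, 5, 7, 4, 3, 1, 2, 1, 5, 0, 3, 0]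
def rw4880 : List ℕ := [1, 4, 0, 3, 1, 1, 0, 0, 0, 2, 1, 5, 0, 3, 0, 2, 2, 1, 4, 1, 5, 0, 3, 3, 1, 2]
def rw4881 : List ℕ := [0, 0, 2, 2, 2, 1, 4, 0, 3, 1, 1, 0, 0, 0, 2, 1, 5, 0, 3, 3, 3, 1, 1, 4, 1, 5]
def rw4882 : List ℕ := [1, 4, 0, 0, 2, 4, 0, 3, 0, 2, 5, 0, 3, 3, 5, 2, 2, 1, 4, 3, 1, 2, 1, 5, 3, 1]
def rw4883 : List ℕ := [0, 5, 0, 0, 5, 0, 5, 3, 1, 1, 2, 0, 0, 2, 4, 1, 4, 1, 1, 4, 1, 4, 2, 3, 3, 5]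
def rw4884 : List ℕ := [0, 5, 3, 1, 1, 6, 0, 0, 2, 4, 1, 4, 2, 0, 0, 5, 0, 5, 7, 4, 1, 4, 1, 1, 3, 5]
def rw4885 : List ℕ := [5, 3, 5, 3, 1, 1, 0, 0, 0, 2, 4, 2, 4, 1, 4, 2, 4, 0, 2, 1, 3, 1, 5, 3, 5, 0]
def rw4886 : List ℕ := [1, 1, 3, 0, 4, 1, 2, 2, 1, 1, 2, 0, 0, 3, 3, 0, 5, 1, 2, 0, 0, 4, 2, 3, 3, 5]
def rw4887 : List ℕ := [1, 2, 5, 3, 0, 4, 1, 2, 2, 2, 0, 0, 5, 1, 1, 4, 0, 0, 4, 1, 1, 3, 3, 3, 0, 5]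
def rw4888 : List ℕ := [1, 3, 0, 3, 0, 5, 1, 1, 4, 0, 0, 4, 1, 2, 1, 2, 0, 0, 5, 1, 2, 5, 3, 0, 4, 1]
def rw4889 : List ℕ := [5, 1, 1, 5, 0, 4, 4, 1, 5, 5, 1, 4, 0, 0, 4, 4, 0, 5, 1, 1, 0, 0, 0, 4, 1, 5]
def rw4890 : List ℕ := [1, 5, 5, 1, 1, 5, 0, 4, 4, 1, 5, 5, 1, 4, 0, 0, 4, 4, 0, 5, 1, 1, 0, 0, 0, 4]
def rw4891 : List ℕ := [5, 2, 2, 5, 1, 1, 5, 2, 2, 5, 1, 1, 4, 0, 0, 4, 3, 3, 4, 0, 0, 4, 3, 3, 4, 5]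
def rw4892 : List ℕ := [1, 1, 2, 0, 0, 4, 4, 0, 0, 4, 4, 0, 0, 4, 4, 3, 5, 5, 1, 1, 5, 5, 1, 1, 5, 5]
def rw4893 : List ℕ := [1, 1, 5, 5, 1, 1, 2, 0, 0, 4, 4, 0, 0, 4, 4, 0, 0, 4, 4, 3, 5, 5, 1, 1, 5, 5]
def rw4894 : List ℕ := [5, 1, 5, 5, 1, 1, 2, 0, 0, 4, 4, 0, 4, 0, 0, 4, 4, 0, 4, 3, 5, 1, 5, 5, 1, 1]
def rw4895 : List ℕ := [1, 5, 5, 1, 1, 4, 0, 0, 4, 4, 0, 4, 0, 0, 4, 4, 0, 4, 5, 5, 1, 5, 5, 1, 1, 5]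
def rw4896 : List ℕ := [3, 3, 5, 3, 4, 2, 2, 4, 1, 1, 4, 2, 2, 4, 1, 1, 2, 0, 0, 5, 3, 3, 5, 0, 0, 5]
def rw4897 : List ℕ := [2, 0, 2, 0, 5, 0, 5, 3, 5, 0, 5, 3, 4, 1, 4, 2, 4, 1, 4, 1, 3, 1, 3, 1, 2, 0]
def rw4898 : List ℕ := [2, 4, 1, 4, 1, 3, 1, 3, 1, 4, 0, 2, 0, 2, 0, 5, 0, 5, 3, 5, 0, 5, 5, 4, 1, 4]
def rw4899 : List ℕ := [4, 0, 2, 0, 4, 1, 3, 1, 4, 1, 5, 0, 2, 0, 5, 1, 3, 1, 5, 1, 3, 1, 0, 0, 2, 0]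
def rw4900 : List ℕ := [3, 5, 0, 2, 0, 5, 1, 3, 1, 5, 1, 3, 1, 2, 0, 2, 0, 4, 0, 2, 0, 4, 1, 3, 1, 4]
def rw4901 : List ℕ := [4, 0, 2, 0, 4, 3, 1, 3, 4, 3, 5, 2, 0, 2, 5, 1, 3, 1, 5, 1, 3, 1, 2, 0, 2, 0]
def rw4902 : List ℕ := [0, 2, 5, 1, 3, 1, 5, 1, 3, 1, 2, 0, 2, 0, 4, 0, 2, 0, 4, 3, 1, 3, 4, 3, 5, 2]
def rw4903 : List ℕ := [2, 0, 2, 4, 1, 3, 1, 4, 1, 5, 0, 2, 0, 5, 3, 1, 3, 5, 1, 3, 1, 0, 0, 2, 0, 4]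
def rw4904 : List ℕ := [4, 1, 3, 1, 4, 1, 3, 1, 4, 1, 3, 1, 2, 0, 2, 0, 5, 0, 2, 0, 5, 0, 2, 0, 5, 3]
def rw4905 : List ℕ := [4, 1, 3, 1, 2, 0, 2, 0, 5, 0, 2, 0, 5, 0, 2, 0, 5, 3, 4, 1, 3, 1, 4, 1, 3, 1]
def rw4906 : List ℕ := [5, 5, 2, 0, 3, 4, 1, 5, 2, 1, 3, 4, 4, 3, 4, 4, 0, 3, 1, 0, 0, 2, 1, 5, 5, 2]
def rw4907 : List ℕ := [4, 1, 4, 1, 3, 3, 1, 6, 0, 2, 2, 0, 5, 0, 5, 3, 5, 0, 5, 2, 7, 3, 4, 1, 4, 2]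
def rw4908 : List ℕ := [1, 2, 1, 5, 0, 3, 3, 1, 2, 0, 2, 2, 1, 4, 0, 3, 0, 2, 5, 0, 3, 3, 2, 1, 4, 3]
def rw4909 : List ℕ := [2, 4, 3, 1, 3, 3, 2, 0, 2, 5, 3, 5, 0, 5, 3, 5, 3, 1, 2, 0, 2, 4, 2, 4, 1, 4]
def rw4910 : List ℕ := [5, 3, 1, 6, 0, 2, 4, 4, 2, 4, 2, 4, 0, 5, 3, 5, 7, 4, 2, 4, 1, 5, 3, 5, 3, 5]
def rw4911 : List ℕ := [5, 2, 1, 2, 1, 2, 2, 2, 5, 5, 1, 4, 4, 3, 3, 3, 0, 3, 0, 3, 4, 3, 1, 0, 0, 2]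
def rw4912 : List ℕ := [3, 4, 3, 1, 6, 0, 2, 5, 2, 5, 2, 5, 2, 0, 4, 3, 4, 7, 5, 2, 5, 1, 3, 4, 3, 4]
def rw4913 : List ℕ := [0, 4, 4, 3, 4, 4, 3, 1, 2, 0, 2, 5, 5, 2, 5, 5, 1, 2, 0, 4, 3, 3, 2, 5, 1, 3]
def rw4914 : List ℕ := [3, 4, 3, 1, 2, 5, 2, 0, 5, 5, 2, 2, 2, 1, 2, 1, 0, 0, 3, 0, 3, 3, 3, 4, 4, 1]
def rw4915 : List ℕ := [4, 2, 4, 2, 1, 6, 0, 3, 5, 3, 5, 3, 4, 2, 0, 5, 3, 5, 7, 4, 2, 4, 1, 3, 5, 2]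
def rw4916 : List ℕ := [3, 5, 3, 5, 1, 2, 0, 4, 2, 4, 2, 4, 4, 2, 0, 5, 3, 5, 3, 4, 2, 4, 1, 3, 5, 5]
def rw4917 : List ℕ := [3, 3, 5, 5, 1, 2, 0, 4, 4, 2, 2, 5, 0, 4, 4, 2, 2, 5, 3, 4, 3, 3, 5, 5, 1, 4]
def rw4918 : List ℕ := [7, 2, 7, 1, 7, 2, 7, 2, 3, 3, 6, 3, 6, 0, 6, 3, 6, 1, 3, 1, 1, 2, 0, 0, 2, 0]
def rw4919 : List ℕ := [6, 0, 6, 3, 6, 3, 1, 1, 0, 0, 0, 2, 7, 2, 7, 1, 7, 2, 7, 0, 2, 1, 3, 1, 6, 3]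
def rw4920 : List ℕ := [6, 1, 4, 0, 6, 3, 6, 5, 3, 4, 7, 2, 7, 1, 5, 0, 7, 2, 7, 1, 1, 2, 0, 0, 6, 3]
def rw4921 : List ℕ := [6, 2, 1, 3, 6, 3, 6, 1, 1, 2, 0, 0, 7, 2, 7, 2, 0, 3, 7, 2, 7, 2, 3, 3, 6, 3]
def rw4922 : List ℕ := [2, 7, 1, 6, 3, 4, 1, 3, 5, 3, 5, 2, 7, 3, 1, 0, 0, 2, 6, 3, 4, 2, 4, 2, 0, 5]
def rw4923 : List ℕ := [6, 4, 1, 1, 2, 0, 0, 5, 7, 4, 1, 3, 5, 6, 1, 3, 4, 4, 3, 5, 5, 2, 0, 7, 4, 2, 0, 5]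
def rw4924 : List ℕ := [7, 3, 6, 5, 2, 1, 4, 1, 4, 2, 7, 4, 1, 3, 1, 2, 0, 2, 0, 5, 6, 3, 5, 0, 5, 0, 3, 4]
def rw4925 : List ℕ := [6, 5, 2, 1, 3, 5, 0, 5, 7, 4, 1, 3, 1, 0, 0, 2, 0, 5, 6, 4, 1, 4, 2, 0, 3, 4, 7, 1]
def rw4926 : List ℕ := [6, 4, 1, 4, 1, 2, 0, 4, 7, 1, 3, 1, 0, 0, 2, 0, 6, 5, 1, 3, 0, 5, 0, 5, 7, 4, 1, 5]
def rw4927 : List ℕ := [5, 2, 0, 5, 2, 7, 5, 6, 3, 4, 1, 3, 4, 3, 4, 7, 0, 5, 3, 1, 4, 0, 2, 4, 1, 6, 5, 2]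
def rw4928 : List ℕ := [7, 4, 3, 1, 6, 0, 2, 5, 6, 4, 1, 4, 2, 0, 3, 4, 7, 2, 7, 3, 6, 5, 2, 1, 3, 5, 0, 5]
def rw4929 : List ℕ := [7, 4, 1, 0, 0, 5, 6, 4, 2, 4, 2, 5, 3, 4, 3, 4, 7, 1, 6, 5, 2, 5, 2, 4, 3, 5, 3, 5]
def rw4930 : List ℕ := [7, 3, 4, 3, 4, 3, 6, 7, 7, 2, 5, 2, 5, 2, 6, 0, 4, 3, 4, 3, 3, 1, 6, 0, 2, 2, 5, 2, 5, 1]
def rw4931 : List ℕ := [4, 7, 2, 7, 3, 3, 1, 6, 0, 2, 2, 6, 3, 6, 5, 6, 0, 2, 5, 6, 1, 2, 7, 3, 0, 7, 4, 3, 1, 7]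
def rw4932 : List ℕ := [5, 3, 1, 6, 3, 3, 3, 1, 7, 4, 5, 5, 6, 0, 2, 2, 2, 7, 0, 2, 4, 2, 1, 3, 1, 4, 0, 2, 0, 3]
def rw4933 : List ℕ := [3, 3, 1, 6, 0, 2, 2, 7, 3, 5, 0, 5, 0, 2, 4, 2, 6, 3, 7, 2, 7, 3, 5, 3, 1, 4, 1, 4, 2, 6]
def rw4934 : List ℕ := [0, 7, 0, 3, 1, 0, 0, 2, 1, 6, 1, 3, 7, 3, 1, 6, 2, 0, 7, 2, 1, 3, 6, 1, 3, 7, 0, 2, 6, 2]
def rw4935 : List ℕ := [6, 1, 7, 3, 1, 4, 1, 3, 5, 0, 2, 6, 3, 3, 3, 1, 0, 0, 2, 2, 2, 7, 3, 1, 4, 2, 0, 5, 0, 2]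
def rw4936 : List ℕ := [0, 2, 0, 7, 0, 2, 4, 1, 3, 5, 6, 3, 3, 2, 7, 4, 2, 0, 5, 3, 1, 6, 1, 3, 1, 1, 1, 2, 0, 0]
def rw4937 : List ℕ := [2, 0, 7, 0, 2, 4, 1, 3, 5, 6, 3, 5, 2, 7, 4, 2, 0, 5, 3, 1, 6, 1, 3, 1, 1, 1, 4, 0, 0, 0]
def rw4938 : List ℕ := [7, 0, 2, 6, 3, 0, 5, 3, 3, 1, 0, 0, 2, 2, 4, 1, 2, 7, 3, 1, 6, 0, 2, 5, 2, 1, 3, 4, 3, 1]
def rw4939 : List ℕ := [1, 7, 0, 2, 6, 3, 0, 5, 3, 3, 1, 2, 0, 2, 2, 4, 1, 2, 7, 3, 1, 6, 0, 2, 5, 2, 3, 3, 4, 3]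
def rw4940 : List ℕ := [5, 3, 3, 1, 6, 0, 2, 2, 4, 1, 2, 7, 3, 1, 6, 0, 2, 5, 2, 7, 3, 4, 3, 1, 7, 0, 2, 6, 3, 0]
def rw4941 : List ℕ := [4, 1, 1, 4, 0, 0, 5, 6, 0, 2, 2, 2, 7, 0, 2, 4, 0, 2, 5, 3, 1, 5, 3, 1, 6, 3, 3, 3, 1, 7]
def rw4942 : List ℕ := [4, 1, 2, 7, 3, 1, 6, 0, 2, 5, 1, 4, 3, 1, 7, 0, 2, 6, 3, 0, 5, 1, 3, 1, 1, 0, 0, 0, 2, 0]
def rw4943 : List ℕ := [0, 5, 1, 7, 2, 7, 2, 2, 6, 3, 6, 1, 7, 2, 7, 3, 3, 6, 3, 6, 0, 4, 1, 4, 3, 1, 0, 0, 2, 5]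
def rw4944 : List ℕ := [3, 3, 3, 1, 7, 4, 1, 4, 5, 5, 0, 5, 6, 0, 2, 2, 2, 7, 3, 5, 1, 3, 1, 4, 0, 2, 0, 4, 2, 6]
def rw4945 : List ℕ := [1, 7, 3, 1, 6, 3, 4, 1, 4, 3, 1, 4, 0, 2, 5, 0, 5, 2, 7, 0, 2, 6, 0, 5, 3, 5, 5, 4, 2, 4]
def rw4946 : List ℕ := [7, 7, 6, 0, 2, 5, 6, 0, 2, 5, 0, 7, 2, 7, 1, 1, 6, 0, 0, 6, 3, 6, 1, 4, 3, 1, 7, 4, 3, 1]
def rw4947 : List ℕ := [7, 4, 1, 3, 5, 6, 3, 7, 4, 2, 0, 5, 6, 4, 4, 1, 4, 2, 2, 4, 1, 2, 0, 5, 3, 3, 5, 0, 5, 5]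
def rw4948 : List ℕ := [5, 5, 7, 4, 1, 3, 5, 6, 7, 7, 4, 2, 0, 5, 6, 4, 4, 1, 4, 2, 2, 4, 1, 6, 0, 5, 3, 3, 5, 0]
def rw4949 : List ℕ := [6, 3, 7, 2, 7, 0, 2, 4, 2, 2, 0, 2, 5, 6, 3, 3, 1, 6, 0, 2, 2, 7, 4, 3, 1, 3, 3, 5, 3, 1]
def rw4950 : List ℕ := [7, 2, 7, 1, 3, 1, 2, 0, 2, 0, 6, 3, 6, 0, 2, 5, 2, 7, 2, 7, 4, 3, 5, 6, 3, 6, 3, 4, 3, 1]
def rw4951 : List ℕ := [2, 7, 1, 3, 1, 6, 0, 2, 0, 6, 3, 6, 0, 2, 5, 2, 7, 2, 7, 4, 7, 5, 6, 3, 6, 3, 4, 3, 1, 7]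
def rw4952 : List ℕ := [7, 1, 3, 1, 1, 4, 0, 0, 2, 0, 6, 0, 2, 5, 3, 1, 4, 1, 2, 7, 5, 6, 3, 0, 5, 0, 2, 4, 3, 1]
def rw4953 : List ℕ := [5, 3, 1, 4, 1, 2, 7, 7, 6, 3, 0, 5, 0, 2, 4, 3, 1, 7, 1, 3, 1, 1, 6, 0, 0, 2, 0, 6, 0, 2]
def rw4954 : List ℕ := [2, 2, 7, 1, 6, 3, 3, 4, 2, 2, 4, 2, 0, 5, 5, 7, 3, 1, 0, 0, 2, 6, 4, 4, 1, 3, 5, 3, 3, 5]
def rw4955 : List ℕ := [2, 2, 2, 7, 3, 1, 3, 1, 6, 0, 2, 0, 2, 6, 3, 3, 3, 1, 7, 4, 2, 0, 5, 7, 4, 1, 3, 5, 6, 0]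
def rw4956 : List ℕ := [5, 3, 4, 1, 4, 2, 5, 7, 3, 1, 2, 0, 2, 6, 4, 3, 5, 0, 5, 2, 4, 2, 2, 2, 7, 3, 6, 3, 3, 3]
def rw4957 : List ℕ := [6, 3, 5, 2, 7, 3, 1, 6, 4, 2, 4, 1, 3, 0, 5, 3, 1, 4, 0, 2, 4, 1, 2, 0, 5, 3, 5, 7, 0, 2]
def rw4958 : List ℕ := [3, 1, 6, 0, 2, 2, 7, 3, 5, 3, 5, 3, 1, 4, 1, 6, 3, 7, 2, 7, 0, 5, 0, 2, 4, 2, 4, 2, 6, 3]
def rw4959 : List ℕ := [5, 2, 7, 1, 3, 1, 1, 4, 0, 0, 2, 0, 6, 3, 4, 1, 3, 5, 3, 5, 2, 7, 5, 6, 3, 4, 2, 4, 2, 0]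
def rw4960 : List ℕ := [6, 5, 6, 3, 6, 3, 4, 3, 1, 0, 0, 2, 5, 2, 7, 2, 7, 4, 7, 4, 3, 1, 7, 4, 1, 5, 6, 0, 2, 5]
def rw4961 : List ℕ := [0, 2, 6, 2, 0, 7, 3, 6, 1, 3, 7, 3, 1, 6, 2, 0, 7, 3, 1, 3, 1, 2, 0, 2, 0, 2, 6, 1, 3, 7]
def rw4962 : List ℕ := [1, 7, 3, 5, 1, 3, 1, 6, 0, 2, 0, 4, 2, 6, 0, 2, 1, 2, 7, 4, 1, 4, 7, 5, 0, 5, 6, 3, 0, 3]
def rw4963 : List ℕ := [2, 0, 7, 2, 7, 1, 2, 2, 1, 3, 1, 0, 0, 2, 0, 3, 3, 0, 6, 3, 6, 1, 3, 7, 2, 7, 1, 6, 3, 6]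
def rw4964 : List ℕ := [2, 7, 1, 2, 2, 1, 3, 1, 6, 0, 2, 0, 3, 3, 0, 6, 3, 6, 1, 3, 7, 2, 7, 7, 6, 3, 6, 2, 0, 7]
def rw4965 : List ℕ := [3, 4, 4, 3, 4, 7, 4, 2, 2, 1, 3, 3, 5, 6, 5, 2, 5, 5, 2, 7, 5, 2, 5, 1, 0, 0, 4, 3, 4, 6]
def rw4966 : List ℕ := [5, 1, 3, 4, 3, 1, 5, 1, 7, 1, 3, 1, 6, 0, 2, 0, 6, 0, 4, 0, 2, 5, 2, 0, 4, 7, 4, 7, 5, 6]
def rw4967 : List ℕ := [3, 1, 3, 5, 6, 5, 1, 3, 4, 3, 1, 4, 0, 2, 5, 2, 0, 4, 7, 4, 2, 0, 2, 6, 0, 4, 5, 5, 1, 7]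
def rw4968 : List ℕ := [1, 6, 1, 3, 3, 1, 0, 0, 2, 2, 0, 7, 0, 5, 6, 3, 3, 7, 0, 5, 6, 1, 7, 4, 1, 6, 2, 2, 7, 4]
def rw4969 : List ℕ := [5, 7, 0, 2, 6, 1, 7, 3, 1, 6, 4, 2, 4, 1, 3, 0, 5, 0, 3, 1, 0, 0, 2, 1, 4, 1, 2, 0, 5, 3]
def rw4970 : List ℕ := [7, 0, 2, 6, 6, 3, 0, 3, 1, 0, 0, 2, 1, 2, 7, 7, 3, 1, 6, 3, 0, 5, 5, 6, 1, 7, 4, 4, 1, 2]
def rw4971 : List ℕ := [6, 3, 0, 3, 1, 0, 0, 2, 1, 2, 7, 7, 3, 1, 6, 3, 0, 5, 5, 6, 1, 7, 4, 4, 1, 2, 7, 0, 2, 6]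
def rw4972 : List ℕ := [6, 3, 0, 3, 1, 6, 0, 2, 1, 2, 7, 7, 3, 1, 6, 3, 0, 5, 5, 6, 7, 7, 4, 4, 1, 2, 7, 0, 2, 6]
def rw4973 : List ℕ := [0, 2, 7, 0, 2, 6, 3, 0, 5, 0, 2, 4, 5, 5, 3, 1, 4, 1, 2, 7, 3, 1, 6, 3, 1, 3, 1, 4, 0, 2]
def rw4974 : List ℕ := [2, 1, 2, 7, 4, 2, 0, 5, 1, 4, 1, 3, 5, 6, 3, 0, 3, 1, 7, 1, 3, 1, 1, 0, 0, 0, 2, 0, 6, 0]
def rw4975 : List ℕ := [7, 0, 3, 1, 7, 5, 6, 0, 2, 1, 6, 1, 4, 4, 6, 3, 6, 2, 1, 1, 4, 0, 0, 3, 7, 2, 7, 5, 5, 0]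
def rw4976 : List ℕ := [6, 3, 6, 3, 4, 1, 5, 2, 7, 2, 7, 4, 3, 0, 7, 2, 7, 1, 1, 1, 0, 0, 0, 0, 6, 3, 6, 1, 2, 5]
def rw4977 : List ℕ := [6, 1, 2, 0, 2, 7, 2, 7, 2, 3, 3, 6, 3, 6, 3, 1, 3, 0, 7, 2, 7, 1, 1, 1, 2, 0, 0, 0, 6, 3]
def rw4978 : List ℕ := [1, 2, 4, 4, 1, 4, 2, 5, 7, 3, 6, 4, 3, 5, 0, 5, 5, 3, 0, 5, 2, 7, 3, 1, 2, 0, 2, 6, 3, 4]
def rw4979 : List ℕ := [2, 7, 1, 5, 6, 3, 1, 3, 1, 4, 0, 2, 0, 2, 7, 4, 0, 6, 3, 6, 3, 1, 7, 4, 5, 5, 6, 0, 2, 7]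
def rw4980 : List ℕ := [4, 3, 4, 7, 4, 1, 4, 2, 6, 1, 7, 3, 5, 0, 5, 6, 5, 2, 5, 5, 5, 2, 5, 1, 0, 0, 4, 3, 4, 4]
def rw4981 : List ℕ := [4, 1, 2, 7, 3, 6, 3, 0, 5, 0, 2, 4, 3, 1, 7, 3, 1, 3, 1, 2, 0, 2, 0, 2, 6, 0, 2, 5, 3, 1]
def rw4982 : List ℕ := [4, 1, 2, 7, 3, 1, 6, 0, 2, 5, 1, 4, 3, 1, 7, 0, 2, 6, 3, 0, 5, 3, 1, 3, 1, 0, 0, 2, 0, 2]
def rw4983 : List ℕ := [7, 3, 1, 6, 0, 2, 5, 3, 4, 3, 1, 7, 0, 2, 6, 3, 0, 5, 3, 1, 3, 1, 2, 0, 2, 0, 2, 4, 1, 2]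
def rw4984 : List ℕ := [2, 6, 2, 0, 7, 1, 3, 1, 2, 0, 2, 0, 6, 1, 3, 7, 3, 1, 6, 2, 0, 7, 3, 3, 2, 6, 1, 3, 7, 0]
def rw4985 : List ℕ := [6, 3, 0, 3, 1, 0, 0, 2, 1, 2, 7, 2, 4, 2, 4, 2, 1, 4, 1, 6, 1, 7, 0, 5, 0, 3, 5, 3, 5, 3]
def rw4986 : List ℕ := [1, 6, 0, 2, 2, 7, 2, 4, 2, 4, 2, 1, 4, 1, 6, 3, 7, 2, 7, 0, 5, 0, 3, 5, 3, 5, 3, 6, 3, 3]
def rw4987 : List ℕ := [3, 0, 5, 6, 7, 7, 4, 1, 2, 0, 2, 5, 3, 1, 6, 3, 3, 3, 1, 6, 0, 2, 2, 2, 7, 0, 2, 4, 3, 1]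
def rw4988 : List ℕ := [5, 6, 7, 7, 4, 1, 2, 0, 2, 5, 3, 1, 6, 3, 3, 3, 1, 6, 0, 2, 2, 2, 7, 0, 2, 4, 3, 1, 3, 0]
def rw4989 : List ℕ := [3, 4, 2, 4, 1, 4, 2, 4, 1, 2, 0, 5, 3, 5, 0, 5, 3, 5]
def rw4990 : List ℕ := [5, 3, 5, 3, 2, 2, 4, 2, 4, 2, 4, 2, 4, 2, 4, 3, 5, 3, 5, 3, 5, 3]
def rw4991 : List ℕ := [0, 0, 4, 1, 2, 1, 1, 1, 4, 0, 0, 0, 3, 0, 5, 1, 1, 3, 0, 4, 2, 5, 3, 5, 1, 2]
def rw4992 : List ℕ := [3, 0, 4, 1, 2, 1, 1, 1, 4, 0, 0, 0, 3, 0, 5, 1, 2, 1, 3, 4, 2, 5, 3, 5, 2, 0]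
def rw4993 : List ℕ := [1, 3, 3, 3, 0, 5, 1, 1, 1, 0, 0, 0, 0, 4, 1, 2, 2, 2, 0, 0, 5, 2, 1, 3, 4, 1]
def rw4994 : List ℕ := [0, 0, 5, 2, 5, 7, 4, 3, 4, 1, 1, 1, 4, 3, 4, 1, 1, 1, 6, 0, 0, 0, 5, 2, 5, 0]
def rw4995 : List ℕ := [2, 1, 3, 1, 5, 3, 5, 0, 5, 3, 5, 3, 1, 1, 0, 0, 0, 2, 4, 2, 4, 1, 4, 2, 4, 0]
def rw4996 : List ℕ := [0, 5, 0, 5, 3, 5, 0, 5, 1, 3, 1, 4, 0, 2, 0, 4, 1, 4, 2, 4, 1, 4, 1, 3, 5, 2]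
def rw4997 : List ℕ := [0, 5, 1, 3, 1, 6, 0, 2, 0, 4, 1, 4, 2, 4, 1, 4, 1, 3, 7, 2, 0, 5, 0, 5, 3, 5]
def rw4998 : List ℕ := [5, 3, 5, 0, 5, 3, 5, 3, 3, 1, 6, 0, 2, 2, 4, 2, 4, 1, 4, 2, 4, 2, 2, 7, 3, 3]
def rw4999 : List ℕ := [2, 4, 1, 3, 3, 5, 3, 5, 3, 3, 1, 2, 0, 2, 2, 4, 2, 4, 2, 2, 0, 5, 3, 5, 3, 4]
def rw5000 : List ℕ := [5, 0, 5, 3, 1, 2, 0, 2, 4, 1, 4, 2, 1, 4, 1, 4, 1, 5, 3, 4, 0, 5, 0, 5, 0, 3]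
def rw5001 : List ℕ := [5, 5, 4, 1, 3, 5, 3, 1, 4, 1, 3, 5, 3, 1, 4, 0, 2, 4, 2, 0, 5, 0, 2, 4, 2, 0]
def rw5002 : List ℕ := [3, 4, 2, 0, 5, 3, 5, 1, 4, 2, 4, 1, 3, 5, 2, 4, 2, 4, 2, 1, 0, 0, 3, 5, 3, 5]
def rw5003 : List ℕ := [4, 2, 4, 4, 2, 0, 5, 3, 5, 5, 4, 2, 4, 1, 3, 5, 5, 3, 5, 3, 5, 1, 4, 0, 4, 2]
def rw5004 : List ℕ := [5, 0, 4, 4, 2, 2, 5, 3, 4, 3, 3, 5, 5, 1, 4, 3, 3, 5, 5, 1, 2, 0, 4, 4, 2, 2]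
def rw5005 : List ℕ := [5, 1, 4, 3, 3, 5, 5, 1, 4, 0, 4, 4, 2, 2, 5, 0, 4, 4, 2, 2, 5, 5, 4, 3, 3, 5]
def rw5006 : List ℕ := [5, 0, 5, 3, 4, 1, 4, 1, 6, 0, 5, 0, 5, 2, 4, 1, 4, 2, 0, 5, 5, 7, 4, 4, 1, 3]
def rw5007 : List ℕ := [5, 2, 7, 3, 4, 1, 3, 4, 1, 3, 4, 1, 3, 4, 1, 6, 0, 5, 2, 0, 5, 2, 0, 5, 2, 0]
def rw5008 : List ℕ := [5, 5, 3, 3, 4, 1, 5, 5, 3, 3, 4, 1, 2, 0, 5, 2, 2, 4, 4, 0, 5, 2, 2, 4, 4, 3]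
def rw5009 : List ℕ := [2, 4, 4, 3, 5, 5, 3, 3, 4, 1, 5, 5, 3, 3, 4, 1, 2, 0, 5, 2, 2, 4, 4, 0, 5, 2]
def rw5010 : List ℕ := [5, 3, 4, 3, 5, 3, 5, 3, 3, 3, 4, 2, 2, 2, 4, 2, 4, 2, 5, 2, 4, 2, 4, 5, 5, 3]
def rw5011 : List ℕ := [3, 3, 3, 4, 2, 2, 2, 4, 2, 4, 2, 5, 2, 4, 2, 4, 5, 5, 3, 5, 3, 4, 3, 5, 3, 5]
def rw5012 : List ℕ := [4, 1, 2, 0, 5, 6, 3, 4, 2, 4, 4, 3, 4, 7, 3, 6, 5, 2, 5, 5, 3, 5, 2, 7]
def rw5013 : List ℕ := [7, 0, 2, 4, 1, 3, 5, 6, 3, 0, 3, 1, 4, 0, 2, 1, 2, 7, 4, 2, 0, 5, 3, 1, 6, 5]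
def rw5014 : List ℕ := [0, 5, 6, 3, 3, 7, 7, 6, 2, 2, 7, 4, 1, 6, 2, 2, 7, 4, 1, 6, 0, 5, 6, 3, 3, 7]
def rw5015 : List ℕ := [3, 6, 3, 3, 2, 7, 2, 7, 4, 1, 2, 7, 2, 7, 4, 1, 2, 0, 5, 6, 3, 6, 3, 0, 5, 6]
def rw5016 : List ℕ := [7, 7, 6, 5, 2, 1, 3, 5, 0, 5, 7, 4, 1, 3, 1, 6, 0, 2, 0, 5, 6, 4, 1, 4, 2, 0, 3, 4]
def rw5017 : List ℕ := [5, 6, 4, 1, 4, 1, 2, 0, 4, 7, 1, 3, 1, 6, 0, 2, 0, 6, 5, 1, 3, 0, 5, 0, 5, 7, 4, 7]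
def rw5018 : List ℕ := [7, 4, 2, 7, 3, 5, 6, 3, 5, 0, 5, 0, 3, 4, 7, 3, 1, 6, 0, 2, 6, 5, 2, 1, 4, 1, 4, 2]
def rw5019 : List ℕ := [6, 5, 2, 5, 1, 4, 0, 4, 3, 4, 7, 0, 5, 6, 3, 0, 5, 3, 5, 5, 4, 2, 4, 1, 2, 7, 4, 1]
def rw5020 : List ℕ := [4, 2, 2, 7, 4, 1, 6, 0, 5, 6, 3, 3, 5, 2, 2, 4, 2, 4, 4, 7, 7, 6, 5, 5, 3, 5, 3, 3]
def rw5021 : List ℕ := [5, 0, 2, 4, 2, 6, 3, 5, 2, 7, 3, 5, 3, 1, 4, 1, 4, 2, 6, 3, 3, 1, 4, 0, 2, 2, 7, 3, 5, 0]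
def rw5022 : List ℕ := [2, 7, 2, 7, 4, 5, 5, 6, 3, 6, 3, 6, 3, 6, 5, 1, 5, 2, 5, 1, 4, 0, 4, 3, 4, 0, 4, 7, 2, 7]
def rw5023 : List ℕ := [6, 3, 6, 4, 2, 0, 5, 0, 6, 3, 6, 3, 1, 0, 0, 2, 7, 2, 7, 1, 4, 1, 3, 5, 7, 2, 7, 5, 1, 4]
def rw5024 : List ℕ := [7, 1, 4, 1, 3, 5, 7, 2, 7, 5, 3, 4, 6, 3, 6, 4, 2, 0, 5, 0, 6, 3, 6, 3, 1, 2, 0, 2, 7, 2]
def rw5025 : List ℕ := [7, 1, 4, 1, 3, 5, 7, 2, 7, 5, 7, 4, 6, 3, 6, 4, 2, 0, 5, 0, 6, 3, 6, 3, 1, 6, 0, 2, 7, 2]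
def rw5026 : List ℕ := [0, 5, 6, 4, 6, 3, 6, 5, 7, 2, 7, 5, 7, 4, 1, 2, 7, 3, 3, 5, 3, 1, 4, 0, 2, 4, 2, 2, 6, 3]
def rw5027 : List ℕ := [4, 3, 5, 5, 0, 5, 3, 3, 5, 7, 1, 6, 4, 2, 2, 4, 1, 4, 4, 2, 5, 2, 7, 3, 1, 0, 0, 2, 6, 3]
def rw5028 : List ℕ := [0, 6, 3, 0, 4, 0, 4, 0, 6, 3, 5, 2, 7, 1, 5, 1, 5, 1, 2, 7, 1, 5, 1, 5, 1, 4, 0, 4, 0, 4]
def rw5029 : List ℕ := [3, 5, 6, 3, 3, 1, 4, 0, 2, 2, 7, 4, 2, 4, 2, 4, 1, 4, 1, 6, 3, 5, 2, 7, 0, 5, 0, 5, 3, 5]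
def rw5030 : List ℕ := [3, 1, 6, 4, 2, 4, 1, 3, 0, 5, 3, 1, 2, 0, 2, 4, 1, 2, 0, 5, 3, 5, 7, 0, 2, 6, 3, 3, 2, 7]
def rw5031 : List ℕ := [7, 0, 2, 6, 3, 5, 2, 7, 3, 1, 6, 4, 2, 4, 1, 3, 0, 5, 3, 1, 4, 0, 2, 4, 1, 2, 0, 5, 3, 5]
def rw5032 : List ℕ := [5, 7, 0, 3, 1, 6, 0, 2, 1, 6, 4, 2, 4, 2, 5, 0, 5, 2, 7, 2, 7, 3, 6, 3, 4, 1, 4, 3, 5, 3]
def rw5033 : List ℕ := [2, 7, 5, 2, 1, 3, 4, 6, 3, 6, 4, 2, 0, 5, 7, 2, 7, 3, 1, 0, 0, 2, 6, 3, 6, 4, 1, 3, 5, 7]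
def rw5034 : List ℕ := [0, 2, 4, 1, 5, 3, 1, 4, 1, 2, 7, 3, 1, 6, 3, 1, 3, 1, 0, 0, 2, 0, 2, 7, 0, 2, 6, 3, 0, 5]
def rw5035 : List ℕ := [7, 2, 0, 6, 6, 4, 3, 4, 4, 3, 1, 1, 4, 0, 0, 2, 5, 5, 2, 5, 7, 7, 1, 3, 6, 6, 3, 5, 2, 7]
def rw5036 : List ℕ := [0, 5, 2, 7, 3, 1, 2, 0, 2, 6, 3, 4, 1, 2, 4, 4, 1, 4, 2, 5, 7, 3, 6, 4, 3, 5, 0, 5, 5, 3]
def rw5037 : List ℕ := [5, 0, 5, 2, 7, 1, 6, 3, 4, 1, 4, 4, 2, 4, 2, 4, 2, 7, 3, 1, 0, 0, 2, 6, 3, 5, 3, 5, 3, 5]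
def rw5038 : List ℕ := [4, 4, 4, 3, 4, 7, 4, 1, 4, 2, 6, 3, 7, 3, 5, 0, 5, 6, 5, 2, 5, 5, 5, 2, 5, 1, 2, 0, 4, 3]
def rw5039 : List ℕ := [7, 4, 3, 6, 3, 6, 3, 4, 3, 4, 1, 5, 2, 5, 2, 7, 2, 7, 2, 5, 6, 3, 6, 5, 1, 0, 0, 4, 7, 2]
def rw5040 : List ℕ := [7, 0, 5, 6, 3, 5, 1, 4, 2, 7, 4, 1, 6, 4, 3, 4, 2, 2, 1, 2, 1, 0, 0, 3, 0, 3, 3, 5, 2, 5]
def rw5041 : List ℕ := [3, 0, 3, 1, 6, 0, 2, 1, 2, 2, 0, 2, 1, 2, 2, 7, 3, 3, 0, 3, 1, 3]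
def rw5042 : List ℕ := [4, 4, 3, 5, 3, 3, 5, 0, 4, 7, 5, 1, 4, 2, 2, 4, 2, 5, 5, 1, 1, 6, 0, 0]
def rw5043 : List ℕ := [3, 5, 3, 3, 0, 3, 4, 4, 3, 7, 2, 5, 5, 2, 1, 2, 2, 4, 2, 2, 1, 6, 0, 3]
def rw5044 : List ℕ := [2, 4, 2, 1, 3, 1, 6, 0, 2, 0, 3, 5, 3, 5, 0, 5, 3, 5, 3, 7, 2, 4, 2, 4, 1, 4]
def rw5045 : List ℕ := [1, 3, 5, 3, 1, 6, 0, 2, 4, 2, 0, 5, 0, 2, 4, 2, 0, 5, 7, 4, 1, 3, 5, 3, 1, 4]
def rw5046 : List ℕ := [7, 1, 5, 0, 7, 2, 7, 1, 1, 0, 0, 0, 6, 3, 6, 1, 4, 0, 6, 3, 6, 5, 1, 4, 7, 2]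
def rw5047 : List ℕ := [7, 1, 1, 2, 0, 0, 6, 3, 6, 1, 4, 0, 6, 3, 6, 5, 3, 4, 7, 2, 7, 1, 5, 0, 7, 2]
def rw5048 : List ℕ := [7, 2, 7, 1, 5, 0, 7, 2, 7, 1, 1, 4, 0, 0, 6, 3, 6, 1, 4, 0, 6, 3, 6, 5, 5, 4]
def rw5049 : List ℕ := [1, 4, 7, 2, 7, 1, 5, 3, 4, 0, 6, 3, 6, 5, 0, 7, 2, 7, 1, 1, 2, 0, 0, 6, 3, 6]
def rw5050 : List ℕ := [7, 2, 7, 1, 2, 0, 7, 2, 7, 2, 3, 3, 6, 3, 6, 1, 3, 0, 6, 3, 6, 1, 1, 2, 0, 0]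
def rw5051 : List ℕ := [1, 7, 5, 6, 0, 6, 3, 6, 0, 6, 0, 2, 1, 3, 1, 4, 0, 2, 0, 3, 1, 7, 1, 7, 2, 7]
def rw5052 : List ℕ := [2, 5, 3, 0, 6, 0, 6, 3, 6, 0, 6, 0, 3, 1, 4, 0, 2, 1, 7, 1, 7, 2, 7, 1, 7, 1]
def rw5053 : List ℕ := [6, 0, 2, 5, 3, 1, 6, 0, 2, 4, 3, 1, 7, 0, 2, 6, 3, 0, 5, 7, 4, 1, 2, 7, 3, 1]
def rw5054 : List ℕ := [2, 7, 2, 5, 2, 7, 2, 7, 4, 3, 5, 6, 3, 6, 3, 4, 3, 6, 3, 6, 3, 1, 2, 0, 2, 7]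
def rw5055 : List ℕ := [1, 6, 3, 3, 5, 5, 1, 1, 6, 0, 0, 4, 4, 2, 2, 7, 0, 2, 6, 4, 4, 4, 7, 5, 5, 5, 7, 3]
def rw5056 : List ℕ := [4, 1, 3, 5, 6, 1, 3, 4, 4, 7, 5, 5, 2, 0, 7, 4, 2, 0, 5, 6, 4, 1, 1, 6, 0, 0, 5, 7]
def rw5057 : List ℕ := [7, 1, 3, 1, 0, 0, 2, 0, 6, 5, 1, 3, 0, 5, 0, 5, 7, 4, 1, 5, 6, 4, 1, 4, 1, 2, 0, 4]
def rw5058 : List ℕ := [6, 3, 7, 2, 5, 2, 1, 4, 1, 4, 6, 3, 4, 3, 1, 2, 0, 2, 5, 2, 7, 5, 0, 5, 0, 3, 4, 3]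
def rw5059 : List ℕ := [6, 5, 2, 5, 1, 6, 0, 4, 3, 4, 7, 0, 5, 6, 3, 0, 5, 3, 5, 7, 4, 2, 4, 1, 2, 7, 4, 1]
def rw5060 : List ℕ := [2, 7, 1, 7, 5, 3, 4, 6, 0, 6, 3, 6, 0, 6, 4, 1, 4, 2, 4, 1, 2, 0, 5, 3, 5, 0, 5, 7, 1, 7]
def rw5061 : List ℕ := [0, 3, 5, 3, 1, 6, 3, 3, 3, 1, 7, 4, 1, 5, 6, 0, 2, 2, 2, 7, 0, 2, 4, 2, 1, 3, 1, 0, 0, 2]
def rw5062 : List ℕ := [7, 2, 7, 2, 7, 2, 7, 4, 5, 5, 6, 3, 6, 3, 6, 3, 6, 5, 1, 5, 2, 5, 1, 4, 0, 4, 3, 4, 0, 4]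
def rw5063 : List ℕ := [0, 2, 0, 5, 6, 5, 1, 3, 4, 3, 1, 5, 1, 7, 5, 6, 0, 4, 0, 2, 5, 2, 0, 4, 7, 4, 1, 3, 1, 4]
def rw5064 : List ℕ := [5, 6, 3, 5, 2, 7, 4, 2, 0, 5, 3, 1, 6, 3, 1, 3, 1, 1, 4, 0, 0, 2, 0, 2, 7, 0, 2, 4, 1, 3]
def rw5065 : List ℕ := [7, 2, 7, 3, 1, 4, 0, 2, 6, 3, 6, 2, 0, 7, 2, 7, 1, 2, 2, 2, 5, 3, 3, 3, 0, 6, 3, 6, 1, 3]
def rw5066 : List ℕ := [5, 7, 0, 2, 6, 4, 7, 5, 7, 3, 1, 6, 4, 4, 0, 3, 4, 4, 1, 1, 1, 6, 0, 0, 0, 5, 5, 2, 1, 5]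
def rw5067 : List ℕ := [6, 3, 5, 2, 7, 7, 5, 3, 0, 5, 6, 3, 3, 6, 4, 4, 1, 4, 0, 5, 5, 7, 2, 2, 7, 4, 1, 2, 4, 6]
def rw5068 : List ℕ := [7, 4, 2, 0, 5, 1, 3, 1, 2, 0, 2, 0, 4, 1, 3, 5, 6, 0, 2, 2, 2, 7, 3, 3, 2, 6, 3, 3, 3, 1]
def rw5069 : List ℕ := [6, 4, 2, 0, 5, 7, 2, 7, 1, 3, 1, 6, 0, 2, 0, 6, 3, 6, 4, 1, 3, 5, 7, 2, 7, 5, 7, 4, 6, 3]
def rw5070 : List ℕ := [7, 4, 1, 2, 7, 3, 7, 0, 3, 1, 7, 4, 1, 1, 6, 0, 0, 5, 6, 0, 2, 1, 6, 2, 6, 3, 0, 5, 6, 7]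
def rw5071 : List ℕ := [4, 3, 1, 7, 2, 7, 1, 3, 1, 4, 0, 2, 0, 6, 3, 6, 0, 2, 5, 2, 7, 2, 7, 4, 5, 5, 6, 3, 6, 3]
def rw5072 : List ℕ := [1, 4, 3, 1, 7, 2, 7, 3, 6, 3, 6, 0, 2, 5, 0, 5, 6, 3, 6, 3, 3, 1, 2, 0, 2, 2, 7, 2, 7, 4]
def rw5073 : List ℕ := [7, 2, 7, 2, 0, 4, 7, 2, 7, 1, 5, 2, 5, 3, 4, 0, 6, 3, 6, 5, 1, 3, 6, 3, 6, 3, 1, 4, 0, 2]
def rw5074 : List ℕ := [1, 4, 0, 2, 7, 2, 7, 2, 0, 4, 7, 2, 7, 1, 5, 2, 5, 3, 4, 0, 6, 3, 6, 5, 1, 3, 6, 3, 6, 3]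
def rw5075 : List ℕ := [1, 5, 3, 7, 3, 6, 2, 4, 0, 5, 2, 1, 4, 4, 4, 4, 7, 3, 1, 2, 0, 2, 6, 5, 5, 5, 5, 0, 3, 4]
def rw5076 : List ℕ := [4, 0, 2, 1, 3, 1, 5, 3, 1, 6, 0, 2, 1, 2, 7, 4, 1, 1, 0, 0, 0, 5, 6, 3, 0, 3, 1, 7, 0, 2]
def rw5077 : List ℕ := [2, 4, 1, 2, 0, 5, 3, 5, 7, 0, 2, 6, 3, 7, 2, 7, 3, 1, 6, 4, 2, 4, 1, 3, 0, 5, 3, 1, 6, 0]
def rw5078 : List ℕ := [1, 2, 7, 3, 5, 2, 7, 2, 7, 3, 3, 1, 2, 0, 2, 2, 6, 3, 6, 3, 4, 2, 6, 3, 0, 2, 6, 3, 7, 3]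
def rw5079 : List ℕ := [4, 2, 0, 5, 7, 2, 7, 3, 1, 6, 0, 2, 6, 3, 6, 4, 1, 3, 5, 7, 2, 7, 5, 2, 7, 3, 4, 6, 3, 6]
def rw5080 : List ℕ := [2, 7, 5, 3, 5, 5, 4, 2, 4, 6, 3, 6, 0, 6, 3, 6, 4, 2, 4, 1, 4, 0, 5, 3, 5, 7, 2, 7, 1, 7]
def rw5081 : List ℕ := [3, 4, 3, 0, 2, 5, 2, 6, 3, 6, 5, 2, 5, 2, 6, 3, 6, 5, 1, 4, 7, 2, 7, 3, 4, 3, 4, 7, 2, 7]
def rw5082 : List ℕ := [5, 6, 5, 7, 4, 1, 6, 2, 2, 7, 4, 1, 6, 1, 3, 3, 1, 4, 0, 2, 2, 0, 7, 0, 5, 6, 3, 3, 7, 0]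
def rw5083 : List ℕ := [7, 7, 1, 7, 1, 6, 3, 7, 0, 6, 0, 6, 6, 5, 1, 4, 0, 2, 5, 3, 1, 2, 0, 2, 4, 3, 1, 5, 0, 4]
def rw5084 : List ℕ := [4, 3, 0, 7, 2, 7, 1, 1, 1, 6, 0, 0, 0, 6, 3, 6, 1, 2, 5, 6, 3, 6, 3, 4, 7, 5, 2, 7, 2, 7]
def rw5085 : List ℕ := [7, 4, 7, 2, 7, 1, 3, 1, 7, 4, 1, 3, 1, 4, 0, 2, 0, 5, 6, 0, 2, 0, 6, 3, 6, 5, 6, 3, 5, 2]
def rw5086 : List ℕ := [2, 5, 5, 4, 3, 1, 7, 0, 2, 6, 3, 0, 5, 3, 1, 3, 1, 4, 0, 2, 0, 2, 4, 1, 2, 7, 3, 1, 6, 0]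
def rw5087 : List ℕ := [5, 6, 1, 7, 4, 1, 2, 0, 2, 5, 3, 1, 6, 3, 3, 3, 1, 0, 0, 2, 2, 2, 7, 0, 2, 4, 3, 1, 3, 0]
def rw5088 : List ℕ := [7, 2, 7, 3, 6, 3, 6, 5, 6, 0, 2, 5, 6, 1, 3, 1, 2, 0, 2, 0, 7, 4, 3, 1, 7, 4]
def rw5089 : List ℕ := [4, 2, 0, 5, 6, 4, 1, 1, 0, 0, 0, 5, 7, 4, 1, 3, 5, 6, 1, 3, 4, 4, 1, 5, 5, 2, 0, 7]
def rw5090 : List ℕ := [7, 4, 1, 6, 5, 3, 4, 3, 4, 2, 5, 3, 4, 3, 5, 2, 5, 2, 4, 7, 0, 5, 6, 1, 2, 1, 2, 0, 3, 0]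
def rw5091 : List ℕ := [3, 1, 7, 4, 1, 5, 6, 0, 2, 5, 6, 5, 6, 3, 6, 3, 4, 3, 1, 0, 0, 2, 5, 2, 7, 2, 7, 4, 7, 4]
def rw5092 : List ℕ := [2, 7, 1, 2, 7, 3, 0, 6, 3, 6, 5, 6, 0, 2, 5, 6, 3, 3, 1, 6, 0, 2, 2, 7, 4, 3, 1, 7, 4, 7]
def rw5093 : List ℕ := [5, 6, 3, 3, 7, 0, 5, 6, 5, 7, 4, 1, 6, 2, 2, 7, 4, 1, 6, 1, 3, 3, 1, 4, 0, 2, 2, 0, 7, 0]
def rw5094 : List ℕ := [1, 6, 1, 7, 0, 2, 4, 3, 1, 3, 0, 5, 6, 3, 0, 3, 1, 0, 0, 2, 1, 2, 7, 4, 1, 2, 0, 2, 5, 3]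
def rw5095 : List ℕ := [4, 3, 4, 2, 2, 1, 2, 1, 0, 0, 3, 0, 3, 3, 5, 2, 5, 7, 0, 5, 6, 3, 5, 1, 4, 2, 7, 4, 1, 6]
def rw5096 : List ℕ := [2, 0, 0, 5, 0, 5, 5, 4, 1, 4, 1, 1, 3, 5, 0, 5, 3, 1, 1, 4, 0, 0, 2, 4, 1, 4]
def rw5097 : List ℕ := [4, 2, 2, 4, 1, 1, 2, 0, 0, 5, 3, 3, 5, 0, 0, 5, 3, 3, 5, 3, 4, 2, 2, 4, 1, 1]
def rw5098 : List ℕ := [4, 2, 4, 1, 4, 1, 2, 5, 3, 0, 5, 0, 5, 3, 5, 0, 5, 0, 3, 1, 4, 0, 2, 1, 4, 1]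
def rw5099 : List ℕ := [2, 1, 5, 5, 2, 5, 5, 1, 2, 0, 4, 3, 5, 1, 3, 0, 4, 4, 3, 4, 4, 0, 3, 1, 2, 0]
def rw5100 : List ℕ := [1, 4, 0, 2, 2, 0, 5, 3, 5, 3, 3, 5, 3, 5, 5, 4, 2, 4, 2, 2, 4, 2, 4, 1, 3, 3]
def rw5101 : List ℕ := [4, 2, 0, 4, 1, 4, 1, 4, 1, 5, 0, 5, 0, 5, 1, 3, 5, 0, 5, 3, 1, 0, 0, 2, 4, 1]
def rw5102 : List ℕ := [6, 3, 6, 3, 3, 2, 7, 2, 7, 4, 1, 2, 7, 2, 7, 4, 1, 2, 0, 5, 6, 3, 6, 3, 0, 5]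
def rw5103 : List ℕ := [3, 6, 3, 1, 0, 0, 2, 7, 2, 7, 1, 4, 1, 3, 5, 7, 2, 7, 5, 1, 4, 6, 3, 6, 4, 2, 0, 5, 0, 6]
def rw5104 : List ℕ := [2, 7, 5, 3, 4, 6, 3, 6, 4, 2, 0, 5, 0, 6, 3, 6, 3, 1, 2, 0, 2, 7, 2, 7, 1, 4, 1, 3, 5, 7]
def rw5105 : List ℕ := [3, 6, 4, 1, 3, 5, 7, 2, 7, 5, 2, 5, 3, 4, 6, 3, 6, 4, 2, 0, 5, 7, 2, 7, 3, 1, 4, 0, 2, 6]
def rw5106 : List ℕ := [1, 6, 5, 7, 0, 2, 6, 3, 4, 1, 4, 1, 3, 5, 0, 3, 1, 4, 0, 2, 1, 4, 2, 0, 5, 0, 5, 2, 7, 3]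
def rw5107 : List ℕ := [4, 2, 5, 7, 3, 6, 4, 3, 5, 0, 5, 5, 3, 0, 5, 2, 7, 3, 1, 2, 0, 2, 6, 3, 4, 1, 2, 4, 4, 1]
def rw5108 : List ℕ := [0, 4, 0, 4, 3, 5, 1, 5, 1, 5, 1, 5, 1, 5, 1, 2, 0, 4, 0, 4, 0, 4]
def rw5109 : List ℕ := [1, 4, 4, 1, 4, 1, 6, 0, 5, 0, 5, 5, 0, 5, 0, 5, 5, 7, 4, 4, 1, 4]
def rw5110 : List ℕ := [3, 5, 0, 4, 3, 5, 1, 4, 2, 2, 4, 2, 5, 5, 1, 1, 2, 0, 0, 4, 4, 3, 5, 3]
def rw5111 : List ℕ := [1, 2, 0, 0, 4, 1, 2, 1, 1, 1, 4, 0, 0, 0, 3, 0, 5, 1, 1, 3, 0, 4, 2, 5, 3, 5]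
def rw5112 : List ℕ := [1, 1, 3, 5, 2, 5, 3, 4, 2, 0, 0, 3, 3, 0, 5, 1, 1, 1, 4, 0, 0, 0, 4, 1, 2, 2]
def rw5113 : List ℕ := [1, 4, 1, 4, 1, 1, 1, 4, 0, 0, 0, 5, 0, 5, 0, 4, 0, 5, 0, 5, 5, 4, 1, 4, 1, 5]
def rw5114 : List ℕ := [1, 4, 0, 0, 2, 4, 2, 4, 1, 4, 2, 4, 0, 2, 5, 3, 1, 5, 3, 5, 0, 5, 3, 5, 3, 1]
def rw5115 : List ℕ := [3, 1, 4, 0, 2, 0, 2, 4, 2, 4, 1, 4, 2, 4, 2, 5, 3, 5, 3, 5, 0, 5, 3, 5, 3, 1]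
def rw5116 : List ℕ := [0, 2, 1, 4, 1, 4, 2, 4, 1, 4, 1, 2, 5, 3, 0, 5, 0, 5, 3, 5, 0, 5, 0, 3, 1, 4]
def rw5117 : List ℕ := [2, 1, 3, 4, 4, 3, 4, 4, 0, 3, 1, 0, 0, 2, 1, 5, 5, 2, 5, 5, 2, 0, 3, 4, 1, 5]
def rw5118 : List ℕ := [3, 0, 5, 3, 5, 1, 4, 2, 4, 1, 2, 4, 2, 4, 2, 5, 3, 1, 0, 0, 2, 4, 3, 5, 3, 5]
def rw5119 : List ℕ := [1, 1, 4, 0, 0, 6, 3, 6, 1, 3, 0, 6, 3, 6, 2, 5, 3, 7, 2, 7, 1, 2, 0, 7, 2, 7]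
def rw5120 : List ℕ := [1, 5, 0, 7, 2, 7, 1, 1, 6, 0, 0, 6, 3, 6, 1, 4, 0, 6, 3, 6, 5, 7, 4, 7, 2, 7]
def rw5121 : List ℕ := [2, 7, 4, 2, 0, 5, 3, 1, 6, 5, 7, 0, 2, 4, 1, 3, 5, 6, 3, 0, 3, 1, 4, 0, 2, 1]
def rw5122 : List ℕ := [7, 0, 2, 4, 1, 3, 5, 6, 3, 0, 3, 1, 6, 0, 2, 1, 2, 7, 4, 2, 0, 5, 3, 1, 6, 7]
def rw5123 : List ℕ := [0, 2, 6, 3, 3, 5, 3, 1, 6, 0, 2, 4, 2, 2, 7, 3, 1, 6, 3, 3, 5, 7, 4, 2, 2, 7]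
def rw5124 : List ℕ := [3, 1, 3, 7, 4, 3, 1, 6, 0, 2, 5, 6, 2, 0, 2, 6, 3, 6, 5, 6, 7, 7, 4, 7, 2, 7]
def rw5125 : List ℕ := [7, 2, 5, 2, 7, 2, 7, 4, 5, 5, 6, 3, 6, 3, 4, 3, 6, 3, 6, 3, 1, 4, 0, 2, 7, 2]
def rw5126 : List ℕ := [2, 7, 4, 1, 2, 7, 2, 7, 4, 1, 0, 0, 5, 6, 3, 6, 3, 0, 5, 6, 3, 6, 3, 1, 2, 7]
def rw5127 : List ℕ := [2, 7, 4, 1, 2, 7, 2, 7, 4, 1, 6, 0, 5, 6, 3, 6, 3, 0, 5, 6, 3, 6, 3, 7, 2, 7]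
def rw5128 : List ℕ := [2, 7, 0, 2, 6, 4, 1, 1, 5, 5, 1, 1, 4, 0, 0, 4, 4, 0, 0, 5, 7, 3, 1, 6, 3, 3, 5, 2]
def rw5129 : List ℕ := [2, 7, 0, 2, 6, 4, 4, 4, 5, 5, 5, 5, 7, 3, 1, 6, 3, 3, 5, 5, 1, 1, 4, 0, 0, 4, 4, 2]
def rw5130 : List ℕ := [0, 3, 4, 7, 3, 6, 5, 2, 1, 4, 1, 4, 2, 7, 4, 1, 3, 1, 2, 0, 2, 0, 5, 6, 3, 5, 0, 5]
def rw5131 : List ℕ := [2, 7, 4, 2, 6, 5, 2, 5, 2, 0, 5, 1, 4, 1, 3, 4, 3, 4, 7, 3, 5, 6, 3, 3, 1, 0, 0, 2]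
def rw5132 : List ℕ := [7, 4, 1, 6, 1, 2, 2, 5, 3, 1, 4, 0, 2, 4, 3, 3, 0, 7, 0, 5, 6, 1, 2, 4, 5, 5, 3, 0]
def rw5133 : List ℕ := [6, 4, 1, 4, 1, 2, 0, 4, 7, 3, 1, 0, 0, 2, 6, 5, 1, 3, 0, 5, 0, 5, 7, 4, 2, 1, 3, 5]
def rw5134 : List ℕ := [4, 3, 4, 7, 0, 5, 6, 3, 0, 5, 3, 5, 5, 4, 2, 4, 1, 2, 7, 4, 1, 6, 5, 2, 5, 1, 4, 0]
def rw5135 : List ℕ := [0, 5, 6, 3, 0, 5, 3, 5, 5, 4, 2, 4, 1, 2, 7, 4, 1, 6, 5, 2, 5, 1, 4, 0, 4, 3, 4, 7]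
def rw5136 : List ℕ := [6, 3, 6, 6, 1, 4, 1, 4, 4, 3, 5, 5, 0, 5, 0, 7, 7, 2, 7, 1, 6, 5, 1, 2, 0, 4, 7, 0]
def rw5137 : List ℕ := [7, 5, 6, 5, 2, 5, 2, 4, 3, 5, 3, 5, 7, 4, 1, 4, 0, 5, 6, 4, 2, 4, 2, 5, 3, 4, 3, 4]
def rw5138 : List ℕ := [4, 3, 1, 6, 0, 2, 5, 2, 7, 0, 2, 6, 3, 0, 5, 3, 5, 2, 7, 3, 4, 2, 4, 1, 2, 7, 3, 1, 6, 3]
def rw5139 : List ℕ := [3, 1, 6, 0, 2, 5, 2, 3, 3, 4, 3, 1, 7, 0, 2, 6, 3, 0, 5, 3, 3, 1, 2, 0, 2, 2, 4, 1, 2, 7]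
def rw5140 : List ℕ := [2, 7, 5, 3, 1, 4, 0, 2, 4, 6, 3, 6, 4, 2, 0, 5, 7, 2, 7, 2, 5, 3, 6, 3, 6, 4, 1, 3, 5, 7]
def rw5141 : List ℕ := [4, 1, 4, 2, 0, 2, 4, 2, 6, 3, 3, 3, 1, 0, 0, 2, 2, 2, 7, 3, 5, 3, 1, 3, 5, 0, 5, 6, 1, 7]
def rw5142 : List ℕ := [1, 2, 7, 3, 7, 0, 3, 1, 7, 4, 1, 1, 2, 0, 0, 5, 6, 0, 2, 1, 6, 2, 6, 3, 0, 5, 6, 3, 7, 4]
def rw5143 : List ℕ := [7, 4, 1, 3, 5, 6, 5, 7, 4, 2, 0, 5, 6, 4, 4, 1, 4, 2, 2, 4, 1, 4, 0, 5, 3, 3, 5, 0, 5, 5]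
def rw5144 : List ℕ := [2, 4, 0, 5, 2, 1, 4, 4, 4, 4, 7, 3, 1, 2, 0, 2, 6, 5, 5, 5, 5, 0, 3, 4, 1, 5, 3, 7, 3, 6]
def rw5145 : List ℕ := [6, 3, 7, 2, 7, 3, 1, 6, 4, 2, 4, 1, 3, 0, 5, 3, 1, 6, 0, 2, 4, 1, 2, 0, 5, 3, 5, 7, 0, 2]
def rw5146 : List ℕ := [6, 2, 4, 0, 6, 3, 6, 5, 7, 4, 7, 2, 7, 1, 5, 3, 7, 2, 7, 2, 0, 3, 1, 6, 0, 2, 1, 3, 6, 3]
def rw5147 : List ℕ := [7, 5, 2, 5, 1, 0, 0, 4, 3, 4, 6, 3, 4, 4, 3, 4, 7, 4, 2, 2, 1, 3, 3, 5, 6, 5, 2, 5, 5, 2]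
def rw5148 : List ℕ := [6, 3, 3, 0, 2, 4, 4, 1, 5, 5, 3, 1, 2, 2, 7, 4, 2, 6, 1, 5, 3, 1, 0, 0, 2, 4, 0, 7, 3, 5]
def rw5149 : List ℕ := [3, 1, 6, 3, 7, 0, 2, 6, 3, 4, 1, 4, 1, 3, 5, 0, 3, 1, 2, 0, 2, 1, 4, 2, 0, 5, 0, 5, 2, 7]
def rw5150 : List ℕ := [0, 2, 6, 3, 4, 1, 4, 1, 3, 5, 0, 3, 1, 6, 0, 2, 1, 4, 2, 0, 5, 0, 5, 2, 7, 3, 1, 6, 7, 7]
def rw5151 : List ℕ := [0, 5, 6, 5, 7, 4, 1, 6, 2, 2, 7, 4, 1, 6, 1, 3, 3, 1, 4, 0, 2, 2, 0, 7, 0, 5, 6, 3, 3, 7]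
def rw5152 : List ℕ := [3, 1, 0, 0, 2, 0, 2, 6, 3, 4, 1, 3, 5, 3, 5, 2, 7, 1, 6, 3, 4, 2, 4, 2, 0, 5, 2, 7, 3, 1]
def rw5153 : List ℕ := [2, 7, 5, 6, 3, 4, 2, 4, 2, 0, 5, 2, 7, 3, 1, 3, 1, 4, 0, 2, 0, 2, 6, 3, 4, 1, 3, 5, 3, 5]
def rw5154 : List ℕ := [3, 1, 6, 0, 2, 0, 2, 7, 0, 2, 6, 3, 0, 5, 0, 2, 4, 7, 5, 3, 1, 4, 1, 2, 7, 3, 1, 6, 3, 1]
def rw5155 : List ℕ := [6, 3, 4, 2, 4, 2, 0, 5, 2, 7, 3, 1, 2, 6, 3, 4, 1, 3, 5, 3, 5, 2, 7, 1, 3, 1, 0, 0, 2, 0]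
def rw5156 : List ℕ := [5, 1, 1, 1, 3, 4, 1, 2, 1, 1, 1, 6, 0, 0, 0, 3, 0, 5, 2, 0, 0, 0, 4, 2, 7, 3]
def rw5157 : List ℕ := [2, 4, 0, 2, 7, 3, 1, 5, 3, 5, 0, 5, 3, 5, 3, 1, 1, 6, 0, 0, 2, 4, 2, 4, 1, 4]
def rw5158 : List ℕ := [4, 4, 4, 1, 4, 1, 4, 7, 5, 0, 5, 0, 5, 5, 5, 0, 5, 0, 5, 1, 6, 0, 4, 1, 4, 1]
def rw5159 : List ℕ := [5, 3, 5, 3, 5, 2, 5, 3, 5, 3, 6, 2, 4, 2, 4, 3, 4, 2, 4, 2, 4, 4, 4, 7, 5, 5]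
def rw5160 : List ℕ := [2, 7, 2, 7, 3, 6, 3, 6, 1, 3, 7, 2, 7, 1, 1, 1, 6, 0, 0, 0, 6, 3, 6, 2, 0, 7]
def rw5161 : List ℕ := [6, 3, 6, 1, 4, 0, 6, 3, 6, 5, 3, 4, 7, 2, 7, 1, 5, 0, 7, 2, 7, 1, 1, 2, 0, 0]
def rw5162 : List ℕ := [6, 3, 6, 1, 3, 0, 6, 3, 6, 1, 1, 0, 0, 0, 7, 2, 7, 1, 2, 0, 7, 2, 7, 2, 1, 3]
def rw5163 : List ℕ := [3, 6, 1, 1, 4, 0, 0, 7, 2, 7, 1, 2, 0, 7, 2, 7, 2, 5, 3, 6, 3, 6, 1, 3, 0, 6]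
def rw5164 : List ℕ := [7, 1, 7, 1, 3, 3, 2, 0, 6, 0, 6, 3, 6, 0, 6, 1, 3, 1, 2, 0, 2, 0, 7, 1, 7, 2]
def rw5165 : List ℕ := [2, 7, 5, 6, 3, 6, 5, 6, 0, 2, 5, 6, 1, 3, 1, 4, 0, 2, 0, 7, 4, 3, 1, 7, 4, 7]
def rw5166 : List ℕ := [3, 6, 3, 6, 0, 6, 3, 6, 2, 1, 3, 7, 2, 7, 1, 7, 2, 7, 2, 0, 3, 1, 0, 0, 2, 1]
def rw5167 : List ℕ := [7, 2, 2, 7, 3, 3, 6, 3, 6, 0, 6, 3, 6, 3, 3, 1, 6, 0, 2, 2, 7, 2, 7, 1, 7, 2]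
def rw5168 : List ℕ := [7, 4, 0, 6, 3, 6, 3, 1, 7, 4, 3, 1, 6, 0, 2, 5, 6, 0, 2, 7, 2, 7, 1, 5, 6, 7]
def rw5169 : List ℕ := [3, 5, 7, 3, 1, 2, 0, 2, 6, 4, 2, 4, 2, 5, 0, 5, 2, 7, 3, 6, 3, 4, 1, 4, 3, 5]
def rw5170 : List ℕ := [7, 3, 1, 6, 0, 2, 6, 4, 2, 4, 2, 5, 0, 5, 2, 7, 7, 6, 3, 4, 1, 4, 3, 5, 3, 5]
def rw5171 : List ℕ := [2, 7, 4, 1, 2, 7, 2, 7, 4, 1, 2, 0, 5, 6, 3, 6, 3, 0, 5, 6, 3, 6, 3, 3, 2, 7]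
def rw5172 : List ℕ := [5, 3, 1, 2, 4, 7, 2, 7, 1, 5, 3, 7, 2, 7, 1, 0, 0, 6, 3, 6, 2, 4, 0, 6, 3, 6]
def rw5173 : List ℕ := [3, 5, 1, 4, 2, 7, 7, 1, 7, 2, 6, 3, 1, 4, 1, 1, 0, 0, 0, 5, 0, 2, 7, 3, 6, 0, 6, 6]
def rw5174 : List ℕ := [1, 7, 2, 6, 3, 5, 1, 4, 2, 7, 3, 6, 0, 6, 6, 3, 1, 4, 1, 1, 0, 0, 0, 5, 0, 2, 7, 7]
def rw5175 : List ℕ := [7, 3, 5, 6, 3, 3, 1, 4, 0, 2, 2, 7, 4, 2, 6, 5, 2, 5, 2, 0, 5, 5, 4, 1, 3, 4, 3, 4]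
def rw5176 : List ℕ := [6, 1, 1, 5, 2, 7, 2, 7, 4, 3, 1, 2, 5, 6, 3, 6, 3, 4, 0, 0, 7, 2, 7, 1, 1, 0, 0, 0, 6, 3]
def rw5177 : List ℕ := [0, 4, 3, 4, 3, 3, 1, 6, 0, 2, 2, 5, 2, 5, 1, 7, 3, 4, 3, 4, 3, 6, 7, 7, 2, 5, 2, 5, 2, 6]
def rw5178 : List ℕ := [2, 7, 1, 5, 6, 2, 1, 3, 7, 4, 0, 6, 3, 6, 3, 1, 7, 4, 0, 3, 1, 0, 0, 2, 1, 5, 6, 0, 2, 7]
def rw5179 : List ℕ := [3, 6, 5, 1, 5, 2, 5, 1, 2, 0, 4, 3, 4, 0, 4, 7, 2, 7, 2, 7, 2, 7, 4, 3, 5, 6, 3, 6, 3, 6]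
def rw5180 : List ℕ := [5, 3, 4, 3, 5, 2, 5, 2, 4, 7, 0, 5, 6, 1, 2, 1, 2, 0, 3, 0, 7, 4, 1, 6, 5, 3, 4, 3, 4, 2]
def rw5181 : List ℕ := [6, 3, 6, 4, 1, 3, 5, 7, 2, 7, 5, 3, 1, 4, 0, 2, 4, 6, 3, 6, 4, 2, 0, 5, 7, 2, 7, 2, 5, 3]
def rw5182 : List ℕ := [6, 3, 6, 5, 6, 2, 1, 3, 7, 4, 7, 2, 7, 3, 1, 3, 7, 4, 0, 3, 1, 0, 0, 2, 1, 5, 6, 2, 0, 2]
def rw5183 : List ℕ := [3, 6, 4, 1, 3, 5, 7, 2, 7, 5, 5, 4, 6, 3, 6, 4, 2, 0, 5, 7, 2, 7, 1, 3, 1, 4, 0, 2, 0, 6]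
def rw5184 : List ℕ := [2, 5, 6, 3, 3, 1, 4, 0, 2, 2, 7, 4, 3, 1, 3, 3, 5, 3, 1, 6, 3, 5, 2, 7, 0, 2, 4, 2, 2, 0]
def rw5185 : List ℕ := [6, 3, 0, 5, 0, 2, 4, 3, 1, 7, 2, 7, 3, 6, 0, 2, 5, 3, 1, 4, 1, 2, 7, 0, 3, 1, 6, 0, 2, 1]
def rw5186 : List ℕ := [6, 3, 6, 0, 2, 5, 0, 5, 6, 3, 6, 3, 3, 1, 2, 0, 2, 2, 7, 2, 7, 4, 1, 4, 3, 1, 7, 2, 7, 3]
def rw5187 : List ℕ := [3, 6, 3, 3, 1, 4, 0, 2, 2, 7, 2, 7, 4, 1, 4, 3, 1, 7, 2, 7, 5, 6, 3, 6, 0, 2, 5, 0, 5, 6]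
def rw5188 : List ℕ := [6, 5, 3, 1, 0, 0, 2, 4, 7, 2, 7, 1, 5, 1, 3, 6, 3, 6, 2, 1, 3, 7, 2, 7, 2, 0, 4, 0, 6, 3]
def rw5189 : List ℕ := [5, 3, 1, 5, 5, 0, 3, 1, 0, 0, 2, 1, 4, 4, 0, 2, 4, 0, 7, 3, 5, 6, 3, 1, 2, 7, 4, 2, 6, 1]
def rw5190 : List ℕ := [3, 5, 2, 7, 2, 7, 3, 3, 1, 6, 0, 2, 2, 6, 3, 6, 3, 4, 2, 6, 3, 0, 2, 6, 7, 7, 3, 1, 2, 7]
def rw5191 : List ℕ := [6, 3, 6, 3, 4, 3, 1, 0, 0, 2, 5, 2, 7, 2, 7, 4, 7, 4, 3, 1, 7, 4, 1, 5, 6, 0, 2, 5, 6, 5]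
def rw5192 : List ℕ := [2, 6, 2, 0, 7, 7, 6, 1, 3, 7, 3, 1, 6, 2, 0, 7, 3, 1, 3, 1, 6, 0, 2, 0, 2, 6, 1, 3, 7, 0]
def rw5193 : List ℕ := [2, 6, 3, 6, 5, 2, 5, 2, 6, 3, 6, 5, 3, 4, 7, 2, 7, 3, 4, 3, 4, 7, 2, 7, 3, 4, 3, 2, 2, 5]
def rw5194 : List ℕ := [1, 4, 4, 6, 3, 6, 2, 1, 1, 4, 0, 0, 3, 7, 2, 7, 5, 5, 0, 7, 0, 3, 1, 7, 5, 6, 0, 2, 1, 6]
def rw5195 : List ℕ := [6, 3, 4, 3, 5, 2, 7, 2, 7, 4, 3, 0, 7, 2, 7, 1, 1, 1, 2, 0, 0, 0, 6, 3, 6, 1, 2, 5, 6, 3]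
def rw5196 : List ℕ := [7, 2, 4, 2, 4, 2, 1, 4, 1, 6, 7, 7, 0, 5, 0, 3, 5, 3, 5, 3, 6, 3, 0, 3, 1, 6, 0, 2, 1, 2]
def rw5197 : List ℕ := [6, 3, 6, 3, 5, 2, 7, 2, 7, 1, 7, 2, 7, 2, 2, 1, 3, 1, 1, 4, 0, 0, 2, 0, 3, 3, 6, 3, 6, 0]
def rw5198 : List ℕ := [5, 5, 7, 3, 1, 6, 3, 3, 5, 5, 1, 1, 0, 0, 0, 4, 4, 2, 2, 7, 0, 2, 6, 4, 4, 4, 1, 5]
def rw5199 : List ℕ := [2, 6, 4, 4, 4, 5, 5, 5, 5, 7, 3, 1, 6, 3, 3, 5, 5, 1, 1, 4, 0, 0, 4, 4, 2, 2, 7, 0]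
def rw5200 : List ℕ := [1, 1, 4, 0, 0, 0, 5, 5, 2, 1, 5, 5, 7, 0, 2, 6, 4, 5, 5, 7, 3, 1, 6, 4, 4, 0, 3, 4, 4, 1]
def rw5201 : List ℕ := [6, 1, 3, 3, 0, 5, 3, 4, 1, 2, 2, 0, 7, 3, 1, 6, 2, 1, 5, 3, 1, 2, 0, 2, 4, 0, 3, 7, 0, 2]
def rw5202 : List ℕ := [0, 0, 3, 1, 3, 3, 3, 3, 1, 3, 7, 2, 0, 2, 2, 2, 2, 0, 2, 1, 1, 6]
def rw5203 : List ℕ := [2, 7, 3, 1, 2, 1, 2, 0, 2, 2, 1, 1, 6, 0, 0, 3, 3, 1, 3, 0, 3, 0]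
def rw5204 : List ℕ := [0, 3, 0, 0, 3, 1, 3, 3, 3, 7, 2, 2, 2, 0, 2, 1, 1, 2, 1, 3, 1, 1, 6, 0, 0, 2]
def rw5205 : List ℕ := [5, 7, 4, 1, 4, 1, 1, 4, 1, 4, 1, 1, 6, 0, 0, 5, 0, 5, 0, 0, 5, 0]
def rw5206 : List ℕ := [4, 0, 4, 0, 4, 0, 4, 0, 4, 7, 5, 1, 5, 1, 5, 1, 5, 1, 5, 1, 6, 0]
def rw5207 : List ℕ := [5, 0, 5, 0, 5, 0, 5, 0, 5, 7, 4, 1, 4, 1, 4, 1, 4, 1, 4, 1, 6, 0]
def rw5208 : List ℕ := [4, 3, 5, 3, 3, 5, 0, 4, 7, 5, 1, 4, 2, 2, 4, 2, 5, 5, 1, 1, 6, 0, 0, 4]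
def rw5209 : List ℕ := [3, 3, 4, 0, 0, 4, 3, 3, 4, 7, 5, 2, 2, 5, 1, 1, 5, 2, 2, 5, 1, 1, 6, 0, 0, 4]
def rw5210 : List ℕ := [5, 1, 1, 5, 5, 1, 1, 5, 5, 1, 1, 6, 0, 0, 4, 4, 0, 0, 4, 4, 0, 0, 4, 4, 7, 5]
def rw5211 : List ℕ := [3, 5, 3, 5, 3, 0, 5, 3, 5, 7, 4, 2, 4, 1, 2, 4, 2, 4, 2, 5, 3, 1, 6, 0, 2, 4]
def rw5212 : List ℕ := [1, 3, 0, 4, 4, 3, 4, 4, 3, 1, 6, 0, 2, 5, 5, 2, 5, 5, 1, 2, 0, 4, 3, 7, 2, 5]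
def rw5213 : List ℕ := [3, 4, 1, 5, 5, 3, 3, 4, 1, 6, 0, 5, 2, 2, 4, 4, 0, 5, 2, 2, 4, 4, 7, 5, 5, 3]
def rw5214 : List ℕ := [4, 7, 4, 7, 5, 6, 5, 6, 5, 6, 5, 6, 5, 4, 4, 7, 4, 7]
def rw5215 : List ℕ := [6, 5, 4, 4, 7, 4, 7, 4, 7, 4, 7, 5, 6, 5, 6, 5, 6, 5]
def rw5216 : List ℕ := [7, 2, 7, 1, 2, 0, 7, 2, 7, 1, 1, 0, 0, 0, 6, 3, 6, 1, 3, 0, 6, 3, 6, 2, 1, 3]
def rw5217 : List ℕ := [6, 2, 1, 3, 6, 3, 6, 2, 5, 3, 7, 2, 7, 2, 0, 3, 7, 2, 7, 1, 1, 4, 0, 0, 6, 3]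
def rw5218 : List ℕ := [7, 2, 7, 2, 7, 3, 6, 3, 6, 1, 3, 0, 6, 3, 6, 1, 1, 6, 0, 0, 7, 2, 7, 1, 2, 0]
def rw5219 : List ℕ := [4, 2, 2, 7, 0, 2, 6, 3, 3, 5, 3, 1, 6, 0, 2, 4, 2, 2, 7, 3, 1, 6, 3, 3, 5, 7]
def rw5220 : List ℕ := [3, 1, 6, 0, 2, 5, 6, 2, 0, 2, 6, 3, 6, 5, 6, 7, 7, 4, 7, 2, 7, 3, 1, 3, 7, 4]
def rw5221 : List ℕ := [0, 3, 1, 4, 0, 2, 1, 2, 0, 2, 2, 2, 5, 3, 3, 3, 1, 3]
def rw5222 : List ℕ := [0, 2, 2, 2, 2, 0, 2, 1, 1, 4, 0, 0, 3, 1, 3, 3, 3, 3, 1, 3, 5, 2]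
def rw5223 : List ℕ := [0, 3, 3, 1, 3, 0, 3, 3, 1, 4, 0, 2, 2, 1, 2, 0, 2, 2, 1, 2, 5, 3]
def rw5224 : List ℕ := [4, 1, 1, 2, 0, 0, 5, 0, 5, 0, 0, 5, 0, 5, 3, 4, 1, 4, 1, 1, 4, 1]
def rw5225 : List ℕ := [4, 1, 4, 1, 1, 4, 0, 0, 5, 0, 5, 0, 0, 5, 0, 5, 5, 4, 1, 4, 1, 1]
def rw5226 : List ℕ := [4, 4, 1, 4, 1, 2, 0, 5, 0, 5, 5, 0, 5, 0, 5, 5, 3, 4, 4, 1, 4, 1]
def rw5227 : List ℕ := [2, 4, 2, 2, 4, 2, 4, 1, 5, 3, 5, 3, 3, 5, 3, 5, 3, 3, 0, 2, 2, 4]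
def rw5228 : List ℕ := [2, 4, 2, 4, 4, 1, 5, 5, 3, 5, 3, 5, 5, 3, 5, 3, 0, 2, 4, 2, 4, 4]
def rw5229 : List ℕ := [4, 4, 3, 5, 5, 5, 3, 3, 5, 3, 1, 5, 1, 1, 2, 0, 0, 4, 0, 2, 4, 2, 2, 4]
def rw5230 : List ℕ := [1, 1, 0, 0, 0, 4, 4, 3, 5, 3, 3, 5, 0, 4, 1, 5, 1, 4, 2, 2, 4, 2, 5, 5]
def rw5231 : List ℕ := [2, 2, 4, 2, 5, 5, 1, 1, 4, 0, 0, 4, 4, 3, 5, 3, 3, 5, 0, 4, 5, 5, 1, 4]
def rw5232 : List ℕ := [5, 3, 3, 5, 0, 4, 5, 5, 1, 4, 2, 2, 4, 2, 5, 5, 1, 1, 4, 0, 0, 4, 4, 3]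
def rw5233 : List ℕ := [5, 1, 3, 5, 3, 3, 5, 5, 5, 1, 1, 2, 0, 0, 4, 4, 4, 2, 2, 4, 2, 0, 4, 3]
def rw5234 : List ℕ := [3, 5, 2, 0, 3, 0, 4, 1, 2, 1, 1, 1, 0, 0, 0, 0, 3, 0, 5, 1, 2, 1, 3, 4, 2, 1]
def rw5235 : List ℕ := [2, 0, 3, 0, 4, 1, 2, 1, 1, 1, 4, 0, 0, 0, 3, 0, 5, 1, 2, 1, 3, 4, 2, 5, 3, 5]
def rw5236 : List ℕ := [4, 1, 2, 1, 2, 0, 0, 5, 1, 1, 1, 0, 0, 0, 0, 4, 1, 1, 3, 0, 3, 0, 5, 2, 1, 3]
def rw5237 : List ℕ := [3, 3, 0, 5, 2, 1, 3, 4, 1, 2, 2, 0, 3, 0, 5, 1, 1, 1, 0, 0, 0, 0, 4, 1, 2, 1]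
def rw5238 : List ℕ := [2, 0, 0, 3, 3, 0, 5, 1, 1, 1, 0, 0, 0, 0, 4, 1, 2, 2, 1, 1, 3, 5, 2, 1, 3, 4]
def rw5239 : List ℕ := [0, 2, 0, 4, 2, 4, 1, 4, 2, 4, 2, 3, 3, 5, 3, 5, 0, 5, 3, 5, 1, 3, 1, 1, 2, 0]
def rw5240 : List ℕ := [1, 5, 1, 1, 0, 0, 0, 4, 0, 4, 4, 0, 0, 4, 0, 4, 4, 1, 5, 5, 1, 5, 1, 1, 5, 5]
def rw5241 : List ℕ := [1, 1, 5, 5, 1, 5, 1, 1, 4, 0, 0, 4, 0, 4, 4, 0, 0, 4, 0, 4, 4, 5, 5, 5, 1, 5]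
def rw5242 : List ℕ := [0, 5, 1, 1, 0, 0, 0, 4, 1, 5, 5, 1, 1, 5, 0, 4, 4, 1, 5, 5, 1, 4, 0, 0, 4, 4]
def rw5243 : List ℕ := [1, 5, 0, 4, 4, 3, 5, 5, 1, 4, 0, 0, 4, 4, 0, 5, 1, 1, 2, 0, 0, 4, 1, 5, 5, 1]
def rw5244 : List ℕ := [0, 0, 4, 4, 0, 5, 1, 1, 2, 0, 0, 4, 1, 5, 5, 1, 1, 5, 0, 4, 4, 3, 5, 5, 1, 4]
def rw5245 : List ℕ := [1, 1, 5, 0, 4, 4, 7, 5, 5, 1, 4, 0, 0, 4, 4, 0, 5, 1, 1, 6, 0, 0, 4, 1, 5, 5]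
def rw5246 : List ℕ := [2, 5, 1, 1, 0, 0, 0, 4, 3, 3, 4, 0, 0, 4, 3, 3, 4, 1, 5, 2, 2, 5, 1, 1, 5, 2]
def rw5247 : List ℕ := [1, 1, 5, 5, 1, 1, 4, 0, 0, 4, 4, 0, 0, 4, 4, 0, 0, 4, 4, 5, 5, 5, 1, 1, 5, 5]
def rw5248 : List ℕ := [2, 4, 1, 4, 1, 3, 5, 2, 0, 5, 0, 5, 3, 5, 0, 5, 1, 3, 1, 4, 0, 2, 0, 4, 1, 4]
def rw5249 : List ℕ := [0, 4, 1, 4, 2, 4, 1, 4, 1, 3, 7, 2, 0, 5, 0, 5, 3, 5, 0, 5, 1, 3, 1, 6, 0, 2]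
def rw5250 : List ℕ := [2, 4, 1, 4, 2, 4, 2, 0, 3, 1, 4, 0, 2, 1, 3, 5, 3, 5, 0, 5, 3, 5, 2, 5, 3, 4]
def rw5251 : List ℕ := [1, 4, 1, 2, 5, 3, 0, 5, 0, 5, 3, 5, 0, 5, 0, 3, 1, 4, 0, 2, 1, 4, 1, 4, 2, 4]
def rw5252 : List ℕ := [3, 4, 4, 3, 4, 4, 0, 3, 1, 4, 0, 2, 1, 5, 5, 2, 5, 5, 2, 0, 3, 4, 5, 5, 2, 1]
def rw5253 : List ℕ := [1, 4, 0, 3, 0, 2, 5, 0, 3, 5, 2, 1, 4, 3, 1, 2, 1, 5, 0, 3, 3, 1, 4, 0, 2, 2]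
def rw5254 : List ℕ := [4, 2, 4, 1, 4, 2, 4, 2, 2, 1, 3, 3, 5, 3, 5, 0, 5, 3, 5, 3, 3, 1, 0, 0, 2, 2]
def rw5255 : List ℕ := [1, 4, 1, 5, 1, 4, 0, 5, 0, 5, 0, 3, 5, 0, 5, 3, 1, 0, 0, 2, 4, 1, 4, 2, 1, 4]
def rw5256 : List ℕ := [1, 5, 3, 4, 0, 5, 0, 5, 0, 3, 5, 0, 5, 3, 1, 2, 0, 2, 4, 1, 4, 2, 1, 4, 1, 4]
def rw5257 : List ℕ := [2, 1, 4, 1, 4, 1, 5, 7, 4, 0, 5, 0, 5, 0, 3, 5, 0, 5, 3, 1, 6, 0, 2, 4, 1, 4]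
def rw5258 : List ℕ := [0, 5, 5, 1, 4, 4, 1, 4, 1, 4, 3, 5, 0, 5, 3, 1, 0, 0, 2, 4, 1, 4, 2, 5, 0, 5]
def rw5259 : List ℕ := [3, 1, 4, 1, 3, 5, 3, 1, 2, 0, 2, 4, 2, 0, 5, 0, 2, 4, 2, 0, 5, 3, 4, 1, 3, 5]
def rw5260 : List ℕ := [4, 2, 4, 2, 5, 3, 1, 0, 0, 2, 4, 3, 5, 3, 5, 3, 0, 5, 3, 5, 1, 4, 2, 4, 1, 2]
def rw5261 : List ℕ := [4, 2, 4, 0, 5, 3, 5, 1, 4, 2, 4, 1, 5, 3, 5, 3, 5, 5, 3, 1, 0, 0, 2, 4, 4, 2]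
def rw5262 : List ℕ := [5, 3, 5, 7, 4, 2, 4, 1, 5, 3, 5, 3, 5, 5, 3, 1, 6, 0, 2, 4, 4, 2, 4, 2, 4, 0]
def rw5263 : List ℕ := [3, 0, 3, 0, 3, 4, 3, 1, 4, 0, 2, 5, 2, 1, 2, 1, 2, 2, 2, 5, 5, 5, 4, 4, 3, 3]
def rw5264 : List ℕ := [2, 0, 4, 3, 7, 2, 5, 1, 3, 0, 4, 4, 3, 4, 4, 3, 1, 6, 0, 2, 5, 5, 2, 5, 5, 1]
def rw5265 : List ℕ := [1, 2, 1, 0, 0, 3, 0, 3, 3, 3, 4, 4, 1, 3, 4, 3, 1, 2, 5, 2, 0, 5, 5, 2, 2, 2]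
def rw5266 : List ℕ := [3, 4, 3, 3, 2, 5, 2, 0, 5, 5, 2, 2, 2, 1, 2, 1, 2, 0, 3, 0, 3, 3, 3, 4, 4, 1]
def rw5267 : List ℕ := [5, 5, 2, 2, 2, 1, 2, 1, 4, 0, 3, 0, 3, 3, 3, 4, 4, 1, 3, 4, 3, 5, 2, 5, 2, 0]
def rw5268 : List ℕ := [2, 4, 1, 3, 5, 2, 4, 2, 4, 2, 1, 0, 0, 3, 5, 3, 5, 3, 4, 2, 0, 5, 3, 5, 1, 4]
def rw5269 : List ℕ := [2, 1, 2, 0, 3, 5, 3, 5, 3, 4, 2, 0, 5, 3, 5, 3, 4, 2, 4, 1, 3, 5, 2, 4, 2, 4]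
def rw5270 : List ℕ := [5, 2, 4, 2, 4, 2, 1, 4, 0, 3, 5, 3, 5, 3, 4, 2, 0, 5, 3, 5, 5, 4, 2, 4, 1, 3]
def rw5271 : List ℕ := [4, 1, 4, 3, 5, 0, 5, 0, 5, 5, 5, 0, 5, 0, 5, 1, 2, 0, 4, 1, 4, 1, 4, 4, 4, 1]
def rw5272 : List ℕ := [2, 5, 0, 4, 4, 2, 2, 5, 5, 4, 3, 3, 5, 5, 1, 4, 3, 3, 5, 5, 1, 4, 0, 4, 4, 2]
def rw5273 : List ℕ := [2, 5, 0, 4, 4, 2, 2, 5, 7, 4, 3, 3, 5, 5, 1, 4, 3, 3, 5, 5, 1, 6, 0, 4, 4, 2]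
def rw5274 : List ℕ := [5, 2, 4, 1, 4, 2, 0, 5, 5, 3, 4, 4, 1, 3, 5, 0, 5, 3, 4, 1, 4, 1, 2, 0, 5, 0]
def rw5275 : List ℕ := [3, 4, 1, 4, 0, 5, 2, 0, 5, 2, 0, 5, 2, 0, 5, 2, 5, 3, 4, 1, 3, 4, 1, 3, 4, 1]
def rw5276 : List ℕ := [2, 4, 4, 0, 5, 2, 2, 4, 4, 1, 5, 5, 3, 3, 4, 1, 5, 5, 3, 3, 4, 1, 0, 0, 5, 2]
def rw5277 : List ℕ := [2, 2, 4, 4, 1, 5, 5, 3, 3, 4, 1, 5, 5, 3, 3, 4, 1, 0, 0, 5, 2, 2, 4, 4, 0, 5]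
def rw5278 : List ℕ := [2, 4, 4, 1, 5, 5, 3, 3, 4, 1, 5, 5, 3, 3, 4, 1, 0, 0, 5, 2, 2, 4, 4, 0, 5, 2]
def rw5279 : List ℕ := [4, 1, 5, 3, 5, 3, 4, 3, 5, 3, 5, 3, 3, 3, 0, 2, 2, 2, 4, 2, 4, 2, 5, 2, 4, 2]
def rw5280 : List ℕ := [4, 2, 4, 3, 5, 3, 5, 3, 4, 3, 5, 3, 5, 3, 3, 3, 2, 2, 2, 2, 4, 2, 4, 2, 5, 2]
def rw5281 : List ℕ := [4, 2, 2, 4, 4, 2, 2, 4, 4, 1, 5, 5, 3, 3, 5, 5, 3, 3, 5, 5, 3, 3, 0, 2, 2, 4]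
def rw5282 : List ℕ := [2, 4, 4, 2, 2, 4, 4, 2, 2, 4, 4, 5, 5, 5, 3, 3, 5, 5, 3, 3, 5, 5, 3, 3, 4, 2]
def rw5283 : List ℕ := [4, 4, 3, 5, 5, 5, 3, 5, 3, 5, 2, 5, 3, 5, 3, 2, 2, 4, 2, 4, 3, 4, 2, 4, 2, 4]
def rw5284 : List ℕ := [3, 6, 1, 4, 7, 2, 7, 1, 5, 5, 4, 0, 6, 3, 6, 5, 0, 7, 2, 7, 1, 1, 4, 0, 0, 6]
def rw5285 : List ℕ := [3, 4, 2, 4, 2, 0, 5, 2, 7, 7, 6, 3, 4, 1, 3, 5, 3, 5, 2, 7, 3, 1, 6, 0, 2, 6]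
def rw5286 : List ℕ := [6, 3, 6, 3, 4, 3, 6, 3, 6, 3, 1, 2, 0, 2, 7, 2, 7, 2, 5, 2, 7, 2, 7, 4, 3, 5]
def rw5287 : List ℕ := [2, 6, 4, 4, 4, 1, 5, 5, 5, 7, 3, 1, 6, 3, 3, 5, 5, 1, 1, 0, 0, 0, 4, 4, 2, 2, 7, 0]
def rw5288 : List ℕ := [2, 6, 4, 4, 4, 3, 5, 5, 5, 7, 3, 1, 6, 3, 3, 5, 5, 1, 1, 2, 0, 0, 4, 4, 2, 2, 7, 0]
def rw5289 : List ℕ := [2, 6, 4, 4, 4, 7, 5, 5, 5, 7, 3, 1, 6, 3, 3, 5, 5, 1, 1, 6, 0, 0, 4, 4, 2, 2, 7, 0]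
def rw5290 : List ℕ := [7, 4, 2, 6, 5, 2, 5, 2, 0, 5, 3, 3, 1, 0, 0, 2, 2, 4, 1, 3, 4, 3, 4, 7, 3, 5, 6, 1]
def rw5291 : List ℕ := [4, 2, 6, 5, 2, 5, 2, 0, 5, 5, 4, 1, 3, 4, 3, 4, 7, 3, 5, 6, 3, 3, 1, 4, 0, 2, 2, 7]
def rw5292 : List ℕ := [7, 3, 6, 3, 4, 1, 3, 4, 3, 4, 7, 0, 5, 3, 1, 2, 0, 2, 4, 1, 6, 5, 2, 5, 2, 0, 5, 2]
def rw5293 : List ℕ := [0, 5, 3, 1, 6, 0, 2, 4, 1, 6, 5, 2, 5, 2, 0, 5, 2, 7, 7, 6, 3, 4, 1, 3, 4, 3, 4, 7]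
def rw5294 : List ℕ := [1, 7, 4, 3, 4, 3, 5, 2, 5, 6, 0, 2, 6, 6, 5, 2, 5, 3, 1, 2, 0, 2, 4, 3, 4, 7, 7, 3]
def rw5295 : List ℕ := [0, 2, 6, 6, 5, 2, 5, 3, 1, 2, 0, 2, 4, 3, 4, 7, 7, 3, 1, 7, 4, 3, 4, 3, 5, 2, 5, 6]
def rw5296 : List ℕ := [6, 5, 2, 5, 3, 1, 2, 0, 2, 4, 3, 4, 7, 7, 3, 1, 7, 4, 3, 4, 3, 5, 2, 5, 6, 0, 2, 6]
def rw5297 : List ℕ := [2, 6, 6, 5, 2, 5, 3, 1, 4, 0, 2, 4, 3, 4, 7, 7, 3, 1, 7, 4, 3, 4, 5, 5, 2, 5, 6, 0]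
def rw5298 : List ℕ := [7, 3, 1, 7, 4, 3, 4, 5, 5, 2, 5, 6, 0, 2, 6, 6, 5, 2, 5, 3, 1, 4, 0, 2, 4, 3, 4, 7]
def rw5299 : List ℕ := [2, 1, 4, 1, 4, 6, 3, 4, 3, 1, 0, 0, 2, 5, 2, 7, 5, 0, 5, 0, 3, 4, 3, 6, 1, 7, 2, 5]
def rw5300 : List ℕ := [7, 4, 3, 1, 0, 0, 2, 5, 6, 4, 1, 4, 1, 2, 0, 4, 7, 2, 1, 3, 6, 5, 1, 3, 0, 5, 0, 5]
def rw5301 : List ℕ := [7, 5, 6, 5, 2, 5, 2, 5, 1, 4, 0, 4, 3, 4, 3, 4, 7, 4, 6, 2, 7, 4, 4, 5, 5, 5, 6, 3]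
def rw5302 : List ℕ := [2, 7, 2, 0, 4, 7, 1, 6, 5, 1, 3, 6, 3, 4, 6, 2, 5, 2, 5, 1, 0, 0, 4, 3, 4, 3, 7, 5]
def rw5303 : List ℕ := [5, 3, 5, 5, 4, 2, 4, 1, 2, 7, 4, 1, 6, 5, 2, 5, 1, 4, 0, 4, 3, 4, 7, 0, 5, 6, 3, 0]
def rw5304 : List ℕ := [0, 5, 0, 5, 7, 4, 3, 4, 7, 2, 1, 3, 6, 5, 2, 5, 6, 4, 1, 4, 1, 6, 5, 1, 0, 0, 4, 7]
def rw5305 : List ℕ := [3, 5, 5, 3, 5, 3, 3, 4, 7, 1, 6, 5, 2, 2, 4, 2, 4, 4, 2, 2, 7, 4, 1, 0, 0, 5, 6, 3]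
def rw5306 : List ℕ := [1, 2, 0, 5, 6, 3, 3, 5, 5, 3, 5, 3, 3, 4, 7, 3, 6, 5, 2, 2, 4, 2, 4, 4, 2, 2, 7, 4]
def rw5307 : List ℕ := [1, 6, 3, 4, 3, 1, 0, 0, 2, 5, 2, 7, 0, 2, 6, 3, 0, 5, 3, 5, 2, 1, 3, 4, 2, 4, 1, 2, 7, 3]
def rw5308 : List ℕ := [7, 1, 4, 3, 6, 3, 6, 5, 1, 0, 0, 4, 7, 2, 7, 2, 5, 0, 6, 3, 6, 2, 5, 2, 1, 3, 4, 3, 7, 2]
def rw5309 : List ℕ := [6, 3, 3, 1, 2, 0, 2, 2, 7, 3, 5, 0, 5, 0, 2, 4, 2, 6, 3, 3, 2, 7, 3, 5, 3, 1, 4, 1, 4, 2]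
def rw5310 : List ℕ := [3, 1, 4, 0, 2, 2, 7, 3, 5, 0, 5, 0, 2, 4, 2, 6, 3, 5, 2, 7, 3, 5, 3, 1, 4, 1, 4, 2, 6, 3]
def rw5311 : List ℕ := [7, 3, 1, 6, 3, 3, 5, 1, 3, 1, 1, 4, 0, 0, 2, 0, 4, 2, 2, 7, 0, 2, 6, 3, 3, 5, 5, 4, 2, 2]
def rw5312 : List ℕ := [7, 6, 3, 0, 5, 3, 5, 6, 3, 6, 3, 6, 3, 4, 1, 6, 0, 5, 2, 7, 2, 7, 2, 7, 4, 2, 4, 1, 2, 7]
def rw5313 : List ℕ := [7, 3, 7, 2, 7, 2, 5, 3, 6, 3, 6, 2, 6, 3, 3, 5, 6, 3, 3, 5, 1, 4, 0, 4, 2, 2, 7, 4, 2, 2]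
def rw5314 : List ℕ := [4, 1, 4, 1, 5, 0, 5, 6, 3, 3, 1, 2, 7, 3, 5, 1, 3, 1, 0, 0, 2, 0, 4, 2, 6, 3, 0, 2, 2, 7]
def rw5315 : List ℕ := [1, 2, 7, 3, 5, 1, 3, 1, 2, 0, 2, 0, 4, 2, 6, 3, 0, 2, 2, 7, 4, 1, 4, 3, 5, 0, 5, 6, 3, 3]
def rw5316 : List ℕ := [7, 4, 1, 4, 3, 5, 0, 5, 6, 3, 3, 1, 2, 7, 3, 5, 1, 3, 1, 2, 0, 2, 0, 4, 2, 6, 3, 0, 2, 2]
def rw5317 : List ℕ := [7, 4, 1, 4, 5, 5, 0, 5, 6, 3, 3, 1, 2, 7, 3, 5, 1, 3, 1, 4, 0, 2, 0, 4, 2, 6, 3, 0, 2, 2]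
def rw5318 : List ℕ := [6, 5, 2, 7, 3, 6, 3, 4, 7, 4, 7, 4, 0, 2, 5, 6, 1, 3, 1, 2, 0, 2, 0, 7, 4, 3, 1, 5, 6, 5]
def rw5319 : List ℕ := [5, 2, 5, 2, 5, 7, 3, 5, 3, 5, 7, 3, 6, 4, 2, 4, 2, 6, 4, 3, 4, 3, 4, 6, 3, 3, 2, 2, 2, 7]
def rw5320 : List ℕ := [3, 3, 3, 1, 6, 0, 2, 2, 2, 7, 3, 5, 3, 1, 3, 5, 0, 5, 6, 7, 7, 4, 1, 4, 2, 0, 2, 4, 2, 6]
def rw5321 : List ℕ := [1, 7, 0, 5, 0, 4, 2, 4, 2, 4, 6, 3, 0, 3, 1, 0, 0, 2, 1, 2, 7, 5, 3, 5, 3, 5, 1, 4, 1, 6]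
def rw5322 : List ℕ := [4, 2, 0, 5, 1, 3, 1, 2, 0, 2, 0, 4, 1, 3, 5, 6, 0, 2, 2, 2, 7, 3, 3, 2, 6, 3, 3, 3, 1, 7]
def rw5323 : List ℕ := [7, 1, 4, 2, 4, 3, 4, 1, 4, 0, 5, 2, 5, 3, 5, 0, 6, 3, 3, 6, 6, 5, 2, 5, 3, 4, 7, 7, 2, 2]
def rw5324 : List ℕ := [4, 1, 4, 2, 2, 4, 1, 0, 0, 5, 3, 3, 5, 0, 5, 5, 7, 4, 1, 3, 5, 6, 1, 7, 4, 2, 0, 5, 6, 4]
def rw5325 : List ℕ := [6, 4, 0, 4, 4, 3, 5, 5, 1, 5, 7, 0, 2, 6, 4, 0, 4, 4, 3, 1, 2, 0, 2, 5, 5, 1, 5, 7, 3, 1]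
def rw5326 : List ℕ := [3, 5, 2, 7, 0, 5, 0, 4, 2, 4, 2, 4, 6, 3, 3, 1, 4, 0, 2, 2, 7, 5, 3, 5, 3, 5, 1, 4, 1, 6]
def rw5327 : List ℕ := [7, 2, 7, 5, 6, 3, 6, 0, 2, 5, 0, 5, 6, 3, 6, 3, 3, 1, 4, 0, 2, 2, 7, 2, 7, 4, 1, 4, 3, 1]
def rw5328 : List ℕ := [6, 5, 7, 7, 2, 0, 6, 6, 4, 3, 4, 4, 0, 3, 3, 1, 4, 0, 2, 2, 1, 5, 5, 2, 5, 7, 7, 1, 3, 6]
def rw5329 : List ℕ := [1, 3, 5, 3, 3, 5, 2, 2, 7, 7, 6, 3, 3, 4, 2, 2, 4, 2, 0, 5, 5, 7, 3, 1, 6, 0, 2, 6, 4, 4]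
def rw5330 : List ℕ := [7, 3, 1, 6, 3, 3, 5, 2, 5, 3, 4, 2, 2, 7, 0, 2, 6, 3, 3, 5, 0, 3, 1, 4, 0, 2, 1, 4, 2, 2]
def rw5331 : List ℕ := [3, 6, 3, 1, 0, 0, 2, 7, 2, 7, 2, 0, 4, 7, 2, 7, 1, 5, 2, 1, 3, 4, 0, 6, 3, 6, 5, 1, 3, 6]
def rw5332 : List ℕ := [3, 6, 3, 1, 4, 0, 2, 7, 2, 7, 2, 0, 4, 7, 2, 7, 1, 5, 2, 5, 3, 4, 0, 6, 3, 6, 5, 1, 3, 6]
def rw5333 : List ℕ := [2, 7, 1, 5, 2, 7, 3, 4, 0, 6, 3, 6, 5, 1, 3, 6, 3, 6, 3, 1, 6, 0, 2, 7, 2, 7, 2, 0, 4, 7]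
def rw5334 : List ℕ := [2, 1, 5, 3, 1, 4, 2, 3, 3, 5, 0, 2, 4, 0, 3, 7, 0, 2, 6, 2, 1, 1, 2, 0, 0, 3, 7, 3, 1, 6]
def rw5335 : List ℕ := [2, 1, 1, 2, 0, 0, 3, 7, 3, 1, 6, 2, 1, 5, 3, 1, 4, 2, 3, 3, 5, 0, 2, 4, 0, 3, 7, 0, 2, 6]
def rw5336 : List ℕ := [3, 6, 3, 4, 1, 5, 2, 7, 2, 7, 4, 3, 4, 0, 6, 3, 6, 5, 1, 0, 0, 4, 7, 2, 7, 1, 5, 2, 5, 6]
def rw5337 : List ℕ := [0, 5, 2, 4, 2, 2, 2, 7, 7, 6, 3, 3, 3, 5, 3, 4, 1, 4, 2, 5, 7, 3, 1, 6, 0, 2, 6, 4, 3, 5]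
def rw5338 : List ℕ := [4, 0, 2, 4, 0, 7, 3, 5, 6, 3, 1, 2, 7, 4, 2, 6, 1, 5, 3, 1, 5, 5, 0, 3, 1, 0, 0, 2, 1, 4]
def rw5339 : List ℕ := [4, 2, 6, 1, 5, 3, 1, 5, 5, 0, 3, 1, 0, 0, 2, 1, 4, 4, 0, 2, 4, 0, 7, 3, 5, 6, 3, 1, 2, 7]
def rw5340 : List ℕ := [7, 2, 7, 2, 0, 4, 7, 2, 7, 1, 5, 1, 4, 0, 6, 3, 6, 5, 1, 3, 6, 3, 6, 1, 3, 1, 0, 0, 2, 0]
def rw5341 : List ℕ := [3, 0, 5, 2, 2, 7, 3, 4, 5, 5, 2, 6, 3, 3, 4, 1, 2, 7, 3, 6, 1, 5, 1, 4, 0, 4, 0, 7, 2, 6]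
def rw5342 : List ℕ := [4, 6, 2, 7, 5, 3, 4, 6, 3, 7, 5, 6, 0, 4, 4, 4, 1, 5, 5, 1, 2, 0, 4, 4, 0, 5, 5, 5, 1, 7]
def rw5343 : List ℕ := [2, 7, 5, 5, 4, 6, 3, 7, 5, 6, 0, 4, 4, 4, 1, 5, 5, 1, 4, 0, 4, 4, 0, 5, 5, 5, 1, 7, 4, 6]
def rw5344 : List ℕ := [5, 6, 0, 4, 4, 4, 1, 5, 5, 1, 4, 0, 4, 4, 0, 5, 5, 5, 1, 7, 4, 6, 2, 7, 5, 5, 4, 6, 3, 7]
def rw5345 : List ℕ := [7, 5, 6, 0, 4, 4, 4, 1, 5, 5, 1, 6, 0, 4, 4, 0, 5, 5, 5, 1, 7, 4, 6, 2, 7, 5, 7, 4, 6, 3]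
def rw5346 : List ℕ := [3, 7, 5, 1, 4, 1, 7, 3, 7, 5, 1, 2, 0, 4, 6, 2, 6, 0, 5, 0, 4, 6, 2, 6, 0, 5, 3, 4, 1, 7]
def rw5347 : List ℕ := [4, 4, 3, 4, 7, 4, 2, 2, 7, 3, 3, 5, 6, 5, 2, 5, 5, 2, 7, 5, 2, 5, 1, 6, 0, 4, 3, 4, 6, 3]
def rw5348 : List ℕ := [4, 1, 3, 5, 7, 2, 7, 5, 2, 5, 3, 4, 6, 3, 6, 4, 2, 0, 5, 7, 2, 7, 3, 1, 4, 0, 2, 6, 3, 6]
def rw5349 : List ℕ := [6, 3, 6, 0, 6, 3, 6, 4, 2, 4, 1, 2, 0, 5, 3, 5, 7, 2, 7, 1, 7, 2, 7, 5, 3, 5, 3, 4, 2, 4]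
def rw5350 : List ℕ := [6, 0, 0, 5, 5, 4, 1, 1, 7, 7, 1, 2, 7, 5, 2, 5, 1, 1, 1, 4, 0, 0, 0, 4, 3, 4, 6, 3, 0, 6]
def rw5351 : List ℕ := [6, 2, 1, 5, 3, 1, 4, 0, 2, 4, 0, 3, 7, 0, 2, 6, 1, 3, 3, 0, 5, 5, 4, 1, 2, 2, 0, 7, 3, 1]
def rw5352 : List ℕ := [0, 2, 6, 0, 4, 3, 5, 1, 7, 3, 1, 3, 5, 6, 5, 1, 3, 4, 3, 1, 2, 0, 2, 5, 2, 0, 4, 7, 4, 2]
def rw5353 : List ℕ := [6, 3, 4, 1, 4, 1, 3, 5, 0, 3, 1, 0, 0, 2, 1, 4, 2, 0, 5, 0, 5, 2, 7, 3, 1, 6, 1, 7, 0, 2]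
def rw5354 : List ℕ := [5, 2, 5, 2, 6, 3, 6, 5, 1, 4, 7, 2, 7, 3, 4, 3, 4, 7, 2, 7, 3, 4, 3, 0, 2, 5, 2, 6, 3, 6]
def rw5355 : List ℕ := [2, 7, 3, 4, 3, 6, 2, 5, 2, 6, 3, 6, 5, 2, 5, 2, 6, 3, 6, 5, 7, 4, 7, 2, 7, 3, 4, 3, 4, 7]
def rw5356 : List ℕ := [3, 4, 0, 6, 5, 1, 2, 0, 4, 7, 1, 5, 2, 5, 6, 5, 2, 7, 4, 7, 4, 3, 5, 6, 5, 6, 3, 4, 7, 4]
def rw5357 : List ℕ := [7, 4, 3, 5, 6, 3, 4, 6, 6, 5, 1, 2, 2, 4, 4, 2, 1, 2, 0, 3, 5, 5, 3, 3, 0, 4, 7, 7, 5, 2]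
def rw5358 : List ℕ := [7, 5, 2, 7, 4, 5, 5, 6, 3, 4, 6, 6, 5, 1, 2, 2, 4, 4, 2, 1, 4, 0, 3, 5, 5, 3, 3, 0, 4, 7]
def rw5359 : List ℕ := [7, 5, 2, 7, 4, 7, 5, 6, 3, 4, 6, 6, 5, 1, 2, 2, 4, 4, 2, 1, 6, 0, 3, 5, 5, 3, 3, 0, 4, 7]
def rw5360 : List ℕ := [0, 2, 6, 3, 3, 1, 4, 0, 2, 2, 7, 3, 1, 7, 3, 1, 7, 3, 4, 3, 4, 5, 5, 2, 5, 2, 6, 0, 2, 6]
def rw5361 : List ℕ := [3, 5, 2, 7, 4, 6, 2, 7, 1, 4, 0, 5, 1, 4, 3, 1, 4, 0, 2, 5, 0, 4, 1, 5, 0, 6, 3, 7, 5, 6]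
def rw5362 : List ℕ := [7, 1, 6, 0, 2, 1, 6, 1, 4, 4, 6, 3, 6, 2, 1, 1, 0, 0, 0, 3, 7, 2, 7, 5, 5, 0, 7, 0, 3, 1]
def rw5363 : List ℕ := [3, 6, 2, 1, 1, 4, 0, 0, 3, 7, 2, 7, 5, 5, 0, 7, 0, 3, 1, 7, 5, 6, 0, 2, 1, 6, 1, 4, 4, 6]
def rw5364 : List ℕ := [3, 1, 7, 3, 4, 3, 4, 3, 3, 1, 2, 0, 2, 2, 5, 2, 5, 2, 6, 0, 2, 6, 0, 2, 6, 3, 7, 3, 1, 7]
def rw5365 : List ℕ := [3, 4, 3, 4, 3, 3, 1, 4, 0, 2, 2, 5, 2, 5, 2, 6, 0, 2, 6, 0, 2, 6, 5, 7, 3, 1, 7, 3, 1, 7]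
def rw5366 : List ℕ := [6, 3, 4, 1, 3, 5, 3, 5, 2, 7, 1, 3, 1, 4, 0, 2, 0, 6, 3, 4, 2, 4, 2, 0, 5, 2, 7, 3, 5, 2]
def rw5367 : List ℕ := [2, 7, 4, 1, 1, 2, 0, 0, 5, 6, 3, 3, 1, 2, 7, 0, 2, 4, 0, 2, 3, 3, 1, 5, 3, 1, 6, 3, 0, 2]
def rw5368 : List ℕ := [6, 1, 7, 3, 5, 0, 5, 6, 5, 2, 5, 5, 5, 2, 5, 1, 0, 0, 4, 3, 4, 4, 4, 3, 4, 7, 4, 1, 4, 2]
def rw5369 : List ℕ := [4, 3, 4, 2, 2, 1, 2, 1, 4, 0, 3, 0, 3, 3, 5, 2, 5, 7, 0, 5, 6, 3, 5, 5, 4, 2, 7, 4, 1, 6]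
def rw5370 : List ℕ := [7, 2, 7, 2, 5, 2, 7, 2, 7, 4, 3, 3, 1, 4, 0, 2, 2, 5, 6, 3, 6, 3, 4, 3, 6, 3, 6, 2, 5, 3]
def rw5371 : List ℕ := [0, 5, 0, 3, 5, 3, 5, 3, 6, 3, 0, 3, 1, 2, 0, 2, 1, 2, 7, 2, 4, 2, 4, 2, 1, 4, 1, 6, 3, 7]
def rw5372 : List ℕ := [3, 5, 2, 7, 3, 5, 2, 0, 2, 5, 0, 5, 6, 3, 3, 1, 4, 0, 2, 2, 7, 4, 1, 4, 3, 1, 3, 4, 2, 6]
def rw5373 : List ℕ := [6, 3, 7, 2, 7, 3, 5, 2, 0, 2, 5, 0, 5, 6, 3, 3, 1, 6, 0, 2, 2, 7, 4, 1, 4, 3, 1, 3, 4, 2]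
def rw5374 : List ℕ := [2, 1, 1, 2, 1, 3, 1, 1, 6, 0, 0, 2, 0, 3, 0, 0, 3, 1, 3, 3, 3, 7, 2, 2, 2, 0]
def rw5375 : List ℕ := [1, 3, 0, 3, 0, 3, 1, 6, 0, 2, 1, 2, 1, 2, 0, 2, 2, 1, 2, 2, 7, 3, 3, 0, 3, 3]
def rw5376 : List ℕ := [5, 1, 5, 1, 6, 0, 4, 0, 4, 0, 4, 0, 4, 0, 4, 7, 5, 1, 5, 1, 5, 1]
def rw5377 : List ℕ := [4, 3, 1, 1, 1, 5, 3, 1, 1, 1, 6, 0, 0, 0, 2, 4, 0, 0, 0, 2, 5, 0, 3, 7, 2, 1]
def rw5378 : List ℕ := [5, 2, 7, 3, 4, 2, 0, 0, 3, 3, 0, 5, 1, 1, 1, 6, 0, 0, 0, 4, 1, 2, 2, 1, 1, 3]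
def rw5379 : List ℕ := [5, 3, 5, 2, 7, 3, 4, 2, 4, 1, 4, 2, 4, 2, 0, 3, 1, 6, 0, 2, 1, 3, 5, 3, 5, 0]
def rw5380 : List ℕ := [1, 2, 2, 0, 3, 0, 5, 2, 7, 3, 4, 1, 2, 1, 3, 3, 0, 5, 1, 2, 1, 6, 0, 3, 0, 4]
def rw5381 : List ℕ := [2, 4, 2, 4, 4, 2, 0, 5, 3, 5, 7, 4, 2, 4, 1, 3, 5, 5, 3, 5, 3, 5, 1, 6, 0, 4]
def rw5382 : List ℕ := [0, 4, 4, 2, 2, 5, 7, 4, 3, 3, 5, 5, 1, 4, 3, 3, 5, 5, 1, 6, 0, 4, 4, 2, 2, 5]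
def rw5383 : List ℕ := [6, 3, 6, 2, 0, 7, 2, 7, 2, 1, 3, 6, 3, 6, 1, 3, 7, 2, 7, 1, 1, 1, 0, 0, 0, 0]
def rw5384 : List ℕ := [0, 0, 0, 6, 3, 6, 2, 0, 7, 2, 7, 2, 3, 3, 6, 3, 6, 1, 3, 7, 2, 7, 1, 1, 1, 2]
def rw5385 : List ℕ := [3, 6, 2, 0, 7, 2, 7, 2, 7, 3, 6, 3, 6, 1, 3, 7, 2, 7, 1, 1, 1, 6, 0, 0, 0, 6]
def rw5386 : List ℕ := [7, 2, 7, 3, 6, 3, 6, 0, 6, 3, 6, 1, 3, 1, 1, 6, 0, 0, 2, 0, 7, 2, 7, 1, 7, 2]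
def rw5387 : List ℕ := [7, 2, 7, 1, 2, 0, 7, 2, 7, 1, 1, 2, 0, 0, 6, 3, 6, 1, 3, 0, 6, 3, 6, 2, 3, 3]
def rw5388 : List ℕ := [2, 0, 7, 2, 7, 1, 1, 6, 0, 0, 6, 3, 6, 1, 3, 0, 6, 3, 6, 2, 7, 3, 7, 2, 7, 1]
def rw5389 : List ℕ := [7, 1, 5, 0, 7, 2, 7, 1, 1, 6, 0, 0, 6, 3, 6, 1, 4, 0, 6, 3, 6, 5, 7, 4, 7, 2]
def rw5390 : List ℕ := [3, 1, 6, 0, 2, 0, 7, 4, 3, 1, 7, 4, 7, 2, 7, 7, 6, 3, 6, 5, 6, 0, 2, 5, 6, 1]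
def rw5391 : List ℕ := [3, 5, 6, 3, 0, 3, 1, 0, 0, 2, 1, 2, 7, 4, 2, 0, 5, 3, 1, 6, 1, 7, 0, 2, 4, 1]
def rw5392 : List ℕ := [0, 2, 4, 1, 3, 5, 6, 3, 0, 3, 1, 2, 0, 2, 1, 2, 7, 4, 2, 0, 5, 3, 1, 6, 3, 7]
def rw5393 : List ℕ := [3, 3, 1, 6, 0, 2, 2, 7, 2, 7, 1, 7, 2, 7, 2, 2, 7, 3, 3, 6, 3, 6, 0, 6, 3, 6]
def rw5394 : List ℕ := [3, 1, 3, 7, 4, 3, 1, 4, 0, 2, 5, 6, 2, 0, 2, 6, 3, 6, 5, 6, 5, 7, 4, 7, 2, 7]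
def rw5395 : List ℕ := [7, 2, 0, 2, 7, 4, 3, 1, 2, 0, 2, 5, 6, 3, 1, 3, 6, 3, 6, 5, 6, 3, 7, 4, 7, 2]
def rw5396 : List ℕ := [2, 0, 2, 7, 4, 3, 1, 4, 0, 2, 5, 6, 3, 1, 3, 6, 3, 6, 5, 6, 5, 7, 4, 7, 2, 7]
def rw5397 : List ℕ := [3, 1, 7, 2, 4, 6, 1, 7, 5, 3, 6, 0, 2, 6, 4, 1, 7, 3, 1, 0, 0, 2, 6, 0, 5, 7]
def rw5398 : List ℕ := [6, 3, 1, 2, 3, 3, 0, 2, 7, 2, 7, 1, 7, 2, 7, 3, 1, 2, 0, 2, 6, 3, 6, 0, 6, 3]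
def rw5399 : List ℕ := [7, 1, 7, 2, 7, 3, 1, 6, 0, 2, 6, 3, 6, 0, 6, 3, 6, 3, 1, 2, 7, 3, 0, 2, 7, 2]
def rw5400 : List ℕ := [6, 3, 6, 3, 0, 5, 6, 3, 6, 3, 1, 2, 7, 2, 7, 4, 1, 2, 7, 2, 7, 4, 1, 0, 0, 5]
def rw5401 : List ℕ := [7, 4, 1, 4, 0, 5, 6, 3, 6, 3, 0, 5, 6, 3, 6, 3, 5, 2, 7, 2, 7, 4, 1, 2, 7, 2]
def rw5402 : List ℕ := [2, 7, 2, 7, 4, 1, 6, 0, 5, 6, 3, 6, 3, 0, 5, 6, 3, 6, 3, 7, 2, 7, 2, 7, 4, 1]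
def rw5403 : List ℕ := [7, 2, 7, 1, 5, 3, 7, 2, 7, 1, 0, 0, 6, 3, 6, 2, 4, 0, 6, 3, 6, 5, 3, 1, 2, 4]
def rw5404 : List ℕ := [2, 4, 7, 2, 7, 1, 5, 3, 7, 2, 7, 1, 4, 0, 6, 3, 6, 2, 4, 0, 6, 3, 6, 5, 3, 5]
def rw5405 : List ℕ := [7, 2, 7, 1, 6, 5, 1, 1, 0, 0, 0, 4, 7, 0, 6, 3, 6, 6, 5, 5, 0, 5, 1, 4, 1, 4, 4, 7]
def rw5406 : List ℕ := [7, 2, 7, 1, 6, 5, 1, 1, 4, 0, 0, 4, 7, 0, 6, 3, 6, 6, 5, 5, 0, 5, 5, 4, 1, 4, 4, 7]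
def rw5407 : List ℕ := [1, 4, 4, 7, 0, 6, 3, 6, 6, 5, 1, 1, 4, 0, 0, 4, 7, 7, 2, 7, 1, 6, 5, 5, 0, 5, 5, 4]
def rw5408 : List ℕ := [0, 6, 6, 3, 1, 4, 1, 1, 2, 0, 0, 5, 0, 2, 7, 7, 1, 7, 2, 6, 3, 5, 3, 4, 2, 7, 3, 6]
def rw5409 : List ℕ := [1, 3, 6, 3, 6, 6, 1, 7, 7, 2, 7, 2, 0, 6, 2, 7, 4, 1, 3, 1, 0, 0, 2, 0, 5, 6, 3, 7]
def rw5410 : List ℕ := [7, 2, 7, 2, 0, 6, 2, 7, 4, 1, 3, 1, 2, 0, 2, 0, 5, 6, 3, 7, 1, 3, 6, 3, 6, 6, 3, 7]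
def rw5411 : List ℕ := [6, 5, 7, 7, 2, 7, 2, 0, 6, 2, 7, 4, 1, 3, 1, 4, 0, 2, 0, 5, 6, 3, 7, 1, 3, 6, 3, 6]
def rw5412 : List ℕ := [7, 4, 1, 3, 1, 6, 0, 2, 0, 5, 6, 3, 7, 1, 3, 6, 3, 6, 6, 7, 7, 7, 2, 7, 2, 0, 6, 2]
def rw5413 : List ℕ := [3, 1, 4, 0, 2, 0, 6, 3, 5, 7, 2, 7, 2, 2, 7, 7, 5, 6, 6, 3, 3, 6, 3, 6, 4, 2, 7, 1]
def rw5414 : List ℕ := [6, 3, 3, 6, 3, 6, 4, 2, 7, 7, 6, 3, 5, 7, 2, 7, 2, 2, 7, 7, 1, 3, 1, 6, 0, 2, 0, 6]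
def rw5415 : List ℕ := [6, 6, 3, 3, 6, 3, 6, 4, 2, 7, 7, 6, 3, 5, 7, 2, 7, 2, 2, 7, 7, 1, 3, 1, 6, 0, 2, 0]
def rw5416 : List ℕ := [6, 2, 7, 4, 1, 5, 6, 3, 7, 1, 3, 6, 3, 6, 6, 1, 3, 1, 0, 0, 2, 0, 7, 7, 2, 7, 2, 0]
def rw5417 : List ℕ := [7, 7, 2, 7, 2, 0, 6, 2, 7, 4, 3, 5, 6, 3, 7, 1, 3, 6, 3, 6, 6, 1, 3, 1, 2, 0, 2, 0]
def rw5418 : List ℕ := [7, 1, 3, 6, 3, 6, 6, 1, 3, 1, 2, 0, 2, 0, 7, 7, 2, 7, 2, 0, 6, 2, 7, 4, 3, 5, 6, 3]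
def rw5419 : List ℕ := [1, 3, 1, 6, 0, 2, 0, 7, 7, 2, 7, 2, 0, 6, 2, 7, 4, 7, 5, 6, 3, 7, 1, 3, 6, 3, 6, 6]
def rw5420 : List ℕ := [6, 5, 7, 4, 2, 6, 5, 2, 5, 2, 0, 5, 3, 3, 1, 4, 0, 2, 2, 4, 1, 3, 4, 3, 4, 7, 3, 5]
def rw5421 : List ℕ := [3, 4, 7, 0, 5, 3, 1, 4, 0, 2, 4, 1, 6, 5, 2, 5, 2, 0, 5, 2, 7, 5, 6, 3, 4, 1, 3, 4]
def rw5422 : List ℕ := [5, 3, 1, 0, 0, 2, 4, 3, 3, 0, 7, 0, 5, 6, 1, 2, 4, 1, 5, 3, 0, 7, 4, 1, 6, 1, 2, 2]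
def rw5423 : List ℕ := [6, 1, 2, 4, 7, 5, 3, 0, 7, 4, 1, 6, 1, 2, 2, 5, 3, 1, 6, 0, 2, 4, 3, 3, 0, 7, 0, 5]
def rw5424 : List ℕ := [7, 7, 3, 1, 7, 4, 3, 4, 7, 5, 2, 5, 6, 0, 2, 6, 6, 5, 2, 5, 3, 1, 6, 0, 2, 4, 3, 4]
def rw5425 : List ℕ := [7, 0, 4, 3, 1, 7, 4, 2, 7, 1, 4, 3, 1, 4, 0, 2, 5, 0, 6, 3, 5, 6, 0, 2, 5, 1, 6, 5]
def rw5426 : List ℕ := [7, 1, 6, 2, 7, 4, 1, 5, 6, 5, 2, 0, 4, 3, 1, 0, 0, 2, 5, 1, 3, 4, 7, 4, 0, 5, 6, 3]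
def rw5427 : List ℕ := [2, 7, 4, 1, 5, 6, 5, 2, 0, 4, 3, 1, 0, 0, 2, 5, 1, 3, 4, 7, 4, 0, 5, 6, 3, 7, 1, 6]
def rw5428 : List ℕ := [6, 4, 2, 2, 5, 5, 4, 3, 3, 5, 7, 0, 6, 2, 7, 3, 4, 3, 1, 4, 0, 2, 5, 2, 6, 3, 7, 1]
def rw5429 : List ℕ := [1, 6, 4, 2, 2, 5, 7, 4, 3, 3, 5, 7, 0, 6, 2, 7, 3, 4, 3, 1, 6, 0, 2, 5, 2, 6, 3, 7]
def rw5430 : List ℕ := [6, 2, 7, 4, 3, 1, 4, 0, 2, 5, 6, 3, 7, 1, 3, 6, 3, 6, 6, 2, 5, 3, 7, 7, 2, 7, 2, 0]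
def rw5431 : List ℕ := [2, 1, 3, 6, 6, 3, 3, 6, 3, 6, 4, 2, 7, 3, 1, 0, 0, 2, 6, 3, 5, 7, 2, 7, 2, 2, 7, 7]
def rw5432 : List ℕ := [6, 3, 5, 7, 2, 7, 2, 2, 7, 7, 2, 3, 3, 6, 6, 3, 3, 6, 3, 6, 4, 2, 7, 3, 1, 2, 0, 2]
def rw5433 : List ℕ := [0, 4, 7, 3, 1, 6, 0, 2, 6, 5, 1, 3, 0, 5, 0, 5, 7, 4, 2, 7, 3, 5, 6, 4, 1, 4, 1, 2]
def rw5434 : List ℕ := [7, 3, 1, 4, 0, 2, 6, 6, 3, 6, 3, 3, 5, 2, 7, 4, 6, 5, 7, 5, 6, 3, 4, 2, 2, 7, 2, 7]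
def rw5435 : List ℕ := [3, 1, 6, 0, 2, 7, 1, 6, 1, 5, 5, 1, 3, 4, 6, 3, 7, 2, 7, 5, 2, 0, 4, 4, 0, 7, 0, 6]
def rw5436 : List ℕ := [5, 6, 5, 2, 5, 2, 5, 1, 2, 0, 4, 3, 4, 3, 4, 7, 4, 6, 2, 7, 4, 4, 3, 5, 5, 6, 3, 7]
def rw5437 : List ℕ := [5, 5, 4, 6, 2, 7, 4, 1, 6, 3, 6, 6, 3, 4, 1, 4, 0, 5, 2, 7, 7, 2, 7, 0, 5, 6, 3, 7]
def rw5438 : List ℕ := [3, 4, 2, 2, 7, 4, 1, 6, 0, 5, 6, 3, 3, 5, 2, 2, 4, 2, 4, 4, 7, 7, 6, 5, 5, 3, 5, 3]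
def rw5439 : List ℕ := [4, 1, 0, 0, 5, 3, 5, 0, 5, 7, 1, 7, 2, 7, 1, 7, 5, 1, 4, 6, 0, 6, 3, 6, 0, 6, 4, 1, 4, 2]
def rw5440 : List ℕ := [7, 2, 7, 1, 7, 5, 7, 4, 6, 0, 6, 3, 6, 0, 6, 4, 1, 4, 2, 4, 1, 6, 0, 5, 3, 5, 0, 5, 7, 1]
def rw5441 : List ℕ := [3, 4, 0, 0, 7, 2, 7, 1, 1, 0, 0, 0, 6, 3, 6, 1, 1, 5, 2, 7, 2, 7, 4, 3, 1, 2, 5, 6, 3, 6]
def rw5442 : List ℕ := [2, 6, 3, 5, 2, 7, 3, 5, 3, 1, 3, 5, 0, 5, 6, 3, 3, 1, 4, 0, 2, 2, 7, 4, 1, 4, 2, 0, 2, 4]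
def rw5443 : List ℕ := [7, 4, 7, 2, 7, 3, 3, 1, 6, 0, 2, 2, 6, 3, 6, 5, 6, 0, 2, 5, 6, 1, 2, 7, 3, 0, 7, 4, 3, 1]
def rw5444 : List ℕ := [2, 7, 2, 0, 3, 7, 2, 7, 3, 1, 4, 0, 2, 6, 3, 6, 2, 1, 3, 6, 3, 6, 1, 2, 2, 5, 3, 3, 0, 7]
def rw5445 : List ℕ := [6, 2, 1, 3, 7, 4, 0, 6, 3, 6, 3, 1, 7, 4, 0, 3, 1, 0, 0, 2, 1, 5, 6, 0, 2, 7, 2, 7, 1, 5]
def rw5446 : List ℕ := [2, 2, 2, 7, 0, 2, 4, 2, 1, 3, 1, 6, 0, 2, 0, 3, 5, 3, 1, 6, 3, 3, 3, 1, 7, 4, 7, 5, 6, 0]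
def rw5447 : List ℕ := [0, 2, 6, 2, 2, 5, 3, 3, 7, 3, 1, 6, 2, 1, 5, 3, 1, 4, 1, 1, 4, 0, 0, 5, 0, 2, 4, 0, 3, 7]
def rw5448 : List ℕ := [3, 1, 4, 1, 1, 4, 0, 0, 5, 0, 2, 4, 0, 3, 7, 0, 2, 6, 2, 2, 5, 3, 3, 7, 3, 1, 6, 2, 1, 5]
def rw5449 : List ℕ := [0, 2, 6, 2, 2, 7, 3, 3, 7, 3, 1, 6, 2, 1, 5, 3, 1, 4, 1, 1, 6, 0, 0, 5, 0, 2, 4, 0, 3, 7]
def rw5450 : List ℕ := [0, 5, 0, 2, 4, 2, 6, 3, 3, 2, 7, 3, 5, 3, 1, 4, 1, 4, 2, 6, 3, 3, 1, 2, 0, 2, 2, 7, 3, 5]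
def rw5451 : List ℕ := [2, 6, 3, 3, 5, 7, 4, 2, 2, 7, 3, 1, 6, 3, 3, 5, 1, 3, 1, 1, 6, 0, 0, 2, 0, 4, 2, 2, 7, 0]
def rw5452 : List ℕ := [0, 5, 3, 5, 6, 3, 6, 3, 6, 3, 4, 1, 2, 0, 5, 2, 7, 2, 7, 2, 7, 4, 2, 4, 1, 2, 7, 3, 6, 3]
def rw5453 : List ℕ := [3, 0, 5, 3, 5, 6, 3, 6, 3, 6, 3, 4, 1, 2, 0, 5, 2, 7, 2, 7, 2, 7, 4, 2, 4, 1, 2, 7, 3, 6]
def rw5454 : List ℕ := [0, 2, 6, 2, 0, 7, 0, 3, 1, 2, 0, 2, 1, 6, 1, 3, 7, 3, 1, 6, 2, 0, 7, 2, 3, 3, 6, 1, 3, 7]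
def rw5455 : List ℕ := [1, 3, 7, 0, 2, 6, 2, 0, 7, 0, 3, 1, 4, 0, 2, 1, 6, 1, 3, 7, 3, 1, 6, 2, 0, 7, 2, 5, 3, 6]
def rw5456 : List ℕ := [6, 2, 0, 7, 0, 3, 1, 6, 0, 2, 1, 6, 1, 3, 7, 3, 1, 6, 2, 0, 7, 2, 7, 3, 6, 1, 3, 7, 0, 2]
def rw5457 : List ℕ := [3, 3, 5, 1, 0, 0, 4, 2, 2, 7, 4, 2, 2, 7, 3, 7, 2, 7, 2, 1, 3, 6, 3, 6, 2, 6, 3, 3, 5, 6]
def rw5458 : List ℕ := [6, 3, 6, 2, 6, 3, 3, 5, 6, 3, 3, 5, 1, 2, 0, 4, 2, 2, 7, 4, 2, 2, 7, 3, 7, 2, 7, 2, 3, 3]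
def rw5459 : List ℕ := [3, 5, 6, 3, 3, 5, 1, 4, 0, 4, 2, 2, 7, 4, 2, 2, 7, 3, 7, 2, 7, 2, 5, 3, 6, 3, 6, 2, 6, 3]
def rw5460 : List ℕ := [6, 3, 6, 2, 6, 3, 3, 5, 6, 3, 3, 5, 1, 4, 0, 4, 2, 2, 7, 4, 2, 2, 7, 3, 7, 2, 7, 2, 5, 3]
def rw5461 : List ℕ := [4, 2, 2, 7, 3, 7, 2, 7, 2, 7, 3, 6, 3, 6, 2, 6, 3, 3, 5, 6, 3, 3, 5, 1, 6, 0, 4, 2, 2, 7]
def rw5462 : List ℕ := [5, 3, 1, 6, 1, 3, 1, 1, 1, 4, 0, 0, 0, 2, 0, 7, 0, 2, 4, 1, 3, 5, 6, 3, 5, 2, 7, 4, 2, 0]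
def rw5463 : List ℕ := [2, 7, 1, 4, 1, 3, 5, 7, 2, 7, 5, 7, 4, 6, 3, 6, 4, 2, 0, 5, 0, 6, 3, 6, 3, 1, 6, 0, 2, 7]
def rw5464 : List ℕ := [4, 1, 3, 1, 6, 0, 2, 0, 5, 6, 5, 1, 3, 4, 3, 1, 5, 1, 7, 7, 6, 0, 4, 0, 2, 5, 2, 0, 4, 7]
def rw5465 : List ℕ := [5, 6, 0, 2, 2, 2, 7, 0, 2, 4, 0, 2, 5, 3, 1, 5, 3, 1, 6, 3, 3, 3, 1, 7, 4, 1, 1, 4, 0, 0]
def rw5466 : List ℕ := [4, 2, 0, 5, 7, 2, 7, 2, 7, 3, 6, 3, 6, 4, 1, 3, 5, 7, 2, 7, 5, 3, 1, 6, 0, 2, 4, 6, 3, 6]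
def rw5467 : List ℕ := [3, 6, 5, 6, 2, 1, 3, 7, 4, 7, 2, 7, 3, 1, 3, 7, 4, 0, 3, 1, 0, 0, 2, 1, 5, 6, 2, 0, 2, 6]
def rw5468 : List ℕ := [5, 3, 1, 4, 1, 6, 3, 3, 3, 1, 4, 0, 2, 2, 2, 7, 0, 5, 0, 2, 4, 2, 4, 2, 6, 5, 7, 3, 5, 3]
def rw5469 : List ℕ := [2, 2, 7, 5, 3, 5, 1, 4, 2, 4, 6, 3, 3, 6, 6, 5, 2, 0, 5, 2, 1, 0, 0, 3, 4, 1, 3, 4, 7, 7]
def rw5470 : List ℕ := [6, 5, 2, 0, 5, 2, 1, 6, 0, 3, 4, 1, 3, 4, 7, 7, 2, 2, 7, 5, 3, 5, 7, 4, 2, 4, 6, 3, 3, 6]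
def rw5471 : List ℕ := [4, 6, 3, 6, 1, 7, 2, 7, 5, 7, 4, 1, 2, 7, 3, 3, 5, 3, 1, 0, 0, 2, 4, 2, 2, 6, 3, 0, 5, 6]
def rw5472 : List ℕ := [2, 7, 4, 2, 0, 5, 1, 3, 1, 0, 0, 2, 0, 4, 1, 3, 5, 6, 3, 0, 3, 1, 7, 3, 1, 2, 6, 0, 2, 1]
def rw5473 : List ℕ := [3, 2, 6, 0, 2, 1, 2, 7, 4, 2, 0, 5, 1, 3, 1, 2, 0, 2, 0, 4, 1, 3, 5, 6, 3, 0, 3, 1, 7, 3]
def rw5474 : List ℕ := [2, 1, 1, 6, 0, 0, 3, 3, 1, 3, 0, 3, 0, 2, 7, 3, 1, 2, 1, 2, 0, 2]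
def rw5475 : List ℕ := [1, 1, 4, 1, 4, 1, 1, 6, 0, 0, 5, 0, 5, 0, 0, 5, 0, 5, 7, 4, 1, 4]
def rw5476 : List ℕ := [0, 5, 0, 5, 5, 7, 4, 4, 1, 4, 1, 4, 4, 1, 4, 1, 6, 0, 5, 0, 5, 5]
def rw5477 : List ℕ := [5, 3, 3, 5, 3, 4, 4, 7, 5, 5, 2, 4, 2, 2, 4, 1, 5, 1, 1, 6, 0, 0, 4, 0]
def rw5478 : List ℕ := [5, 1, 4, 1, 4, 1, 1, 1, 6, 0, 0, 0, 5, 0, 5, 0, 4, 0, 5, 0, 5, 7, 4, 1, 4, 1]
def rw5479 : List ℕ := [1, 5, 7, 4, 0, 3, 1, 1, 5, 0, 3, 0, 3, 1, 1, 6, 0, 0, 2, 1, 2, 1, 4, 0, 0, 2]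
def rw5480 : List ℕ := [3, 0, 2, 5, 7, 4, 3, 1, 2, 1, 5, 0, 3, 0, 3, 1, 1, 6, 0, 0, 2, 1, 2, 1, 4, 0]
def rw5481 : List ℕ := [4, 1, 2, 2, 1, 1, 6, 0, 0, 3, 3, 0, 5, 1, 2, 0, 0, 4, 2, 7, 3, 5, 1, 1, 3, 0]
def rw5482 : List ℕ := [5, 3, 3, 5, 7, 4, 2, 2, 4, 1, 1, 4, 2, 2, 4, 1, 1, 6, 0, 0, 5, 3, 3, 5, 0, 0]
def rw5483 : List ℕ := [4, 1, 5, 7, 4, 0, 5, 0, 5, 0, 3, 5, 0, 5, 3, 1, 6, 0, 2, 4, 1, 4, 2, 1, 4, 1]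
def rw5484 : List ℕ := [5, 0, 2, 5, 7, 4, 3, 1, 4, 3, 1, 4, 3, 1, 4, 3, 1, 6, 0, 2, 5, 0, 2, 5, 0, 2]
def rw5485 : List ℕ := [6, 3, 6, 0, 6, 3, 6, 7, 7, 2, 7, 1, 7, 2, 7, 1, 6, 0]
def rw5486 : List ℕ := [7, 4, 7, 4, 7, 1, 6, 5, 6, 5, 6, 5, 6, 5, 0, 4, 7, 4]
def rw5487 : List ℕ := [6, 5, 6, 5, 2, 4, 7, 4, 7, 4, 7, 4, 7, 3, 6, 5, 6, 5]
def rw5488 : List ℕ := [6, 3, 6, 1, 3, 7, 2, 7, 1, 1, 1, 6, 0, 0, 0, 6, 3, 6, 2, 0, 7, 2, 7, 2, 7, 3]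
def rw5489 : List ℕ := [6, 3, 6, 0, 6, 3, 7, 1, 7, 2, 7, 1, 7, 1, 1, 3, 1, 1, 2, 0, 0, 2, 0, 0, 6, 0]
def rw5490 : List ℕ := [3, 6, 1, 3, 1, 1, 0, 0, 0, 2, 0, 7, 2, 7, 1, 7, 2, 7, 2, 1, 3, 6, 3, 6, 0, 6]
def rw5491 : List ℕ := [3, 6, 1, 3, 1, 1, 2, 0, 0, 2, 0, 7, 2, 7, 1, 7, 2, 7, 2, 3, 3, 6, 3, 6, 0, 6]
def rw5492 : List ℕ := [3, 6, 1, 3, 1, 1, 6, 0, 0, 2, 0, 7, 2, 7, 1, 7, 2, 7, 2, 7, 3, 6, 3, 6, 0, 6]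
def rw5493 : List ℕ := [3, 1, 1, 4, 0, 0, 2, 7, 2, 7, 1, 7, 2, 7, 0, 2, 5, 3, 1, 6, 3, 6, 0, 6, 3, 6]
def rw5494 : List ℕ := [3, 6, 1, 3, 0, 6, 3, 6, 2, 3, 3, 7, 2, 7, 1, 2, 0, 7, 2, 7, 1, 1, 2, 0, 0, 6]
def rw5495 : List ℕ := [3, 6, 1, 3, 0, 6, 3, 6, 2, 5, 3, 7, 2, 7, 1, 2, 0, 7, 2, 7, 1, 1, 4, 0, 0, 6]
def rw5496 : List ℕ := [2, 7, 1, 1, 0, 0, 0, 6, 3, 6, 1, 3, 7, 2, 7, 1, 2, 1, 3, 0, 6, 3, 6, 2, 0, 7]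
def rw5497 : List ℕ := [1, 1, 6, 0, 0, 6, 3, 6, 1, 3, 7, 2, 7, 1, 2, 7, 3, 0, 6, 3, 6, 2, 0, 7, 2, 7]
def rw5498 : List ℕ := [1, 2, 7, 3, 0, 6, 3, 6, 2, 0, 7, 2, 7, 1, 1, 6, 0, 0, 6, 3, 6, 1, 3, 7, 2, 7]
def rw5499 : List ℕ := [7, 2, 7, 2, 0, 3, 7, 2, 7, 1, 1, 6, 0, 0, 6, 3, 6, 2, 1, 3, 6, 3, 6, 2, 7, 3]
def rw5500 : List ℕ := [6, 3, 6, 1, 1, 0, 0, 0, 7, 2, 7, 1, 2, 0, 7, 2, 7, 2, 1, 3, 6, 3, 6, 1, 3, 0]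
def rw5501 : List ℕ := [2, 0, 2, 0, 6, 0, 6, 3, 6, 0, 6, 7, 7, 1, 7, 2, 7, 1, 7, 1, 3, 1, 3, 1, 6, 0]
def rw5502 : List ℕ := [6, 0, 6, 3, 6, 0, 6, 0, 2, 1, 3, 1, 0, 0, 2, 0, 3, 1, 7, 1, 7, 2, 7, 1, 7, 1]
def rw5503 : List ℕ := [3, 6, 0, 6, 0, 2, 1, 3, 1, 2, 0, 2, 0, 3, 1, 7, 1, 7, 2, 7, 1, 7, 3, 6, 0, 6]
def rw5504 : List ℕ := [6, 0, 6, 0, 2, 1, 3, 1, 4, 0, 2, 0, 3, 1, 7, 1, 7, 2, 7, 1, 7, 5, 6, 0, 6, 3]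
def rw5505 : List ℕ := [3, 6, 3, 3, 2, 7, 2, 7, 1, 7, 2, 7, 2, 1, 3, 1, 2, 0, 2, 0, 3, 6, 3, 6, 0, 6]
def rw5506 : List ℕ := [3, 6, 5, 6, 0, 2, 5, 6, 3, 7, 4, 3, 1, 7, 4, 7, 2, 7, 1, 3, 1, 2, 0, 2, 0, 6]
def rw5507 : List ℕ := [0, 2, 5, 6, 7, 7, 4, 3, 1, 7, 4, 7, 2, 7, 1, 3, 1, 6, 0, 2, 0, 6, 3, 6, 5, 6]
def rw5508 : List ℕ := [6, 0, 6, 1, 3, 1, 2, 0, 2, 0, 7, 1, 7, 2, 7, 1, 7, 1, 3, 3, 2, 0, 6, 0, 6, 3]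
def rw5509 : List ℕ := [0, 2, 5, 6, 1, 3, 1, 2, 0, 2, 0, 7, 4, 3, 1, 7, 4, 7, 2, 7, 3, 6, 3, 6, 5, 6]
def rw5510 : List ℕ := [6, 1, 7, 0, 2, 4, 1, 3, 5, 6, 3, 0, 3, 1, 0, 0, 2, 1, 2, 7, 4, 2, 0, 5, 3, 1]
def rw5511 : List ℕ := [3, 1, 4, 0, 2, 1, 2, 7, 4, 2, 0, 5, 3, 1, 6, 5, 7, 0, 2, 4, 1, 3, 5, 6, 3, 0]
def rw5512 : List ℕ := [5, 6, 1, 7, 4, 2, 0, 5, 3, 1, 6, 3, 3, 3, 1, 0, 0, 2, 2, 2, 7, 0, 2, 4, 1, 3]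
def rw5513 : List ℕ := [2, 0, 5, 3, 1, 6, 3, 3, 3, 1, 0, 0, 2, 2, 2, 7, 0, 2, 4, 1, 3, 5, 6, 1, 7, 4]
def rw5514 : List ℕ := [4, 2, 0, 5, 3, 1, 6, 3, 3, 3, 1, 6, 0, 2, 2, 2, 7, 0, 2, 4, 1, 3, 5, 6, 7, 7]
def rw5515 : List ℕ := [3, 6, 0, 6, 3, 6, 3, 3, 1, 0, 0, 2, 2, 7, 2, 7, 1, 7, 2, 7, 2, 2, 1, 3, 3, 6]
def rw5516 : List ℕ := [3, 6, 3, 6, 0, 6, 3, 6, 3, 3, 1, 6, 0, 2, 2, 7, 2, 7, 1, 7, 2, 7, 2, 2, 7, 3]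
def rw5517 : List ℕ := [5, 6, 3, 3, 1, 6, 0, 2, 2, 7, 4, 2, 0, 5, 3, 1, 6, 3, 7, 2, 7, 0, 2, 4, 1, 3]
def rw5518 : List ℕ := [7, 0, 2, 6, 3, 0, 5, 7, 4, 1, 2, 7, 3, 1, 6, 0, 2, 5, 3, 1, 6, 0, 2, 4, 3, 1]
def rw5519 : List ℕ := [2, 6, 3, 0, 5, 7, 4, 1, 2, 7, 3, 1, 6, 0, 2, 5, 3, 1, 6, 0, 2, 4, 3, 1, 7, 0]
def rw5520 : List ℕ := [4, 3, 1, 4, 0, 2, 5, 6, 0, 2, 7, 2, 7, 1, 5, 6, 5, 7, 4, 0, 6, 3, 6, 3, 1, 7]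
def rw5521 : List ℕ := [4, 3, 1, 6, 0, 2, 5, 6, 0, 2, 7, 2, 7, 1, 5, 6, 7, 7, 4, 0, 6, 3, 6, 3, 1, 7]
def rw5522 : List ℕ := [6, 3, 6, 5, 6, 1, 7, 4, 7, 2, 7, 3, 1, 3, 7, 4, 3, 1, 0, 0, 2, 5, 6, 2, 0, 2]
def rw5523 : List ℕ := [2, 0, 2, 6, 3, 6, 5, 6, 1, 7, 4, 7, 2, 7, 3, 1, 3, 7, 4, 3, 1, 0, 0, 2, 5, 6]
def rw5524 : List ℕ := [2, 0, 2, 6, 3, 6, 5, 6, 3, 7, 4, 7, 2, 7, 3, 1, 3, 7, 4, 3, 1, 2, 0, 2, 5, 6]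
def rw5525 : List ℕ := [1, 7, 2, 4, 6, 7, 7, 5, 3, 6, 0, 2, 6, 4, 1, 7, 3, 1, 6, 0, 2, 6, 0, 5, 7, 3]
def rw5526 : List ℕ := [6, 2, 0, 7, 3, 1, 0, 0, 2, 6, 1, 3, 7, 3, 1, 6, 2, 0, 7, 1, 6, 1, 3, 7, 0, 2]
def rw5527 : List ℕ := [7, 0, 2, 6, 2, 0, 7, 3, 1, 0, 0, 2, 6, 1, 3, 7, 3, 1, 6, 2, 0, 7, 1, 6, 1, 3]
def rw5528 : List ℕ := [7, 3, 1, 6, 2, 0, 7, 3, 6, 1, 3, 7, 0, 2, 6, 2, 0, 7, 3, 1, 2, 0, 2, 6, 1, 3]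
def rw5529 : List ℕ := [6, 1, 3, 7, 3, 1, 6, 2, 0, 7, 5, 6, 1, 3, 7, 0, 2, 6, 2, 0, 7, 3, 1, 4, 0, 2]
def rw5530 : List ℕ := [3, 7, 3, 1, 6, 2, 0, 7, 7, 6, 1, 3, 7, 0, 2, 6, 2, 0, 7, 3, 1, 6, 0, 2, 6, 1]
def rw5531 : List ℕ := [4, 2, 4, 2, 0, 5, 2, 7, 7, 6, 3, 4, 1, 3, 5, 3, 5, 2, 7, 3, 1, 6, 0, 2, 6, 3]
def rw5532 : List ℕ := [0, 6, 3, 6, 3, 1, 2, 3, 3, 0, 2, 7, 2, 7, 1, 7, 2, 7, 3, 1, 2, 0, 2, 6, 3, 6]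
def rw5533 : List ℕ := [3, 6, 3, 1, 2, 3, 3, 0, 2, 7, 2, 7, 1, 7, 2, 7, 3, 1, 2, 0, 2, 6, 3, 6, 0, 6]
def rw5534 : List ℕ := [7, 2, 7, 1, 7, 2, 7, 3, 1, 6, 0, 2, 6, 3, 6, 0, 6, 3, 6, 3, 1, 2, 7, 3, 0, 2]
def rw5535 : List ℕ := [2, 4, 2, 5, 0, 5, 2, 7, 7, 6, 3, 4, 1, 4, 3, 5, 3, 5, 7, 3, 1, 6, 0, 2, 6, 4]
def rw5536 : List ℕ := [5, 2, 7, 2, 7, 4, 3, 5, 6, 3, 6, 3, 4, 3, 6, 3, 6, 3, 1, 2, 0, 2, 7, 2, 7, 2]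
def rw5537 : List ℕ := [3, 6, 3, 1, 4, 0, 2, 7, 2, 7, 2, 5, 2, 7, 2, 7, 4, 5, 5, 6, 3, 6, 3, 4, 3, 6]
def rw5538 : List ℕ := [2, 3, 3, 6, 3, 6, 2, 0, 7, 2, 7, 1, 2, 1, 2, 0, 3, 0, 6, 3, 6, 1, 3, 7, 2, 7]
def rw5539 : List ℕ := [7, 1, 2, 1, 6, 0, 3, 0, 6, 3, 6, 1, 3, 7, 2, 7, 2, 7, 3, 6, 3, 6, 2, 0, 7, 2]
def rw5540 : List ℕ := [4, 6, 2, 5, 1, 7, 4, 6, 2, 5, 1, 2, 0, 4, 3, 7, 5, 6, 0, 4, 3, 7, 5, 6, 3, 7]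
def rw5541 : List ℕ := [2, 1, 3, 6, 5, 1, 3, 6, 5, 1, 3, 6, 5, 1, 0, 0, 4, 7, 2, 0, 4, 7, 2, 0, 4, 7]
def rw5542 : List ℕ := [3, 6, 5, 1, 3, 6, 5, 1, 0, 0, 4, 7, 2, 0, 4, 7, 2, 0, 4, 7, 2, 1, 3, 6, 5, 1]
def rw5543 : List ℕ := [6, 5, 1, 6, 0, 4, 7, 2, 0, 4, 7, 2, 0, 4, 7, 2, 7, 3, 6, 5, 1, 3, 6, 5, 1, 3]
def rw5544 : List ℕ := [3, 6, 3, 0, 5, 6, 3, 6, 3, 3, 2, 7, 2, 7, 4, 1, 2, 7, 2, 7, 4, 1, 2, 0, 5, 6]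
def rw5545 : List ℕ := [6, 3, 6, 3, 0, 5, 6, 3, 6, 3, 7, 2, 7, 2, 7, 4, 1, 2, 7, 2, 7, 4, 1, 6, 0, 5]
def rw5546 : List ℕ := [6, 5, 3, 5, 2, 4, 7, 2, 7, 1, 5, 3, 7, 2, 7, 1, 4, 0, 6, 3, 6, 2, 4, 0, 6, 3]
def rw5547 : List ℕ := [1, 5, 3, 5, 2, 4, 0, 6, 3, 6, 5, 3, 7, 2, 7, 1, 4, 0, 6, 3, 6, 2, 4, 7, 2, 7]
def rw5548 : List ℕ := [3, 6, 6, 3, 4, 6, 3, 6, 2, 7, 5, 2, 7, 7, 2, 7, 5, 2, 7, 7, 7, 6, 6, 3, 4, 6]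
def rw5549 : List ℕ := [1, 5, 5, 1, 1, 2, 0, 0, 4, 4, 0, 0, 5, 7, 3, 1, 6, 3, 3, 3, 2, 2, 7, 0, 2, 6, 4, 1]
def rw5550 : List ℕ := [7, 7, 2, 7, 1, 6, 5, 1, 1, 2, 0, 0, 4, 7, 0, 6, 3, 6, 6, 5, 5, 0, 5, 3, 4, 1, 4, 4]
def rw5551 : List ℕ := [7, 1, 6, 5, 5, 0, 5, 1, 4, 1, 4, 4, 7, 0, 6, 3, 6, 6, 5, 1, 1, 0, 0, 0, 4, 7, 7, 2]
def rw5552 : List ℕ := [7, 7, 2, 7, 1, 6, 5, 5, 0, 5, 3, 4, 1, 4, 4, 7, 0, 6, 3, 6, 6, 5, 1, 1, 2, 0, 0, 4]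
def rw5553 : List ℕ := [6, 3, 5, 1, 4, 2, 7, 3, 6, 0, 6, 6, 3, 1, 4, 1, 1, 0, 0, 0, 5, 0, 2, 7, 7, 1, 7, 2]
def rw5554 : List ℕ := [0, 6, 6, 2, 0, 5, 3, 4, 1, 3, 7, 7, 1, 7, 2, 6, 2, 4, 1, 1, 2, 0, 0, 5, 3, 7, 3, 6]
def rw5555 : List ℕ := [7, 1, 7, 2, 6, 2, 4, 1, 1, 6, 0, 0, 5, 3, 7, 3, 6, 0, 6, 6, 2, 0, 5, 7, 4, 1, 3, 7]
def rw5556 : List ℕ := [6, 6, 2, 4, 1, 1, 4, 0, 0, 5, 3, 7, 7, 1, 7, 2, 6, 2, 0, 5, 5, 4, 1, 3, 7, 3, 6, 0]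
def rw5557 : List ℕ := [5, 5, 2, 0, 7, 4, 2, 0, 5, 6, 4, 1, 1, 6, 0, 0, 5, 7, 4, 1, 3, 5, 6, 1, 3, 4, 4, 7]
def rw5558 : List ℕ := [4, 1, 4, 2, 7, 4, 1, 3, 1, 0, 0, 2, 0, 5, 6, 3, 5, 0, 5, 0, 3, 4, 7, 1, 6, 5, 2, 1]
def rw5559 : List ℕ := [7, 4, 1, 3, 1, 4, 0, 2, 0, 5, 6, 3, 5, 0, 5, 0, 3, 4, 7, 5, 6, 5, 2, 1, 4, 1, 4, 2]
def rw5560 : List ℕ := [2, 7, 2, 0, 6, 2, 7, 4, 1, 3, 1, 0, 0, 2, 0, 5, 6, 3, 7, 1, 3, 6, 3, 6, 6, 1, 7, 7]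
def rw5561 : List ℕ := [7, 1, 3, 6, 3, 6, 6, 3, 7, 7, 2, 7, 2, 0, 6, 2, 7, 4, 1, 3, 1, 2, 0, 2, 0, 5, 6, 3]
def rw5562 : List ℕ := [1, 3, 6, 3, 6, 6, 5, 7, 7, 2, 7, 2, 0, 6, 2, 7, 4, 1, 3, 1, 4, 0, 2, 0, 5, 6, 3, 7]
def rw5563 : List ℕ := [4, 7, 5, 6, 5, 1, 3, 0, 5, 0, 5, 7, 4, 1, 3, 1, 4, 0, 2, 0, 5, 6, 4, 1, 4, 1, 2, 0]
def rw5564 : List ℕ := [3, 4, 7, 5, 6, 5, 2, 1, 3, 5, 0, 5, 7, 4, 1, 3, 1, 4, 0, 2, 0, 5, 6, 4, 1, 4, 2, 0]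
def rw5565 : List ℕ := [5, 0, 5, 7, 4, 1, 3, 1, 4, 0, 2, 0, 5, 6, 4, 1, 4, 2, 0, 3, 4, 7, 5, 6, 5, 2, 1, 3]
def rw5566 : List ℕ := [7, 1, 6, 6, 3, 3, 6, 3, 6, 4, 2, 7, 1, 3, 1, 0, 0, 2, 0, 6, 3, 5, 7, 2, 7, 2, 2, 7]
def rw5567 : List ℕ := [5, 1, 3, 0, 5, 0, 5, 7, 4, 7, 5, 6, 4, 1, 4, 1, 2, 0, 4, 7, 1, 3, 1, 6, 0, 2, 0, 6]
def rw5568 : List ℕ := [7, 1, 3, 1, 0, 0, 2, 0, 6, 5, 2, 1, 3, 5, 0, 5, 7, 4, 1, 5, 6, 4, 1, 4, 2, 0, 3, 4]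
def rw5569 : List ℕ := [6, 4, 2, 7, 1, 6, 3, 5, 7, 2, 7, 2, 2, 7, 7, 1, 3, 1, 0, 0, 2, 0, 6, 6, 3, 3, 6, 3]
def rw5570 : List ℕ := [6, 3, 6, 4, 2, 7, 3, 6, 3, 5, 7, 2, 7, 2, 2, 7, 7, 1, 3, 1, 2, 0, 2, 0, 6, 6, 3, 3]
def rw5571 : List ℕ := [2, 0, 7, 7, 2, 7, 2, 0, 6, 2, 7, 4, 1, 5, 6, 3, 7, 1, 3, 6, 3, 6, 6, 1, 3, 1, 0, 0]
def rw5572 : List ℕ := [6, 1, 3, 1, 0, 0, 2, 0, 7, 7, 2, 7, 2, 0, 6, 2, 7, 4, 1, 5, 6, 3, 7, 1, 3, 6, 3, 6]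
def rw5573 : List ℕ := [1, 3, 6, 3, 6, 6, 1, 3, 1, 2, 0, 2, 0, 7, 7, 2, 7, 2, 0, 6, 2, 7, 4, 3, 5, 6, 3, 7]
def rw5574 : List ℕ := [6, 1, 5, 5, 1, 3, 4, 6, 1, 7, 5, 2, 0, 4, 4, 0, 7, 0, 6, 0, 3, 1, 0, 0, 2, 1, 7, 1]
def rw5575 : List ℕ := [0, 3, 1, 4, 0, 2, 1, 7, 1, 6, 1, 5, 5, 1, 3, 4, 6, 5, 7, 5, 2, 0, 4, 4, 0, 7, 0, 6]
def rw5576 : List ℕ := [0, 2, 1, 7, 1, 6, 1, 5, 5, 1, 3, 4, 6, 7, 7, 5, 2, 0, 4, 4, 0, 7, 0, 6, 0, 3, 1, 6]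
def rw5577 : List ℕ := [2, 0, 5, 3, 3, 1, 4, 0, 2, 2, 4, 1, 3, 4, 3, 4, 7, 3, 5, 6, 5, 7, 4, 2, 6, 5, 2, 5]
def rw5578 : List ℕ := [3, 5, 6, 3, 3, 1, 2, 0, 2, 2, 7, 4, 2, 6, 5, 2, 5, 2, 0, 5, 3, 4, 1, 3, 4, 3, 4, 7]
def rw5579 : List ℕ := [4, 2, 6, 5, 2, 5, 2, 0, 5, 7, 4, 1, 3, 4, 3, 4, 7, 3, 5, 6, 3, 3, 1, 6, 0, 2, 2, 7]
def rw5580 : List ℕ := [4, 7, 3, 5, 6, 3, 3, 1, 6, 0, 2, 2, 7, 4, 2, 6, 5, 2, 5, 2, 0, 5, 7, 4, 1, 3, 4, 3]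
def rw5581 : List ℕ := [7, 0, 5, 3, 1, 0, 0, 2, 4, 1, 6, 5, 2, 5, 2, 0, 5, 2, 7, 1, 6, 3, 4, 1, 3, 4, 3, 4]
def rw5582 : List ℕ := [7, 4, 1, 6, 1, 2, 2, 5, 3, 1, 0, 0, 2, 4, 3, 3, 0, 7, 0, 5, 6, 1, 2, 4, 1, 5, 3, 0]
def rw5583 : List ℕ := [7, 4, 1, 6, 1, 2, 2, 5, 3, 1, 2, 0, 2, 4, 3, 3, 0, 7, 0, 5, 6, 1, 2, 4, 3, 5, 3, 0]
def rw5584 : List ℕ := [1, 2, 2, 5, 3, 1, 4, 0, 2, 4, 3, 3, 0, 7, 0, 5, 6, 1, 2, 4, 5, 5, 3, 0, 7, 4, 1, 6]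
def rw5585 : List ℕ := [6, 6, 5, 2, 5, 3, 1, 0, 0, 2, 4, 3, 4, 7, 7, 3, 1, 7, 4, 3, 4, 1, 5, 2, 5, 6, 0, 2]
def rw5586 : List ℕ := [0, 2, 6, 6, 5, 2, 5, 3, 1, 4, 0, 2, 4, 3, 4, 7, 7, 3, 1, 7, 4, 3, 4, 5, 5, 2, 5, 6]
def rw5587 : List ℕ := [6, 3, 5, 6, 0, 2, 5, 1, 6, 3, 7, 0, 4, 3, 1, 7, 4, 2, 7, 1, 4, 3, 1, 2, 0, 2, 5, 0]
def rw5588 : List ℕ := [6, 0, 2, 5, 1, 6, 7, 7, 0, 4, 3, 1, 7, 4, 2, 7, 1, 4, 3, 1, 6, 0, 2, 5, 0, 6, 3, 5]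
def rw5589 : List ℕ := [5, 6, 5, 2, 0, 4, 3, 1, 2, 0, 2, 5, 1, 3, 4, 7, 4, 0, 5, 6, 3, 7, 3, 6, 2, 7, 4, 1]
def rw5590 : List ℕ := [7, 1, 3, 6, 3, 6, 6, 2, 1, 3, 7, 7, 2, 7, 2, 0, 6, 2, 7, 4, 3, 1, 0, 0, 2, 5, 6, 3]
def rw5591 : List ℕ := [2, 1, 3, 7, 7, 2, 7, 2, 0, 6, 2, 7, 4, 3, 1, 0, 0, 2, 5, 6, 3, 7, 1, 3, 6, 3, 6, 6]
def rw5592 : List ℕ := [7, 1, 3, 6, 3, 6, 6, 2, 5, 3, 7, 7, 2, 7, 2, 0, 6, 2, 7, 4, 3, 1, 4, 0, 2, 5, 6, 3]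
def rw5593 : List ℕ := [0, 5, 0, 5, 7, 4, 3, 1, 0, 0, 2, 5, 6, 4, 1, 4, 1, 2, 0, 4, 7, 2, 1, 3, 6, 5, 1, 3]
def rw5594 : List ℕ := [6, 3, 3, 6, 3, 6, 4, 2, 7, 2, 1, 3, 6, 3, 5, 7, 2, 7, 2, 2, 7, 7, 3, 1, 0, 0, 2, 6]
def rw5595 : List ℕ := [6, 6, 3, 3, 6, 3, 6, 4, 2, 7, 2, 7, 3, 6, 3, 5, 7, 2, 7, 2, 2, 7, 7, 3, 1, 6, 0, 2]
def rw5596 : List ℕ := [7, 1, 6, 1, 5, 5, 1, 3, 4, 6, 3, 1, 2, 7, 5, 2, 0, 4, 4, 0, 7, 0, 6, 3, 1, 0, 0, 2]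
def rw5597 : List ℕ := [3, 6, 6, 3, 1, 6, 0, 2, 7, 7, 2, 7, 2, 0, 6, 2, 7, 4, 2, 7, 3, 5, 6, 3, 7, 1, 3, 6]
def rw5598 : List ℕ := [7, 4, 4, 1, 5, 5, 6, 3, 7, 5, 6, 5, 2, 5, 2, 5, 1, 0, 0, 4, 3, 4, 3, 4, 7, 4, 6, 2]
def rw5599 : List ℕ := [5, 6, 5, 2, 5, 2, 5, 1, 0, 0, 4, 3, 4, 3, 4, 7, 4, 6, 2, 7, 4, 4, 1, 5, 5, 6, 3, 7]
def rw5600 : List ℕ := [5, 6, 5, 2, 5, 2, 5, 1, 4, 0, 4, 3, 4, 3, 4, 7, 4, 6, 2, 7, 4, 4, 5, 5, 5, 6, 3, 7]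
def rw5601 : List ℕ := [5, 6, 5, 2, 5, 2, 5, 1, 6, 0, 4, 3, 4, 3, 4, 7, 4, 6, 2, 7, 4, 4, 7, 5, 5, 6, 3, 7]
def rw5602 : List ℕ := [3, 6, 3, 4, 6, 2, 5, 2, 5, 1, 0, 0, 4, 3, 4, 3, 7, 5, 2, 7, 2, 0, 4, 7, 1, 6, 5, 1]
def rw5603 : List ℕ := [1, 3, 6, 3, 4, 6, 2, 5, 2, 5, 1, 4, 0, 4, 3, 4, 3, 7, 5, 2, 7, 2, 0, 4, 7, 5, 6, 5]
def rw5604 : List ℕ := [0, 5, 6, 3, 0, 5, 3, 5, 7, 4, 2, 4, 1, 2, 7, 4, 1, 6, 5, 2, 5, 1, 6, 0, 4, 3, 4, 7]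
def rw5605 : List ℕ := [6, 5, 1, 0, 0, 4, 7, 0, 5, 0, 5, 7, 4, 3, 4, 7, 2, 1, 3, 6, 5, 2, 5, 6, 4, 1, 4, 1]
def rw5606 : List ℕ := [6, 4, 1, 4, 1, 6, 5, 1, 0, 0, 4, 7, 0, 5, 0, 5, 7, 4, 3, 4, 7, 2, 1, 3, 6, 5, 2, 5]
def rw5607 : List ℕ := [4, 1, 4, 1, 6, 5, 1, 2, 0, 4, 7, 0, 5, 0, 5, 7, 4, 3, 4, 7, 2, 3, 3, 6, 5, 2, 5, 6]
def rw5608 : List ℕ := [5, 2, 5, 6, 4, 1, 4, 1, 6, 5, 1, 4, 0, 4, 7, 0, 5, 0, 5, 7, 4, 3, 4, 7, 2, 5, 3, 6]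
def rw5609 : List ℕ := [6, 4, 1, 4, 1, 6, 5, 1, 6, 0, 4, 7, 0, 5, 0, 5, 7, 4, 3, 4, 7, 2, 7, 3, 6, 5, 2, 5]
def rw5610 : List ℕ := [0, 7, 7, 2, 7, 1, 6, 5, 1, 0, 0, 4, 7, 0, 6, 3, 6, 6, 1, 4, 1, 4, 4, 1, 5, 5, 0, 5]
def rw5611 : List ℕ := [6, 3, 4, 1, 4, 0, 5, 2, 7, 7, 2, 7, 0, 5, 6, 3, 7, 5, 5, 4, 6, 2, 7, 4, 1, 6, 3, 6]
def rw5612 : List ℕ := [0, 6, 3, 6, 6, 3, 4, 1, 5, 2, 7, 7, 2, 7, 1, 4, 6, 2, 7, 4, 1, 0, 0, 5, 6, 3, 7, 5]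
def rw5613 : List ℕ := [0, 6, 3, 6, 6, 3, 4, 3, 5, 2, 7, 7, 2, 7, 1, 4, 6, 2, 7, 4, 1, 2, 0, 5, 6, 3, 7, 5]
def rw5614 : List ℕ := [2, 7, 1, 6, 3, 4, 1, 5, 2, 7, 0, 6, 3, 6, 4, 6, 2, 7, 4, 1, 0, 0, 5, 6, 3, 7, 5, 7]
def rw5615 : List ℕ := [7, 7, 2, 2, 7, 7, 4, 2, 6, 4, 3, 5, 7, 3, 5, 6, 6, 3, 3, 6, 6, 3, 3, 3, 2, 2, 2, 2]
def rw5616 : List ℕ := [2, 7, 1, 4, 3, 6, 3, 6, 5, 1, 4, 0, 4, 7, 2, 7, 2, 5, 0, 6, 3, 6, 2, 5, 2, 5, 3, 4, 3, 7]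
def rw5617 : List ℕ := [6, 3, 6, 2, 5, 2, 7, 3, 4, 3, 7, 2, 7, 1, 4, 3, 6, 3, 6, 5, 1, 6, 0, 4, 7, 2, 7, 2, 5, 0]
def rw5618 : List ℕ := [4, 1, 5, 7, 3, 5, 6, 2, 2, 2, 4, 1, 5, 3, 3, 3, 7, 4, 2, 6, 4, 0, 5, 3, 5, 1, 0, 0, 4, 2]
def rw5619 : List ℕ := [6, 2, 2, 2, 4, 3, 5, 3, 3, 3, 7, 4, 2, 6, 4, 0, 5, 3, 5, 1, 2, 0, 4, 2, 4, 1, 5, 7, 3, 5]
def rw5620 : List ℕ := [4, 2, 4, 1, 5, 7, 3, 5, 6, 2, 2, 2, 4, 5, 5, 3, 3, 3, 7, 4, 2, 6, 4, 0, 5, 3, 5, 1, 4, 0]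
def rw5621 : List ℕ := [5, 7, 3, 5, 6, 2, 2, 2, 4, 7, 5, 3, 3, 3, 7, 4, 2, 6, 4, 0, 5, 3, 5, 1, 6, 0, 4, 2, 4, 1]
def rw5622 : List ℕ := [5, 6, 3, 1, 2, 7, 4, 7, 2, 7, 0, 2, 0, 7, 4, 1, 3, 1, 0, 0, 2, 0, 5, 6, 1, 3, 1, 6, 3, 6]
def rw5623 : List ℕ := [6, 3, 6, 5, 6, 3, 5, 2, 7, 4, 7, 2, 7, 0, 2, 0, 7, 4, 1, 3, 1, 4, 0, 2, 0, 5, 6, 1, 3, 1]
def rw5624 : List ℕ := [6, 3, 6, 1, 1, 5, 2, 7, 2, 7, 4, 3, 3, 2, 5, 6, 3, 6, 3, 4, 0, 0, 7, 2, 7, 1, 1, 2, 0, 0]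
def rw5625 : List ℕ := [3, 5, 2, 5, 6, 3, 6, 3, 4, 0, 0, 7, 2, 7, 1, 1, 4, 0, 0, 6, 3, 6, 1, 1, 5, 2, 7, 2, 7, 4]
def rw5626 : List ℕ := [2, 7, 1, 1, 4, 0, 0, 6, 3, 6, 1, 1, 5, 2, 7, 2, 7, 4, 3, 5, 2, 5, 6, 3, 6, 3, 4, 0, 0, 7]
def rw5627 : List ℕ := [6, 3, 4, 0, 0, 7, 2, 7, 1, 1, 4, 0, 0, 6, 3, 6, 1, 1, 5, 2, 7, 2, 7, 4, 3, 5, 2, 5, 6, 3]
def rw5628 : List ℕ := [0, 5, 1, 4, 0, 4, 1, 2, 7, 7, 3, 4, 3, 4, 2, 7, 4, 2, 5, 3, 5, 6, 3, 5, 2, 5, 2, 6, 6, 3]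
def rw5629 : List ℕ := [3, 4, 3, 4, 2, 7, 4, 2, 7, 3, 5, 6, 3, 5, 2, 5, 2, 6, 6, 3, 0, 5, 1, 6, 0, 4, 1, 2, 7, 7]
def rw5630 : List ℕ := [6, 3, 0, 5, 1, 6, 0, 4, 1, 2, 7, 7, 3, 4, 3, 4, 2, 7, 4, 2, 7, 3, 5, 6, 3, 5, 2, 5, 2, 6]
def rw5631 : List ℕ := [6, 0, 4, 3, 4, 3, 3, 1, 4, 0, 2, 2, 5, 2, 5, 1, 7, 3, 4, 3, 4, 3, 6, 5, 7, 2, 5, 2, 5, 2]
def rw5632 : List ℕ := [2, 6, 0, 4, 3, 4, 3, 3, 1, 6, 0, 2, 2, 5, 2, 5, 1, 7, 3, 4, 3, 4, 3, 6, 7, 7, 2, 5, 2, 5]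
def rw5633 : List ℕ := [3, 6, 5, 6, 0, 2, 5, 6, 1, 2, 1, 3, 0, 7, 4, 3, 1, 7, 4, 7, 2, 7, 3, 3, 1, 0, 0, 2, 2, 6]
def rw5634 : List ℕ := [3, 6, 3, 6, 1, 2, 2, 1, 3, 3, 0, 7, 2, 7, 2, 0, 3, 7, 2, 7, 3, 1, 0, 0, 2, 6, 3, 6, 2, 1]
def rw5635 : List ℕ := [6, 3, 6, 2, 1, 3, 6, 3, 6, 1, 2, 2, 1, 3, 3, 0, 7, 2, 7, 2, 0, 3, 7, 2, 7, 3, 1, 0, 0, 2]
def rw5636 : List ℕ := [6, 2, 1, 3, 6, 3, 6, 1, 2, 2, 7, 3, 3, 0, 7, 2, 7, 2, 0, 3, 7, 2, 7, 3, 1, 6, 0, 2, 6, 3]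
def rw5637 : List ℕ := [7, 0, 2, 4, 2, 1, 3, 1, 0, 0, 2, 0, 3, 5, 3, 1, 6, 3, 3, 3, 1, 7, 4, 1, 5, 6, 0, 2, 2, 2]
def rw5638 : List ℕ := [3, 1, 6, 2, 1, 5, 3, 1, 4, 1, 1, 2, 0, 0, 5, 0, 2, 4, 0, 3, 7, 0, 2, 6, 2, 2, 3, 3, 3, 7]
def rw5639 : List ℕ := [5, 3, 3, 7, 3, 1, 6, 2, 1, 5, 3, 1, 4, 1, 1, 4, 0, 0, 5, 0, 2, 4, 0, 3, 7, 0, 2, 6, 2, 2]
def rw5640 : List ℕ := [4, 1, 2, 7, 3, 6, 3, 0, 5, 3, 5, 6, 3, 6, 3, 6, 3, 4, 1, 2, 0, 5, 2, 7, 2, 7, 2, 7, 4, 2]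
def rw5641 : List ℕ := [3, 6, 3, 6, 3, 4, 1, 2, 0, 5, 2, 7, 2, 7, 2, 7, 4, 2, 4, 1, 2, 7, 3, 6, 3, 0, 5, 3, 5, 6]
def rw5642 : List ℕ := [3, 6, 3, 6, 3, 4, 1, 4, 0, 5, 2, 7, 2, 7, 2, 7, 4, 2, 4, 1, 2, 7, 5, 6, 3, 0, 5, 3, 5, 6]
def rw5643 : List ℕ := [2, 7, 2, 7, 4, 2, 4, 1, 2, 7, 7, 6, 3, 0, 5, 3, 5, 6, 3, 6, 3, 6, 3, 4, 1, 6, 0, 5, 2, 7]
def rw5644 : List ℕ := [5, 0, 2, 6, 1, 7, 3, 1, 4, 1, 3, 5, 0, 2, 6, 3, 3, 3, 1, 0, 0, 2, 2, 2, 7, 3, 1, 4, 2, 0]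
def rw5645 : List ℕ := [1, 4, 1, 3, 5, 0, 2, 6, 3, 3, 3, 1, 0, 0, 2, 2, 2, 7, 3, 1, 4, 2, 0, 5, 0, 2, 6, 1, 7, 3]
def rw5646 : List ℕ := [1, 4, 1, 3, 5, 0, 2, 6, 3, 3, 3, 1, 2, 0, 2, 2, 2, 7, 3, 1, 4, 2, 0, 5, 0, 2, 6, 3, 7, 3]
def rw5647 : List ℕ := [3, 1, 4, 2, 0, 5, 0, 2, 6, 7, 7, 3, 1, 4, 1, 3, 5, 0, 2, 6, 3, 3, 3, 1, 6, 0, 2, 2, 2, 7]
def rw5648 : List ℕ := [6, 3, 3, 5, 1, 6, 0, 4, 2, 2, 7, 4, 2, 2, 7, 3, 7, 2, 7, 2, 7, 3, 6, 3, 6, 2, 6, 3, 3, 5]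
def rw5649 : List ℕ := [3, 6, 3, 6, 3, 6, 5, 1, 5, 2, 5, 1, 0, 0, 4, 3, 4, 0, 4, 7, 2, 7, 2, 7, 2, 7, 4, 1, 5, 6]
def rw5650 : List ℕ := [2, 5, 1, 4, 0, 4, 3, 4, 0, 4, 7, 2, 7, 2, 7, 2, 7, 4, 5, 5, 6, 3, 6, 3, 6, 3, 6, 5, 1, 5]
def rw5651 : List ℕ := [5, 3, 4, 3, 4, 2, 5, 1, 4, 3, 5, 2, 5, 2, 4, 7, 0, 5, 6, 1, 2, 1, 0, 0, 3, 0, 7, 4, 1, 6]
def rw5652 : List ℕ := [6, 5, 3, 4, 3, 4, 2, 5, 5, 4, 3, 5, 2, 5, 2, 4, 7, 0, 5, 6, 1, 2, 1, 4, 0, 3, 0, 7, 4, 1]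
def rw5653 : List ℕ := [4, 1, 6, 5, 3, 4, 3, 4, 2, 5, 7, 4, 3, 5, 2, 5, 2, 4, 7, 0, 5, 6, 1, 2, 1, 6, 0, 3, 0, 7]
def rw5654 : List ℕ := [4, 1, 4, 3, 5, 0, 5, 6, 3, 3, 1, 2, 7, 3, 5, 1, 3, 1, 2, 0, 2, 0, 4, 2, 6, 3, 0, 2, 2, 7]
def rw5655 : List ℕ := [6, 1, 2, 7, 4, 3, 1, 0, 0, 2, 5, 6, 3, 0, 7, 2, 7, 1, 2, 0, 5, 6, 1, 7, 4, 1, 3, 0, 6, 3]
def rw5656 : List ℕ := [0, 7, 2, 7, 1, 2, 0, 5, 6, 3, 7, 4, 1, 3, 0, 6, 3, 6, 1, 2, 7, 4, 3, 1, 2, 0, 2, 5, 6, 3]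
def rw5657 : List ℕ := [2, 7, 1, 2, 0, 5, 6, 5, 7, 4, 1, 3, 0, 6, 3, 6, 1, 2, 7, 4, 3, 1, 4, 0, 2, 5, 6, 3, 0, 7]
def rw5658 : List ℕ := [7, 2, 7, 1, 2, 0, 5, 6, 7, 7, 4, 1, 3, 0, 6, 3, 6, 1, 2, 7, 4, 3, 1, 6, 0, 2, 5, 6, 3, 0]
def rw5659 : List ℕ := [0, 2, 4, 0, 2, 5, 3, 1, 5, 3, 1, 6, 3, 3, 3, 1, 7, 4, 1, 1, 4, 0, 0, 5, 6, 0, 2, 2, 2, 7]
def rw5660 : List ℕ := [1, 6, 3, 3, 3, 1, 7, 4, 1, 1, 4, 0, 0, 5, 6, 0, 2, 2, 2, 7, 0, 2, 4, 0, 2, 5, 3, 1, 5, 3]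
def rw5661 : List ℕ := [7, 0, 2, 4, 0, 2, 7, 3, 1, 5, 3, 1, 6, 3, 3, 3, 1, 7, 4, 1, 1, 6, 0, 0, 5, 6, 0, 2, 2, 2]
def rw5662 : List ℕ := [4, 3, 6, 3, 6, 1, 7, 2, 7, 2, 5, 2, 7, 2, 7, 4, 1, 3, 1, 1, 0, 0, 0, 2, 0, 5, 6, 3, 6, 3]
def rw5663 : List ℕ := [3, 6, 3, 4, 3, 6, 3, 6, 5, 7, 2, 7, 2, 5, 2, 7, 2, 7, 4, 1, 3, 1, 1, 4, 0, 0, 2, 0, 5, 6]
def rw5664 : List ℕ := [1, 3, 1, 1, 2, 0, 0, 2, 0, 4, 1, 2, 7, 3, 1, 6, 0, 2, 5, 3, 4, 3, 1, 7, 0, 2, 6, 3, 0, 5]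
def rw5665 : List ℕ := [2, 7, 3, 1, 4, 0, 2, 6, 3, 6, 2, 0, 7, 2, 7, 1, 2, 2, 2, 5, 3, 3, 3, 0, 6, 3, 6, 1, 3, 7]
def rw5666 : List ℕ := [6, 3, 6, 1, 3, 7, 2, 7, 3, 1, 4, 0, 2, 6, 3, 6, 2, 0, 7, 2, 7, 1, 2, 2, 2, 5, 3, 3, 3, 0]
def rw5667 : List ℕ := [2, 7, 1, 2, 2, 2, 7, 3, 3, 3, 0, 6, 3, 6, 1, 3, 7, 2, 7, 3, 1, 6, 0, 2, 6, 3, 6, 2, 0, 7]
def rw5668 : List ℕ := [6, 3, 6, 4, 1, 3, 5, 7, 2, 7, 5, 3, 1, 0, 0, 2, 4, 6, 3, 6, 4, 2, 0, 5, 7, 2, 7, 2, 1, 3]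
def rw5669 : List ℕ := [7, 5, 3, 1, 4, 0, 2, 4, 6, 3, 6, 4, 2, 0, 5, 7, 2, 7, 2, 5, 3, 6, 3, 6, 4, 1, 3, 5, 7, 2]
def rw5670 : List ℕ := [3, 5, 7, 2, 7, 5, 3, 1, 6, 0, 2, 4, 6, 3, 6, 4, 2, 0, 5, 7, 2, 7, 2, 7, 3, 6, 3, 6, 4, 1]
def rw5671 : List ℕ := [4, 1, 1, 1, 0, 0, 0, 0, 5, 5, 2, 1, 5, 5, 7, 0, 2, 6, 4, 1, 5, 7, 3, 1, 6, 4, 4, 0, 3, 4]
def rw5672 : List ℕ := [1, 7, 2, 5, 1, 3, 6, 5, 1, 7, 1, 5, 1, 3, 1, 0, 0, 2, 0, 4, 0, 6, 0, 4, 7, 2, 0, 4, 3, 6]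
def rw5673 : List ℕ := [7, 1, 5, 1, 3, 1, 4, 0, 2, 0, 4, 0, 6, 0, 4, 7, 2, 0, 4, 3, 6, 5, 7, 2, 5, 1, 3, 6, 5, 1]
def rw5674 : List ℕ := [5, 7, 2, 2, 7, 4, 1, 2, 4, 6, 6, 3, 7, 2, 7, 7, 5, 3, 0, 5, 6, 3, 3, 6, 4, 4, 1, 6, 0, 5]
def rw5675 : List ℕ := [1, 2, 7, 4, 2, 0, 5, 1, 3, 1, 4, 0, 2, 0, 4, 1, 3, 5, 6, 3, 0, 3, 1, 7, 3, 5, 2, 6, 0, 2]
def rw5676 : List ℕ := [1, 4, 2, 0, 2, 4, 2, 6, 3, 3, 3, 1, 0, 0, 2, 2, 2, 7, 3, 5, 3, 1, 3, 5, 0, 5, 6, 1, 7, 4]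
def rw5677 : List ℕ := [7, 2, 7, 1, 0, 0, 6, 3, 6, 1, 6, 3, 3, 5, 6, 3, 3, 5, 3, 1, 2, 4, 2, 2, 7, 4, 2, 2, 7, 0]
def rw5678 : List ℕ := [3, 3, 5, 6, 3, 3, 5, 3, 1, 2, 4, 2, 2, 7, 4, 2, 2, 7, 0, 7, 2, 7, 1, 0, 0, 6, 3, 6, 1, 6]
def rw5679 : List ℕ := [6, 3, 3, 5, 3, 3, 2, 4, 2, 2, 7, 4, 2, 2, 7, 0, 7, 2, 7, 1, 2, 0, 6, 3, 6, 1, 6, 3, 3, 5]
def rw5680 : List ℕ := [6, 1, 6, 3, 3, 5, 6, 3, 3, 5, 3, 5, 2, 4, 2, 2, 7, 4, 2, 2, 7, 0, 7, 2, 7, 1, 4, 0, 6, 3]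
def rw5681 : List ℕ := [3, 3, 5, 6, 3, 3, 5, 3, 7, 2, 4, 2, 2, 7, 4, 2, 2, 7, 0, 7, 2, 7, 1, 6, 0, 6, 3, 6, 1, 6]
def rw5682 : List ℕ := [6, 3, 3, 5, 3, 7, 2, 4, 2, 2, 7, 4, 2, 2, 7, 0, 7, 2, 7, 1, 6, 0, 6, 3, 6, 1, 6, 3, 3, 5]
def rw5683 : List ℕ := [4, 1, 4, 3, 1, 2, 0, 2, 5, 0, 5, 1, 7, 2, 7, 2, 2, 6, 3, 6, 3, 7, 2, 7, 3, 3, 6, 3, 6, 0]
def rw5684 : List ℕ := [0, 5, 1, 7, 2, 7, 2, 2, 6, 3, 6, 3, 7, 2, 7, 3, 3, 6, 3, 6, 0, 4, 1, 4, 3, 1, 2, 0, 2, 5]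
def rw5685 : List ℕ := [6, 3, 6, 0, 4, 1, 4, 3, 1, 2, 0, 2, 5, 0, 5, 1, 7, 2, 7, 2, 2, 6, 3, 6, 3, 7, 2, 7, 3, 3]
def rw5686 : List ℕ := [7, 2, 7, 2, 2, 6, 3, 6, 7, 7, 2, 7, 3, 3, 6, 3, 6, 0, 4, 1, 4, 3, 1, 6, 0, 2, 5, 0, 5, 1]
def rw5687 : List ℕ := [3, 1, 6, 0, 2, 5, 1, 3, 1, 0, 0, 2, 0, 4, 3, 1, 7, 0, 2, 6, 3, 0, 5, 3, 1, 2, 4, 1, 2, 7]
def rw5688 : List ℕ := [0, 4, 3, 1, 7, 0, 2, 6, 3, 0, 5, 3, 7, 2, 4, 1, 2, 7, 3, 1, 6, 0, 2, 5, 1, 3, 1, 6, 0, 2]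
def rw5689 : List ℕ := [6, 0, 2, 2, 2, 7, 3, 3, 2, 6, 3, 3, 3, 1, 7, 4, 2, 0, 5, 1, 3, 1, 2, 0, 2, 0, 4, 1, 3, 5]
def rw5690 : List ℕ := [4, 2, 2, 7, 1, 2, 0, 6, 3, 3, 5, 6, 3, 3, 5, 0, 7, 2, 7, 2, 3, 3, 6, 3, 6, 1, 4, 2, 2, 7]
def rw5691 : List ℕ := [6, 1, 3, 7, 3, 3, 1, 2, 0, 2, 2, 6, 2, 0, 7, 0, 2, 6, 1, 3, 7, 2, 3, 3, 6, 2, 0, 7, 3, 1]
def rw5692 : List ℕ := [6, 4, 1, 3, 5, 7, 2, 7, 5, 1, 4, 6, 3, 6, 4, 2, 0, 5, 7, 2, 7, 1, 3, 1, 0, 0, 2, 0, 6, 3]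
def rw5693 : List ℕ := [7, 2, 2, 7, 1, 4, 2, 4, 3, 4, 1, 6, 0, 5, 2, 5, 3, 5, 0, 6, 3, 3, 6, 6, 5, 2, 7, 3, 4, 7]
def rw5694 : List ℕ := [4, 1, 4, 4, 2, 5, 2, 7, 3, 1, 0, 0, 2, 6, 3, 4, 3, 5, 5, 0, 5, 3, 3, 5, 7, 1, 6, 4, 2, 2]
def rw5695 : List ℕ := [5, 6, 3, 7, 4, 1, 2, 7, 3, 7, 0, 3, 1, 7, 4, 1, 1, 2, 0, 0, 5, 6, 0, 2, 1, 6, 2, 6, 3, 0]
def rw5696 : List ℕ := [2, 7, 3, 7, 0, 3, 1, 7, 4, 1, 1, 4, 0, 0, 5, 6, 0, 2, 1, 6, 2, 6, 3, 0, 5, 6, 5, 7, 4, 1]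
def rw5697 : List ℕ := [6, 1, 3, 1, 6, 3, 6, 5, 6, 3, 1, 3, 1, 2, 0, 2, 0, 2, 7, 4, 7, 2, 7, 0, 2, 0, 7, 4, 3, 5]
def rw5698 : List ℕ := [7, 2, 7, 2, 5, 0, 5, 1, 7, 2, 7, 2, 2, 1, 0, 0, 3, 3, 6, 3, 6, 0, 4, 1, 4, 3, 6, 3, 6, 1]
def rw5699 : List ℕ := [3, 3, 6, 3, 6, 0, 4, 1, 4, 3, 6, 3, 6, 7, 7, 2, 7, 2, 5, 0, 5, 1, 7, 2, 7, 2, 2, 1, 6, 0]
def rw5700 : List ℕ := [6, 0, 4, 1, 4, 3, 6, 3, 6, 7, 7, 2, 7, 2, 5, 0, 5, 1, 7, 2, 7, 2, 2, 1, 6, 0, 3, 3, 6, 3]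
def rw5701 : List ℕ := [6, 0, 2, 6, 0, 5, 7, 1, 3, 1, 2, 0, 2, 0, 6, 4, 1, 7, 3, 1, 7, 5, 3, 6, 3, 3, 2, 7, 2, 4]
def rw5702 : List ℕ := [3, 1, 6, 0, 2, 0, 6, 4, 1, 7, 3, 1, 7, 5, 3, 6, 3, 7, 2, 7, 2, 4, 6, 0, 2, 6, 0, 5, 7, 1]
def rw5703 : List ℕ := [1, 7, 4, 3, 1, 7, 7, 6, 0, 2, 5, 6, 0, 2, 5, 0, 7, 2, 7, 1, 1, 6, 0, 0, 6, 3, 6, 1, 4, 3]
def rw5704 : List ℕ := [6, 3, 0, 4, 0, 4, 0, 6, 3, 3, 2, 7, 1, 5, 1, 5, 1, 2, 7, 1, 5, 1, 5, 1, 2, 0, 4, 0, 4, 0]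
def rw5705 : List ℕ := [0, 4, 0, 6, 3, 0, 4, 0, 4, 0, 6, 3, 5, 2, 7, 1, 5, 1, 5, 1, 2, 7, 1, 5, 1, 5, 1, 4, 0, 4]
def rw5706 : List ℕ := [3, 0, 4, 0, 4, 0, 6, 3, 7, 2, 7, 1, 5, 1, 5, 1, 2, 7, 1, 5, 1, 5, 1, 6, 0, 4, 0, 4, 0, 6]
def rw5707 : List ℕ := [0, 2, 4, 2, 6, 7, 7, 3, 5, 3, 1, 3, 5, 0, 5, 6, 3, 0, 3, 1, 6, 0, 2, 1, 2, 7, 4, 1, 4, 2]
def rw5708 : List ℕ := [5, 6, 5, 7, 4, 2, 0, 5, 6, 4, 4, 1, 4, 2, 2, 4, 1, 4, 0, 5, 3, 3, 5, 0, 5, 5, 7, 4, 1, 3]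
def rw5709 : List ℕ := [0, 6, 3, 4, 0, 6, 3, 4, 1, 5, 2, 7, 1, 5, 2, 7, 1, 5, 6, 5, 6, 3, 1, 0, 0, 2, 7, 4, 7, 4]
def rw5710 : List ℕ := [6, 5, 6, 3, 1, 0, 0, 2, 7, 4, 7, 4, 0, 6, 3, 4, 0, 6, 3, 4, 1, 5, 2, 7, 1, 5, 2, 7, 1, 5]
def rw5711 : List ℕ := [6, 3, 4, 3, 5, 2, 7, 1, 5, 2, 7, 1, 5, 6, 5, 6, 3, 1, 2, 0, 2, 7, 4, 7, 4, 0, 6, 3, 4, 0]
def rw5712 : List ℕ := [1, 7, 1, 3, 6, 5, 2, 7, 4, 1, 5, 6, 3, 4, 7, 2, 0, 6, 0, 6, 5, 6, 5, 1, 0, 0, 4, 7, 4, 7]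
def rw5713 : List ℕ := [1, 3, 6, 5, 2, 2, 7, 3, 3, 4, 7, 2, 0, 4, 7, 2, 0, 4, 7, 3, 1, 6, 0, 2, 6, 5, 1, 3, 6, 5]
def rw5714 : List ℕ := [7, 1, 5, 1, 4, 0, 6, 0, 4, 7, 2, 0, 4, 3, 6, 1, 3, 1, 0, 0, 2, 0, 7, 2, 5, 1, 3, 6, 5, 1]
def rw5715 : List ℕ := [0, 2, 5, 2, 7, 2, 7, 4, 7, 5, 6, 3, 6, 3, 4, 3, 1, 7, 2, 7, 1, 3, 1, 6, 0, 2, 0, 6, 3, 6]
def rw5716 : List ℕ := [5, 1, 5, 7, 3, 1, 6, 4, 0, 4, 4, 5, 5, 5, 1, 5, 7, 0, 2, 6, 4, 0, 4, 4, 3, 1, 4, 0, 2, 5]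
def rw5717 : List ℕ := [0, 5, 3, 5, 3, 5, 6, 3, 3, 1, 6, 0, 2, 2, 7, 4, 2, 4, 2, 4, 1, 4, 1, 6, 3, 7, 2, 7, 0, 5]
def rw5718 : List ℕ := [5, 3, 5, 6, 3, 3, 1, 6, 0, 2, 2, 7, 4, 2, 4, 2, 4, 1, 4, 1, 6, 3, 7, 2, 7, 0, 5, 0, 5, 3]
def rw5719 : List ℕ := [5, 1, 4, 1, 6, 3, 1, 2, 7, 0, 5, 0, 4, 2, 4, 2, 4, 6, 3, 3, 1, 0, 0, 2, 2, 7, 5, 3, 5, 3]
def rw5720 : List ℕ := [3, 3, 1, 6, 0, 2, 2, 7, 5, 3, 5, 3, 5, 1, 4, 1, 6, 3, 7, 2, 7, 0, 5, 0, 4, 2, 4, 2, 4, 6]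
def rw5721 : List ℕ := [4, 5, 5, 6, 5, 6, 5, 2, 7, 3, 1, 3, 7, 4, 3, 1, 4, 0, 2, 5, 6, 2, 0, 2, 6, 3, 4, 7, 4, 7]
def rw5722 : List ℕ := [3, 3, 1, 6, 0, 2, 2, 7, 2, 7, 4, 1, 4, 3, 1, 7, 2, 7, 7, 6, 3, 6, 0, 2, 5, 0, 5, 6, 3, 6]
def rw5723 : List ℕ := [7, 3, 5, 3, 4, 2, 6, 3, 0, 2, 2, 7, 4, 1, 4, 1, 3, 1, 2, 0, 2, 0, 5, 0, 5, 6, 3, 3, 1, 2]
def rw5724 : List ℕ := [6, 0, 2, 6, 0, 5, 7, 0, 3, 1, 4, 0, 2, 1, 6, 4, 1, 7, 3, 1, 7, 5, 3, 6, 2, 5, 3, 7, 2, 4]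
def rw5725 : List ℕ := [6, 4, 4, 1, 3, 5, 3, 3, 5, 2, 2, 7, 5, 6, 3, 3, 4, 2, 2, 4, 2, 0, 5, 5, 7, 3, 1, 4, 0, 2]
def rw5726 : List ℕ := [3, 3, 1, 7, 4, 2, 0, 5, 5, 4, 1, 3, 5, 6, 0, 2, 2, 2, 7, 3, 1, 3, 1, 4, 0, 2, 0, 2, 6, 3]
def rw5727 : List ℕ := [3, 1, 4, 0, 2, 0, 2, 6, 3, 3, 3, 1, 7, 4, 2, 0, 5, 5, 4, 1, 3, 5, 6, 0, 2, 2, 2, 7, 3, 1]
def rw5728 : List ℕ := [6, 5, 1, 3, 6, 3, 6, 3, 1, 0, 0, 2, 7, 2, 7, 2, 0, 4, 7, 2, 7, 1, 5, 2, 1, 3, 4, 0, 6, 3]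
def rw5729 : List ℕ := [7, 1, 5, 2, 3, 3, 4, 0, 6, 3, 6, 5, 1, 3, 6, 3, 6, 3, 1, 2, 0, 2, 7, 2, 7, 2, 0, 4, 7, 2]
def rw5730 : List ℕ := [7, 2, 0, 4, 7, 2, 7, 1, 5, 2, 5, 3, 4, 0, 6, 3, 6, 5, 1, 3, 6, 3, 6, 3, 1, 4, 0, 2, 7, 2]
def rw5731 : List ℕ := [3, 4, 1, 5, 3, 7, 3, 6, 2, 4, 0, 5, 2, 1, 4, 4, 4, 4, 7, 3, 1, 2, 0, 2, 6, 5, 5, 5, 5, 0]
def rw5732 : List ℕ := [7, 0, 2, 6, 2, 1, 1, 4, 0, 0, 3, 7, 3, 1, 6, 2, 1, 5, 3, 1, 4, 2, 5, 3, 5, 0, 2, 4, 0, 3]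
def rw5733 : List ℕ := [2, 1, 1, 6, 0, 0, 3, 7, 3, 1, 6, 2, 1, 5, 3, 1, 4, 2, 7, 3, 5, 0, 2, 4, 0, 3, 7, 0, 2, 6]
def rw5734 : List ℕ := [6, 3, 4, 5, 5, 2, 7, 2, 7, 4, 3, 4, 0, 6, 3, 6, 5, 1, 4, 0, 4, 7, 2, 7, 1, 5, 2, 5, 6, 3]
def rw5735 : List ℕ := [7, 4, 3, 4, 0, 6, 3, 6, 5, 1, 4, 0, 4, 7, 2, 7, 1, 5, 2, 5, 6, 3, 6, 3, 4, 5, 5, 2, 7, 2]
def rw5736 : List ℕ := [6, 3, 4, 7, 5, 2, 7, 2, 7, 4, 3, 4, 0, 6, 3, 6, 5, 1, 6, 0, 4, 7, 2, 7, 1, 5, 2, 5, 6, 3]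
def rw5737 : List ℕ := [7, 4, 3, 4, 0, 6, 3, 6, 5, 1, 6, 0, 4, 7, 2, 7, 1, 5, 2, 5, 6, 3, 6, 3, 4, 7, 5, 2, 7, 2]
def rw5738 : List ℕ := [4, 2, 5, 7, 3, 1, 2, 0, 2, 6, 4, 3, 5, 0, 5, 2, 4, 2, 2, 2, 7, 3, 6, 3, 3, 3, 5, 3, 4, 1]
def rw5739 : List ℕ := [6, 3, 5, 0, 6, 6, 3, 3, 1, 6, 0, 2, 2, 7, 7, 1, 4, 2, 7, 5, 6, 5, 1, 5, 7, 4, 0, 4, 7, 4]
def rw5740 : List ℕ := [0, 2, 4, 0, 2, 1, 3, 1, 5, 3, 1, 6, 0, 2, 1, 2, 7, 4, 1, 1, 0, 0, 0, 5, 6, 3, 0, 3, 1, 7]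
def rw5741 : List ℕ := [7, 4, 1, 1, 0, 0, 0, 5, 6, 3, 0, 3, 1, 7, 0, 2, 4, 0, 2, 1, 3, 1, 5, 3, 1, 6, 0, 2, 1, 2]
def rw5742 : List ℕ := [0, 2, 0, 2, 5, 6, 3, 6, 3, 4, 3, 6, 3, 6, 7, 7, 2, 7, 2, 5, 2, 7, 2, 7, 4, 3, 1, 3, 1, 6]
def rw5743 : List ℕ := [2, 4, 1, 3, 0, 5, 3, 1, 0, 0, 2, 4, 1, 2, 0, 5, 3, 5, 7, 0, 2, 6, 3, 1, 2, 7, 3, 1, 6, 4]
def rw5744 : List ℕ := [3, 1, 6, 4, 2, 4, 1, 3, 0, 5, 3, 1, 4, 0, 2, 4, 1, 2, 0, 5, 3, 5, 7, 0, 2, 6, 3, 5, 2, 7]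
def rw5745 : List ℕ := [3, 5, 7, 0, 2, 6, 3, 7, 2, 7, 3, 1, 6, 4, 2, 4, 1, 3, 0, 5, 3, 1, 6, 0, 2, 4, 1, 2, 0, 5]
def rw5746 : List ℕ := [3, 5, 6, 6, 3, 1, 2, 7, 7, 4, 2, 4, 1, 6, 3, 0, 6, 3, 4, 1, 0, 0, 5, 2, 7, 1, 2, 7, 0, 5]
def rw5747 : List ℕ := [1, 2, 7, 0, 5, 3, 5, 6, 6, 3, 3, 2, 7, 7, 4, 2, 4, 1, 6, 3, 0, 6, 3, 4, 1, 2, 0, 5, 2, 7]
def rw5748 : List ℕ := [0, 2, 6, 1, 7, 3, 1, 2, 7, 3, 5, 2, 7, 2, 7, 3, 3, 1, 0, 0, 2, 2, 6, 3, 6, 3, 4, 2, 6, 3]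
def rw5749 : List ℕ := [6, 3, 4, 2, 6, 3, 0, 2, 6, 1, 7, 3, 1, 2, 7, 3, 5, 2, 7, 2, 7, 3, 3, 1, 0, 0, 2, 2, 6, 3]
def rw5750 : List ℕ := [3, 4, 2, 6, 3, 0, 2, 6, 7, 7, 3, 1, 2, 7, 3, 5, 2, 7, 2, 7, 3, 3, 1, 6, 0, 2, 2, 6, 3, 6]
def rw5751 : List ℕ := [0, 5, 2, 7, 1, 3, 1, 1, 4, 0, 0, 2, 0, 6, 3, 4, 1, 3, 5, 3, 5, 2, 7, 5, 6, 3, 4, 2, 4, 2]
def rw5752 : List ℕ := [1, 3, 6, 3, 6, 1, 3, 1, 0, 0, 2, 0, 7, 2, 7, 2, 0, 4, 7, 2, 7, 1, 5, 1, 4, 0, 6, 3, 6, 5]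
def rw5753 : List ℕ := [4, 6, 7, 7, 5, 7, 1, 7, 2, 7, 2, 6, 4, 1, 7, 3, 1, 6, 0, 2, 6, 0, 5, 7, 3, 6, 3, 6, 0, 6]
def rw5754 : List ℕ := [0, 3, 5, 6, 7, 7, 4, 2, 1, 3, 6, 3, 6, 1, 2, 7, 4, 3, 1, 6, 0, 2, 5, 6, 3, 0, 7, 2, 7, 2]
def rw5755 : List ℕ := [6, 3, 4, 3, 1, 2, 0, 2, 5, 2, 7, 2, 7, 4, 7, 4, 3, 1, 7, 4, 3, 5, 6, 0, 2, 5, 6, 5, 6, 3]
def rw5756 : List ℕ := [6, 5, 6, 3, 6, 3, 4, 3, 1, 6, 0, 2, 5, 2, 7, 2, 7, 4, 7, 4, 3, 1, 7, 4, 7, 5, 6, 0, 2, 5]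
def rw5757 : List ℕ := [0, 6, 3, 6, 1, 2, 2, 1, 3, 3, 0, 7, 2, 7, 1, 2, 0, 7, 2, 7, 3, 1, 0, 0, 2, 6, 3, 6, 1, 3]
def rw5758 : List ℕ := [1, 3, 0, 6, 3, 6, 1, 2, 2, 1, 3, 3, 0, 7, 2, 7, 1, 2, 0, 7, 2, 7, 3, 1, 0, 0, 2, 6, 3, 6]
def rw5759 : List ℕ := [6, 3, 6, 1, 2, 2, 3, 3, 3, 0, 7, 2, 7, 1, 2, 0, 7, 2, 7, 3, 1, 2, 0, 2, 6, 3, 6, 1, 3, 0]
def rw5760 : List ℕ := [0, 6, 3, 6, 1, 2, 2, 7, 3, 3, 0, 7, 2, 7, 1, 2, 0, 7, 2, 7, 3, 1, 6, 0, 2, 6, 3, 6, 1, 3]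
def rw5761 : List ℕ := [6, 2, 0, 7, 3, 1, 6, 1, 3, 7, 3, 1, 3, 1, 0, 0, 2, 0, 2, 6, 2, 0, 7, 0, 2, 6, 1, 3, 7, 1]
def rw5762 : List ℕ := [7, 7, 6, 2, 0, 7, 3, 1, 6, 1, 3, 7, 3, 1, 3, 1, 6, 0, 2, 0, 2, 6, 2, 0, 7, 0, 2, 6, 1, 3]
def rw5763 : List ℕ := [3, 1, 6, 2, 0, 7, 3, 1, 3, 1, 0, 0, 2, 0, 2, 6, 1, 3, 7, 0, 2, 6, 2, 0, 7, 1, 6, 1, 3, 7]
def rw5764 : List ℕ := [2, 0, 7, 5, 6, 1, 3, 7, 3, 1, 6, 2, 0, 7, 3, 1, 3, 1, 4, 0, 2, 0, 2, 6, 1, 3, 7, 0, 2, 6]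
def rw5765 : List ℕ := [1, 3, 1, 4, 0, 2, 0, 2, 6, 1, 3, 7, 0, 2, 6, 2, 0, 7, 5, 6, 1, 3, 7, 3, 1, 6, 2, 0, 7, 3]
def rw5766 : List ℕ := [6, 5, 6, 0, 2, 5, 6, 3, 3, 1, 0, 0, 2, 2, 7, 4, 3, 1, 7, 4, 7, 2, 7, 1, 2, 1, 3, 0, 6, 3]
def rw5767 : List ℕ := [6, 3, 3, 1, 0, 0, 2, 2, 7, 4, 3, 1, 7, 4, 7, 2, 7, 1, 2, 1, 3, 0, 6, 3, 6, 5, 6, 0, 2, 5]
def rw5768 : List ℕ := [3, 6, 1, 1, 3, 6, 3, 6, 0, 2, 1, 3, 1, 7, 2, 7, 2, 0, 0, 7, 2, 7, 1, 1, 1, 0, 0, 0, 0, 6]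
def rw5769 : List ℕ := [1, 1, 3, 6, 3, 6, 0, 2, 5, 3, 1, 7, 2, 7, 2, 0, 0, 7, 2, 7, 1, 1, 1, 4, 0, 0, 0, 6, 3, 6]
def rw5770 : List ℕ := [2, 7, 2, 4, 2, 7, 2, 7, 5, 3, 1, 0, 0, 2, 4, 6, 3, 6, 3, 5, 3, 6, 3, 6, 3, 5, 1, 4, 2, 7]
def rw5771 : List ℕ := [6, 3, 6, 3, 5, 3, 6, 3, 6, 3, 5, 3, 4, 2, 7, 2, 7, 2, 4, 2, 7, 2, 7, 5, 3, 1, 2, 0, 2, 4]
def rw5772 : List ℕ := [3, 6, 3, 5, 3, 6, 3, 6, 3, 5, 3, 4, 2, 7, 2, 7, 2, 4, 2, 7, 2, 7, 5, 3, 1, 2, 0, 2, 4, 6]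
def rw5773 : List ℕ := [3, 6, 3, 6, 3, 5, 7, 4, 2, 7, 2, 7, 2, 4, 2, 7, 2, 7, 5, 3, 1, 6, 0, 2, 4, 6, 3, 6, 3, 5]
def rw5774 : List ℕ := [2, 7, 3, 6, 1, 5, 1, 2, 0, 4, 0, 7, 2, 6, 3, 0, 5, 2, 2, 7, 3, 4, 3, 5, 2, 6, 3, 3, 4, 1]
def rw5775 : List ℕ := [6, 2, 7, 5, 1, 4, 6, 3, 7, 5, 6, 0, 4, 4, 4, 1, 5, 5, 1, 0, 0, 4, 4, 0, 5, 5, 5, 1, 7, 4]
def rw5776 : List ℕ := [2, 7, 5, 3, 4, 6, 3, 7, 5, 6, 0, 4, 4, 4, 1, 5, 5, 1, 2, 0, 4, 4, 0, 5, 5, 5, 1, 7, 4, 6]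
def rw5777 : List ℕ := [6, 2, 7, 5, 7, 4, 6, 3, 7, 5, 6, 0, 4, 4, 4, 1, 5, 5, 1, 6, 0, 4, 4, 0, 5, 5, 5, 1, 7, 4]
def rw5778 : List ℕ := [5, 1, 4, 1, 7, 3, 7, 5, 1, 4, 0, 4, 6, 2, 6, 0, 5, 0, 4, 6, 2, 6, 0, 5, 5, 4, 1, 7, 3, 7]
def rw5779 : List ℕ := [7, 2, 7, 2, 0, 2, 5, 6, 3, 6, 3, 4, 3, 1, 2, 0, 2, 5, 2, 7, 2, 7, 4, 3, 1, 3, 6, 3, 6, 3]
def rw5780 : List ℕ := [7, 2, 7, 2, 0, 2, 5, 6, 3, 6, 3, 4, 3, 1, 6, 0, 2, 5, 2, 7, 2, 7, 4, 3, 1, 3, 6, 3, 6, 7]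
def rw5781 : List ℕ := [3, 6, 5, 1, 4, 7, 2, 7, 1, 5, 3, 7, 2, 7, 2, 0, 3, 1, 0, 0, 2, 1, 3, 6, 3, 6, 2, 4, 0, 6]
def rw5782 : List ℕ := [6, 3, 6, 2, 4, 0, 6, 3, 6, 5, 3, 4, 7, 2, 7, 1, 5, 3, 7, 2, 7, 2, 0, 3, 1, 2, 0, 2, 1, 3]
def rw5783 : List ℕ := [6, 5, 2, 5, 5, 2, 7, 5, 2, 5, 1, 0, 0, 4, 3, 4, 6, 3, 4, 4, 3, 4, 7, 4, 2, 2, 1, 3, 3, 5]
def rw5784 : List ℕ := [7, 5, 2, 5, 1, 4, 0, 4, 3, 4, 6, 3, 4, 4, 3, 4, 7, 4, 2, 2, 5, 3, 3, 5, 6, 5, 2, 5, 5, 2]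
def rw5785 : List ℕ := [0, 4, 7, 4, 3, 5, 6, 5, 1, 3, 4, 3, 1, 5, 1, 7, 1, 3, 1, 2, 0, 2, 0, 6, 0, 4, 0, 2, 5, 2]
def rw5786 : List ℕ := [4, 2, 4, 6, 3, 6, 0, 6, 3, 6, 4, 2, 4, 1, 6, 0, 5, 3, 5, 7, 2, 7, 1, 7, 2, 7, 5, 3, 5, 7]
def rw5787 : List ℕ := [7, 1, 2, 7, 5, 2, 5, 1, 1, 1, 2, 0, 0, 0, 4, 3, 4, 6, 3, 0, 6, 6, 0, 0, 5, 3, 4, 1, 1, 7]
def rw5788 : List ℕ := [3, 6, 5, 6, 2, 1, 3, 7, 4, 7, 2, 7, 2, 0, 2, 7, 4, 0, 3, 1, 0, 0, 2, 1, 5, 6, 3, 1, 3, 6]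
def rw5789 : List ℕ := [5, 6, 2, 7, 3, 7, 4, 7, 2, 7, 2, 0, 2, 7, 4, 0, 3, 1, 6, 0, 2, 1, 5, 6, 3, 1, 3, 6, 3, 6]
def rw5790 : List ℕ := [3, 7, 2, 7, 1, 1, 0, 0, 0, 6, 3, 6, 2, 0, 7, 2, 7, 3, 1, 3, 3, 1, 2, 2, 0, 2, 6, 3, 6, 1]
def rw5791 : List ℕ := [2, 7, 3, 1, 3, 3, 7, 2, 2, 0, 2, 6, 3, 6, 1, 3, 7, 2, 7, 1, 1, 6, 0, 0, 6, 3, 6, 2, 0, 7]
def rw5792 : List ℕ := [2, 0, 2, 6, 0, 4, 7, 5, 1, 7, 3, 1, 3, 5, 6, 5, 1, 3, 4, 3, 1, 6, 0, 2, 5, 2, 0, 4, 7, 4]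
def rw5793 : List ℕ := [1, 2, 7, 4, 5, 5, 6, 3, 0, 3, 1, 7, 0, 2, 4, 2, 1, 3, 1, 4, 0, 2, 0, 3, 5, 3, 1, 6, 0, 2]
def rw5794 : List ℕ := [4, 6, 1, 7, 5, 3, 5, 3, 5, 1, 4, 1, 6, 3, 3, 3, 1, 0, 0, 2, 2, 2, 7, 0, 5, 0, 4, 2, 4, 2]
def rw5795 : List ℕ := [3, 6, 5, 6, 1, 3, 1, 1, 2, 0, 0, 2, 0, 7, 4, 7, 2, 7, 0, 2, 0, 7, 4, 3, 5, 6, 1, 3, 1, 6]
def rw5796 : List ℕ := [6, 3, 0, 2, 6, 3, 3, 1, 2, 0, 2, 2, 7, 3, 1, 2, 7, 3, 5, 2, 7, 2, 7, 3, 6, 3, 6, 3, 4, 2]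
def rw5797 : List ℕ := [0, 2, 6, 3, 3, 1, 4, 0, 2, 2, 7, 3, 1, 2, 7, 3, 5, 2, 7, 2, 7, 5, 6, 3, 6, 3, 4, 2, 6, 3]
def rw5798 : List ℕ := [7, 3, 5, 2, 7, 2, 7, 7, 6, 3, 6, 3, 4, 2, 6, 3, 0, 2, 6, 3, 3, 1, 6, 0, 2, 2, 7, 3, 1, 2]
def rw5799 : List ℕ := [0, 5, 0, 5, 2, 7, 3, 1, 6, 1, 7, 0, 2, 6, 3, 4, 1, 4, 1, 3, 5, 0, 3, 1, 0, 0, 2, 1, 4, 2]
def rw5800 : List ℕ := [6, 5, 3, 4, 7, 2, 7, 3, 4, 3, 4, 7, 2, 7, 3, 4, 3, 2, 2, 5, 2, 6, 3, 6, 5, 2, 5, 2, 6, 3]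
def rw5801 : List ℕ := [6, 5, 2, 5, 2, 6, 3, 6, 5, 7, 4, 7, 2, 7, 3, 4, 3, 4, 7, 2, 7, 3, 4, 3, 6, 2, 5, 2, 6, 3]
def rw5802 : List ℕ := [1, 2, 2, 2, 5, 7, 3, 1, 0, 0, 2, 6, 4, 3, 3, 3, 0, 3, 4, 0, 3, 4, 7, 1, 6, 5, 2, 1, 5, 2]
def rw5803 : List ℕ := [2, 1, 2, 2, 2, 5, 7, 3, 1, 4, 0, 2, 6, 4, 3, 3, 3, 0, 3, 4, 0, 3, 4, 7, 5, 6, 5, 2, 1, 5]
def rw5804 : List ℕ := [4, 7, 7, 5, 2, 7, 4, 1, 5, 6, 3, 4, 6, 6, 5, 1, 2, 2, 4, 4, 2, 1, 0, 0, 3, 5, 5, 3, 3, 0]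
def rw5805 : List ℕ := [6, 6, 5, 1, 2, 2, 4, 4, 2, 1, 2, 0, 3, 5, 5, 3, 3, 0, 4, 7, 7, 5, 2, 7, 4, 3, 5, 6, 3, 4]
def rw5806 : List ℕ := [7, 1, 2, 1, 0, 0, 3, 0, 6, 3, 6, 2, 2, 5, 6, 3, 6, 3, 4, 1, 5, 2, 7, 2, 7, 4, 3, 3, 7, 2]
def rw5807 : List ℕ := [2, 7, 2, 7, 4, 3, 3, 7, 2, 7, 1, 2, 1, 2, 0, 3, 0, 6, 3, 6, 2, 2, 5, 6, 3, 6, 3, 4, 3, 5]
def rw5808 : List ℕ := [0, 0, 2, 0, 3, 0, 6, 0, 6, 3, 6, 0, 6, 7, 7, 1, 7, 2, 7, 1, 7, 1, 2, 1, 3, 1, 1, 1, 6, 0]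
def rw5809 : List ℕ := [6, 3, 6, 0, 6, 7, 7, 1, 7, 2, 7, 1, 7, 1, 2, 1, 3, 1, 1, 1, 6, 0, 0, 0, 2, 0, 3, 0, 6, 0]
def rw5810 : List ℕ := [1, 4, 0, 2, 5, 3, 1, 0, 0, 2, 4, 3, 1, 5, 0, 4, 7, 7, 1, 7, 1, 6, 1, 7, 0, 6, 0, 6, 6, 5]
def rw5811 : List ℕ := [3, 0, 5, 5, 3, 5, 7, 3, 1, 0, 0, 2, 6, 4, 2, 4, 4, 1, 2, 7, 7, 1, 4, 6, 1, 7, 5, 0, 6, 6]
def rw5812 : List ℕ := [0, 5, 5, 3, 5, 7, 3, 1, 6, 0, 2, 6, 4, 2, 4, 4, 1, 2, 7, 7, 1, 4, 6, 7, 7, 5, 0, 6, 6, 3]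
def rw5813 : List ℕ := [3, 0, 5, 6, 3, 0, 3, 1, 0, 0, 2, 1, 2, 7, 4, 1, 2, 0, 2, 5, 3, 1, 6, 1, 7, 0, 2, 4, 3, 1]
def rw5814 : List ℕ := [7, 0, 2, 6, 2, 0, 7, 2, 1, 3, 6, 1, 3, 7, 3, 1, 6, 2, 0, 7, 3, 3, 1, 0, 0, 2, 2, 6, 1, 3]
def rw5815 : List ℕ := [6, 1, 3, 7, 3, 1, 6, 2, 0, 7, 3, 3, 1, 0, 0, 2, 2, 6, 1, 3, 7, 0, 2, 6, 2, 0, 7, 2, 1, 3]
def rw5816 : List ℕ := [6, 3, 4, 1, 4, 0, 5, 2, 7, 7, 2, 5, 2, 5, 5, 3, 5, 7, 5, 5, 4, 6, 4, 2, 4, 4, 3, 4, 3, 6]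
def rw5817 : List ℕ := [6, 3, 4, 1, 6, 0, 5, 2, 7, 7, 2, 5, 2, 5, 5, 3, 5, 7, 5, 7, 4, 6, 4, 2, 4, 4, 3, 4, 3, 6]
def rw5818 : List ℕ := [6, 2, 7, 1, 4, 0, 5, 1, 4, 3, 1, 4, 0, 2, 5, 0, 4, 1, 5, 0, 6, 3, 7, 5, 6, 3, 5, 2, 7, 4]
def rw5819 : List ℕ := [6, 3, 0, 5, 0, 2, 4, 7, 5, 3, 1, 4, 1, 2, 7, 3, 1, 6, 3, 1, 3, 1, 6, 0, 2, 0, 2, 7, 0, 2]
def rw5820 : List ℕ := [6, 3, 1, 6, 2, 1, 3, 5, 2, 0, 3, 7, 0, 2, 7, 5, 7, 2, 6, 5, 1, 1, 4, 0, 0, 4, 7, 3, 6, 4]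
def rw5821 : List ℕ := [3, 4, 3, 0, 6, 0, 2, 6, 6, 7, 7, 7, 3, 1, 7, 1, 2, 5, 2, 5, 1, 4, 3, 1, 6, 0, 2, 5, 0, 4]
def rw5822 : List ℕ := [7, 1, 7, 4, 7, 4, 0, 6, 5, 3, 4, 7, 1, 5, 6, 5, 6, 0, 6, 5, 7, 2, 7, 1, 2, 0, 6, 3, 6, 4]
def rw5823 : List ℕ := [6, 5, 6, 0, 6, 5, 7, 2, 7, 1, 4, 0, 6, 3, 6, 4, 7, 1, 7, 4, 7, 4, 0, 6, 5, 5, 4, 7, 1, 5]
def rw5824 : List ℕ := [1, 7, 1, 3, 1, 1, 6, 0, 0, 2, 0, 6, 0, 2, 1, 2, 7, 4, 2, 0, 5, 7, 4, 1, 3, 5, 6, 3, 0, 3]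
def rw5825 : List ℕ := [2, 7, 5, 5, 0, 7, 0, 3, 1, 7, 5, 6, 0, 2, 1, 6, 1, 4, 4, 6, 3, 6, 2, 1, 1, 4, 0, 0, 3, 7]
def rw5826 : List ℕ := [7, 5, 5, 0, 7, 0, 3, 1, 7, 7, 6, 0, 2, 1, 6, 1, 4, 4, 6, 3, 6, 2, 1, 1, 6, 0, 0, 3, 7, 2]
def rw5827 : List ℕ := [6, 1, 4, 4, 6, 3, 6, 2, 1, 1, 6, 0, 0, 3, 7, 2, 7, 5, 5, 0, 7, 0, 3, 1, 7, 7, 6, 0, 2, 1]
def rw5828 : List ℕ := [6, 3, 6, 1, 2, 5, 6, 3, 6, 3, 4, 7, 5, 2, 7, 2, 7, 4, 3, 0, 7, 2, 7, 1, 1, 1, 6, 0, 0, 0]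
def rw5829 : List ℕ := [6, 0, 2, 6, 1, 7, 3, 1, 7, 3, 1, 7, 3, 4, 3, 4, 3, 3, 1, 0, 0, 2, 2, 5, 2, 5, 2, 6, 0, 2]
def rw5830 : List ℕ := [6, 0, 2, 6, 0, 2, 6, 3, 7, 3, 1, 7, 3, 1, 7, 3, 4, 3, 4, 3, 3, 1, 2, 0, 2, 2, 5, 2, 5, 2]
def rw5831 : List ℕ := [7, 2, 7, 2, 1, 3, 6, 3, 6, 3, 1, 3, 0, 7, 2, 7, 1, 1, 1, 0, 0, 0, 0, 6, 3, 6, 1, 2, 0, 2]
def rw5832 : List ℕ := [3, 0, 7, 2, 7, 1, 1, 1, 0, 0, 0, 0, 6, 3, 6, 1, 2, 0, 2, 7, 2, 7, 2, 1, 3, 6, 3, 6, 3, 1]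
def rw5833 : List ℕ := [7, 2, 7, 1, 1, 1, 2, 0, 0, 0, 6, 3, 6, 1, 2, 0, 2, 7, 2, 7, 2, 3, 3, 6, 3, 6, 3, 1, 3, 0]
def rw5834 : List ℕ := [2, 0, 6, 3, 6, 5, 6, 3, 1, 2, 7, 4, 7, 2, 7, 1, 3, 1, 7, 4, 1, 3, 1, 0, 0, 2, 0, 5, 6, 0]
def rw5835 : List ℕ := [2, 7, 0, 2, 4, 0, 2, 1, 3, 1, 5, 3, 1, 6, 3, 0, 2, 2, 7, 4, 1, 1, 0, 0, 0, 5, 6, 3, 3, 1]
def rw5836 : List ℕ := [3, 1, 2, 7, 0, 2, 4, 0, 2, 7, 3, 1, 5, 3, 1, 6, 3, 0, 2, 2, 7, 4, 1, 1, 6, 0, 0, 5, 6, 3]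
def rw5837 : List ℕ := [2, 7, 2, 7, 1, 5, 6, 3, 1, 3, 1, 2, 0, 2, 0, 2, 7, 4, 0, 6, 3, 6, 3, 1, 7, 4, 3, 5, 6, 0]
def rw5838 : List ℕ := [4, 0, 6, 3, 6, 3, 1, 7, 4, 5, 5, 6, 0, 2, 7, 2, 7, 1, 5, 6, 3, 1, 3, 1, 4, 0, 2, 0, 2, 7]
def rw5839 : List ℕ := [5, 6, 3, 1, 3, 1, 4, 0, 2, 0, 2, 7, 4, 0, 6, 3, 6, 3, 1, 7, 4, 5, 5, 6, 0, 2, 7, 2, 7, 1]
def rw5840 : List ℕ := [3, 5, 5, 0, 5, 2, 7, 1, 6, 3, 4, 1, 4, 4, 2, 4, 2, 4, 2, 7, 3, 1, 0, 0, 2, 6, 3, 5, 3, 5]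
def rw5841 : List ℕ := [3, 5, 3, 5, 5, 0, 5, 2, 7, 5, 6, 3, 4, 1, 4, 4, 2, 4, 2, 4, 2, 7, 3, 1, 4, 0, 2, 6, 3, 5]
def rw5842 : List ℕ := [6, 0, 4, 4, 3, 1, 1, 0, 0, 0, 2, 5, 5, 1, 7, 7, 5, 6, 2, 7, 2, 7, 1, 6, 3, 6, 3, 7, 4, 6]
def rw5843 : List ℕ := [7, 7, 5, 6, 2, 7, 2, 7, 7, 6, 3, 6, 3, 7, 4, 6, 6, 0, 4, 4, 3, 1, 1, 6, 0, 0, 2, 5, 5, 1]
def rw5844 : List ℕ := [5, 5, 1, 4, 4, 1, 3, 5, 7, 4, 2, 0, 5, 6, 4, 3, 1, 0, 0, 2, 5, 7, 4, 1, 3, 5, 6, 4, 2, 0]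
def rw5845 : List ℕ := [7, 2, 7, 2, 5, 6, 3, 6, 5, 1, 4, 0, 4, 7, 2, 7, 4, 3, 6, 3, 6, 3, 4, 3, 4, 5, 5, 2, 5, 2]
def rw5846 : List ℕ := [2, 5, 7, 0, 5, 6, 3, 5, 7, 4, 2, 7, 4, 1, 6, 4, 3, 4, 2, 2, 1, 2, 1, 6, 0, 3, 0, 3, 3, 5]
def rw5847 : List ℕ := [4, 1, 6, 4, 3, 4, 2, 2, 1, 2, 1, 6, 0, 3, 0, 3, 3, 5, 2, 5, 7, 0, 5, 6, 3, 5, 7, 4, 2, 7]
def rw5848 : List ℕ := [6, 1, 3, 7, 3, 1, 6, 2, 0, 7, 3, 5, 2, 6, 1, 3, 7, 0, 2, 6, 2, 0, 7, 1, 3, 1, 4, 0, 2, 0]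
def rw5849 : List ℕ := [6, 3, 3, 1, 3, 5, 6, 1, 7, 4, 2, 0, 2, 2, 7, 4, 7, 2, 7, 1, 3, 1, 0, 0, 2, 0, 6, 3, 6, 5]
def rw5850 : List ℕ := [3, 1, 3, 5, 6, 7, 7, 4, 2, 0, 2, 2, 7, 4, 7, 2, 7, 1, 3, 1, 6, 0, 2, 0, 6, 3, 6, 5, 6, 3]
def rw5851 : List ℕ := [2, 7, 4, 3, 3, 1, 6, 0, 2, 2, 5, 6, 3, 6, 3, 4, 3, 6, 3, 6, 2, 7, 3, 7, 2, 7, 2, 5, 2, 7]
def rw5852 : List ℕ := [2, 1, 4, 1, 6, 1, 7, 0, 5, 0, 3, 5, 3, 5, 3, 6, 3, 0, 3, 1, 0, 0, 2, 1, 2, 7, 2, 4, 2, 4]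
def rw5853 : List ℕ := [4, 2, 4, 2, 1, 4, 1, 6, 3, 1, 2, 7, 0, 5, 0, 3, 5, 3, 5, 3, 6, 3, 3, 1, 0, 0, 2, 2, 7, 2]
def rw5854 : List ℕ := [0, 6, 0, 3, 3, 1, 3, 3, 2, 0, 2, 2, 1, 7, 1, 7, 2, 7, 1, 7, 1, 1, 2, 0, 0, 6, 0, 6, 3, 6]
def rw5855 : List ℕ := [3, 1, 1, 0, 0, 0, 2, 0, 3, 3, 6, 3, 6, 0, 6, 3, 6, 3, 1, 2, 7, 2, 7, 1, 7, 2, 7, 2, 2, 1]
def rw5856 : List ℕ := [1, 6, 1, 3, 7, 0, 2, 6, 1, 3, 1, 4, 0, 2, 0, 7, 3, 1, 6, 2, 0, 7, 0, 2, 6, 2, 5, 3, 7, 3]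
def rw5857 : List ℕ := [3, 6, 3, 4, 2, 6, 7, 7, 3, 5, 2, 7, 2, 7, 3, 3, 1, 7, 0, 3, 1, 6, 0, 2, 1, 6, 0, 2, 2, 6]
def rw5858 : List ℕ := [5, 6, 3, 7, 4, 1, 2, 0, 2, 5, 3, 1, 6, 3, 3, 3, 1, 2, 0, 2, 2, 2, 7, 0, 2, 4, 3, 1, 3, 0]
def rw5859 : List ℕ := [1, 2, 0, 2, 5, 3, 1, 6, 3, 3, 3, 1, 4, 0, 2, 2, 2, 7, 0, 2, 4, 3, 1, 3, 0, 5, 6, 5, 7, 4]
def rw5860 : List ℕ := [2, 1, 2, 0, 2, 2, 1, 2, 7, 3, 0, 3, 3, 1, 3, 0, 3, 3, 1, 6, 0, 2]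
def rw5861 : List ℕ := [3, 0, 3, 0, 3, 1, 6, 0, 2, 1, 2, 1, 2, 0, 2, 2, 1, 2, 2, 7, 3, 3, 0, 3, 3, 1]
def rw5862 : List ℕ := [2, 4, 2, 4, 7, 5, 3, 5, 3, 3, 5, 3, 5, 3, 3, 6, 2, 2, 4, 2, 4, 2]
def rw5863 : List ℕ := [4, 4, 2, 4, 2, 4, 4, 7, 5, 5, 3, 5, 3, 5, 5, 3, 5, 3, 6, 2, 4, 2]
def rw5864 : List ℕ := [2, 4, 2, 5, 5, 1, 1, 6, 0, 0, 4, 4, 3, 5, 3, 3, 5, 0, 4, 7, 5, 1, 4, 2]
def rw5865 : List ℕ := [2, 4, 2, 0, 4, 7, 5, 1, 3, 5, 3, 3, 5, 5, 5, 1, 1, 6, 0, 0, 4, 4, 4, 2]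
def rw5866 : List ℕ := [1, 1, 1, 3, 4, 1, 2, 1, 1, 1, 6, 0, 0, 0, 3, 0, 5, 2, 0, 0, 0, 4, 2, 7, 3, 5]
def rw5867 : List ℕ := [0, 0, 5, 1, 1, 6, 0, 0, 4, 1, 1, 3, 3, 3, 0, 5, 1, 2, 7, 3, 0, 4, 1, 2, 2, 2]
def rw5868 : List ℕ := [0, 3, 0, 5, 1, 2, 7, 3, 0, 4, 1, 2, 1, 3, 3, 0, 5, 1, 1, 6, 0, 0, 4, 1, 2, 2]
def rw5869 : List ℕ := [1, 2, 1, 3, 4, 1, 1, 6, 0, 0, 5, 2, 0, 3, 0, 4, 1, 2, 1, 2, 7, 3, 0, 3, 0, 5]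
def rw5870 : List ℕ := [1, 4, 1, 3, 1, 3, 1, 6, 0, 2, 0, 2, 0, 5, 0, 5, 3, 5, 0, 5, 7, 4, 1, 4, 2, 4]
def rw5871 : List ℕ := [5, 2, 0, 2, 5, 7, 4, 3, 1, 3, 4, 1, 3, 1, 4, 1, 3, 1, 6, 0, 2, 0, 5, 0, 2, 0]
def rw5872 : List ℕ := [4, 2, 4, 1, 4, 2, 4, 2, 2, 7, 3, 3, 5, 3, 5, 0, 5, 3, 5, 3, 3, 1, 6, 0, 2, 2]
def rw5873 : List ℕ := [1, 4, 2, 4, 3, 1, 3, 7, 2, 0, 2, 5, 3, 5, 0, 5, 3, 5, 3, 1, 6, 0, 2, 4, 2, 4]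
def rw5874 : List ℕ := [1, 3, 4, 3, 7, 2, 5, 2, 0, 5, 5, 2, 2, 2, 1, 2, 1, 6, 0, 3, 0, 3, 3, 3, 4, 4]
def rw5875 : List ℕ := [3, 5, 3, 3, 3, 6, 2, 2, 2, 4, 2, 4, 2, 5, 2, 4, 2, 4, 7, 5, 3, 5, 3, 4, 3, 5]
def rw5876 : List ℕ := [6, 5, 6, 5, 0, 4, 7, 4, 7, 4, 7, 4, 7, 1, 6, 5, 6, 5]
def rw5877 : List ℕ := [6, 5, 2, 4, 7, 4, 7, 4, 7, 4, 7, 3, 6, 5, 6, 5, 6, 5]
def rw5878 : List ℕ := [5, 6, 5, 6, 5, 4, 4, 7, 4, 7, 4, 7, 4, 7, 5, 6, 5, 6]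
def rw5879 : List ℕ := [6, 3, 6, 0, 6, 7, 7, 1, 7, 2, 7, 1, 7, 1, 1, 3, 1, 1, 6, 0, 0, 2, 0, 0, 6, 0]
def rw5880 : List ℕ := [6, 1, 3, 1, 1, 6, 0, 0, 2, 0, 7, 2, 7, 1, 7, 2, 7, 2, 7, 3, 6, 3, 6, 0, 6, 3]
def rw5881 : List ℕ := [2, 0, 7, 2, 7, 1, 1, 0, 0, 0, 6, 3, 6, 1, 3, 7, 2, 7, 1, 2, 1, 3, 0, 6, 3, 6]
def rw5882 : List ℕ := [6, 3, 6, 5, 1, 4, 7, 2, 7, 1, 5, 0, 7, 2, 7, 1, 1, 0, 0, 0, 6, 3, 6, 1, 4, 0]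
def rw5883 : List ℕ := [2, 7, 1, 5, 1, 4, 0, 6, 3, 6, 5, 0, 7, 2, 7, 1, 1, 0, 0, 0, 6, 3, 6, 1, 4, 7]
def rw5884 : List ℕ := [7, 2, 7, 1, 5, 1, 4, 0, 6, 3, 6, 5, 0, 7, 2, 7, 1, 1, 0, 0, 0, 6, 3, 6, 1, 4]
def rw5885 : List ℕ := [4, 7, 2, 7, 1, 5, 5, 4, 0, 6, 3, 6, 5, 0, 7, 2, 7, 1, 1, 4, 0, 0, 6, 3, 6, 1]
def rw5886 : List ℕ := [3, 6, 1, 3, 0, 6, 3, 6, 1, 1, 2, 0, 0, 7, 2, 7, 1, 2, 0, 7, 2, 7, 2, 3, 3, 6]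
def rw5887 : List ℕ := [1, 3, 0, 6, 3, 6, 1, 1, 2, 0, 0, 7, 2, 7, 1, 2, 0, 7, 2, 7, 2, 3, 3, 6, 3, 6]
def rw5888 : List ℕ := [1, 3, 1, 6, 0, 2, 0, 2, 7, 2, 7, 1, 7, 2, 7, 2, 7, 3, 6, 3, 6, 0, 6, 3, 6, 3]
def rw5889 : List ℕ := [1, 3, 1, 2, 0, 2, 0, 3, 1, 7, 1, 7, 2, 7, 1, 7, 3, 6, 0, 6, 3, 6, 0, 6, 0, 2]
def rw5890 : List ℕ := [3, 6, 0, 6, 0, 2, 1, 3, 1, 4, 0, 2, 0, 3, 1, 7, 1, 7, 2, 7, 1, 7, 5, 6, 0, 6]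
def rw5891 : List ℕ := [3, 6, 3, 5, 2, 7, 2, 7, 1, 7, 2, 7, 2, 1, 3, 1, 4, 0, 2, 0, 3, 6, 3, 6, 0, 6]
def rw5892 : List ℕ := [6, 5, 6, 0, 2, 5, 6, 1, 7, 4, 3, 1, 7, 4, 7, 2, 7, 1, 3, 1, 0, 0, 2, 0, 6, 3]
def rw5893 : List ℕ := [1, 7, 1, 3, 7, 2, 0, 6, 0, 6, 3, 6, 0, 6, 1, 3, 1, 6, 0, 2, 0, 7, 1, 7, 2, 7]
def rw5894 : List ℕ := [0, 6, 1, 3, 1, 6, 0, 2, 0, 7, 1, 7, 2, 7, 1, 7, 1, 3, 7, 2, 0, 6, 0, 6, 3, 6]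
def rw5895 : List ℕ := [5, 6, 0, 2, 5, 6, 1, 3, 1, 0, 0, 2, 0, 7, 4, 3, 1, 7, 4, 7, 2, 7, 1, 6, 3, 6]
def rw5896 : List ℕ := [6, 0, 2, 5, 6, 1, 3, 1, 0, 0, 2, 0, 7, 4, 3, 1, 7, 4, 7, 2, 7, 1, 6, 3, 6, 5]
def rw5897 : List ℕ := [0, 2, 5, 6, 1, 3, 1, 4, 0, 2, 0, 7, 4, 3, 1, 7, 4, 7, 2, 7, 5, 6, 3, 6, 5, 6]
def rw5898 : List ℕ := [4, 7, 2, 7, 7, 6, 3, 6, 5, 6, 0, 2, 5, 6, 1, 3, 1, 6, 0, 2, 0, 7, 4, 3, 1, 7]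
def rw5899 : List ℕ := [7, 4, 2, 0, 5, 3, 1, 6, 3, 7, 0, 2, 4, 1, 3, 5, 6, 3, 0, 3, 1, 2, 0, 2, 1, 2]
def rw5900 : List ℕ := [3, 6, 0, 6, 3, 6, 2, 1, 3, 7, 2, 7, 1, 7, 2, 7, 2, 0, 3, 1, 0, 0, 2, 1, 3, 6]
def rw5901 : List ℕ := [6, 2, 5, 3, 7, 2, 7, 1, 7, 2, 7, 2, 0, 3, 1, 4, 0, 2, 1, 3, 6, 3, 6, 0, 6, 3]
def rw5902 : List ℕ := [0, 3, 1, 0, 0, 2, 1, 7, 1, 7, 2, 7, 1, 7, 1, 2, 1, 3, 0, 6, 0, 6, 3, 6, 0, 6]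
def rw5903 : List ℕ := [6, 3, 6, 0, 6, 0, 3, 1, 4, 0, 2, 1, 7, 1, 7, 2, 7, 1, 7, 1, 2, 5, 3, 0, 6, 0]
def rw5904 : List ℕ := [6, 3, 3, 1, 4, 0, 2, 2, 7, 2, 7, 1, 7, 2, 7, 2, 2, 5, 3, 3, 6, 3, 6, 0, 6, 3]
def rw5905 : List ℕ := [6, 3, 6, 0, 6, 3, 6, 3, 3, 1, 6, 0, 2, 2, 7, 2, 7, 1, 7, 2, 7, 2, 2, 7, 3, 3]
def rw5906 : List ℕ := [7, 3, 1, 6, 3, 3, 5, 3, 4, 2, 2, 7, 0, 2, 6, 3, 3, 5, 3, 1, 2, 0, 2, 4, 2, 2]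
def rw5907 : List ℕ := [1, 7, 0, 2, 6, 3, 0, 5, 7, 4, 1, 2, 7, 3, 1, 6, 0, 2, 5, 3, 1, 6, 0, 2, 4, 3]
def rw5908 : List ℕ := [7, 1, 5, 6, 1, 7, 4, 0, 6, 3, 6, 3, 1, 7, 4, 3, 1, 0, 0, 2, 5, 6, 0, 2, 7, 2]
def rw5909 : List ℕ := [5, 3, 6, 0, 2, 6, 4, 1, 7, 3, 1, 0, 0, 2, 6, 0, 5, 7, 3, 1, 7, 2, 4, 6, 1, 7]
def rw5910 : List ℕ := [6, 0, 2, 6, 4, 1, 7, 3, 1, 2, 0, 2, 6, 0, 5, 7, 3, 1, 7, 2, 4, 6, 3, 7, 5, 3]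
def rw5911 : List ℕ := [0, 2, 6, 4, 1, 7, 3, 1, 2, 0, 2, 6, 0, 5, 7, 3, 1, 7, 2, 4, 6, 3, 7, 5, 3, 6]
def rw5912 : List ℕ := [4, 1, 7, 3, 1, 4, 0, 2, 6, 0, 5, 7, 3, 1, 7, 2, 4, 6, 5, 7, 5, 3, 6, 0, 2, 6]
def rw5913 : List ℕ := [3, 6, 0, 6, 3, 6, 3, 1, 2, 5, 3, 0, 2, 7, 2, 7, 1, 7, 2, 7, 3, 1, 4, 0, 2, 6]
def rw5914 : List ℕ := [5, 0, 5, 2, 7, 1, 6, 3, 4, 1, 4, 3, 5, 3, 5, 7, 3, 1, 0, 0, 2, 6, 4, 2, 4, 2]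
def rw5915 : List ℕ := [3, 5, 7, 3, 1, 4, 0, 2, 6, 4, 2, 4, 2, 5, 0, 5, 2, 7, 5, 6, 3, 4, 1, 4, 3, 5]
def rw5916 : List ℕ := [6, 3, 6, 3, 4, 3, 6, 3, 6, 3, 1, 6, 0, 2, 7, 2, 7, 2, 5, 2, 7, 2, 7, 4, 7, 5]
def rw5917 : List ℕ := [3, 6, 1, 3, 7, 2, 7, 2, 7, 3, 6, 3, 6, 2, 0, 7, 2, 7, 1, 2, 1, 6, 0, 3, 0, 6]
def rw5918 : List ℕ := [1, 6, 2, 2, 7, 4, 1, 6, 0, 5, 6, 3, 3, 7, 0, 5, 6, 3, 3, 7, 7, 6, 2, 2, 7, 4]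
def rw5919 : List ℕ := [5, 6, 3, 6, 3, 3, 2, 7, 2, 7, 4, 1, 2, 7, 2, 7, 4, 1, 2, 0, 5, 6, 3, 6, 3, 0]
def rw5920 : List ℕ := [0, 6, 3, 7, 1, 7, 1, 7, 1, 7, 1, 7, 1, 7, 1, 2, 0, 6, 0, 6, 0, 6, 0, 6, 0, 6]
def rw5921 : List ℕ := [0, 6, 0, 6, 0, 6, 0, 6, 7, 7, 1, 7, 1, 7, 1, 7, 1, 7, 1, 7, 1, 6, 0, 6, 0, 6]
def rw5922 : List ℕ := [3, 7, 3, 7, 3, 7, 3, 7, 3, 7, 3, 0, 2, 6, 2, 6, 2, 6, 2, 6, 2, 6, 2, 6, 1, 7]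
def rw5923 : List ℕ := [6, 2, 6, 3, 7, 3, 7, 3, 7, 3, 7, 3, 7, 3, 7, 3, 2, 2, 6, 2, 6, 2, 6, 2, 6, 2]
def rw5924 : List ℕ := [2, 6, 3, 7, 3, 7, 3, 7, 3, 7, 3, 7, 3, 7, 3, 2, 2, 6, 2, 6, 2, 6, 2, 6, 2, 6]
def rw5925 : List ℕ := [2, 6, 2, 6, 2, 6, 7, 7, 3, 7, 3, 7, 3, 7, 3, 7, 3, 7, 3, 6, 2, 6, 2, 6, 2, 6]
def rw5926 : List ℕ := [2, 6, 2, 6, 2, 6, 2, 6, 2, 6, 2, 6, 7, 7, 3, 7, 3, 7, 3, 7, 3, 7, 3, 7, 3, 6]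
def rw5927 : List ℕ := [6, 2, 6, 2, 6, 2, 6, 7, 7, 3, 7, 3, 7, 3, 7, 3, 7, 3, 7, 3, 6, 2, 6, 2, 6, 2]
def rw5928 : List ℕ := [2, 7, 5, 2, 7, 7, 1, 6, 6, 3, 4, 6, 3, 6, 6, 3, 4, 6, 3, 0, 2, 7, 5, 2, 7, 7]
def rw5929 : List ℕ := [3, 6, 6, 3, 4, 6, 3, 0, 2, 7, 5, 2, 7, 7, 2, 7, 5, 2, 7, 7, 1, 6, 6, 3, 4, 6]
def rw5930 : List ℕ := [6, 3, 4, 6, 3, 6, 6, 3, 4, 6, 3, 4, 2, 7, 5, 2, 7, 7, 2, 7, 5, 2, 7, 7, 5, 6]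
def rw5931 : List ℕ := [5, 7, 3, 1, 6, 3, 3, 7, 2, 2, 7, 0, 2, 6, 4, 1, 1, 5, 5, 1, 1, 6, 0, 0, 4, 4, 0, 0]
def rw5932 : List ℕ := [5, 5, 1, 1, 4, 0, 0, 4, 4, 2, 2, 7, 0, 2, 6, 4, 4, 4, 5, 5, 5, 5, 7, 3, 1, 6, 3, 3]
def rw5933 : List ℕ := [7, 0, 2, 6, 4, 4, 4, 7, 5, 5, 5, 7, 3, 1, 6, 3, 3, 5, 5, 1, 1, 6, 0, 0, 4, 4, 2, 2]
def rw5934 : List ℕ := [3, 6, 6, 5, 5, 0, 5, 3, 4, 1, 4, 4, 7, 7, 2, 7, 1, 6, 5, 1, 1, 2, 0, 0, 4, 7, 0, 6]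
def rw5935 : List ℕ := [6, 3, 6, 6, 5, 5, 0, 5, 3, 4, 1, 4, 4, 7, 7, 2, 7, 1, 6, 5, 1, 1, 2, 0, 0, 4, 7, 0]
def rw5936 : List ℕ := [6, 6, 5, 1, 1, 2, 0, 0, 4, 7, 7, 2, 7, 1, 6, 5, 5, 0, 5, 3, 4, 1, 4, 4, 7, 0, 6, 3]
def rw5937 : List ℕ := [6, 3, 6, 6, 5, 1, 1, 4, 0, 0, 4, 7, 7, 2, 7, 1, 6, 5, 5, 0, 5, 5, 4, 1, 4, 4, 7, 0]
def rw5938 : List ℕ := [3, 5, 3, 4, 2, 7, 3, 6, 0, 6, 6, 3, 1, 4, 1, 1, 2, 0, 0, 5, 0, 2, 7, 7, 1, 7, 2, 6]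
def rw5939 : List ℕ := [3, 6, 0, 6, 6, 3, 1, 4, 1, 1, 6, 0, 0, 5, 0, 2, 7, 7, 1, 7, 2, 6, 3, 5, 7, 4, 2, 7]
def rw5940 : List ℕ := [0, 6, 6, 2, 0, 5, 1, 4, 1, 3, 7, 7, 1, 7, 2, 6, 2, 4, 1, 1, 0, 0, 0, 5, 3, 7, 3, 6]
def rw5941 : List ℕ := [2, 0, 5, 3, 4, 1, 3, 7, 7, 1, 7, 2, 6, 2, 4, 1, 1, 2, 0, 0, 5, 3, 7, 3, 6, 0, 6, 6]
def rw5942 : List ℕ := [1, 7, 2, 6, 2, 4, 1, 1, 2, 0, 0, 5, 3, 7, 3, 6, 0, 6, 6, 2, 0, 5, 3, 4, 1, 3, 7, 7]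
def rw5943 : List ℕ := [0, 6, 6, 2, 0, 5, 7, 4, 1, 3, 7, 7, 1, 7, 2, 6, 2, 4, 1, 1, 6, 0, 0, 5, 3, 7, 3, 6]
def rw5944 : List ℕ := [1, 7, 2, 6, 2, 0, 5, 1, 4, 1, 3, 7, 3, 6, 0, 6, 6, 2, 4, 1, 1, 0, 0, 0, 5, 3, 7, 7]
def rw5945 : List ℕ := [6, 2, 4, 1, 1, 0, 0, 0, 5, 3, 7, 7, 1, 7, 2, 6, 2, 0, 5, 1, 4, 1, 3, 7, 3, 6, 0, 6]
def rw5946 : List ℕ := [7, 1, 7, 2, 6, 2, 0, 5, 1, 4, 1, 3, 7, 3, 6, 0, 6, 6, 2, 4, 1, 1, 0, 0, 0, 5, 3, 7]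
def rw5947 : List ℕ := [7, 1, 7, 2, 6, 2, 0, 5, 3, 4, 1, 3, 7, 3, 6, 0, 6, 6, 2, 4, 1, 1, 2, 0, 0, 5, 3, 7]
def rw5948 : List ℕ := [0, 6, 6, 2, 4, 1, 1, 4, 0, 0, 5, 3, 7, 7, 1, 7, 2, 6, 2, 0, 5, 5, 4, 1, 3, 7, 3, 6]
def rw5949 : List ℕ := [6, 3, 7, 1, 3, 6, 3, 6, 6, 3, 7, 7, 2, 7, 2, 0, 6, 2, 7, 4, 1, 3, 1, 2, 0, 2, 0, 5]
def rw5950 : List ℕ := [3, 7, 1, 3, 6, 3, 6, 6, 3, 7, 7, 2, 7, 2, 0, 6, 2, 7, 4, 1, 3, 1, 2, 0, 2, 0, 5, 6]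
def rw5951 : List ℕ := [6, 2, 7, 4, 1, 3, 1, 6, 0, 2, 0, 5, 6, 3, 7, 1, 3, 6, 3, 6, 6, 7, 7, 7, 2, 7, 2, 0]
def rw5952 : List ℕ := [5, 1, 3, 0, 5, 0, 5, 7, 4, 1, 3, 1, 2, 0, 2, 0, 5, 6, 4, 1, 4, 1, 2, 0, 4, 7, 3, 6]
def rw5953 : List ℕ := [7, 7, 1, 6, 6, 3, 3, 6, 3, 6, 4, 2, 7, 1, 3, 1, 0, 0, 2, 0, 6, 3, 5, 7, 2, 7, 2, 2]
def rw5954 : List ℕ := [6, 4, 2, 7, 1, 3, 1, 0, 0, 2, 0, 6, 3, 5, 7, 2, 7, 2, 2, 7, 7, 1, 6, 6, 3, 3, 6, 3]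
def rw5955 : List ℕ := [6, 3, 6, 4, 2, 7, 1, 3, 1, 2, 0, 2, 0, 6, 3, 5, 7, 2, 7, 2, 2, 7, 7, 3, 6, 6, 3, 3]
def rw5956 : List ℕ := [7, 7, 5, 6, 6, 3, 3, 6, 3, 6, 4, 2, 7, 1, 3, 1, 4, 0, 2, 0, 6, 3, 5, 7, 2, 7, 2, 2]
def rw5957 : List ℕ := [6, 6, 3, 3, 6, 3, 6, 4, 2, 7, 1, 3, 1, 4, 0, 2, 0, 6, 3, 5, 7, 2, 7, 2, 2, 7, 7, 5]
def rw5958 : List ℕ := [7, 5, 6, 3, 5, 7, 2, 7, 2, 2, 7, 7, 1, 3, 1, 4, 0, 2, 0, 6, 6, 3, 3, 6, 3, 6, 4, 2]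
def rw5959 : List ℕ := [6, 3, 3, 6, 3, 6, 4, 2, 7, 5, 6, 3, 5, 7, 2, 7, 2, 2, 7, 7, 1, 3, 1, 4, 0, 2, 0, 6]
def rw5960 : List ℕ := [7, 1, 3, 1, 4, 0, 2, 0, 6, 6, 3, 3, 6, 3, 6, 4, 2, 7, 5, 6, 3, 5, 7, 2, 7, 2, 2, 7]
def rw5961 : List ℕ := [7, 2, 7, 2, 2, 7, 7, 1, 3, 1, 6, 0, 2, 0, 6, 6, 3, 3, 6, 3, 6, 4, 2, 7, 7, 6, 3, 5]
def rw5962 : List ℕ := [6, 3, 7, 1, 3, 6, 3, 6, 6, 1, 3, 1, 6, 0, 2, 0, 7, 7, 2, 7, 2, 0, 6, 2, 7, 4, 7, 5]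
def rw5963 : List ℕ := [6, 0, 3, 1, 0, 0, 2, 1, 7, 1, 6, 1, 5, 5, 1, 3, 4, 6, 1, 7, 5, 2, 0, 4, 4, 0, 7, 0]
def rw5964 : List ℕ := [6, 1, 5, 5, 1, 3, 4, 6, 3, 7, 5, 2, 0, 4, 4, 0, 7, 0, 6, 0, 3, 1, 2, 0, 2, 1, 7, 1]
def rw5965 : List ℕ := [3, 4, 3, 4, 7, 3, 5, 6, 3, 3, 1, 6, 0, 2, 2, 7, 4, 2, 6, 5, 2, 5, 2, 0, 5, 7, 4, 1]
def rw5966 : List ℕ := [7, 4, 1, 6, 1, 2, 2, 5, 3, 1, 6, 0, 2, 4, 3, 3, 0, 7, 0, 5, 6, 1, 2, 4, 7, 5, 3, 0]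
def rw5967 : List ℕ := [2, 5, 3, 1, 0, 0, 2, 4, 3, 4, 7, 7, 3, 1, 7, 4, 3, 4, 1, 5, 2, 5, 6, 0, 2, 6, 6, 5]
def rw5968 : List ℕ := [6, 5, 2, 5, 3, 1, 4, 0, 2, 4, 3, 4, 7, 7, 3, 1, 7, 4, 3, 4, 5, 5, 2, 5, 6, 0, 2, 6]
def rw5969 : List ℕ := [0, 6, 3, 5, 6, 0, 2, 5, 1, 6, 5, 7, 0, 4, 3, 1, 7, 4, 2, 7, 1, 4, 3, 1, 4, 0, 2, 5]
def rw5970 : List ℕ := [6, 5, 2, 0, 4, 3, 1, 6, 0, 2, 5, 1, 3, 4, 7, 4, 0, 5, 6, 3, 7, 7, 6, 2, 7, 4, 1, 5]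
def rw5971 : List ℕ := [1, 6, 4, 2, 2, 5, 5, 4, 3, 3, 5, 7, 0, 6, 2, 7, 3, 4, 3, 1, 4, 0, 2, 5, 2, 6, 3, 7]
def rw5972 : List ℕ := [0, 6, 2, 7, 3, 4, 3, 1, 4, 0, 2, 5, 2, 6, 3, 7, 1, 6, 4, 2, 2, 5, 5, 4, 3, 3, 5, 7]
def rw5973 : List ℕ := [5, 2, 6, 3, 7, 1, 6, 4, 2, 2, 5, 7, 4, 3, 3, 5, 7, 0, 6, 2, 7, 3, 4, 3, 1, 6, 0, 2]
def rw5974 : List ℕ := [6, 2, 7, 3, 4, 3, 1, 6, 0, 2, 5, 2, 6, 3, 7, 1, 6, 4, 2, 2, 5, 7, 4, 3, 3, 5, 7, 0]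
def rw5975 : List ℕ := [2, 7, 5, 0, 5, 0, 3, 4, 3, 6, 1, 7, 2, 5, 2, 1, 4, 1, 4, 6, 3, 4, 3, 1, 0, 0, 2, 5]
def rw5976 : List ℕ := [3, 4, 3, 6, 3, 7, 2, 5, 2, 1, 4, 1, 4, 6, 3, 4, 3, 1, 2, 0, 2, 5, 2, 7, 5, 0, 5, 0]
def rw5977 : List ℕ := [0, 3, 4, 3, 6, 7, 7, 2, 5, 2, 1, 4, 1, 4, 6, 3, 4, 3, 1, 6, 0, 2, 5, 2, 7, 5, 0, 5]
def rw5978 : List ℕ := [3, 4, 7, 2, 1, 3, 6, 5, 2, 1, 4, 1, 4, 2, 7, 4, 3, 1, 0, 0, 2, 5, 6, 3, 5, 0, 5, 0]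
def rw5979 : List ℕ := [2, 7, 2, 0, 6, 2, 7, 4, 3, 1, 0, 0, 2, 5, 6, 3, 7, 1, 3, 6, 3, 6, 6, 2, 1, 3, 7, 7]
def rw5980 : List ℕ := [2, 5, 6, 3, 7, 1, 3, 6, 3, 6, 6, 2, 3, 3, 7, 7, 2, 7, 2, 0, 6, 2, 7, 4, 3, 1, 2, 0]
def rw5981 : List ℕ := [7, 2, 1, 3, 6, 6, 3, 3, 6, 3, 6, 4, 2, 7, 3, 1, 0, 0, 2, 6, 3, 5, 7, 2, 7, 2, 2, 7]
def rw5982 : List ℕ := [6, 3, 3, 6, 3, 6, 4, 2, 7, 3, 1, 4, 0, 2, 6, 3, 5, 7, 2, 7, 2, 2, 7, 7, 2, 5, 3, 6]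
def rw5983 : List ℕ := [7, 2, 7, 2, 2, 7, 7, 2, 7, 3, 6, 6, 3, 3, 6, 3, 6, 4, 2, 7, 3, 1, 6, 0, 2, 6, 3, 5]
def rw5984 : List ℕ := [6, 3, 3, 6, 3, 6, 4, 2, 7, 2, 7, 3, 6, 3, 5, 7, 2, 7, 2, 2, 7, 7, 3, 1, 6, 0, 2, 6]
def rw5985 : List ℕ := [6, 3, 6, 3, 3, 5, 2, 7, 4, 6, 3, 7, 5, 6, 3, 4, 2, 2, 7, 2, 7, 7, 3, 1, 2, 0, 2, 6]
def rw5986 : List ℕ := [6, 3, 4, 2, 2, 7, 2, 7, 7, 3, 1, 2, 0, 2, 6, 6, 3, 6, 3, 3, 5, 2, 7, 4, 6, 3, 7, 5]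
def rw5987 : List ℕ := [0, 2, 7, 1, 6, 1, 5, 5, 1, 3, 4, 6, 3, 1, 2, 7, 5, 2, 0, 4, 4, 0, 7, 0, 6, 3, 1, 0]
def rw5988 : List ℕ := [7, 0, 6, 3, 1, 0, 0, 2, 7, 1, 6, 1, 5, 5, 1, 3, 4, 6, 3, 1, 2, 7, 5, 2, 0, 4, 4, 0]
def rw5989 : List ℕ := [6, 6, 3, 1, 0, 0, 2, 7, 7, 2, 7, 2, 0, 6, 2, 7, 4, 2, 1, 3, 5, 6, 3, 7, 1, 3, 6, 3]
def rw5990 : List ℕ := [6, 5, 2, 5, 2, 5, 1, 4, 0, 4, 3, 4, 3, 4, 7, 4, 6, 2, 7, 4, 4, 5, 5, 5, 6, 3, 7, 5]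
def rw5991 : List ℕ := [4, 6, 2, 7, 4, 4, 5, 5, 5, 6, 3, 7, 5, 6, 5, 2, 5, 2, 5, 1, 4, 0, 4, 3, 4, 3, 4, 7]
def rw5992 : List ℕ := [7, 2, 0, 4, 7, 1, 6, 5, 1, 3, 6, 3, 4, 6, 2, 5, 2, 5, 1, 0, 0, 4, 3, 4, 3, 7, 5, 2]
def rw5993 : List ℕ := [5, 2, 5, 1, 2, 0, 4, 3, 4, 3, 7, 5, 2, 7, 2, 0, 4, 7, 3, 6, 5, 1, 3, 6, 3, 4, 6, 2]
def rw5994 : List ℕ := [4, 7, 7, 6, 5, 1, 3, 6, 3, 4, 6, 2, 5, 2, 5, 1, 6, 0, 4, 3, 4, 3, 7, 5, 2, 7, 2, 0]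
def rw5995 : List ℕ := [5, 2, 5, 1, 2, 0, 4, 3, 4, 7, 0, 5, 6, 3, 0, 5, 3, 5, 3, 4, 2, 4, 1, 2, 7, 4, 1, 6]
def rw5996 : List ℕ := [3, 4, 7, 0, 5, 6, 3, 0, 5, 3, 5, 5, 4, 2, 4, 1, 2, 7, 4, 1, 6, 5, 2, 5, 1, 4, 0, 4]
def rw5997 : List ℕ := [3, 6, 6, 1, 7, 0, 5, 2, 7, 5, 1, 0, 0, 4, 6, 3, 4, 1, 6, 0, 7, 7, 2, 6, 3, 1, 2, 7]
def rw5998 : List ℕ := [1, 6, 0, 7, 7, 2, 6, 3, 3, 2, 7, 3, 6, 6, 1, 7, 0, 5, 2, 7, 5, 1, 2, 0, 4, 6, 3, 4]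
def rw5999 : List ℕ := [0, 5, 2, 7, 5, 1, 6, 0, 4, 6, 3, 4, 1, 6, 0, 7, 7, 2, 6, 3, 7, 2, 7, 3, 6, 6, 1, 7]
def rw6000 : List ℕ := [6, 6, 1, 4, 1, 4, 4, 3, 5, 5, 0, 5, 0, 7, 7, 2, 7, 1, 6, 5, 1, 2, 0, 4, 7, 0, 6, 3]
def rw6001 : List ℕ := [6, 1, 4, 1, 4, 4, 3, 5, 5, 0, 5, 0, 7, 7, 2, 7, 1, 6, 5, 1, 2, 0, 4, 7, 0, 6, 3, 6]
def rw6002 : List ℕ := [5, 5, 0, 5, 0, 7, 7, 2, 7, 1, 6, 5, 1, 6, 0, 4, 7, 0, 6, 3, 6, 6, 1, 4, 1, 4, 4, 7]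
def rw6003 : List ℕ := [6, 3, 6, 6, 5, 1, 6, 0, 4, 7, 7, 2, 7, 1, 6, 1, 4, 1, 4, 4, 7, 5, 5, 0, 5, 0, 7, 0]
def rw6004 : List ℕ := [1, 0, 0, 5, 2, 7, 7, 2, 7, 0, 5, 6, 3, 7, 5, 1, 4, 6, 2, 7, 4, 1, 6, 3, 6, 6, 3, 4]
def rw6005 : List ℕ := [3, 4, 1, 0, 0, 5, 2, 7, 7, 2, 7, 0, 5, 6, 3, 7, 5, 1, 4, 6, 2, 7, 4, 1, 6, 3, 6, 6]
def rw6006 : List ℕ := [3, 4, 1, 2, 0, 5, 2, 7, 7, 2, 7, 0, 5, 6, 3, 7, 5, 3, 4, 6, 2, 7, 4, 1, 6, 3, 6, 6]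
def rw6007 : List ℕ := [2, 7, 4, 1, 6, 3, 6, 6, 3, 4, 1, 2, 0, 5, 2, 7, 7, 2, 7, 0, 5, 6, 3, 7, 5, 3, 4, 6]
def rw6008 : List ℕ := [6, 3, 4, 1, 6, 0, 5, 2, 7, 7, 2, 7, 0, 5, 6, 3, 7, 5, 7, 4, 6, 2, 7, 4, 1, 6, 3, 6]
def rw6009 : List ℕ := [4, 2, 4, 4, 7, 7, 6, 5, 5, 3, 5, 3, 3, 4, 2, 2, 7, 4, 1, 6, 0, 5, 6, 3, 3, 5, 2, 2]
def rw6010 : List ℕ := [5, 6, 3, 3, 5, 2, 5, 5, 3, 5, 3, 7, 3, 6, 2, 4, 2, 4, 4, 3, 4, 2, 2, 7, 4, 1, 2, 0]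
def rw6011 : List ℕ := [4, 7, 3, 6, 5, 2, 2, 4, 2, 4, 4, 2, 2, 7, 4, 1, 2, 0, 5, 6, 3, 3, 5, 5, 3, 5, 3, 3]
def rw6012 : List ℕ := [3, 5, 3, 3, 4, 7, 7, 6, 5, 2, 2, 4, 2, 4, 4, 2, 2, 7, 4, 1, 6, 0, 5, 6, 3, 3, 5, 5]
def rw6013 : List ℕ := [4, 2, 2, 7, 4, 1, 6, 0, 5, 6, 3, 3, 5, 5, 3, 5, 3, 3, 4, 7, 7, 6, 5, 2, 2, 4, 2, 4]
def rw6014 : List ℕ := [5, 0, 6, 3, 6, 6, 3, 4, 1, 5, 2, 7, 7, 2, 7, 1, 4, 6, 2, 7, 4, 1, 0, 0, 5, 6, 3, 7]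
def rw6015 : List ℕ := [7, 2, 7, 1, 4, 6, 2, 7, 4, 1, 2, 0, 5, 6, 3, 7, 5, 0, 6, 3, 6, 6, 3, 4, 3, 5, 2, 7]
def rw6016 : List ℕ := [0, 6, 3, 6, 6, 3, 4, 7, 5, 2, 7, 7, 2, 7, 1, 4, 6, 2, 7, 4, 1, 6, 0, 5, 6, 3, 7, 5]
def rw6017 : List ℕ := [0, 6, 3, 6, 4, 6, 2, 7, 4, 1, 6, 0, 5, 6, 3, 7, 5, 7, 2, 7, 1, 6, 3, 4, 7, 5, 2, 7]
def rw6018 : List ℕ := [4, 3, 5, 3, 5, 7, 4, 1, 6, 0, 5, 6, 4, 2, 4, 2, 5, 3, 4, 3, 4, 7, 7, 6, 5, 2, 5, 2]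
def rw6019 : List ℕ := [6, 3, 3, 6, 6, 3, 3, 3, 2, 2, 2, 2, 7, 7, 2, 2, 7, 7, 4, 2, 6, 4, 3, 5, 7, 3, 5, 6]
def rw6020 : List ℕ := [6, 6, 3, 3, 3, 4, 2, 2, 2, 7, 7, 2, 2, 7, 7, 4, 2, 6, 4, 5, 5, 7, 3, 5, 6, 6, 3, 3]
def rw6021 : List ℕ := [7, 2, 2, 7, 7, 4, 2, 6, 4, 7, 5, 7, 3, 5, 6, 6, 3, 3, 6, 6, 3, 3, 3, 6, 2, 2, 2, 7]
def rw6022 : List ℕ := [6, 3, 6, 0, 6, 4, 1, 4, 2, 4, 1, 2, 0, 5, 3, 5, 0, 5, 7, 1, 7, 2, 7, 1, 7, 5, 3, 4, 6, 0]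
def rw6023 : List ℕ := [0, 6, 4, 1, 4, 2, 4, 1, 6, 0, 5, 3, 5, 0, 5, 7, 1, 7, 2, 7, 1, 7, 5, 7, 4, 6, 0, 6, 3, 6]
def rw6024 : List ℕ := [2, 7, 2, 5, 0, 6, 3, 6, 2, 5, 2, 1, 3, 4, 3, 7, 2, 7, 1, 4, 3, 6, 3, 6, 5, 1, 0, 0, 4, 7]
def rw6025 : List ℕ := [7, 1, 4, 3, 6, 3, 6, 5, 1, 6, 0, 4, 7, 2, 7, 2, 5, 0, 6, 3, 6, 2, 5, 2, 7, 3, 4, 3, 7, 2]
def rw6026 : List ℕ := [2, 6, 4, 0, 5, 3, 5, 1, 0, 0, 4, 2, 4, 1, 5, 7, 3, 5, 6, 2, 2, 2, 4, 1, 5, 3, 3, 3, 7, 4]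
def rw6027 : List ℕ := [6, 2, 2, 2, 4, 5, 5, 3, 3, 3, 7, 4, 2, 6, 4, 0, 5, 3, 5, 1, 4, 0, 4, 2, 4, 1, 5, 7, 3, 5]
def rw6028 : List ℕ := [7, 4, 2, 6, 4, 0, 5, 3, 5, 1, 6, 0, 4, 2, 4, 1, 5, 7, 3, 5, 6, 2, 2, 2, 4, 7, 5, 3, 3, 3]
def rw6029 : List ℕ := [4, 3, 4, 4, 3, 5, 5, 2, 5, 7, 7, 1, 3, 6, 6, 3, 3, 1, 1, 2, 0, 0, 2, 2, 7, 7, 2, 0, 6, 6]
def rw6030 : List ℕ := [1, 3, 6, 6, 3, 3, 1, 1, 2, 0, 0, 2, 2, 7, 7, 2, 0, 6, 6, 4, 3, 4, 4, 3, 5, 5, 2, 5, 7, 7]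
def rw6031 : List ℕ := [6, 6, 4, 3, 4, 4, 5, 5, 5, 2, 5, 7, 7, 1, 3, 6, 6, 3, 3, 1, 1, 4, 0, 0, 2, 2, 7, 7, 2, 0]
def rw6032 : List ℕ := [7, 1, 3, 6, 6, 3, 3, 1, 1, 6, 0, 0, 2, 2, 7, 7, 2, 0, 6, 6, 4, 3, 4, 4, 7, 5, 5, 2, 5, 7]
def rw6033 : List ℕ := [6, 3, 6, 5, 6, 3, 3, 2, 7, 4, 7, 2, 7, 0, 2, 0, 7, 4, 1, 3, 1, 2, 0, 2, 0, 5, 6, 1, 3, 1]
def rw6034 : List ℕ := [4, 3, 5, 2, 5, 6, 3, 6, 3, 4, 0, 0, 7, 2, 7, 1, 1, 4, 0, 0, 6, 3, 6, 1, 1, 5, 2, 7, 2, 7]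
def rw6035 : List ℕ := [4, 0, 4, 1, 2, 7, 7, 3, 4, 3, 4, 2, 7, 4, 2, 5, 3, 5, 6, 3, 5, 2, 5, 2, 6, 6, 3, 0, 5, 1]
def rw6036 : List ℕ := [3, 3, 1, 6, 0, 2, 2, 5, 2, 5, 1, 7, 3, 4, 3, 4, 3, 6, 7, 7, 2, 5, 2, 5, 2, 6, 0, 4, 3, 4]
def rw6037 : List ℕ := [0, 2, 5, 6, 1, 2, 3, 3, 0, 7, 4, 3, 1, 7, 4, 7, 2, 7, 3, 3, 1, 2, 0, 2, 2, 6, 3, 6, 5, 6]
def rw6038 : List ℕ := [1, 2, 5, 3, 0, 7, 4, 3, 1, 7, 4, 7, 2, 7, 3, 3, 1, 4, 0, 2, 2, 6, 3, 6, 5, 6, 0, 2, 5, 6]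
def rw6039 : List ℕ := [6, 0, 2, 5, 6, 1, 2, 7, 3, 0, 7, 4, 3, 1, 7, 4, 7, 2, 7, 3, 3, 1, 6, 0, 2, 2, 6, 3, 6, 5]
def rw6040 : List ℕ := [6, 3, 6, 5, 6, 0, 2, 5, 6, 1, 2, 7, 3, 0, 7, 4, 3, 1, 7, 4, 7, 2, 7, 3, 3, 1, 6, 0, 2, 2]
def rw6041 : List ℕ := [3, 6, 1, 2, 2, 5, 3, 3, 0, 7, 2, 7, 2, 0, 3, 7, 2, 7, 3, 1, 4, 0, 2, 6, 3, 6, 2, 1, 3, 6]
def rw6042 : List ℕ := [3, 6, 1, 2, 2, 7, 3, 3, 0, 7, 2, 7, 2, 0, 3, 7, 2, 7, 3, 1, 6, 0, 2, 6, 3, 6, 2, 1, 3, 6]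
def rw6043 : List ℕ := [3, 6, 3, 1, 7, 4, 0, 3, 1, 0, 0, 2, 1, 5, 6, 0, 2, 7, 2, 7, 1, 5, 6, 2, 1, 3, 7, 4, 0, 6]
def rw6044 : List ℕ := [5, 6, 0, 2, 7, 2, 7, 1, 5, 6, 2, 1, 3, 7, 4, 0, 6, 3, 6, 3, 1, 7, 4, 0, 3, 1, 0, 0, 2, 1]
def rw6045 : List ℕ := [5, 6, 0, 4, 7, 5, 5, 4, 6, 5, 1, 7, 4, 6, 2, 4, 4, 1, 5, 5, 1, 4, 0, 4, 4, 0, 5, 5, 3, 7]
def rw6046 : List ℕ := [5, 0, 2, 4, 0, 3, 7, 0, 2, 6, 2, 2, 5, 3, 3, 7, 3, 1, 6, 2, 1, 5, 3, 1, 4, 1, 1, 4, 0, 0]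
def rw6047 : List ℕ := [0, 5, 0, 2, 4, 2, 6, 3, 1, 2, 7, 3, 5, 3, 1, 4, 1, 4, 2, 6, 3, 3, 1, 0, 0, 2, 2, 7, 3, 5]
def rw6048 : List ℕ := [3, 1, 6, 3, 3, 5, 1, 3, 1, 1, 0, 0, 0, 2, 0, 4, 2, 2, 7, 0, 2, 6, 3, 3, 5, 1, 4, 2, 2, 7]
def rw6049 : List ℕ := [5, 6, 3, 3, 5, 1, 2, 0, 4, 2, 2, 7, 4, 2, 2, 7, 3, 7, 2, 7, 2, 3, 3, 6, 3, 6, 2, 6, 3, 3]
def rw6050 : List ℕ := [3, 3, 5, 6, 3, 3, 5, 1, 4, 0, 4, 2, 2, 7, 4, 2, 2, 7, 3, 7, 2, 7, 2, 5, 3, 6, 3, 6, 2, 6]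
def rw6051 : List ℕ := [2, 5, 1, 0, 0, 4, 3, 4, 0, 4, 7, 2, 7, 2, 7, 2, 7, 4, 1, 5, 6, 3, 6, 3, 6, 3, 6, 5, 1, 5]
def rw6052 : List ℕ := [7, 4, 5, 5, 6, 3, 6, 3, 6, 3, 6, 5, 1, 5, 2, 5, 1, 4, 0, 4, 3, 4, 0, 4, 7, 2, 7, 2, 7, 2]
def rw6053 : List ℕ := [5, 1, 5, 2, 5, 1, 4, 0, 4, 3, 4, 0, 4, 7, 2, 7, 2, 7, 2, 7, 4, 5, 5, 6, 3, 6, 3, 6, 3, 6]
def rw6054 : List ℕ := [6, 1, 3, 1, 1, 1, 4, 0, 0, 0, 2, 0, 7, 0, 2, 4, 1, 3, 5, 6, 3, 5, 2, 7, 4, 2, 0, 5, 3, 1]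
def rw6055 : List ℕ := [6, 3, 1, 4, 0, 2, 7, 2, 7, 1, 4, 1, 3, 5, 7, 2, 7, 5, 5, 4, 6, 3, 6, 4, 2, 0, 5, 0, 6, 3]
def rw6056 : List ℕ := [6, 0, 2, 5, 2, 3, 3, 4, 3, 1, 7, 0, 2, 6, 3, 0, 5, 3, 3, 1, 2, 0, 2, 2, 4, 1, 2, 7, 3, 1]
def rw6057 : List ℕ := [3, 4, 3, 4, 2, 5, 1, 4, 3, 5, 2, 5, 2, 4, 7, 0, 5, 6, 1, 2, 1, 0, 0, 3, 0, 7, 4, 1, 6, 5]
def rw6058 : List ℕ := [6, 3, 7, 3, 4, 3, 5, 2, 6, 2, 7, 7, 7, 3, 5, 5, 6, 6, 3, 3, 2, 2, 2, 7, 7, 4, 4, 2, 6, 6]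
def rw6059 : List ℕ := [7, 4, 4, 2, 6, 6, 6, 3, 7, 3, 4, 5, 5, 2, 6, 2, 7, 7, 7, 3, 5, 5, 6, 6, 3, 3, 4, 2, 2, 7]
def rw6060 : List ℕ := [2, 0, 4, 2, 6, 3, 0, 2, 2, 7, 4, 1, 4, 5, 5, 0, 5, 6, 3, 3, 1, 2, 7, 3, 5, 1, 3, 1, 4, 0]
def rw6061 : List ℕ := [3, 6, 1, 2, 7, 4, 3, 1, 0, 0, 2, 5, 6, 3, 0, 7, 2, 7, 1, 2, 0, 5, 6, 1, 7, 4, 1, 3, 0, 6]
def rw6062 : List ℕ := [4, 3, 1, 0, 0, 2, 5, 6, 3, 0, 7, 2, 7, 1, 2, 0, 5, 6, 1, 7, 4, 1, 3, 0, 6, 3, 6, 1, 2, 7]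
def rw6063 : List ℕ := [2, 5, 6, 3, 0, 7, 2, 7, 1, 2, 0, 5, 6, 7, 7, 4, 1, 3, 0, 6, 3, 6, 1, 2, 7, 4, 3, 1, 6, 0]
def rw6064 : List ℕ := [1, 6, 3, 3, 3, 1, 7, 4, 1, 1, 2, 0, 0, 5, 6, 0, 2, 2, 2, 7, 0, 2, 4, 0, 2, 3, 3, 1, 5, 3]
def rw6065 : List ℕ := [6, 5, 6, 5, 2, 7, 1, 6, 3, 4, 7, 4, 7, 4, 0, 2, 5, 6, 1, 3, 1, 0, 0, 2, 0, 7, 4, 3, 1, 5]
def rw6066 : List ℕ := [4, 0, 2, 5, 6, 1, 3, 1, 2, 0, 2, 0, 7, 4, 3, 1, 5, 6, 5, 6, 5, 2, 7, 3, 6, 3, 4, 7, 4, 7]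
def rw6067 : List ℕ := [4, 7, 4, 0, 2, 5, 6, 1, 3, 1, 6, 0, 2, 0, 7, 4, 3, 1, 5, 6, 5, 6, 5, 2, 7, 7, 6, 3, 4, 7]
def rw6068 : List ℕ := [2, 0, 0, 2, 0, 4, 1, 2, 7, 3, 1, 6, 0, 2, 5, 3, 4, 3, 1, 7, 0, 2, 6, 3, 0, 5, 1, 3, 1, 1]
def rw6069 : List ℕ := [1, 2, 2, 2, 1, 3, 3, 3, 0, 6, 3, 6, 1, 3, 7, 2, 7, 3, 1, 0, 0, 2, 6, 3, 6, 2, 0, 7, 2, 7]
def rw6070 : List ℕ := [2, 2, 5, 3, 3, 3, 0, 6, 3, 6, 1, 3, 7, 2, 7, 3, 1, 4, 0, 2, 6, 3, 6, 2, 0, 7, 2, 7, 1, 2]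
def rw6071 : List ℕ := [7, 2, 1, 3, 6, 3, 6, 4, 1, 3, 5, 7, 2, 7, 5, 3, 1, 0, 0, 2, 4, 6, 3, 6, 4, 2, 0, 5, 7, 2]
def rw6072 : List ℕ := [7, 2, 5, 3, 6, 3, 6, 4, 1, 3, 5, 7, 2, 7, 5, 3, 1, 4, 0, 2, 4, 6, 3, 6, 4, 2, 0, 5, 7, 2]
def rw6073 : List ℕ := [1, 5, 5, 7, 0, 2, 6, 4, 1, 5, 7, 3, 1, 6, 4, 4, 0, 3, 4, 4, 1, 1, 1, 0, 0, 0, 0, 5, 5, 2]
def rw6074 : List ℕ := [4, 0, 3, 4, 4, 1, 1, 1, 6, 0, 0, 0, 5, 5, 2, 1, 5, 5, 7, 0, 2, 6, 4, 7, 5, 7, 3, 1, 6, 4]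
def rw6075 : List ℕ := [6, 2, 1, 3, 7, 4, 7, 2, 7, 3, 1, 3, 7, 4, 0, 3, 1, 0, 0, 2, 1, 5, 6, 2, 0, 2, 6, 3, 6, 5]
def rw6076 : List ℕ := [2, 0, 2, 6, 3, 6, 5, 6, 2, 3, 3, 7, 4, 7, 2, 7, 3, 1, 3, 7, 4, 0, 3, 1, 2, 0, 2, 1, 5, 6]
def rw6077 : List ℕ := [6, 1, 7, 1, 3, 4, 7, 1, 3, 6, 5, 2, 0, 6, 3, 1, 0, 0, 2, 7, 1, 3, 4, 7, 2, 0, 6, 5, 2, 0]
def rw6078 : List ℕ := [0, 6, 5, 2, 0, 6, 1, 7, 1, 3, 4, 7, 1, 3, 6, 5, 2, 0, 6, 3, 1, 0, 0, 2, 7, 1, 3, 4, 7, 2]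
def rw6079 : List ℕ := [5, 2, 0, 6, 3, 7, 1, 3, 4, 7, 1, 3, 6, 5, 2, 0, 6, 3, 1, 2, 0, 2, 7, 1, 3, 4, 7, 2, 0, 6]
def rw6080 : List ℕ := [3, 1, 2, 0, 2, 7, 1, 3, 4, 7, 2, 0, 6, 5, 2, 0, 6, 3, 7, 1, 3, 4, 7, 1, 3, 6, 5, 2, 0, 6]
def rw6081 : List ℕ := [3, 6, 5, 2, 0, 6, 3, 1, 4, 0, 2, 7, 1, 3, 4, 7, 2, 0, 6, 5, 2, 0, 6, 5, 7, 1, 3, 4, 7, 1]
def rw6082 : List ℕ := [1, 3, 4, 7, 1, 3, 6, 5, 2, 0, 6, 3, 1, 4, 0, 2, 7, 1, 3, 4, 7, 2, 0, 6, 5, 2, 0, 6, 5, 7]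
def rw6083 : List ℕ := [5, 2, 0, 6, 3, 1, 6, 0, 2, 7, 1, 3, 4, 7, 2, 0, 6, 5, 2, 0, 6, 7, 7, 1, 3, 4, 7, 1, 3, 6]
def rw6084 : List ℕ := [3, 6, 6, 5, 2, 0, 5, 2, 1, 0, 0, 3, 4, 1, 3, 4, 7, 7, 2, 2, 7, 5, 3, 5, 1, 4, 2, 4, 6, 3]
def rw6085 : List ℕ := [6, 5, 2, 0, 5, 2, 1, 2, 0, 3, 4, 1, 3, 4, 7, 7, 2, 2, 7, 5, 3, 5, 3, 4, 2, 4, 6, 3, 3, 6]
def rw6086 : List ℕ := [7, 2, 2, 7, 4, 1, 2, 4, 6, 6, 3, 1, 2, 7, 7, 5, 3, 0, 5, 6, 3, 3, 6, 4, 4, 1, 0, 0, 5, 5]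
def rw6087 : List ℕ := [2, 2, 7, 4, 1, 2, 4, 6, 6, 3, 3, 2, 7, 7, 5, 3, 0, 5, 6, 3, 3, 6, 4, 4, 1, 2, 0, 5, 5, 7]
def rw6088 : List ℕ := [3, 5, 2, 7, 7, 5, 3, 0, 5, 6, 3, 3, 6, 4, 4, 1, 4, 0, 5, 5, 7, 2, 2, 7, 4, 1, 2, 4, 6, 6]
def rw6089 : List ℕ := [2, 2, 6, 3, 0, 5, 6, 4, 6, 3, 6, 1, 7, 2, 7, 5, 7, 4, 1, 2, 7, 3, 3, 5, 3, 1, 0, 0, 2, 4]
def rw6090 : List ℕ := [6, 3, 0, 5, 6, 4, 6, 3, 6, 1, 7, 2, 7, 5, 7, 4, 1, 2, 7, 3, 3, 5, 3, 1, 0, 0, 2, 4, 2, 2]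
def rw6091 : List ℕ := [2, 7, 3, 3, 5, 3, 1, 2, 0, 2, 4, 2, 2, 6, 3, 0, 5, 6, 4, 6, 3, 6, 3, 7, 2, 7, 5, 7, 4, 1]
def rw6092 : List ℕ := [4, 6, 3, 6, 3, 7, 2, 7, 5, 7, 4, 1, 2, 7, 3, 3, 5, 3, 1, 2, 0, 2, 4, 2, 2, 6, 3, 0, 5, 6]
def rw6093 : List ℕ := [3, 0, 5, 6, 4, 6, 3, 6, 7, 7, 2, 7, 5, 7, 4, 1, 2, 7, 3, 3, 5, 3, 1, 6, 0, 2, 4, 2, 2, 6]
def rw6094 : List ℕ := [6, 0, 2, 1, 2, 7, 4, 2, 0, 5, 1, 3, 1, 0, 0, 2, 0, 4, 1, 3, 5, 6, 3, 0, 3, 1, 7, 3, 1, 2]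
def rw6095 : List ℕ := [3, 5, 3, 5, 7, 7, 6, 4, 2, 4, 2, 6, 4, 3, 4, 3, 4, 6, 3, 3, 6, 2, 2, 7, 5, 2, 5, 2, 5, 7]
def rw6096 : List ℕ := [3, 3, 3, 1, 0, 0, 2, 2, 2, 7, 3, 5, 3, 1, 3, 5, 0, 5, 6, 1, 7, 4, 1, 4, 2, 0, 2, 4, 2, 6]
def rw6097 : List ℕ := [3, 1, 3, 5, 0, 5, 6, 3, 7, 4, 1, 4, 2, 0, 2, 4, 2, 6, 3, 3, 3, 1, 2, 0, 2, 2, 2, 7, 3, 5]
def rw6098 : List ℕ := [3, 3, 3, 1, 2, 0, 2, 2, 2, 7, 3, 5, 3, 1, 3, 5, 0, 5, 6, 3, 7, 4, 1, 4, 2, 0, 2, 4, 2, 6]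
def rw6099 : List ℕ := [1, 2, 0, 6, 3, 6, 1, 6, 3, 3, 5, 6, 3, 3, 5, 3, 3, 2, 4, 2, 2, 7, 4, 2, 2, 7, 0, 7, 2, 7]
def rw6100 : List ℕ := [3, 3, 5, 3, 5, 2, 4, 2, 2, 7, 4, 2, 2, 7, 0, 7, 2, 7, 1, 4, 0, 6, 3, 6, 1, 6, 3, 3, 5, 6]
def rw6101 : List ℕ := [2, 6, 3, 6, 3, 7, 2, 7, 3, 3, 6, 3, 6, 0, 4, 1, 4, 3, 1, 2, 0, 2, 5, 0, 5, 1, 7, 2, 7, 2]
def rw6102 : List ℕ := [0, 5, 1, 7, 2, 7, 2, 2, 6, 3, 6, 7, 7, 2, 7, 3, 3, 6, 3, 6, 0, 4, 1, 4, 3, 1, 6, 0, 2, 5]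
def rw6103 : List ℕ := [1, 6, 0, 2, 5, 1, 3, 1, 6, 0, 2, 0, 4, 3, 1, 7, 0, 2, 6, 3, 0, 5, 3, 7, 2, 4, 1, 2, 7, 3]
def rw6104 : List ℕ := [7, 0, 3, 7, 7, 0, 3, 7, 7, 3, 1, 2, 0, 2, 6, 6, 2, 1, 6, 6, 2, 1, 6, 6, 1, 3, 3, 2, 0, 7]
def rw6105 : List ℕ := [6, 3, 3, 5, 0, 7, 2, 7, 2, 1, 3, 6, 3, 6, 1, 4, 2, 2, 7, 4, 2, 2, 7, 1, 0, 0, 6, 3, 3, 5]
def rw6106 : List ℕ := [3, 5, 6, 3, 3, 5, 0, 7, 2, 7, 2, 5, 3, 6, 3, 6, 1, 4, 2, 2, 7, 4, 2, 2, 7, 1, 4, 0, 6, 3]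
def rw6107 : List ℕ := [6, 3, 3, 5, 0, 7, 2, 7, 2, 7, 3, 6, 3, 6, 1, 4, 2, 2, 7, 4, 2, 2, 7, 1, 6, 0, 6, 3, 3, 5]
def rw6108 : List ℕ := [3, 6, 4, 2, 0, 5, 7, 2, 7, 1, 3, 1, 0, 0, 2, 0, 6, 3, 6, 4, 1, 3, 5, 7, 2, 7, 5, 1, 4, 6]
def rw6109 : List ℕ := [7, 2, 7, 1, 3, 1, 4, 0, 2, 0, 6, 3, 6, 4, 1, 3, 5, 7, 2, 7, 5, 5, 4, 6, 3, 6, 4, 2, 0, 5]
def rw6110 : List ℕ := [2, 7, 5, 7, 4, 6, 3, 6, 4, 2, 0, 5, 7, 2, 7, 1, 3, 1, 6, 0, 2, 0, 6, 3, 6, 4, 1, 3, 5, 7]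
def rw6111 : List ℕ := [5, 3, 5, 0, 6, 3, 3, 6, 6, 5, 2, 1, 3, 4, 7, 7, 2, 2, 7, 1, 4, 2, 4, 3, 4, 1, 0, 0, 5, 2]
def rw6112 : List ℕ := [6, 5, 2, 1, 3, 4, 7, 7, 2, 2, 7, 1, 4, 2, 4, 3, 4, 1, 0, 0, 5, 2, 5, 3, 5, 0, 6, 3, 3, 6]
def rw6113 : List ℕ := [6, 6, 5, 2, 5, 3, 4, 7, 7, 2, 2, 7, 1, 4, 2, 4, 3, 4, 1, 4, 0, 5, 2, 5, 3, 5, 0, 6, 3, 3]
def rw6114 : List ℕ := [4, 2, 5, 2, 7, 3, 1, 0, 0, 2, 6, 3, 4, 3, 5, 5, 0, 5, 3, 3, 5, 7, 1, 6, 4, 2, 2, 4, 1, 4]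
def rw6115 : List ℕ := [1, 7, 4, 1, 1, 4, 0, 0, 5, 6, 0, 2, 1, 6, 2, 6, 3, 0, 5, 6, 5, 7, 4, 1, 2, 7, 3, 7, 0, 3]
def rw6116 : List ℕ := [6, 1, 3, 1, 6, 3, 6, 5, 6, 3, 1, 3, 1, 6, 0, 2, 0, 2, 7, 4, 7, 2, 7, 0, 2, 0, 7, 4, 7, 5]
def rw6117 : List ℕ := [6, 1, 7, 1, 7, 5, 6, 1, 4, 1, 4, 4, 3, 7, 3, 1, 0, 0, 2, 6, 2, 5, 5, 0, 5, 0, 7, 4, 6, 0]
def rw6118 : List ℕ := [6, 0, 6, 5, 7, 1, 7, 5, 6, 1, 4, 1, 4, 4, 3, 7, 3, 1, 4, 0, 2, 6, 2, 5, 5, 0, 5, 0, 7, 4]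
def rw6119 : List ℕ := [0, 4, 1, 4, 3, 6, 3, 6, 7, 7, 2, 7, 2, 5, 0, 5, 1, 7, 2, 7, 2, 2, 1, 6, 0, 3, 3, 6, 3, 6]
def rw6120 : List ℕ := [3, 1, 7, 5, 3, 6, 3, 3, 2, 7, 2, 4, 6, 0, 2, 6, 0, 5, 7, 1, 3, 1, 2, 0, 2, 0, 6, 4, 1, 7]
def rw6121 : List ℕ := [4, 6, 0, 2, 6, 0, 5, 7, 1, 3, 1, 2, 0, 2, 0, 6, 4, 1, 7, 3, 1, 7, 5, 3, 6, 3, 3, 2, 7, 2]
def rw6122 : List ℕ := [6, 0, 2, 6, 0, 5, 7, 1, 3, 1, 4, 0, 2, 0, 6, 4, 1, 7, 3, 1, 7, 5, 3, 6, 3, 5, 2, 7, 2, 4]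
def rw6123 : List ℕ := [4, 3, 1, 7, 4, 3, 1, 7, 5, 6, 0, 2, 5, 6, 0, 2, 5, 0, 7, 2, 7, 1, 1, 4, 0, 0, 6, 3, 6, 1]
def rw6124 : List ℕ := [7, 1, 1, 4, 0, 0, 6, 3, 6, 1, 4, 3, 1, 7, 4, 3, 1, 7, 5, 6, 0, 2, 5, 6, 0, 2, 5, 0, 7, 2]
def rw6125 : List ℕ := [4, 0, 6, 3, 0, 4, 0, 4, 0, 6, 3, 7, 2, 7, 1, 5, 1, 5, 1, 2, 7, 1, 5, 1, 5, 1, 6, 0, 4, 0]
def rw6126 : List ℕ := [6, 1, 7, 4, 2, 0, 5, 6, 4, 4, 1, 4, 2, 2, 4, 1, 0, 0, 5, 3, 3, 5, 0, 5, 5, 7, 4, 1, 3, 5]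
def rw6127 : List ℕ := [4, 2, 0, 5, 6, 4, 4, 1, 4, 2, 2, 4, 1, 4, 0, 5, 3, 3, 5, 0, 5, 5, 7, 4, 1, 3, 5, 6, 5, 7]
def rw6128 : List ℕ := [0, 6, 3, 4, 0, 6, 3, 4, 5, 5, 2, 7, 1, 5, 2, 7, 1, 5, 6, 5, 6, 3, 1, 4, 0, 2, 7, 4, 7, 4]
def rw6129 : List ℕ := [5, 6, 3, 1, 4, 0, 2, 7, 4, 7, 4, 0, 6, 3, 4, 0, 6, 3, 4, 5, 5, 2, 7, 1, 5, 2, 7, 1, 5, 6]
def rw6130 : List ℕ := [7, 0, 2, 4, 2, 2, 0, 2, 5, 6, 3, 3, 1, 4, 0, 2, 2, 7, 4, 3, 1, 3, 3, 5, 3, 1, 6, 3, 5, 2]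
def rw6131 : List ℕ := [3, 3, 5, 3, 1, 6, 3, 7, 2, 7, 0, 2, 4, 2, 2, 0, 2, 5, 6, 3, 3, 1, 6, 0, 2, 2, 7, 4, 3, 1]
def rw6132 : List ℕ := [7, 2, 4, 6, 3, 3, 1, 4, 0, 2, 2, 7, 5, 3, 6, 0, 2, 6, 4, 1, 7, 2, 5, 3, 6, 0, 5, 7, 3, 1]
def rw6133 : List ℕ := [2, 7, 3, 6, 0, 5, 7, 3, 1, 7, 2, 4, 6, 3, 3, 1, 6, 0, 2, 2, 7, 5, 3, 6, 0, 2, 6, 4, 1, 7]
def rw6134 : List ℕ := [0, 4, 7, 2, 0, 4, 3, 6, 1, 3, 1, 6, 0, 2, 0, 7, 2, 5, 1, 3, 6, 5, 1, 7, 1, 5, 7, 4, 0, 6]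
def rw6135 : List ℕ := [7, 1, 3, 1, 0, 0, 2, 0, 6, 3, 6, 0, 2, 5, 2, 7, 2, 7, 4, 1, 5, 6, 3, 6, 3, 4, 3, 1, 7, 2]
def rw6136 : List ℕ := [1, 3, 1, 2, 0, 2, 0, 6, 3, 6, 0, 2, 5, 2, 7, 2, 7, 4, 3, 5, 6, 3, 6, 3, 4, 3, 1, 7, 2, 7]
def rw6137 : List ℕ := [7, 0, 2, 6, 4, 0, 4, 4, 3, 1, 2, 0, 2, 5, 5, 1, 5, 7, 3, 1, 6, 4, 0, 4, 4, 3, 5, 5, 1, 5]
def rw6138 : List ℕ := [6, 4, 0, 4, 4, 7, 5, 5, 1, 5, 7, 0, 2, 6, 4, 0, 4, 4, 3, 1, 6, 0, 2, 5, 5, 1, 5, 7, 3, 1]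
def rw6139 : List ℕ := [5, 0, 2, 4, 3, 1, 7, 2, 3, 3, 6, 0, 2, 5, 3, 1, 4, 1, 2, 7, 0, 3, 1, 2, 0, 2, 1, 6, 3, 0]
def rw6140 : List ℕ := [7, 0, 3, 1, 4, 0, 2, 1, 6, 3, 0, 5, 0, 2, 4, 3, 1, 7, 2, 5, 3, 6, 0, 2, 5, 3, 1, 4, 1, 2]
def rw6141 : List ℕ := [6, 5, 2, 7, 3, 1, 3, 7, 4, 3, 1, 2, 0, 2, 5, 6, 2, 0, 2, 6, 3, 4, 7, 4, 7, 4, 3, 5, 6, 5]
def rw6142 : List ℕ := [4, 3, 1, 7, 1, 3, 1, 1, 6, 0, 0, 2, 0, 6, 0, 2, 5, 3, 1, 4, 1, 2, 7, 7, 6, 3, 0, 5, 0, 2]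
def rw6143 : List ℕ := [0, 2, 5, 0, 5, 6, 3, 6, 3, 3, 1, 0, 0, 2, 2, 7, 2, 7, 4, 1, 4, 3, 1, 7, 2, 7, 1, 6, 3, 6]
def rw6144 : List ℕ := [1, 7, 2, 7, 7, 6, 3, 6, 0, 2, 5, 0, 5, 6, 3, 6, 3, 3, 1, 6, 0, 2, 2, 7, 2, 7, 4, 1, 4, 3]
def rw6145 : List ℕ := [3, 1, 7, 5, 3, 6, 2, 7, 3, 7, 2, 4, 6, 0, 2, 6, 0, 5, 7, 0, 3, 1, 6, 0, 2, 1, 6, 4, 1, 7]
def rw6146 : List ℕ := [7, 1, 3, 6, 6, 3, 7, 7, 2, 0, 6, 6, 4, 3, 4, 4, 0, 3, 3, 1, 2, 0, 2, 2, 1, 5, 5, 2, 5, 7]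
def rw6147 : List ℕ := [4, 4, 0, 3, 3, 1, 4, 0, 2, 2, 1, 5, 5, 2, 5, 7, 7, 1, 3, 6, 6, 5, 7, 7, 2, 0, 6, 6, 4, 3]
def rw6148 : List ℕ := [7, 2, 0, 6, 6, 4, 3, 4, 4, 0, 3, 3, 1, 4, 0, 2, 2, 1, 5, 5, 2, 5, 7, 7, 1, 3, 6, 6, 5, 7]
def rw6149 : List ℕ := [7, 1, 3, 6, 6, 7, 7, 7, 2, 0, 6, 6, 4, 3, 4, 4, 0, 3, 3, 1, 6, 0, 2, 2, 1, 5, 5, 2, 5, 7]
def rw6150 : List ℕ := [0, 5, 5, 7, 3, 1, 4, 0, 2, 6, 4, 4, 1, 3, 5, 3, 3, 5, 2, 2, 7, 5, 6, 3, 3, 4, 2, 2, 4, 2]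
def rw6151 : List ℕ := [2, 0, 2, 6, 3, 3, 3, 1, 7, 4, 2, 0, 5, 3, 4, 1, 3, 5, 6, 0, 2, 2, 2, 7, 3, 1, 3, 1, 2, 0]
def rw6152 : List ℕ := [1, 7, 4, 2, 0, 5, 5, 4, 1, 3, 5, 6, 0, 2, 2, 2, 7, 3, 1, 3, 1, 4, 0, 2, 0, 2, 6, 3, 3, 3]
def rw6153 : List ℕ := [6, 3, 6, 5, 3, 1, 4, 0, 2, 4, 7, 2, 7, 1, 5, 1, 3, 6, 3, 6, 2, 5, 3, 7, 2, 7, 2, 0, 4, 0]
def rw6154 : List ℕ := [7, 2, 7, 1, 5, 1, 3, 6, 3, 6, 2, 7, 3, 7, 2, 7, 2, 0, 4, 0, 6, 3, 6, 5, 3, 1, 6, 0, 2, 4]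
def rw6155 : List ℕ := [6, 3, 6, 3, 1, 0, 0, 2, 7, 2, 7, 2, 0, 4, 7, 2, 7, 1, 5, 2, 1, 3, 4, 0, 6, 3, 6, 5, 1, 3]
def rw6156 : List ℕ := [7, 2, 7, 2, 0, 4, 7, 2, 7, 1, 5, 2, 3, 3, 4, 0, 6, 3, 6, 5, 1, 3, 6, 3, 6, 3, 1, 2, 0, 2]
def rw6157 : List ℕ := [1, 2, 0, 4, 0, 3, 1, 0, 0, 2, 1, 5, 1, 3, 0, 4, 7, 7, 1, 3, 6, 6, 1, 7, 7, 2, 0, 6, 6, 5]
def rw6158 : List ℕ := [0, 4, 7, 7, 1, 3, 6, 6, 5, 7, 7, 2, 0, 6, 6, 5, 1, 2, 0, 4, 0, 3, 1, 4, 0, 2, 1, 5, 1, 3]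
def rw6159 : List ℕ := [6, 5, 1, 2, 0, 4, 7, 2, 7, 1, 5, 2, 5, 6, 3, 6, 3, 4, 3, 5, 2, 7, 2, 7, 4, 3, 4, 0, 6, 3]
def rw6160 : List ℕ := [4, 7, 2, 7, 1, 5, 2, 5, 6, 3, 6, 3, 4, 5, 5, 2, 7, 2, 7, 4, 3, 4, 0, 6, 3, 6, 5, 1, 4, 0]
def rw6161 : List ℕ := [3, 6, 3, 4, 5, 5, 2, 7, 2, 7, 4, 3, 4, 0, 6, 3, 6, 5, 1, 4, 0, 4, 7, 2, 7, 1, 5, 2, 5, 6]
def rw6162 : List ℕ := [5, 1, 4, 0, 4, 7, 2, 7, 1, 5, 2, 5, 6, 3, 6, 3, 4, 5, 5, 2, 7, 2, 7, 4, 3, 4, 0, 6, 3, 6]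
def rw6163 : List ℕ := [4, 3, 4, 0, 6, 3, 6, 5, 1, 6, 0, 4, 7, 2, 7, 1, 5, 2, 5, 6, 3, 6, 3, 4, 7, 5, 2, 7, 2, 7]
def rw6164 : List ℕ := [0, 5, 2, 4, 2, 2, 2, 7, 3, 6, 3, 3, 3, 5, 3, 4, 1, 4, 2, 5, 7, 3, 1, 2, 0, 2, 6, 4, 3, 5]
def rw6165 : List ℕ := [6, 3, 3, 1, 2, 0, 2, 2, 7, 7, 1, 4, 2, 7, 5, 6, 5, 1, 5, 3, 4, 0, 4, 7, 4, 6, 3, 5, 0, 6]
def rw6166 : List ℕ := [7, 1, 4, 2, 7, 5, 6, 5, 1, 5, 5, 4, 0, 4, 7, 4, 6, 3, 5, 0, 6, 6, 3, 3, 1, 4, 0, 2, 2, 7]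
def rw6167 : List ℕ := [6, 5, 1, 5, 7, 4, 0, 4, 7, 4, 6, 3, 5, 0, 6, 6, 3, 3, 1, 6, 0, 2, 2, 7, 7, 1, 4, 2, 7, 5]
def rw6168 : List ℕ := [5, 6, 5, 1, 5, 7, 4, 0, 4, 7, 4, 6, 3, 5, 0, 6, 6, 3, 3, 1, 6, 0, 2, 2, 7, 7, 1, 4, 2, 7]
def rw6169 : List ℕ := [5, 0, 6, 6, 3, 3, 1, 6, 0, 2, 2, 7, 7, 1, 4, 2, 7, 5, 6, 5, 1, 5, 7, 4, 0, 4, 7, 4, 6, 3]
def rw6170 : List ℕ := [5, 0, 5, 1, 4, 1, 4, 7, 1, 3, 6, 3, 6, 6, 6, 5, 2, 1, 0, 0, 3, 4, 7, 7, 7, 2, 7, 2, 0, 6]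
def rw6171 : List ℕ := [2, 4, 0, 7, 3, 5, 6, 3, 7, 2, 7, 4, 2, 6, 1, 5, 3, 1, 5, 5, 0, 3, 1, 6, 0, 2, 1, 4, 4, 0]
def rw6172 : List ℕ := [6, 3, 4, 1, 2, 0, 5, 2, 7, 1, 2, 7, 0, 5, 3, 5, 6, 6, 3, 3, 2, 7, 7, 4, 2, 4, 1, 6, 3, 0]
def rw6173 : List ℕ := [1, 2, 7, 0, 5, 3, 5, 6, 6, 3, 5, 2, 7, 7, 4, 2, 4, 1, 6, 3, 0, 6, 3, 4, 1, 4, 0, 5, 2, 7]
def rw6174 : List ℕ := [5, 3, 5, 2, 7, 5, 6, 3, 4, 2, 4, 2, 0, 5, 2, 7, 1, 3, 1, 1, 4, 0, 0, 2, 0, 6, 3, 4, 1, 3]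
def rw6175 : List ℕ := [5, 1, 3, 6, 3, 6, 1, 3, 1, 0, 0, 2, 0, 7, 2, 7, 2, 0, 4, 7, 2, 7, 1, 5, 1, 4, 0, 6, 3, 6]
def rw6176 : List ℕ := [2, 7, 2, 6, 4, 1, 7, 3, 1, 2, 0, 2, 6, 0, 5, 7, 3, 6, 3, 6, 0, 6, 4, 6, 3, 7, 5, 7, 1, 7]
def rw6177 : List ℕ := [2, 7, 2, 6, 4, 1, 7, 3, 1, 4, 0, 2, 6, 0, 5, 7, 3, 6, 3, 6, 0, 6, 4, 6, 5, 7, 5, 7, 1, 7]
def rw6178 : List ℕ := [6, 5, 6, 3, 6, 3, 4, 3, 1, 2, 0, 2, 5, 2, 7, 2, 7, 4, 7, 4, 3, 1, 7, 4, 3, 5, 6, 0, 2, 5]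
def rw6179 : List ℕ := [2, 5, 6, 5, 6, 3, 6, 3, 4, 3, 1, 4, 0, 2, 5, 2, 7, 2, 7, 4, 7, 4, 3, 1, 7, 4, 5, 5, 6, 0]
def rw6180 : List ℕ := [7, 2, 0, 6, 0, 6, 0, 6, 0, 6, 3, 7, 1, 7, 1, 7, 1, 7, 1, 3, 6, 0, 6, 3, 1, 2, 0, 2, 7, 1]
def rw6181 : List ℕ := [7, 0, 2, 6, 1, 3, 7, 5, 6, 2, 0, 7, 3, 1, 6, 1, 3, 7, 3, 1, 3, 1, 4, 0, 2, 0, 2, 6, 2, 0]
def rw6182 : List ℕ := [6, 0, 2, 5, 6, 3, 3, 1, 0, 0, 2, 2, 7, 4, 3, 1, 7, 4, 7, 2, 7, 1, 2, 1, 3, 0, 6, 3, 6, 5]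
def rw6183 : List ℕ := [0, 2, 5, 6, 3, 3, 1, 4, 0, 2, 2, 7, 4, 3, 1, 7, 4, 7, 2, 7, 1, 2, 5, 3, 0, 6, 3, 6, 5, 6]
def rw6184 : List ℕ := [3, 6, 5, 6, 0, 2, 5, 6, 3, 3, 1, 6, 0, 2, 2, 7, 4, 3, 1, 7, 4, 7, 2, 7, 1, 2, 7, 3, 0, 6]
def rw6185 : List ℕ := [6, 3, 6, 0, 2, 3, 3, 1, 7, 2, 7, 2, 0, 0, 7, 2, 7, 1, 1, 1, 2, 0, 0, 0, 6, 3, 6, 1, 1, 3]
def rw6186 : List ℕ := [2, 7, 3, 1, 7, 2, 7, 2, 0, 0, 7, 2, 7, 1, 1, 1, 6, 0, 0, 0, 6, 3, 6, 1, 1, 3, 6, 3, 6, 0]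
def rw6187 : List ℕ := [5, 1, 0, 0, 4, 0, 7, 2, 6, 3, 0, 5, 2, 2, 7, 3, 4, 1, 5, 2, 6, 3, 3, 4, 1, 2, 7, 3, 6, 1]
def rw6188 : List ℕ := [7, 2, 6, 3, 0, 5, 2, 2, 7, 3, 4, 1, 5, 2, 6, 3, 3, 4, 1, 2, 7, 3, 6, 1, 5, 1, 0, 0, 4, 0]
def rw6189 : List ℕ := [1, 5, 1, 4, 0, 4, 0, 7, 2, 6, 3, 0, 5, 2, 2, 7, 3, 4, 5, 5, 2, 6, 3, 3, 4, 1, 2, 7, 3, 6]
def rw6190 : List ℕ := [1, 5, 5, 1, 2, 0, 4, 4, 0, 5, 5, 5, 1, 7, 4, 6, 2, 7, 5, 3, 4, 6, 3, 7, 5, 6, 0, 4, 4, 4]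
def rw6191 : List ℕ := [4, 4, 4, 1, 5, 5, 1, 6, 0, 4, 4, 0, 5, 5, 5, 1, 7, 4, 6, 2, 7, 5, 7, 4, 6, 3, 7, 5, 6, 0]
def rw6192 : List ℕ := [4, 2, 4, 2, 5, 0, 5, 2, 7, 2, 5, 3, 6, 3, 4, 1, 4, 3, 5, 3, 5, 7, 0, 3, 1, 4, 0, 2, 1, 6]
def rw6193 : List ℕ := [7, 0, 3, 1, 4, 0, 2, 1, 6, 4, 2, 4, 2, 5, 0, 5, 2, 7, 2, 5, 3, 6, 3, 4, 1, 4, 3, 5, 3, 5]
def rw6194 : List ℕ := [6, 0, 5, 0, 4, 6, 2, 6, 0, 5, 5, 4, 1, 7, 3, 7, 5, 1, 4, 1, 7, 3, 7, 5, 1, 4, 0, 4, 6, 2]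
def rw6195 : List ℕ := [5, 3, 4, 7, 2, 7, 1, 5, 3, 7, 2, 7, 2, 0, 3, 1, 2, 0, 2, 1, 3, 6, 3, 6, 2, 4, 0, 6, 3, 6]
def rw6196 : List ℕ := [0, 4, 3, 4, 6, 3, 4, 4, 3, 4, 7, 4, 2, 2, 1, 3, 3, 5, 6, 5, 2, 5, 5, 2, 7, 5, 2, 5, 1, 0]
def rw6197 : List ℕ := [2, 5, 5, 2, 7, 5, 2, 5, 1, 4, 0, 4, 3, 4, 6, 3, 4, 4, 3, 4, 7, 4, 2, 2, 5, 3, 3, 5, 6, 5]
def rw6198 : List ℕ := [6, 5, 2, 5, 5, 2, 7, 5, 2, 5, 1, 6, 0, 4, 3, 4, 6, 3, 4, 4, 3, 4, 7, 4, 2, 2, 7, 3, 3, 5]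
def rw6199 : List ℕ := [1, 3, 1, 0, 0, 2, 0, 6, 0, 4, 0, 2, 5, 2, 0, 4, 7, 4, 1, 5, 6, 5, 1, 3, 4, 3, 1, 5, 1, 7]
def rw6200 : List ℕ := [6, 3, 6, 4, 2, 0, 5, 7, 2, 7, 3, 1, 0, 0, 2, 6, 3, 6, 4, 1, 3, 5, 7, 2, 7, 5, 2, 1, 3, 4]
def rw6201 : List ℕ := [7, 3, 1, 4, 0, 2, 6, 3, 6, 4, 1, 3, 5, 7, 2, 7, 5, 2, 5, 3, 4, 6, 3, 6, 4, 2, 0, 5, 7, 2]
def rw6202 : List ℕ := [2, 7, 5, 2, 7, 3, 4, 6, 3, 6, 4, 2, 0, 5, 7, 2, 7, 3, 1, 6, 0, 2, 6, 3, 6, 4, 1, 3, 5, 7]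
def rw6203 : List ℕ := [6, 4, 2, 4, 1, 4, 0, 5, 3, 5, 7, 2, 7, 1, 7, 2, 7, 5, 3, 5, 5, 4, 2, 4, 6, 3, 6, 0, 6, 3]
def rw6204 : List ℕ := [6, 0, 0, 5, 1, 4, 1, 1, 7, 7, 1, 2, 7, 5, 2, 5, 1, 1, 1, 0, 0, 0, 0, 4, 3, 4, 6, 3, 0, 6]
def rw6205 : List ℕ := [0, 6, 6, 0, 0, 5, 1, 4, 1, 1, 7, 7, 1, 2, 7, 5, 2, 5, 1, 1, 1, 0, 0, 0, 0, 4, 3, 4, 6, 3]
def rw6206 : List ℕ := [6, 6, 0, 0, 5, 5, 4, 1, 1, 7, 7, 1, 2, 7, 5, 2, 5, 1, 1, 1, 4, 0, 0, 0, 4, 3, 4, 6, 3, 0]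
def rw6207 : List ℕ := [0, 0, 5, 5, 4, 1, 1, 7, 7, 1, 2, 7, 5, 2, 5, 1, 1, 1, 4, 0, 0, 0, 4, 3, 4, 6, 3, 0, 6, 6]
def rw6208 : List ℕ := [1, 5, 6, 3, 1, 3, 6, 3, 6, 5, 6, 2, 5, 3, 7, 4, 7, 2, 7, 2, 0, 2, 7, 4, 0, 3, 1, 4, 0, 2]
def rw6209 : List ℕ := [6, 5, 6, 2, 7, 3, 7, 4, 7, 2, 7, 2, 0, 2, 7, 4, 0, 3, 1, 6, 0, 2, 1, 5, 6, 3, 1, 3, 6, 3]
def rw6210 : List ℕ := [1, 3, 3, 0, 5, 1, 4, 1, 2, 2, 0, 7, 3, 1, 6, 2, 1, 5, 3, 1, 0, 0, 2, 4, 0, 3, 7, 0, 2, 6]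
def rw6211 : List ℕ := [1, 5, 3, 1, 0, 0, 2, 4, 0, 3, 7, 0, 2, 6, 1, 3, 3, 0, 5, 1, 4, 1, 2, 2, 0, 7, 3, 1, 6, 2]
def rw6212 : List ℕ := [0, 7, 2, 7, 3, 1, 3, 3, 5, 2, 2, 0, 2, 6, 3, 6, 1, 3, 7, 2, 7, 1, 1, 4, 0, 0, 6, 3, 6, 2]
def rw6213 : List ℕ := [5, 6, 3, 3, 0, 2, 4, 4, 3, 5, 5, 3, 1, 2, 2, 7, 4, 2, 6, 1, 5, 3, 1, 2, 0, 2, 4, 0, 7, 3]
def rw6214 : List ℕ := [5, 2, 0, 4, 7, 4, 2, 0, 2, 6, 0, 4, 5, 5, 1, 7, 3, 1, 3, 5, 6, 5, 1, 3, 4, 3, 1, 4, 0, 2]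
def rw6215 : List ℕ := [0, 2, 1, 2, 7, 4, 1, 5, 6, 3, 0, 3, 1, 7, 0, 2, 4, 2, 1, 3, 1, 0, 0, 2, 0, 3, 5, 3, 1, 6]
def rw6216 : List ℕ := [2, 1, 3, 1, 0, 0, 2, 0, 3, 5, 3, 1, 6, 0, 2, 1, 2, 7, 4, 1, 5, 6, 3, 0, 3, 1, 7, 0, 2, 4]
def rw6217 : List ℕ := [3, 1, 7, 0, 2, 4, 2, 1, 3, 1, 4, 0, 2, 0, 3, 5, 3, 1, 6, 0, 2, 1, 2, 7, 4, 5, 5, 6, 3, 0]
def rw6218 : List ℕ := [5, 1, 4, 1, 6, 3, 3, 3, 1, 0, 0, 2, 2, 2, 7, 0, 5, 0, 4, 2, 4, 2, 4, 6, 1, 7, 5, 3, 5, 3]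
def rw6219 : List ℕ := [0, 2, 6, 3, 3, 1, 0, 0, 2, 2, 7, 3, 1, 2, 7, 3, 5, 2, 7, 2, 7, 1, 6, 3, 6, 3, 4, 2, 6, 3]
def rw6220 : List ℕ := [6, 3, 0, 2, 6, 3, 3, 1, 0, 0, 2, 2, 7, 3, 1, 2, 7, 3, 5, 2, 7, 2, 7, 1, 6, 3, 6, 3, 4, 2]
def rw6221 : List ℕ := [6, 3, 3, 1, 2, 0, 2, 2, 7, 3, 1, 2, 7, 3, 5, 2, 7, 2, 7, 3, 6, 3, 6, 3, 4, 2, 6, 3, 0, 2]
def rw6222 : List ℕ := [2, 7, 2, 7, 7, 6, 3, 6, 3, 4, 2, 6, 3, 0, 2, 6, 3, 3, 1, 6, 0, 2, 2, 7, 3, 1, 2, 7, 3, 5]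
def rw6223 : List ℕ := [7, 0, 2, 6, 3, 4, 1, 4, 1, 3, 5, 0, 3, 1, 0, 0, 2, 1, 4, 2, 0, 5, 0, 5, 2, 7, 3, 1, 6, 1]
def rw6224 : List ℕ := [3, 2, 2, 5, 2, 6, 3, 6, 5, 2, 5, 2, 6, 3, 6, 5, 3, 4, 7, 2, 7, 3, 4, 3, 4, 7, 2, 7, 3, 4]
def rw6225 : List ℕ := [7, 4, 7, 4, 1, 5, 6, 5, 6, 3, 4, 7, 4, 3, 4, 0, 6, 5, 1, 0, 0, 4, 7, 1, 5, 2, 5, 6, 5, 2]
def rw6226 : List ℕ := [4, 3, 4, 0, 6, 5, 1, 0, 0, 4, 7, 1, 5, 2, 5, 6, 5, 2, 7, 4, 7, 4, 1, 5, 6, 5, 6, 3, 4, 7]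
def rw6227 : List ℕ := [4, 7, 5, 6, 5, 2, 1, 5, 2, 1, 2, 2, 2, 5, 7, 3, 1, 4, 0, 2, 6, 4, 3, 3, 3, 0, 3, 4, 0, 3]
def rw6228 : List ℕ := [5, 7, 3, 1, 4, 0, 2, 6, 4, 3, 3, 3, 0, 3, 4, 0, 3, 4, 7, 5, 6, 5, 2, 1, 5, 2, 1, 2, 2, 2]
def rw6229 : List ℕ := [4, 6, 6, 5, 1, 2, 2, 4, 4, 2, 1, 2, 0, 3, 5, 5, 3, 3, 0, 4, 7, 7, 5, 2, 7, 4, 3, 5, 6, 3]
def rw6230 : List ℕ := [6, 3, 3, 7, 0, 5, 6, 1, 7, 4, 1, 6, 2, 2, 7, 4, 1, 6, 1, 3, 3, 1, 0, 0, 2, 2, 0, 7, 0, 5]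
def rw6231 : List ℕ := [6, 2, 2, 7, 4, 1, 6, 1, 3, 3, 1, 0, 0, 2, 2, 0, 7, 0, 5, 6, 3, 3, 7, 0, 5, 6, 1, 7, 4, 1]
def rw6232 : List ℕ := [6, 5, 7, 4, 4, 1, 2, 7, 0, 2, 6, 6, 3, 0, 3, 1, 4, 0, 2, 1, 2, 7, 7, 3, 1, 6, 3, 0, 5, 5]
def rw6233 : List ℕ := [6, 3, 6, 0, 6, 3, 7, 1, 7, 2, 7, 1, 7, 1, 2, 1, 3, 1, 1, 1, 2, 0, 0, 0, 2, 0, 3, 0, 6, 0]
def rw6234 : List ℕ := [6, 0, 6, 3, 6, 0, 6, 7, 7, 1, 7, 2, 7, 1, 7, 1, 2, 1, 3, 1, 1, 1, 6, 0, 0, 0, 2, 0, 3, 0]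
def rw6235 : List ℕ := [6, 0, 6, 6, 5, 1, 4, 0, 2, 5, 3, 1, 0, 0, 2, 4, 3, 1, 5, 0, 4, 7, 7, 1, 7, 1, 6, 1, 7, 0]
def rw6236 : List ℕ := [6, 0, 6, 6, 5, 1, 4, 0, 2, 5, 3, 1, 2, 0, 2, 4, 3, 1, 5, 0, 4, 7, 7, 1, 7, 1, 6, 3, 7, 0]
def rw6237 : List ℕ := [1, 5, 0, 4, 7, 7, 1, 7, 1, 6, 3, 7, 0, 6, 0, 6, 6, 5, 1, 4, 0, 2, 5, 3, 1, 2, 0, 2, 4, 3]
def rw6238 : List ℕ := [6, 6, 5, 1, 4, 0, 2, 5, 3, 1, 6, 0, 2, 4, 3, 1, 5, 0, 4, 7, 7, 1, 7, 1, 6, 7, 7, 0, 6, 0]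
def rw6239 : List ℕ := [6, 3, 0, 5, 5, 3, 5, 7, 3, 1, 4, 0, 2, 6, 4, 2, 4, 4, 1, 2, 7, 7, 1, 4, 6, 5, 7, 5, 0, 6]
def rw6240 : List ℕ := [6, 3, 0, 5, 5, 3, 5, 7, 3, 1, 6, 0, 2, 6, 4, 2, 4, 4, 1, 2, 7, 7, 1, 4, 6, 7, 7, 5, 0, 6]
def rw6241 : List ℕ := [5, 3, 1, 6, 1, 7, 0, 2, 4, 3, 1, 3, 0, 5, 6, 3, 0, 3, 1, 0, 0, 2, 1, 2, 7, 4, 1, 2, 0, 2]
def rw6242 : List ℕ := [3, 6, 6, 3, 4, 1, 2, 0, 5, 2, 7, 7, 2, 5, 2, 5, 5, 3, 5, 7, 5, 3, 4, 6, 4, 2, 4, 4, 3, 4]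
def rw6243 : List ℕ := [6, 2, 7, 1, 4, 0, 5, 1, 4, 3, 1, 0, 0, 2, 5, 0, 4, 1, 5, 0, 6, 3, 7, 5, 6, 3, 1, 2, 7, 4]
def rw6244 : List ℕ := [5, 6, 3, 5, 2, 7, 4, 6, 2, 7, 1, 4, 0, 5, 1, 4, 3, 1, 4, 0, 2, 5, 0, 4, 1, 5, 0, 6, 3, 7]
def rw6245 : List ℕ := [2, 7, 1, 4, 0, 5, 1, 4, 3, 1, 6, 0, 2, 5, 0, 4, 1, 5, 0, 6, 3, 7, 5, 6, 3, 7, 2, 7, 4, 6]
def rw6246 : List ℕ := [3, 1, 3, 1, 4, 0, 2, 0, 2, 7, 0, 2, 6, 3, 0, 5, 0, 2, 4, 5, 5, 3, 1, 4, 1, 2, 7, 3, 1, 6]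
def rw6247 : List ℕ := [3, 0, 5, 0, 2, 4, 7, 5, 3, 1, 4, 1, 2, 7, 3, 1, 6, 3, 1, 3, 1, 6, 0, 2, 0, 2, 7, 0, 2, 6]
def rw6248 : List ℕ := [5, 1, 1, 4, 0, 0, 4, 7, 3, 6, 4, 6, 3, 1, 6, 2, 1, 3, 5, 2, 0, 3, 7, 0, 2, 7, 5, 7, 2, 6]
def rw6249 : List ℕ := [7, 2, 6, 5, 1, 1, 4, 0, 0, 4, 7, 3, 6, 4, 6, 3, 1, 6, 2, 1, 3, 5, 2, 0, 3, 7, 0, 2, 7, 5]
def rw6250 : List ℕ := [4, 0, 6, 5, 3, 4, 7, 1, 5, 6, 5, 6, 0, 6, 5, 7, 2, 7, 1, 2, 0, 6, 3, 6, 4, 7, 1, 7, 4, 7]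
def rw6251 : List ℕ := [1, 5, 6, 5, 6, 0, 6, 5, 7, 2, 7, 1, 2, 0, 6, 3, 6, 4, 7, 1, 7, 4, 7, 4, 0, 6, 5, 3, 4, 7]
def rw6252 : List ℕ := [0, 2, 0, 6, 0, 2, 1, 2, 7, 4, 2, 0, 5, 1, 4, 1, 3, 5, 6, 3, 0, 3, 1, 7, 1, 3, 1, 1, 0, 0]
def rw6253 : List ℕ := [7, 1, 3, 6, 6, 3, 1, 2, 7, 7, 2, 0, 6, 6, 4, 3, 4, 4, 3, 1, 1, 0, 0, 0, 2, 5, 5, 2, 5, 7]
def rw6254 : List ℕ := [0, 6, 6, 4, 3, 4, 4, 3, 1, 1, 0, 0, 0, 2, 5, 5, 2, 5, 7, 7, 1, 3, 6, 6, 3, 1, 2, 7, 7, 2]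
def rw6255 : List ℕ := [7, 1, 3, 6, 6, 3, 5, 2, 7, 7, 2, 0, 6, 6, 4, 3, 4, 4, 3, 1, 1, 4, 0, 0, 2, 5, 5, 2, 5, 7]
def rw6256 : List ℕ := [0, 2, 5, 5, 2, 5, 7, 7, 1, 3, 6, 6, 3, 7, 2, 7, 7, 2, 0, 6, 6, 4, 3, 4, 4, 3, 1, 1, 6, 0]
def rw6257 : List ℕ := [7, 5, 5, 0, 7, 0, 3, 1, 7, 1, 6, 0, 2, 1, 6, 1, 4, 4, 6, 3, 6, 2, 1, 1, 0, 0, 0, 3, 7, 2]
def rw6258 : List ℕ := [6, 1, 4, 4, 6, 3, 6, 2, 1, 1, 2, 0, 0, 3, 7, 2, 7, 5, 5, 0, 7, 0, 3, 1, 7, 3, 6, 0, 2, 1]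
def rw6259 : List ℕ := [7, 2, 7, 1, 1, 1, 0, 0, 0, 0, 6, 3, 6, 1, 2, 5, 6, 3, 6, 3, 4, 1, 5, 2, 7, 2, 7, 4, 3, 0]
def rw6260 : List ℕ := [6, 3, 4, 7, 5, 2, 7, 2, 7, 4, 3, 0, 7, 2, 7, 1, 1, 1, 6, 0, 0, 0, 6, 3, 6, 1, 2, 5, 6, 3]
def rw6261 : List ℕ := [6, 3, 7, 2, 7, 4, 7, 2, 7, 1, 3, 1, 7, 4, 1, 3, 1, 6, 0, 2, 0, 5, 6, 0, 2, 0, 6, 3, 6, 5]
def rw6262 : List ℕ := [5, 6, 3, 3, 1, 2, 7, 0, 2, 4, 0, 2, 3, 3, 1, 5, 3, 1, 6, 3, 0, 2, 2, 7, 4, 1, 1, 2, 0, 0]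
def rw6263 : List ℕ := [4, 0, 6, 3, 6, 3, 1, 7, 4, 1, 5, 6, 0, 2, 7, 2, 7, 1, 5, 6, 3, 1, 3, 1, 0, 0, 2, 0, 2, 7]
def rw6264 : List ℕ := [3, 1, 7, 4, 3, 5, 6, 0, 2, 7, 2, 7, 1, 5, 6, 3, 1, 3, 1, 2, 0, 2, 0, 2, 7, 4, 0, 6, 3, 6]
def rw6265 : List ℕ := [6, 3, 1, 3, 1, 2, 0, 2, 0, 2, 7, 4, 0, 6, 3, 6, 3, 1, 7, 4, 3, 5, 6, 0, 2, 7, 2, 7, 1, 5]
def rw6266 : List ℕ := [7, 3, 5, 0, 5, 6, 5, 2, 5, 5, 5, 2, 5, 1, 0, 0, 4, 3, 4, 4, 4, 3, 4, 7, 4, 1, 4, 2, 6, 1]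
def rw6267 : List ℕ := [6, 3, 6, 3, 7, 4, 6, 6, 0, 4, 4, 3, 1, 1, 0, 0, 0, 2, 5, 5, 1, 7, 7, 5, 6, 2, 7, 2, 7, 1]
def rw6268 : List ℕ := [6, 3, 6, 3, 7, 4, 6, 6, 0, 4, 4, 3, 1, 1, 2, 0, 0, 2, 5, 5, 1, 7, 7, 5, 6, 2, 7, 2, 7, 3]
def rw6269 : List ℕ := [7, 7, 5, 6, 2, 7, 2, 7, 3, 6, 3, 6, 3, 7, 4, 6, 6, 0, 4, 4, 3, 1, 1, 2, 0, 0, 2, 5, 5, 1]
def rw6270 : List ℕ := [1, 7, 7, 5, 6, 2, 7, 2, 7, 3, 6, 3, 6, 3, 7, 4, 6, 6, 0, 4, 4, 3, 1, 1, 2, 0, 0, 2, 5, 5]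
def rw6271 : List ℕ := [7, 2, 7, 7, 6, 3, 6, 3, 7, 4, 6, 6, 0, 4, 4, 3, 1, 1, 6, 0, 0, 2, 5, 5, 1, 7, 7, 5, 6, 2]
def rw6272 : List ℕ := [6, 6, 0, 4, 4, 3, 1, 1, 6, 0, 0, 2, 5, 5, 1, 7, 7, 5, 6, 2, 7, 2, 7, 7, 6, 3, 6, 3, 7, 4]
def rw6273 : List ℕ := [1, 7, 0, 2, 6, 3, 0, 5, 3, 1, 3, 1, 0, 0, 2, 0, 2, 4, 1, 2, 7, 3, 1, 6, 0, 2, 5, 1, 4, 3]
def rw6274 : List ℕ := [3, 1, 6, 0, 2, 5, 7, 4, 3, 1, 7, 0, 2, 6, 3, 0, 5, 3, 1, 3, 1, 6, 0, 2, 0, 2, 4, 1, 2, 7]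
def rw6275 : List ℕ := [1, 3, 5, 6, 4, 2, 0, 5, 5, 3, 4, 4, 1, 3, 5, 7, 4, 2, 0, 5, 6, 4, 3, 1, 2, 0, 2, 5, 7, 4]
def rw6276 : List ℕ := [1, 4, 0, 2, 5, 7, 4, 1, 3, 5, 6, 4, 2, 0, 5, 5, 5, 4, 4, 1, 3, 5, 7, 4, 2, 0, 5, 6, 4, 3]
def rw6277 : List ℕ := [4, 1, 3, 5, 6, 4, 2, 0, 5, 5, 7, 4, 4, 1, 3, 5, 7, 4, 2, 0, 5, 6, 4, 3, 1, 6, 0, 2, 5, 7]
def rw6278 : List ℕ := [4, 3, 1, 6, 0, 2, 5, 7, 4, 1, 3, 5, 6, 4, 2, 0, 5, 5, 7, 4, 4, 1, 3, 5, 7, 4, 2, 0, 5, 6]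
def rw6279 : List ℕ := [3, 6, 3, 4, 3, 4, 7, 5, 2, 5, 2, 7, 2, 7, 2, 5, 6, 3, 6, 5, 1, 6, 0, 4, 7, 2, 7, 4, 3, 6]
def rw6280 : List ℕ := [0, 2, 6, 2, 0, 7, 1, 3, 1, 4, 0, 2, 0, 6, 1, 3, 7, 3, 1, 6, 2, 0, 7, 3, 5, 2, 6, 1, 3, 7]
def rw6281 : List ℕ := [3, 6, 2, 3, 3, 7, 2, 7, 2, 5, 2, 7, 2, 7, 4, 3, 3, 1, 2, 0, 2, 2, 5, 6, 3, 6, 3, 4, 3, 6]
def rw6282 : List ℕ := [6, 3, 6, 3, 4, 3, 6, 3, 6, 2, 5, 3, 7, 2, 7, 2, 5, 2, 7, 2, 7, 4, 3, 3, 1, 4, 0, 2, 2, 5]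
def rw6283 : List ℕ := [6, 0, 3, 3, 1, 3, 5, 2, 0, 2, 2, 1, 7, 1, 7, 2, 7, 1, 7, 1, 1, 4, 0, 0, 6, 0, 6, 3, 6, 0]
def rw6284 : List ℕ := [6, 0, 6, 3, 6, 3, 5, 2, 7, 2, 7, 1, 7, 2, 7, 2, 2, 1, 3, 1, 1, 4, 0, 0, 2, 0, 3, 3, 6, 3]
def rw6285 : List ℕ := [6, 3, 7, 2, 7, 2, 7, 1, 7, 2, 7, 2, 2, 1, 3, 1, 1, 6, 0, 0, 2, 0, 3, 3, 6, 3, 6, 0, 6, 3]
def rw6286 : List ℕ := [1, 6, 1, 3, 7, 0, 2, 6, 1, 3, 1, 6, 0, 2, 0, 7, 3, 1, 6, 2, 0, 7, 0, 2, 6, 2, 7, 3, 7, 3]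
def rw6287 : List ℕ := [6, 0, 2, 2, 6, 3, 6, 3, 4, 2, 6, 3, 7, 3, 5, 2, 7, 2, 7, 3, 3, 1, 7, 0, 3, 1, 2, 0, 2, 1]
def rw6288 : List ℕ := [3, 1, 1, 1, 6, 0, 0, 0, 2, 0, 3, 3, 0, 3, 1, 3, 3, 7, 2, 2, 0, 2, 1, 2, 2, 1]
def rw6289 : List ℕ := [5, 2, 1, 2, 2, 4, 2, 2, 1, 6, 0, 3, 3, 5, 3, 3, 0, 3, 4, 4, 3, 7, 2, 5]
def rw6290 : List ℕ := [4, 1, 3, 1, 4, 1, 5, 0, 2, 0, 5, 1, 3, 1, 5, 1, 3, 1, 0, 0, 2, 0, 4, 0, 2, 0]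
def rw6291 : List ℕ := [0, 5, 1, 3, 1, 5, 1, 3, 1, 6, 0, 2, 0, 4, 0, 2, 0, 4, 1, 3, 1, 4, 7, 5, 0, 2]
def rw6292 : List ℕ := [2, 0, 2, 4, 7, 5, 3, 1, 3, 5, 1, 3, 1, 5, 1, 3, 1, 6, 0, 2, 0, 4, 0, 2, 0, 4]
def rw6293 : List ℕ := [2, 5, 0, 2, 0, 5, 1, 3, 1, 6, 0, 2, 0, 4, 1, 3, 1, 4, 3, 1, 3, 4, 7, 5, 2, 0]
def rw6294 : List ℕ := [1, 7, 2, 7, 1, 0, 0, 6, 3, 6, 0, 6, 3, 6, 1, 7, 2, 7]
def rw6295 : List ℕ := [6, 3, 6, 7, 7, 2, 7, 1, 7, 2, 7, 1, 6, 0, 6, 3, 6, 0]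
def rw6296 : List ℕ := [6, 5, 1, 4, 7, 2, 7, 1, 5, 0, 7, 2, 7, 1, 1, 0, 0, 0, 6, 3, 6, 1, 4, 0, 6, 3]
def rw6297 : List ℕ := [7, 2, 7, 2, 7, 3, 6, 3, 6, 0, 6, 3, 6, 3, 1, 3, 1, 6, 0, 2, 0, 2, 7, 2, 7, 1]
def rw6298 : List ℕ := [6, 0, 6, 3, 6, 3, 1, 2, 7, 2, 7, 1, 7, 2, 7, 2, 1, 3, 1, 0, 0, 2, 0, 3, 6, 3]
def rw6299 : List ℕ := [0, 6, 3, 6, 3, 7, 2, 7, 2, 7, 1, 7, 2, 7, 2, 1, 3, 1, 6, 0, 2, 0, 3, 6, 3, 6]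
def rw6300 : List ℕ := [7, 4, 7, 2, 7, 1, 3, 1, 2, 0, 2, 0, 6, 3, 6, 5, 6, 0, 2, 5, 6, 3, 7, 4, 3, 1]
def rw6301 : List ℕ := [1, 7, 2, 7, 1, 7, 1, 3, 1, 2, 0, 6, 0, 6, 3, 6, 0, 6, 1, 3, 1, 0, 0, 2, 0, 7]
def rw6302 : List ℕ := [6, 1, 3, 1, 2, 0, 2, 0, 7, 4, 3, 1, 7, 4, 7, 2, 7, 3, 6, 3, 6, 5, 6, 0, 2, 5]
def rw6303 : List ℕ := [6, 3, 6, 0, 6, 0, 3, 1, 6, 0, 2, 1, 7, 1, 7, 2, 7, 1, 7, 1, 2, 7, 3, 0, 6, 0]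
def rw6304 : List ℕ := [4, 2, 0, 5, 3, 1, 6, 3, 3, 3, 1, 2, 0, 2, 2, 2, 7, 0, 2, 4, 1, 3, 5, 6, 3, 7]
def rw6305 : List ℕ := [3, 5, 3, 4, 2, 2, 7, 0, 2, 6, 3, 3, 5, 3, 1, 2, 0, 2, 4, 2, 2, 7, 3, 1, 6, 3]
def rw6306 : List ℕ := [1, 6, 0, 2, 5, 3, 1, 2, 0, 2, 4, 3, 1, 7, 0, 2, 6, 3, 0, 5, 3, 4, 1, 2, 7, 3]
def rw6307 : List ℕ := [7, 3, 1, 6, 0, 2, 5, 3, 1, 6, 0, 2, 4, 3, 1, 7, 0, 2, 6, 3, 0, 5, 7, 4, 1, 2]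
def rw6308 : List ℕ := [7, 5, 3, 6, 0, 2, 6, 4, 1, 7, 3, 1, 4, 0, 2, 6, 0, 5, 7, 3, 1, 7, 2, 4, 6, 5]
def rw6309 : List ℕ := [3, 5, 2, 7, 3, 1, 6, 0, 2, 6, 3, 4, 2, 4, 2, 0, 5, 2, 7, 7, 6, 3, 4, 1, 3, 5]
def rw6310 : List ℕ := [3, 6, 0, 6, 3, 6, 3, 1, 2, 3, 3, 0, 2, 7, 2, 7, 1, 7, 2, 7, 3, 1, 2, 0, 2, 6]
def rw6311 : List ℕ := [6, 3, 1, 2, 5, 3, 0, 2, 7, 2, 7, 1, 7, 2, 7, 3, 1, 4, 0, 2, 6, 3, 6, 0, 6, 3]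
def rw6312 : List ℕ := [1, 7, 2, 7, 3, 1, 6, 0, 2, 6, 3, 6, 0, 6, 3, 6, 3, 1, 2, 7, 3, 0, 2, 7, 2, 7]
def rw6313 : List ℕ := [5, 2, 7, 2, 7, 4, 7, 5, 6, 3, 6, 3, 4, 3, 6, 3, 6, 3, 1, 6, 0, 2, 7, 2, 7, 2]
def rw6314 : List ℕ := [1, 7, 2, 5, 1, 7, 2, 5, 1, 0, 0, 4, 3, 6, 0, 4, 3, 6, 0, 4, 3, 6, 1, 7, 2, 5]
def rw6315 : List ℕ := [6, 0, 4, 3, 6, 3, 7, 2, 5, 1, 7, 2, 5, 1, 7, 2, 5, 1, 2, 0, 4, 3, 6, 0, 4, 3]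
def rw6316 : List ℕ := [0, 4, 3, 6, 0, 4, 3, 6, 0, 4, 3, 6, 7, 7, 2, 5, 1, 7, 2, 5, 1, 7, 2, 5, 1, 6]
def rw6317 : List ℕ := [4, 7, 2, 0, 4, 7, 2, 1, 3, 6, 5, 1, 3, 6, 5, 1, 3, 6, 5, 1, 0, 0, 4, 7, 2, 0]
def rw6318 : List ℕ := [6, 5, 1, 2, 0, 4, 7, 2, 0, 4, 7, 2, 0, 4, 7, 2, 3, 3, 6, 5, 1, 3, 6, 5, 1, 3]
def rw6319 : List ℕ := [6, 3, 5, 2, 7, 2, 7, 4, 1, 2, 7, 2, 7, 4, 1, 4, 0, 5, 6, 3, 6, 3, 0, 5, 6, 3]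
def rw6320 : List ℕ := [3, 6, 5, 3, 1, 2, 4, 7, 2, 7, 1, 5, 3, 7, 2, 7, 1, 0, 0, 6, 3, 6, 2, 4, 0, 6]
def rw6321 : List ℕ := [3, 6, 2, 4, 0, 6, 3, 6, 5, 3, 5, 2, 4, 7, 2, 7, 1, 5, 3, 7, 2, 7, 1, 4, 0, 6]
def rw6322 : List ℕ := [3, 6, 2, 4, 7, 2, 7, 1, 5, 3, 1, 2, 4, 0, 6, 3, 6, 5, 3, 7, 2, 7, 1, 0, 0, 6]
def rw6323 : List ℕ := [7, 3, 7, 3, 7, 3, 7, 3, 7, 3, 7, 3, 2, 2, 6, 2, 6, 2, 6, 2, 6, 2, 6, 2, 6, 3]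
def rw6324 : List ℕ := [1, 7, 2, 7, 1, 6, 0, 6, 3, 6, 0, 6, 3, 6, 7, 7, 2, 7]
def rw6325 : List ℕ := [7, 1, 2, 0, 7, 2, 7, 1, 1, 0, 0, 0, 6, 3, 6, 1, 3, 0, 6, 3, 6, 2, 1, 3, 7, 2]
def rw6326 : List ℕ := [2, 7, 2, 3, 3, 6, 3, 6, 1, 3, 0, 6, 3, 6, 1, 1, 2, 0, 0, 7, 2, 7, 1, 2, 0, 7]
def rw6327 : List ℕ := [7, 1, 7, 2, 7, 2, 3, 3, 6, 3, 6, 0, 6, 3, 6, 3, 1, 3, 1, 2, 0, 2, 0, 2, 7, 2]
def rw6328 : List ℕ := [1, 6, 0, 2, 0, 3, 6, 3, 6, 0, 6, 3, 6, 3, 7, 2, 7, 2, 7, 1, 7, 2, 7, 2, 1, 3]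
def rw6329 : List ℕ := [4, 1, 3, 5, 6, 3, 0, 3, 1, 2, 0, 2, 1, 2, 7, 4, 2, 0, 5, 3, 1, 6, 3, 7, 0, 2]
def rw6330 : List ℕ := [7, 4, 2, 0, 5, 3, 1, 6, 3, 3, 3, 1, 0, 0, 2, 2, 2, 7, 0, 2, 4, 1, 3, 5, 6, 1]
def rw6331 : List ℕ := [2, 7, 2, 2, 1, 3, 3, 6, 3, 6, 0, 6, 3, 6, 3, 3, 1, 0, 0, 2, 2, 7, 2, 7, 1, 7]
def rw6332 : List ℕ := [1, 5, 6, 1, 7, 4, 0, 6, 3, 6, 3, 1, 7, 4, 3, 1, 0, 0, 2, 5, 6, 0, 2, 7, 2, 7]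
def rw6333 : List ℕ := [2, 6, 3, 4, 2, 4, 2, 0, 5, 2, 7, 5, 6, 3, 4, 1, 3, 5, 3, 5, 2, 7, 3, 1, 4, 0]
def rw6334 : List ℕ := [2, 7, 4, 1, 5, 6, 3, 6, 3, 4, 3, 6, 3, 6, 3, 1, 0, 0, 2, 7, 2, 7, 2, 5, 2, 7]
def rw6335 : List ℕ := [2, 0, 7, 2, 7, 1, 2, 1, 4, 0, 3, 0, 6, 3, 6, 1, 3, 7, 2, 7, 2, 5, 3, 6, 3, 6]
def rw6336 : List ℕ := [6, 2, 2, 7, 4, 1, 6, 2, 2, 7, 4, 1, 0, 0, 5, 6, 3, 3, 7, 0, 5, 6, 3, 3, 7, 1]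
def rw6337 : List ℕ := [1, 6, 2, 2, 7, 4, 1, 4, 0, 5, 6, 3, 3, 7, 0, 5, 6, 3, 3, 7, 5, 6, 2, 2, 7, 4]
def rw6338 : List ℕ := [2, 4, 7, 2, 7, 1, 5, 3, 1, 2, 4, 0, 6, 3, 6, 5, 3, 7, 2, 7, 1, 0, 0, 6, 3, 6]
def rw6339 : List ℕ := [7, 2, 7, 1, 5, 3, 1, 2, 4, 0, 6, 3, 6, 5, 3, 7, 2, 7, 1, 0, 0, 6, 3, 6, 2, 4]
def rw6340 : List ℕ := [5, 6, 4, 1, 1, 0, 0, 0, 5, 7, 4, 1, 3, 5, 6, 1, 3, 4, 4, 1, 5, 5, 2, 0, 7, 4, 2, 0]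
def rw6341 : List ℕ := [5, 6, 4, 1, 1, 4, 0, 0, 5, 7, 4, 1, 3, 5, 6, 1, 3, 4, 4, 5, 5, 5, 2, 0, 7, 4, 2, 0]
def rw6342 : List ℕ := [0, 2, 0, 5, 6, 3, 7, 1, 3, 6, 3, 6, 6, 7, 7, 7, 2, 7, 2, 0, 6, 2, 7, 4, 1, 3, 1, 6]
def rw6343 : List ℕ := [5, 3, 3, 1, 2, 0, 2, 2, 4, 1, 3, 4, 3, 4, 7, 3, 5, 6, 3, 7, 4, 2, 6, 5, 2, 5, 2, 0]
def rw6344 : List ℕ := [4, 1, 6, 1, 2, 2, 5, 3, 1, 0, 0, 2, 4, 3, 3, 0, 7, 0, 5, 6, 1, 2, 4, 1, 5, 3, 0, 7]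
def rw6345 : List ℕ := [0, 7, 4, 1, 6, 1, 2, 2, 5, 3, 1, 0, 0, 2, 4, 3, 3, 0, 7, 0, 5, 6, 1, 2, 4, 1, 5, 3]
def rw6346 : List ℕ := [3, 1, 7, 4, 2, 7, 1, 4, 3, 1, 0, 0, 2, 5, 0, 6, 3, 5, 6, 0, 2, 5, 1, 6, 1, 7, 0, 4]
def rw6347 : List ℕ := [2, 7, 1, 4, 3, 1, 4, 0, 2, 5, 0, 6, 3, 5, 6, 0, 2, 5, 1, 6, 5, 7, 0, 4, 3, 1, 7, 4]
def rw6348 : List ℕ := [7, 7, 6, 2, 7, 4, 1, 5, 6, 5, 2, 0, 4, 3, 1, 6, 0, 2, 5, 1, 3, 4, 7, 4, 0, 5, 6, 3]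
def rw6349 : List ℕ := [2, 1, 3, 5, 6, 4, 1, 4, 1, 2, 0, 4, 7, 3, 1, 0, 0, 2, 6, 5, 1, 3, 0, 5, 0, 5, 7, 4]
def rw6350 : List ℕ := [4, 6, 1, 7, 5, 6, 3, 4, 2, 2, 7, 2, 7, 7, 3, 1, 0, 0, 2, 6, 6, 3, 6, 3, 3, 5, 2, 7]
def rw6351 : List ℕ := [6, 3, 4, 2, 2, 7, 2, 7, 7, 3, 1, 4, 0, 2, 6, 6, 3, 6, 3, 3, 5, 2, 7, 4, 6, 5, 7, 5]
def rw6352 : List ℕ := [6, 3, 4, 2, 2, 7, 2, 7, 7, 3, 1, 6, 0, 2, 6, 6, 3, 6, 3, 3, 5, 2, 7, 4, 6, 7, 7, 5]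
def rw6353 : List ℕ := [7, 2, 7, 1, 6, 5, 1, 2, 0, 4, 7, 0, 6, 3, 6, 6, 1, 4, 1, 4, 4, 3, 5, 5, 0, 5, 0, 7]
def rw6354 : List ℕ := [6, 1, 4, 1, 4, 4, 5, 5, 5, 0, 5, 0, 7, 7, 2, 7, 1, 6, 5, 1, 4, 0, 4, 7, 0, 6, 3, 6]
def rw6355 : List ℕ := [0, 6, 3, 6, 6, 1, 4, 1, 4, 4, 7, 5, 5, 0, 5, 0, 7, 7, 2, 7, 1, 6, 5, 1, 6, 0, 4, 7]
def rw6356 : List ℕ := [5, 5, 0, 5, 0, 7, 0, 6, 3, 6, 6, 5, 1, 0, 0, 4, 7, 7, 2, 7, 1, 6, 1, 4, 1, 4, 4, 1]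
def rw6357 : List ℕ := [2, 7, 1, 6, 1, 4, 1, 4, 4, 3, 5, 5, 0, 5, 0, 7, 0, 6, 3, 6, 6, 5, 1, 2, 0, 4, 7, 7]
def rw6358 : List ℕ := [1, 6, 1, 4, 1, 4, 4, 5, 5, 5, 0, 5, 0, 7, 0, 6, 3, 6, 6, 5, 1, 4, 0, 4, 7, 7, 2, 7]
def rw6359 : List ℕ := [6, 3, 6, 6, 3, 4, 1, 0, 0, 5, 2, 7, 7, 2, 7, 0, 5, 6, 3, 7, 5, 1, 4, 6, 2, 7, 4, 1]
def rw6360 : List ℕ := [1, 2, 0, 5, 6, 3, 3, 5, 2, 2, 4, 2, 4, 4, 7, 3, 6, 5, 5, 3, 5, 3, 3, 4, 2, 2, 7, 4]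
def rw6361 : List ℕ := [4, 2, 4, 4, 2, 2, 7, 4, 1, 6, 0, 5, 6, 3, 3, 5, 5, 3, 5, 3, 3, 4, 7, 7, 6, 5, 2, 2]
def rw6362 : List ℕ := [3, 4, 3, 5, 2, 7, 7, 2, 7, 1, 4, 6, 2, 7, 4, 1, 2, 0, 5, 6, 3, 7, 5, 0, 6, 3, 6, 6]
def rw6363 : List ℕ := [3, 6, 5, 1, 4, 0, 4, 7, 2, 7, 2, 5, 0, 6, 3, 6, 2, 5, 2, 5, 3, 4, 3, 7, 2, 7, 1, 4, 3, 6]
def rw6364 : List ℕ := [5, 2, 7, 2, 7, 4, 3, 1, 2, 5, 6, 3, 6, 3, 4, 0, 0, 7, 2, 7, 1, 1, 0, 0, 0, 6, 3, 6, 1, 1]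
def rw6365 : List ℕ := [3, 4, 0, 0, 7, 2, 7, 1, 1, 6, 0, 0, 6, 3, 6, 1, 1, 5, 2, 7, 2, 7, 4, 3, 7, 2, 5, 6, 3, 6]
def rw6366 : List ℕ := [4, 3, 6, 3, 7, 2, 5, 2, 5, 2, 6, 0, 4, 3, 4, 3, 3, 1, 2, 0, 2, 2, 5, 2, 5, 1, 7, 3, 4, 3]
def rw6367 : List ℕ := [1, 6, 0, 2, 6, 3, 6, 2, 1, 3, 6, 3, 6, 1, 2, 2, 7, 3, 3, 0, 7, 2, 7, 2, 0, 3, 7, 2, 7, 3]
def rw6368 : List ℕ := [5, 1, 7, 4, 6, 2, 4, 4, 1, 5, 5, 1, 2, 0, 4, 4, 0, 5, 5, 3, 7, 5, 6, 0, 4, 7, 5, 3, 4, 6]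
def rw6369 : List ℕ := [1, 5, 3, 1, 4, 1, 1, 2, 0, 0, 5, 0, 2, 4, 0, 3, 7, 0, 2, 6, 2, 2, 3, 3, 3, 7, 3, 1, 6, 2]
def rw6370 : List ℕ := [3, 1, 4, 1, 4, 2, 6, 3, 3, 1, 0, 0, 2, 2, 7, 3, 5, 0, 5, 0, 2, 4, 2, 6, 3, 1, 2, 7, 3, 5]
def rw6371 : List ℕ := [0, 5, 3, 5, 6, 3, 6, 3, 6, 3, 4, 1, 0, 0, 5, 2, 7, 2, 7, 2, 7, 4, 2, 4, 1, 2, 7, 1, 6, 3]
def rw6372 : List ℕ := [7, 2, 7, 2, 7, 4, 2, 4, 1, 2, 7, 3, 6, 3, 0, 5, 3, 5, 6, 3, 6, 3, 6, 3, 4, 1, 2, 0, 5, 2]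
def rw6373 : List ℕ := [2, 4, 1, 2, 7, 5, 6, 3, 0, 5, 3, 5, 6, 3, 6, 3, 6, 3, 4, 1, 4, 0, 5, 2, 7, 2, 7, 2, 7, 4]
def rw6374 : List ℕ := [0, 5, 0, 2, 6, 1, 7, 3, 1, 4, 1, 3, 5, 0, 2, 6, 3, 3, 3, 1, 0, 0, 2, 2, 2, 7, 3, 1, 4, 2]
def rw6375 : List ℕ := [3, 3, 3, 1, 6, 0, 2, 2, 2, 7, 3, 1, 4, 2, 0, 5, 0, 2, 6, 7, 7, 3, 1, 4, 1, 3, 5, 0, 2, 6]
def rw6376 : List ℕ := [6, 3, 6, 2, 6, 3, 3, 5, 6, 3, 3, 5, 1, 0, 0, 4, 2, 2, 7, 4, 2, 2, 7, 3, 7, 2, 7, 2, 1, 3]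
def rw6377 : List ℕ := [7, 2, 7, 2, 7, 2, 7, 4, 7, 5, 6, 3, 6, 3, 6, 3, 6, 5, 1, 5, 2, 5, 1, 6, 0, 4, 3, 4, 0, 4]
def rw6378 : List ℕ := [1, 4, 1, 3, 5, 7, 2, 7, 5, 1, 4, 6, 3, 6, 4, 2, 0, 5, 0, 6, 3, 6, 3, 1, 0, 0, 2, 7, 2, 7]
def rw6379 : List ℕ := [7, 5, 5, 4, 6, 3, 6, 4, 2, 0, 5, 0, 6, 3, 6, 3, 1, 4, 0, 2, 7, 2, 7, 1, 4, 1, 3, 5, 7, 2]
def rw6380 : List ℕ := [6, 5, 1, 3, 4, 3, 1, 5, 1, 7, 1, 6, 0, 4, 0, 2, 5, 2, 0, 4, 7, 4, 1, 3, 1, 0, 0, 2, 0, 5]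
def rw6381 : List ℕ := [0, 5, 6, 5, 1, 3, 4, 3, 1, 5, 1, 7, 5, 6, 0, 4, 0, 2, 5, 2, 0, 4, 7, 4, 1, 3, 1, 4, 0, 2]
def rw6382 : List ℕ := [0, 7, 4, 1, 6, 5, 3, 4, 3, 4, 2, 5, 1, 4, 3, 5, 2, 5, 2, 4, 7, 0, 5, 6, 1, 2, 1, 0, 0, 3]
def rw6383 : List ℕ := [2, 1, 0, 0, 3, 0, 7, 4, 1, 6, 5, 3, 4, 3, 4, 2, 5, 1, 4, 3, 5, 2, 5, 2, 4, 7, 0, 5, 6, 1]
def rw6384 : List ℕ := [5, 3, 4, 3, 4, 2, 5, 7, 4, 3, 5, 2, 5, 2, 4, 7, 0, 5, 6, 1, 2, 1, 6, 0, 3, 0, 7, 4, 1, 6]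
def rw6385 : List ℕ := [6, 6, 3, 3, 4, 2, 2, 7, 7, 4, 4, 2, 6, 6, 6, 3, 7, 3, 4, 5, 5, 2, 6, 2, 7, 7, 7, 3, 5, 5]
def rw6386 : List ℕ := [0, 5, 6, 3, 3, 1, 2, 7, 3, 5, 1, 3, 1, 6, 0, 2, 0, 4, 2, 6, 3, 0, 2, 2, 7, 4, 1, 4, 7, 5]
def rw6387 : List ℕ := [0, 2, 2, 2, 7, 0, 2, 4, 0, 2, 7, 3, 1, 5, 3, 1, 6, 3, 3, 3, 1, 7, 4, 1, 1, 6, 0, 0, 5, 6]
def rw6388 : List ℕ := [2, 7, 2, 7, 4, 1, 3, 1, 1, 6, 0, 0, 2, 0, 5, 6, 3, 6, 3, 4, 3, 6, 3, 6, 7, 7, 2, 7, 2, 5]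
def rw6389 : List ℕ := [0, 2, 7, 0, 2, 4, 1, 3, 5, 6, 3, 7, 2, 7, 4, 2, 0, 5, 3, 1, 6, 3, 1, 3, 1, 1, 6, 0, 0, 2]
def rw6390 : List ℕ := [5, 1, 3, 1, 1, 4, 0, 0, 2, 0, 4, 1, 2, 7, 3, 1, 6, 0, 2, 5, 5, 4, 3, 1, 7, 0, 2, 6, 3, 0]
def rw6391 : List ℕ := [1, 3, 7, 2, 7, 3, 1, 4, 0, 2, 6, 3, 6, 2, 0, 7, 2, 7, 1, 2, 2, 2, 5, 3, 3, 3, 0, 6, 3, 6]
def rw6392 : List ℕ := [0, 7, 2, 7, 1, 2, 2, 2, 7, 3, 3, 3, 0, 6, 3, 6, 1, 3, 7, 2, 7, 3, 1, 6, 0, 2, 6, 3, 6, 2]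
def rw6393 : List ℕ := [7, 2, 7, 2, 3, 3, 6, 3, 6, 4, 1, 3, 5, 7, 2, 7, 5, 3, 1, 2, 0, 2, 4, 6, 3, 6, 4, 2, 0, 5]
def rw6394 : List ℕ := [7, 0, 2, 6, 4, 1, 5, 7, 3, 1, 6, 4, 4, 0, 3, 4, 4, 1, 1, 1, 0, 0, 0, 0, 5, 5, 2, 1, 5, 5]
def rw6395 : List ℕ := [4, 1, 1, 1, 6, 0, 0, 0, 5, 5, 2, 1, 5, 5, 7, 0, 2, 6, 4, 7, 5, 7, 3, 1, 6, 4, 4, 0, 3, 4]
def rw6396 : List ℕ := [7, 2, 7, 3, 1, 3, 7, 4, 0, 3, 1, 4, 0, 2, 1, 5, 6, 2, 0, 2, 6, 3, 6, 5, 6, 2, 5, 3, 7, 4]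
def rw6397 : List ℕ := [7, 2, 0, 4, 3, 6, 7, 7, 2, 5, 1, 3, 6, 5, 1, 7, 1, 5, 1, 3, 1, 6, 0, 2, 0, 4, 0, 6, 0, 4]
def rw6398 : List ℕ := [4, 2, 6, 3, 3, 3, 1, 6, 0, 2, 2, 2, 7, 3, 5, 3, 1, 3, 5, 0, 5, 6, 7, 7, 4, 1, 4, 2, 0, 2]
def rw6399 : List ℕ := [6, 1, 6, 3, 3, 5, 6, 3, 3, 5, 3, 1, 2, 4, 2, 2, 7, 4, 2, 2, 7, 0, 7, 2, 7, 1, 0, 0, 6, 3]
def rw6400 : List ℕ := [4, 1, 6, 3, 7, 0, 5, 0, 4, 2, 4, 2, 4, 6, 3, 0, 3, 1, 2, 0, 2, 1, 2, 7, 5, 3, 5, 3, 5, 1]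
def rw6401 : List ℕ := [3, 1, 7, 4, 1, 4, 7, 5, 0, 5, 6, 0, 2, 2, 2, 7, 3, 5, 1, 3, 1, 6, 0, 2, 0, 4, 2, 6, 3, 3]
def rw6402 : List ℕ := [2, 6, 2, 0, 7, 0, 2, 6, 1, 3, 7, 2, 3, 3, 6, 2, 0, 7, 3, 1, 6, 1, 3, 7, 3, 3, 1, 2, 0, 2]
def rw6403 : List ℕ := [7, 2, 2, 7, 1, 4, 2, 4, 3, 4, 1, 4, 0, 5, 2, 5, 3, 5, 0, 6, 3, 3, 6, 6, 5, 2, 5, 3, 4, 7]
def rw6404 : List ℕ := [2, 7, 4, 1, 4, 3, 6, 3, 6, 0, 3, 3, 1, 6, 0, 2, 2, 1, 7, 2, 7, 2, 5, 0, 5, 6, 3, 6, 7, 7]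
def rw6405 : List ℕ := [6, 5, 7, 1, 7, 5, 6, 1, 4, 1, 4, 4, 3, 7, 3, 1, 4, 0, 2, 6, 2, 5, 5, 0, 5, 0, 7, 4, 6, 0]
def rw6406 : List ℕ := [5, 6, 0, 2, 5, 6, 0, 2, 5, 0, 7, 2, 7, 1, 1, 4, 0, 0, 6, 3, 6, 1, 4, 3, 1, 7, 4, 3, 1, 7]
def rw6407 : List ℕ := [6, 1, 3, 1, 6, 0, 2, 0, 7, 2, 5, 1, 3, 6, 5, 1, 7, 1, 5, 7, 4, 0, 6, 0, 4, 7, 2, 0, 4, 3]
def rw6408 : List ℕ := [3, 1, 7, 2, 7, 1, 3, 1, 0, 0, 2, 0, 6, 3, 6, 0, 2, 5, 2, 7, 2, 7, 4, 1, 5, 6, 3, 6, 3, 4]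
def rw6409 : List ℕ := [6, 3, 6, 3, 4, 3, 1, 7, 2, 7, 1, 3, 1, 2, 0, 2, 0, 6, 3, 6, 0, 2, 5, 2, 7, 2, 7, 4, 3, 5]
def rw6410 : List ℕ := [5, 3, 5, 6, 3, 3, 1, 0, 0, 2, 2, 7, 4, 2, 4, 2, 4, 1, 4, 1, 6, 3, 1, 2, 7, 0, 5, 0, 5, 3]
def rw6411 : List ℕ := [4, 1, 4, 1, 6, 3, 3, 2, 7, 0, 5, 0, 5, 3, 5, 3, 5, 6, 3, 3, 1, 2, 0, 2, 2, 7, 4, 2, 4, 2]
def rw6412 : List ℕ := [2, 0, 5, 5, 7, 3, 1, 4, 0, 2, 6, 4, 4, 1, 3, 5, 3, 3, 5, 2, 2, 7, 5, 6, 3, 3, 4, 2, 2, 4]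
def rw6413 : List ℕ := [1, 4, 1, 3, 5, 6, 0, 2, 2, 2, 7, 3, 1, 3, 1, 0, 0, 2, 0, 2, 6, 3, 3, 3, 1, 7, 4, 2, 0, 5]
def rw6414 : List ℕ := [3, 1, 3, 1, 6, 0, 2, 0, 2, 6, 3, 3, 3, 1, 7, 4, 2, 0, 5, 7, 4, 1, 3, 5, 6, 0, 2, 2, 2, 7]
def rw6415 : List ℕ := [3, 4, 2, 2, 7, 0, 2, 6, 3, 3, 5, 0, 3, 1, 0, 0, 2, 1, 4, 2, 2, 7, 3, 1, 6, 3, 3, 5, 2, 1]
def rw6416 : List ℕ := [6, 5, 3, 1, 4, 0, 2, 4, 7, 2, 7, 1, 5, 1, 3, 6, 3, 6, 2, 5, 3, 7, 2, 7, 2, 0, 4, 0, 6, 3]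
def rw6417 : List ℕ := [0, 5, 2, 1, 4, 4, 4, 4, 7, 3, 1, 0, 0, 2, 6, 5, 5, 5, 5, 0, 3, 4, 1, 5, 3, 7, 1, 6, 2, 4]
def rw6418 : List ℕ := [1, 4, 2, 7, 5, 6, 5, 1, 5, 3, 4, 0, 4, 7, 4, 6, 3, 5, 0, 6, 6, 3, 3, 1, 2, 0, 2, 2, 7, 7]
def rw6419 : List ℕ := [7, 1, 4, 2, 7, 5, 6, 5, 1, 5, 3, 4, 0, 4, 7, 4, 6, 3, 5, 0, 6, 6, 3, 3, 1, 2, 0, 2, 2, 7]
def rw6420 : List ℕ := [7, 7, 1, 4, 2, 7, 5, 6, 5, 1, 5, 5, 4, 0, 4, 7, 4, 6, 3, 5, 0, 6, 6, 3, 3, 1, 4, 0, 2, 2]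
def rw6421 : List ℕ := [6, 6, 3, 3, 1, 6, 0, 2, 2, 7, 7, 1, 4, 2, 7, 5, 6, 5, 1, 5, 7, 4, 0, 4, 7, 4, 6, 3, 5, 0]
def rw6422 : List ℕ := [1, 7, 0, 2, 4, 0, 2, 7, 3, 1, 5, 3, 1, 6, 0, 2, 1, 2, 7, 4, 1, 1, 6, 0, 0, 5, 6, 3, 0, 3]
def rw6423 : List ℕ := [6, 5, 0, 5, 1, 4, 1, 4, 7, 1, 3, 6, 3, 6, 6, 6, 5, 2, 1, 0, 0, 3, 4, 7, 7, 7, 2, 7, 2, 0]
def rw6424 : List ℕ := [6, 5, 2, 1, 4, 0, 3, 4, 7, 7, 7, 2, 7, 2, 0, 6, 5, 0, 5, 5, 4, 1, 4, 7, 1, 3, 6, 3, 6, 6]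
def rw6425 : List ℕ := [1, 5, 3, 1, 5, 5, 0, 3, 1, 4, 0, 2, 1, 4, 4, 0, 2, 4, 0, 7, 3, 5, 6, 3, 5, 2, 7, 4, 2, 6]
def rw6426 : List ℕ := [1, 5, 3, 1, 5, 5, 0, 3, 1, 6, 0, 2, 1, 4, 4, 0, 2, 4, 0, 7, 3, 5, 6, 3, 7, 2, 7, 4, 2, 6]
def rw6427 : List ℕ := [7, 4, 2, 4, 1, 6, 3, 0, 6, 3, 4, 1, 4, 0, 5, 2, 7, 1, 2, 7, 0, 5, 3, 5, 6, 6, 3, 5, 2, 7]
def rw6428 : List ℕ := [2, 4, 1, 6, 3, 0, 6, 3, 4, 1, 6, 0, 5, 2, 7, 1, 2, 7, 0, 5, 3, 5, 6, 6, 3, 7, 2, 7, 7, 4]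
def rw6429 : List ℕ := [1, 6, 0, 5, 2, 7, 1, 2, 7, 0, 5, 3, 5, 6, 6, 3, 7, 2, 7, 7, 4, 2, 4, 1, 6, 3, 0, 6, 3, 4]
def rw6430 : List ℕ := [3, 4, 1, 3, 5, 3, 5, 2, 7, 7, 6, 3, 4, 2, 4, 2, 0, 5, 2, 7, 1, 3, 1, 1, 6, 0, 0, 2, 0, 6]
def rw6431 : List ℕ := [4, 3, 1, 7, 4, 5, 5, 6, 0, 2, 5, 6, 5, 6, 3, 6, 3, 4, 3, 1, 4, 0, 2, 5, 2, 7, 2, 7, 4, 7]
def rw6432 : List ℕ := [6, 1, 3, 7, 3, 1, 3, 1, 4, 0, 2, 0, 2, 6, 2, 0, 7, 0, 2, 6, 1, 3, 7, 5, 6, 2, 0, 7, 3, 1]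
def rw6433 : List ℕ := [6, 1, 3, 7, 0, 2, 6, 2, 0, 7, 1, 6, 1, 3, 7, 3, 1, 6, 2, 0, 7, 3, 1, 3, 1, 0, 0, 2, 0, 2]
def rw6434 : List ℕ := [7, 3, 1, 6, 2, 0, 7, 3, 1, 3, 1, 0, 0, 2, 0, 2, 6, 1, 3, 7, 0, 2, 6, 2, 0, 7, 1, 6, 1, 3]
def rw6435 : List ℕ := [3, 7, 3, 1, 6, 2, 0, 7, 3, 1, 3, 1, 6, 0, 2, 0, 2, 6, 1, 3, 7, 0, 2, 6, 2, 0, 7, 7, 6, 1]
def rw6436 : List ℕ := [7, 2, 7, 1, 2, 3, 3, 0, 6, 3, 6, 5, 6, 0, 2, 5, 6, 3, 3, 1, 2, 0, 2, 2, 7, 4, 3, 1, 7, 4]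
def rw6437 : List ℕ := [0, 6, 3, 6, 5, 6, 0, 2, 5, 6, 3, 3, 1, 6, 0, 2, 2, 7, 4, 3, 1, 7, 4, 7, 2, 7, 1, 2, 7, 3]
def rw6438 : List ℕ := [2, 6, 0, 2, 1, 2, 7, 4, 1, 4, 3, 5, 0, 5, 6, 3, 0, 3, 1, 7, 3, 5, 1, 3, 1, 2, 0, 2, 0, 4]
def rw6439 : List ℕ := [1, 1, 1, 4, 0, 0, 0, 6, 3, 6, 1, 1, 3, 6, 3, 6, 0, 2, 5, 3, 1, 7, 2, 7, 2, 0, 0, 7, 2, 7]
def rw6440 : List ℕ := [4, 6, 2, 7, 5, 7, 4, 6, 3, 7, 5, 6, 0, 4, 4, 4, 1, 5, 5, 1, 6, 0, 4, 4, 0, 5, 5, 5, 1, 7]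
def rw6441 : List ℕ := [4, 3, 6, 2, 1, 3, 7, 2, 5, 1, 3, 6, 5, 1, 7, 1, 5, 3, 1, 0, 0, 2, 4, 0, 6, 0, 4, 7, 2, 0]
def rw6442 : List ℕ := [4, 0, 6, 0, 4, 7, 2, 0, 4, 3, 6, 2, 7, 3, 7, 2, 5, 1, 3, 6, 5, 1, 7, 1, 5, 3, 1, 6, 0, 2]
def rw6443 : List ℕ := [5, 1, 4, 1, 7, 3, 7, 5, 1, 2, 0, 4, 6, 2, 6, 0, 5, 0, 4, 6, 2, 6, 0, 5, 3, 4, 1, 7, 3, 7]
def rw6444 : List ℕ := [1, 4, 1, 7, 3, 7, 5, 1, 4, 0, 4, 6, 2, 6, 0, 5, 0, 4, 6, 2, 6, 0, 5, 5, 4, 1, 7, 3, 7, 5]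
def rw6445 : List ℕ := [5, 2, 7, 2, 7, 4, 3, 1, 3, 6, 3, 6, 1, 7, 2, 7, 2, 0, 2, 5, 6, 3, 6, 3, 4, 3, 1, 0, 0, 2]
def rw6446 : List ℕ := [7, 2, 7, 5, 2, 3, 3, 4, 6, 3, 6, 4, 2, 0, 5, 7, 2, 7, 3, 1, 2, 0, 2, 6, 3, 6, 4, 1, 3, 5]
def rw6447 : List ℕ := [4, 6, 3, 6, 4, 2, 0, 5, 7, 2, 7, 3, 1, 6, 0, 2, 6, 3, 6, 4, 1, 3, 5, 7, 2, 7, 5, 2, 7, 3]
def rw6448 : List ℕ := [5, 3, 5, 5, 4, 2, 4, 6, 3, 6, 0, 6, 3, 6, 4, 2, 4, 1, 4, 0, 5, 3, 5, 7, 2, 7, 1, 7, 2, 7]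
def rw6449 : List ℕ := [1, 2, 7, 5, 2, 5, 1, 1, 1, 0, 0, 0, 0, 4, 3, 4, 6, 3, 0, 6, 6, 0, 0, 5, 1, 4, 1, 1, 7, 7]
def rw6450 : List ℕ := [5, 6, 2, 1, 3, 7, 4, 7, 2, 7, 2, 0, 2, 7, 4, 0, 3, 1, 0, 0, 2, 1, 5, 6, 3, 1, 3, 6, 3, 6]
def rw6451 : List ℕ := [0, 2, 6, 3, 6, 1, 3, 7, 2, 7, 1, 1, 0, 0, 0, 6, 3, 6, 2, 0, 7, 2, 7, 3, 1, 3, 3, 1, 2, 2]
def rw6452 : List ℕ := [7, 3, 5, 6, 3, 3, 0, 2, 4, 4, 7, 5, 5, 3, 1, 2, 2, 7, 4, 2, 6, 1, 5, 3, 1, 6, 0, 2, 4, 0]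
def rw6453 : List ℕ := [4, 2, 0, 2, 6, 0, 4, 1, 5, 1, 7, 3, 1, 3, 5, 6, 5, 1, 3, 4, 3, 1, 0, 0, 2, 5, 2, 0, 4, 7]
def rw6454 : List ℕ := [0, 4, 2, 4, 2, 4, 6, 7, 7, 5, 3, 5, 3, 5, 1, 4, 1, 6, 3, 3, 3, 1, 6, 0, 2, 2, 2, 7, 0, 5]
def rw6455 : List ℕ := [1, 6, 3, 6, 5, 6, 1, 3, 1, 1, 0, 0, 0, 2, 0, 7, 4, 7, 2, 7, 0, 2, 0, 7, 4, 1, 5, 6, 1, 3]
def rw6456 : List ℕ := [7, 0, 2, 0, 7, 4, 7, 5, 6, 1, 3, 1, 6, 3, 6, 5, 6, 1, 3, 1, 1, 6, 0, 0, 2, 0, 7, 4, 7, 2]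
def rw6457 : List ℕ := [2, 7, 3, 5, 2, 7, 2, 7, 3, 6, 3, 6, 3, 4, 2, 6, 3, 0, 2, 6, 3, 3, 1, 2, 0, 2, 2, 7, 3, 1]
def rw6458 : List ℕ := [2, 7, 2, 7, 5, 6, 3, 6, 3, 4, 2, 6, 3, 0, 2, 6, 3, 3, 1, 4, 0, 2, 2, 7, 3, 1, 2, 7, 3, 5]
def rw6459 : List ℕ := [2, 0, 5, 0, 5, 2, 7, 3, 1, 6, 5, 7, 0, 2, 6, 3, 4, 1, 4, 1, 3, 5, 0, 3, 1, 4, 0, 2, 1, 4]
def rw6460 : List ℕ := [0, 3, 1, 6, 0, 2, 1, 4, 2, 0, 5, 0, 5, 2, 7, 3, 1, 6, 7, 7, 0, 2, 6, 3, 4, 1, 4, 1, 3, 5]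
def rw6461 : List ℕ := [4, 7, 4, 1, 5, 6, 5, 6, 3, 4, 7, 4, 3, 4, 0, 6, 5, 1, 0, 0, 4, 7, 1, 5, 2, 5, 6, 5, 2, 7]
def rw6462 : List ℕ := [6, 5, 6, 3, 4, 7, 4, 3, 4, 0, 6, 5, 1, 6, 0, 4, 7, 1, 5, 2, 5, 6, 5, 2, 7, 4, 7, 4, 7, 5]
def rw6463 : List ℕ := [0, 3, 1, 3, 3, 3, 5, 2, 2, 2, 0, 2, 1, 1, 2, 1, 3, 1, 1, 4, 0, 0, 2, 0, 3, 0]
def rw6464 : List ℕ := [5, 0, 0, 5, 0, 5, 1, 4, 1, 4, 1, 1, 4, 1, 4, 1, 1, 0, 0, 0, 5, 0]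
def rw6465 : List ℕ := [4, 1, 4, 1, 4, 1, 6, 0, 5, 0, 5, 0, 5, 0, 5, 0, 5, 7, 4, 1, 4, 1]
def rw6466 : List ℕ := [1, 4, 1, 0, 0, 5, 0, 5, 5, 0, 5, 0, 5, 5, 1, 4, 4, 1, 4, 1, 4, 4]
def rw6467 : List ℕ := [3, 4, 4, 3, 5, 5, 2, 4, 2, 2, 4, 1, 5, 1, 1, 2, 0, 0, 4, 0, 5, 3, 3, 5]
def rw6468 : List ℕ := [2, 0, 4, 1, 5, 1, 3, 5, 3, 3, 5, 5, 5, 1, 1, 0, 0, 0, 4, 4, 4, 2, 2, 4]
def rw6469 : List ℕ := [2, 0, 4, 5, 5, 1, 3, 5, 3, 3, 5, 5, 5, 1, 1, 4, 0, 0, 4, 4, 4, 2, 2, 4]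
def rw6470 : List ℕ := [2, 0, 0, 0, 2, 5, 0, 0, 2, 2, 2, 1, 4, 3, 5, 0, 3, 3, 3, 1, 1, 4, 3, 1, 1, 1]
def rw6471 : List ℕ := [3, 1, 1, 1, 4, 0, 0, 0, 2, 5, 0, 0, 2, 2, 2, 1, 4, 5, 5, 0, 3, 3, 3, 1, 1, 4]
def rw6472 : List ℕ := [5, 1, 1, 3, 0, 4, 2, 7, 3, 5, 1, 2, 0, 0, 4, 1, 2, 1, 1, 1, 6, 0, 0, 0, 3, 0]
def rw6473 : List ℕ := [3, 0, 5, 1, 1, 1, 0, 0, 0, 0, 4, 1, 2, 1, 3, 3, 0, 5, 2, 1, 3, 4, 1, 2, 2, 0]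
def rw6474 : List ℕ := [0, 5, 2, 5, 3, 4, 1, 1, 3, 3, 3, 0, 5, 1, 1, 1, 4, 0, 0, 0, 4, 1, 2, 2, 2, 0]
def rw6475 : List ℕ := [3, 4, 1, 1, 1, 4, 3, 4, 1, 1, 1, 4, 0, 0, 0, 5, 2, 5, 0, 0, 0, 5, 2, 5, 5, 4]
def rw6476 : List ℕ := [1, 1, 1, 4, 0, 0, 0, 5, 2, 5, 0, 0, 0, 5, 2, 5, 5, 4, 3, 4, 1, 1, 1, 4, 3, 4]
def rw6477 : List ℕ := [0, 2, 4, 1, 4, 1, 1, 4, 1, 4, 2, 7, 3, 5, 0, 5, 0, 0, 5, 0, 5, 3, 1, 1, 6, 0]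
def rw6478 : List ℕ := [4, 0, 5, 1, 1, 0, 0, 0, 4, 1, 5, 5, 1, 1, 5, 0, 4, 4, 1, 5, 5, 1, 4, 0, 0, 4]
def rw6479 : List ℕ := [4, 4, 0, 0, 4, 4, 0, 0, 4, 4, 3, 5, 5, 1, 1, 5, 5, 1, 1, 5, 5, 1, 1, 2, 0, 0]
def rw6480 : List ℕ := [0, 0, 4, 4, 5, 5, 5, 1, 1, 5, 5, 1, 1, 5, 5, 1, 1, 4, 0, 0, 4, 4, 0, 0, 4, 4]
def rw6481 : List ℕ := [4, 4, 0, 4, 5, 5, 1, 5, 5, 1, 1, 5, 1, 5, 5, 1, 1, 4, 0, 0, 4, 4, 0, 4, 0, 0]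
def rw6482 : List ℕ := [4, 4, 0, 4, 7, 5, 1, 5, 5, 1, 1, 5, 1, 5, 5, 1, 1, 6, 0, 0, 4, 4, 0, 4, 0, 0]
def rw6483 : List ℕ := [1, 3, 1, 4, 1, 5, 0, 2, 0, 5, 1, 3, 1, 5, 1, 3, 1, 0, 0, 2, 0, 4, 0, 2, 0, 4]
def rw6484 : List ℕ := [0, 2, 4, 1, 5, 3, 1, 3, 5, 1, 3, 1, 5, 1, 3, 1, 0, 0, 2, 0, 4, 0, 2, 0, 4, 2]
def rw6485 : List ℕ := [3, 0, 4, 4, 3, 4, 4, 0, 3, 1, 0, 0, 2, 1, 5, 5, 2, 5, 5, 1, 2, 0, 4, 1, 5, 1]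
def rw6486 : List ℕ := [0, 3, 1, 4, 0, 2, 1, 5, 5, 2, 5, 5, 1, 2, 0, 4, 5, 5, 1, 3, 0, 4, 4, 3, 4, 4]
def rw6487 : List ℕ := [5, 3, 1, 4, 1, 3, 5, 3, 1, 4, 0, 2, 4, 2, 0, 5, 0, 2, 4, 2, 0, 5, 5, 4, 1, 3]
def rw6488 : List ℕ := [4, 1, 4, 2, 4, 3, 1, 3, 7, 2, 0, 2, 5, 3, 5, 0, 5, 3, 5, 3, 1, 6, 0, 2, 4, 2]
def rw6489 : List ℕ := [4, 3, 1, 4, 3, 1, 4, 3, 1, 2, 0, 2, 5, 0, 2, 5, 0, 2, 5, 0, 2, 5, 3, 4, 3, 1]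
def rw6490 : List ℕ := [0, 3, 4, 3, 1, 0, 0, 2, 5, 2, 1, 2, 1, 2, 2, 2, 5, 5, 1, 4, 4, 3, 3, 3, 0, 3]
def rw6491 : List ℕ := [3, 3, 3, 0, 3, 0, 3, 4, 3, 1, 6, 0, 2, 5, 2, 1, 2, 1, 2, 2, 2, 5, 5, 7, 4, 4]
def rw6492 : List ℕ := [3, 4, 2, 4, 2, 4, 3, 1, 4, 0, 2, 5, 3, 5, 3, 5, 2, 0, 5, 3, 5, 5, 4, 2, 4, 1]
def rw6493 : List ℕ := [4, 4, 3, 1, 4, 0, 2, 5, 5, 2, 5, 5, 1, 2, 0, 4, 3, 5, 2, 5, 1, 3, 0, 4, 4, 3]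
def rw6494 : List ℕ := [2, 1, 0, 0, 3, 0, 3, 3, 3, 4, 4, 1, 3, 4, 3, 1, 2, 5, 2, 0, 5, 5, 2, 2, 2, 1]
def rw6495 : List ℕ := [4, 4, 1, 4, 1, 4, 3, 5, 0, 5, 0, 5, 5, 5, 0, 5, 0, 5, 1, 2, 0, 4, 1, 4, 1, 4]
def rw6496 : List ℕ := [5, 0, 4, 4, 2, 2, 5, 5, 4, 3, 3, 5, 5, 1, 4, 3, 3, 5, 5, 1, 4, 0, 4, 4, 2, 2]
def rw6497 : List ℕ := [3, 5, 5, 1, 4, 0, 4, 4, 2, 2, 5, 0, 4, 4, 2, 2, 5, 5, 4, 3, 3, 5, 5, 1, 4, 3]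
def rw6498 : List ℕ := [3, 4, 1, 5, 5, 3, 3, 4, 1, 4, 0, 5, 2, 2, 4, 4, 0, 5, 2, 2, 4, 4, 5, 5, 5, 3]
def rw6499 : List ℕ := [3, 4, 3, 5, 3, 5, 3, 3, 3, 0, 2, 2, 2, 4, 2, 4, 2, 5, 2, 4, 2, 4, 1, 5, 3, 5]
def rw6500 : List ℕ := [4, 4, 2, 2, 4, 4, 1, 5, 5, 3, 3, 5, 5, 3, 3, 5, 5, 3, 3, 0, 2, 2, 4, 4, 2, 2]
def rw6501 : List ℕ := [7, 5, 6, 5, 2, 5, 5, 3, 5, 2, 7, 4, 1, 4, 0, 5, 6, 3, 4, 2, 4, 4, 3, 4]
def rw6502 : List ℕ := [6, 3, 4, 2, 4, 4, 3, 4, 7, 7, 6, 5, 2, 5, 5, 3, 5, 2, 7, 4, 1, 6, 0, 5]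
def rw6503 : List ℕ := [0, 6, 3, 6, 0, 6, 1, 3, 1, 4, 0, 2, 0, 7, 1, 7, 2, 7, 1, 7, 1, 3, 5, 2, 0, 6]
def rw6504 : List ℕ := [4, 3, 1, 7, 4, 7, 2, 7, 3, 6, 3, 6, 5, 6, 0, 2, 5, 6, 1, 3, 1, 2, 0, 2, 0, 7]
def rw6505 : List ℕ := [7, 5, 6, 3, 6, 5, 6, 0, 2, 5, 6, 1, 3, 1, 4, 0, 2, 0, 7, 4, 3, 1, 7, 4, 7, 2]
def rw6506 : List ℕ := [6, 3, 6, 3, 1, 7, 4, 3, 1, 0, 0, 2, 5, 6, 0, 2, 7, 2, 7, 1, 5, 6, 1, 7, 4, 0]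
def rw6507 : List ℕ := [6, 3, 6, 3, 1, 7, 4, 3, 1, 2, 0, 2, 5, 6, 0, 2, 7, 2, 7, 1, 5, 6, 3, 7, 4, 0]
def rw6508 : List ℕ := [4, 3, 1, 2, 0, 2, 5, 6, 2, 0, 2, 6, 3, 6, 5, 6, 3, 7, 4, 7, 2, 7, 3, 1, 3, 7]
def rw6509 : List ℕ := [2, 0, 7, 5, 6, 1, 3, 7, 0, 2, 6, 2, 0, 7, 3, 1, 4, 0, 2, 6, 1, 3, 7, 3, 1, 6]
def rw6510 : List ℕ := [1, 6, 0, 2, 6, 3, 4, 2, 4, 2, 0, 5, 2, 7, 7, 6, 3, 4, 1, 3, 5, 3, 5, 2, 7, 3]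
def rw6511 : List ℕ := [4, 1, 5, 6, 3, 6, 3, 4, 3, 6, 3, 6, 3, 1, 0, 0, 2, 7, 2, 7, 2, 5, 2, 7, 2, 7]
def rw6512 : List ℕ := [6, 3, 6, 3, 4, 3, 6, 3, 6, 3, 1, 4, 0, 2, 7, 2, 7, 2, 5, 2, 7, 2, 7, 4, 5, 5]
def rw6513 : List ℕ := [4, 6, 2, 5, 1, 7, 4, 6, 2, 5, 1, 0, 0, 4, 3, 7, 5, 6, 0, 4, 3, 7, 5, 6, 1, 7]
def rw6514 : List ℕ := [2, 5, 1, 2, 0, 4, 3, 7, 5, 6, 0, 4, 3, 7, 5, 6, 3, 7, 4, 6, 2, 5, 1, 7, 4, 6]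
def rw6515 : List ℕ := [4, 6, 2, 5, 1, 6, 0, 4, 3, 7, 5, 6, 0, 4, 3, 7, 5, 6, 7, 7, 4, 6, 2, 5, 1, 7]
def rw6516 : List ℕ := [7, 2, 7, 5, 2, 7, 7, 1, 6, 6, 3, 4, 6, 3, 6, 6, 3, 4, 6, 3, 0, 2, 7, 5, 2, 7]
def rw6517 : List ℕ := [5, 2, 7, 7, 2, 7, 5, 2, 7, 7, 5, 6, 6, 3, 4, 6, 3, 6, 6, 3, 4, 6, 3, 4, 2, 7]
def rw6518 : List ℕ := [5, 5, 1, 1, 0, 0, 0, 4, 4, 0, 0, 5, 7, 3, 1, 6, 3, 3, 1, 2, 2, 7, 0, 2, 6, 4, 1, 1]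
def rw6519 : List ℕ := [6, 5, 1, 1, 0, 0, 0, 4, 7, 0, 6, 3, 6, 6, 5, 5, 0, 5, 1, 4, 1, 4, 4, 7, 7, 2, 7, 1]
def rw6520 : List ℕ := [6, 3, 6, 6, 5, 5, 0, 5, 5, 4, 1, 4, 4, 7, 7, 2, 7, 1, 6, 5, 1, 1, 4, 0, 0, 4, 7, 0]
def rw6521 : List ℕ := [3, 6, 6, 5, 1, 1, 2, 0, 0, 4, 7, 7, 2, 7, 1, 6, 5, 5, 0, 5, 3, 4, 1, 4, 4, 7, 0, 6]
def rw6522 : List ℕ := [6, 5, 1, 1, 4, 0, 0, 4, 7, 7, 2, 7, 1, 6, 5, 5, 0, 5, 5, 4, 1, 4, 4, 7, 0, 6, 3, 6]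
def rw6523 : List ℕ := [2, 7, 7, 1, 7, 2, 6, 3, 1, 4, 1, 1, 0, 0, 0, 5, 0, 2, 7, 3, 6, 0, 6, 6, 3, 5, 1, 4]
def rw6524 : List ℕ := [6, 3, 5, 5, 4, 2, 7, 7, 1, 7, 2, 6, 3, 1, 4, 1, 1, 4, 0, 0, 5, 0, 2, 7, 3, 6, 0, 6]
def rw6525 : List ℕ := [7, 2, 6, 3, 1, 4, 1, 1, 4, 0, 0, 5, 0, 2, 7, 3, 6, 0, 6, 6, 3, 5, 5, 4, 2, 7, 7, 1]
def rw6526 : List ℕ := [1, 7, 2, 6, 3, 1, 4, 1, 1, 4, 0, 0, 5, 0, 2, 7, 3, 6, 0, 6, 6, 3, 5, 5, 4, 2, 7, 7]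
def rw6527 : List ℕ := [7, 2, 6, 3, 5, 1, 4, 2, 7, 3, 6, 0, 6, 6, 3, 1, 4, 1, 1, 0, 0, 0, 5, 0, 2, 7, 7, 1]
def rw6528 : List ℕ := [0, 6, 6, 3, 1, 4, 1, 1, 4, 0, 0, 5, 0, 2, 7, 7, 1, 7, 2, 6, 3, 5, 5, 4, 2, 7, 3, 6]
def rw6529 : List ℕ := [6, 0, 6, 6, 3, 1, 4, 1, 1, 4, 0, 0, 5, 0, 2, 7, 7, 1, 7, 2, 6, 3, 5, 5, 4, 2, 7, 3]
def rw6530 : List ℕ := [6, 2, 0, 5, 1, 4, 1, 3, 7, 7, 1, 7, 2, 6, 2, 4, 1, 1, 0, 0, 0, 5, 3, 7, 3, 6, 0, 6]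
def rw6531 : List ℕ := [7, 7, 1, 7, 2, 6, 2, 4, 1, 1, 4, 0, 0, 5, 3, 7, 3, 6, 0, 6, 6, 2, 0, 5, 5, 4, 1, 3]
def rw6532 : List ℕ := [2, 6, 2, 4, 1, 1, 6, 0, 0, 5, 3, 7, 3, 6, 0, 6, 6, 2, 0, 5, 7, 4, 1, 3, 7, 7, 1, 7]
def rw6533 : List ℕ := [3, 6, 0, 6, 6, 2, 4, 1, 1, 4, 0, 0, 5, 3, 7, 7, 1, 7, 2, 6, 2, 0, 5, 5, 4, 1, 3, 7]
def rw6534 : List ℕ := [4, 1, 3, 1, 2, 0, 2, 0, 5, 6, 3, 5, 0, 5, 0, 3, 4, 7, 3, 6, 5, 2, 1, 4, 1, 4, 2, 7]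
def rw6535 : List ℕ := [7, 3, 6, 5, 1, 3, 0, 5, 0, 5, 7, 4, 1, 3, 1, 2, 0, 2, 0, 5, 6, 4, 1, 4, 1, 2, 0, 4]
def rw6536 : List ℕ := [0, 6, 3, 5, 7, 2, 7, 2, 2, 7, 7, 3, 6, 6, 3, 3, 6, 3, 6, 4, 2, 7, 1, 3, 1, 2, 0, 2]
def rw6537 : List ℕ := [6, 5, 1, 3, 0, 5, 0, 5, 7, 4, 3, 5, 6, 4, 1, 4, 1, 2, 0, 4, 7, 1, 3, 1, 2, 0, 2, 0]
def rw6538 : List ℕ := [2, 0, 6, 5, 1, 3, 0, 5, 0, 5, 7, 4, 5, 5, 6, 4, 1, 4, 1, 2, 0, 4, 7, 1, 3, 1, 4, 0]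
def rw6539 : List ℕ := [3, 1, 0, 0, 2, 0, 6, 5, 2, 1, 3, 5, 0, 5, 7, 4, 1, 5, 6, 4, 1, 4, 2, 0, 3, 4, 7, 1]
def rw6540 : List ℕ := [1, 4, 2, 7, 4, 7, 5, 6, 3, 5, 0, 5, 0, 3, 4, 7, 1, 3, 1, 6, 0, 2, 0, 6, 5, 2, 1, 4]
def rw6541 : List ℕ := [3, 6, 6, 1, 3, 1, 4, 0, 2, 0, 7, 7, 2, 7, 2, 0, 6, 2, 7, 4, 5, 5, 6, 3, 7, 1, 3, 6]
def rw6542 : List ℕ := [6, 2, 7, 4, 5, 5, 6, 3, 7, 1, 3, 6, 3, 6, 6, 1, 3, 1, 4, 0, 2, 0, 7, 7, 2, 7, 2, 0]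
def rw6543 : List ℕ := [1, 7, 1, 6, 1, 5, 5, 1, 3, 4, 6, 1, 7, 5, 2, 0, 4, 4, 0, 7, 0, 6, 0, 3, 1, 0, 0, 2]
def rw6544 : List ℕ := [7, 3, 5, 6, 3, 3, 1, 0, 0, 2, 2, 7, 4, 2, 6, 5, 2, 5, 2, 0, 5, 1, 4, 1, 3, 4, 3, 4]
def rw6545 : List ℕ := [2, 6, 5, 2, 5, 2, 0, 5, 7, 4, 1, 3, 4, 3, 4, 7, 3, 5, 6, 3, 3, 1, 6, 0, 2, 2, 7, 4]
def rw6546 : List ℕ := [7, 3, 5, 6, 3, 3, 1, 6, 0, 2, 2, 7, 4, 2, 6, 5, 2, 5, 2, 0, 5, 7, 4, 1, 3, 4, 3, 4]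
def rw6547 : List ℕ := [3, 1, 7, 4, 3, 4, 1, 5, 2, 5, 6, 0, 2, 6, 6, 5, 2, 5, 3, 1, 0, 0, 2, 4, 3, 4, 7, 7]
def rw6548 : List ℕ := [4, 3, 4, 3, 5, 2, 5, 6, 0, 2, 6, 6, 5, 2, 5, 3, 1, 2, 0, 2, 4, 3, 4, 7, 7, 3, 1, 7]
def rw6549 : List ℕ := [7, 4, 3, 4, 3, 5, 2, 5, 6, 0, 2, 6, 6, 5, 2, 5, 3, 1, 2, 0, 2, 4, 3, 4, 7, 7, 3, 1]
def rw6550 : List ℕ := [7, 4, 3, 4, 7, 5, 2, 5, 6, 0, 2, 6, 6, 5, 2, 5, 3, 1, 6, 0, 2, 4, 3, 4, 7, 7, 3, 1]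
def rw6551 : List ℕ := [7, 4, 2, 7, 1, 4, 3, 1, 0, 0, 2, 5, 0, 6, 3, 5, 6, 0, 2, 5, 1, 6, 1, 7, 0, 4, 3, 1]
def rw6552 : List ℕ := [7, 4, 2, 7, 1, 4, 3, 1, 4, 0, 2, 5, 0, 6, 3, 5, 6, 0, 2, 5, 1, 6, 5, 7, 0, 4, 3, 1]
def rw6553 : List ℕ := [7, 1, 4, 3, 1, 6, 0, 2, 5, 0, 6, 3, 5, 6, 0, 2, 5, 1, 6, 7, 7, 0, 4, 3, 1, 7, 4, 2]
def rw6554 : List ℕ := [6, 4, 2, 2, 5, 1, 4, 3, 3, 5, 7, 0, 6, 2, 7, 3, 4, 3, 1, 0, 0, 2, 5, 2, 6, 3, 7, 1]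
def rw6555 : List ℕ := [3, 4, 3, 1, 2, 0, 2, 5, 2, 6, 3, 7, 1, 6, 4, 2, 2, 5, 3, 4, 3, 3, 5, 7, 0, 6, 2, 7]
def rw6556 : List ℕ := [7, 2, 5, 2, 1, 4, 1, 4, 6, 3, 4, 3, 1, 2, 0, 2, 5, 2, 7, 5, 0, 5, 0, 3, 4, 3, 6, 3]
def rw6557 : List ℕ := [3, 6, 6, 3, 3, 6, 3, 6, 4, 2, 7, 3, 1, 4, 0, 2, 6, 3, 5, 7, 2, 7, 2, 2, 7, 7, 2, 5]
def rw6558 : List ℕ := [5, 1, 3, 0, 5, 0, 5, 7, 4, 2, 5, 3, 5, 6, 4, 1, 4, 1, 2, 0, 4, 7, 3, 1, 4, 0, 2, 6]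
def rw6559 : List ℕ := [5, 1, 3, 0, 5, 0, 5, 7, 4, 2, 7, 3, 5, 6, 4, 1, 4, 1, 2, 0, 4, 7, 3, 1, 6, 0, 2, 6]
def rw6560 : List ℕ := [6, 6, 3, 6, 3, 3, 5, 2, 7, 4, 6, 1, 7, 5, 6, 3, 4, 2, 2, 7, 2, 7, 7, 3, 1, 0, 0, 2]
def rw6561 : List ℕ := [4, 6, 5, 7, 5, 6, 3, 4, 2, 2, 7, 2, 7, 7, 3, 1, 4, 0, 2, 6, 6, 3, 6, 3, 3, 5, 2, 7]
def rw6562 : List ℕ := [1, 6, 1, 5, 5, 1, 3, 4, 6, 3, 1, 2, 7, 5, 2, 0, 4, 4, 0, 7, 0, 6, 3, 1, 0, 0, 2, 7]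
def rw6563 : List ℕ := [6, 1, 5, 5, 1, 3, 4, 6, 3, 7, 2, 7, 5, 2, 0, 4, 4, 0, 7, 0, 6, 3, 1, 6, 0, 2, 7, 1]
def rw6564 : List ℕ := [7, 5, 6, 5, 2, 5, 2, 5, 1, 0, 0, 4, 3, 4, 3, 4, 7, 4, 6, 2, 7, 4, 4, 1, 5, 5, 6, 3]
def rw6565 : List ℕ := [4, 6, 2, 7, 4, 4, 1, 5, 5, 6, 3, 7, 5, 6, 5, 2, 5, 2, 5, 1, 0, 0, 4, 3, 4, 3, 4, 7]
def rw6566 : List ℕ := [7, 4, 4, 3, 5, 5, 6, 3, 7, 5, 6, 5, 2, 5, 2, 5, 1, 2, 0, 4, 3, 4, 3, 4, 7, 4, 6, 2]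
def rw6567 : List ℕ := [3, 4, 7, 4, 6, 2, 7, 4, 4, 3, 5, 5, 6, 3, 7, 5, 6, 5, 2, 5, 2, 5, 1, 2, 0, 4, 3, 4]
def rw6568 : List ℕ := [7, 4, 6, 2, 7, 4, 4, 3, 5, 5, 6, 3, 7, 5, 6, 5, 2, 5, 2, 5, 1, 2, 0, 4, 3, 4, 3, 4]
def rw6569 : List ℕ := [2, 7, 4, 4, 5, 5, 5, 6, 3, 7, 5, 6, 5, 2, 5, 2, 5, 1, 4, 0, 4, 3, 4, 3, 4, 7, 4, 6]
def rw6570 : List ℕ := [6, 2, 7, 4, 4, 7, 5, 5, 6, 3, 7, 5, 6, 5, 2, 5, 2, 5, 1, 6, 0, 4, 3, 4, 3, 4, 7, 4]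
def rw6571 : List ℕ := [2, 7, 2, 0, 4, 7, 7, 6, 5, 1, 3, 6, 3, 4, 6, 2, 5, 2, 5, 1, 6, 0, 4, 3, 4, 3, 7, 5]
def rw6572 : List ℕ := [4, 1, 2, 7, 4, 1, 6, 5, 2, 5, 1, 0, 0, 4, 3, 4, 7, 0, 5, 6, 3, 0, 5, 3, 5, 1, 4, 2]
def rw6573 : List ℕ := [6, 1, 7, 0, 5, 2, 7, 5, 1, 0, 0, 4, 6, 3, 4, 1, 6, 0, 7, 7, 2, 6, 3, 1, 2, 7, 3, 6]
def rw6574 : List ℕ := [7, 7, 2, 6, 3, 1, 2, 7, 3, 6, 6, 1, 7, 0, 5, 2, 7, 5, 1, 0, 0, 4, 6, 3, 4, 1, 6, 0]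
def rw6575 : List ℕ := [7, 2, 6, 3, 5, 2, 7, 3, 6, 6, 1, 7, 0, 5, 2, 7, 5, 1, 4, 0, 4, 6, 3, 4, 1, 6, 0, 7]
def rw6576 : List ℕ := [1, 4, 1, 6, 5, 1, 0, 0, 4, 7, 0, 5, 0, 5, 7, 4, 3, 4, 7, 2, 1, 3, 6, 5, 2, 5, 6, 4]
def rw6577 : List ℕ := [5, 1, 4, 0, 4, 7, 0, 5, 0, 5, 7, 4, 3, 4, 7, 2, 5, 3, 6, 5, 2, 5, 6, 4, 1, 4, 1, 6]
def rw6578 : List ℕ := [7, 0, 6, 3, 6, 6, 1, 4, 1, 4, 4, 1, 5, 5, 0, 5, 0, 7, 7, 2, 7, 1, 6, 5, 1, 0, 0, 4]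
def rw6579 : List ℕ := [6, 5, 1, 0, 0, 4, 7, 7, 2, 7, 1, 6, 1, 4, 1, 4, 4, 1, 5, 5, 0, 5, 0, 7, 0, 6, 3, 6]
def rw6580 : List ℕ := [5, 6, 3, 3, 5, 2, 2, 4, 2, 4, 4, 7, 1, 6, 5, 5, 3, 5, 3, 3, 4, 2, 2, 7, 4, 1, 0, 0]
def rw6581 : List ℕ := [2, 4, 4, 3, 4, 2, 2, 7, 4, 1, 2, 0, 5, 6, 3, 3, 5, 2, 5, 5, 3, 5, 3, 7, 3, 6, 2, 4]
def rw6582 : List ℕ := [4, 1, 2, 0, 5, 6, 3, 3, 5, 2, 5, 5, 3, 5, 3, 7, 3, 6, 2, 4, 2, 4, 4, 3, 4, 2, 2, 7]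
def rw6583 : List ℕ := [2, 7, 1, 4, 6, 2, 7, 4, 1, 4, 0, 5, 6, 3, 7, 5, 0, 6, 3, 6, 6, 3, 4, 5, 5, 2, 7, 7]
def rw6584 : List ℕ := [4, 6, 2, 7, 4, 1, 4, 0, 5, 6, 3, 7, 5, 0, 6, 3, 6, 6, 3, 4, 5, 5, 2, 7, 7, 2, 7, 1]
def rw6585 : List ℕ := [4, 6, 2, 7, 4, 1, 4, 0, 5, 6, 3, 7, 5, 7, 2, 7, 1, 6, 3, 4, 5, 5, 2, 7, 0, 6, 3, 6]
def rw6586 : List ℕ := [4, 6, 2, 7, 4, 1, 6, 0, 5, 6, 3, 7, 5, 7, 2, 7, 1, 6, 3, 4, 7, 5, 2, 7, 0, 6, 3, 6]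
def rw6587 : List ℕ := [4, 2, 4, 2, 5, 3, 4, 3, 4, 7, 7, 6, 5, 2, 5, 2, 4, 3, 5, 3, 5, 7, 4, 1, 6, 0, 5, 6]
def rw6588 : List ℕ := [6, 3, 3, 3, 4, 2, 2, 2, 7, 7, 2, 2, 7, 7, 4, 2, 6, 4, 5, 5, 7, 3, 5, 6, 6, 3, 3, 6]
def rw6589 : List ℕ := [6, 3, 6, 0, 6, 4, 1, 4, 2, 4, 1, 6, 0, 5, 3, 5, 0, 5, 7, 1, 7, 2, 7, 1, 7, 5, 7, 4, 6, 0]
def rw6590 : List ℕ := [7, 2, 7, 1, 4, 3, 6, 3, 6, 5, 1, 4, 0, 4, 7, 2, 7, 2, 5, 0, 6, 3, 6, 2, 5, 2, 5, 3, 4, 3]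
def rw6591 : List ℕ := [5, 7, 3, 5, 6, 2, 2, 2, 4, 3, 5, 3, 3, 3, 7, 4, 2, 6, 4, 0, 5, 3, 5, 1, 2, 0, 4, 2, 4, 1]
def rw6592 : List ℕ := [3, 5, 1, 4, 0, 4, 2, 4, 1, 5, 7, 3, 5, 6, 2, 2, 2, 4, 5, 5, 3, 3, 3, 7, 4, 2, 6, 4, 0, 5]
def rw6593 : List ℕ := [7, 2, 0, 6, 6, 4, 3, 4, 4, 1, 5, 5, 2, 5, 7, 7, 1, 3, 6, 6, 3, 3, 1, 1, 0, 0, 0, 2, 2, 7]
def rw6594 : List ℕ := [6, 6, 4, 3, 4, 4, 3, 5, 5, 2, 5, 7, 7, 1, 3, 6, 6, 3, 3, 1, 1, 2, 0, 0, 2, 2, 7, 7, 2, 0]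
def rw6595 : List ℕ := [6, 3, 3, 1, 1, 2, 0, 0, 2, 2, 7, 7, 2, 0, 6, 6, 4, 3, 4, 4, 3, 5, 5, 2, 5, 7, 7, 1, 3, 6]
def rw6596 : List ℕ := [2, 7, 7, 2, 0, 6, 6, 4, 3, 4, 4, 7, 5, 5, 2, 5, 7, 7, 1, 3, 6, 6, 3, 3, 1, 1, 6, 0, 0, 2]
def rw6597 : List ℕ := [2, 7, 0, 2, 0, 7, 4, 1, 3, 1, 6, 0, 2, 0, 5, 6, 1, 3, 1, 6, 3, 6, 5, 6, 3, 7, 2, 7, 4, 7]
def rw6598 : List ℕ := [4, 3, 4, 2, 7, 4, 2, 3, 3, 5, 6, 3, 5, 2, 5, 2, 6, 6, 3, 0, 5, 1, 2, 0, 4, 1, 2, 7, 7, 3]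
def rw6599 : List ℕ := [4, 2, 3, 3, 5, 6, 3, 5, 2, 5, 2, 6, 6, 3, 0, 5, 1, 2, 0, 4, 1, 2, 7, 7, 3, 4, 3, 4, 2, 7]
def rw6600 : List ℕ := [7, 3, 4, 3, 4, 2, 7, 4, 2, 5, 3, 5, 6, 3, 5, 2, 5, 2, 6, 6, 3, 0, 5, 1, 4, 0, 4, 1, 2, 7]
def rw6601 : List ℕ := [3, 4, 3, 4, 3, 6, 5, 7, 2, 5, 2, 5, 2, 6, 0, 4, 3, 4, 3, 3, 1, 4, 0, 2, 2, 5, 2, 5, 1, 7]
def rw6602 : List ℕ := [4, 7, 2, 7, 3, 3, 1, 0, 0, 2, 2, 6, 3, 6, 5, 6, 0, 2, 5, 6, 1, 2, 1, 3, 0, 7, 4, 3, 1, 7]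
def rw6603 : List ℕ := [3, 3, 1, 4, 0, 2, 2, 6, 3, 6, 5, 6, 0, 2, 5, 6, 1, 2, 5, 3, 0, 7, 4, 3, 1, 7, 4, 7, 2, 7]
def rw6604 : List ℕ := [3, 1, 7, 4, 0, 3, 1, 2, 0, 2, 1, 5, 6, 0, 2, 7, 2, 7, 1, 5, 6, 2, 3, 3, 7, 4, 0, 6, 3, 6]
def rw6605 : List ℕ := [4, 0, 6, 3, 6, 3, 1, 7, 4, 0, 3, 1, 6, 0, 2, 1, 5, 6, 0, 2, 7, 2, 7, 1, 5, 6, 2, 7, 3, 7]
def rw6606 : List ℕ := [2, 4, 4, 1, 5, 5, 1, 4, 0, 4, 4, 0, 5, 5, 3, 7, 5, 6, 0, 4, 7, 5, 5, 4, 6, 5, 1, 7, 4, 6]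
def rw6607 : List ℕ := [6, 0, 4, 7, 5, 7, 4, 6, 5, 1, 7, 4, 6, 2, 4, 4, 1, 5, 5, 1, 6, 0, 4, 4, 0, 5, 5, 3, 7, 5]
def rw6608 : List ℕ := [7, 4, 2, 4, 1, 2, 7, 1, 6, 3, 0, 5, 3, 5, 6, 3, 6, 3, 6, 3, 4, 1, 0, 0, 5, 2, 7, 2, 7, 2]
def rw6609 : List ℕ := [2, 7, 4, 2, 4, 1, 2, 7, 1, 6, 3, 0, 5, 3, 5, 6, 3, 6, 3, 6, 3, 4, 1, 0, 0, 5, 2, 7, 2, 7]
def rw6610 : List ℕ := [1, 4, 2, 0, 5, 0, 2, 6, 5, 7, 3, 1, 4, 1, 3, 5, 0, 2, 6, 3, 3, 3, 1, 4, 0, 2, 2, 2, 7, 3]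
def rw6611 : List ℕ := [0, 2, 6, 3, 3, 3, 1, 4, 0, 2, 2, 2, 7, 3, 1, 4, 2, 0, 5, 0, 2, 6, 5, 7, 3, 1, 4, 1, 3, 5]
def rw6612 : List ℕ := [2, 6, 4, 3, 4, 1, 5, 2, 1, 6, 3, 7, 0, 3, 4, 0, 5, 2, 5, 7, 3, 6, 4, 3, 1, 2, 0, 2, 5, 7]
def rw6613 : List ℕ := [2, 2, 7, 3, 7, 2, 7, 2, 1, 3, 6, 3, 6, 2, 6, 3, 3, 5, 6, 3, 3, 5, 1, 0, 0, 4, 2, 2, 7, 4]
def rw6614 : List ℕ := [7, 4, 2, 2, 7, 3, 7, 2, 7, 2, 5, 3, 6, 3, 6, 2, 6, 3, 3, 5, 6, 3, 3, 5, 1, 4, 0, 4, 2, 2]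
def rw6615 : List ℕ := [3, 6, 3, 6, 5, 1, 5, 2, 5, 1, 0, 0, 4, 3, 4, 0, 4, 7, 2, 7, 2, 7, 2, 7, 4, 1, 5, 6, 3, 6]
def rw6616 : List ℕ := [3, 6, 5, 1, 5, 2, 5, 1, 0, 0, 4, 3, 4, 0, 4, 7, 2, 7, 2, 7, 2, 7, 4, 1, 5, 6, 3, 6, 3, 6]
def rw6617 : List ℕ := [6, 3, 6, 5, 1, 5, 2, 5, 1, 2, 0, 4, 3, 4, 0, 4, 7, 2, 7, 2, 7, 2, 7, 4, 3, 5, 6, 3, 6, 3]
def rw6618 : List ℕ := [4, 0, 4, 7, 2, 7, 2, 7, 2, 7, 4, 3, 5, 6, 3, 6, 3, 6, 3, 6, 5, 1, 5, 2, 5, 1, 2, 0, 4, 3]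
def rw6619 : List ℕ := [2, 7, 1, 4, 1, 3, 5, 7, 2, 7, 5, 1, 4, 6, 3, 6, 4, 2, 0, 5, 0, 6, 3, 6, 3, 1, 0, 0, 2, 7]
def rw6620 : List ℕ := [2, 7, 5, 5, 4, 6, 3, 6, 4, 2, 0, 5, 0, 6, 3, 6, 3, 1, 4, 0, 2, 7, 2, 7, 1, 4, 1, 3, 5, 7]
def rw6621 : List ℕ := [1, 6, 0, 2, 7, 2, 7, 1, 4, 1, 3, 5, 7, 2, 7, 5, 7, 4, 6, 3, 6, 4, 2, 0, 5, 0, 6, 3, 6, 3]
def rw6622 : List ℕ := [2, 6, 3, 0, 5, 3, 3, 1, 6, 0, 2, 2, 4, 1, 2, 7, 3, 1, 6, 0, 2, 5, 2, 7, 3, 4, 3, 1, 7, 0]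
def rw6623 : List ℕ := [4, 3, 4, 2, 5, 3, 4, 3, 5, 2, 5, 2, 4, 7, 0, 5, 6, 1, 2, 1, 2, 0, 3, 0, 7, 4, 1, 6, 5, 3]
def rw6624 : List ℕ := [7, 4, 1, 6, 5, 3, 4, 3, 4, 2, 5, 5, 4, 3, 5, 2, 5, 2, 4, 7, 0, 5, 6, 1, 2, 1, 4, 0, 3, 0]
def rw6625 : List ℕ := [4, 2, 6, 6, 6, 3, 7, 3, 4, 3, 5, 2, 6, 2, 7, 7, 7, 3, 5, 5, 6, 6, 3, 3, 2, 2, 2, 7, 7, 4]
def rw6626 : List ℕ := [4, 4, 2, 6, 6, 6, 3, 7, 3, 4, 3, 5, 2, 6, 2, 7, 7, 7, 3, 5, 5, 6, 6, 3, 3, 2, 2, 2, 7, 7]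
def rw6627 : List ℕ := [6, 6, 3, 7, 3, 4, 5, 5, 2, 6, 2, 7, 7, 7, 3, 5, 5, 6, 6, 3, 3, 4, 2, 2, 7, 7, 4, 4, 2, 6]
def rw6628 : List ℕ := [6, 3, 7, 3, 4, 5, 5, 2, 6, 2, 7, 7, 7, 3, 5, 5, 6, 6, 3, 3, 4, 2, 2, 7, 7, 4, 4, 2, 6, 6]
def rw6629 : List ℕ := [6, 3, 7, 3, 4, 7, 5, 2, 6, 2, 7, 7, 7, 3, 5, 5, 6, 6, 3, 3, 6, 2, 2, 7, 7, 4, 4, 2, 6, 6]
def rw6630 : List ℕ := [0, 2, 2, 7, 4, 1, 4, 1, 5, 0, 5, 6, 3, 3, 1, 2, 7, 3, 5, 1, 3, 1, 0, 0, 2, 0, 4, 2, 6, 3]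
def rw6631 : List ℕ := [6, 3, 3, 1, 2, 7, 3, 5, 1, 3, 1, 0, 0, 2, 0, 4, 2, 6, 3, 0, 2, 2, 7, 4, 1, 4, 1, 5, 0, 5]
def rw6632 : List ℕ := [7, 4, 7, 4, 0, 2, 5, 6, 1, 3, 1, 0, 0, 2, 0, 7, 4, 3, 1, 5, 6, 5, 6, 5, 2, 7, 1, 6, 3, 4]
def rw6633 : List ℕ := [5, 6, 5, 2, 7, 5, 6, 3, 4, 7, 4, 7, 4, 0, 2, 5, 6, 1, 3, 1, 4, 0, 2, 0, 7, 4, 3, 1, 5, 6]
def rw6634 : List ℕ := [6, 3, 4, 3, 6, 3, 6, 3, 7, 2, 7, 2, 5, 2, 7, 2, 7, 4, 1, 3, 1, 1, 2, 0, 0, 2, 0, 5, 6, 3]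
def rw6635 : List ℕ := [0, 2, 6, 4, 1, 5, 7, 3, 1, 6, 4, 4, 0, 3, 4, 4, 1, 1, 1, 0, 0, 0, 0, 5, 5, 2, 1, 5, 5, 7]
def rw6636 : List ℕ := [2, 1, 5, 5, 7, 0, 2, 6, 4, 1, 5, 7, 3, 1, 6, 4, 4, 0, 3, 4, 4, 1, 1, 1, 0, 0, 0, 0, 5, 5]
def rw6637 : List ℕ := [0, 2, 1, 5, 6, 2, 0, 2, 6, 3, 6, 5, 6, 2, 1, 3, 7, 4, 7, 2, 7, 3, 1, 3, 7, 4, 0, 3, 1, 0]
def rw6638 : List ℕ := [6, 5, 2, 0, 6, 3, 7, 1, 3, 4, 7, 1, 3, 6, 5, 2, 0, 6, 3, 1, 2, 0, 2, 7, 1, 3, 4, 7, 2, 0]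
def rw6639 : List ℕ := [6, 0, 4, 7, 2, 0, 4, 3, 6, 3, 7, 2, 5, 1, 3, 6, 5, 1, 7, 1, 5, 1, 3, 1, 2, 0, 2, 0, 4, 0]
def rw6640 : List ℕ := [0, 4, 7, 2, 0, 4, 3, 6, 5, 7, 2, 5, 1, 3, 6, 5, 1, 7, 1, 5, 1, 3, 1, 4, 0, 2, 0, 4, 0, 6]
def rw6641 : List ℕ := [4, 3, 6, 5, 7, 2, 5, 1, 3, 6, 5, 1, 7, 1, 5, 1, 3, 1, 4, 0, 2, 0, 4, 0, 6, 0, 4, 7, 2, 0]
def rw6642 : List ℕ := [4, 1, 3, 4, 7, 7, 2, 2, 7, 5, 3, 5, 5, 4, 2, 4, 6, 3, 3, 6, 6, 5, 2, 0, 5, 2, 1, 4, 0, 3]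
def rw6643 : List ℕ := [2, 4, 6, 6, 3, 1, 2, 7, 7, 5, 3, 0, 5, 6, 3, 3, 6, 4, 4, 1, 0, 0, 5, 5, 7, 2, 2, 7, 4, 1]
def rw6644 : List ℕ := [6, 6, 3, 3, 2, 7, 7, 5, 3, 0, 5, 6, 3, 3, 6, 4, 4, 1, 2, 0, 5, 5, 7, 2, 2, 7, 4, 1, 2, 4]
def rw6645 : List ℕ := [7, 5, 3, 0, 5, 6, 3, 3, 6, 4, 4, 1, 2, 0, 5, 5, 7, 2, 2, 7, 4, 1, 2, 4, 6, 6, 3, 3, 2, 7]
def rw6646 : List ℕ := [3, 0, 5, 6, 4, 6, 3, 6, 5, 7, 2, 7, 5, 7, 4, 1, 2, 7, 3, 3, 5, 3, 1, 4, 0, 2, 4, 2, 2, 6]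
def rw6647 : List ℕ := [2, 1, 2, 7, 4, 2, 0, 5, 1, 3, 1, 4, 0, 2, 0, 4, 1, 3, 5, 6, 3, 0, 3, 1, 7, 3, 5, 2, 6, 0]
def rw6648 : List ℕ := [1, 7, 3, 7, 2, 6, 0, 2, 1, 2, 7, 4, 2, 0, 5, 1, 3, 1, 6, 0, 2, 0, 4, 1, 3, 5, 6, 3, 0, 3]
def rw6649 : List ℕ := [5, 2, 5, 7, 3, 5, 3, 5, 7, 5, 6, 4, 2, 4, 2, 6, 4, 3, 4, 3, 4, 6, 3, 3, 4, 2, 2, 7, 5, 2]
def rw6650 : List ℕ := [6, 4, 3, 4, 3, 4, 6, 3, 3, 4, 2, 2, 7, 5, 2, 5, 2, 5, 7, 3, 5, 3, 5, 7, 5, 6, 4, 2, 4, 2]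
def rw6651 : List ℕ := [4, 3, 4, 3, 4, 6, 3, 3, 4, 2, 2, 7, 5, 2, 5, 2, 5, 7, 3, 5, 3, 5, 7, 5, 6, 4, 2, 4, 2, 6]
def rw6652 : List ℕ := [3, 4, 6, 3, 3, 6, 2, 2, 7, 5, 2, 5, 2, 5, 7, 3, 5, 3, 5, 7, 7, 6, 4, 2, 4, 2, 6, 4, 3, 4]
def rw6653 : List ℕ := [2, 2, 7, 0, 7, 2, 7, 1, 0, 0, 6, 3, 6, 1, 6, 3, 3, 5, 6, 3, 3, 5, 3, 1, 2, 4, 2, 2, 7, 4]
def rw6654 : List ℕ := [6, 0, 4, 1, 4, 3, 1, 2, 0, 2, 5, 0, 5, 1, 7, 2, 7, 2, 2, 6, 3, 6, 3, 7, 2, 7, 3, 3, 6, 3]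
def rw6655 : List ℕ := [3, 6, 0, 4, 1, 4, 3, 1, 4, 0, 2, 5, 0, 5, 1, 7, 2, 7, 2, 2, 6, 3, 6, 5, 7, 2, 7, 3, 3, 6]
def rw6656 : List ℕ := [4, 1, 6, 5, 7, 0, 5, 0, 4, 2, 4, 2, 4, 6, 3, 0, 3, 1, 4, 0, 2, 1, 2, 7, 5, 3, 5, 3, 5, 1]
def rw6657 : List ℕ := [6, 3, 0, 3, 1, 4, 0, 2, 1, 2, 7, 5, 3, 5, 3, 5, 1, 4, 1, 6, 5, 7, 0, 5, 0, 4, 2, 4, 2, 4]
def rw6658 : List ℕ := [7, 4, 2, 0, 5, 1, 3, 1, 0, 0, 2, 0, 4, 1, 3, 5, 6, 0, 2, 2, 2, 7, 3, 1, 2, 6, 3, 3, 3, 1]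
def rw6659 : List ℕ := [3, 1, 7, 4, 2, 0, 5, 1, 3, 1, 6, 0, 2, 0, 4, 1, 3, 5, 6, 0, 2, 2, 2, 7, 3, 7, 2, 6, 3, 3]
def rw6660 : List ℕ := [7, 4, 2, 2, 7, 1, 0, 0, 6, 3, 3, 5, 6, 3, 3, 5, 0, 7, 2, 7, 2, 1, 3, 6, 3, 6, 1, 4, 2, 2]
def rw6661 : List ℕ := [6, 3, 6, 1, 4, 2, 2, 7, 4, 2, 2, 7, 1, 6, 0, 6, 3, 3, 5, 6, 3, 3, 5, 0, 7, 2, 7, 2, 7, 3]
def rw6662 : List ℕ := [1, 4, 2, 4, 3, 4, 1, 0, 0, 5, 2, 5, 3, 5, 0, 6, 3, 3, 6, 6, 5, 2, 1, 3, 4, 7, 7, 2, 2, 7]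
def rw6663 : List ℕ := [7, 2, 2, 7, 1, 4, 2, 4, 3, 4, 1, 2, 0, 5, 2, 5, 3, 5, 0, 6, 3, 3, 6, 6, 5, 2, 3, 3, 4, 7]
def rw6664 : List ℕ := [2, 7, 1, 4, 2, 4, 3, 4, 1, 2, 0, 5, 2, 5, 3, 5, 0, 6, 3, 3, 6, 6, 5, 2, 3, 3, 4, 7, 7, 2]
def rw6665 : List ℕ := [2, 7, 1, 4, 2, 4, 3, 4, 1, 4, 0, 5, 2, 5, 3, 5, 0, 6, 3, 3, 6, 6, 5, 2, 5, 3, 4, 7, 7, 2]
def rw6666 : List ℕ := [7, 7, 2, 2, 7, 1, 4, 2, 4, 3, 4, 1, 4, 0, 5, 2, 5, 3, 5, 0, 6, 3, 3, 6, 6, 5, 2, 5, 3, 4]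
def rw6667 : List ℕ := [2, 7, 1, 4, 2, 4, 3, 4, 1, 6, 0, 5, 2, 5, 3, 5, 0, 6, 3, 3, 6, 6, 5, 2, 7, 3, 4, 7, 7, 2]
def rw6668 : List ℕ := [2, 6, 3, 4, 3, 5, 5, 0, 5, 3, 3, 5, 7, 1, 6, 4, 2, 2, 4, 1, 4, 4, 2, 5, 2, 7, 3, 1, 0, 0]
def rw6669 : List ℕ := [2, 4, 1, 4, 4, 2, 5, 2, 7, 3, 1, 2, 0, 2, 6, 3, 4, 3, 5, 5, 0, 5, 3, 3, 5, 7, 3, 6, 4, 2]
def rw6670 : List ℕ := [2, 7, 3, 1, 4, 0, 2, 6, 3, 4, 3, 5, 5, 0, 5, 3, 3, 5, 7, 5, 6, 4, 2, 2, 4, 1, 4, 4, 2, 5]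
def rw6671 : List ℕ := [5, 6, 5, 7, 4, 1, 2, 7, 3, 7, 0, 3, 1, 7, 4, 1, 1, 4, 0, 0, 5, 6, 0, 2, 1, 6, 2, 6, 3, 0]
def rw6672 : List ℕ := [7, 4, 7, 2, 7, 0, 2, 0, 7, 4, 1, 5, 6, 1, 3, 1, 6, 3, 6, 5, 6, 3, 1, 3, 1, 0, 0, 2, 0, 2]
def rw6673 : List ℕ := [5, 6, 1, 4, 1, 4, 4, 3, 7, 3, 1, 2, 0, 2, 6, 2, 5, 5, 0, 5, 0, 7, 4, 6, 0, 6, 3, 7, 1, 7]
def rw6674 : List ℕ := [7, 5, 6, 1, 4, 1, 4, 4, 3, 7, 3, 1, 4, 0, 2, 6, 2, 5, 5, 0, 5, 0, 7, 4, 6, 0, 6, 5, 7, 1]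
def rw6675 : List ℕ := [1, 7, 5, 6, 1, 4, 1, 4, 4, 3, 7, 3, 1, 6, 0, 2, 6, 2, 5, 5, 0, 5, 0, 7, 4, 6, 0, 6, 7, 7]
def rw6676 : List ℕ := [5, 7, 4, 2, 0, 5, 6, 4, 4, 1, 4, 2, 2, 4, 1, 4, 0, 5, 3, 3, 5, 0, 5, 5, 7, 4, 1, 3, 5, 6]
def rw6677 : List ℕ := [5, 6, 5, 6, 3, 1, 2, 0, 2, 7, 4, 7, 4, 0, 6, 3, 4, 0, 6, 3, 4, 3, 5, 2, 7, 1, 5, 2, 7, 1]
def rw6678 : List ℕ := [6, 5, 1, 2, 0, 4, 7, 4, 7, 1, 7, 1, 3, 6, 5, 2, 7, 4, 3, 5, 6, 3, 4, 7, 2, 0, 6, 0, 6, 5]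
def rw6679 : List ℕ := [1, 7, 1, 3, 6, 5, 2, 7, 4, 7, 5, 6, 3, 4, 7, 2, 0, 6, 0, 6, 5, 6, 5, 1, 6, 0, 4, 7, 4, 7]
def rw6680 : List ℕ := [7, 3, 1, 0, 0, 2, 6, 5, 1, 3, 6, 5, 1, 3, 6, 5, 2, 2, 1, 3, 3, 4, 7, 2, 0, 4, 7, 2, 0, 4]
def rw6681 : List ℕ := [7, 2, 0, 4, 7, 3, 1, 2, 0, 2, 6, 5, 1, 3, 6, 5, 1, 3, 6, 5, 2, 2, 3, 3, 3, 4, 7, 2, 0, 4]
def rw6682 : List ℕ := [2, 7, 4, 7, 5, 6, 3, 1, 3, 6, 3, 6, 5, 6, 3, 1, 3, 1, 6, 0, 2, 0, 2, 7, 4, 7, 2, 7, 2, 0]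
def rw6683 : List ℕ := [0, 4, 4, 1, 5, 5, 1, 5, 7, 0, 2, 6, 4, 0, 4, 4, 3, 1, 0, 0, 2, 5, 5, 1, 5, 7, 3, 1, 6, 4]
def rw6684 : List ℕ := [5, 5, 1, 5, 7, 3, 1, 6, 4, 0, 4, 4, 7, 5, 5, 1, 5, 7, 0, 2, 6, 4, 0, 4, 4, 3, 1, 6, 0, 2]
def rw6685 : List ℕ := [7, 4, 2, 4, 2, 4, 1, 4, 1, 6, 3, 1, 2, 7, 0, 5, 0, 5, 3, 5, 3, 5, 6, 3, 3, 1, 0, 0, 2, 2]
def rw6686 : List ℕ := [4, 1, 6, 3, 5, 2, 7, 0, 5, 0, 5, 3, 5, 3, 5, 6, 3, 3, 1, 4, 0, 2, 2, 7, 4, 2, 4, 2, 4, 1]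
def rw6687 : List ℕ := [0, 2, 5, 3, 1, 4, 1, 2, 7, 0, 3, 1, 6, 0, 2, 1, 6, 3, 0, 5, 0, 2, 4, 3, 1, 7, 2, 7, 3, 6]
def rw6688 : List ℕ := [2, 7, 4, 1, 4, 1, 3, 1, 0, 0, 2, 0, 5, 0, 5, 6, 3, 3, 1, 2, 7, 3, 5, 1, 4, 2, 6, 3, 0, 2]
def rw6689 : List ℕ := [2, 2, 1, 5, 5, 2, 5, 7, 7, 1, 3, 6, 6, 1, 7, 7, 2, 0, 6, 6, 4, 3, 4, 4, 0, 3, 3, 1, 0, 0]
def rw6690 : List ℕ := [2, 0, 6, 6, 4, 3, 4, 4, 0, 3, 3, 1, 2, 0, 2, 2, 1, 5, 5, 2, 5, 7, 7, 1, 3, 6, 6, 3, 7, 7]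
def rw6691 : List ℕ := [6, 4, 3, 4, 4, 0, 3, 3, 1, 2, 0, 2, 2, 1, 5, 5, 2, 5, 7, 7, 1, 3, 6, 6, 3, 7, 7, 2, 0, 6]
def rw6692 : List ℕ := [7, 1, 3, 6, 6, 5, 7, 7, 2, 0, 6, 6, 4, 3, 4, 4, 0, 3, 3, 1, 4, 0, 2, 2, 1, 5, 5, 2, 5, 7]
def rw6693 : List ℕ := [6, 6, 4, 3, 4, 4, 0, 3, 3, 1, 4, 0, 2, 2, 1, 5, 5, 2, 5, 7, 7, 1, 3, 6, 6, 5, 7, 7, 2, 0]
def rw6694 : List ℕ := [3, 3, 1, 4, 0, 2, 2, 1, 5, 5, 2, 5, 7, 7, 1, 3, 6, 6, 5, 7, 7, 2, 0, 6, 6, 4, 3, 4, 4, 0]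
def rw6695 : List ℕ := [6, 3, 3, 5, 2, 1, 3, 4, 2, 2, 7, 0, 2, 6, 3, 3, 5, 0, 3, 1, 0, 0, 2, 1, 4, 2, 2, 7, 3, 1]
def rw6696 : List ℕ := [5, 1, 3, 6, 3, 6, 3, 1, 0, 0, 2, 7, 2, 7, 2, 0, 4, 7, 2, 7, 1, 5, 2, 1, 3, 4, 0, 6, 3, 6]
def rw6697 : List ℕ := [7, 2, 0, 4, 7, 2, 7, 1, 5, 2, 7, 3, 4, 0, 6, 3, 6, 5, 1, 3, 6, 3, 6, 3, 1, 6, 0, 2, 7, 2]
def rw6698 : List ℕ := [5, 2, 1, 4, 4, 4, 4, 7, 3, 1, 4, 0, 2, 6, 5, 5, 5, 5, 0, 3, 4, 1, 5, 3, 7, 5, 6, 2, 4, 0]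
def rw6699 : List ℕ := [7, 2, 0, 6, 6, 5, 1, 2, 0, 4, 0, 3, 1, 0, 0, 2, 1, 5, 1, 3, 0, 4, 7, 7, 1, 3, 6, 6, 1, 7]
def rw6700 : List ℕ := [3, 7, 7, 2, 0, 6, 6, 5, 1, 2, 0, 4, 0, 3, 1, 2, 0, 2, 1, 5, 1, 3, 0, 4, 7, 7, 1, 3, 6, 6]
def rw6701 : List ℕ := [3, 6, 6, 5, 7, 7, 2, 0, 6, 6, 5, 1, 2, 0, 4, 0, 3, 1, 4, 0, 2, 1, 5, 1, 3, 0, 4, 7, 7, 1]
def rw6702 : List ℕ := [6, 5, 1, 6, 0, 4, 7, 2, 7, 1, 5, 2, 5, 6, 3, 6, 3, 4, 7, 5, 2, 7, 2, 7, 4, 3, 4, 0, 6, 3]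
def rw6703 : List ℕ := [4, 2, 2, 2, 7, 5, 6, 3, 3, 3, 5, 3, 4, 1, 4, 2, 5, 7, 3, 1, 4, 0, 2, 6, 4, 3, 5, 0, 5, 2]
def rw6704 : List ℕ := [5, 6, 5, 1, 5, 5, 4, 0, 4, 7, 4, 6, 3, 5, 0, 6, 6, 3, 3, 1, 4, 0, 2, 2, 7, 7, 1, 4, 2, 7]
def rw6705 : List ℕ := [6, 4, 2, 4, 1, 3, 0, 5, 3, 1, 2, 0, 2, 4, 1, 2, 0, 5, 3, 5, 7, 0, 2, 6, 3, 3, 2, 7, 3, 1]
def rw6706 : List ℕ := [0, 2, 6, 3, 5, 2, 7, 3, 1, 6, 4, 2, 4, 1, 3, 0, 5, 3, 1, 4, 0, 2, 4, 1, 2, 0, 5, 3, 5, 7]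
def rw6707 : List ℕ := [4, 2, 4, 1, 3, 0, 5, 3, 1, 6, 0, 2, 4, 1, 2, 0, 5, 3, 5, 7, 0, 2, 6, 3, 7, 2, 7, 3, 1, 6]
def rw6708 : List ℕ := [6, 3, 6, 6, 6, 5, 2, 1, 6, 0, 3, 4, 7, 7, 7, 2, 7, 2, 0, 6, 5, 0, 5, 7, 4, 1, 4, 7, 1, 3]
def rw6709 : List ℕ := [3, 5, 6, 3, 5, 2, 7, 4, 2, 6, 1, 5, 3, 1, 5, 5, 0, 3, 1, 4, 0, 2, 1, 4, 4, 0, 2, 4, 0, 7]
def rw6710 : List ℕ := [0, 7, 3, 5, 6, 3, 5, 2, 7, 4, 2, 6, 1, 5, 3, 1, 5, 5, 0, 3, 1, 4, 0, 2, 1, 4, 4, 0, 2, 4]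
def rw6711 : List ℕ := [0, 6, 3, 4, 1, 0, 0, 5, 2, 7, 1, 2, 7, 0, 5, 3, 5, 6, 6, 3, 1, 2, 7, 7, 4, 2, 4, 1, 6, 3]
def rw6712 : List ℕ := [0, 5, 3, 5, 6, 6, 3, 5, 2, 7, 7, 4, 2, 4, 1, 6, 3, 0, 6, 3, 4, 1, 4, 0, 5, 2, 7, 1, 2, 7]
def rw6713 : List ℕ := [1, 6, 0, 0, 2, 0, 6, 3, 4, 1, 3, 5, 3, 5, 2, 7, 7, 6, 3, 4, 2, 4, 2, 0, 5, 2, 7, 1, 3, 1]
def rw6714 : List ℕ := [5, 1, 3, 6, 3, 6, 1, 3, 1, 6, 0, 2, 0, 7, 2, 7, 2, 0, 4, 7, 2, 7, 1, 5, 7, 4, 0, 6, 3, 6]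
def rw6715 : List ℕ := [6, 3, 4, 3, 1, 0, 0, 2, 5, 2, 7, 2, 7, 4, 7, 4, 3, 1, 7, 4, 1, 5, 6, 0, 2, 5, 6, 5, 6, 3]
def rw6716 : List ℕ := [4, 3, 1, 7, 4, 7, 2, 7, 1, 2, 7, 3, 0, 6, 3, 6, 5, 6, 0, 2, 5, 6, 3, 3, 1, 6, 0, 2, 2, 7]
def rw6717 : List ℕ := [2, 7, 4, 1, 4, 5, 5, 0, 5, 6, 3, 0, 3, 1, 7, 3, 5, 1, 3, 1, 4, 0, 2, 0, 4, 2, 6, 0, 2, 1]
def rw6718 : List ℕ := [4, 2, 7, 2, 7, 5, 3, 1, 4, 0, 2, 4, 6, 3, 6, 3, 5, 3, 6, 3, 6, 3, 5, 5, 4, 2, 7, 2, 7, 2]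
def rw6719 : List ℕ := [6, 2, 7, 5, 5, 4, 6, 3, 7, 5, 6, 0, 4, 4, 4, 1, 5, 5, 1, 4, 0, 4, 4, 0, 5, 5, 5, 1, 7, 4]
def rw6720 : List ℕ := [4, 6, 2, 6, 0, 5, 1, 4, 1, 7, 3, 7, 5, 1, 4, 1, 7, 3, 7, 5, 1, 0, 0, 4, 6, 2, 6, 0, 5, 0]
def rw6721 : List ℕ := [1, 3, 6, 3, 6, 1, 7, 2, 7, 2, 0, 2, 5, 6, 3, 6, 3, 4, 3, 1, 0, 0, 2, 5, 2, 7, 2, 7, 4, 3]
def rw6722 : List ℕ := [7, 4, 3, 1, 3, 6, 3, 6, 5, 7, 2, 7, 2, 0, 2, 5, 6, 3, 6, 3, 4, 3, 1, 4, 0, 2, 5, 2, 7, 2]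
def rw6723 : List ℕ := [4, 7, 4, 2, 2, 1, 3, 3, 5, 6, 5, 2, 5, 5, 2, 7, 5, 2, 5, 1, 0, 0, 4, 3, 4, 6, 3, 4, 4, 3]
def rw6724 : List ℕ := [3, 6, 4, 2, 4, 1, 0, 0, 5, 3, 5, 7, 2, 7, 1, 7, 2, 7, 5, 3, 5, 1, 4, 2, 4, 6, 3, 6, 0, 6]
def rw6725 : List ℕ := [3, 6, 0, 6, 3, 6, 4, 2, 4, 1, 6, 0, 5, 3, 5, 7, 2, 7, 1, 7, 2, 7, 5, 3, 5, 7, 4, 2, 4, 6]
def rw6726 : List ℕ := [7, 1, 2, 7, 5, 2, 5, 1, 1, 1, 4, 0, 0, 0, 4, 3, 4, 6, 3, 0, 6, 6, 0, 0, 5, 5, 4, 1, 1, 7]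
def rw6727 : List ℕ := [7, 1, 2, 7, 5, 2, 5, 1, 1, 1, 6, 0, 0, 0, 4, 3, 4, 6, 3, 0, 6, 6, 0, 0, 5, 7, 4, 1, 1, 7]
def rw6728 : List ℕ := [5, 2, 5, 1, 1, 1, 6, 0, 0, 0, 4, 3, 4, 6, 3, 0, 6, 6, 0, 0, 5, 7, 4, 1, 1, 7, 7, 1, 2, 7]
def rw6729 : List ℕ := [1, 6, 0, 2, 1, 5, 6, 3, 1, 3, 6, 3, 6, 5, 6, 2, 7, 3, 7, 4, 7, 2, 7, 2, 0, 2, 7, 4, 0, 3]
def rw6730 : List ℕ := [3, 1, 3, 5, 6, 5, 1, 3, 4, 3, 1, 0, 0, 2, 5, 2, 0, 4, 7, 4, 2, 0, 2, 6, 0, 4, 1, 5, 1, 7]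
def rw6731 : List ℕ := [1, 2, 7, 4, 7, 5, 6, 3, 0, 3, 1, 7, 0, 2, 4, 2, 1, 3, 1, 6, 0, 2, 0, 3, 5, 3, 1, 6, 0, 2]
def rw6732 : List ℕ := [3, 7, 5, 3, 5, 3, 5, 1, 4, 1, 6, 3, 3, 3, 1, 2, 0, 2, 2, 2, 7, 0, 5, 0, 4, 2, 4, 2, 4, 6]
def rw6733 : List ℕ := [0, 7, 4, 7, 2, 7, 0, 2, 0, 7, 4, 7, 5, 6, 1, 3, 1, 6, 3, 6, 5, 6, 1, 3, 1, 1, 6, 0, 0, 2]
def rw6734 : List ℕ := [3, 3, 1, 0, 0, 2, 2, 7, 3, 1, 2, 7, 3, 5, 2, 7, 2, 7, 1, 6, 3, 6, 3, 4, 2, 6, 3, 0, 2, 6]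
def rw6735 : List ℕ := [0, 5, 0, 5, 2, 7, 3, 1, 6, 5, 7, 0, 2, 6, 3, 4, 1, 4, 1, 3, 5, 0, 3, 1, 4, 0, 2, 1, 4, 2]
def rw6736 : List ℕ := [4, 1, 4, 1, 3, 5, 0, 3, 1, 6, 0, 2, 1, 4, 2, 0, 5, 0, 5, 2, 7, 3, 1, 6, 7, 7, 0, 2, 6, 3]
def rw6737 : List ℕ := [2, 6, 3, 4, 1, 4, 1, 3, 5, 0, 3, 1, 6, 0, 2, 1, 4, 2, 0, 5, 0, 5, 2, 7, 3, 1, 6, 7, 7, 0]
def rw6738 : List ℕ := [3, 4, 0, 6, 5, 1, 0, 0, 4, 7, 1, 5, 2, 5, 6, 5, 2, 7, 4, 7, 4, 1, 5, 6, 5, 6, 3, 4, 7, 4]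
def rw6739 : List ℕ := [4, 2, 1, 0, 0, 3, 5, 5, 3, 3, 0, 4, 7, 7, 5, 2, 7, 4, 1, 5, 6, 3, 4, 6, 6, 5, 1, 2, 2, 4]
def rw6740 : List ℕ := [6, 5, 1, 2, 2, 4, 4, 2, 1, 2, 0, 3, 5, 5, 3, 3, 0, 4, 7, 7, 5, 2, 7, 4, 3, 5, 6, 3, 4, 6]
def rw6741 : List ℕ := [6, 5, 1, 2, 2, 4, 4, 2, 1, 4, 0, 3, 5, 5, 3, 3, 0, 4, 7, 7, 5, 2, 7, 4, 5, 5, 6, 3, 4, 6]
def rw6742 : List ℕ := [2, 2, 4, 4, 2, 1, 4, 0, 3, 5, 5, 3, 3, 0, 4, 7, 7, 5, 2, 7, 4, 5, 5, 6, 3, 4, 6, 6, 5, 1]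
def rw6743 : List ℕ := [0, 2, 6, 0, 2, 6, 3, 3, 1, 0, 0, 2, 2, 7, 3, 1, 7, 3, 1, 7, 3, 4, 3, 4, 1, 5, 2, 5, 2, 6]
def rw6744 : List ℕ := [2, 6, 0, 2, 6, 3, 3, 1, 4, 0, 2, 2, 7, 3, 1, 7, 3, 1, 7, 3, 4, 3, 4, 5, 5, 2, 5, 2, 6, 0]
def rw6745 : List ℕ := [3, 1, 7, 3, 1, 7, 3, 4, 3, 4, 7, 5, 2, 5, 2, 6, 0, 2, 6, 0, 2, 6, 3, 3, 1, 6, 0, 2, 2, 7]
def rw6746 : List ℕ := [7, 1, 2, 1, 2, 0, 3, 0, 6, 3, 6, 2, 2, 5, 6, 3, 6, 3, 4, 3, 5, 2, 7, 2, 7, 4, 3, 3, 7, 2]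
def rw6747 : List ℕ := [6, 3, 7, 0, 6, 0, 6, 6, 5, 1, 4, 0, 2, 5, 3, 1, 2, 0, 2, 4, 3, 1, 5, 0, 4, 7, 7, 1, 7, 1]
def rw6748 : List ℕ := [7, 1, 4, 6, 1, 7, 5, 0, 6, 6, 3, 0, 5, 5, 3, 5, 7, 3, 1, 0, 0, 2, 6, 4, 2, 4, 4, 1, 2, 7]
def rw6749 : List ℕ := [0, 2, 6, 4, 2, 4, 4, 1, 2, 7, 7, 1, 4, 6, 3, 7, 5, 0, 6, 6, 3, 0, 5, 5, 3, 5, 7, 3, 1, 2]
def rw6750 : List ℕ := [7, 1, 4, 6, 5, 7, 5, 0, 6, 6, 3, 0, 5, 5, 3, 5, 7, 3, 1, 4, 0, 2, 6, 4, 2, 4, 4, 1, 2, 7]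
def rw6751 : List ℕ := [6, 6, 3, 0, 5, 5, 3, 5, 7, 3, 1, 4, 0, 2, 6, 4, 2, 4, 4, 1, 2, 7, 7, 1, 4, 6, 5, 7, 5, 0]
def rw6752 : List ℕ := [1, 4, 6, 7, 7, 5, 0, 6, 6, 3, 0, 5, 5, 3, 5, 7, 3, 1, 6, 0, 2, 6, 4, 2, 4, 4, 1, 2, 7, 7]
def rw6753 : List ℕ := [6, 5, 6, 3, 4, 0, 6, 0, 6, 5, 7, 1, 7, 1, 5, 2, 7, 4, 7, 2, 5, 6, 5, 1, 4, 0, 4, 7, 4, 3]
def rw6754 : List ℕ := [1, 7, 1, 5, 2, 7, 4, 7, 2, 5, 6, 5, 1, 4, 0, 4, 7, 4, 3, 6, 5, 6, 3, 4, 0, 6, 0, 6, 5, 7]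
def rw6755 : List ℕ := [4, 2, 4, 4, 3, 4, 3, 6, 6, 3, 4, 1, 0, 0, 5, 2, 7, 7, 2, 5, 2, 5, 5, 3, 5, 7, 5, 1, 4, 6]
def rw6756 : List ℕ := [5, 7, 5, 5, 4, 6, 4, 2, 4, 4, 3, 4, 3, 6, 6, 3, 4, 1, 4, 0, 5, 2, 7, 7, 2, 5, 2, 5, 5, 3]
def rw6757 : List ℕ := [7, 2, 5, 2, 5, 5, 3, 5, 7, 5, 5, 4, 6, 4, 2, 4, 4, 3, 4, 3, 6, 6, 3, 4, 1, 4, 0, 5, 2, 7]
def rw6758 : List ℕ := [1, 6, 0, 2, 0, 2, 6, 3, 4, 1, 3, 5, 3, 5, 2, 7, 7, 6, 3, 4, 2, 4, 2, 0, 5, 2, 7, 3, 1, 3]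
def rw6759 : List ℕ := [4, 6, 2, 7, 1, 4, 0, 5, 1, 4, 3, 1, 0, 0, 2, 5, 0, 4, 1, 5, 0, 6, 3, 7, 5, 6, 3, 1, 2, 7]
def rw6760 : List ℕ := [6, 2, 1, 3, 3, 2, 0, 3, 7, 0, 2, 7, 5, 7, 2, 6, 5, 1, 1, 2, 0, 0, 4, 7, 3, 6, 4, 6, 3, 1]
def rw6761 : List ℕ := [6, 6, 1, 7, 7, 3, 1, 7, 1, 2, 5, 2, 5, 1, 4, 3, 1, 0, 0, 2, 5, 0, 4, 3, 4, 3, 0, 6, 0, 2]
def rw6762 : List ℕ := [2, 6, 6, 5, 7, 7, 3, 1, 7, 1, 2, 5, 2, 5, 1, 4, 3, 1, 4, 0, 2, 5, 0, 4, 3, 4, 3, 0, 6, 0]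
def rw6763 : List ℕ := [6, 5, 1, 4, 7, 1, 5, 6, 5, 6, 0, 6, 5, 7, 2, 7, 1, 0, 0, 6, 3, 6, 4, 7, 1, 7, 4, 7, 4, 0]
def rw6764 : List ℕ := [7, 4, 0, 6, 5, 3, 4, 7, 1, 5, 6, 5, 6, 0, 6, 5, 7, 2, 7, 1, 2, 0, 6, 3, 6, 4, 7, 1, 7, 4]
def rw6765 : List ℕ := [6, 5, 7, 2, 7, 1, 4, 0, 6, 3, 6, 4, 7, 1, 7, 4, 7, 4, 0, 6, 5, 5, 4, 7, 1, 5, 6, 5, 6, 0]
def rw6766 : List ℕ := [0, 6, 5, 7, 4, 7, 1, 5, 6, 5, 6, 0, 6, 5, 7, 2, 7, 1, 6, 0, 6, 3, 6, 4, 7, 1, 7, 4, 7, 4]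
def rw6767 : List ℕ := [0, 6, 5, 7, 2, 7, 1, 6, 0, 6, 3, 6, 4, 7, 1, 7, 4, 7, 4, 0, 6, 5, 7, 4, 7, 1, 5, 6, 5, 6]
def rw6768 : List ℕ := [2, 0, 6, 6, 4, 3, 4, 4, 3, 1, 1, 0, 0, 0, 2, 5, 5, 2, 5, 7, 7, 1, 3, 6, 6, 3, 1, 2, 7, 7]
def rw6769 : List ℕ := [6, 6, 4, 3, 4, 4, 3, 1, 1, 4, 0, 0, 2, 5, 5, 2, 5, 7, 7, 1, 3, 6, 6, 3, 5, 2, 7, 7, 2, 0]
def rw6770 : List ℕ := [6, 4, 3, 4, 4, 3, 1, 1, 4, 0, 0, 2, 5, 5, 2, 5, 7, 7, 1, 3, 6, 6, 3, 5, 2, 7, 7, 2, 0, 6]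
def rw6771 : List ℕ := [6, 4, 3, 4, 4, 3, 1, 1, 6, 0, 0, 2, 5, 5, 2, 5, 7, 7, 1, 3, 6, 6, 3, 7, 2, 7, 7, 2, 0, 6]
def rw6772 : List ℕ := [0, 2, 6, 0, 2, 6, 5, 7, 3, 1, 7, 3, 1, 7, 3, 4, 3, 4, 3, 3, 1, 4, 0, 2, 2, 5, 2, 5, 2, 6]
def rw6773 : List ℕ := [4, 1, 3, 1, 4, 0, 2, 0, 5, 6, 0, 2, 0, 6, 3, 6, 5, 6, 3, 5, 2, 7, 4, 7, 2, 7, 1, 3, 1, 7]
def rw6774 : List ℕ := [0, 5, 2, 7, 3, 1, 6, 0, 2, 6, 3, 4, 1, 2, 4, 4, 1, 4, 2, 5, 7, 7, 6, 4, 3, 5, 0, 5, 5, 3]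
def rw6775 : List ℕ := [3, 6, 3, 1, 7, 4, 7, 5, 6, 0, 2, 7, 2, 7, 1, 5, 6, 3, 1, 3, 1, 6, 0, 2, 0, 2, 7, 4, 0, 6]
def rw6776 : List ℕ := [0, 4, 3, 4, 4, 4, 3, 4, 7, 4, 1, 4, 2, 6, 1, 7, 3, 5, 0, 5, 6, 5, 2, 5, 5, 5, 2, 5, 1, 0]
def rw6777 : List ℕ := [4, 4, 4, 3, 4, 7, 4, 1, 4, 2, 6, 5, 7, 3, 5, 0, 5, 6, 5, 2, 5, 5, 5, 2, 5, 1, 4, 0, 4, 3]
def rw6778 : List ℕ := [3, 4, 7, 4, 1, 4, 2, 6, 7, 7, 3, 5, 0, 5, 6, 5, 2, 5, 5, 5, 2, 5, 1, 6, 0, 4, 3, 4, 4, 4]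
def rw6779 : List ℕ := [7, 7, 5, 6, 2, 7, 2, 7, 5, 6, 3, 6, 3, 7, 4, 6, 6, 0, 4, 4, 3, 1, 1, 4, 0, 0, 2, 5, 5, 1]
def rw6780 : List ℕ := [6, 2, 7, 2, 7, 5, 6, 3, 6, 3, 7, 4, 6, 6, 0, 4, 4, 3, 1, 1, 4, 0, 0, 2, 5, 5, 1, 7, 7, 5]
def rw6781 : List ℕ := [6, 4, 2, 0, 5, 5, 3, 4, 4, 1, 3, 5, 7, 4, 2, 0, 5, 6, 4, 3, 1, 2, 0, 2, 5, 7, 4, 1, 3, 5]
def rw6782 : List ℕ := [4, 4, 1, 3, 5, 7, 4, 2, 0, 5, 6, 4, 3, 1, 2, 0, 2, 5, 7, 4, 1, 3, 5, 6, 4, 2, 0, 5, 5, 3]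
def rw6783 : List ℕ := [3, 1, 4, 0, 2, 5, 7, 4, 1, 3, 5, 6, 4, 2, 0, 5, 5, 5, 4, 4, 1, 3, 5, 7, 4, 2, 0, 5, 6, 4]
def rw6784 : List ℕ := [4, 2, 0, 5, 6, 4, 3, 1, 6, 0, 2, 5, 7, 4, 1, 3, 5, 6, 4, 2, 0, 5, 5, 7, 4, 4, 1, 3, 5, 7]
def rw6785 : List ℕ := [2, 1, 6, 0, 3, 0, 3, 3, 5, 2, 5, 7, 0, 5, 6, 3, 5, 7, 4, 2, 7, 4, 1, 6, 4, 3, 4, 2, 2, 1]
def rw6786 : List ℕ := [2, 4, 2, 4, 2, 1, 4, 1, 6, 3, 1, 2, 7, 0, 5, 0, 3, 5, 3, 5, 3, 6, 3, 3, 1, 0, 0, 2, 2, 7]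
def rw6787 : List ℕ := [1, 6, 3, 3, 3, 1, 6, 0, 2, 2, 2, 7, 0, 2, 4, 3, 1, 3, 0, 5, 6, 7, 7, 4, 1, 2, 0, 2, 5, 3]
def rw6788 : List ℕ := [1, 3, 1, 1, 0, 0, 0, 2, 0, 3, 0, 3, 1, 3, 3, 1, 2, 2, 0, 2, 1, 2]
def rw6789 : List ℕ := [1, 1, 6, 0, 0, 3, 3, 1, 3, 0, 3, 0, 2, 7, 3, 1, 2, 1, 2, 0, 2, 2]
def rw6790 : List ℕ := [1, 2, 2, 7, 3, 3, 0, 3, 1, 3, 3, 0, 3, 1, 6, 0, 2, 1, 2, 2, 0, 2]
def rw6791 : List ℕ := [2, 0, 2, 1, 1, 1, 4, 0, 0, 0, 3, 1, 3, 3, 3, 3, 3, 1, 3, 5, 2, 0, 2, 2, 2, 2]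
def rw6792 : List ℕ := [0, 2, 2, 1, 1, 1, 4, 0, 0, 0, 3, 3, 1, 3, 0, 3, 3, 0, 2, 5, 3, 1, 2, 2, 1, 2]
def rw6793 : List ℕ := [3, 0, 2, 0, 0, 3, 3, 3, 1, 3, 7, 2, 0, 2, 2, 2, 1, 1, 3, 1, 2, 1, 1, 6, 0, 0]
def rw6794 : List ℕ := [2, 2, 1, 2, 2, 5, 3, 3, 0, 3, 3, 1, 3, 0, 3, 0, 3, 1, 4, 0, 2, 1, 2, 1, 2, 0]
def rw6795 : List ℕ := [2, 2, 1, 2, 2, 7, 3, 3, 0, 3, 3, 1, 3, 0, 3, 0, 3, 1, 6, 0, 2, 1, 2, 1, 2, 0]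
def rw6796 : List ℕ := [4, 1, 4, 4, 1, 4, 1, 0, 0, 5, 0, 5, 5, 0, 5, 0, 5, 5, 1, 4, 4, 1]
def rw6797 : List ℕ := [5, 3, 3, 5, 5, 5, 1, 1, 2, 0, 0, 4, 4, 4, 2, 2, 4, 2, 0, 4, 3, 5, 1, 3]
def rw6798 : List ℕ := [3, 5, 3, 3, 5, 5, 5, 1, 1, 6, 0, 0, 4, 4, 4, 2, 2, 4, 2, 0, 4, 7, 5, 1]
def rw6799 : List ℕ := [1, 4, 3, 1, 1, 1, 5, 3, 1, 1, 1, 6, 0, 0, 0, 2, 4, 0, 0, 0, 2, 5, 0, 3, 7, 2]
def rw6800 : List ℕ := [2, 1, 4, 7, 5, 0, 3, 3, 3, 1, 1, 4, 3, 1, 1, 1, 6, 0, 0, 0, 2, 5, 0, 0, 2, 2]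
def rw6801 : List ℕ := [4, 2, 7, 3, 5, 1, 2, 0, 0, 4, 1, 2, 1, 1, 1, 6, 0, 0, 0, 3, 0, 5, 1, 1, 3, 0]
def rw6802 : List ℕ := [1, 1, 3, 4, 1, 2, 1, 1, 1, 4, 0, 0, 0, 3, 0, 5, 2, 0, 0, 0, 4, 2, 5, 3, 5, 1]
def rw6803 : List ℕ := [1, 1, 3, 0, 3, 0, 5, 2, 3, 3, 4, 1, 2, 1, 2, 0, 0, 5, 1, 1, 1, 2, 0, 0, 0, 4]
def rw6804 : List ℕ := [2, 0, 0, 5, 1, 1, 1, 4, 0, 0, 0, 4, 1, 1, 3, 0, 3, 0, 5, 2, 5, 3, 4, 1, 2, 1]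
def rw6805 : List ℕ := [2, 1, 3, 3, 0, 5, 2, 1, 3, 4, 1, 2, 2, 0, 3, 0, 5, 1, 1, 1, 0, 0, 0, 0, 4, 1]
def rw6806 : List ℕ := [5, 2, 1, 3, 4, 2, 0, 0, 3, 3, 0, 5, 1, 1, 1, 0, 0, 0, 0, 4, 1, 2, 2, 1, 1, 3]
def rw6807 : List ℕ := [1, 3, 1, 1, 0, 0, 0, 2, 0, 4, 2, 4, 1, 4, 2, 4, 2, 1, 3, 5, 3, 5, 0, 5, 3, 5]
def rw6808 : List ℕ := [1, 4, 0, 3, 1, 1, 6, 0, 0, 2, 1, 5, 0, 3, 0, 2, 2, 1, 4, 7, 5, 0, 3, 3, 1, 2]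
def rw6809 : List ℕ := [0, 5, 3, 1, 1, 0, 0, 0, 2, 4, 1, 4, 1, 1, 4, 1, 4, 2, 1, 3, 5, 0, 5, 0, 0, 5]
def rw6810 : List ℕ := [1, 4, 1, 1, 4, 1, 4, 2, 5, 3, 5, 0, 5, 0, 0, 5, 0, 5, 3, 1, 1, 4, 0, 0, 2, 4]
def rw6811 : List ℕ := [0, 0, 2, 4, 1, 4, 1, 1, 4, 1, 4, 2, 5, 3, 5, 0, 5, 0, 0, 5, 0, 5, 3, 1, 1, 4]
def rw6812 : List ℕ := [1, 5, 3, 5, 0, 5, 3, 5, 3, 1, 1, 0, 0, 0, 2, 4, 2, 4, 1, 4, 2, 4, 0, 2, 1, 3]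
def rw6813 : List ℕ := [2, 4, 1, 4, 2, 4, 0, 2, 3, 3, 1, 5, 3, 5, 0, 5, 3, 5, 3, 1, 1, 2, 0, 0, 2, 4]
def rw6814 : List ℕ := [3, 3, 0, 5, 1, 2, 0, 0, 4, 2, 1, 3, 5, 1, 1, 3, 0, 4, 1, 2, 2, 1, 1, 0, 0, 0]
def rw6815 : List ℕ := [0, 5, 1, 1, 0, 0, 0, 4, 1, 2, 1, 2, 0, 0, 5, 1, 2, 1, 3, 0, 4, 1, 1, 3, 0, 3]
def rw6816 : List ℕ := [0, 5, 1, 1, 4, 0, 0, 4, 1, 2, 1, 2, 0, 0, 5, 1, 2, 5, 3, 0, 4, 1, 1, 3, 0, 3]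
def rw6817 : List ℕ := [2, 2, 5, 1, 1, 5, 2, 2, 5, 1, 1, 6, 0, 0, 4, 3, 3, 4, 0, 0, 4, 3, 3, 4, 7, 5]
def rw6818 : List ℕ := [0, 5, 2, 0, 3, 0, 4, 1, 1, 4, 0, 0, 5, 1, 2, 1, 3, 4, 1, 2, 2, 2, 5, 3, 3, 3]
def rw6819 : List ℕ := [0, 4, 1, 3, 1, 4, 5, 5, 0, 2, 0, 5, 1, 3, 1, 5, 1, 3, 1, 4, 0, 2, 0, 4, 0, 2]
def rw6820 : List ℕ := [2, 5, 0, 2, 0, 5, 1, 3, 1, 0, 0, 2, 0, 4, 1, 3, 1, 4, 3, 1, 3, 4, 1, 5, 2, 0]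
def rw6821 : List ℕ := [4, 2, 4, 1, 4, 1, 2, 7, 3, 0, 5, 0, 5, 3, 5, 0, 5, 0, 3, 1, 6, 0, 2, 1, 4, 1]
def rw6822 : List ℕ := [1, 4, 2, 1, 4, 1, 4, 1, 5, 3, 4, 0, 5, 0, 5, 0, 3, 5, 0, 5, 3, 1, 2, 0, 2, 4]
def rw6823 : List ℕ := [2, 5, 3, 1, 4, 0, 2, 4, 3, 5, 3, 5, 3, 0, 5, 3, 5, 5, 4, 2, 4, 1, 2, 4, 2, 4]
def rw6824 : List ℕ := [4, 2, 4, 2, 4, 0, 5, 3, 5, 1, 4, 2, 4, 1, 5, 3, 5, 3, 5, 5, 3, 1, 0, 0, 2, 4]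
def rw6825 : List ℕ := [2, 7, 1, 1, 1, 6, 0, 0, 0, 6, 3, 6, 2, 0, 7, 2, 7, 2, 7, 3, 6, 3, 6, 1, 3, 7]
def rw6826 : List ℕ := [6, 3, 6, 0, 6, 1, 7, 1, 7, 2, 7, 1, 7, 1, 1, 3, 1, 1, 0, 0, 0, 2, 0, 0, 6, 0]
def rw6827 : List ℕ := [2, 7, 1, 7, 1, 1, 3, 1, 1, 0, 0, 0, 2, 0, 0, 6, 0, 6, 3, 6, 0, 6, 1, 7, 1, 7]
def rw6828 : List ℕ := [7, 1, 7, 1, 1, 3, 1, 1, 6, 0, 0, 2, 0, 0, 6, 0, 6, 3, 6, 0, 6, 7, 7, 1, 7, 2]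
def rw6829 : List ℕ := [7, 2, 7, 2, 1, 3, 6, 3, 6, 0, 6, 3, 6, 1, 3, 1, 1, 0, 0, 0, 2, 0, 7, 2, 7, 1]
def rw6830 : List ℕ := [6, 3, 6, 0, 6, 3, 6, 1, 3, 1, 1, 4, 0, 0, 2, 0, 7, 2, 7, 1, 7, 2, 7, 2, 5, 3]
def rw6831 : List ℕ := [7, 1, 7, 2, 7, 0, 2, 1, 3, 1, 6, 3, 6, 0, 6, 3, 6, 3, 1, 1, 0, 0, 0, 2, 7, 2]
def rw6832 : List ℕ := [7, 2, 7, 1, 1, 4, 0, 0, 6, 3, 6, 1, 3, 7, 2, 7, 1, 2, 5, 3, 0, 6, 3, 6, 2, 0]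
def rw6833 : List ℕ := [7, 1, 7, 2, 7, 2, 1, 3, 1, 0, 0, 2, 0, 3, 6, 3, 6, 0, 6, 3, 6, 3, 1, 2, 7, 2]
def rw6834 : List ℕ := [1, 3, 1, 6, 0, 2, 0, 3, 6, 3, 6, 0, 6, 3, 6, 3, 7, 2, 7, 2, 7, 1, 7, 2, 7, 2]
def rw6835 : List ℕ := [7, 1, 3, 1, 4, 0, 2, 0, 6, 3, 6, 5, 6, 0, 2, 5, 6, 5, 7, 4, 3, 1, 7, 4, 7, 2]
def rw6836 : List ℕ := [1, 7, 2, 7, 2, 0, 3, 1, 4, 0, 2, 1, 3, 6, 3, 6, 0, 6, 3, 6, 2, 5, 3, 7, 2, 7]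
def rw6837 : List ℕ := [3, 6, 0, 6, 3, 6, 2, 7, 3, 7, 2, 7, 1, 7, 2, 7, 2, 0, 3, 1, 6, 0, 2, 1, 3, 6]
def rw6838 : List ℕ := [1, 7, 2, 7, 1, 7, 1, 2, 1, 3, 0, 6, 0, 6, 3, 6, 0, 6, 0, 3, 1, 0, 0, 2, 1, 7]
def rw6839 : List ℕ := [1, 7, 1, 2, 1, 3, 0, 6, 0, 6, 3, 6, 0, 6, 0, 3, 1, 0, 0, 2, 1, 7, 1, 7, 2, 7]
def rw6840 : List ℕ := [3, 1, 3, 3, 1, 4, 0, 2, 2, 0, 2, 6, 0, 6, 3, 6, 0, 6, 5, 7, 1, 7, 2, 7, 1, 7]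
def rw6841 : List ℕ := [3, 1, 4, 0, 2, 2, 0, 6, 0, 6, 3, 6, 0, 6, 2, 5, 3, 7, 1, 7, 2, 7, 1, 7, 1, 3]
def rw6842 : List ℕ := [7, 1, 3, 3, 1, 6, 0, 2, 2, 0, 6, 0, 6, 3, 6, 0, 6, 2, 7, 3, 7, 1, 7, 2, 7, 1]
def rw6843 : List ℕ := [6, 3, 3, 3, 1, 2, 0, 2, 2, 2, 7, 0, 2, 4, 1, 3, 5, 6, 3, 7, 4, 2, 0, 5, 3, 1]
def rw6844 : List ℕ := [1, 2, 7, 3, 1, 6, 0, 2, 5, 3, 1, 0, 0, 2, 4, 3, 1, 7, 0, 2, 6, 3, 0, 5, 1, 4]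
def rw6845 : List ℕ := [7, 4, 3, 1, 2, 0, 2, 5, 6, 0, 2, 7, 2, 7, 1, 5, 6, 3, 7, 4, 0, 6, 3, 6, 3, 1]
def rw6846 : List ℕ := [7, 4, 3, 1, 0, 0, 2, 5, 6, 2, 0, 2, 6, 3, 6, 5, 6, 1, 7, 4, 7, 2, 7, 3, 1, 3]
def rw6847 : List ℕ := [0, 2, 7, 4, 3, 1, 2, 0, 2, 5, 6, 3, 1, 3, 6, 3, 6, 5, 6, 3, 7, 4, 7, 2, 7, 2]
def rw6848 : List ℕ := [2, 6, 4, 1, 7, 3, 1, 0, 0, 2, 6, 0, 5, 7, 3, 1, 7, 2, 4, 6, 1, 7, 5, 3, 6, 0]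
def rw6849 : List ℕ := [7, 3, 1, 0, 0, 2, 6, 0, 5, 7, 3, 1, 7, 2, 4, 6, 1, 7, 5, 3, 6, 0, 2, 6, 4, 1]
def rw6850 : List ℕ := [3, 6, 0, 2, 6, 4, 1, 7, 3, 1, 2, 0, 2, 6, 0, 5, 7, 3, 1, 7, 2, 4, 6, 3, 7, 5]
def rw6851 : List ℕ := [6, 0, 2, 6, 4, 1, 7, 3, 1, 4, 0, 2, 6, 0, 5, 7, 3, 1, 7, 2, 4, 6, 5, 7, 5, 3]
def rw6852 : List ℕ := [7, 3, 1, 6, 2, 0, 7, 1, 6, 1, 3, 7, 0, 2, 6, 2, 0, 7, 3, 1, 0, 0, 2, 6, 1, 3]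
def rw6853 : List ℕ := [7, 3, 1, 6, 2, 0, 7, 7, 6, 1, 3, 7, 0, 2, 6, 2, 0, 7, 3, 1, 6, 0, 2, 6, 1, 3]
def rw6854 : List ℕ := [3, 6, 2, 0, 7, 2, 7, 1, 2, 1, 0, 0, 3, 0, 6, 3, 6, 1, 3, 7, 2, 7, 2, 1, 3, 6]
def rw6855 : List ℕ := [3, 6, 0, 4, 3, 6, 1, 7, 2, 5, 1, 7, 2, 5, 1, 7, 2, 5, 1, 0, 0, 4, 3, 6, 0, 4]
def rw6856 : List ℕ := [5, 1, 7, 2, 5, 1, 7, 2, 5, 1, 2, 0, 4, 3, 6, 0, 4, 3, 6, 0, 4, 3, 6, 3, 7, 2]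
def rw6857 : List ℕ := [5, 1, 3, 6, 5, 1, 3, 6, 5, 1, 0, 0, 4, 7, 2, 0, 4, 7, 2, 0, 4, 7, 2, 1, 3, 6]
def rw6858 : List ℕ := [1, 3, 6, 5, 1, 3, 6, 5, 1, 0, 0, 4, 7, 2, 0, 4, 7, 2, 0, 4, 7, 2, 1, 3, 6, 5]
def rw6859 : List ℕ := [5, 1, 3, 6, 5, 1, 6, 0, 4, 7, 2, 0, 4, 7, 2, 0, 4, 7, 2, 7, 3, 6, 5, 1, 3, 6]
def rw6860 : List ℕ := [7, 1, 7, 1, 7, 1, 2, 0, 6, 0, 6, 0, 6, 0, 6, 0, 6, 0, 6, 3, 7, 1, 7, 1, 7, 1]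
def rw6861 : List ℕ := [1, 7, 1, 2, 0, 6, 0, 6, 0, 6, 0, 6, 0, 6, 0, 6, 3, 7, 1, 7, 1, 7, 1, 7, 1, 7]
def rw6862 : List ℕ := [7, 1, 4, 0, 6, 0, 6, 0, 6, 0, 6, 0, 6, 0, 6, 5, 7, 1, 7, 1, 7, 1, 7, 1, 7, 1]
def rw6863 : List ℕ := [1, 7, 1, 7, 1, 7, 1, 7, 1, 7, 1, 4, 0, 6, 0, 6, 0, 6, 0, 6, 0, 6, 0, 6, 5, 7]
def rw6864 : List ℕ := [7, 1, 7, 1, 7, 1, 7, 1, 7, 1, 6, 0, 6, 0, 6, 0, 6, 0, 6, 0, 6, 0, 6, 7, 7, 1]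
def rw6865 : List ℕ := [7, 1, 4, 0, 6, 3, 6, 2, 4, 0, 6, 3, 6, 5, 3, 5, 2, 4, 7, 2, 7, 1, 5, 3, 7, 2]
def rw6866 : List ℕ := [1, 6, 5, 1, 1, 2, 0, 0, 4, 7, 0, 6, 3, 6, 6, 5, 5, 0, 5, 3, 4, 1, 4, 4, 7, 7, 2, 7]
def rw6867 : List ℕ := [1, 6, 5, 1, 1, 4, 0, 0, 4, 7, 0, 6, 3, 6, 6, 5, 5, 0, 5, 5, 4, 1, 4, 4, 7, 7, 2, 7]
def rw6868 : List ℕ := [2, 7, 1, 6, 5, 1, 1, 4, 0, 0, 4, 7, 0, 6, 3, 6, 6, 5, 5, 0, 5, 5, 4, 1, 4, 4, 7, 7]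
def rw6869 : List ℕ := [6, 6, 5, 1, 1, 4, 0, 0, 4, 7, 7, 2, 7, 1, 6, 5, 5, 0, 5, 5, 4, 1, 4, 4, 7, 0, 6, 3]
def rw6870 : List ℕ := [7, 2, 6, 3, 1, 4, 1, 1, 0, 0, 0, 5, 0, 2, 7, 3, 6, 0, 6, 6, 3, 5, 1, 4, 2, 7, 7, 1]
def rw6871 : List ℕ := [7, 7, 1, 7, 2, 6, 3, 1, 4, 1, 1, 2, 0, 0, 5, 0, 2, 7, 3, 6, 0, 6, 6, 3, 5, 3, 4, 2]
def rw6872 : List ℕ := [7, 2, 6, 3, 1, 4, 1, 1, 2, 0, 0, 5, 0, 2, 7, 3, 6, 0, 6, 6, 3, 5, 3, 4, 2, 7, 7, 1]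
def rw6873 : List ℕ := [7, 1, 7, 2, 6, 3, 1, 4, 1, 1, 2, 0, 0, 5, 0, 2, 7, 3, 6, 0, 6, 6, 3, 5, 3, 4, 2, 7]
def rw6874 : List ℕ := [6, 3, 1, 4, 1, 1, 4, 0, 0, 5, 0, 2, 7, 3, 6, 0, 6, 6, 3, 5, 5, 4, 2, 7, 7, 1, 7, 2]
def rw6875 : List ℕ := [7, 1, 7, 2, 6, 3, 1, 4, 1, 1, 4, 0, 0, 5, 0, 2, 7, 3, 6, 0, 6, 6, 3, 5, 5, 4, 2, 7]
def rw6876 : List ℕ := [6, 3, 1, 4, 1, 1, 6, 0, 0, 5, 0, 2, 7, 3, 6, 0, 6, 6, 3, 5, 7, 4, 2, 7, 7, 1, 7, 2]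
def rw6877 : List ℕ := [7, 2, 6, 3, 1, 4, 1, 1, 6, 0, 0, 5, 0, 2, 7, 3, 6, 0, 6, 6, 3, 5, 7, 4, 2, 7, 7, 1]
def rw6878 : List ℕ := [6, 6, 3, 1, 4, 1, 1, 0, 0, 0, 5, 0, 2, 7, 7, 1, 7, 2, 6, 3, 5, 1, 4, 2, 7, 3, 6, 0]
def rw6879 : List ℕ := [6, 3, 1, 4, 1, 1, 2, 0, 0, 5, 0, 2, 7, 7, 1, 7, 2, 6, 3, 5, 3, 4, 2, 7, 3, 6, 0, 6]
def rw6880 : List ℕ := [3, 6, 0, 6, 6, 3, 1, 4, 1, 1, 4, 0, 0, 5, 0, 2, 7, 7, 1, 7, 2, 6, 3, 5, 5, 4, 2, 7]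
def rw6881 : List ℕ := [3, 1, 4, 1, 1, 6, 0, 0, 5, 0, 2, 7, 7, 1, 7, 2, 6, 3, 5, 7, 4, 2, 7, 3, 6, 0, 6, 6]
def rw6882 : List ℕ := [1, 7, 2, 6, 2, 4, 1, 1, 0, 0, 0, 5, 3, 7, 3, 6, 0, 6, 6, 2, 0, 5, 1, 4, 1, 3, 7, 7]
def rw6883 : List ℕ := [7, 2, 6, 2, 4, 1, 1, 0, 0, 0, 5, 3, 7, 3, 6, 0, 6, 6, 2, 0, 5, 1, 4, 1, 3, 7, 7, 1]
def rw6884 : List ℕ := [6, 2, 4, 1, 1, 2, 0, 0, 5, 3, 7, 3, 6, 0, 6, 6, 2, 0, 5, 3, 4, 1, 3, 7, 7, 1, 7, 2]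
def rw6885 : List ℕ := [7, 7, 1, 7, 2, 6, 2, 4, 1, 1, 2, 0, 0, 5, 3, 7, 3, 6, 0, 6, 6, 2, 0, 5, 3, 4, 1, 3]
def rw6886 : List ℕ := [6, 2, 4, 1, 1, 4, 0, 0, 5, 3, 7, 3, 6, 0, 6, 6, 2, 0, 5, 5, 4, 1, 3, 7, 7, 1, 7, 2]
def rw6887 : List ℕ := [6, 2, 4, 1, 1, 6, 0, 0, 5, 3, 7, 3, 6, 0, 6, 6, 2, 0, 5, 7, 4, 1, 3, 7, 7, 1, 7, 2]
def rw6888 : List ℕ := [1, 7, 2, 6, 2, 4, 1, 1, 6, 0, 0, 5, 3, 7, 3, 6, 0, 6, 6, 2, 0, 5, 7, 4, 1, 3, 7, 7]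
def rw6889 : List ℕ := [6, 0, 6, 6, 2, 4, 1, 1, 0, 0, 0, 5, 3, 7, 7, 1, 7, 2, 6, 2, 0, 5, 1, 4, 1, 3, 7, 3]
def rw6890 : List ℕ := [6, 6, 2, 4, 1, 1, 0, 0, 0, 5, 3, 7, 7, 1, 7, 2, 6, 2, 0, 5, 1, 4, 1, 3, 7, 3, 6, 0]
def rw6891 : List ℕ := [3, 6, 0, 6, 6, 2, 4, 1, 1, 0, 0, 0, 5, 3, 7, 7, 1, 7, 2, 6, 2, 0, 5, 1, 4, 1, 3, 7]
def rw6892 : List ℕ := [7, 2, 6, 2, 0, 5, 3, 4, 1, 3, 7, 3, 6, 0, 6, 6, 2, 4, 1, 1, 2, 0, 0, 5, 3, 7, 7, 1]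
def rw6893 : List ℕ := [6, 6, 2, 4, 1, 1, 2, 0, 0, 5, 3, 7, 7, 1, 7, 2, 6, 2, 0, 5, 3, 4, 1, 3, 7, 3, 6, 0]
def rw6894 : List ℕ := [6, 2, 4, 1, 1, 2, 0, 0, 5, 3, 7, 7, 1, 7, 2, 6, 2, 0, 5, 3, 4, 1, 3, 7, 3, 6, 0, 6]
def rw6895 : List ℕ := [6, 2, 0, 5, 5, 4, 1, 3, 7, 3, 6, 0, 6, 6, 2, 4, 1, 1, 4, 0, 0, 5, 3, 7, 7, 1, 7, 2]
def rw6896 : List ℕ := [6, 2, 4, 1, 1, 6, 0, 0, 5, 3, 7, 7, 1, 7, 2, 6, 2, 0, 5, 7, 4, 1, 3, 7, 3, 6, 0, 6]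
def rw6897 : List ℕ := [0, 6, 6, 2, 4, 1, 1, 6, 0, 0, 5, 3, 7, 7, 1, 7, 2, 6, 2, 0, 5, 7, 4, 1, 3, 7, 3, 6]
def rw6898 : List ℕ := [6, 2, 7, 4, 1, 3, 1, 2, 0, 2, 0, 5, 6, 3, 7, 1, 3, 6, 3, 6, 6, 3, 7, 7, 2, 7, 2, 0]
def rw6899 : List ℕ := [6, 3, 7, 1, 3, 6, 3, 6, 6, 7, 7, 7, 2, 7, 2, 0, 6, 2, 7, 4, 1, 3, 1, 6, 0, 2, 0, 5]
def rw6900 : List ℕ := [1, 3, 1, 6, 0, 2, 0, 6, 5, 1, 3, 0, 5, 0, 5, 7, 4, 7, 5, 6, 4, 1, 4, 1, 2, 0, 4, 7]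
def rw6901 : List ℕ := [5, 7, 4, 1, 5, 6, 4, 1, 4, 2, 0, 3, 4, 7, 1, 3, 1, 0, 0, 2, 0, 6, 5, 2, 1, 3, 5, 0]
def rw6902 : List ℕ := [2, 7, 4, 1, 5, 6, 3, 5, 0, 5, 0, 3, 4, 7, 1, 3, 1, 0, 0, 2, 0, 6, 5, 2, 1, 4, 1, 4]
def rw6903 : List ℕ := [1, 7, 5, 2, 0, 4, 4, 0, 7, 0, 6, 0, 3, 1, 0, 0, 2, 1, 7, 1, 6, 1, 5, 5, 1, 3, 4, 6]
def rw6904 : List ℕ := [1, 6, 1, 5, 5, 1, 3, 4, 6, 7, 7, 5, 2, 0, 4, 4, 0, 7, 0, 6, 0, 3, 1, 6, 0, 2, 1, 7]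
def rw6905 : List ℕ := [7, 1, 6, 1, 5, 5, 1, 3, 4, 6, 7, 7, 5, 2, 0, 4, 4, 0, 7, 0, 6, 0, 3, 1, 6, 0, 2, 1]
def rw6906 : List ℕ := [6, 5, 2, 5, 2, 0, 5, 3, 3, 1, 2, 0, 2, 2, 4, 1, 3, 4, 3, 4, 7, 3, 5, 6, 3, 7, 4, 2]
def rw6907 : List ℕ := [1, 2, 2, 5, 3, 1, 0, 0, 2, 4, 3, 3, 0, 7, 0, 5, 6, 1, 2, 4, 1, 5, 3, 0, 7, 4, 1, 6]
def rw6908 : List ℕ := [4, 3, 3, 0, 7, 0, 5, 6, 1, 2, 4, 3, 5, 3, 0, 7, 4, 1, 6, 1, 2, 2, 5, 3, 1, 2, 0, 2]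
def rw6909 : List ℕ := [4, 1, 6, 1, 2, 2, 5, 3, 1, 6, 0, 2, 4, 3, 3, 0, 7, 0, 5, 6, 1, 2, 4, 7, 5, 3, 0, 7]
def rw6910 : List ℕ := [2, 7, 1, 4, 3, 1, 0, 0, 2, 5, 0, 6, 3, 5, 6, 0, 2, 5, 1, 6, 1, 7, 0, 4, 3, 1, 7, 4]
def rw6911 : List ℕ := [5, 6, 0, 2, 5, 1, 6, 5, 7, 0, 4, 3, 1, 7, 4, 2, 7, 1, 4, 3, 1, 4, 0, 2, 5, 0, 6, 3]
def rw6912 : List ℕ := [7, 1, 6, 4, 2, 2, 5, 1, 4, 3, 3, 5, 7, 0, 6, 2, 7, 3, 4, 3, 1, 0, 0, 2, 5, 2, 6, 3]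
def rw6913 : List ℕ := [4, 1, 4, 6, 3, 4, 3, 1, 2, 0, 2, 5, 2, 7, 5, 0, 5, 0, 3, 4, 3, 6, 3, 7, 2, 5, 2, 1]
def rw6914 : List ℕ := [2, 0, 6, 2, 7, 4, 3, 1, 4, 0, 2, 5, 6, 3, 7, 1, 3, 6, 3, 6, 6, 2, 5, 3, 7, 7, 2, 7]
def rw6915 : List ℕ := [0, 3, 4, 7, 2, 1, 3, 6, 5, 2, 1, 3, 5, 0, 5, 7, 4, 3, 1, 0, 0, 2, 5, 6, 4, 1, 4, 2]
def rw6916 : List ℕ := [7, 3, 1, 4, 0, 2, 6, 6, 3, 3, 6, 3, 6, 4, 2, 7, 2, 5, 3, 6, 3, 5, 7, 2, 7, 2, 2, 7]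
def rw6917 : List ℕ := [5, 1, 3, 4, 6, 3, 5, 2, 7, 5, 2, 0, 4, 4, 0, 7, 0, 6, 3, 1, 4, 0, 2, 7, 1, 6, 1, 5]
def rw6918 : List ℕ := [6, 6, 3, 1, 4, 0, 2, 7, 7, 2, 7, 2, 0, 6, 2, 7, 4, 2, 5, 3, 5, 6, 3, 7, 1, 3, 6, 3]
def rw6919 : List ℕ := [6, 5, 1, 3, 6, 3, 4, 6, 2, 5, 2, 5, 1, 4, 0, 4, 3, 4, 3, 7, 5, 2, 7, 2, 0, 4, 7, 5]
def rw6920 : List ℕ := [4, 1, 6, 5, 2, 5, 1, 4, 0, 4, 3, 4, 7, 0, 5, 6, 3, 0, 5, 3, 5, 5, 4, 2, 4, 1, 2, 7]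
def rw6921 : List ℕ := [7, 2, 6, 3, 7, 2, 7, 3, 6, 6, 1, 7, 0, 5, 2, 7, 5, 1, 6, 0, 4, 6, 3, 4, 1, 6, 0, 7]
def rw6922 : List ℕ := [4, 4, 1, 5, 5, 0, 5, 0, 7, 0, 6, 3, 6, 6, 5, 1, 0, 0, 4, 7, 7, 2, 7, 1, 6, 1, 4, 1]
def rw6923 : List ℕ := [5, 3, 4, 3, 4, 7, 1, 6, 5, 2, 5, 2, 4, 3, 5, 3, 5, 7, 4, 1, 0, 0, 5, 6, 4, 2, 4, 2]
def rw6924 : List ℕ := [3, 6, 2, 3, 3, 7, 2, 7, 0, 2, 0, 3, 3, 7, 2, 7, 1, 1, 2, 0, 0, 6, 3, 6, 2, 2, 1, 3, 1, 6]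
def rw6925 : List ℕ := [3, 6, 6, 3, 3, 1, 1, 4, 0, 0, 2, 2, 7, 7, 2, 0, 6, 6, 4, 3, 4, 4, 5, 5, 5, 2, 5, 7, 7, 1]
def rw6926 : List ℕ := [3, 6, 6, 3, 3, 1, 1, 6, 0, 0, 2, 2, 7, 7, 2, 0, 6, 6, 4, 3, 4, 4, 7, 5, 5, 2, 5, 7, 7, 1]
def rw6927 : List ℕ := [1, 1, 6, 0, 0, 2, 2, 7, 7, 2, 0, 6, 6, 4, 3, 4, 4, 7, 5, 5, 2, 5, 7, 7, 1, 3, 6, 6, 3, 3]
def rw6928 : List ℕ := [3, 6, 3, 4, 0, 0, 7, 2, 7, 1, 1, 2, 0, 0, 6, 3, 6, 1, 1, 5, 2, 7, 2, 7, 4, 3, 3, 2, 5, 6]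
def rw6929 : List ℕ := [7, 2, 7, 4, 3, 5, 2, 5, 6, 3, 6, 3, 4, 0, 0, 7, 2, 7, 1, 1, 4, 0, 0, 6, 3, 6, 1, 1, 5, 2]
def rw6930 : List ℕ := [7, 3, 4, 3, 4, 2, 7, 4, 2, 3, 3, 5, 6, 3, 5, 2, 5, 2, 6, 6, 3, 0, 5, 1, 2, 0, 4, 1, 2, 7]
def rw6931 : List ℕ := [4, 3, 1, 7, 4, 7, 2, 7, 3, 3, 1, 2, 0, 2, 2, 6, 3, 6, 5, 6, 0, 2, 5, 6, 1, 2, 3, 3, 0, 7]
def rw6932 : List ℕ := [2, 7, 2, 0, 3, 7, 2, 7, 3, 1, 0, 0, 2, 6, 3, 6, 2, 1, 3, 6, 3, 6, 1, 2, 2, 1, 3, 3, 0, 7]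
def rw6933 : List ℕ := [2, 7, 3, 1, 4, 0, 2, 6, 3, 6, 2, 1, 3, 6, 3, 6, 1, 2, 2, 5, 3, 3, 0, 7, 2, 7, 2, 0, 3, 7]
def rw6934 : List ℕ := [7, 4, 0, 3, 1, 6, 0, 2, 1, 5, 6, 0, 2, 7, 2, 7, 1, 5, 6, 2, 7, 3, 7, 4, 0, 6, 3, 6, 3, 1]
def rw6935 : List ℕ := [6, 5, 1, 7, 4, 6, 2, 4, 4, 1, 5, 5, 1, 4, 0, 4, 4, 0, 5, 5, 3, 7, 5, 6, 0, 4, 7, 5, 5, 4]
def rw6936 : List ℕ := [7, 4, 7, 5, 6, 0, 2, 2, 2, 7, 0, 2, 4, 2, 1, 3, 1, 6, 0, 2, 0, 3, 5, 3, 1, 6, 3, 3, 3, 1]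
def rw6937 : List ℕ := [2, 2, 1, 3, 3, 7, 3, 1, 6, 2, 1, 5, 3, 1, 4, 1, 1, 0, 0, 0, 5, 0, 2, 4, 0, 3, 7, 0, 2, 6]
def rw6938 : List ℕ := [3, 1, 6, 2, 1, 5, 3, 1, 4, 1, 1, 0, 0, 0, 5, 0, 2, 4, 0, 3, 7, 0, 2, 6, 2, 2, 1, 3, 3, 7]
def rw6939 : List ℕ := [7, 3, 1, 6, 2, 1, 5, 3, 1, 4, 1, 1, 4, 0, 0, 5, 0, 2, 4, 0, 3, 7, 0, 2, 6, 2, 2, 5, 3, 3]
def rw6940 : List ℕ := [0, 2, 6, 2, 0, 7, 0, 3, 1, 4, 0, 2, 1, 6, 1, 3, 7, 3, 1, 6, 2, 0, 7, 2, 5, 3, 6, 1, 3, 7]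
def rw6941 : List ℕ := [2, 6, 2, 0, 7, 0, 3, 1, 4, 0, 2, 1, 6, 1, 3, 7, 3, 1, 6, 2, 0, 7, 2, 5, 3, 6, 1, 3, 7, 0]
def rw6942 : List ℕ := [3, 4, 1, 5, 2, 1, 6, 1, 7, 0, 3, 4, 0, 5, 2, 5, 7, 3, 6, 4, 3, 1, 0, 0, 2, 5, 7, 2, 6, 4]
def rw6943 : List ℕ := [7, 3, 7, 2, 7, 2, 1, 3, 6, 3, 6, 2, 6, 3, 3, 5, 6, 3, 3, 5, 1, 0, 0, 4, 2, 2, 7, 4, 2, 2]
def rw6944 : List ℕ := [5, 6, 3, 3, 2, 7, 4, 2, 0, 5, 3, 1, 6, 1, 3, 1, 1, 1, 2, 0, 0, 0, 2, 0, 7, 0, 2, 4, 1, 3]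
def rw6945 : List ℕ := [6, 0, 2, 5, 2, 1, 3, 4, 3, 1, 7, 0, 2, 6, 3, 0, 5, 3, 3, 1, 0, 0, 2, 2, 4, 1, 2, 7, 3, 1]
def rw6946 : List ℕ := [2, 7, 3, 1, 6, 0, 2, 5, 2, 3, 3, 4, 3, 1, 7, 0, 2, 6, 3, 0, 5, 3, 3, 1, 2, 0, 2, 2, 4, 1]
def rw6947 : List ℕ := [5, 1, 7, 3, 6, 0, 4, 0, 2, 5, 2, 0, 4, 7, 4, 1, 3, 1, 2, 0, 2, 0, 5, 6, 5, 1, 3, 4, 3, 1]
def rw6948 : List ℕ := [0, 5, 6, 1, 2, 1, 4, 0, 3, 0, 7, 4, 1, 6, 5, 3, 4, 3, 4, 2, 5, 5, 4, 3, 5, 2, 5, 2, 4, 7]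
def rw6949 : List ℕ := [5, 6, 1, 2, 1, 6, 0, 3, 0, 7, 4, 1, 6, 5, 3, 4, 3, 4, 2, 5, 7, 4, 3, 5, 2, 5, 2, 4, 7, 0]
def rw6950 : List ℕ := [6, 3, 3, 0, 2, 2, 7, 7, 4, 4, 2, 6, 6, 6, 3, 7, 3, 4, 1, 5, 2, 6, 2, 7, 7, 7, 3, 5, 5, 6]
def rw6951 : List ℕ := [3, 6, 1, 2, 7, 4, 3, 1, 6, 0, 2, 5, 6, 3, 0, 7, 2, 7, 1, 2, 0, 5, 6, 7, 7, 4, 1, 3, 0, 6]
def rw6952 : List ℕ := [1, 7, 4, 1, 1, 4, 0, 0, 5, 6, 0, 2, 2, 2, 7, 0, 2, 4, 0, 2, 5, 3, 1, 5, 3, 1, 6, 3, 3, 3]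
def rw6953 : List ℕ := [6, 5, 2, 7, 1, 6, 3, 4, 7, 4, 7, 4, 0, 2, 5, 6, 1, 3, 1, 0, 0, 2, 0, 7, 4, 3, 1, 5, 6, 5]
def rw6954 : List ℕ := [3, 1, 5, 6, 5, 6, 5, 2, 7, 3, 6, 3, 4, 7, 4, 7, 4, 0, 2, 5, 6, 1, 3, 1, 2, 0, 2, 0, 7, 4]
def rw6955 : List ℕ := [7, 4, 7, 4, 0, 2, 5, 6, 1, 3, 1, 2, 0, 2, 0, 7, 4, 3, 1, 5, 6, 5, 6, 5, 2, 7, 3, 6, 3, 4]
def rw6956 : List ℕ := [2, 6, 3, 0, 5, 1, 3, 1, 1, 0, 0, 0, 2, 0, 4, 1, 2, 7, 3, 1, 6, 0, 2, 5, 1, 4, 3, 1, 7, 0]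
def rw6957 : List ℕ := [6, 3, 0, 5, 1, 3, 1, 1, 2, 0, 0, 2, 0, 4, 1, 2, 7, 3, 1, 6, 0, 2, 5, 3, 4, 3, 1, 7, 0, 2]
def rw6958 : List ℕ := [6, 2, 0, 7, 2, 7, 1, 2, 2, 2, 7, 3, 3, 3, 0, 6, 3, 6, 1, 3, 7, 2, 7, 3, 1, 6, 0, 2, 6, 3]
def rw6959 : List ℕ := [7, 2, 7, 3, 1, 3, 7, 4, 0, 3, 1, 0, 0, 2, 1, 5, 6, 2, 0, 2, 6, 3, 6, 5, 6, 2, 1, 3, 7, 4]
def rw6960 : List ℕ := [1, 3, 4, 7, 1, 3, 6, 5, 2, 0, 6, 3, 1, 2, 0, 2, 7, 1, 3, 4, 7, 2, 0, 6, 5, 2, 0, 6, 3, 7]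
def rw6961 : List ℕ := [0, 6, 5, 2, 0, 6, 5, 7, 1, 3, 4, 7, 1, 3, 6, 5, 2, 0, 6, 3, 1, 4, 0, 2, 7, 1, 3, 4, 7, 2]
def rw6962 : List ℕ := [4, 3, 6, 1, 7, 2, 5, 1, 3, 6, 5, 1, 7, 1, 5, 1, 3, 1, 0, 0, 2, 0, 4, 0, 6, 0, 4, 7, 2, 0]
def rw6963 : List ℕ := [1, 7, 1, 5, 1, 3, 1, 2, 0, 2, 0, 4, 0, 6, 0, 4, 7, 2, 0, 4, 3, 6, 3, 7, 2, 5, 1, 3, 6, 5]
def rw6964 : List ℕ := [3, 1, 4, 1, 6, 3, 3, 3, 1, 2, 0, 2, 2, 2, 7, 0, 5, 0, 2, 4, 2, 4, 2, 6, 3, 7, 3, 5, 3, 5]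
def rw6965 : List ℕ := [1, 2, 7, 4, 2, 0, 5, 1, 3, 1, 0, 0, 2, 0, 4, 1, 3, 5, 6, 3, 0, 3, 1, 7, 3, 1, 2, 6, 0, 2]
def rw6966 : List ℕ := [3, 4, 3, 4, 6, 3, 3, 0, 2, 2, 7, 5, 2, 5, 2, 5, 7, 3, 5, 3, 5, 7, 1, 6, 4, 2, 4, 2, 6, 4]
def rw6967 : List ℕ := [2, 2, 7, 3, 5, 3, 1, 3, 5, 0, 5, 6, 7, 7, 4, 1, 4, 2, 0, 2, 4, 2, 6, 3, 3, 3, 1, 6, 0, 2]
def rw6968 : List ℕ := [3, 6, 1, 7, 2, 7, 3, 3, 6, 3, 6, 0, 4, 1, 4, 3, 1, 0, 0, 2, 5, 0, 5, 1, 7, 2, 7, 2, 2, 6]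
def rw6969 : List ℕ := [0, 5, 1, 7, 2, 7, 2, 2, 6, 3, 6, 5, 7, 2, 7, 3, 3, 6, 3, 6, 0, 4, 1, 4, 3, 1, 4, 0, 2, 5]
def rw6970 : List ℕ := [6, 0, 4, 1, 4, 3, 1, 6, 0, 2, 5, 0, 5, 1, 7, 2, 7, 2, 2, 6, 3, 6, 7, 7, 2, 7, 3, 3, 6, 3]
def rw6971 : List ℕ := [5, 1, 3, 1, 6, 0, 2, 0, 4, 1, 3, 5, 6, 0, 2, 2, 2, 7, 3, 7, 2, 6, 3, 3, 3, 1, 7, 4, 2, 0]
def rw6972 : List ℕ := [3, 1, 0, 0, 2, 2, 6, 2, 0, 7, 0, 2, 6, 1, 3, 7, 2, 1, 3, 6, 2, 0, 7, 3, 1, 6, 1, 3, 7, 3]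
def rw6973 : List ℕ := [2, 2, 7, 1, 4, 2, 4, 3, 4, 1, 0, 0, 5, 2, 5, 3, 5, 0, 6, 3, 3, 6, 6, 5, 2, 1, 3, 4, 7, 7]
def rw6974 : List ℕ := [2, 5, 0, 5, 6, 3, 6, 1, 7, 2, 7, 4, 1, 4, 3, 6, 3, 6, 0, 3, 3, 1, 0, 0, 2, 2, 1, 7, 2, 7]
def rw6975 : List ℕ := [7, 3, 1, 4, 0, 2, 6, 3, 4, 3, 5, 5, 0, 5, 3, 3, 5, 7, 5, 6, 4, 2, 2, 4, 1, 4, 4, 2, 5, 2]
def rw6976 : List ℕ := [0, 3, 1, 7, 4, 1, 1, 0, 0, 0, 5, 6, 0, 2, 1, 6, 2, 6, 3, 0, 5, 6, 1, 7, 4, 1, 2, 7, 3, 7]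
def rw6977 : List ℕ := [1, 2, 7, 3, 7, 0, 3, 1, 7, 4, 1, 1, 6, 0, 0, 5, 6, 0, 2, 1, 6, 2, 6, 3, 0, 5, 6, 7, 7, 4]
def rw6978 : List ℕ := [3, 1, 3, 1, 0, 0, 2, 0, 2, 7, 4, 7, 2, 7, 0, 2, 0, 7, 4, 1, 5, 6, 1, 3, 1, 6, 3, 6, 5, 6]
def rw6979 : List ℕ := [6, 5, 6, 3, 1, 3, 1, 2, 0, 2, 0, 2, 7, 4, 7, 2, 7, 0, 2, 0, 7, 4, 3, 5, 6, 1, 3, 1, 6, 3]
def rw6980 : List ℕ := [3, 6, 5, 6, 3, 1, 3, 1, 4, 0, 2, 0, 2, 7, 4, 7, 2, 7, 0, 2, 0, 7, 4, 5, 5, 6, 1, 3, 1, 6]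
def rw6981 : List ℕ := [6, 3, 1, 2, 7, 2, 4, 6, 0, 2, 6, 0, 5, 7, 1, 3, 1, 0, 0, 2, 0, 6, 4, 1, 7, 3, 1, 7, 5, 3]
def rw6982 : List ℕ := [0, 5, 7, 1, 3, 1, 0, 0, 2, 0, 6, 4, 1, 7, 3, 1, 7, 5, 3, 6, 3, 1, 2, 7, 2, 4, 6, 0, 2, 6]
def rw6983 : List ℕ := [1, 3, 1, 6, 0, 2, 0, 6, 4, 1, 7, 3, 1, 7, 5, 3, 6, 3, 7, 2, 7, 2, 4, 6, 0, 2, 6, 0, 5, 7]
def rw6984 : List ℕ := [7, 3, 6, 0, 2, 5, 6, 0, 2, 5, 0, 7, 2, 7, 1, 1, 2, 0, 0, 6, 3, 6, 1, 4, 3, 1, 7, 4, 3, 1]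
def rw6985 : List ℕ := [7, 1, 5, 2, 7, 1, 5, 6, 5, 6, 3, 1, 0, 0, 2, 7, 4, 7, 4, 0, 6, 3, 4, 0, 6, 3, 4, 1, 5, 2]
def rw6986 : List ℕ := [7, 1, 5, 2, 7, 1, 5, 6, 5, 6, 3, 1, 4, 0, 2, 7, 4, 7, 4, 0, 6, 3, 4, 0, 6, 3, 4, 5, 5, 2]
def rw6987 : List ℕ := [1, 5, 6, 5, 6, 3, 1, 6, 0, 2, 7, 4, 7, 4, 0, 6, 3, 4, 0, 6, 3, 4, 7, 5, 2, 7, 1, 5, 2, 7]
def rw6988 : List ℕ := [2, 4, 6, 3, 3, 1, 0, 0, 2, 2, 7, 5, 3, 6, 0, 2, 6, 4, 1, 7, 2, 1, 3, 6, 0, 5, 7, 3, 1, 7]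
def rw6989 : List ℕ := [5, 1, 3, 6, 5, 1, 3, 6, 5, 2, 2, 1, 3, 3, 4, 7, 2, 0, 4, 7, 2, 0, 4, 7, 3, 1, 0, 0, 2, 6]
def rw6990 : List ℕ := [7, 2, 5, 1, 3, 6, 5, 1, 7, 1, 5, 3, 4, 0, 6, 0, 4, 7, 2, 0, 4, 3, 6, 1, 3, 1, 2, 0, 2, 0]
def rw6991 : List ℕ := [6, 4, 0, 4, 4, 1, 5, 5, 1, 5, 7, 0, 2, 6, 4, 0, 4, 4, 3, 1, 0, 0, 2, 5, 5, 1, 5, 7, 3, 1]
def rw6992 : List ℕ := [5, 1, 5, 7, 0, 2, 6, 4, 0, 4, 4, 3, 1, 2, 0, 2, 5, 5, 1, 5, 7, 3, 1, 6, 4, 0, 4, 4, 3, 5]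
def rw6993 : List ℕ := [3, 7, 2, 7, 0, 5, 0, 5, 3, 5, 3, 5, 6, 3, 3, 1, 6, 0, 2, 2, 7, 4, 2, 4, 2, 4, 1, 4, 1, 6]
def rw6994 : List ℕ := [6, 5, 6, 5, 2, 7, 3, 1, 3, 7, 4, 3, 1, 0, 0, 2, 5, 6, 2, 0, 2, 6, 3, 4, 7, 4, 7, 4, 1, 5]
def rw6995 : List ℕ := [6, 0, 2, 5, 3, 1, 4, 1, 2, 7, 1, 6, 3, 0, 5, 0, 2, 4, 3, 1, 7, 1, 3, 1, 1, 0, 0, 0, 2, 0]
def rw6996 : List ℕ := [0, 2, 5, 3, 1, 4, 1, 2, 7, 7, 6, 3, 0, 5, 0, 2, 4, 3, 1, 7, 1, 3, 1, 1, 6, 0, 0, 2, 0, 6]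
def rw6997 : List ℕ := [6, 3, 0, 2, 2, 7, 4, 1, 4, 1, 3, 1, 2, 0, 2, 0, 5, 0, 5, 6, 3, 3, 1, 2, 7, 3, 5, 3, 4, 2]
def rw6998 : List ℕ := [5, 3, 6, 2, 1, 3, 7, 2, 4, 6, 0, 2, 6, 0, 5, 7, 0, 3, 1, 0, 0, 2, 1, 6, 4, 1, 7, 3, 1, 7]
def rw6999 : List ℕ := [0, 2, 6, 0, 5, 7, 0, 3, 1, 0, 0, 2, 1, 6, 4, 1, 7, 3, 1, 7, 5, 3, 6, 2, 1, 3, 7, 2, 4, 6]
def rw7000 : List ℕ := [1, 3, 6, 6, 1, 7, 7, 2, 0, 6, 6, 4, 3, 4, 4, 0, 3, 3, 1, 0, 0, 2, 2, 1, 5, 5, 2, 5, 7, 7]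
def rw7001 : List ℕ := [6, 1, 7, 7, 2, 0, 6, 6, 4, 3, 4, 4, 0, 3, 3, 1, 0, 0, 2, 2, 1, 5, 5, 2, 5, 7, 7, 1, 3, 6]
def rw7002 : List ℕ := [6, 4, 3, 4, 4, 0, 3, 3, 1, 0, 0, 2, 2, 1, 5, 5, 2, 5, 7, 7, 1, 3, 6, 6, 1, 7, 7, 2, 0, 6]
def rw7003 : List ℕ := [1, 3, 6, 6, 5, 7, 7, 2, 0, 6, 6, 4, 3, 4, 4, 0, 3, 3, 1, 4, 0, 2, 2, 1, 5, 5, 2, 5, 7, 7]
def rw7004 : List ℕ := [1, 6, 0, 2, 6, 4, 4, 1, 3, 5, 3, 3, 5, 2, 2, 7, 7, 6, 3, 3, 4, 2, 2, 4, 2, 0, 5, 5, 7, 3]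
def rw7005 : List ℕ := [1, 6, 3, 3, 5, 2, 1, 3, 4, 2, 2, 7, 0, 2, 6, 3, 3, 5, 0, 3, 1, 0, 0, 2, 1, 4, 2, 2, 7, 3]
def rw7006 : List ℕ := [6, 3, 1, 0, 0, 2, 7, 2, 7, 2, 0, 4, 7, 2, 7, 1, 5, 2, 1, 3, 4, 0, 6, 3, 6, 5, 1, 3, 6, 3]
def rw7007 : List ℕ := [3, 6, 5, 1, 3, 6, 3, 6, 3, 1, 6, 0, 2, 7, 2, 7, 2, 0, 4, 7, 2, 7, 1, 5, 2, 7, 3, 4, 0, 6]
def rw7008 : List ℕ := [7, 7, 1, 3, 6, 6, 1, 7, 7, 2, 0, 6, 6, 5, 1, 2, 0, 4, 0, 3, 1, 0, 0, 2, 1, 5, 1, 3, 0, 4]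
def rw7009 : List ℕ := [6, 5, 1, 2, 0, 4, 0, 3, 1, 0, 0, 2, 1, 5, 1, 3, 0, 4, 7, 7, 1, 3, 6, 6, 1, 7, 7, 2, 0, 6]
def rw7010 : List ℕ := [1, 3, 6, 6, 3, 7, 7, 2, 0, 6, 6, 5, 1, 2, 0, 4, 0, 3, 1, 2, 0, 2, 1, 5, 1, 3, 0, 4, 7, 7]
def rw7011 : List ℕ := [7, 1, 3, 6, 6, 3, 7, 7, 2, 0, 6, 6, 5, 1, 2, 0, 4, 0, 3, 1, 2, 0, 2, 1, 5, 1, 3, 0, 4, 7]
def rw7012 : List ℕ := [6, 6, 5, 7, 7, 2, 0, 6, 6, 5, 1, 2, 0, 4, 0, 3, 1, 4, 0, 2, 1, 5, 1, 3, 0, 4, 7, 7, 1, 3]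
def rw7013 : List ℕ := [7, 2, 0, 6, 6, 5, 1, 2, 0, 4, 0, 3, 1, 4, 0, 2, 1, 5, 1, 3, 0, 4, 7, 7, 1, 3, 6, 6, 5, 7]
def rw7014 : List ℕ := [3, 6, 6, 7, 7, 7, 2, 0, 6, 6, 5, 1, 2, 0, 4, 0, 3, 1, 6, 0, 2, 1, 5, 1, 3, 0, 4, 7, 7, 1]
def rw7015 : List ℕ := [1, 6, 2, 1, 5, 3, 1, 4, 2, 5, 3, 5, 0, 2, 4, 0, 3, 7, 0, 2, 6, 2, 1, 1, 4, 0, 0, 3, 7, 3]
def rw7016 : List ℕ := [4, 6, 3, 5, 0, 6, 6, 3, 3, 1, 0, 0, 2, 2, 7, 7, 1, 4, 2, 7, 5, 6, 5, 1, 5, 1, 4, 0, 4, 7]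
def rw7017 : List ℕ := [4, 6, 3, 5, 0, 6, 6, 3, 3, 1, 2, 0, 2, 2, 7, 7, 1, 4, 2, 7, 5, 6, 5, 1, 5, 3, 4, 0, 4, 7]
def rw7018 : List ℕ := [3, 3, 1, 4, 0, 2, 2, 7, 7, 1, 4, 2, 7, 5, 6, 5, 1, 5, 5, 4, 0, 4, 7, 4, 6, 3, 5, 0, 6, 6]
def rw7019 : List ℕ := [7, 1, 4, 2, 7, 5, 6, 5, 1, 5, 7, 4, 0, 4, 7, 4, 6, 3, 5, 0, 6, 6, 3, 3, 1, 6, 0, 2, 2, 7]
def rw7020 : List ℕ := [3, 0, 3, 1, 7, 0, 2, 4, 0, 2, 5, 3, 1, 5, 3, 1, 6, 0, 2, 1, 2, 7, 4, 1, 1, 4, 0, 0, 5, 6]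
def rw7021 : List ℕ := [1, 6, 4, 2, 4, 1, 3, 0, 5, 3, 1, 0, 0, 2, 4, 1, 2, 0, 5, 3, 5, 7, 0, 2, 6, 3, 1, 2, 7, 3]
def rw7022 : List ℕ := [5, 5, 0, 3, 1, 4, 0, 2, 1, 4, 4, 0, 2, 4, 0, 7, 3, 5, 6, 3, 5, 2, 7, 4, 2, 6, 1, 5, 3, 1]
def rw7023 : List ℕ := [6, 3, 0, 6, 3, 4, 1, 0, 0, 5, 2, 7, 1, 2, 7, 0, 5, 3, 5, 6, 6, 3, 1, 2, 7, 7, 4, 2, 4, 1]
def rw7024 : List ℕ := [1, 7, 2, 7, 2, 6, 4, 1, 7, 3, 1, 4, 0, 2, 6, 0, 5, 7, 3, 6, 3, 6, 0, 6, 4, 6, 5, 7, 5, 7]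
def rw7025 : List ℕ := [2, 7, 1, 2, 0, 7, 2, 7, 3, 1, 4, 0, 2, 6, 3, 6, 1, 3, 0, 6, 3, 6, 1, 2, 2, 5, 3, 3, 0, 7]
def rw7026 : List ℕ := [1, 2, 2, 7, 3, 3, 0, 7, 2, 7, 1, 2, 0, 7, 2, 7, 3, 1, 6, 0, 2, 6, 3, 6, 1, 3, 0, 6, 3, 6]
def rw7027 : List ℕ := [0, 7, 0, 2, 6, 1, 3, 7, 3, 6, 2, 0, 7, 3, 1, 6, 1, 3, 7, 3, 1, 3, 1, 2, 0, 2, 0, 2, 6, 2]
def rw7028 : List ℕ := [7, 3, 1, 6, 2, 0, 7, 3, 1, 3, 1, 4, 0, 2, 0, 2, 6, 1, 3, 7, 0, 2, 6, 2, 0, 7, 5, 6, 1, 3]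
def rw7029 : List ℕ := [2, 3, 3, 0, 6, 3, 6, 5, 6, 0, 2, 5, 6, 3, 3, 1, 2, 0, 2, 2, 7, 4, 3, 1, 7, 4, 7, 2, 7, 1]
def rw7030 : List ℕ := [7, 2, 7, 1, 1, 1, 0, 0, 0, 0, 6, 3, 6, 1, 1, 3, 6, 3, 6, 0, 2, 1, 3, 1, 7, 2, 7, 2, 0, 0]
def rw7031 : List ℕ := [3, 6, 3, 5, 1, 4, 2, 7, 2, 7, 2, 4, 2, 7, 2, 7, 5, 3, 1, 0, 0, 2, 4, 6, 3, 6, 3, 5, 3, 6]
def rw7032 : List ℕ := [2, 7, 2, 4, 2, 7, 2, 7, 5, 3, 1, 2, 0, 2, 4, 6, 3, 6, 3, 5, 3, 6, 3, 6, 3, 5, 3, 4, 2, 7]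
def rw7033 : List ℕ := [3, 6, 1, 5, 1, 0, 0, 4, 0, 7, 2, 6, 3, 0, 5, 2, 2, 7, 3, 4, 1, 5, 2, 6, 3, 3, 4, 1, 2, 7]
def rw7034 : List ℕ := [1, 2, 7, 3, 6, 1, 5, 1, 2, 0, 4, 0, 7, 2, 6, 3, 0, 5, 2, 2, 7, 3, 4, 3, 5, 2, 6, 3, 3, 4]
def rw7035 : List ℕ := [5, 6, 0, 4, 4, 4, 1, 5, 5, 1, 6, 0, 4, 4, 0, 5, 5, 5, 1, 7, 4, 6, 2, 7, 5, 7, 4, 6, 3, 7]
def rw7036 : List ℕ := [5, 1, 7, 1, 5, 3, 1, 0, 0, 2, 4, 0, 6, 0, 4, 7, 2, 0, 4, 3, 6, 2, 1, 3, 7, 2, 5, 1, 3, 6]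
def rw7037 : List ℕ := [7, 7, 1, 2, 7, 5, 2, 5, 1, 1, 1, 2, 0, 0, 0, 4, 3, 4, 6, 3, 0, 6, 6, 0, 0, 5, 3, 4, 1, 1]
def rw7038 : List ℕ := [6, 5, 2, 7, 4, 7, 4, 3, 5, 6, 5, 6, 3, 4, 7, 4, 3, 4, 0, 6, 5, 1, 2, 0, 4, 7, 1, 5, 2, 5]
def rw7039 : List ℕ := [5, 2, 1, 2, 2, 2, 5, 7, 3, 1, 6, 0, 2, 6, 4, 3, 3, 3, 0, 3, 4, 0, 3, 4, 7, 7, 6, 5, 2, 1]
def rw7040 : List ℕ := [1, 6, 2, 2, 7, 4, 1, 6, 1, 3, 3, 1, 4, 0, 2, 2, 0, 7, 0, 5, 6, 3, 3, 7, 0, 5, 6, 5, 7, 4]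
def rw7041 : List ℕ := [6, 0, 2, 6, 0, 2, 6, 3, 3, 1, 2, 0, 2, 2, 7, 3, 1, 7, 3, 1, 7, 3, 4, 3, 4, 3, 5, 2, 5, 2]
def rw7042 : List ℕ := [3, 1, 6, 4, 2, 4, 1, 3, 0, 5, 0, 3, 1, 4, 0, 2, 1, 4, 1, 2, 0, 5, 3, 5, 7, 0, 2, 6, 5, 7]
def rw7043 : List ℕ := [6, 3, 0, 3, 1, 2, 0, 2, 1, 2, 7, 7, 3, 1, 6, 3, 0, 5, 5, 6, 3, 7, 4, 4, 1, 2, 7, 0, 2, 6]
def rw7044 : List ℕ := [7, 1, 2, 1, 3, 1, 1, 1, 2, 0, 0, 0, 2, 0, 3, 0, 6, 0, 6, 3, 6, 0, 6, 3, 7, 1, 7, 2, 7, 1]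
def rw7045 : List ℕ := [3, 6, 0, 6, 7, 7, 1, 7, 2, 7, 1, 7, 1, 2, 1, 3, 1, 1, 1, 6, 0, 0, 0, 2, 0, 3, 0, 6, 0, 6]
def rw7046 : List ℕ := [7, 1, 7, 1, 6, 1, 7, 0, 6, 0, 6, 6, 5, 1, 4, 0, 2, 5, 3, 1, 0, 0, 2, 4, 3, 1, 5, 0, 4, 7]
def rw7047 : List ℕ := [7, 1, 6, 5, 7, 0, 6, 0, 6, 6, 5, 1, 4, 0, 2, 5, 3, 1, 4, 0, 2, 4, 3, 1, 5, 0, 4, 7, 7, 1]
def rw7048 : List ℕ := [6, 6, 3, 0, 5, 5, 3, 5, 7, 3, 1, 0, 0, 2, 6, 4, 2, 4, 4, 1, 2, 7, 7, 1, 4, 6, 1, 7, 5, 0]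
def rw7049 : List ℕ := [2, 6, 4, 2, 4, 4, 1, 2, 7, 7, 1, 4, 6, 3, 7, 5, 0, 6, 6, 3, 0, 5, 5, 3, 5, 7, 3, 1, 2, 0]
def rw7050 : List ℕ := [3, 7, 3, 1, 6, 2, 0, 7, 3, 3, 1, 0, 0, 2, 2, 6, 1, 3, 7, 0, 2, 6, 2, 0, 7, 2, 1, 3, 6, 1]
def rw7051 : List ℕ := [1, 6, 2, 0, 7, 3, 3, 1, 4, 0, 2, 2, 6, 1, 3, 7, 0, 2, 6, 2, 0, 7, 2, 5, 3, 6, 1, 3, 7, 3]
def rw7052 : List ℕ := [6, 2, 7, 1, 4, 0, 5, 1, 4, 3, 1, 2, 0, 2, 5, 0, 4, 1, 5, 0, 6, 3, 7, 5, 6, 3, 3, 2, 7, 4]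
def rw7053 : List ℕ := [3, 6, 4, 6, 3, 1, 6, 2, 1, 3, 3, 2, 0, 3, 7, 0, 2, 7, 5, 7, 2, 6, 5, 1, 1, 2, 0, 0, 4, 7]
def rw7054 : List ℕ := [6, 4, 6, 3, 1, 6, 2, 1, 3, 3, 2, 0, 3, 7, 0, 2, 7, 5, 7, 2, 6, 5, 1, 1, 2, 0, 0, 4, 7, 3]
def rw7055 : List ℕ := [1, 7, 1, 2, 5, 2, 5, 1, 4, 3, 1, 0, 0, 2, 5, 0, 4, 3, 4, 3, 0, 6, 0, 2, 6, 6, 1, 7, 7, 3]
def rw7056 : List ℕ := [5, 7, 2, 7, 1, 6, 0, 6, 3, 6, 4, 7, 1, 7, 4, 7, 4, 0, 6, 5, 7, 4, 7, 1, 5, 6, 5, 6, 0, 6]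
def rw7057 : List ℕ := [1, 3, 1, 1, 0, 0, 0, 2, 0, 6, 0, 2, 1, 2, 7, 4, 2, 0, 5, 1, 4, 1, 3, 5, 6, 3, 0, 3, 1, 7]
def rw7058 : List ℕ := [1, 7, 1, 3, 1, 1, 4, 0, 0, 2, 0, 6, 0, 2, 1, 2, 7, 4, 2, 0, 5, 5, 4, 1, 3, 5, 6, 3, 0, 3]
def rw7059 : List ℕ := [6, 3, 6, 3, 4, 5, 5, 2, 7, 2, 7, 4, 3, 0, 7, 2, 7, 1, 1, 1, 4, 0, 0, 0, 6, 3, 6, 1, 2, 5]
def rw7060 : List ℕ := [2, 7, 4, 3, 0, 7, 2, 7, 1, 1, 1, 6, 0, 0, 0, 6, 3, 6, 1, 2, 5, 6, 3, 6, 3, 4, 7, 5, 2, 7]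
def rw7061 : List ℕ := [3, 6, 3, 1, 3, 0, 7, 2, 7, 1, 1, 1, 2, 0, 0, 0, 6, 3, 6, 1, 2, 0, 2, 7, 2, 7, 2, 3, 3, 6]
def rw7062 : List ℕ := [2, 7, 1, 1, 1, 2, 0, 0, 0, 6, 3, 6, 1, 2, 0, 2, 7, 2, 7, 2, 3, 3, 6, 3, 6, 3, 1, 3, 0, 7]
def rw7063 : List ℕ := [6, 3, 4, 1, 3, 5, 3, 5, 2, 7, 1, 3, 1, 6, 0, 2, 0, 6, 3, 4, 2, 4, 2, 0, 5, 2, 7, 3, 7, 2]
def rw7064 : List ℕ := [4, 1, 3, 1, 0, 0, 2, 0, 5, 6, 0, 2, 0, 6, 3, 6, 5, 6, 3, 1, 2, 7, 4, 7, 2, 7, 1, 3, 1, 7]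
def rw7065 : List ℕ := [4, 7, 2, 7, 1, 3, 1, 7, 4, 1, 3, 1, 2, 0, 2, 0, 5, 6, 0, 2, 0, 6, 3, 6, 5, 6, 3, 3, 2, 7]
def rw7066 : List ℕ := [6, 0, 4, 4, 3, 1, 1, 2, 0, 0, 2, 5, 5, 1, 7, 7, 5, 6, 2, 7, 2, 7, 3, 6, 3, 6, 3, 7, 4, 6]
def rw7067 : List ℕ := [6, 6, 0, 4, 4, 3, 1, 1, 4, 0, 0, 2, 5, 5, 1, 7, 7, 5, 6, 2, 7, 2, 7, 5, 6, 3, 6, 3, 7, 4]
def rw7068 : List ℕ := [0, 5, 3, 1, 3, 1, 6, 0, 2, 0, 2, 4, 1, 2, 7, 3, 1, 6, 0, 2, 5, 7, 4, 3, 1, 7, 0, 2, 6, 3]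
def rw7069 : List ℕ := [6, 3, 6, 0, 6, 0, 3, 3, 1, 3, 1, 2, 0, 2, 2, 1, 7, 1, 7, 2, 7, 1, 7, 1, 1, 0, 0, 0, 6, 0]
def rw7070 : List ℕ := [2, 7, 1, 7, 1, 1, 0, 0, 0, 6, 0, 6, 3, 6, 0, 6, 0, 3, 3, 1, 3, 1, 2, 0, 2, 2, 1, 7, 1, 7]
def rw7071 : List ℕ := [1, 6, 2, 0, 7, 0, 2, 6, 2, 1, 3, 7, 3, 1, 6, 1, 3, 7, 0, 2, 6, 1, 3, 1, 0, 0, 2, 0, 7, 3]
def rw7072 : List ℕ := [6, 3, 0, 3, 1, 2, 0, 2, 1, 2, 7, 4, 3, 1, 3, 3, 5, 3, 1, 6, 3, 7, 0, 2, 4, 2, 2, 0, 2, 5]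
def rw7073 : List ℕ := [0, 4, 4, 3, 5, 3, 3, 5, 0, 4, 7, 5, 1, 4, 2, 2, 4, 2, 5, 5, 1, 1, 6, 0]
def rw7074 : List ℕ := [5, 6, 5, 6, 5, 0, 4, 7, 4, 7, 4, 7, 4, 7, 1, 6, 5, 6]
def rw7075 : List ℕ := [5, 6, 5, 6, 5, 6, 5, 2, 4, 7, 4, 7, 4, 7, 4, 7, 3, 6]
def rw7076 : List ℕ := [2, 4, 4, 3, 4, 7, 1, 6, 5, 2, 5, 5, 3, 5, 2, 7, 4, 1, 0, 0, 5, 6, 3, 4]
def rw7077 : List ℕ := [5, 1, 3, 6, 5, 1, 4, 0, 4, 7, 2, 0, 4, 7, 2, 0, 4, 7, 2, 5, 3, 6, 5, 1, 3, 6]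
def rw7078 : List ℕ := [5, 1, 6, 0, 4, 7, 2, 0, 4, 7, 2, 0, 4, 7, 2, 7, 3, 6, 5, 1, 3, 6, 5, 1, 3, 6]
def rw7079 : List ℕ := [4, 4, 7, 5, 5, 5, 7, 3, 1, 6, 3, 3, 5, 5, 1, 1, 6, 0, 0, 4, 4, 2, 2, 7, 0, 2, 6, 4]
def rw7080 : List ℕ := [5, 0, 3, 4, 7, 1, 6, 5, 2, 1, 4, 1, 4, 2, 7, 4, 1, 3, 1, 0, 0, 2, 0, 5, 6, 3, 5, 0]
def rw7081 : List ℕ := [4, 4, 7, 5, 5, 6, 3, 7, 5, 6, 5, 2, 5, 2, 5, 1, 6, 0, 4, 3, 4, 3, 4, 7, 4, 6, 2, 7]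
def rw7082 : List ℕ := [6, 2, 5, 2, 5, 1, 0, 0, 4, 3, 4, 3, 7, 5, 2, 7, 2, 0, 4, 7, 1, 6, 5, 1, 3, 6, 3, 4]
def rw7083 : List ℕ := [5, 6, 4, 1, 4, 1, 6, 5, 1, 2, 0, 4, 7, 0, 5, 0, 5, 7, 4, 3, 4, 7, 2, 3, 3, 6, 5, 2]
def rw7084 : List ℕ := [5, 5, 3, 5, 3, 3, 4, 7, 1, 6, 5, 2, 2, 4, 2, 4, 4, 2, 2, 7, 4, 1, 0, 0, 5, 6, 3, 3]
def rw7085 : List ℕ := [4, 2, 5, 3, 4, 3, 4, 7, 1, 6, 5, 2, 5, 2, 4, 3, 5, 3, 5, 7, 4, 1, 0, 0, 5, 6, 4, 2]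
def rw7086 : List ℕ := [7, 3, 4, 3, 4, 3, 6, 1, 7, 2, 5, 2, 5, 2, 6, 0, 4, 3, 4, 3, 3, 1, 0, 0, 2, 2, 5, 2, 5, 1]
def rw7087 : List ℕ := [6, 1, 7, 0, 3, 4, 0, 5, 2, 5, 7, 3, 6, 4, 3, 1, 0, 0, 2, 5, 7, 2, 6, 4, 3, 4, 1, 5, 2, 1]
def rw7088 : List ℕ := [7, 7, 4, 4, 2, 6, 6, 6, 3, 7, 3, 4, 3, 5, 2, 6, 2, 7, 7, 7, 3, 5, 5, 6, 6, 3, 3, 2, 2, 2]
def rw7089 : List ℕ := [0, 2, 5, 6, 1, 3, 1, 0, 0, 2, 0, 7, 4, 3, 1, 5, 6, 5, 6, 5, 2, 7, 1, 6, 3, 4, 7, 4, 7, 4]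
def rw7090 : List ℕ := [5, 6, 5, 2, 7, 3, 6, 3, 4, 7, 4, 7, 4, 0, 2, 5, 6, 1, 3, 1, 2, 0, 2, 0, 7, 4, 3, 1, 5, 6]
def rw7091 : List ℕ := [3, 1, 5, 6, 5, 6, 5, 2, 7, 7, 6, 3, 4, 7, 4, 7, 4, 0, 2, 5, 6, 1, 3, 1, 6, 0, 2, 0, 7, 4]
def rw7092 : List ℕ := [1, 3, 4, 7, 2, 0, 6, 5, 2, 0, 6, 1, 7, 1, 3, 4, 7, 1, 3, 6, 5, 2, 0, 6, 3, 1, 0, 0, 2, 7]
def rw7093 : List ℕ := [5, 2, 0, 6, 3, 1, 4, 0, 2, 7, 1, 3, 4, 7, 2, 0, 6, 5, 2, 0, 6, 5, 7, 1, 3, 4, 7, 1, 3, 6]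
def rw7094 : List ℕ := [0, 4, 0, 4, 0, 6, 3, 1, 2, 7, 1, 5, 1, 5, 1, 2, 7, 1, 5, 1, 5, 1, 0, 0, 4, 0, 4, 0, 6, 3]
def rw7095 : List ℕ := [6, 3, 1, 0, 0, 2, 7, 4, 7, 4, 0, 6, 3, 4, 0, 6, 3, 4, 1, 5, 2, 7, 1, 5, 2, 7, 1, 5, 6, 5]
def rw7096 : List ℕ := [1, 3, 6, 5, 1, 3, 6, 5, 2, 2, 1, 3, 3, 4, 7, 2, 0, 4, 7, 2, 0, 4, 7, 3, 1, 0, 0, 2, 6, 5]
def rw7097 : List ℕ := [3, 6, 5, 1, 3, 6, 5, 2, 2, 5, 3, 3, 4, 7, 2, 0, 4, 7, 2, 0, 4, 7, 3, 1, 4, 0, 2, 6, 5, 1]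
def rw7098 : List ℕ := [5, 1, 7, 1, 5, 7, 4, 0, 6, 0, 4, 7, 2, 0, 4, 3, 6, 1, 3, 1, 6, 0, 2, 0, 7, 2, 5, 1, 3, 6]
def rw7099 : List ℕ := [1, 3, 7, 4, 3, 1, 6, 0, 2, 5, 6, 2, 0, 2, 6, 3, 4, 7, 4, 7, 4, 7, 5, 6, 5, 6, 5, 2, 7, 3]
def rw7100 : List ℕ := [5, 3, 1, 4, 0, 2, 4, 0, 6, 0, 4, 7, 2, 0, 4, 3, 6, 2, 5, 3, 7, 2, 5, 1, 3, 6, 5, 1, 7, 1]
def rw7101 : List ℕ := [3, 5, 6, 5, 2, 5, 5, 2, 7, 5, 2, 5, 1, 4, 0, 4, 3, 4, 6, 3, 4, 4, 3, 4, 7, 4, 2, 2, 5, 3]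
def rw7102 : List ℕ := [4, 2, 2, 7, 3, 3, 5, 6, 5, 2, 5, 5, 2, 7, 5, 2, 5, 1, 6, 0, 4, 3, 4, 6, 3, 4, 4, 3, 4, 7]
def rw7103 : List ℕ := [6, 5, 1, 0, 0, 4, 7, 4, 3, 6, 5, 6, 3, 4, 0, 6, 0, 6, 1, 7, 1, 7, 1, 5, 2, 7, 4, 7, 2, 5]
def rw7104 : List ℕ := [1, 7, 4, 7, 4, 0, 6, 5, 3, 4, 7, 1, 5, 6, 5, 6, 0, 6, 5, 7, 2, 7, 1, 2, 0, 6, 3, 6, 4, 7]
def rw7105 : List ℕ := [5, 6, 5, 6, 0, 6, 5, 7, 2, 7, 1, 4, 0, 6, 3, 6, 4, 7, 1, 7, 4, 7, 4, 0, 6, 5, 5, 4, 7, 1]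
def rw7106 : List ℕ := [2, 0, 2, 2, 1, 2, 7, 3, 0, 3, 3, 1, 3, 0, 3, 3, 1, 6, 0, 2, 2, 1]
def rw7107 : List ℕ := [2, 7, 3, 5, 3, 5, 0, 5, 3, 5, 1, 3, 1, 1, 6, 0, 0, 2, 0, 4, 2, 4, 1, 4, 2, 4]
def rw7108 : List ℕ := [7, 4, 1, 4, 1, 2, 4, 1, 4, 2, 0, 5, 1, 6, 0, 4, 1, 3, 5, 0, 5, 3, 0, 5, 0, 5]
def rw7109 : List ℕ := [3, 5, 0, 5, 3, 5, 7, 4, 2, 4, 1, 4, 2, 4, 1, 6, 0, 5]
def rw7110 : List ℕ := [2, 5, 0, 0, 0, 5, 2, 5, 7, 4, 3, 4, 1, 1, 1, 4, 3, 4, 1, 1, 1, 6, 0, 0, 0, 5]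
def rw7111 : List ℕ := [2, 1, 4, 3, 1, 2, 1, 5, 7, 4, 0, 3, 0, 2, 5, 0, 3, 3, 3, 1, 1, 6, 0, 0, 2, 2]
def rw7112 : List ℕ := [4, 2, 0, 5, 0, 5, 0, 5, 7, 4, 1, 4, 1, 4, 1, 3, 5, 0, 5, 3, 1, 6, 0, 2, 4, 1]
def rw7113 : List ℕ := [2, 4, 2, 0, 5, 3, 5, 7, 4, 2, 4, 1, 3, 5, 3, 5, 3, 5, 3, 1, 6, 0, 2, 4, 2, 4]
def rw7114 : List ℕ := [2, 5, 0, 2, 5, 0, 2, 5, 7, 4, 3, 1, 4, 3, 1, 4, 3, 1, 4, 3, 1, 6, 0, 2, 5, 0]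
def rw7115 : List ℕ := [5, 2, 5, 2, 0, 4, 3, 4, 7, 5, 2, 5, 1, 3, 4, 3, 4, 3, 4, 3, 1, 6, 0, 2, 5, 2]
def rw7116 : List ℕ := [4, 2, 0, 5, 3, 5, 7, 4, 2, 4, 1, 3, 5, 5, 3, 5, 3, 5, 1, 6, 0, 4, 2, 4, 2, 4]
def rw7117 : List ℕ := [4, 4, 0, 5, 2, 2, 4, 4, 7, 5, 5, 3, 3, 4, 1, 5, 5, 3, 3, 4, 1, 6, 0, 5, 2, 2]
def rw7118 : List ℕ := [5, 6, 5, 0, 4, 7, 4, 7, 4, 7, 4, 7, 1, 6, 5, 6, 5, 6]
def rw7119 : List ℕ := [6, 5, 6, 5, 6, 5, 2, 4, 7, 4, 7, 4, 7, 4, 7, 3, 6, 5]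
def rw7120 : List ℕ := [5, 6, 5, 4, 4, 7, 4, 7, 4, 7, 4, 7, 5, 6, 5, 6, 5, 6]
def rw7121 : List ℕ := [5, 4, 4, 7, 4, 7, 4, 7, 4, 7, 5, 6, 5, 6, 5, 6, 5, 6]
def rw7122 : List ℕ := [7, 4, 7, 7, 6, 5, 6, 5, 6, 5, 6, 5, 6, 4, 7, 4, 7, 4]
def rw7123 : List ℕ := [4, 2, 4, 4, 3, 4, 7, 1, 6, 5, 2, 5, 5, 3, 5, 2, 7, 4, 1, 0, 0, 5, 6, 3]
def rw7124 : List ℕ := [3, 6, 0, 6, 5, 7, 1, 7, 2, 7, 1, 7, 1, 1, 3, 1, 1, 4, 0, 0, 2, 0, 0, 6, 0, 6]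
def rw7125 : List ℕ := [2, 0, 7, 2, 7, 1, 7, 2, 7, 2, 1, 3, 6, 3, 6, 0, 6, 3, 6, 1, 3, 1, 1, 0, 0, 0]
def rw7126 : List ℕ := [1, 3, 1, 1, 0, 0, 0, 2, 0, 7, 2, 7, 1, 7, 2, 7, 2, 1, 3, 6, 3, 6, 0, 6, 3, 6]
def rw7127 : List ℕ := [3, 6, 2, 5, 3, 7, 2, 7, 1, 2, 0, 7, 2, 7, 1, 1, 4, 0, 0, 6, 3, 6, 1, 3, 0, 6]
def rw7128 : List ℕ := [6, 1, 3, 0, 6, 3, 6, 2, 7, 3, 7, 2, 7, 1, 2, 0, 7, 2, 7, 1, 1, 6, 0, 0, 6, 3]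
def rw7129 : List ℕ := [4, 7, 2, 7, 1, 5, 0, 7, 2, 7, 1, 1, 2, 0, 0, 6, 3, 6, 1, 4, 0, 6, 3, 6, 5, 3]
def rw7130 : List ℕ := [1, 5, 3, 4, 0, 6, 3, 6, 5, 0, 7, 2, 7, 1, 1, 2, 0, 0, 6, 3, 6, 1, 4, 7, 2, 7]
def rw7131 : List ℕ := [6, 1, 1, 4, 0, 0, 7, 2, 7, 1, 2, 0, 7, 2, 7, 2, 5, 3, 6, 3, 6, 1, 3, 0, 6, 3]
def rw7132 : List ℕ := [6, 0, 6, 7, 7, 1, 7, 2, 7, 1, 7, 1, 3, 1, 3, 1, 6, 0, 2, 0, 2, 0, 6, 0, 6, 3]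
def rw7133 : List ℕ := [0, 6, 0, 2, 1, 3, 1, 0, 0, 2, 0, 3, 1, 7, 1, 7, 2, 7, 1, 7, 1, 6, 0, 6, 3, 6]
def rw7134 : List ℕ := [0, 6, 3, 6, 0, 6, 0, 2, 1, 3, 1, 2, 0, 2, 0, 3, 1, 7, 1, 7, 2, 7, 1, 7, 3, 6]
def rw7135 : List ℕ := [1, 4, 0, 2, 0, 3, 1, 7, 1, 7, 2, 7, 1, 7, 5, 6, 0, 6, 3, 6, 0, 6, 0, 2, 1, 3]
def rw7136 : List ℕ := [6, 0, 2, 1, 3, 1, 6, 0, 2, 0, 3, 1, 7, 1, 7, 2, 7, 1, 7, 7, 6, 0, 6, 3, 6, 0]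
def rw7137 : List ℕ := [3, 6, 3, 1, 2, 7, 2, 7, 1, 7, 2, 7, 2, 1, 3, 1, 0, 0, 2, 0, 3, 6, 3, 6, 0, 6]
def rw7138 : List ℕ := [0, 3, 6, 3, 6, 0, 6, 3, 6, 3, 5, 2, 7, 2, 7, 1, 7, 2, 7, 2, 1, 3, 1, 4, 0, 2]
def rw7139 : List ℕ := [6, 3, 6, 5, 6, 0, 2, 5, 6, 1, 7, 4, 3, 1, 7, 4, 7, 2, 7, 1, 3, 1, 0, 0, 2, 0]
def rw7140 : List ℕ := [0, 2, 5, 6, 1, 7, 4, 3, 1, 7, 4, 7, 2, 7, 1, 3, 1, 0, 0, 2, 0, 6, 3, 6, 5, 6]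
def rw7141 : List ℕ := [7, 4, 7, 2, 7, 1, 3, 1, 4, 0, 2, 0, 6, 3, 6, 5, 6, 0, 2, 5, 6, 5, 7, 4, 3, 1]
def rw7142 : List ℕ := [2, 0, 7, 1, 7, 2, 7, 1, 7, 1, 3, 1, 2, 0, 6, 0, 6, 3, 6, 0, 6, 1, 3, 1, 0, 0]
def rw7143 : List ℕ := [3, 6, 0, 6, 1, 3, 1, 2, 0, 2, 0, 7, 1, 7, 2, 7, 1, 7, 1, 3, 3, 2, 0, 6, 0, 6]
def rw7144 : List ℕ := [4, 3, 1, 7, 4, 7, 2, 7, 7, 6, 3, 6, 5, 6, 0, 2, 5, 6, 1, 3, 1, 6, 0, 2, 0, 7]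
def rw7145 : List ℕ := [6, 3, 7, 0, 2, 4, 1, 3, 5, 6, 3, 0, 3, 1, 2, 0, 2, 1, 2, 7, 4, 2, 0, 5, 3, 1]
def rw7146 : List ℕ := [2, 0, 5, 3, 1, 6, 7, 7, 0, 2, 4, 1, 3, 5, 6, 3, 0, 3, 1, 6, 0, 2, 1, 2, 7, 4]
def rw7147 : List ℕ := [0, 6, 0, 3, 1, 6, 0, 2, 1, 7, 1, 7, 2, 7, 1, 7, 1, 2, 7, 3, 0, 6, 0, 6, 3, 6]
def rw7148 : List ℕ := [0, 2, 2, 0, 2, 6, 0, 6, 3, 6, 0, 6, 3, 7, 1, 7, 2, 7, 1, 7, 3, 1, 3, 3, 1, 2]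
def rw7149 : List ℕ := [2, 0, 2, 6, 0, 6, 3, 6, 0, 6, 5, 7, 1, 7, 2, 7, 1, 7, 3, 1, 3, 3, 1, 4, 0, 2]
def rw7150 : List ℕ := [1, 3, 5, 6, 7, 7, 4, 2, 0, 5, 3, 1, 6, 3, 3, 3, 1, 6, 0, 2, 2, 2, 7, 0, 2, 4]
def rw7151 : List ℕ := [7, 2, 7, 2, 2, 7, 3, 3, 6, 3, 6, 0, 6, 3, 6, 3, 3, 1, 6, 0, 2, 2, 7, 2, 7, 1]
def rw7152 : List ℕ := [7, 4, 2, 0, 5, 3, 1, 6, 3, 5, 2, 7, 0, 2, 4, 1, 3, 5, 6, 3, 3, 1, 4, 0, 2, 2]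
def rw7153 : List ℕ := [6, 3, 3, 5, 3, 1, 6, 0, 2, 4, 2, 2, 7, 3, 1, 6, 3, 3, 5, 7, 4, 2, 2, 7, 0, 2]
def rw7154 : List ℕ := [1, 3, 7, 4, 3, 1, 2, 0, 2, 5, 6, 2, 0, 2, 6, 3, 6, 5, 6, 3, 7, 4, 7, 2, 7, 3]
def rw7155 : List ℕ := [5, 6, 3, 7, 4, 7, 2, 7, 2, 0, 2, 7, 4, 3, 1, 2, 0, 2, 5, 6, 3, 1, 3, 6, 3, 6]
def rw7156 : List ℕ := [5, 7, 3, 1, 7, 2, 4, 6, 1, 7, 5, 3, 6, 0, 2, 6, 4, 1, 7, 3, 1, 0, 0, 2, 6, 0]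
def rw7157 : List ℕ := [1, 0, 0, 2, 6, 0, 5, 7, 3, 1, 7, 2, 4, 6, 1, 7, 5, 3, 6, 0, 2, 6, 4, 1, 7, 3]
def rw7158 : List ℕ := [6, 3, 7, 5, 3, 6, 0, 2, 6, 4, 1, 7, 3, 1, 2, 0, 2, 6, 0, 5, 7, 3, 1, 7, 2, 4]
def rw7159 : List ℕ := [7, 3, 1, 4, 0, 2, 6, 0, 5, 7, 3, 1, 7, 2, 4, 6, 5, 7, 5, 3, 6, 0, 2, 6, 4, 1]
def rw7160 : List ℕ := [6, 0, 5, 7, 3, 1, 7, 2, 4, 6, 7, 7, 5, 3, 6, 0, 2, 6, 4, 1, 7, 3, 1, 6, 0, 2]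
def rw7161 : List ℕ := [3, 6, 0, 2, 6, 4, 1, 7, 3, 1, 6, 0, 2, 6, 0, 5, 7, 3, 1, 7, 2, 4, 6, 7, 7, 5]
def rw7162 : List ℕ := [3, 5, 3, 5, 2, 7, 3, 1, 2, 0, 2, 6, 3, 4, 2, 4, 2, 0, 5, 2, 7, 3, 6, 3, 4, 1]
def rw7163 : List ℕ := [7, 7, 6, 3, 4, 1, 3, 5, 3, 5, 2, 7, 3, 1, 6, 0, 2, 6, 3, 4, 2, 4, 2, 0, 5, 2]
def rw7164 : List ℕ := [3, 6, 3, 1, 2, 1, 3, 0, 2, 7, 2, 7, 1, 7, 2, 7, 3, 1, 0, 0, 2, 6, 3, 6, 0, 6]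
def rw7165 : List ℕ := [3, 6, 3, 1, 2, 5, 3, 0, 2, 7, 2, 7, 1, 7, 2, 7, 3, 1, 4, 0, 2, 6, 3, 6, 0, 6]
def rw7166 : List ℕ := [3, 6, 3, 1, 2, 7, 3, 0, 2, 7, 2, 7, 1, 7, 2, 7, 3, 1, 6, 0, 2, 6, 3, 6, 0, 6]
def rw7167 : List ℕ := [2, 1, 6, 6, 2, 1, 6, 6, 2, 1, 0, 0, 3, 7, 7, 0, 3, 7, 7, 0, 3, 7, 7, 1, 6, 6]
def rw7168 : List ℕ := [1, 6, 6, 2, 1, 0, 0, 3, 7, 7, 0, 3, 7, 7, 0, 3, 7, 7, 1, 6, 6, 2, 1, 6, 6, 2]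
def rw7169 : List ℕ := [6, 6, 2, 1, 6, 6, 2, 1, 2, 0, 3, 7, 7, 0, 3, 7, 7, 0, 3, 7, 7, 3, 6, 6, 2, 1]
def rw7170 : List ℕ := [2, 1, 6, 6, 2, 1, 6, 6, 2, 1, 4, 0, 3, 7, 7, 0, 3, 7, 7, 0, 3, 7, 7, 5, 6, 6]
def rw7171 : List ℕ := [1, 7, 2, 5, 1, 4, 0, 4, 3, 6, 0, 4, 3, 6, 0, 4, 3, 6, 5, 7, 2, 5, 1, 7, 2, 5]
def rw7172 : List ℕ := [4, 3, 6, 5, 7, 2, 5, 1, 7, 2, 5, 1, 7, 2, 5, 1, 4, 0, 4, 3, 6, 0, 4, 3, 6, 0]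
def rw7173 : List ℕ := [3, 6, 7, 7, 2, 5, 1, 7, 2, 5, 1, 7, 2, 5, 1, 6, 0, 4, 3, 6, 0, 4, 3, 6, 0, 4]
def rw7174 : List ℕ := [1, 7, 4, 6, 2, 5, 1, 2, 0, 4, 3, 7, 5, 6, 0, 4, 3, 7, 5, 6, 3, 7, 4, 6, 2, 5]
def rw7175 : List ℕ := [2, 5, 1, 7, 4, 6, 2, 5, 1, 6, 0, 4, 3, 7, 5, 6, 0, 4, 3, 7, 5, 6, 7, 7, 4, 6]
def rw7176 : List ℕ := [3, 6, 5, 1, 3, 6, 5, 1, 3, 6, 5, 1, 0, 0, 4, 7, 2, 0, 4, 7, 2, 0, 4, 7, 2, 1]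
def rw7177 : List ℕ := [5, 1, 3, 6, 5, 1, 3, 6, 5, 1, 2, 0, 4, 7, 2, 0, 4, 7, 2, 0, 4, 7, 2, 3, 3, 6]
def rw7178 : List ℕ := [2, 2, 7, 4, 1, 6, 2, 2, 7, 4, 1, 0, 0, 5, 6, 3, 3, 7, 0, 5, 6, 3, 3, 7, 1, 6]
def rw7179 : List ℕ := [0, 6, 0, 6, 0, 6, 1, 7, 1, 7, 1, 7, 1, 7, 1, 7, 1, 7, 1, 0, 0, 6, 0, 6, 0, 6]
def rw7180 : List ℕ := [0, 6, 1, 7, 1, 7, 1, 7, 1, 7, 1, 7, 1, 7, 1, 0, 0, 6, 0, 6, 0, 6, 0, 6, 0, 6]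
def rw7181 : List ℕ := [0, 7, 1, 6, 1, 6, 1, 6, 1, 6, 1, 6, 1, 6, 1, 0, 0, 7, 0, 7, 0, 7, 0, 7, 0, 7]
def rw7182 : List ℕ := [1, 6, 1, 6, 1, 6, 1, 6, 1, 0, 0, 7, 0, 7, 0, 7, 0, 7, 0, 7, 0, 7, 1, 6, 1, 6]
def rw7183 : List ℕ := [1, 2, 0, 7, 0, 7, 0, 7, 0, 7, 0, 7, 0, 7, 3, 6, 1, 6, 1, 6, 1, 6, 1, 6, 1, 6]
def rw7184 : List ℕ := [1, 6, 1, 4, 0, 7, 0, 7, 0, 7, 0, 7, 0, 7, 0, 7, 5, 6, 1, 6, 1, 6, 1, 6, 1, 6]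
def rw7185 : List ℕ := [1, 6, 1, 6, 0, 7, 0, 7, 0, 7, 0, 7, 0, 7, 0, 7, 7, 6, 1, 6, 1, 6, 1, 6, 1, 6]
def rw7186 : List ℕ := [6, 2, 6, 2, 6, 1, 7, 3, 7, 3, 7, 3, 7, 3, 7, 3, 7, 3, 0, 2, 6, 2, 6, 2, 6, 2]
def rw7187 : List ℕ := [2, 6, 2, 6, 2, 6, 2, 6, 1, 7, 3, 7, 3, 7, 3, 7, 3, 7, 3, 7, 3, 0, 2, 6, 2, 6]
def rw7188 : List ℕ := [2, 6, 1, 7, 3, 7, 3, 7, 3, 7, 3, 7, 3, 7, 3, 0, 2, 6, 2, 6, 2, 6, 2, 6, 2, 6]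
def rw7189 : List ℕ := [6, 2, 6, 2, 6, 2, 6, 2, 6, 3, 7, 3, 7, 3, 7, 3, 7, 3, 7, 3, 7, 3, 2, 2, 6, 2]
def rw7190 : List ℕ := [6, 3, 7, 3, 7, 3, 7, 3, 7, 3, 7, 3, 7, 3, 2, 2, 6, 2, 6, 2, 6, 2, 6, 2, 6, 2]
def rw7191 : List ℕ := [6, 2, 6, 2, 6, 5, 7, 3, 7, 3, 7, 3, 7, 3, 7, 3, 7, 3, 4, 2, 6, 2, 6, 2, 6, 2]
def rw7192 : List ℕ := [6, 2, 6, 2, 6, 2, 6, 2, 6, 2, 6, 7, 7, 3, 7, 3, 7, 3, 7, 3, 7, 3, 7, 3, 6, 2]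
def rw7193 : List ℕ := [2, 6, 2, 6, 2, 6, 2, 6, 2, 6, 7, 7, 3, 7, 3, 7, 3, 7, 3, 7, 3, 7, 3, 6, 2, 6]
def rw7194 : List ℕ := [2, 7, 7, 1, 6, 6, 3, 4, 6, 3, 6, 6, 3, 4, 6, 3, 0, 2, 7, 5, 2, 7, 7, 2, 7, 5]
def rw7195 : List ℕ := [3, 6, 6, 3, 4, 6, 3, 6, 6, 3, 4, 6, 3, 2, 2, 7, 5, 2, 7, 7, 2, 7, 5, 2, 7, 7]
def rw7196 : List ℕ := [6, 6, 5, 5, 0, 5, 5, 4, 1, 4, 4, 7, 7, 2, 7, 1, 6, 5, 1, 1, 4, 0, 0, 4, 7, 0, 6, 3]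
def rw7197 : List ℕ := [0, 6, 6, 3, 5, 3, 4, 2, 7, 7, 1, 7, 2, 6, 3, 1, 4, 1, 1, 2, 0, 0, 5, 0, 2, 7, 3, 6]
def rw7198 : List ℕ := [4, 1, 1, 6, 0, 0, 5, 0, 2, 7, 3, 6, 0, 6, 6, 3, 5, 7, 4, 2, 7, 7, 1, 7, 2, 6, 3, 1]
def rw7199 : List ℕ := [2, 0, 5, 1, 4, 1, 3, 7, 7, 1, 7, 2, 6, 2, 4, 1, 1, 0, 0, 0, 5, 3, 7, 3, 6, 0, 6, 6]
def rw7200 : List ℕ := [6, 6, 2, 0, 5, 3, 4, 1, 3, 7, 7, 1, 7, 2, 6, 2, 4, 1, 1, 2, 0, 0, 5, 3, 7, 3, 6, 0]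
def rw7201 : List ℕ := [6, 2, 0, 5, 5, 4, 1, 3, 7, 7, 1, 7, 2, 6, 2, 4, 1, 1, 4, 0, 0, 5, 3, 7, 3, 6, 0, 6]
def rw7202 : List ℕ := [3, 6, 6, 1, 7, 7, 2, 7, 2, 0, 6, 2, 7, 4, 1, 3, 1, 0, 0, 2, 0, 5, 6, 3, 7, 1, 3, 6]
def rw7203 : List ℕ := [2, 2, 7, 7, 1, 6, 6, 3, 3, 6, 3, 6, 4, 2, 7, 1, 3, 1, 0, 0, 2, 0, 6, 3, 5, 7, 2, 7]
def rw7204 : List ℕ := [3, 6, 4, 2, 7, 1, 3, 1, 2, 0, 2, 0, 6, 3, 5, 7, 2, 7, 2, 2, 7, 7, 3, 6, 6, 3, 3, 6]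
def rw7205 : List ℕ := [7, 7, 7, 6, 6, 3, 3, 6, 3, 6, 4, 2, 7, 1, 3, 1, 6, 0, 2, 0, 6, 3, 5, 7, 2, 7, 2, 2]
def rw7206 : List ℕ := [7, 2, 7, 2, 2, 7, 7, 7, 6, 6, 3, 3, 6, 3, 6, 4, 2, 7, 1, 3, 1, 6, 0, 2, 0, 6, 3, 5]
def rw7207 : List ℕ := [3, 3, 6, 3, 6, 4, 2, 7, 1, 6, 3, 5, 7, 2, 7, 2, 2, 7, 7, 1, 3, 1, 0, 0, 2, 0, 6, 6]
def rw7208 : List ℕ := [6, 6, 3, 3, 6, 3, 6, 4, 2, 7, 3, 6, 3, 5, 7, 2, 7, 2, 2, 7, 7, 1, 3, 1, 2, 0, 2, 0]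
def rw7209 : List ℕ := [3, 6, 3, 6, 4, 2, 7, 5, 6, 3, 5, 7, 2, 7, 2, 2, 7, 7, 1, 3, 1, 4, 0, 2, 0, 6, 6, 3]
def rw7210 : List ℕ := [3, 6, 6, 1, 3, 1, 0, 0, 2, 0, 7, 7, 2, 7, 2, 0, 6, 2, 7, 4, 1, 5, 6, 3, 7, 1, 3, 6]
def rw7211 : List ℕ := [2, 0, 2, 0, 7, 7, 2, 7, 2, 0, 6, 2, 7, 4, 3, 5, 6, 3, 7, 1, 3, 6, 3, 6, 6, 1, 3, 1]
def rw7212 : List ℕ := [3, 7, 1, 3, 6, 3, 6, 6, 1, 3, 1, 2, 0, 2, 0, 7, 7, 2, 7, 2, 0, 6, 2, 7, 4, 3, 5, 6]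
def rw7213 : List ℕ := [5, 1, 3, 4, 6, 7, 7, 5, 2, 0, 4, 4, 0, 7, 0, 6, 0, 3, 1, 6, 0, 2, 1, 7, 1, 6, 1, 5]
def rw7214 : List ℕ := [6, 5, 2, 5, 3, 1, 6, 0, 2, 4, 3, 4, 7, 7, 3, 1, 7, 4, 3, 4, 7, 5, 2, 5, 6, 0, 2, 6]
def rw7215 : List ℕ := [5, 0, 6, 3, 5, 6, 0, 2, 5, 1, 6, 1, 7, 0, 4, 3, 1, 7, 4, 2, 7, 1, 4, 3, 1, 0, 0, 2]
def rw7216 : List ℕ := [1, 7, 4, 2, 7, 1, 4, 3, 1, 6, 0, 2, 5, 0, 6, 3, 5, 6, 0, 2, 5, 1, 6, 7, 7, 0, 4, 3]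
def rw7217 : List ℕ := [6, 3, 7, 1, 6, 2, 7, 4, 1, 5, 6, 5, 2, 0, 4, 3, 1, 0, 0, 2, 5, 1, 3, 4, 7, 4, 0, 5]
def rw7218 : List ℕ := [3, 4, 7, 4, 0, 5, 6, 3, 7, 7, 6, 2, 7, 4, 1, 5, 6, 5, 2, 0, 4, 3, 1, 6, 0, 2, 5, 1]
def rw7219 : List ℕ := [7, 4, 0, 5, 6, 3, 7, 7, 6, 2, 7, 4, 1, 5, 6, 5, 2, 0, 4, 3, 1, 6, 0, 2, 5, 1, 3, 4]
def rw7220 : List ℕ := [4, 3, 1, 6, 0, 2, 5, 2, 6, 3, 7, 1, 6, 4, 2, 2, 5, 7, 4, 3, 3, 5, 7, 0, 6, 2, 7, 3]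
def rw7221 : List ℕ := [0, 2, 5, 2, 7, 5, 0, 5, 0, 3, 4, 3, 6, 3, 7, 2, 5, 2, 1, 4, 1, 4, 6, 3, 4, 3, 1, 2]
def rw7222 : List ℕ := [5, 0, 5, 0, 3, 4, 3, 6, 5, 7, 2, 5, 2, 1, 4, 1, 4, 6, 3, 4, 3, 1, 4, 0, 2, 5, 2, 7]
def rw7223 : List ℕ := [2, 7, 4, 3, 1, 6, 0, 2, 5, 6, 3, 7, 1, 3, 6, 3, 6, 6, 2, 7, 3, 7, 7, 2, 7, 2, 0, 6]
def rw7224 : List ℕ := [0, 5, 0, 5, 7, 4, 3, 1, 6, 0, 2, 5, 6, 4, 1, 4, 1, 2, 0, 4, 7, 2, 7, 3, 6, 5, 1, 3]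
def rw7225 : List ℕ := [7, 2, 2, 7, 7, 2, 1, 3, 6, 6, 3, 3, 6, 3, 6, 4, 2, 7, 3, 1, 0, 0, 2, 6, 3, 5, 7, 2]
def rw7226 : List ℕ := [7, 2, 5, 3, 6, 6, 3, 3, 6, 3, 6, 4, 2, 7, 3, 1, 4, 0, 2, 6, 3, 5, 7, 2, 7, 2, 2, 7]
def rw7227 : List ℕ := [6, 6, 3, 3, 6, 3, 6, 4, 2, 7, 3, 1, 6, 0, 2, 6, 3, 5, 7, 2, 7, 2, 2, 7, 7, 2, 7, 3]
def rw7228 : List ℕ := [2, 5, 3, 6, 3, 5, 7, 2, 7, 2, 2, 7, 7, 3, 1, 4, 0, 2, 6, 6, 3, 3, 6, 3, 6, 4, 2, 7]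
def rw7229 : List ℕ := [6, 1, 7, 5, 6, 3, 4, 2, 2, 7, 2, 7, 7, 3, 1, 0, 0, 2, 6, 6, 3, 6, 3, 3, 5, 2, 7, 4]
def rw7230 : List ℕ := [4, 2, 2, 7, 2, 7, 7, 3, 1, 0, 0, 2, 6, 6, 3, 6, 3, 3, 5, 2, 7, 4, 6, 1, 7, 5, 6, 3]
def rw7231 : List ℕ := [3, 6, 3, 3, 5, 2, 7, 4, 6, 7, 7, 5, 6, 3, 4, 2, 2, 7, 2, 7, 7, 3, 1, 6, 0, 2, 6, 6]
def rw7232 : List ℕ := [4, 0, 7, 0, 6, 3, 1, 6, 0, 2, 7, 1, 6, 1, 5, 5, 1, 3, 4, 6, 3, 7, 2, 7, 5, 2, 0, 4]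
def rw7233 : List ℕ := [5, 6, 3, 7, 1, 3, 6, 3, 6, 6, 3, 1, 0, 0, 2, 7, 7, 2, 7, 2, 0, 6, 2, 7, 4, 2, 1, 3]
def rw7234 : List ℕ := [7, 1, 3, 6, 3, 6, 6, 3, 1, 4, 0, 2, 7, 7, 2, 7, 2, 0, 6, 2, 7, 4, 2, 5, 3, 5, 6, 3]
def rw7235 : List ℕ := [3, 7, 1, 3, 6, 3, 6, 6, 3, 1, 4, 0, 2, 7, 7, 2, 7, 2, 0, 6, 2, 7, 4, 2, 5, 3, 5, 6]
def rw7236 : List ℕ := [0, 2, 7, 7, 2, 7, 2, 0, 6, 2, 7, 4, 2, 7, 3, 5, 6, 3, 7, 1, 3, 6, 3, 6, 6, 3, 1, 6]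
def rw7237 : List ℕ := [4, 3, 4, 7, 4, 6, 2, 7, 4, 4, 7, 5, 5, 6, 3, 7, 5, 6, 5, 2, 5, 2, 5, 1, 6, 0, 4, 3]
def rw7238 : List ℕ := [5, 2, 5, 1, 4, 0, 4, 3, 4, 3, 7, 5, 2, 7, 2, 0, 4, 7, 5, 6, 5, 1, 3, 6, 3, 4, 6, 2]
def rw7239 : List ℕ := [2, 5, 2, 5, 1, 6, 0, 4, 3, 4, 3, 7, 5, 2, 7, 2, 0, 4, 7, 7, 6, 5, 1, 3, 6, 3, 4, 6]
def rw7240 : List ℕ := [1, 6, 5, 2, 5, 1, 6, 0, 4, 3, 4, 7, 0, 5, 6, 3, 0, 5, 3, 5, 7, 4, 2, 4, 1, 2, 7, 4]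
def rw7241 : List ℕ := [0, 5, 2, 7, 5, 1, 0, 0, 4, 6, 3, 4, 1, 6, 0, 7, 7, 2, 6, 3, 1, 2, 7, 3, 6, 6, 1, 7]
def rw7242 : List ℕ := [0, 7, 7, 2, 6, 3, 7, 2, 7, 3, 6, 6, 1, 7, 0, 5, 2, 7, 5, 1, 6, 0, 4, 6, 3, 4, 1, 6]
def rw7243 : List ℕ := [1, 4, 1, 4, 4, 7, 5, 5, 0, 5, 0, 7, 7, 2, 7, 1, 6, 5, 1, 6, 0, 4, 7, 0, 6, 3, 6, 6]
def rw7244 : List ℕ := [6, 6, 1, 4, 1, 4, 4, 7, 5, 5, 0, 5, 0, 7, 7, 2, 7, 1, 6, 5, 1, 6, 0, 4, 7, 0, 6, 3]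
def rw7245 : List ℕ := [6, 1, 4, 1, 4, 4, 7, 5, 5, 0, 5, 0, 7, 0, 6, 3, 6, 6, 5, 1, 6, 0, 4, 7, 7, 2, 7, 1]
def rw7246 : List ℕ := [7, 4, 1, 6, 3, 6, 6, 3, 4, 1, 2, 0, 5, 2, 7, 7, 2, 7, 0, 5, 6, 3, 7, 5, 3, 4, 6, 2]
def rw7247 : List ℕ := [2, 7, 4, 1, 6, 3, 6, 6, 3, 4, 1, 6, 0, 5, 2, 7, 7, 2, 7, 0, 5, 6, 3, 7, 5, 7, 4, 6]
def rw7248 : List ℕ := [6, 3, 4, 1, 5, 2, 7, 7, 2, 7, 1, 4, 6, 2, 7, 4, 1, 0, 0, 5, 6, 3, 7, 5, 0, 6, 3, 6]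
def rw7249 : List ℕ := [1, 6, 0, 5, 6, 3, 7, 5, 0, 6, 3, 6, 6, 3, 4, 7, 5, 2, 7, 7, 2, 7, 1, 4, 6, 2, 7, 4]
def rw7250 : List ℕ := [2, 7, 4, 1, 6, 0, 5, 6, 3, 7, 5, 0, 6, 3, 6, 6, 3, 4, 7, 5, 2, 7, 7, 2, 7, 1, 4, 6]
def rw7251 : List ℕ := [6, 3, 6, 4, 6, 2, 7, 4, 1, 6, 0, 5, 6, 3, 7, 5, 7, 2, 7, 1, 6, 3, 4, 7, 5, 2, 7, 0]
def rw7252 : List ℕ := [4, 1, 6, 0, 5, 6, 3, 7, 5, 7, 2, 7, 1, 6, 3, 4, 7, 5, 2, 7, 0, 6, 3, 6, 4, 6, 2, 7]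
def rw7253 : List ℕ := [2, 5, 2, 4, 3, 5, 3, 5, 7, 4, 1, 2, 0, 5, 6, 4, 2, 4, 2, 5, 3, 4, 3, 4, 7, 3, 6, 5]
def rw7254 : List ℕ := [6, 6, 3, 3, 3, 2, 2, 2, 2, 7, 7, 2, 2, 7, 7, 4, 2, 6, 4, 3, 5, 7, 3, 5, 6, 6, 3, 3]
def rw7255 : List ℕ := [6, 3, 3, 3, 6, 2, 2, 2, 7, 7, 2, 2, 7, 7, 4, 2, 6, 4, 7, 5, 7, 3, 5, 6, 6, 3, 3, 6]
def rw7256 : List ℕ := [6, 6, 3, 3, 6, 6, 3, 3, 3, 6, 2, 2, 2, 7, 7, 2, 2, 7, 7, 4, 2, 6, 4, 7, 5, 7, 3, 5]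
def rw7257 : List ℕ := [2, 0, 3, 3, 7, 2, 7, 1, 1, 6, 0, 0, 6, 3, 6, 2, 2, 1, 3, 1, 6, 3, 6, 2, 7, 3, 7, 2, 7, 0]
def rw7258 : List ℕ := [0, 5, 3, 5, 2, 7, 3, 4, 2, 4, 1, 2, 7, 3, 1, 6, 3, 4, 3, 1, 6, 0, 2, 5, 2, 7, 0, 2, 6, 3]
def rw7259 : List ℕ := [2, 4, 1, 0, 0, 5, 3, 5, 0, 5, 7, 1, 7, 2, 7, 1, 7, 5, 1, 4, 6, 0, 6, 3, 6, 0, 6, 4, 1, 4]
def rw7260 : List ℕ := [4, 0, 5, 3, 5, 0, 5, 7, 1, 7, 2, 7, 1, 7, 5, 5, 4, 6, 0, 6, 3, 6, 0, 6, 4, 1, 4, 2, 4, 1]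
def rw7261 : List ℕ := [5, 3, 5, 0, 5, 7, 1, 7, 2, 7, 1, 7, 5, 5, 4, 6, 0, 6, 3, 6, 0, 6, 4, 1, 4, 2, 4, 1, 4, 0]
def rw7262 : List ℕ := [6, 0, 6, 3, 6, 0, 6, 4, 1, 4, 2, 4, 1, 6, 0, 5, 3, 5, 0, 5, 7, 1, 7, 2, 7, 1, 7, 5, 7, 4]
def rw7263 : List ℕ := [3, 6, 5, 1, 0, 0, 4, 7, 2, 7, 2, 5, 0, 6, 3, 6, 2, 5, 2, 1, 3, 4, 3, 7, 2, 7, 1, 4, 3, 6]
def rw7264 : List ℕ := [4, 7, 2, 7, 2, 5, 0, 6, 3, 6, 2, 5, 2, 3, 3, 4, 3, 7, 2, 7, 1, 4, 3, 6, 3, 6, 5, 1, 2, 0]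
def rw7265 : List ℕ := [4, 3, 6, 3, 6, 5, 1, 2, 0, 4, 7, 2, 7, 2, 5, 0, 6, 3, 6, 2, 5, 2, 3, 3, 4, 3, 7, 2, 7, 1]
def rw7266 : List ℕ := [0, 6, 3, 6, 2, 5, 2, 5, 3, 4, 3, 7, 2, 7, 1, 4, 3, 6, 3, 6, 5, 1, 4, 0, 4, 7, 2, 7, 2, 5]
def rw7267 : List ℕ := [5, 6, 1, 3, 1, 6, 3, 6, 5, 6, 3, 5, 2, 7, 4, 7, 2, 7, 0, 2, 0, 7, 4, 1, 3, 1, 4, 0, 2, 0]
def rw7268 : List ℕ := [5, 6, 1, 3, 1, 6, 3, 6, 5, 6, 3, 7, 2, 7, 4, 7, 2, 7, 0, 2, 0, 7, 4, 1, 3, 1, 6, 0, 2, 0]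
def rw7269 : List ℕ := [6, 3, 4, 0, 0, 7, 2, 7, 1, 1, 2, 0, 0, 6, 3, 6, 1, 1, 5, 2, 7, 2, 7, 4, 3, 3, 2, 5, 6, 3]
def rw7270 : List ℕ := [3, 4, 2, 7, 4, 2, 5, 3, 5, 6, 3, 5, 2, 5, 2, 6, 6, 3, 0, 5, 1, 4, 0, 4, 1, 2, 7, 7, 3, 4]
def rw7271 : List ℕ := [0, 5, 1, 6, 0, 4, 1, 2, 7, 7, 3, 4, 3, 4, 2, 7, 4, 2, 7, 3, 5, 6, 3, 5, 2, 5, 2, 6, 6, 3]
def rw7272 : List ℕ := [5, 1, 7, 3, 4, 3, 4, 3, 6, 3, 7, 2, 5, 2, 5, 2, 6, 0, 4, 3, 4, 3, 3, 1, 2, 0, 2, 2, 5, 2]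
def rw7273 : List ℕ := [0, 2, 2, 2, 7, 0, 2, 4, 2, 1, 3, 1, 0, 0, 2, 0, 3, 5, 3, 1, 6, 3, 3, 3, 1, 7, 4, 1, 5, 6]
def rw7274 : List ℕ := [0, 2, 2, 2, 7, 0, 2, 4, 2, 1, 3, 1, 2, 0, 2, 0, 3, 5, 3, 1, 6, 3, 3, 3, 1, 7, 4, 3, 5, 6]
def rw7275 : List ℕ := [3, 3, 3, 1, 7, 4, 7, 5, 6, 0, 2, 2, 2, 7, 0, 2, 4, 2, 1, 3, 1, 6, 0, 2, 0, 3, 5, 3, 1, 6]
def rw7276 : List ℕ := [0, 2, 4, 0, 3, 7, 0, 2, 6, 2, 2, 7, 3, 3, 7, 3, 1, 6, 2, 1, 5, 3, 1, 4, 1, 1, 6, 0, 0, 5]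
def rw7277 : List ℕ := [6, 3, 3, 1, 6, 0, 2, 2, 7, 3, 5, 0, 5, 0, 2, 4, 2, 6, 3, 7, 2, 7, 3, 5, 3, 1, 4, 1, 4, 2]
def rw7278 : List ℕ := [2, 0, 7, 0, 3, 1, 0, 0, 2, 1, 6, 1, 3, 7, 3, 1, 6, 2, 0, 7, 2, 1, 3, 6, 1, 3, 7, 0, 2, 6]
def rw7279 : List ℕ := [0, 7, 2, 1, 3, 6, 1, 3, 7, 0, 2, 6, 2, 0, 7, 0, 3, 1, 0, 0, 2, 1, 6, 1, 3, 7, 3, 1, 6, 2]
def rw7280 : List ℕ := [1, 4, 0, 2, 2, 2, 7, 3, 1, 4, 2, 0, 5, 0, 2, 6, 5, 7, 3, 1, 4, 1, 3, 5, 0, 2, 6, 3, 3, 3]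
def rw7281 : List ℕ := [7, 2, 6, 4, 3, 4, 1, 5, 2, 1, 6, 3, 7, 0, 3, 4, 0, 5, 2, 5, 7, 3, 6, 4, 3, 1, 2, 0, 2, 5]
def rw7282 : List ℕ := [3, 1, 2, 0, 2, 5, 7, 2, 6, 4, 3, 4, 1, 5, 2, 1, 6, 3, 7, 0, 3, 4, 0, 5, 2, 5, 7, 3, 6, 4]
def rw7283 : List ℕ := [3, 5, 1, 0, 0, 4, 2, 2, 7, 4, 2, 2, 7, 3, 7, 2, 7, 2, 1, 3, 6, 3, 6, 2, 6, 3, 3, 5, 6, 3]
def rw7284 : List ℕ := [4, 7, 2, 7, 2, 7, 2, 7, 4, 7, 5, 6, 3, 6, 3, 6, 3, 6, 5, 1, 5, 2, 5, 1, 6, 0, 4, 3, 4, 0]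
def rw7285 : List ℕ := [2, 7, 4, 2, 0, 5, 3, 1, 6, 1, 3, 1, 1, 1, 0, 0, 0, 0, 2, 0, 7, 0, 2, 4, 1, 3, 5, 6, 3, 1]
def rw7286 : List ℕ := [3, 1, 1, 1, 4, 0, 0, 0, 2, 0, 7, 0, 2, 4, 1, 3, 5, 6, 3, 5, 2, 7, 4, 2, 0, 5, 3, 1, 6, 1]
def rw7287 : List ℕ := [3, 6, 4, 2, 0, 5, 0, 6, 3, 6, 3, 1, 6, 0, 2, 7, 2, 7, 1, 4, 1, 3, 5, 7, 2, 7, 5, 7, 4, 6]
def rw7288 : List ℕ := [7, 7, 3, 5, 5, 6, 6, 3, 3, 0, 2, 2, 7, 7, 4, 4, 2, 6, 6, 6, 3, 7, 3, 4, 1, 5, 2, 6, 2, 7]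
def rw7289 : List ℕ := [2, 2, 7, 4, 1, 4, 5, 5, 0, 5, 6, 3, 3, 1, 2, 7, 3, 5, 1, 3, 1, 4, 0, 2, 0, 4, 2, 6, 3, 0]
def rw7290 : List ℕ := [1, 4, 7, 5, 0, 5, 6, 3, 3, 1, 2, 7, 3, 5, 1, 3, 1, 6, 0, 2, 0, 4, 2, 6, 3, 0, 2, 2, 7, 4]
def rw7291 : List ℕ := [2, 7, 0, 2, 4, 0, 2, 5, 3, 1, 5, 3, 1, 6, 3, 3, 3, 1, 7, 4, 1, 1, 4, 0, 0, 5, 6, 0, 2, 2]
def rw7292 : List ℕ := [2, 7, 0, 2, 4, 0, 2, 7, 3, 1, 5, 3, 1, 6, 3, 3, 3, 1, 7, 4, 1, 1, 6, 0, 0, 5, 6, 0, 2, 2]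
def rw7293 : List ℕ := [7, 4, 0, 2, 5, 6, 1, 3, 1, 0, 0, 2, 0, 7, 4, 3, 1, 5, 6, 5, 6, 5, 2, 7, 1, 6, 3, 4, 7, 4]
def rw7294 : List ℕ := [6, 5, 2, 7, 7, 6, 3, 4, 7, 4, 7, 4, 0, 2, 5, 6, 1, 3, 1, 6, 0, 2, 0, 7, 4, 3, 1, 5, 6, 5]
def rw7295 : List ℕ := [5, 6, 3, 6, 3, 4, 3, 6, 3, 6, 3, 7, 2, 7, 2, 5, 2, 7, 2, 7, 4, 1, 3, 1, 1, 2, 0, 0, 2, 0]
def rw7296 : List ℕ := [6, 5, 7, 2, 7, 2, 5, 2, 7, 2, 7, 4, 1, 3, 1, 1, 4, 0, 0, 2, 0, 5, 6, 3, 6, 3, 4, 3, 6, 3]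
def rw7297 : List ℕ := [5, 6, 2, 7, 3, 7, 4, 7, 2, 7, 3, 1, 3, 7, 4, 0, 3, 1, 6, 0, 2, 1, 5, 6, 2, 0, 2, 6, 3, 6]
def rw7298 : List ℕ := [6, 5, 2, 0, 6, 3, 1, 2, 0, 2, 7, 1, 3, 4, 7, 2, 0, 6, 5, 2, 0, 6, 3, 7, 1, 3, 4, 7, 1, 3]
def rw7299 : List ℕ := [1, 3, 4, 7, 2, 0, 6, 5, 2, 0, 6, 3, 7, 1, 3, 4, 7, 1, 3, 6, 5, 2, 0, 6, 3, 1, 2, 0, 2, 7]
def rw7300 : List ℕ := [7, 2, 0, 6, 5, 2, 0, 6, 7, 7, 1, 3, 4, 7, 1, 3, 6, 5, 2, 0, 6, 3, 1, 6, 0, 2, 7, 1, 3, 4]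
def rw7301 : List ℕ := [1, 3, 6, 5, 1, 7, 1, 5, 1, 3, 1, 0, 0, 2, 0, 4, 0, 6, 0, 4, 7, 2, 0, 4, 3, 6, 1, 7, 2, 5]
def rw7302 : List ℕ := [6, 6, 5, 2, 0, 5, 2, 1, 2, 0, 3, 4, 1, 3, 4, 7, 7, 2, 2, 7, 5, 3, 5, 3, 4, 2, 4, 6, 3, 3]
def rw7303 : List ℕ := [2, 7, 4, 1, 2, 4, 6, 6, 3, 7, 2, 7, 7, 5, 3, 0, 5, 6, 3, 3, 6, 4, 4, 1, 6, 0, 5, 5, 7, 2]
def rw7304 : List ℕ := [4, 1, 2, 7, 3, 3, 5, 3, 1, 0, 0, 2, 4, 2, 2, 6, 3, 0, 5, 6, 4, 6, 3, 6, 1, 7, 2, 7, 5, 7]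
def rw7305 : List ℕ := [0, 2, 1, 2, 7, 4, 2, 0, 5, 1, 3, 1, 2, 0, 2, 0, 4, 1, 3, 5, 6, 3, 0, 3, 1, 7, 3, 3, 2, 6]
def rw7306 : List ℕ := [3, 3, 4, 2, 2, 7, 5, 2, 5, 2, 5, 7, 3, 5, 3, 5, 7, 5, 6, 4, 2, 4, 2, 6, 4, 3, 4, 3, 4, 6]
def rw7307 : List ℕ := [4, 2, 4, 2, 6, 4, 3, 4, 3, 4, 6, 3, 3, 6, 2, 2, 7, 5, 2, 5, 2, 5, 7, 3, 5, 3, 5, 7, 7, 6]
def rw7308 : List ℕ := [2, 7, 4, 2, 2, 7, 0, 7, 2, 7, 1, 4, 0, 6, 3, 6, 1, 6, 3, 3, 5, 6, 3, 3, 5, 3, 5, 2, 4, 2]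
def rw7309 : List ℕ := [2, 2, 7, 4, 2, 2, 7, 0, 7, 2, 7, 1, 6, 0, 6, 3, 6, 1, 6, 3, 3, 5, 6, 3, 3, 5, 3, 7, 2, 4]
def rw7310 : List ℕ := [1, 3, 1, 0, 0, 2, 0, 4, 3, 1, 7, 0, 2, 6, 3, 0, 5, 3, 1, 2, 4, 1, 2, 7, 3, 1, 6, 0, 2, 5]
def rw7311 : List ℕ := [6, 3, 0, 3, 1, 6, 0, 2, 1, 2, 7, 5, 3, 5, 3, 5, 1, 4, 1, 6, 7, 7, 0, 5, 0, 4, 2, 4, 2, 4]
def rw7312 : List ℕ := [6, 6, 2, 1, 6, 6, 2, 1, 6, 6, 1, 3, 1, 2, 0, 7, 7, 0, 3, 7, 7, 0, 3, 7, 7, 3, 1, 0, 0, 2]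
def rw7313 : List ℕ := [1, 3, 3, 2, 0, 7, 7, 0, 3, 7, 7, 0, 3, 7, 7, 3, 1, 2, 0, 2, 6, 6, 2, 1, 6, 6, 2, 1, 6, 6]
def rw7314 : List ℕ := [2, 1, 6, 6, 2, 1, 6, 6, 1, 3, 5, 2, 0, 7, 7, 0, 3, 7, 7, 0, 3, 7, 7, 3, 1, 4, 0, 2, 6, 6]
def rw7315 : List ℕ := [7, 3, 1, 6, 0, 2, 6, 6, 2, 1, 6, 6, 2, 1, 6, 6, 1, 3, 7, 2, 0, 7, 7, 0, 3, 7, 7, 0, 3, 7]
def rw7316 : List ℕ := [6, 2, 1, 6, 6, 2, 1, 6, 6, 1, 3, 7, 2, 0, 7, 7, 0, 3, 7, 7, 0, 3, 7, 7, 3, 1, 6, 0, 2, 6]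
def rw7317 : List ℕ := [3, 3, 1, 7, 4, 2, 0, 5, 1, 3, 1, 2, 0, 2, 0, 4, 1, 3, 5, 6, 0, 2, 2, 2, 7, 3, 3, 2, 6, 3]
def rw7318 : List ℕ := [5, 0, 7, 2, 7, 2, 7, 3, 6, 3, 6, 1, 4, 2, 2, 7, 4, 2, 2, 7, 1, 6, 0, 6, 3, 3, 5, 6, 3, 3]
def rw7319 : List ℕ := [1, 6, 1, 3, 7, 3, 3, 1, 0, 0, 2, 2, 6, 2, 0, 7, 0, 2, 6, 1, 3, 7, 2, 1, 3, 6, 2, 0, 7, 3]
def rw7320 : List ℕ := [7, 2, 3, 3, 6, 2, 0, 7, 3, 1, 6, 1, 3, 7, 3, 3, 1, 2, 0, 2, 2, 6, 2, 0, 7, 0, 2, 6, 1, 3]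
def rw7321 : List ℕ := [2, 0, 7, 3, 1, 6, 1, 3, 7, 3, 3, 1, 2, 0, 2, 2, 6, 2, 0, 7, 0, 2, 6, 1, 3, 7, 2, 3, 3, 6]
def rw7322 : List ℕ := [5, 6, 0, 2, 1, 6, 2, 6, 3, 0, 5, 6, 3, 7, 4, 1, 2, 7, 3, 7, 0, 3, 1, 7, 4, 1, 1, 2, 0, 0]
def rw7323 : List ℕ := [0, 0, 5, 6, 0, 2, 1, 6, 2, 6, 3, 0, 5, 6, 3, 7, 4, 1, 2, 7, 3, 7, 0, 3, 1, 7, 4, 1, 1, 2]
def rw7324 : List ℕ := [3, 0, 5, 6, 5, 7, 4, 1, 2, 7, 3, 7, 0, 3, 1, 7, 4, 1, 1, 4, 0, 0, 5, 6, 0, 2, 1, 6, 2, 6]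
def rw7325 : List ℕ := [6, 2, 6, 3, 0, 5, 6, 5, 7, 4, 1, 2, 7, 3, 7, 0, 3, 1, 7, 4, 1, 1, 4, 0, 0, 5, 6, 0, 2, 1]
def rw7326 : List ℕ := [1, 6, 2, 6, 3, 0, 5, 6, 7, 7, 4, 1, 2, 7, 3, 7, 0, 3, 1, 7, 4, 1, 1, 6, 0, 0, 5, 6, 0, 2]
def rw7327 : List ℕ := [4, 6, 0, 6, 1, 7, 1, 7, 5, 6, 1, 4, 1, 4, 4, 3, 7, 3, 1, 0, 0, 2, 6, 2, 5, 5, 0, 5, 0, 7]
def rw7328 : List ℕ := [5, 5, 0, 5, 0, 7, 4, 6, 0, 6, 3, 7, 1, 7, 5, 6, 1, 4, 1, 4, 4, 3, 7, 3, 1, 2, 0, 2, 6, 2]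
def rw7329 : List ℕ := [0, 6, 5, 7, 1, 7, 5, 6, 1, 4, 1, 4, 4, 3, 7, 3, 1, 4, 0, 2, 6, 2, 5, 5, 0, 5, 0, 7, 4, 6]
def rw7330 : List ℕ := [7, 2, 5, 0, 5, 1, 7, 2, 7, 2, 2, 1, 6, 0, 3, 3, 6, 3, 6, 0, 4, 1, 4, 3, 6, 3, 6, 7, 7, 2]
def rw7331 : List ℕ := [2, 4, 6, 0, 2, 6, 0, 5, 7, 1, 3, 1, 0, 0, 2, 0, 6, 4, 1, 7, 3, 1, 7, 5, 3, 6, 3, 1, 2, 7]
def rw7332 : List ℕ := [7, 5, 3, 6, 3, 3, 2, 7, 2, 4, 6, 0, 2, 6, 0, 5, 7, 1, 3, 1, 2, 0, 2, 0, 6, 4, 1, 7, 3, 1]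
def rw7333 : List ℕ := [6, 4, 1, 7, 3, 1, 7, 5, 3, 6, 3, 5, 2, 7, 2, 4, 6, 0, 2, 6, 0, 5, 7, 1, 3, 1, 4, 0, 2, 0]
def rw7334 : List ℕ := [6, 0, 2, 6, 0, 5, 7, 1, 3, 1, 6, 0, 2, 0, 6, 4, 1, 7, 3, 1, 7, 5, 3, 6, 3, 7, 2, 7, 2, 4]
def rw7335 : List ℕ := [7, 5, 3, 6, 3, 7, 2, 7, 2, 4, 6, 0, 2, 6, 0, 5, 7, 1, 3, 1, 6, 0, 2, 0, 6, 4, 1, 7, 3, 1]
def rw7336 : List ℕ := [2, 7, 1, 1, 4, 0, 0, 6, 3, 6, 1, 4, 3, 1, 7, 4, 3, 1, 7, 5, 6, 0, 2, 5, 6, 0, 2, 5, 0, 7]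
def rw7337 : List ℕ := [2, 7, 1, 5, 1, 5, 1, 6, 0, 4, 0, 4, 0, 6, 3, 0, 4, 0, 4, 0, 6, 3, 7, 2, 7, 1, 5, 1, 5, 1]
def rw7338 : List ℕ := [4, 0, 4, 0, 6, 3, 0, 4, 0, 4, 0, 6, 3, 7, 2, 7, 1, 5, 1, 5, 1, 2, 7, 1, 5, 1, 5, 1, 6, 0]
def rw7339 : List ℕ := [1, 4, 2, 0, 2, 4, 2, 6, 7, 7, 3, 5, 3, 1, 3, 5, 0, 5, 6, 3, 0, 3, 1, 6, 0, 2, 1, 2, 7, 4]
def rw7340 : List ℕ := [1, 5, 6, 5, 6, 3, 1, 2, 0, 2, 7, 4, 7, 4, 0, 6, 3, 4, 0, 6, 3, 4, 3, 5, 2, 7, 1, 5, 2, 7]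
def rw7341 : List ℕ := [6, 3, 1, 6, 0, 2, 7, 4, 7, 4, 0, 6, 3, 4, 0, 6, 3, 4, 7, 5, 2, 7, 1, 5, 2, 7, 1, 5, 6, 5]
def rw7342 : List ℕ := [6, 5, 6, 3, 1, 6, 0, 2, 7, 4, 7, 4, 0, 6, 3, 4, 0, 6, 3, 4, 7, 5, 2, 7, 1, 5, 2, 7, 1, 5]
def rw7343 : List ℕ := [0, 6, 5, 6, 5, 1, 0, 0, 4, 7, 4, 7, 1, 7, 1, 3, 6, 5, 2, 7, 4, 1, 5, 6, 3, 4, 7, 2, 0, 6]
def rw7344 : List ℕ := [7, 1, 3, 6, 5, 2, 7, 4, 1, 5, 6, 3, 4, 7, 2, 0, 6, 0, 6, 5, 6, 5, 1, 0, 0, 4, 7, 4, 7, 1]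
def rw7345 : List ℕ := [4, 7, 2, 0, 6, 0, 6, 5, 6, 5, 1, 2, 0, 4, 7, 4, 7, 1, 7, 1, 3, 6, 5, 2, 7, 4, 3, 5, 6, 3]
def rw7346 : List ℕ := [4, 7, 5, 6, 3, 4, 7, 2, 0, 6, 0, 6, 5, 6, 5, 1, 6, 0, 4, 7, 4, 7, 1, 7, 1, 3, 6, 5, 2, 7]
def rw7347 : List ℕ := [0, 6, 5, 6, 5, 1, 6, 0, 4, 7, 4, 7, 1, 7, 1, 3, 6, 5, 2, 7, 4, 7, 5, 6, 3, 4, 7, 2, 0, 6]
def rw7348 : List ℕ := [3, 6, 0, 2, 6, 4, 1, 7, 2, 3, 3, 6, 0, 5, 7, 3, 1, 7, 2, 4, 6, 3, 3, 1, 2, 0, 2, 2, 7, 5]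
def rw7349 : List ℕ := [1, 7, 2, 4, 6, 3, 3, 1, 6, 0, 2, 2, 7, 5, 3, 6, 0, 2, 6, 4, 1, 7, 2, 7, 3, 6, 0, 5, 7, 3]
def rw7350 : List ℕ := [1, 4, 0, 2, 6, 5, 1, 3, 6, 5, 1, 3, 6, 5, 2, 2, 5, 3, 3, 4, 7, 2, 0, 4, 7, 2, 0, 4, 7, 3]
def rw7351 : List ℕ := [0, 6, 3, 6, 0, 2, 5, 2, 7, 2, 7, 4, 5, 5, 6, 3, 6, 3, 4, 3, 1, 7, 2, 7, 1, 3, 1, 4, 0, 2]
def rw7352 : List ℕ := [5, 0, 5, 3, 5, 3, 5, 6, 3, 3, 1, 6, 0, 2, 2, 7, 4, 2, 4, 2, 4, 1, 4, 1, 6, 3, 7, 2, 7, 0]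
def rw7353 : List ℕ := [1, 2, 7, 0, 3, 1, 2, 0, 2, 1, 6, 3, 0, 5, 0, 2, 4, 3, 1, 7, 2, 3, 3, 6, 0, 2, 5, 3, 1, 4]
def rw7354 : List ℕ := [3, 1, 4, 1, 2, 7, 3, 6, 3, 0, 5, 0, 2, 4, 3, 1, 7, 1, 3, 1, 1, 2, 0, 0, 2, 0, 6, 0, 2, 5]
def rw7355 : List ℕ := [7, 2, 7, 4, 1, 4, 3, 1, 7, 2, 7, 1, 6, 3, 6, 0, 2, 5, 0, 5, 6, 3, 6, 3, 3, 1, 0, 0, 2, 2]
def rw7356 : List ℕ := [5, 0, 5, 6, 3, 3, 1, 2, 7, 3, 5, 1, 4, 2, 6, 3, 0, 2, 2, 7, 4, 1, 4, 1, 3, 1, 0, 0, 2, 0]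
def rw7357 : List ℕ := [0, 2, 2, 7, 4, 1, 4, 1, 3, 1, 0, 0, 2, 0, 5, 0, 5, 6, 3, 3, 1, 2, 7, 3, 5, 1, 4, 2, 6, 3]
def rw7358 : List ℕ := [2, 4, 6, 0, 2, 6, 0, 5, 7, 0, 3, 1, 2, 0, 2, 1, 6, 4, 1, 7, 3, 1, 7, 5, 3, 6, 2, 3, 3, 7]
def rw7359 : List ℕ := [7, 3, 1, 7, 5, 3, 6, 2, 7, 3, 7, 2, 4, 6, 0, 2, 6, 0, 5, 7, 0, 3, 1, 6, 0, 2, 1, 6, 4, 1]
def rw7360 : List ℕ := [7, 5, 3, 6, 2, 7, 3, 7, 2, 4, 6, 0, 2, 6, 0, 5, 7, 0, 3, 1, 6, 0, 2, 1, 6, 4, 1, 7, 3, 1]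
def rw7361 : List ℕ := [0, 3, 1, 6, 0, 2, 1, 6, 4, 1, 7, 3, 1, 7, 5, 3, 6, 2, 7, 3, 7, 2, 4, 6, 0, 2, 6, 0, 5, 7]
def rw7362 : List ℕ := [4, 4, 1, 3, 5, 3, 3, 5, 2, 2, 7, 1, 6, 3, 3, 4, 2, 2, 4, 2, 0, 5, 5, 7, 3, 1, 0, 0, 2, 6]
def rw7363 : List ℕ := [0, 2, 0, 2, 6, 3, 3, 3, 1, 7, 4, 2, 0, 5, 7, 4, 1, 3, 5, 6, 0, 2, 2, 2, 7, 3, 1, 3, 1, 6]
def rw7364 : List ℕ := [0, 4, 0, 6, 3, 6, 5, 3, 1, 2, 0, 2, 4, 7, 2, 7, 1, 5, 1, 3, 6, 3, 6, 2, 3, 3, 7, 2, 7, 2]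
def rw7365 : List ℕ := [6, 3, 6, 5, 3, 1, 6, 0, 2, 4, 7, 2, 7, 1, 5, 1, 3, 6, 3, 6, 2, 7, 3, 7, 2, 7, 2, 0, 4, 0]
def rw7366 : List ℕ := [6, 3, 6, 5, 1, 3, 6, 3, 6, 3, 1, 4, 0, 2, 7, 2, 7, 2, 0, 4, 7, 2, 7, 1, 5, 2, 5, 3, 4, 0]
def rw7367 : List ℕ := [5, 3, 7, 1, 6, 2, 4, 0, 5, 2, 1, 4, 4, 4, 4, 7, 3, 1, 0, 0, 2, 6, 5, 5, 5, 5, 0, 3, 4, 1]
def rw7368 : List ℕ := [5, 2, 4, 2, 2, 2, 7, 1, 6, 3, 3, 3, 5, 3, 4, 1, 4, 2, 5, 7, 3, 1, 0, 0, 2, 6, 4, 3, 5, 0]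
def rw7369 : List ℕ := [4, 2, 2, 2, 7, 1, 6, 3, 3, 3, 5, 3, 4, 1, 4, 2, 5, 7, 3, 1, 0, 0, 2, 6, 4, 3, 5, 0, 5, 2]
def rw7370 : List ℕ := [6, 3, 5, 0, 6, 6, 3, 3, 1, 2, 0, 2, 2, 7, 7, 1, 4, 2, 7, 5, 6, 5, 1, 5, 3, 4, 0, 4, 7, 4]
def rw7371 : List ℕ := [7, 4, 6, 3, 5, 0, 6, 6, 3, 3, 1, 4, 0, 2, 2, 7, 7, 1, 4, 2, 7, 5, 6, 5, 1, 5, 5, 4, 0, 4]
def rw7372 : List ℕ := [3, 5, 0, 6, 6, 3, 3, 1, 6, 0, 2, 2, 7, 7, 1, 4, 2, 7, 5, 6, 5, 1, 5, 7, 4, 0, 4, 7, 4, 6]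
def rw7373 : List ℕ := [6, 6, 6, 5, 2, 1, 4, 0, 3, 4, 7, 7, 7, 2, 7, 2, 0, 6, 5, 0, 5, 5, 4, 1, 4, 7, 1, 3, 6, 3]
def rw7374 : List ℕ := [5, 3, 5, 6, 6, 3, 1, 2, 7, 7, 4, 2, 4, 1, 6, 3, 0, 6, 3, 4, 1, 0, 0, 5, 2, 7, 1, 2, 7, 0]
def rw7375 : List ℕ := [2, 7, 3, 3, 1, 0, 0, 2, 2, 6, 3, 6, 3, 4, 2, 6, 3, 0, 2, 6, 1, 7, 3, 1, 2, 7, 3, 5, 2, 7]
def rw7376 : List ℕ := [1, 3, 1, 4, 0, 2, 0, 7, 2, 7, 2, 0, 4, 7, 2, 7, 1, 5, 5, 4, 0, 6, 3, 6, 5, 1, 3, 6, 3, 6]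
def rw7377 : List ℕ := [6, 1, 7, 5, 7, 1, 7, 2, 7, 2, 6, 4, 1, 7, 3, 1, 0, 0, 2, 6, 0, 5, 7, 3, 6, 3, 6, 0, 6, 4]
def rw7378 : List ℕ := [3, 6, 3, 6, 0, 6, 4, 6, 3, 7, 5, 7, 1, 7, 2, 7, 2, 6, 4, 1, 7, 3, 1, 2, 0, 2, 6, 0, 5, 7]
def rw7379 : List ℕ := [5, 7, 3, 6, 3, 6, 0, 6, 4, 6, 5, 7, 5, 7, 1, 7, 2, 7, 2, 6, 4, 1, 7, 3, 1, 4, 0, 2, 6, 0]
def rw7380 : List ℕ := [6, 3, 6, 3, 4, 3, 1, 2, 0, 2, 5, 2, 7, 2, 7, 4, 7, 4, 3, 1, 7, 4, 3, 5, 6, 0, 2, 5, 6, 5]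
def rw7381 : List ℕ := [1, 7, 2, 0, 6, 0, 6, 0, 6, 0, 6, 1, 7, 1, 7, 1, 7, 1, 7, 1, 3, 6, 0, 6, 3, 1, 0, 0, 2, 7]
def rw7382 : List ℕ := [1, 7, 1, 3, 6, 0, 6, 3, 1, 0, 0, 2, 7, 1, 7, 2, 0, 6, 0, 6, 0, 6, 0, 6, 1, 7, 1, 7, 1, 7]
def rw7383 : List ℕ := [6, 0, 6, 0, 6, 3, 7, 1, 7, 1, 7, 1, 7, 1, 3, 6, 0, 6, 3, 1, 2, 0, 2, 7, 1, 7, 2, 0, 6, 0]
def rw7384 : List ℕ := [6, 0, 6, 3, 1, 2, 0, 2, 7, 1, 7, 2, 0, 6, 0, 6, 0, 6, 0, 6, 3, 7, 1, 7, 1, 7, 1, 7, 1, 3]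
def rw7385 : List ℕ := [1, 7, 2, 0, 6, 0, 6, 0, 6, 0, 6, 7, 7, 1, 7, 1, 7, 1, 7, 1, 3, 6, 0, 6, 3, 1, 6, 0, 2, 7]
def rw7386 : List ℕ := [1, 7, 1, 3, 6, 0, 6, 3, 1, 6, 0, 2, 7, 1, 7, 2, 0, 6, 0, 6, 0, 6, 0, 6, 7, 7, 1, 7, 1, 7]
def rw7387 : List ℕ := [0, 2, 6, 1, 3, 7, 5, 6, 2, 0, 7, 3, 1, 6, 1, 3, 7, 3, 1, 3, 1, 4, 0, 2, 0, 2, 6, 2, 0, 7]
def rw7388 : List ℕ := [6, 2, 0, 7, 3, 1, 3, 1, 0, 0, 2, 0, 2, 6, 1, 3, 7, 0, 2, 6, 2, 0, 7, 1, 6, 1, 3, 7, 3, 1]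
def rw7389 : List ℕ := [2, 6, 2, 0, 7, 3, 6, 1, 3, 7, 3, 1, 6, 2, 0, 7, 3, 1, 3, 1, 2, 0, 2, 0, 2, 6, 1, 3, 7, 0]
def rw7390 : List ℕ := [0, 6, 3, 6, 5, 6, 0, 2, 5, 6, 3, 3, 1, 0, 0, 2, 2, 7, 4, 3, 1, 7, 4, 7, 2, 7, 1, 2, 1, 3]
def rw7391 : List ℕ := [5, 6, 3, 3, 1, 0, 0, 2, 2, 7, 4, 3, 1, 7, 4, 7, 2, 7, 1, 2, 1, 3, 0, 6, 3, 6, 5, 6, 0, 2]
def rw7392 : List ℕ := [3, 3, 1, 4, 0, 2, 2, 7, 4, 3, 1, 7, 4, 7, 2, 7, 1, 2, 5, 3, 0, 6, 3, 6, 5, 6, 0, 2, 5, 6]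
def rw7393 : List ℕ := [6, 3, 3, 1, 6, 0, 2, 2, 7, 4, 3, 1, 7, 4, 7, 2, 7, 1, 2, 7, 3, 0, 6, 3, 6, 5, 6, 0, 2, 5]
def rw7394 : List ℕ := [6, 5, 6, 0, 2, 5, 6, 3, 3, 1, 6, 0, 2, 2, 7, 4, 3, 1, 7, 4, 7, 2, 7, 1, 2, 7, 3, 0, 6, 3]
def rw7395 : List ℕ := [3, 0, 3, 1, 7, 3, 5, 1, 3, 1, 2, 0, 2, 0, 4, 2, 6, 0, 2, 1, 2, 7, 4, 1, 4, 3, 5, 0, 5, 6]
def rw7396 : List ℕ := [7, 3, 5, 1, 3, 1, 6, 0, 2, 0, 4, 2, 6, 0, 2, 1, 2, 7, 4, 1, 4, 7, 5, 0, 5, 6, 3, 0, 3, 1]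
def rw7397 : List ℕ := [2, 7, 3, 6, 3, 6, 2, 0, 7, 2, 7, 1, 2, 2, 1, 3, 1, 2, 0, 2, 0, 3, 3, 0, 6, 3, 6, 1, 3, 7]
def rw7398 : List ℕ := [7, 2, 7, 1, 2, 2, 1, 3, 1, 4, 0, 2, 0, 3, 3, 0, 6, 3, 6, 1, 3, 7, 2, 7, 5, 6, 3, 6, 2, 0]
def rw7399 : List ℕ := [2, 1, 3, 1, 6, 0, 2, 0, 3, 3, 0, 6, 3, 6, 1, 3, 7, 2, 7, 7, 6, 3, 6, 2, 0, 7, 2, 7, 1, 2]
def rw7400 : List ℕ := [6, 3, 5, 3, 6, 3, 6, 3, 5, 7, 4, 2, 7, 2, 7, 2, 4, 2, 7, 2, 7, 5, 3, 1, 6, 0, 2, 4, 6, 3]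
def rw7401 : List ℕ := [7, 2, 7, 5, 3, 1, 6, 0, 2, 4, 6, 3, 6, 3, 5, 3, 6, 3, 6, 3, 5, 7, 4, 2, 7, 2, 7, 2, 4, 2]
def rw7402 : List ℕ := [6, 3, 3, 4, 1, 2, 7, 3, 6, 1, 5, 1, 6, 0, 4, 0, 7, 2, 6, 3, 0, 5, 2, 2, 7, 3, 4, 7, 5, 2]
def rw7403 : List ℕ := [4, 4, 4, 1, 5, 5, 1, 2, 0, 4, 4, 0, 5, 5, 5, 1, 7, 4, 6, 2, 7, 5, 3, 4, 6, 3, 7, 5, 6, 0]
def rw7404 : List ℕ := [7, 2, 5, 1, 3, 6, 5, 1, 7, 1, 5, 3, 1, 4, 0, 2, 4, 0, 6, 0, 4, 7, 2, 0, 4, 3, 6, 2, 5, 3]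
def rw7405 : List ℕ := [1, 4, 1, 7, 3, 7, 5, 1, 0, 0, 4, 6, 2, 6, 0, 5, 0, 4, 6, 2, 6, 0, 5, 1, 4, 1, 7, 3, 7, 5]
def rw7406 : List ℕ := [6, 0, 5, 0, 4, 6, 2, 6, 0, 5, 3, 4, 1, 7, 3, 7, 5, 1, 4, 1, 7, 3, 7, 5, 1, 2, 0, 4, 6, 2]
def rw7407 : List ℕ := [4, 6, 2, 6, 0, 5, 0, 4, 6, 2, 6, 0, 5, 5, 4, 1, 7, 3, 7, 5, 1, 4, 1, 7, 3, 7, 5, 1, 4, 0]
def rw7408 : List ℕ := [6, 2, 6, 0, 5, 0, 4, 6, 2, 6, 0, 5, 7, 4, 1, 7, 3, 7, 5, 1, 4, 1, 7, 3, 7, 5, 1, 6, 0, 4]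
def rw7409 : List ℕ := [5, 5, 2, 7, 5, 2, 5, 1, 0, 0, 4, 3, 4, 6, 3, 4, 4, 3, 4, 7, 4, 2, 2, 1, 3, 3, 5, 6, 5, 2]
def rw7410 : List ℕ := [6, 3, 6, 4, 1, 3, 5, 7, 2, 7, 5, 2, 7, 3, 4, 6, 3, 6, 4, 2, 0, 5, 7, 2, 7, 3, 1, 6, 0, 2]
def rw7411 : List ℕ := [4, 2, 4, 6, 3, 6, 0, 6, 3, 6, 4, 2, 4, 1, 2, 0, 5, 3, 5, 7, 2, 7, 1, 7, 2, 7, 5, 3, 5, 3]
def rw7412 : List ℕ := [0, 0, 5, 3, 4, 1, 1, 7, 7, 1, 2, 7, 5, 2, 5, 1, 1, 1, 2, 0, 0, 0, 4, 3, 4, 6, 3, 0, 6, 6]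
def rw7413 : List ℕ := [1, 3, 6, 3, 6, 5, 6, 2, 7, 3, 7, 4, 7, 2, 7, 2, 0, 2, 7, 4, 0, 3, 1, 6, 0, 2, 1, 5, 6, 3]
def rw7414 : List ℕ := [6, 3, 6, 3, 4, 2, 6, 3, 0, 2, 6, 3, 3, 1, 0, 0, 2, 2, 7, 3, 1, 2, 7, 3, 5, 2, 7, 2, 7, 1]
def rw7415 : List ℕ := [2, 6, 3, 3, 1, 2, 0, 2, 2, 7, 3, 1, 2, 7, 3, 5, 2, 7, 2, 7, 3, 6, 3, 6, 3, 4, 2, 6, 3, 0]
def rw7416 : List ℕ := [5, 6, 5, 6, 3, 4, 7, 4, 3, 4, 0, 6, 5, 1, 0, 0, 4, 7, 1, 5, 2, 5, 6, 5, 2, 7, 4, 7, 4, 1]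
def rw7417 : List ℕ := [4, 7, 4, 3, 4, 0, 6, 5, 1, 0, 0, 4, 7, 1, 5, 2, 5, 6, 5, 2, 7, 4, 7, 4, 1, 5, 6, 5, 6, 3]
def rw7418 : List ℕ := [4, 3, 4, 0, 6, 5, 1, 2, 0, 4, 7, 1, 5, 2, 5, 6, 5, 2, 7, 4, 7, 4, 3, 5, 6, 5, 6, 3, 4, 7]
def rw7419 : List ℕ := [6, 5, 6, 3, 4, 7, 4, 3, 4, 0, 6, 5, 1, 4, 0, 4, 7, 1, 5, 2, 5, 6, 5, 2, 7, 4, 7, 4, 5, 5]
def rw7420 : List ℕ := [6, 5, 1, 4, 0, 4, 7, 1, 5, 2, 5, 6, 5, 2, 7, 4, 7, 4, 5, 5, 6, 5, 6, 3, 4, 7, 4, 3, 4, 0]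
def rw7421 : List ℕ := [1, 5, 2, 5, 6, 5, 2, 7, 4, 7, 4, 7, 5, 6, 5, 6, 3, 4, 7, 4, 3, 4, 0, 6, 5, 1, 6, 0, 4, 7]
def rw7422 : List ℕ := [6, 5, 2, 7, 4, 7, 4, 7, 5, 6, 5, 6, 3, 4, 7, 4, 3, 4, 0, 6, 5, 1, 6, 0, 4, 7, 1, 5, 2, 5]
def rw7423 : List ℕ := [6, 6, 5, 1, 2, 2, 4, 4, 2, 1, 6, 0, 3, 5, 5, 3, 3, 0, 4, 7, 7, 5, 2, 7, 4, 7, 5, 6, 3, 4]
def rw7424 : List ℕ := [7, 0, 5, 6, 5, 7, 4, 1, 6, 2, 2, 7, 4, 1, 6, 1, 3, 3, 1, 4, 0, 2, 2, 0, 7, 0, 5, 6, 3, 3]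
def rw7425 : List ℕ := [6, 0, 2, 6, 0, 2, 6, 3, 3, 1, 6, 0, 2, 2, 7, 3, 1, 7, 3, 1, 7, 3, 4, 3, 4, 7, 5, 2, 5, 2]
def rw7426 : List ℕ := [2, 1, 2, 7, 7, 3, 1, 6, 3, 0, 5, 5, 6, 3, 7, 4, 4, 1, 2, 7, 0, 2, 6, 6, 3, 0, 3, 1, 2, 0]
def rw7427 : List ℕ := [6, 3, 6, 0, 6, 1, 7, 1, 7, 2, 7, 1, 7, 1, 2, 1, 3, 1, 1, 1, 0, 0, 0, 0, 2, 0, 3, 0, 6, 0]
def rw7428 : List ℕ := [0, 3, 0, 6, 0, 6, 3, 6, 0, 6, 3, 7, 1, 7, 2, 7, 1, 7, 1, 2, 1, 3, 1, 1, 1, 2, 0, 0, 0, 2]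
def rw7429 : List ℕ := [1, 2, 1, 3, 1, 1, 1, 6, 0, 0, 0, 2, 0, 3, 0, 6, 0, 6, 3, 6, 0, 6, 7, 7, 1, 7, 2, 7, 1, 7]
def rw7430 : List ℕ := [6, 1, 7, 0, 6, 0, 6, 6, 5, 1, 4, 0, 2, 5, 3, 1, 0, 0, 2, 4, 3, 1, 5, 0, 4, 7, 7, 1, 7, 1]
def rw7431 : List ℕ := [6, 6, 5, 1, 4, 0, 2, 5, 3, 1, 0, 0, 2, 4, 3, 1, 5, 0, 4, 7, 7, 1, 7, 1, 6, 1, 7, 0, 6, 0]
def rw7432 : List ℕ := [6, 5, 1, 4, 0, 2, 5, 3, 1, 4, 0, 2, 4, 3, 1, 5, 0, 4, 7, 7, 1, 7, 1, 6, 5, 7, 0, 6, 0, 6]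
def rw7433 : List ℕ := [1, 4, 0, 2, 5, 3, 1, 6, 0, 2, 4, 3, 1, 5, 0, 4, 7, 7, 1, 7, 1, 6, 7, 7, 0, 6, 0, 6, 6, 5]
def rw7434 : List ℕ := [1, 4, 6, 1, 7, 5, 0, 6, 6, 3, 0, 5, 5, 3, 5, 7, 3, 1, 0, 0, 2, 6, 4, 2, 4, 4, 1, 2, 7, 7]
def rw7435 : List ℕ := [1, 7, 1, 5, 2, 7, 4, 7, 2, 5, 6, 5, 1, 0, 0, 4, 7, 4, 3, 6, 5, 6, 3, 4, 0, 6, 0, 6, 1, 7]
def rw7436 : List ℕ := [3, 6, 5, 6, 3, 4, 0, 6, 0, 6, 3, 7, 1, 7, 1, 5, 2, 7, 4, 7, 2, 5, 6, 5, 1, 2, 0, 4, 7, 4]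
def rw7437 : List ℕ := [3, 6, 5, 6, 3, 4, 0, 6, 0, 6, 5, 7, 1, 7, 1, 5, 2, 7, 4, 7, 2, 5, 6, 5, 1, 4, 0, 4, 7, 4]
def rw7438 : List ℕ := [6, 0, 6, 7, 7, 1, 7, 1, 5, 2, 7, 4, 7, 2, 5, 6, 5, 1, 6, 0, 4, 7, 4, 3, 6, 5, 6, 3, 4, 0]
def rw7439 : List ℕ := [3, 6, 6, 3, 4, 1, 0, 0, 5, 2, 7, 7, 2, 5, 2, 5, 5, 3, 5, 7, 5, 1, 4, 6, 4, 2, 4, 4, 3, 4]
def rw7440 : List ℕ := [6, 6, 3, 4, 1, 2, 0, 5, 2, 7, 7, 2, 5, 2, 5, 5, 3, 5, 7, 5, 3, 4, 6, 4, 2, 4, 4, 3, 4, 3]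
def rw7441 : List ℕ := [2, 4, 2, 0, 5, 2, 7, 3, 1, 3, 1, 0, 0, 2, 0, 2, 6, 3, 4, 1, 3, 5, 3, 5, 2, 7, 1, 6, 3, 4]
def rw7442 : List ℕ := [6, 3, 3, 2, 7, 4, 6, 2, 7, 1, 4, 0, 5, 1, 4, 3, 1, 2, 0, 2, 5, 0, 4, 1, 5, 0, 6, 3, 7, 5]
def rw7443 : List ℕ := [2, 7, 1, 4, 0, 5, 1, 4, 3, 1, 4, 0, 2, 5, 0, 4, 1, 5, 0, 6, 3, 7, 5, 6, 3, 5, 2, 7, 4, 6]
def rw7444 : List ℕ := [4, 3, 0, 6, 0, 2, 6, 6, 5, 7, 7, 3, 1, 7, 1, 2, 5, 2, 5, 1, 4, 3, 1, 4, 0, 2, 5, 0, 4, 3]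
def rw7445 : List ℕ := [6, 0, 2, 6, 6, 7, 7, 7, 3, 1, 7, 1, 2, 5, 2, 5, 1, 4, 3, 1, 6, 0, 2, 5, 0, 4, 3, 4, 3, 0]
def rw7446 : List ℕ := [5, 6, 5, 6, 0, 6, 5, 7, 2, 7, 1, 0, 0, 6, 3, 6, 4, 7, 1, 7, 4, 7, 4, 0, 6, 5, 1, 4, 7, 1]
def rw7447 : List ℕ := [6, 0, 6, 5, 7, 2, 7, 1, 2, 0, 6, 3, 6, 4, 7, 1, 7, 4, 7, 4, 0, 6, 5, 3, 4, 7, 1, 5, 6, 5]
def rw7448 : List ℕ := [5, 6, 5, 6, 0, 6, 5, 7, 2, 7, 1, 2, 0, 6, 3, 6, 4, 7, 1, 7, 4, 7, 4, 0, 6, 5, 3, 4, 7, 1]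
def rw7449 : List ℕ := [6, 0, 6, 5, 7, 2, 7, 1, 4, 0, 6, 3, 6, 4, 7, 1, 7, 4, 7, 4, 0, 6, 5, 5, 4, 7, 1, 5, 6, 5]
def rw7450 : List ℕ := [0, 6, 5, 7, 2, 7, 1, 4, 0, 6, 3, 6, 4, 7, 1, 7, 4, 7, 4, 0, 6, 5, 5, 4, 7, 1, 5, 6, 5, 6]
def rw7451 : List ℕ := [2, 7, 4, 2, 0, 5, 3, 4, 1, 3, 5, 6, 3, 0, 3, 1, 7, 1, 3, 1, 1, 2, 0, 0, 2, 0, 6, 0, 2, 1]
def rw7452 : List ℕ := [5, 2, 5, 7, 7, 1, 3, 6, 6, 3, 7, 2, 7, 7, 2, 0, 6, 6, 4, 3, 4, 4, 3, 1, 1, 6, 0, 0, 2, 5]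
def rw7453 : List ℕ := [0, 2, 6, 0, 2, 6, 3, 7, 3, 1, 7, 3, 1, 7, 3, 4, 3, 4, 3, 3, 1, 2, 0, 2, 2, 5, 2, 5, 2, 6]
def rw7454 : List ℕ := [3, 1, 7, 3, 4, 3, 4, 3, 3, 1, 6, 0, 2, 2, 5, 2, 5, 2, 6, 0, 2, 6, 0, 2, 6, 7, 7, 3, 1, 7]
def rw7455 : List ℕ := [2, 6, 0, 2, 6, 7, 7, 3, 1, 7, 3, 1, 7, 3, 4, 3, 4, 3, 3, 1, 6, 0, 2, 2, 5, 2, 5, 2, 6, 0]
def rw7456 : List ℕ := [1, 2, 4, 4, 1, 4, 2, 5, 7, 1, 6, 4, 3, 5, 0, 5, 5, 3, 0, 5, 2, 7, 3, 1, 0, 0, 2, 6, 3, 4]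
def rw7457 : List ℕ := [3, 0, 2, 2, 7, 4, 1, 1, 2, 0, 0, 5, 6, 3, 3, 1, 2, 7, 0, 2, 4, 0, 2, 3, 3, 1, 5, 3, 1, 6]
def rw7458 : List ℕ := [1, 2, 7, 0, 2, 4, 0, 2, 5, 3, 1, 5, 3, 1, 6, 3, 0, 2, 2, 7, 4, 1, 1, 4, 0, 0, 5, 6, 3, 3]
def rw7459 : List ℕ := [5, 6, 5, 2, 5, 5, 5, 2, 5, 1, 6, 0, 4, 3, 4, 4, 4, 3, 4, 7, 4, 1, 4, 2, 6, 7, 7, 3, 5, 0]
def rw7460 : List ℕ := [5, 6, 2, 7, 2, 7, 1, 6, 3, 6, 3, 7, 4, 6, 6, 0, 4, 4, 3, 1, 1, 0, 0, 0, 2, 5, 5, 1, 7, 7]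
def rw7461 : List ℕ := [5, 1, 7, 7, 5, 6, 2, 7, 2, 7, 3, 6, 3, 6, 3, 7, 4, 6, 6, 0, 4, 4, 3, 1, 1, 2, 0, 0, 2, 5]
def rw7462 : List ℕ := [5, 5, 3, 4, 4, 1, 3, 5, 7, 4, 2, 0, 5, 6, 4, 3, 1, 2, 0, 2, 5, 7, 4, 1, 3, 5, 6, 4, 2, 0]
def rw7463 : List ℕ := [4, 3, 6, 3, 6, 3, 4, 3, 4, 7, 5, 2, 5, 2, 7, 2, 7, 2, 5, 6, 3, 6, 5, 1, 6, 0, 4, 7, 2, 7]
def rw7464 : List ℕ := [6, 3, 6, 3, 4, 3, 4, 7, 5, 2, 5, 2, 7, 2, 7, 2, 5, 6, 3, 6, 5, 1, 6, 0, 4, 7, 2, 7, 4, 3]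
def rw7465 : List ℕ := [2, 6, 2, 0, 7, 1, 3, 1, 0, 0, 2, 0, 6, 1, 3, 7, 3, 1, 6, 2, 0, 7, 3, 1, 2, 6, 1, 3, 7, 0]
def rw7466 : List ℕ := [1, 6, 0, 2, 0, 6, 1, 3, 7, 3, 1, 6, 2, 0, 7, 3, 7, 2, 6, 1, 3, 7, 0, 2, 6, 2, 0, 7, 1, 3]
def rw7467 : List ℕ := [3, 6, 3, 6, 2, 1, 3, 7, 2, 7, 2, 5, 2, 7, 2, 7, 4, 3, 3, 1, 0, 0, 2, 2, 5, 6, 3, 6, 3, 4]
def rw7468 : List ℕ := [0, 5, 6, 3, 3, 1, 6, 0, 2, 2, 7, 4, 1, 4, 3, 1, 3, 4, 2, 6, 3, 7, 2, 7, 3, 5, 2, 0, 2, 5]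
def rw7469 : List ℕ := [6, 3, 6, 0, 6, 0, 3, 3, 1, 3, 7, 2, 0, 2, 2, 1, 7, 1, 7, 2, 7, 1, 7, 1, 1, 6, 0, 0, 6, 0]
def rw7470 : List ℕ := [3, 6, 0, 6, 0, 3, 3, 1, 3, 7, 2, 0, 2, 2, 1, 7, 1, 7, 2, 7, 1, 7, 1, 1, 6, 0, 0, 6, 0, 6]
def rw7471 : List ℕ := [6, 0, 6, 0, 3, 3, 1, 3, 7, 2, 0, 2, 2, 1, 7, 1, 7, 2, 7, 1, 7, 1, 1, 6, 0, 0, 6, 0, 6, 3]
def rw7472 : List ℕ := [2, 0, 3, 3, 6, 3, 6, 0, 6, 3, 6, 3, 5, 2, 7, 2, 7, 1, 7, 2, 7, 2, 2, 1, 3, 1, 1, 4, 0, 0]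
def rw7473 : List ℕ := [1, 3, 7, 0, 2, 6, 1, 3, 1, 2, 0, 2, 0, 7, 3, 1, 6, 2, 0, 7, 0, 2, 6, 2, 3, 3, 7, 3, 1, 6]
def rw7474 : List ℕ := [2, 6, 1, 3, 1, 6, 0, 2, 0, 7, 3, 1, 6, 2, 0, 7, 0, 2, 6, 2, 7, 3, 7, 3, 1, 6, 1, 3, 7, 0]
def rw7475 : List ℕ := [1, 7, 0, 3, 1, 0, 0, 2, 1, 6, 0, 2, 2, 6, 3, 6, 3, 4, 2, 6, 1, 7, 3, 5, 2, 7, 2, 7, 3, 3]
def rw7476 : List ℕ := [0, 2, 2, 6, 3, 6, 3, 4, 2, 6, 7, 7, 3, 5, 2, 7, 2, 7, 3, 3, 1, 7, 0, 3, 1, 6, 0, 2, 1, 6]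
def rw7477 : List ℕ := [0, 3, 3, 3, 3, 1, 3, 0, 0, 0, 0, 2]
def rw7478 : List ℕ := [2, 2, 2, 7, 2, 1, 1, 1, 1, 1, 1, 1, 1, 1, 1, 1, 1, 1, 3, 6, 3, 3, 3, 0, 3, 0, 0, 6, 1, 1, 2, 1]
def rw7479 : List ℕ := [2, 0, 2, 2, 2, 5, 3, 3, 3, 1, 3, 0, 3, 1, 4, 0, 2, 1]
def rw7480 : List ℕ := [2, 1, 3, 1, 1, 0, 0, 0, 2, 0, 3, 0, 3, 1, 3, 3, 1, 2, 2, 0, 2, 1]
def rw7481 : List ℕ := [0, 3, 1, 3, 3, 3, 2, 2, 0, 2, 1, 2, 1, 3, 1, 1, 2, 0, 0, 2, 0, 3]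
def rw7482 : List ℕ := [0, 3, 1, 3, 3, 0, 3, 1, 4, 0, 2, 1, 2, 2, 0, 2, 1, 2, 2, 5, 3, 3]
def rw7483 : List ℕ := [0, 3, 1, 3, 3, 0, 3, 1, 6, 0, 2, 1, 2, 2, 0, 2, 1, 2, 2, 7, 3, 3]
def rw7484 : List ℕ := [3, 3, 1, 3, 0, 3, 3, 1, 4, 0, 2, 2, 1, 2, 0, 2, 2, 1, 2, 5, 3, 0]
def rw7485 : List ℕ := [1, 3, 0, 3, 3, 1, 4, 0, 2, 2, 1, 2, 0, 2, 2, 1, 2, 5, 3, 0, 3, 3]
def rw7486 : List ℕ := [1, 3, 3, 3, 3, 3, 1, 3, 1, 2, 0, 2, 2, 2, 2, 2, 0, 2, 1, 1, 1, 0, 0, 0, 0, 3]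
def rw7487 : List ℕ := [3, 3, 0, 2, 5, 3, 1, 2, 2, 1, 2, 0, 2, 2, 1, 1, 1, 4, 0, 0, 0, 3, 3, 1, 3, 0]
def rw7488 : List ℕ := [1, 2, 1, 1, 6, 0, 0, 3, 0, 2, 0, 0, 3, 3, 3, 1, 3, 7, 2, 0, 2, 2, 2, 1, 1, 3]
def rw7489 : List ℕ := [3, 0, 3, 0, 2, 5, 3, 1, 2, 1, 2, 2, 0, 2, 1, 2, 1, 1, 4, 0, 0, 3, 0, 3, 1, 3]
def rw7490 : List ℕ := [0, 3, 1, 4, 0, 2, 1, 2, 1, 2, 0, 2, 2, 1, 2, 2, 5, 3, 3, 0, 3, 3, 1, 3, 0, 3]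
def rw7491 : List ℕ := [0, 3, 3, 3, 0, 3, 1, 3, 3, 5, 2, 2, 0, 2, 1, 2, 2, 2, 1, 3, 1, 1, 1, 1, 4, 0, 0, 0, 0, 2]
def rw7492 : List ℕ := [5, 0, 5, 1, 4, 1, 4, 1, 1, 4, 1, 4, 1, 1, 0, 0, 0, 5, 0, 5, 0, 0]
def rw7493 : List ℕ := [5, 0, 5, 3, 4, 1, 4, 1, 4, 1, 4, 1, 4, 1, 2, 0, 5, 0, 5, 0, 5, 0]
def rw7494 : List ℕ := [0, 5, 5, 0, 5, 0, 5, 5, 3, 4, 4, 1, 4, 1, 4, 4, 1, 4, 1, 2, 0, 5]
def rw7495 : List ℕ := [5, 5, 2, 1, 2, 2, 4, 2, 2, 1, 6, 0, 3, 3, 5, 3, 3, 0, 3, 4, 4, 3, 7, 2]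
def rw7496 : List ℕ := [2, 1, 2, 2, 4, 2, 2, 1, 6, 0, 3, 3, 5, 3, 3, 0, 3, 4, 4, 3, 7, 2, 5, 5]
def rw7497 : List ℕ := [3, 1, 1, 1, 6, 0, 0, 0, 2, 4, 0, 0, 0, 2, 5, 0, 3, 7, 2, 1, 4, 3, 1, 1, 1, 5]
def rw7498 : List ℕ := [5, 0, 3, 7, 2, 1, 4, 0, 3, 0, 2, 5, 3, 1, 1, 1, 6, 0, 0, 0, 2, 4, 3, 1, 2, 1]
def rw7499 : List ℕ := [1, 1, 6, 0, 0, 0, 2, 5, 0, 0, 2, 2, 2, 1, 4, 7, 5, 0, 3, 3, 3, 1, 1, 4, 3, 1]
def rw7500 : List ℕ := [0, 5, 1, 1, 3, 0, 4, 2, 7, 3, 5, 1, 2, 0, 0, 4, 1, 2, 1, 1, 1, 6, 0, 0, 0, 3]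
def rw7501 : List ℕ := [0, 0, 4, 1, 2, 1, 3, 3, 0, 5, 2, 7, 3, 4, 1, 2, 2, 0, 3, 0, 5, 1, 1, 1, 6, 0]
def rw7502 : List ℕ := [3, 3, 0, 5, 1, 1, 1, 0, 0, 0, 0, 4, 1, 2, 2, 1, 1, 3, 5, 2, 1, 3, 4, 2, 0, 0]
def rw7503 : List ℕ := [2, 5, 3, 4, 2, 0, 0, 3, 3, 0, 5, 1, 1, 1, 4, 0, 0, 0, 4, 1, 2, 2, 1, 1, 3, 5]
def rw7504 : List ℕ := [0, 5, 1, 1, 1, 4, 0, 0, 0, 4, 1, 2, 2, 1, 1, 3, 5, 2, 5, 3, 4, 2, 0, 0, 3, 3]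
def rw7505 : List ℕ := [0, 5, 0, 5, 5, 4, 1, 4, 1, 5, 1, 4, 1, 4, 1, 1, 1, 4, 0, 0, 0, 5, 0, 5, 0, 4]
def rw7506 : List ℕ := [4, 1, 4, 1, 1, 1, 4, 0, 0, 0, 5, 0, 5, 0, 4, 0, 5, 0, 5, 5, 4, 1, 4, 1, 5, 1]
def rw7507 : List ℕ := [6, 0, 0, 0, 5, 2, 5, 0, 0, 0, 5, 2, 5, 7, 4, 3, 4, 1, 1, 1, 4, 3, 4, 1, 1, 1]
def rw7508 : List ℕ := [5, 3, 5, 1, 3, 1, 1, 4, 0, 0, 2, 0, 4, 2, 4, 1, 4, 2, 4, 2, 5, 3, 5, 3, 5, 0]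
def rw7509 : List ℕ := [0, 3, 0, 3, 1, 1, 6, 0, 0, 2, 1, 2, 1, 4, 0, 0, 2, 1, 5, 7, 4, 0, 3, 1, 1, 5]
def rw7510 : List ℕ := [2, 1, 4, 0, 3, 0, 2, 5, 1, 4, 3, 1, 2, 1, 5, 0, 3, 0, 3, 1, 1, 0, 0, 0, 2, 1]
def rw7511 : List ℕ := [2, 1, 4, 0, 3, 0, 2, 5, 5, 4, 3, 1, 2, 1, 5, 0, 3, 0, 3, 1, 1, 4, 0, 0, 2, 1]
def rw7512 : List ℕ := [5, 4, 3, 1, 2, 1, 5, 0, 3, 0, 3, 1, 1, 4, 0, 0, 2, 1, 2, 1, 4, 0, 3, 0, 2, 5]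
def rw7513 : List ℕ := [2, 1, 4, 1, 5, 0, 3, 3, 1, 2, 1, 4, 0, 3, 1, 1, 0, 0, 0, 2, 1, 5, 0, 3, 0, 2]
def rw7514 : List ℕ := [0, 3, 0, 2, 5, 0, 3, 3, 3, 1, 1, 0, 0, 0, 2, 2, 2, 1, 4, 3, 1, 2, 1, 5, 1, 4]
def rw7515 : List ℕ := [0, 3, 0, 2, 5, 0, 3, 3, 3, 2, 2, 1, 4, 3, 1, 2, 1, 5, 3, 1, 1, 2, 0, 0, 2, 4]
def rw7516 : List ℕ := [3, 1, 1, 6, 0, 0, 2, 4, 0, 3, 0, 2, 5, 0, 3, 3, 7, 2, 2, 1, 4, 3, 1, 2, 1, 5]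
def rw7517 : List ℕ := [0, 0, 5, 0, 5, 3, 1, 1, 0, 0, 0, 2, 4, 1, 4, 1, 1, 4, 1, 4, 2, 1, 3, 5, 0, 5]
def rw7518 : List ℕ := [5, 5, 4, 1, 4, 2, 4, 1, 4, 1, 3, 1, 3, 1, 4, 0, 2, 0, 2, 0, 5, 0, 5, 3, 5, 0]
def rw7519 : List ℕ := [0, 2, 0, 4, 1, 4, 2, 4, 1, 4, 1, 3, 1, 2, 0, 5, 0, 5, 3, 5, 0, 5, 1, 3, 1, 0]
def rw7520 : List ℕ := [3, 1, 2, 0, 2, 0, 4, 1, 4, 2, 4, 1, 4, 1, 3, 3, 2, 0, 5, 0, 5, 3, 5, 0, 5, 1]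
def rw7521 : List ℕ := [5, 0, 2, 0, 5, 1, 4, 1, 3, 1, 4, 1, 3, 1, 4, 1, 3, 1, 0, 0, 2, 0, 5, 0, 2, 0]
def rw7522 : List ℕ := [0, 2, 0, 5, 0, 2, 0, 5, 3, 4, 1, 3, 1, 4, 1, 3, 1, 4, 1, 3, 1, 2, 0, 2, 0, 5]
def rw7523 : List ℕ := [2, 5, 1, 4, 3, 1, 3, 4, 1, 3, 1, 4, 1, 3, 1, 0, 0, 2, 0, 5, 0, 2, 0, 5, 2, 0]
def rw7524 : List ℕ := [3, 1, 3, 5, 1, 4, 2, 0, 2, 4, 1, 3, 1, 4, 1, 3, 1, 0, 0, 2, 0, 5, 0, 2, 0, 5]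
def rw7525 : List ℕ := [4, 2, 4, 1, 4, 1, 2, 1, 3, 0, 5, 0, 5, 3, 5, 0, 5, 0, 3, 1, 0, 0, 2, 1, 4, 1]
def rw7526 : List ℕ := [1, 2, 0, 4, 7, 5, 1, 3, 0, 4, 4, 3, 4, 4, 0, 3, 1, 6, 0, 2, 1, 5, 5, 2, 5, 5]
def rw7527 : List ℕ := [1, 3, 4, 4, 3, 4, 4, 0, 3, 1, 0, 0, 2, 1, 5, 5, 2, 5, 5, 2, 0, 3, 4, 1, 5, 2]
def rw7528 : List ℕ := [2, 0, 3, 4, 7, 5, 2, 1, 3, 4, 4, 3, 4, 4, 0, 3, 1, 6, 0, 2, 1, 5, 5, 2, 5, 5]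
def rw7529 : List ℕ := [0, 5, 3, 5, 0, 5, 2, 5, 3, 4, 1, 4, 2, 4, 1, 4, 1, 3, 3, 1, 4, 0, 2, 2, 0, 5]
def rw7530 : List ℕ := [3, 5, 3, 5, 5, 4, 2, 4, 2, 2, 4, 2, 4, 1, 3, 3, 1, 4, 0, 2, 2, 0, 5, 3, 5, 3]
def rw7531 : List ℕ := [3, 5, 2, 1, 4, 3, 1, 2, 1, 5, 0, 3, 3, 1, 4, 0, 2, 2, 1, 4, 0, 3, 0, 2, 5, 0]
def rw7532 : List ℕ := [0, 3, 0, 2, 5, 0, 3, 5, 2, 1, 4, 3, 1, 2, 1, 5, 0, 3, 3, 1, 4, 0, 2, 2, 1, 4]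
def rw7533 : List ℕ := [3, 3, 1, 6, 0, 2, 2, 1, 4, 0, 3, 0, 2, 5, 0, 3, 7, 2, 1, 4, 3, 1, 2, 1, 5, 0]
def rw7534 : List ℕ := [4, 1, 4, 2, 4, 2, 2, 5, 3, 3, 5, 3, 5, 0, 5, 3, 5, 3, 3, 1, 4, 0, 2, 2, 4, 2]
def rw7535 : List ℕ := [5, 0, 5, 1, 3, 5, 0, 5, 3, 1, 2, 0, 2, 4, 1, 4, 2, 0, 4, 1, 4, 1, 4, 3, 5, 0]
def rw7536 : List ℕ := [4, 0, 5, 0, 5, 0, 3, 5, 0, 5, 3, 1, 0, 0, 2, 4, 1, 4, 2, 1, 4, 1, 4, 1, 5, 1]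
def rw7537 : List ℕ := [5, 3, 4, 0, 5, 0, 5, 0, 3, 5, 0, 5, 3, 1, 2, 0, 2, 4, 1, 4, 2, 1, 4, 1, 4, 1]
def rw7538 : List ℕ := [5, 3, 5, 5, 4, 2, 4, 1, 2, 4, 2, 4, 2, 5, 3, 1, 4, 0, 2, 4, 3, 5, 3, 5, 3, 0]
def rw7539 : List ℕ := [3, 5, 5, 3, 1, 6, 0, 2, 4, 4, 2, 4, 2, 4, 0, 5, 3, 5, 7, 4, 2, 4, 1, 5, 3, 5]
def rw7540 : List ℕ := [3, 3, 0, 3, 0, 3, 4, 3, 1, 6, 0, 2, 5, 2, 1, 2, 1, 2, 2, 2, 5, 5, 7, 4, 4, 3]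
def rw7541 : List ℕ := [2, 1, 2, 1, 2, 2, 2, 5, 5, 7, 4, 4, 3, 3, 3, 0, 3, 0, 3, 4, 3, 1, 6, 0, 2, 5]
def rw7542 : List ℕ := [3, 5, 3, 5, 2, 0, 5, 3, 5, 3, 4, 2, 4, 1, 3, 4, 2, 4, 2, 4, 3, 1, 2, 0, 2, 5]
def rw7543 : List ℕ := [3, 0, 5, 2, 1, 3, 4, 1, 2, 1, 3, 3, 0, 5, 1, 2, 1, 0, 0, 3, 0, 4, 1, 2, 2, 0]
def rw7544 : List ℕ := [1, 2, 2, 0, 3, 0, 5, 2, 5, 3, 4, 1, 2, 1, 3, 3, 0, 5, 1, 2, 1, 4, 0, 3, 0, 4]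
def rw7545 : List ℕ := [1, 3, 5, 0, 5, 3, 0, 5, 0, 5, 1, 4, 1, 4, 1, 2, 4, 1, 4, 2, 0, 5, 1, 0, 0, 4]
def rw7546 : List ℕ := [2, 0, 5, 1, 0, 0, 4, 1, 3, 5, 0, 5, 3, 0, 5, 0, 5, 1, 4, 1, 4, 1, 2, 4, 1, 4]
def rw7547 : List ℕ := [0, 4, 1, 3, 5, 0, 5, 3, 0, 5, 0, 5, 5, 4, 1, 4, 1, 2, 4, 1, 4, 2, 0, 5, 1, 4]
def rw7548 : List ℕ := [1, 4, 4, 4, 1, 4, 1, 4, 1, 5, 0, 5, 0, 5, 5, 5, 0, 5, 0, 5, 1, 0, 0, 4, 1, 4]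
def rw7549 : List ℕ := [2, 0, 4, 1, 4, 1, 4, 4, 4, 1, 4, 1, 4, 3, 5, 0, 5, 0, 5, 5, 5, 0, 5, 0, 5, 1]
def rw7550 : List ℕ := [2, 4, 4, 2, 0, 5, 3, 5, 1, 4, 2, 4, 1, 3, 5, 5, 3, 5, 3, 5, 1, 0, 0, 4, 2, 4]
def rw7551 : List ℕ := [1, 4, 3, 3, 5, 5, 1, 4, 0, 4, 4, 2, 2, 5, 0, 4, 4, 2, 2, 5, 5, 4, 3, 3, 5, 5]
def rw7552 : List ℕ := [5, 5, 4, 1, 4, 1, 1, 4, 1, 4, 1, 1, 4, 0, 0, 5, 0, 5, 0, 0, 5, 0]
def rw7553 : List ℕ := [2, 0, 5, 0, 5, 0, 5, 0, 5, 0, 5, 3, 4, 1, 4, 1, 4, 1, 4, 1, 4, 1]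
def rw7554 : List ℕ := [5, 0, 5, 0, 5, 0, 5, 5, 4, 1, 4, 1, 4, 1, 4, 1, 4, 1, 4, 0, 5, 0]
def rw7555 : List ℕ := [2, 4, 2, 4, 2, 4, 1, 5, 3, 5, 3, 5, 3, 5, 3, 5, 3, 0, 2, 4, 2, 4]
def rw7556 : List ℕ := [4, 2, 4, 2, 4, 4, 1, 5, 5, 3, 5, 3, 5, 5, 3, 5, 3, 0, 2, 4, 2, 4]
def rw7557 : List ℕ := [4, 0, 5, 3, 3, 5, 3, 4, 4, 7, 5, 5, 2, 4, 2, 2, 4, 1, 5, 1, 1, 6, 0, 0]
def rw7558 : List ℕ := [5, 5, 2, 1, 2, 2, 4, 2, 2, 1, 4, 0, 3, 3, 5, 3, 3, 0, 3, 4, 4, 3, 5, 2]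
def rw7559 : List ℕ := [2, 0, 0, 0, 2, 4, 0, 0, 0, 2, 5, 0, 3, 3, 2, 1, 4, 3, 1, 1, 1, 5, 3, 1, 1, 1]
def rw7560 : List ℕ := [3, 1, 1, 1, 4, 0, 0, 0, 2, 4, 0, 0, 0, 2, 5, 0, 3, 5, 2, 1, 4, 3, 1, 1, 1, 5]
def rw7561 : List ℕ := [0, 2, 4, 0, 3, 1, 1, 5, 0, 3, 3, 2, 1, 4, 0, 0, 2, 1, 5, 3, 1, 1, 1, 2, 0, 0]
def rw7562 : List ℕ := [3, 1, 1, 5, 0, 3, 5, 2, 1, 4, 0, 0, 2, 1, 5, 3, 1, 1, 1, 4, 0, 0, 0, 2, 4, 0]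
def rw7563 : List ℕ := [2, 1, 5, 0, 3, 5, 2, 1, 4, 0, 3, 0, 2, 5, 3, 1, 1, 1, 4, 0, 0, 0, 2, 4, 3, 1]
def rw7564 : List ℕ := [3, 1, 1, 4, 3, 1, 1, 1, 2, 0, 0, 0, 2, 5, 0, 0, 2, 2, 2, 1, 4, 3, 5, 0, 3, 3]
def rw7565 : List ℕ := [1, 4, 3, 1, 1, 1, 2, 0, 0, 0, 2, 5, 0, 3, 0, 3, 1, 1, 4, 3, 5, 0, 0, 2, 1, 2]
def rw7566 : List ℕ := [2, 0, 0, 4, 1, 2, 1, 1, 1, 4, 0, 0, 0, 3, 0, 5, 1, 1, 3, 0, 4, 2, 5, 3, 5, 1]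
def rw7567 : List ℕ := [0, 0, 3, 0, 5, 1, 1, 3, 0, 4, 2, 7, 3, 5, 1, 2, 0, 0, 4, 1, 2, 1, 1, 1, 6, 0]
def rw7568 : List ℕ := [4, 1, 2, 1, 1, 1, 4, 0, 0, 0, 3, 0, 5, 1, 2, 1, 3, 4, 2, 5, 3, 5, 2, 0, 3, 0]
def rw7569 : List ℕ := [4, 2, 3, 3, 5, 1, 1, 1, 3, 4, 1, 2, 1, 1, 1, 2, 0, 0, 0, 3, 0, 5, 2, 0, 0, 0]
def rw7570 : List ℕ := [3, 4, 1, 2, 1, 1, 1, 4, 0, 0, 0, 3, 0, 5, 2, 0, 0, 0, 4, 2, 5, 3, 5, 1, 1, 1]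
def rw7571 : List ℕ := [0, 5, 1, 1, 1, 0, 0, 0, 0, 4, 1, 2, 2, 1, 1, 3, 5, 2, 1, 3, 4, 2, 0, 0, 3, 3]
def rw7572 : List ℕ := [0, 3, 3, 0, 5, 1, 1, 1, 4, 0, 0, 0, 4, 1, 2, 2, 1, 1, 3, 5, 2, 5, 3, 4, 2, 0]
def rw7573 : List ℕ := [1, 3, 3, 3, 0, 5, 1, 1, 1, 4, 0, 0, 0, 4, 1, 2, 2, 2, 0, 0, 5, 2, 5, 3, 4, 1]
def rw7574 : List ℕ := [4, 1, 4, 1, 5, 1, 4, 1, 4, 1, 1, 1, 0, 0, 0, 0, 5, 0, 5, 0, 4, 0, 5, 0, 5, 1]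
def rw7575 : List ℕ := [4, 0, 0, 0, 5, 0, 5, 0, 4, 0, 5, 0, 5, 5, 4, 1, 4, 1, 5, 1, 4, 1, 4, 1, 1, 1]
def rw7576 : List ℕ := [3, 4, 1, 1, 1, 2, 0, 0, 0, 5, 2, 5, 0, 0, 0, 5, 2, 5, 3, 4, 3, 4, 1, 1, 1, 4]
def rw7577 : List ℕ := [1, 4, 3, 4, 1, 1, 1, 4, 0, 0, 0, 5, 2, 5, 0, 0, 0, 5, 2, 5, 5, 4, 3, 4, 1, 1]
def rw7578 : List ℕ := [6, 0, 0, 2, 0, 4, 2, 4, 1, 4, 2, 4, 2, 7, 3, 5, 3, 5, 0, 5, 3, 5, 1, 3, 1, 1]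
def rw7579 : List ℕ := [3, 0, 3, 1, 1, 2, 0, 0, 2, 1, 2, 1, 4, 0, 0, 2, 1, 5, 3, 4, 0, 3, 1, 1, 5, 0]
def rw7580 : List ℕ := [1, 4, 0, 0, 2, 1, 5, 5, 4, 0, 3, 1, 1, 5, 0, 3, 0, 3, 1, 1, 4, 0, 0, 2, 1, 2]
def rw7581 : List ℕ := [2, 2, 1, 4, 3, 5, 0, 3, 3, 1, 2, 1, 4, 0, 3, 1, 1, 2, 0, 0, 2, 1, 5, 0, 3, 0]
def rw7582 : List ℕ := [0, 3, 3, 1, 2, 1, 4, 0, 3, 1, 1, 2, 0, 0, 2, 1, 5, 0, 3, 0, 2, 2, 1, 4, 3, 5]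
def rw7583 : List ℕ := [3, 1, 1, 2, 2, 1, 4, 0, 3, 1, 1, 4, 0, 0, 2, 1, 5, 0, 3, 3, 0, 0, 2, 4, 5, 5]
def rw7584 : List ℕ := [3, 1, 2, 1, 5, 3, 1, 1, 0, 0, 0, 2, 4, 0, 3, 0, 2, 5, 0, 3, 3, 1, 2, 2, 1, 4]
def rw7585 : List ℕ := [2, 5, 0, 3, 3, 5, 2, 2, 1, 4, 3, 1, 2, 1, 5, 3, 1, 1, 4, 0, 0, 2, 4, 0, 3, 0]
def rw7586 : List ℕ := [2, 1, 3, 5, 0, 5, 0, 0, 5, 0, 5, 3, 1, 1, 0, 0, 0, 2, 4, 1, 4, 1, 1, 4, 1, 4]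
def rw7587 : List ℕ := [4, 2, 3, 3, 5, 0, 5, 0, 0, 5, 0, 5, 3, 1, 1, 2, 0, 0, 2, 4, 1, 4, 1, 1, 4, 1]
def rw7588 : List ℕ := [5, 0, 5, 1, 4, 1, 4, 1, 1, 3, 5, 0, 5, 3, 1, 1, 0, 0, 0, 2, 4, 1, 4, 2, 0, 0]
def rw7589 : List ℕ := [5, 3, 1, 1, 0, 0, 0, 2, 4, 1, 4, 2, 0, 0, 5, 0, 5, 1, 4, 1, 4, 1, 1, 3, 5, 0]
def rw7590 : List ℕ := [4, 2, 0, 0, 5, 0, 5, 5, 4, 1, 4, 1, 1, 3, 5, 0, 5, 3, 1, 1, 4, 0, 0, 2, 4, 1]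
def rw7591 : List ℕ := [4, 0, 2, 1, 3, 1, 5, 3, 5, 0, 5, 3, 5, 3, 1, 1, 0, 0, 0, 2, 4, 2, 4, 1, 4, 2]
def rw7592 : List ℕ := [4, 1, 4, 2, 4, 0, 2, 3, 3, 1, 5, 3, 5, 0, 5, 3, 5, 3, 1, 1, 2, 0, 0, 2, 4, 2]
def rw7593 : List ℕ := [2, 2, 1, 1, 0, 0, 0, 3, 3, 0, 5, 1, 2, 0, 0, 4, 2, 1, 3, 5, 1, 1, 3, 0, 4, 1]
def rw7594 : List ℕ := [5, 1, 2, 0, 0, 4, 2, 3, 3, 5, 1, 1, 3, 0, 4, 1, 2, 2, 1, 1, 2, 0, 0, 3, 3, 0]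
def rw7595 : List ℕ := [2, 1, 1, 2, 0, 0, 3, 3, 0, 5, 1, 2, 0, 0, 4, 2, 3, 3, 5, 1, 1, 3, 0, 4, 1, 2]
def rw7596 : List ℕ := [5, 1, 2, 0, 0, 4, 2, 5, 3, 5, 1, 1, 3, 0, 4, 1, 2, 2, 1, 1, 4, 0, 0, 3, 3, 0]
def rw7597 : List ℕ := [1, 5, 5, 1, 5, 1, 1, 5, 5, 1, 5, 1, 1, 0, 0, 0, 4, 0, 4, 4, 0, 0, 4, 0, 4, 4]
def rw7598 : List ℕ := [5, 1, 1, 6, 0, 0, 4, 0, 4, 4, 0, 0, 4, 0, 4, 4, 7, 5, 5, 1, 5, 1, 1, 5, 5, 1]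
def rw7599 : List ℕ := [2, 1, 3, 0, 4, 1, 2, 2, 2, 0, 0, 5, 1, 1, 0, 0, 0, 4, 1, 1, 3, 3, 3, 0, 5, 1]
def rw7600 : List ℕ := [4, 3, 5, 5, 1, 4, 0, 0, 4, 4, 0, 5, 1, 1, 2, 0, 0, 4, 1, 5, 5, 1, 1, 5, 0, 4]
def rw7601 : List ℕ := [4, 0, 0, 4, 3, 3, 4, 3, 5, 2, 2, 5, 1, 1, 5, 2, 2, 5, 1, 1, 2, 0, 0, 4, 3, 3]
def rw7602 : List ℕ := [0, 0, 4, 3, 3, 4, 0, 0, 4, 3, 3, 4, 5, 5, 2, 2, 5, 1, 1, 5, 2, 2, 5, 1, 1, 4]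
def rw7603 : List ℕ := [4, 4, 0, 0, 4, 4, 3, 5, 5, 1, 1, 5, 5, 1, 1, 5, 5, 1, 1, 2, 0, 0, 4, 4, 0, 0]
def rw7604 : List ℕ := [4, 7, 5, 5, 1, 1, 5, 5, 1, 1, 5, 5, 1, 1, 6, 0, 0, 4, 4, 0, 0, 4, 4, 0, 0, 4]
def rw7605 : List ℕ := [4, 4, 0, 4, 1, 5, 1, 5, 5, 1, 1, 5, 1, 5, 5, 1, 1, 0, 0, 0, 4, 4, 0, 4, 0, 0]
def rw7606 : List ℕ := [5, 5, 1, 1, 2, 0, 0, 4, 4, 0, 4, 0, 0, 4, 4, 0, 4, 3, 5, 1, 5, 5, 1, 1, 5, 1]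
def rw7607 : List ℕ := [4, 4, 0, 4, 0, 0, 4, 4, 0, 4, 3, 5, 1, 5, 5, 1, 1, 5, 1, 5, 5, 1, 1, 2, 0, 0]
def rw7608 : List ℕ := [4, 0, 4, 0, 0, 4, 4, 0, 4, 3, 5, 1, 5, 5, 1, 1, 5, 1, 5, 5, 1, 1, 2, 0, 0, 4]
def rw7609 : List ℕ := [1, 5, 1, 5, 5, 1, 1, 4, 0, 0, 4, 4, 0, 4, 0, 0, 4, 4, 0, 4, 5, 5, 1, 5, 5, 1]
def rw7610 : List ℕ := [0, 4, 5, 5, 1, 5, 5, 1, 1, 5, 1, 5, 5, 1, 1, 4, 0, 0, 4, 4, 0, 4, 0, 0, 4, 4]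
def rw7611 : List ℕ := [0, 3, 0, 4, 1, 1, 0, 0, 0, 5, 1, 2, 1, 3, 4, 1, 2, 2, 2, 1, 3, 3, 3, 0, 5, 2]
def rw7612 : List ℕ := [1, 2, 3, 3, 0, 3, 0, 5, 1, 2, 1, 3, 4, 1, 1, 2, 0, 0, 5, 2, 0, 3, 0, 4, 1, 2]
def rw7613 : List ℕ := [1, 2, 1, 2, 5, 3, 0, 3, 0, 5, 1, 2, 1, 3, 4, 1, 1, 4, 0, 0, 5, 2, 0, 3, 0, 4]
def rw7614 : List ℕ := [0, 5, 1, 2, 1, 3, 4, 1, 1, 4, 0, 0, 5, 2, 0, 3, 0, 4, 1, 2, 1, 2, 5, 3, 0, 3]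
def rw7615 : List ℕ := [1, 4, 2, 2, 4, 1, 1, 0, 0, 0, 5, 3, 3, 5, 0, 0, 5, 3, 3, 5, 1, 4, 2, 2, 4, 1]
def rw7616 : List ℕ := [4, 2, 2, 4, 1, 1, 4, 2, 2, 4, 1, 1, 0, 0, 0, 5, 3, 3, 5, 0, 0, 5, 3, 3, 5, 1]
def rw7617 : List ℕ := [1, 4, 2, 2, 4, 1, 1, 4, 0, 0, 5, 3, 3, 5, 0, 0, 5, 3, 3, 5, 5, 4, 2, 2, 4, 1]
def rw7618 : List ℕ := [2, 2, 4, 1, 1, 4, 0, 0, 5, 3, 3, 5, 0, 0, 5, 3, 3, 5, 5, 4, 2, 2, 4, 1, 1, 4]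
def rw7619 : List ℕ := [1, 3, 1, 3, 1, 2, 0, 2, 0, 2, 0, 5, 0, 5, 3, 5, 0, 5, 3, 4, 1, 4, 2, 4, 1, 4]
def rw7620 : List ℕ := [4, 2, 4, 2, 5, 3, 5, 3, 5, 0, 5, 3, 5, 3, 1, 3, 1, 4, 0, 2, 0, 2, 4, 2, 4, 1]
def rw7621 : List ℕ := [4, 1, 4, 2, 4, 1, 4, 3, 5, 0, 5, 3, 5, 0, 5, 0, 2, 1, 3, 1, 2, 0, 2, 0, 3, 1]
def rw7622 : List ℕ := [1, 4, 3, 5, 0, 5, 3, 5, 0, 5, 0, 2, 1, 3, 1, 2, 0, 2, 0, 3, 1, 4, 1, 4, 2, 4]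
def rw7623 : List ℕ := [4, 2, 4, 1, 4, 2, 4, 2, 1, 3, 1, 4, 0, 2, 0, 3, 5, 3, 5, 0, 5, 3, 5, 3, 5, 2]
def rw7624 : List ℕ := [0, 2, 0, 4, 5, 5, 1, 3, 1, 5, 1, 3, 1, 5, 1, 3, 1, 4, 0, 2, 0, 4, 0, 2, 0, 4]
def rw7625 : List ℕ := [2, 4, 1, 4, 1, 3, 3, 2, 0, 5, 0, 5, 3, 5, 0, 5, 1, 3, 1, 2, 0, 2, 0, 4, 1, 4]
def rw7626 : List ℕ := [4, 1, 3, 7, 2, 0, 5, 0, 5, 3, 5, 0, 5, 1, 3, 1, 6, 0, 2, 0, 4, 1, 4, 2, 4, 1]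
def rw7627 : List ℕ := [0, 2, 5, 1, 3, 1, 4, 0, 2, 0, 4, 3, 1, 3, 4, 1, 3, 1, 4, 5, 5, 0, 2, 0, 5, 2]
def rw7628 : List ℕ := [1, 3, 1, 4, 1, 3, 1, 4, 1, 3, 1, 0, 0, 2, 0, 5, 0, 2, 0, 5, 0, 2, 0, 5, 1, 4]
def rw7629 : List ℕ := [4, 1, 3, 1, 0, 0, 2, 0, 5, 0, 2, 0, 5, 0, 2, 0, 5, 1, 4, 1, 3, 1, 4, 1, 3, 1]
def rw7630 : List ℕ := [4, 2, 4, 2, 0, 3, 1, 4, 0, 2, 1, 3, 5, 3, 5, 0, 5, 3, 5, 2, 5, 3, 4, 2, 4, 1]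
def rw7631 : List ℕ := [2, 1, 3, 0, 5, 0, 5, 3, 5, 0, 5, 0, 3, 1, 0, 0, 2, 1, 4, 1, 4, 2, 4, 1, 4, 1]
def rw7632 : List ℕ := [3, 4, 4, 0, 3, 1, 0, 0, 2, 1, 5, 5, 2, 5, 5, 1, 2, 0, 4, 1, 5, 1, 3, 0, 4, 4]
def rw7633 : List ℕ := [4, 4, 3, 4, 4, 0, 3, 1, 2, 0, 2, 1, 5, 5, 2, 5, 5, 1, 2, 0, 4, 3, 5, 1, 3, 0]
def rw7634 : List ℕ := [4, 4, 0, 3, 1, 2, 0, 2, 1, 5, 5, 2, 5, 5, 1, 2, 0, 4, 3, 5, 1, 3, 0, 4, 4, 3]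
def rw7635 : List ℕ := [5, 5, 1, 2, 0, 4, 5, 5, 1, 3, 0, 4, 4, 3, 4, 4, 0, 3, 1, 4, 0, 2, 1, 5, 5, 2]
def rw7636 : List ℕ := [2, 0, 3, 4, 1, 5, 2, 1, 3, 4, 4, 3, 4, 4, 0, 3, 1, 0, 0, 2, 1, 5, 5, 2, 5, 5]
def rw7637 : List ℕ := [4, 0, 3, 1, 0, 0, 2, 1, 5, 5, 2, 5, 5, 2, 0, 3, 4, 1, 5, 2, 1, 3, 4, 4, 3, 4]
def rw7638 : List ℕ := [3, 4, 4, 3, 4, 4, 0, 3, 1, 2, 0, 2, 1, 5, 5, 2, 5, 5, 2, 0, 3, 4, 3, 5, 2, 1]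
def rw7639 : List ℕ := [1, 3, 4, 4, 3, 4, 4, 0, 3, 1, 4, 0, 2, 1, 5, 5, 2, 5, 5, 2, 0, 3, 4, 5, 5, 2]
def rw7640 : List ℕ := [4, 1, 4, 2, 4, 1, 4, 1, 3, 3, 1, 4, 0, 2, 2, 0, 5, 0, 5, 3, 5, 0, 5, 2, 5, 3]
def rw7641 : List ℕ := [4, 2, 4, 1, 3, 3, 1, 4, 0, 2, 2, 0, 5, 3, 5, 3, 3, 5, 3, 5, 5, 4, 2, 4, 2, 2]
def rw7642 : List ℕ := [2, 4, 2, 4, 1, 3, 3, 1, 6, 0, 2, 2, 0, 5, 3, 5, 3, 3, 5, 3, 5, 7, 4, 2, 4, 2]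
def rw7643 : List ℕ := [0, 2, 4, 1, 4, 2, 0, 4, 1, 4, 1, 4, 5, 5, 0, 5, 0, 5, 1, 3, 5, 0, 5, 3, 1, 4]
def rw7644 : List ℕ := [2, 0, 4, 1, 4, 1, 4, 7, 5, 0, 5, 0, 5, 1, 3, 5, 0, 5, 3, 1, 6, 0, 2, 4, 1, 4]
def rw7645 : List ℕ := [1, 3, 5, 0, 5, 3, 1, 0, 0, 2, 4, 1, 4, 2, 0, 5, 0, 5, 0, 5, 1, 4, 1, 4, 1, 4]
def rw7646 : List ℕ := [3, 5, 0, 5, 3, 1, 0, 0, 2, 4, 1, 4, 2, 5, 0, 5, 0, 5, 5, 1, 4, 4, 1, 4, 1, 4]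
def rw7647 : List ℕ := [5, 0, 5, 0, 5, 5, 3, 4, 4, 1, 4, 1, 4, 3, 5, 0, 5, 3, 1, 2, 0, 2, 4, 1, 4, 2]
def rw7648 : List ℕ := [1, 4, 3, 5, 0, 5, 3, 1, 2, 0, 2, 4, 1, 4, 2, 5, 0, 5, 0, 5, 5, 3, 4, 4, 1, 4]
def rw7649 : List ℕ := [5, 0, 5, 3, 1, 2, 0, 2, 4, 1, 4, 2, 5, 0, 5, 0, 5, 5, 3, 4, 4, 1, 4, 1, 4, 3]
def rw7650 : List ℕ := [3, 1, 3, 5, 2, 0, 2, 5, 3, 5, 0, 5, 3, 5, 3, 1, 4, 0, 2, 4, 2, 4, 1, 4, 2, 4]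
def rw7651 : List ℕ := [4, 2, 0, 5, 3, 5, 1, 4, 2, 4, 1, 3, 5, 3, 5, 3, 5, 3, 1, 0, 0, 2, 4, 2, 4, 2]
def rw7652 : List ℕ := [4, 2, 5, 3, 1, 0, 0, 2, 4, 3, 5, 3, 5, 3, 0, 5, 3, 5, 1, 4, 2, 4, 1, 2, 4, 2]
def rw7653 : List ℕ := [4, 1, 2, 4, 2, 4, 2, 5, 3, 1, 2, 0, 2, 4, 3, 5, 3, 5, 3, 0, 5, 3, 5, 3, 4, 2]
def rw7654 : List ℕ := [2, 5, 3, 1, 6, 0, 2, 4, 3, 5, 3, 5, 3, 0, 5, 3, 5, 7, 4, 2, 4, 1, 2, 4, 2, 4]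
def rw7655 : List ℕ := [4, 0, 5, 3, 5, 1, 4, 2, 4, 1, 5, 3, 5, 3, 5, 5, 3, 1, 0, 0, 2, 4, 4, 2, 4, 2]
def rw7656 : List ℕ := [2, 4, 0, 5, 3, 5, 5, 4, 2, 4, 1, 5, 3, 5, 3, 5, 5, 3, 1, 4, 0, 2, 4, 4, 2, 4]
def rw7657 : List ℕ := [3, 1, 4, 3, 1, 4, 0, 2, 5, 0, 2, 5, 0, 2, 5, 0, 2, 5, 5, 4, 3, 1, 4, 3, 1, 4]
def rw7658 : List ℕ := [0, 3, 0, 3, 4, 3, 1, 0, 0, 2, 5, 2, 1, 2, 1, 2, 2, 2, 5, 5, 1, 4, 4, 3, 3, 3]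
def rw7659 : List ℕ := [2, 4, 3, 1, 0, 0, 2, 5, 3, 5, 3, 5, 2, 0, 5, 3, 5, 1, 4, 2, 4, 1, 3, 4, 2, 4]
def rw7660 : List ℕ := [4, 4, 3, 1, 0, 0, 2, 5, 5, 2, 5, 5, 1, 2, 0, 4, 3, 1, 2, 5, 1, 3, 0, 4, 4, 3]
def rw7661 : List ℕ := [4, 4, 3, 4, 4, 3, 1, 2, 0, 2, 5, 5, 2, 5, 5, 1, 2, 0, 4, 3, 3, 2, 5, 1, 3, 0]
def rw7662 : List ℕ := [2, 4, 2, 1, 4, 0, 3, 5, 3, 5, 3, 4, 2, 0, 5, 3, 5, 5, 4, 2, 4, 1, 3, 5, 2, 4]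
def rw7663 : List ℕ := [4, 4, 1, 4, 1, 4, 1, 5, 0, 5, 0, 5, 5, 5, 0, 5, 0, 5, 1, 0, 0, 4, 1, 4, 1, 4]
def rw7664 : List ℕ := [1, 4, 4, 4, 1, 4, 1, 4, 3, 5, 0, 5, 0, 5, 5, 5, 0, 5, 0, 5, 1, 2, 0, 4, 1, 4]
def rw7665 : List ℕ := [4, 1, 4, 1, 4, 4, 4, 1, 4, 1, 4, 7, 5, 0, 5, 0, 5, 5, 5, 0, 5, 0, 5, 1, 6, 0]
def rw7666 : List ℕ := [2, 4, 2, 4, 4, 2, 0, 5, 3, 5, 5, 4, 2, 4, 1, 3, 5, 5, 3, 5, 3, 5, 1, 4, 0, 4]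
def rw7667 : List ℕ := [1, 3, 4, 1, 3, 4, 1, 3, 4, 1, 4, 0, 5, 2, 0, 5, 2, 0, 5, 2, 0, 5, 2, 5, 3, 4]
def rw7668 : List ℕ := [5, 3, 3, 4, 1, 0, 0, 5, 2, 2, 4, 4, 0, 5, 2, 2, 4, 4, 1, 5, 5, 3, 3, 4, 1, 5]
def rw7669 : List ℕ := [4, 0, 5, 2, 2, 4, 4, 5, 5, 5, 3, 3, 4, 1, 5, 5, 3, 3, 4, 1, 4, 0, 5, 2, 2, 4]
def rw7670 : List ℕ := [0, 5, 2, 2, 4, 4, 0, 5, 2, 2, 4, 4, 5, 5, 5, 3, 3, 4, 1, 5, 5, 3, 3, 4, 1, 4]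
def rw7671 : List ℕ := [2, 5, 2, 4, 2, 4, 1, 5, 3, 5, 3, 4, 3, 5, 3, 5, 3, 3, 3, 0, 2, 2, 2, 4, 2, 4]
def rw7672 : List ℕ := [4, 4, 7, 5, 5, 5, 3, 5, 3, 5, 2, 5, 3, 5, 3, 6, 2, 4, 2, 4, 3, 4, 2, 4, 2, 4]
def rw7673 : List ℕ := [2, 4, 3, 4, 2, 5, 5, 4, 3, 5, 2, 5, 3, 4, 3, 5, 2, 5, 3, 4, 2, 4, 3, 4, 2, 5]
def rw7674 : List ℕ := [4, 7, 4, 7, 4, 7, 1, 6, 5, 6, 5, 6, 5, 6, 5, 0, 4, 7]
def rw7675 : List ℕ := [7, 3, 6, 5, 6, 5, 6, 5, 6, 5, 2, 4, 7, 4, 7, 4, 7, 4]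
def rw7676 : List ℕ := [4, 7, 4, 7, 4, 7, 5, 6, 5, 6, 5, 6, 5, 6, 5, 4, 4, 7]
def rw7677 : List ℕ := [7, 1, 6, 5, 2, 5, 5, 3, 5, 2, 7, 4, 1, 0, 0, 5, 6, 3, 4, 2, 4, 4, 3, 4]
def rw7678 : List ℕ := [4, 1, 0, 0, 5, 6, 3, 4, 2, 4, 4, 3, 4, 7, 1, 6, 5, 2, 5, 5, 3, 5, 2, 7]
def rw7679 : List ℕ := [3, 4, 2, 4, 4, 3, 4, 7, 7, 6, 5, 2, 5, 5, 3, 5, 2, 7, 4, 1, 6, 0, 5, 6]
def rw7680 : List ℕ := [2, 0, 7, 2, 7, 2, 5, 3, 6, 3, 6, 1, 3, 7, 2, 7, 1, 1, 1, 4, 0, 0, 0, 6, 3, 6]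
def rw7681 : List ℕ := [3, 6, 1, 4, 0, 6, 3, 6, 5, 7, 4, 7, 2, 7, 1, 5, 0, 7, 2, 7, 1, 1, 6, 0, 0, 6]
def rw7682 : List ℕ := [0, 6, 3, 6, 5, 7, 4, 7, 2, 7, 1, 5, 0, 7, 2, 7, 1, 1, 6, 0, 0, 6, 3, 6, 1, 4]
def rw7683 : List ℕ := [7, 2, 7, 1, 1, 2, 0, 0, 6, 3, 6, 1, 4, 7, 2, 7, 1, 5, 3, 4, 0, 6, 3, 6, 5, 0]
def rw7684 : List ℕ := [5, 5, 4, 0, 6, 3, 6, 5, 0, 7, 2, 7, 1, 1, 4, 0, 0, 6, 3, 6, 1, 4, 7, 2, 7, 1]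
def rw7685 : List ℕ := [0, 7, 2, 7, 1, 1, 4, 0, 0, 6, 3, 6, 1, 4, 7, 2, 7, 1, 5, 5, 4, 0, 6, 3, 6, 5]
def rw7686 : List ℕ := [1, 7, 4, 3, 1, 7, 4, 7, 2, 7, 1, 3, 1, 0, 0, 2, 0, 6, 3, 6, 5, 6, 0, 2, 5, 6]
def rw7687 : List ℕ := [7, 1, 3, 1, 2, 0, 2, 0, 6, 3, 6, 5, 6, 0, 2, 5, 6, 3, 7, 4, 3, 1, 7, 4, 7, 2]
def rw7688 : List ℕ := [6, 0, 2, 5, 6, 5, 7, 4, 3, 1, 7, 4, 7, 2, 7, 1, 3, 1, 4, 0, 2, 0, 6, 3, 6, 5]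
def rw7689 : List ℕ := [6, 3, 6, 5, 6, 0, 2, 5, 6, 1, 3, 1, 2, 0, 2, 0, 7, 4, 3, 1, 7, 4, 7, 2, 7, 3]
def rw7690 : List ℕ := [7, 4, 3, 1, 7, 4, 7, 2, 7, 7, 6, 3, 6, 5, 6, 0, 2, 5, 6, 1, 3, 1, 6, 0, 2, 0]
def rw7691 : List ℕ := [0, 2, 4, 1, 3, 5, 6, 3, 0, 3, 1, 0, 0, 2, 1, 2, 7, 4, 2, 0, 5, 3, 1, 6, 1, 7]
def rw7692 : List ℕ := [1, 6, 3, 7, 0, 2, 4, 1, 3, 5, 6, 3, 0, 3, 1, 2, 0, 2, 1, 2, 7, 4, 2, 0, 5, 3]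
def rw7693 : List ℕ := [7, 4, 2, 0, 5, 3, 1, 6, 5, 7, 0, 2, 4, 1, 3, 5, 6, 3, 0, 3, 1, 4, 0, 2, 1, 2]
def rw7694 : List ℕ := [0, 2, 1, 2, 7, 4, 2, 0, 5, 3, 1, 6, 7, 7, 0, 2, 4, 1, 3, 5, 6, 3, 0, 3, 1, 6]
def rw7695 : List ℕ := [3, 1, 6, 3, 3, 5, 1, 4, 2, 2, 7, 0, 2, 6, 3, 3, 5, 3, 1, 0, 0, 2, 4, 2, 2, 7]
def rw7696 : List ℕ := [3, 3, 5, 5, 4, 2, 2, 7, 0, 2, 6, 3, 3, 5, 3, 1, 4, 0, 2, 4, 2, 2, 7, 3, 1, 6]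
def rw7697 : List ℕ := [0, 2, 6, 3, 0, 5, 1, 4, 1, 2, 7, 3, 1, 6, 0, 2, 5, 3, 1, 0, 0, 2, 4, 3, 1, 7]
def rw7698 : List ℕ := [2, 0, 2, 6, 3, 6, 5, 6, 5, 7, 4, 7, 2, 7, 3, 1, 3, 7, 4, 3, 1, 4, 0, 2, 5, 6]
def rw7699 : List ℕ := [7, 2, 7, 2, 0, 2, 7, 4, 3, 1, 0, 0, 2, 5, 6, 3, 1, 3, 6, 3, 6, 5, 6, 1, 7, 4]
def rw7700 : List ℕ := [0, 5, 7, 3, 1, 7, 2, 4, 6, 5, 7, 5, 3, 6, 0, 2, 6, 4, 1, 7, 3, 1, 4, 0, 2, 6]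
def rw7701 : List ℕ := [6, 0, 5, 7, 3, 1, 7, 2, 4, 6, 5, 7, 5, 3, 6, 0, 2, 6, 4, 1, 7, 3, 1, 4, 0, 2]
def rw7702 : List ℕ := [5, 2, 7, 5, 6, 3, 4, 1, 3, 5, 3, 5, 2, 7, 3, 1, 4, 0, 2, 6, 3, 4, 2, 4, 2, 0]
def rw7703 : List ℕ := [6, 3, 4, 1, 4, 3, 5, 3, 5, 7, 3, 1, 2, 0, 2, 6, 4, 2, 4, 2, 5, 0, 5, 2, 7, 3]
def rw7704 : List ℕ := [6, 3, 6, 3, 1, 6, 0, 2, 7, 2, 7, 2, 5, 2, 7, 2, 7, 4, 7, 5, 6, 3, 6, 3, 4, 3]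
def rw7705 : List ℕ := [3, 7, 2, 7, 2, 5, 3, 6, 3, 6, 2, 0, 7, 2, 7, 1, 2, 1, 4, 0, 3, 0, 6, 3, 6, 1]
def rw7706 : List ℕ := [1, 6, 6, 2, 1, 4, 0, 3, 7, 7, 0, 3, 7, 7, 0, 3, 7, 7, 5, 6, 6, 2, 1, 6, 6, 2]
def rw7707 : List ℕ := [2, 5, 1, 7, 2, 5, 1, 0, 0, 4, 3, 6, 0, 4, 3, 6, 0, 4, 3, 6, 1, 7, 2, 5, 1, 7]
def rw7708 : List ℕ := [4, 3, 6, 0, 4, 3, 6, 1, 7, 2, 5, 1, 7, 2, 5, 1, 7, 2, 5, 1, 0, 0, 4, 3, 6, 0]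
def rw7709 : List ℕ := [0, 4, 3, 6, 3, 7, 2, 5, 1, 7, 2, 5, 1, 7, 2, 5, 1, 2, 0, 4, 3, 6, 0, 4, 3, 6]
def rw7710 : List ℕ := [6, 3, 7, 2, 5, 1, 7, 2, 5, 1, 7, 2, 5, 1, 2, 0, 4, 3, 6, 0, 4, 3, 6, 0, 4, 3]
def rw7711 : List ℕ := [7, 5, 6, 0, 4, 3, 7, 5, 6, 1, 7, 4, 6, 2, 5, 1, 7, 4, 6, 2, 5, 1, 0, 0, 4, 3]
def rw7712 : List ℕ := [7, 2, 0, 4, 7, 2, 3, 3, 6, 5, 1, 3, 6, 5, 1, 3, 6, 5, 1, 2, 0, 4, 7, 2, 0, 4]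
def rw7713 : List ℕ := [2, 0, 4, 7, 2, 0, 4, 7, 2, 7, 3, 6, 5, 1, 3, 6, 5, 1, 3, 6, 5, 1, 6, 0, 4, 7]
def rw7714 : List ℕ := [1, 2, 7, 2, 7, 4, 1, 0, 0, 5, 6, 3, 6, 3, 0, 5, 6, 3, 6, 3, 1, 2, 7, 2, 7, 4]
def rw7715 : List ℕ := [2, 4, 7, 2, 7, 1, 5, 3, 7, 2, 7, 1, 0, 0, 6, 3, 6, 2, 4, 0, 6, 3, 6, 5, 3, 1]
def rw7716 : List ℕ := [3, 6, 2, 4, 0, 6, 3, 6, 5, 3, 1, 2, 4, 7, 2, 7, 1, 5, 3, 7, 2, 7, 1, 0, 0, 6]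
def rw7717 : List ℕ := [5, 3, 3, 2, 4, 7, 2, 7, 1, 5, 3, 7, 2, 7, 1, 2, 0, 6, 3, 6, 2, 4, 0, 6, 3, 6]
def rw7718 : List ℕ := [3, 1, 2, 4, 0, 6, 3, 6, 5, 3, 7, 2, 7, 1, 0, 0, 6, 3, 6, 2, 4, 7, 2, 7, 1, 5]
def rw7719 : List ℕ := [1, 5, 3, 3, 2, 4, 0, 6, 3, 6, 5, 3, 7, 2, 7, 1, 2, 0, 6, 3, 6, 2, 4, 7, 2, 7]
def rw7720 : List ℕ := [2, 6, 2, 6, 5, 7, 3, 7, 3, 7, 3, 7, 3, 7, 3, 7, 3, 4, 2, 6, 2, 6, 2, 6, 2, 6]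
def rw7721 : List ℕ := [1, 6, 5, 5, 0, 5, 1, 4, 1, 4, 4, 7, 0, 6, 3, 6, 6, 5, 1, 1, 0, 0, 0, 4, 7, 7, 2, 7]
def rw7722 : List ℕ := [6, 3, 5, 3, 4, 2, 7, 7, 1, 7, 2, 6, 3, 1, 4, 1, 1, 2, 0, 0, 5, 0, 2, 7, 3, 6, 0, 6]
def rw7723 : List ℕ := [7, 1, 7, 2, 6, 3, 1, 4, 1, 1, 6, 0, 0, 5, 0, 2, 7, 3, 6, 0, 6, 6, 3, 5, 7, 4, 2, 7]
def rw7724 : List ℕ := [6, 0, 6, 6, 2, 0, 5, 5, 4, 1, 3, 7, 7, 1, 7, 2, 6, 2, 4, 1, 1, 4, 0, 0, 5, 3, 7, 3]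
def rw7725 : List ℕ := [6, 0, 6, 6, 2, 0, 5, 7, 4, 1, 3, 7, 7, 1, 7, 2, 6, 2, 4, 1, 1, 6, 0, 0, 5, 3, 7, 3]
def rw7726 : List ℕ := [6, 2, 4, 1, 1, 4, 0, 0, 5, 3, 7, 7, 1, 7, 2, 6, 2, 0, 5, 5, 4, 1, 3, 7, 3, 6, 0, 6]
def rw7727 : List ℕ := [5, 6, 3, 5, 0, 5, 0, 3, 4, 7, 3, 6, 5, 2, 1, 4, 1, 4, 2, 7, 4, 1, 3, 1, 2, 0, 2, 0]
def rw7728 : List ℕ := [2, 7, 4, 1, 3, 1, 0, 0, 2, 0, 5, 6, 3, 7, 1, 3, 6, 3, 6, 6, 1, 7, 7, 2, 7, 2, 0, 6]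
def rw7729 : List ℕ := [3, 7, 1, 3, 6, 3, 6, 6, 5, 7, 7, 2, 7, 2, 0, 6, 2, 7, 4, 1, 3, 1, 4, 0, 2, 0, 5, 6]
def rw7730 : List ℕ := [2, 7, 4, 1, 3, 1, 4, 0, 2, 0, 5, 6, 3, 7, 1, 3, 6, 3, 6, 6, 5, 7, 7, 2, 7, 2, 0, 6]
def rw7731 : List ℕ := [2, 7, 2, 0, 6, 2, 7, 4, 1, 3, 1, 6, 0, 2, 0, 5, 6, 3, 7, 1, 3, 6, 3, 6, 6, 7, 7, 7]
def rw7732 : List ℕ := [4, 7, 1, 6, 5, 2, 1, 3, 5, 0, 5, 7, 4, 1, 3, 1, 0, 0, 2, 0, 5, 6, 4, 1, 4, 2, 0, 3]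
def rw7733 : List ℕ := [6, 3, 3, 6, 3, 6, 4, 2, 7, 1, 3, 1, 0, 0, 2, 0, 6, 3, 5, 7, 2, 7, 2, 2, 7, 7, 1, 6]
def rw7734 : List ℕ := [6, 4, 1, 4, 1, 2, 0, 4, 7, 1, 3, 1, 4, 0, 2, 0, 6, 5, 1, 3, 0, 5, 0, 5, 7, 4, 5, 5]
def rw7735 : List ℕ := [5, 1, 3, 0, 5, 0, 5, 7, 4, 5, 5, 6, 4, 1, 4, 1, 2, 0, 4, 7, 1, 3, 1, 4, 0, 2, 0, 6]
def rw7736 : List ℕ := [1, 4, 1, 2, 0, 4, 7, 1, 3, 1, 6, 0, 2, 0, 6, 5, 1, 3, 0, 5, 0, 5, 7, 4, 7, 5, 6, 4]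
def rw7737 : List ℕ := [2, 7, 4, 5, 5, 6, 3, 5, 0, 5, 0, 3, 4, 7, 1, 3, 1, 4, 0, 2, 0, 6, 5, 2, 1, 4, 1, 4]
def rw7738 : List ℕ := [6, 3, 3, 6, 3, 6, 4, 2, 7, 1, 6, 3, 5, 7, 2, 7, 2, 2, 7, 7, 1, 3, 1, 0, 0, 2, 0, 6]
def rw7739 : List ℕ := [2, 0, 6, 2, 7, 4, 7, 5, 6, 3, 7, 1, 3, 6, 3, 6, 6, 1, 3, 1, 6, 0, 2, 0, 7, 7, 2, 7]
def rw7740 : List ℕ := [0, 6, 0, 3, 1, 0, 0, 2, 1, 7, 1, 6, 1, 5, 5, 1, 3, 4, 6, 1, 7, 5, 2, 0, 4, 4, 0, 7]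
def rw7741 : List ℕ := [0, 3, 1, 2, 0, 2, 1, 7, 1, 6, 1, 5, 5, 1, 3, 4, 6, 3, 7, 5, 2, 0, 4, 4, 0, 7, 0, 6]
def rw7742 : List ℕ := [7, 0, 6, 0, 3, 1, 4, 0, 2, 1, 7, 1, 6, 1, 5, 5, 1, 3, 4, 6, 5, 7, 5, 2, 0, 4, 4, 0]
def rw7743 : List ℕ := [7, 1, 6, 1, 5, 5, 1, 3, 4, 6, 5, 7, 5, 2, 0, 4, 4, 0, 7, 0, 6, 0, 3, 1, 4, 0, 2, 1]
def rw7744 : List ℕ := [6, 0, 3, 1, 6, 0, 2, 1, 7, 1, 6, 1, 5, 5, 1, 3, 4, 6, 7, 7, 5, 2, 0, 4, 4, 0, 7, 0]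
def rw7745 : List ℕ := [3, 3, 1, 2, 0, 2, 2, 7, 4, 2, 6, 5, 2, 5, 2, 0, 5, 3, 4, 1, 3, 4, 3, 4, 7, 3, 5, 6]
def rw7746 : List ℕ := [5, 6, 3, 3, 1, 6, 0, 2, 2, 7, 4, 2, 6, 5, 2, 5, 2, 0, 5, 7, 4, 1, 3, 4, 3, 4, 7, 3]
def rw7747 : List ℕ := [0, 5, 3, 1, 2, 0, 2, 4, 1, 6, 5, 2, 5, 2, 0, 5, 2, 7, 3, 6, 3, 4, 1, 3, 4, 3, 4, 7]
def rw7748 : List ℕ := [2, 5, 2, 0, 5, 2, 7, 5, 6, 3, 4, 1, 3, 4, 3, 4, 7, 0, 5, 3, 1, 4, 0, 2, 4, 1, 6, 5]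
def rw7749 : List ℕ := [6, 5, 2, 5, 3, 1, 0, 0, 2, 4, 3, 4, 7, 7, 3, 1, 7, 4, 3, 4, 1, 5, 2, 5, 6, 0, 2, 6]
def rw7750 : List ℕ := [0, 4, 3, 1, 7, 4, 2, 7, 1, 4, 3, 1, 0, 0, 2, 5, 0, 6, 3, 5, 6, 0, 2, 5, 1, 6, 1, 7]
def rw7751 : List ℕ := [4, 2, 7, 1, 4, 3, 1, 2, 0, 2, 5, 0, 6, 3, 5, 6, 0, 2, 5, 1, 6, 3, 7, 0, 4, 3, 1, 7]
def rw7752 : List ℕ := [1, 4, 3, 1, 2, 0, 2, 5, 0, 6, 3, 5, 6, 0, 2, 5, 1, 6, 3, 7, 0, 4, 3, 1, 7, 4, 2, 7]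
def rw7753 : List ℕ := [3, 5, 6, 0, 2, 5, 1, 6, 5, 7, 0, 4, 3, 1, 7, 4, 2, 7, 1, 4, 3, 1, 4, 0, 2, 5, 0, 6]
def rw7754 : List ℕ := [1, 6, 2, 7, 4, 1, 5, 6, 5, 2, 0, 4, 3, 1, 0, 0, 2, 5, 1, 3, 4, 7, 4, 0, 5, 6, 3, 7]
def rw7755 : List ℕ := [5, 6, 5, 2, 0, 4, 3, 1, 0, 0, 2, 5, 1, 3, 4, 7, 4, 0, 5, 6, 3, 7, 1, 6, 2, 7, 4, 1]
def rw7756 : List ℕ := [4, 0, 5, 6, 3, 7, 5, 6, 2, 7, 4, 1, 5, 6, 5, 2, 0, 4, 3, 1, 4, 0, 2, 5, 1, 3, 4, 7]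
def rw7757 : List ℕ := [7, 3, 4, 3, 1, 2, 0, 2, 5, 2, 6, 3, 7, 1, 6, 4, 2, 2, 5, 3, 4, 3, 3, 5, 7, 0, 6, 2]
def rw7758 : List ℕ := [5, 2, 1, 4, 1, 4, 6, 3, 4, 3, 1, 4, 0, 2, 5, 2, 7, 5, 0, 5, 0, 3, 4, 3, 6, 5, 7, 2]
def rw7759 : List ℕ := [6, 5, 2, 1, 4, 1, 4, 2, 7, 4, 3, 1, 0, 0, 2, 5, 6, 3, 5, 0, 5, 0, 3, 4, 7, 2, 1, 3]
def rw7760 : List ℕ := [6, 5, 2, 1, 4, 1, 4, 2, 7, 4, 3, 1, 6, 0, 2, 5, 6, 3, 5, 0, 5, 0, 3, 4, 7, 2, 7, 3]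
def rw7761 : List ℕ := [5, 0, 5, 7, 4, 3, 1, 6, 0, 2, 5, 6, 4, 1, 4, 2, 0, 3, 4, 7, 2, 7, 3, 6, 5, 2, 1, 3]
def rw7762 : List ℕ := [6, 6, 3, 3, 6, 3, 6, 4, 2, 7, 3, 1, 0, 0, 2, 6, 3, 5, 7, 2, 7, 2, 2, 7, 7, 2, 1, 3]
def rw7763 : List ℕ := [6, 5, 2, 1, 4, 1, 4, 2, 7, 4, 2, 5, 3, 5, 6, 3, 5, 0, 5, 0, 3, 4, 7, 3, 1, 4, 0, 2]
def rw7764 : List ℕ := [5, 2, 1, 4, 1, 4, 2, 7, 4, 2, 7, 3, 5, 6, 3, 5, 0, 5, 0, 3, 4, 7, 3, 1, 6, 0, 2, 6]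
def rw7765 : List ℕ := [6, 6, 3, 3, 6, 3, 6, 4, 2, 7, 2, 5, 3, 6, 3, 5, 7, 2, 7, 2, 2, 7, 7, 3, 1, 4, 0, 2]
def rw7766 : List ℕ := [1, 2, 0, 2, 7, 1, 6, 1, 5, 5, 1, 3, 4, 6, 3, 3, 2, 7, 5, 2, 0, 4, 4, 0, 7, 0, 6, 3]
def rw7767 : List ℕ := [2, 7, 4, 4, 7, 5, 5, 6, 3, 7, 5, 6, 5, 2, 5, 2, 5, 1, 6, 0, 4, 3, 4, 3, 4, 7, 4, 6]
def rw7768 : List ℕ := [4, 6, 2, 5, 2, 5, 1, 0, 0, 4, 3, 4, 3, 7, 5, 2, 7, 2, 0, 4, 7, 1, 6, 5, 1, 3, 6, 3]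
def rw7769 : List ℕ := [2, 7, 2, 0, 4, 7, 3, 6, 5, 1, 3, 6, 3, 4, 6, 2, 5, 2, 5, 1, 2, 0, 4, 3, 4, 3, 7, 5]
def rw7770 : List ℕ := [0, 4, 7, 5, 6, 5, 1, 3, 6, 3, 4, 6, 2, 5, 2, 5, 1, 4, 0, 4, 3, 4, 3, 7, 5, 2, 7, 2]
def rw7771 : List ℕ := [7, 5, 2, 7, 2, 0, 4, 7, 5, 6, 5, 1, 3, 6, 3, 4, 6, 2, 5, 2, 5, 1, 4, 0, 4, 3, 4, 3]
def rw7772 : List ℕ := [5, 2, 7, 2, 0, 4, 7, 7, 6, 5, 1, 3, 6, 3, 4, 6, 2, 5, 2, 5, 1, 6, 0, 4, 3, 4, 3, 7]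
def rw7773 : List ℕ := [7, 4, 1, 6, 5, 2, 5, 1, 4, 0, 4, 3, 4, 7, 0, 5, 6, 3, 0, 5, 3, 5, 5, 4, 2, 4, 1, 2]
def rw7774 : List ℕ := [5, 6, 3, 0, 5, 3, 5, 7, 4, 2, 4, 1, 2, 7, 4, 1, 6, 5, 2, 5, 1, 6, 0, 4, 3, 4, 7, 0]
def rw7775 : List ℕ := [7, 0, 5, 2, 7, 5, 1, 4, 0, 4, 6, 3, 4, 1, 6, 0, 7, 7, 2, 6, 3, 5, 2, 7, 3, 6, 6, 1]
def rw7776 : List ℕ := [3, 4, 7, 2, 1, 3, 6, 5, 2, 5, 6, 4, 1, 4, 1, 6, 5, 1, 0, 0, 4, 7, 0, 5, 0, 5, 7, 4]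
def rw7777 : List ℕ := [0, 4, 7, 0, 5, 0, 5, 7, 4, 3, 4, 7, 2, 3, 3, 6, 5, 2, 5, 6, 4, 1, 4, 1, 6, 5, 1, 2]
def rw7778 : List ℕ := [6, 1, 4, 1, 4, 4, 5, 5, 5, 0, 5, 0, 7, 0, 6, 3, 6, 6, 5, 1, 4, 0, 4, 7, 7, 2, 7, 1]
def rw7779 : List ℕ := [6, 3, 4, 1, 0, 0, 5, 2, 7, 7, 2, 7, 0, 5, 6, 3, 7, 5, 1, 4, 6, 2, 7, 4, 1, 6, 3, 6]
def rw7780 : List ℕ := [1, 6, 2, 4, 2, 4, 4, 3, 4, 2, 2, 7, 4, 1, 0, 0, 5, 6, 3, 3, 5, 2, 5, 5, 3, 5, 3, 7]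
def rw7781 : List ℕ := [7, 3, 6, 5, 2, 2, 4, 2, 4, 4, 2, 2, 7, 4, 1, 2, 0, 5, 6, 3, 3, 5, 5, 3, 5, 3, 3, 4]
def rw7782 : List ℕ := [7, 0, 6, 3, 6, 4, 6, 2, 7, 4, 1, 2, 0, 5, 6, 3, 7, 5, 7, 2, 7, 1, 6, 3, 4, 3, 5, 2]
def rw7783 : List ℕ := [0, 6, 3, 6, 4, 6, 2, 7, 4, 1, 4, 0, 5, 6, 3, 7, 5, 7, 2, 7, 1, 6, 3, 4, 5, 5, 2, 7]
def rw7784 : List ℕ := [6, 4, 6, 2, 7, 4, 1, 4, 0, 5, 6, 3, 7, 5, 7, 2, 7, 1, 6, 3, 4, 5, 5, 2, 7, 0, 6, 3]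
def rw7785 : List ℕ := [5, 6, 3, 7, 5, 7, 2, 7, 1, 6, 3, 4, 7, 5, 2, 7, 0, 6, 3, 6, 4, 6, 2, 7, 4, 1, 6, 0]
def rw7786 : List ℕ := [3, 6, 5, 2, 5, 2, 4, 3, 5, 3, 5, 7, 4, 1, 2, 0, 5, 6, 4, 2, 4, 2, 5, 3, 4, 3, 4, 7]
def rw7787 : List ℕ := [2, 7, 7, 4, 2, 6, 4, 5, 5, 7, 3, 5, 6, 6, 3, 3, 6, 6, 3, 3, 3, 4, 2, 2, 2, 7, 7, 2]
def rw7788 : List ℕ := [7, 2, 2, 7, 7, 4, 2, 6, 4, 5, 5, 7, 3, 5, 6, 6, 3, 3, 6, 6, 3, 3, 3, 4, 2, 2, 2, 7]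
def rw7789 : List ℕ := [0, 6, 3, 6, 0, 6, 4, 1, 4, 2, 4, 1, 2, 0, 5, 3, 5, 0, 5, 7, 1, 7, 2, 7, 1, 7, 5, 3, 4, 6]
def rw7790 : List ℕ := [7, 2, 7, 1, 7, 5, 5, 4, 6, 0, 6, 3, 6, 0, 6, 4, 1, 4, 2, 4, 1, 4, 0, 5, 3, 5, 0, 5, 7, 1]
def rw7791 : List ℕ := [6, 3, 6, 0, 6, 4, 1, 4, 2, 4, 1, 4, 0, 5, 3, 5, 0, 5, 7, 1, 7, 2, 7, 1, 7, 5, 5, 4, 6, 0]
def rw7792 : List ℕ := [6, 4, 1, 4, 2, 4, 1, 6, 0, 5, 3, 5, 0, 5, 7, 1, 7, 2, 7, 1, 7, 5, 7, 4, 6, 0, 6, 3, 6, 0]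
def rw7793 : List ℕ := [7, 2, 5, 0, 6, 3, 6, 2, 5, 2, 1, 3, 4, 3, 7, 2, 7, 1, 4, 3, 6, 3, 6, 5, 1, 0, 0, 4, 7, 2]
def rw7794 : List ℕ := [6, 3, 6, 2, 5, 2, 5, 3, 4, 3, 7, 2, 7, 1, 4, 3, 6, 3, 6, 5, 1, 4, 0, 4, 7, 2, 7, 2, 5, 0]
def rw7795 : List ℕ := [4, 7, 2, 7, 2, 5, 0, 6, 3, 6, 2, 5, 2, 7, 3, 4, 3, 7, 2, 7, 1, 4, 3, 6, 3, 6, 5, 1, 6, 0]
def rw7796 : List ℕ := [0, 6, 6, 4, 3, 4, 4, 1, 5, 5, 2, 5, 7, 7, 1, 3, 6, 6, 3, 3, 1, 1, 0, 0, 0, 2, 2, 7, 7, 2]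
def rw7797 : List ℕ := [2, 0, 6, 6, 4, 3, 4, 4, 5, 5, 5, 2, 5, 7, 7, 1, 3, 6, 6, 3, 3, 1, 1, 4, 0, 0, 2, 2, 7, 7]
def rw7798 : List ℕ := [7, 2, 0, 6, 6, 4, 3, 4, 4, 5, 5, 5, 2, 5, 7, 7, 1, 3, 6, 6, 3, 3, 1, 1, 4, 0, 0, 2, 2, 7]
def rw7799 : List ℕ := [1, 6, 3, 6, 5, 6, 3, 5, 2, 7, 4, 7, 2, 7, 0, 2, 0, 7, 4, 1, 3, 1, 4, 0, 2, 0, 5, 6, 1, 3]
def rw7800 : List ℕ := [7, 4, 1, 3, 1, 4, 0, 2, 0, 5, 6, 1, 3, 1, 6, 3, 6, 5, 6, 3, 5, 2, 7, 4, 7, 2, 7, 0, 2, 0]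
def rw7801 : List ℕ := [1, 5, 2, 7, 2, 7, 4, 3, 5, 2, 5, 6, 3, 6, 3, 4, 0, 0, 7, 2, 7, 1, 1, 4, 0, 0, 6, 3, 6, 1]
def rw7802 : List ℕ := [0, 2, 2, 7, 4, 1, 4, 2, 0, 2, 4, 2, 6, 3, 7, 2, 7, 3, 5, 3, 1, 3, 5, 0, 5, 6, 3, 3, 1, 6]
def rw7803 : List ℕ := [2, 2, 7, 4, 1, 4, 2, 0, 2, 4, 2, 6, 3, 7, 2, 7, 3, 5, 3, 1, 3, 5, 0, 5, 6, 3, 3, 1, 6, 0]
def rw7804 : List ℕ := [7, 7, 3, 4, 3, 4, 2, 7, 4, 2, 7, 3, 5, 6, 3, 5, 2, 5, 2, 6, 6, 3, 0, 5, 1, 6, 0, 4, 1, 2]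
def rw7805 : List ℕ := [7, 2, 7, 3, 3, 1, 2, 0, 2, 2, 6, 3, 6, 5, 6, 0, 2, 5, 6, 1, 2, 3, 3, 0, 7, 4, 3, 1, 7, 4]
def rw7806 : List ℕ := [2, 7, 3, 3, 1, 6, 0, 2, 2, 6, 3, 6, 5, 6, 0, 2, 5, 6, 1, 2, 7, 3, 0, 7, 4, 3, 1, 7, 4, 7]
def rw7807 : List ℕ := [1, 7, 4, 0, 3, 1, 0, 0, 2, 1, 5, 6, 0, 2, 7, 2, 7, 1, 5, 6, 2, 1, 3, 7, 4, 0, 6, 3, 6, 3]
def rw7808 : List ℕ := [5, 6, 0, 4, 7, 5, 1, 4, 6, 5, 1, 7, 4, 6, 2, 4, 4, 1, 5, 5, 1, 0, 0, 4, 4, 0, 5, 5, 3, 7]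
def rw7809 : List ℕ := [6, 5, 1, 7, 4, 6, 2, 4, 4, 1, 5, 5, 1, 0, 0, 4, 4, 0, 5, 5, 3, 7, 5, 6, 0, 4, 7, 5, 1, 4]
def rw7810 : List ℕ := [5, 3, 7, 5, 6, 0, 4, 7, 5, 7, 4, 6, 5, 1, 7, 4, 6, 2, 4, 4, 1, 5, 5, 1, 6, 0, 4, 4, 0, 5]
def rw7811 : List ℕ := [6, 3, 3, 3, 1, 7, 4, 7, 5, 6, 0, 2, 2, 2, 7, 0, 2, 4, 2, 1, 3, 1, 6, 0, 2, 0, 3, 5, 3, 1]
def rw7812 : List ℕ := [3, 1, 4, 1, 4, 2, 6, 3, 3, 1, 2, 0, 2, 2, 7, 3, 5, 0, 5, 0, 2, 4, 2, 6, 3, 3, 2, 7, 3, 5]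
def rw7813 : List ℕ := [0, 2, 6, 3, 3, 5, 1, 4, 2, 2, 7, 3, 1, 6, 3, 3, 5, 1, 3, 1, 1, 0, 0, 0, 2, 0, 4, 2, 2, 7]
def rw7814 : List ℕ := [1, 6, 3, 3, 5, 1, 3, 1, 1, 0, 0, 0, 2, 0, 4, 2, 2, 7, 0, 2, 6, 3, 3, 5, 1, 4, 2, 2, 7, 3]
def rw7815 : List ℕ := [7, 2, 7, 4, 2, 4, 1, 2, 7, 3, 6, 3, 0, 5, 3, 5, 6, 3, 6, 3, 6, 3, 4, 1, 2, 0, 5, 2, 7, 2]
def rw7816 : List ℕ := [4, 1, 2, 7, 5, 6, 3, 0, 5, 3, 5, 6, 3, 6, 3, 6, 3, 4, 1, 4, 0, 5, 2, 7, 2, 7, 2, 7, 4, 2]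
def rw7817 : List ℕ := [4, 1, 2, 7, 7, 6, 3, 0, 5, 3, 5, 6, 3, 6, 3, 6, 3, 4, 1, 6, 0, 5, 2, 7, 2, 7, 2, 7, 4, 2]
def rw7818 : List ℕ := [7, 3, 6, 4, 3, 1, 0, 0, 2, 5, 7, 2, 6, 4, 3, 4, 1, 5, 2, 1, 6, 1, 7, 0, 3, 4, 0, 5, 2, 5]
def rw7819 : List ℕ := [4, 3, 1, 2, 0, 2, 5, 7, 2, 6, 4, 3, 4, 1, 5, 2, 1, 6, 3, 7, 0, 3, 4, 0, 5, 2, 5, 7, 3, 6]
def rw7820 : List ℕ := [6, 2, 6, 3, 3, 5, 6, 3, 3, 5, 1, 0, 0, 4, 2, 2, 7, 4, 2, 2, 7, 3, 7, 2, 7, 2, 1, 3, 6, 3]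
def rw7821 : List ℕ := [7, 2, 7, 4, 1, 5, 6, 3, 6, 3, 6, 3, 6, 5, 1, 5, 2, 5, 1, 0, 0, 4, 3, 4, 0, 4, 7, 2, 7, 2]
def rw7822 : List ℕ := [2, 7, 2, 7, 4, 1, 5, 6, 3, 6, 3, 6, 3, 6, 5, 1, 5, 2, 5, 1, 0, 0, 4, 3, 4, 0, 4, 7, 2, 7]
def rw7823 : List ℕ := [7, 2, 7, 4, 5, 5, 6, 3, 6, 3, 6, 3, 6, 5, 1, 5, 2, 5, 1, 4, 0, 4, 3, 4, 0, 4, 7, 2, 7, 2]
def rw7824 : List ℕ := [4, 0, 4, 7, 2, 7, 2, 7, 2, 7, 4, 7, 5, 6, 3, 6, 3, 6, 3, 6, 5, 1, 5, 2, 5, 1, 6, 0, 4, 3]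
def rw7825 : List ℕ := [7, 2, 7, 1, 4, 1, 3, 5, 7, 2, 7, 5, 1, 4, 6, 3, 6, 4, 2, 0, 5, 0, 6, 3, 6, 3, 1, 0, 0, 2]
def rw7826 : List ℕ := [6, 3, 6, 3, 1, 4, 0, 2, 7, 2, 7, 1, 4, 1, 3, 5, 7, 2, 7, 5, 5, 4, 6, 3, 6, 4, 2, 0, 5, 0]
def rw7827 : List ℕ := [5, 0, 6, 3, 6, 3, 1, 6, 0, 2, 7, 2, 7, 1, 4, 1, 3, 5, 7, 2, 7, 5, 7, 4, 6, 3, 6, 4, 2, 0]
def rw7828 : List ℕ := [0, 2, 5, 2, 0, 4, 7, 4, 1, 3, 1, 0, 0, 2, 0, 5, 6, 5, 1, 3, 4, 3, 1, 5, 1, 7, 1, 6, 0, 4]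
def rw7829 : List ℕ := [5, 1, 7, 5, 6, 0, 4, 0, 2, 5, 2, 0, 4, 7, 4, 1, 3, 1, 4, 0, 2, 0, 5, 6, 5, 1, 3, 4, 3, 1]
def rw7830 : List ℕ := [1, 2, 1, 2, 0, 3, 0, 7, 4, 1, 6, 5, 3, 4, 3, 4, 2, 5, 3, 4, 3, 5, 2, 5, 2, 4, 7, 0, 5, 6]
def rw7831 : List ℕ := [5, 3, 4, 3, 4, 2, 5, 5, 4, 3, 5, 2, 5, 2, 4, 7, 0, 5, 6, 1, 2, 1, 4, 0, 3, 0, 7, 4, 1, 6]
def rw7832 : List ℕ := [1, 6, 5, 3, 4, 3, 4, 2, 5, 7, 4, 3, 5, 2, 5, 2, 4, 7, 0, 5, 6, 1, 2, 1, 6, 0, 3, 0, 7, 4]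
def rw7833 : List ℕ := [2, 4, 7, 0, 5, 6, 1, 2, 1, 6, 0, 3, 0, 7, 4, 1, 6, 5, 3, 4, 3, 4, 2, 5, 7, 4, 3, 5, 2, 5]
def rw7834 : List ℕ := [0, 5, 6, 1, 2, 1, 6, 0, 3, 0, 7, 4, 1, 6, 5, 3, 4, 3, 4, 2, 5, 7, 4, 3, 5, 2, 5, 2, 4, 7]
def rw7835 : List ℕ := [6, 2, 7, 7, 7, 3, 5, 5, 6, 6, 3, 3, 4, 2, 2, 7, 7, 4, 4, 2, 6, 6, 6, 3, 7, 3, 4, 5, 5, 2]
def rw7836 : List ℕ := [6, 6, 6, 3, 7, 3, 4, 7, 5, 2, 6, 2, 7, 7, 7, 3, 5, 5, 6, 6, 3, 3, 6, 2, 2, 7, 7, 4, 4, 2]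
def rw7837 : List ℕ := [0, 2, 2, 7, 4, 1, 4, 3, 5, 0, 5, 6, 3, 3, 1, 2, 7, 3, 5, 1, 3, 1, 2, 0, 2, 0, 4, 2, 6, 3]
def rw7838 : List ℕ := [2, 7, 4, 1, 4, 5, 5, 0, 5, 6, 3, 3, 1, 2, 7, 3, 5, 1, 3, 1, 4, 0, 2, 0, 4, 2, 6, 3, 0, 2]
def rw7839 : List ℕ := [3, 0, 6, 3, 6, 1, 2, 7, 4, 3, 1, 0, 0, 2, 5, 6, 3, 0, 7, 2, 7, 1, 2, 0, 5, 6, 1, 7, 4, 1]
def rw7840 : List ℕ := [1, 2, 7, 4, 3, 1, 6, 0, 2, 5, 6, 3, 0, 7, 2, 7, 1, 2, 0, 5, 6, 7, 7, 4, 1, 3, 0, 6, 3, 6]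
def rw7841 : List ℕ := [3, 1, 7, 4, 1, 1, 2, 0, 0, 5, 6, 0, 2, 2, 2, 7, 0, 2, 4, 0, 2, 3, 3, 1, 5, 3, 1, 6, 3, 3]
def rw7842 : List ℕ := [0, 2, 7, 3, 1, 5, 3, 1, 6, 3, 3, 3, 1, 7, 4, 1, 1, 6, 0, 0, 5, 6, 0, 2, 2, 2, 7, 0, 2, 4]
def rw7843 : List ℕ := [2, 5, 6, 1, 3, 1, 0, 0, 2, 0, 7, 4, 3, 1, 5, 6, 5, 6, 5, 2, 7, 1, 6, 3, 4, 7, 4, 7, 4, 0]
def rw7844 : List ℕ := [5, 2, 7, 5, 6, 3, 4, 7, 4, 7, 4, 0, 2, 5, 6, 1, 3, 1, 4, 0, 2, 0, 7, 4, 3, 1, 5, 6, 5, 6]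
def rw7845 : List ℕ := [3, 1, 6, 0, 2, 0, 7, 4, 3, 1, 5, 6, 5, 6, 5, 2, 7, 7, 6, 3, 4, 7, 4, 7, 4, 0, 2, 5, 6, 1]
def rw7846 : List ℕ := [5, 2, 7, 2, 7, 4, 1, 3, 1, 1, 2, 0, 0, 2, 0, 5, 6, 3, 6, 3, 4, 3, 6, 3, 6, 3, 7, 2, 7, 2]
def rw7847 : List ℕ := [7, 2, 7, 4, 2, 0, 5, 3, 1, 6, 3, 1, 3, 1, 1, 6, 0, 0, 2, 0, 2, 7, 0, 2, 4, 1, 3, 5, 6, 3]
def rw7848 : List ℕ := [5, 7, 3, 1, 6, 4, 4, 0, 3, 4, 4, 1, 1, 1, 0, 0, 0, 0, 5, 5, 2, 1, 5, 5, 7, 0, 2, 6, 4, 1]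
def rw7849 : List ℕ := [4, 4, 0, 3, 4, 4, 1, 1, 1, 2, 0, 0, 0, 5, 5, 2, 1, 5, 5, 7, 0, 2, 6, 4, 3, 5, 7, 3, 1, 6]
def rw7850 : List ℕ := [4, 4, 0, 3, 4, 4, 1, 1, 1, 4, 0, 0, 0, 5, 5, 2, 1, 5, 5, 7, 0, 2, 6, 4, 5, 5, 7, 3, 1, 6]
def rw7851 : List ℕ := [0, 0, 5, 5, 2, 1, 5, 5, 7, 0, 2, 6, 4, 7, 5, 7, 3, 1, 6, 4, 4, 0, 3, 4, 4, 1, 1, 1, 6, 0]
def rw7852 : List ℕ := [4, 7, 2, 7, 3, 1, 3, 7, 4, 0, 3, 1, 0, 0, 2, 1, 5, 6, 2, 0, 2, 6, 3, 6, 5, 6, 2, 1, 3, 7]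
def rw7853 : List ℕ := [4, 0, 3, 1, 0, 0, 2, 1, 5, 6, 2, 0, 2, 6, 3, 6, 5, 6, 2, 1, 3, 7, 4, 7, 2, 7, 3, 1, 3, 7]
def rw7854 : List ℕ := [1, 3, 7, 4, 0, 3, 1, 6, 0, 2, 1, 5, 6, 2, 0, 2, 6, 3, 6, 5, 6, 2, 7, 3, 7, 4, 7, 2, 7, 3]
def rw7855 : List ℕ := [6, 3, 7, 1, 3, 4, 7, 1, 3, 6, 5, 2, 0, 6, 3, 1, 2, 0, 2, 7, 1, 3, 4, 7, 2, 0, 6, 5, 2, 0]
def rw7856 : List ℕ := [2, 0, 4, 3, 6, 3, 7, 2, 5, 1, 3, 6, 5, 1, 7, 1, 5, 1, 3, 1, 2, 0, 2, 0, 4, 0, 6, 0, 4, 7]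
def rw7857 : List ℕ := [2, 0, 4, 3, 6, 5, 7, 2, 5, 1, 3, 6, 5, 1, 7, 1, 5, 1, 3, 1, 4, 0, 2, 0, 4, 0, 6, 0, 4, 7]
def rw7858 : List ℕ := [7, 2, 2, 7, 5, 3, 5, 3, 4, 2, 4, 6, 3, 3, 6, 6, 5, 2, 0, 5, 2, 1, 2, 0, 3, 4, 1, 3, 4, 7]
def rw7859 : List ℕ := [7, 2, 2, 7, 4, 1, 2, 4, 6, 6, 3, 3, 2, 7, 7, 5, 3, 0, 5, 6, 3, 3, 6, 4, 4, 1, 2, 0, 5, 5]
def rw7860 : List ℕ := [7, 7, 5, 3, 0, 5, 6, 3, 3, 6, 4, 4, 1, 2, 0, 5, 5, 7, 2, 2, 7, 4, 1, 2, 4, 6, 6, 3, 3, 2]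
def rw7861 : List ℕ := [6, 3, 7, 2, 7, 7, 5, 3, 0, 5, 6, 3, 3, 6, 4, 4, 1, 6, 0, 5, 5, 7, 2, 2, 7, 4, 1, 2, 4, 6]
def rw7862 : List ℕ := [6, 4, 6, 3, 6, 1, 7, 2, 7, 5, 7, 4, 1, 2, 7, 3, 3, 5, 3, 1, 0, 0, 2, 4, 2, 2, 6, 3, 0, 5]
def rw7863 : List ℕ := [6, 3, 6, 5, 7, 2, 7, 5, 7, 4, 1, 2, 7, 3, 3, 5, 3, 1, 4, 0, 2, 4, 2, 2, 6, 3, 0, 5, 6, 4]
def rw7864 : List ℕ := [3, 4, 3, 4, 6, 3, 3, 4, 2, 2, 7, 5, 2, 5, 2, 5, 7, 3, 5, 3, 5, 7, 5, 6, 4, 2, 4, 2, 6, 4]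
def rw7865 : List ℕ := [7, 0, 7, 2, 7, 1, 0, 0, 6, 3, 6, 1, 6, 3, 3, 5, 6, 3, 3, 5, 3, 1, 2, 4, 2, 2, 7, 4, 2, 2]
def rw7866 : List ℕ := [4, 2, 2, 7, 0, 7, 2, 7, 1, 4, 0, 6, 3, 6, 1, 6, 3, 3, 5, 6, 3, 3, 5, 3, 5, 2, 4, 2, 2, 7]
def rw7867 : List ℕ := [3, 3, 6, 3, 6, 0, 4, 1, 4, 3, 1, 0, 0, 2, 5, 0, 5, 1, 7, 2, 7, 2, 2, 6, 3, 6, 1, 7, 2, 7]
def rw7868 : List ℕ := [3, 6, 3, 6, 0, 4, 1, 4, 3, 1, 4, 0, 2, 5, 0, 5, 1, 7, 2, 7, 2, 2, 6, 3, 6, 5, 7, 2, 7, 3]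
def rw7869 : List ℕ := [6, 3, 0, 5, 3, 5, 2, 4, 1, 2, 7, 3, 1, 6, 0, 2, 5, 1, 3, 1, 4, 0, 2, 0, 4, 3, 1, 7, 0, 2]
def rw7870 : List ℕ := [3, 3, 1, 7, 4, 1, 4, 3, 5, 0, 5, 6, 0, 2, 2, 2, 7, 3, 5, 1, 3, 1, 2, 0, 2, 0, 4, 2, 6, 3]
def rw7871 : List ℕ := [3, 6, 3, 6, 1, 4, 2, 2, 7, 4, 2, 2, 7, 1, 0, 0, 6, 3, 3, 5, 6, 3, 3, 5, 0, 7, 2, 7, 2, 1]
def rw7872 : List ℕ := [6, 3, 6, 1, 4, 2, 2, 7, 4, 2, 2, 7, 1, 2, 0, 6, 3, 3, 5, 6, 3, 3, 5, 0, 7, 2, 7, 2, 3, 3]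
def rw7873 : List ℕ := [0, 7, 2, 7, 2, 5, 3, 6, 3, 6, 1, 4, 2, 2, 7, 4, 2, 2, 7, 1, 4, 0, 6, 3, 3, 5, 6, 3, 3, 5]
def rw7874 : List ℕ := [6, 3, 6, 4, 1, 3, 5, 7, 2, 7, 5, 3, 4, 6, 3, 6, 4, 2, 0, 5, 7, 2, 7, 1, 3, 1, 2, 0, 2, 0]
def rw7875 : List ℕ := [7, 2, 2, 7, 1, 4, 2, 4, 3, 4, 1, 0, 0, 5, 2, 5, 3, 5, 0, 6, 3, 3, 6, 6, 5, 2, 1, 3, 4, 7]
def rw7876 : List ℕ := [4, 2, 4, 3, 4, 1, 4, 0, 5, 2, 5, 3, 5, 0, 6, 3, 3, 6, 6, 5, 2, 5, 3, 4, 7, 7, 2, 2, 7, 1]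
def rw7877 : List ℕ := [6, 0, 5, 2, 5, 3, 5, 0, 6, 3, 3, 6, 6, 5, 2, 7, 3, 4, 7, 7, 2, 2, 7, 1, 4, 2, 4, 3, 4, 1]
def rw7878 : List ℕ := [6, 0, 3, 3, 1, 2, 0, 2, 2, 1, 7, 2, 7, 2, 5, 0, 5, 6, 3, 6, 3, 7, 2, 7, 4, 1, 4, 3, 6, 3]
def rw7879 : List ℕ := [6, 0, 2, 6, 3, 4, 3, 5, 5, 0, 5, 3, 3, 5, 7, 7, 6, 4, 2, 2, 4, 1, 4, 4, 2, 5, 2, 7, 3, 1]
def rw7880 : List ℕ := [0, 3, 1, 7, 4, 1, 1, 6, 0, 0, 5, 6, 0, 2, 1, 6, 2, 6, 3, 0, 5, 6, 7, 7, 4, 1, 2, 7, 3, 7]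
def rw7881 : List ℕ := [3, 1, 3, 1, 4, 0, 2, 0, 2, 7, 4, 7, 2, 7, 0, 2, 0, 7, 4, 5, 5, 6, 1, 3, 1, 6, 3, 6, 5, 6]
def rw7882 : List ℕ := [7, 4, 5, 5, 6, 1, 3, 1, 6, 3, 6, 5, 6, 3, 1, 3, 1, 4, 0, 2, 0, 2, 7, 4, 7, 2, 7, 0, 2, 0]
def rw7883 : List ℕ := [6, 0, 6, 1, 7, 1, 7, 5, 6, 1, 4, 1, 4, 4, 3, 7, 3, 1, 0, 0, 2, 6, 2, 5, 5, 0, 5, 0, 7, 4]
def rw7884 : List ℕ := [3, 7, 1, 7, 5, 6, 1, 4, 1, 4, 4, 3, 7, 3, 1, 2, 0, 2, 6, 2, 5, 5, 0, 5, 0, 7, 4, 6, 0, 6]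
def rw7885 : List ℕ := [3, 6, 3, 6, 0, 4, 1, 4, 3, 6, 3, 6, 1, 7, 2, 7, 2, 5, 0, 5, 1, 7, 2, 7, 2, 2, 1, 0, 0, 3]
def rw7886 : List ℕ := [4, 1, 7, 3, 1, 7, 5, 3, 6, 3, 3, 2, 7, 2, 4, 6, 0, 2, 6, 0, 5, 7, 1, 3, 1, 2, 0, 2, 0, 6]
def rw7887 : List ℕ := [0, 5, 7, 1, 3, 1, 2, 0, 2, 0, 6, 4, 1, 7, 3, 1, 7, 5, 3, 6, 3, 3, 2, 7, 2, 4, 6, 0, 2, 6]
def rw7888 : List ℕ := [0, 6, 3, 6, 1, 4, 3, 1, 7, 4, 3, 1, 7, 3, 6, 0, 2, 5, 6, 0, 2, 5, 0, 7, 2, 7, 1, 1, 2, 0]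
def rw7889 : List ℕ := [3, 1, 7, 7, 6, 0, 2, 5, 6, 0, 2, 5, 0, 7, 2, 7, 1, 1, 6, 0, 0, 6, 3, 6, 1, 4, 3, 1, 7, 4]
def rw7890 : List ℕ := [0, 4, 0, 6, 3, 0, 4, 0, 4, 0, 6, 3, 1, 2, 7, 1, 5, 1, 5, 1, 2, 7, 1, 5, 1, 5, 1, 0, 0, 4]
def rw7891 : List ℕ := [0, 4, 0, 6, 3, 0, 4, 0, 4, 0, 6, 3, 7, 2, 7, 1, 5, 1, 5, 1, 2, 7, 1, 5, 1, 5, 1, 6, 0, 4]
def rw7892 : List ℕ := [0, 6, 3, 0, 4, 0, 4, 0, 6, 3, 7, 2, 7, 1, 5, 1, 5, 1, 2, 7, 1, 5, 1, 5, 1, 6, 0, 4, 0, 4]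
def rw7893 : List ℕ := [4, 7, 4, 0, 6, 3, 4, 0, 6, 3, 4, 1, 5, 2, 7, 1, 5, 2, 7, 1, 5, 6, 5, 6, 3, 1, 0, 0, 2, 7]
def rw7894 : List ℕ := [3, 4, 0, 6, 3, 4, 3, 5, 2, 7, 1, 5, 2, 7, 1, 5, 6, 5, 6, 3, 1, 2, 0, 2, 7, 4, 7, 4, 0, 6]
def rw7895 : List ℕ := [1, 5, 2, 7, 1, 5, 6, 5, 6, 3, 1, 4, 0, 2, 7, 4, 7, 4, 0, 6, 3, 4, 0, 6, 3, 4, 5, 5, 2, 7]
def rw7896 : List ℕ := [4, 7, 4, 0, 6, 3, 4, 0, 6, 3, 4, 5, 5, 2, 7, 1, 5, 2, 7, 1, 5, 6, 5, 6, 3, 1, 4, 0, 2, 7]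
def rw7897 : List ℕ := [4, 7, 5, 2, 7, 1, 5, 2, 7, 1, 5, 6, 5, 6, 3, 1, 6, 0, 2, 7, 4, 7, 4, 0, 6, 3, 4, 0, 6, 3]
def rw7898 : List ℕ := [7, 1, 7, 1, 3, 6, 5, 2, 7, 4, 1, 5, 6, 3, 4, 7, 2, 0, 6, 0, 6, 5, 6, 5, 1, 0, 0, 4, 7, 4]
def rw7899 : List ℕ := [5, 1, 2, 0, 4, 7, 4, 7, 1, 7, 1, 3, 6, 5, 2, 7, 4, 3, 5, 6, 3, 4, 7, 2, 0, 6, 0, 6, 5, 6]
def rw7900 : List ℕ := [6, 5, 1, 6, 0, 4, 7, 4, 7, 1, 7, 1, 3, 6, 5, 2, 7, 4, 7, 5, 6, 3, 4, 7, 2, 0, 6, 0, 6, 5]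
def rw7901 : List ℕ := [4, 1, 7, 2, 1, 3, 6, 0, 5, 7, 3, 1, 7, 2, 4, 6, 3, 3, 1, 0, 0, 2, 2, 7, 5, 3, 6, 0, 2, 6]
def rw7902 : List ℕ := [0, 2, 7, 4, 5, 5, 6, 3, 1, 3, 6, 3, 6, 5, 6, 3, 1, 3, 1, 4, 0, 2, 0, 2, 7, 4, 7, 2, 7, 2]
def rw7903 : List ℕ := [0, 2, 0, 6, 3, 6, 0, 2, 5, 2, 7, 2, 7, 4, 1, 5, 6, 3, 6, 3, 4, 3, 1, 7, 2, 7, 1, 3, 1, 0]
def rw7904 : List ℕ := [4, 1, 6, 3, 3, 2, 7, 0, 5, 0, 5, 3, 5, 3, 5, 6, 3, 3, 1, 2, 0, 2, 2, 7, 4, 2, 4, 2, 4, 1]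
def rw7905 : List ℕ := [0, 4, 2, 4, 2, 4, 6, 3, 3, 1, 6, 0, 2, 2, 7, 5, 3, 5, 3, 5, 1, 4, 1, 6, 3, 7, 2, 7, 0, 5]
def rw7906 : List ℕ := [6, 2, 0, 2, 6, 3, 4, 7, 4, 7, 4, 3, 5, 6, 5, 6, 5, 2, 7, 3, 1, 3, 7, 4, 3, 1, 2, 0, 2, 5]
def rw7907 : List ℕ := [3, 1, 7, 1, 3, 1, 1, 0, 0, 0, 2, 0, 6, 0, 2, 5, 3, 1, 4, 1, 2, 7, 1, 6, 3, 0, 5, 0, 2, 4]
def rw7908 : List ℕ := [3, 1, 4, 1, 2, 7, 5, 6, 3, 0, 5, 0, 2, 4, 3, 1, 7, 1, 3, 1, 1, 4, 0, 0, 2, 0, 6, 0, 2, 5]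
def rw7909 : List ℕ := [3, 6, 3, 6, 0, 2, 5, 0, 5, 6, 3, 6, 3, 3, 1, 2, 0, 2, 2, 7, 2, 7, 4, 1, 4, 3, 1, 7, 2, 7]
def rw7910 : List ℕ := [7, 2, 4, 6, 0, 2, 6, 0, 5, 7, 0, 3, 1, 0, 0, 2, 1, 6, 4, 1, 7, 3, 1, 7, 5, 3, 6, 2, 1, 3]
def rw7911 : List ℕ := [3, 6, 2, 5, 3, 7, 2, 4, 6, 0, 2, 6, 0, 5, 7, 0, 3, 1, 4, 0, 2, 1, 6, 4, 1, 7, 3, 1, 7, 5]
def rw7912 : List ℕ := [5, 3, 6, 2, 7, 3, 7, 2, 4, 6, 0, 2, 6, 0, 5, 7, 0, 3, 1, 6, 0, 2, 1, 6, 4, 1, 7, 3, 1, 7]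
def rw7913 : List ℕ := [4, 3, 4, 4, 0, 3, 3, 1, 2, 0, 2, 2, 1, 5, 5, 2, 5, 7, 7, 1, 3, 6, 6, 3, 7, 7, 2, 0, 6, 6]
def rw7914 : List ℕ := [5, 2, 2, 7, 3, 6, 3, 3, 4, 2, 2, 4, 2, 0, 5, 5, 7, 3, 1, 2, 0, 2, 6, 4, 4, 1, 3, 5, 3, 3]
def rw7915 : List ℕ := [3, 1, 2, 0, 2, 4, 7, 2, 7, 1, 5, 1, 3, 6, 3, 6, 2, 3, 3, 7, 2, 7, 2, 0, 4, 0, 6, 3, 6, 5]
def rw7916 : List ℕ := [1, 5, 2, 5, 3, 4, 0, 6, 3, 6, 5, 1, 3, 6, 3, 6, 3, 1, 4, 0, 2, 7, 2, 7, 2, 0, 4, 7, 2, 7]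
def rw7917 : List ℕ := [7, 1, 5, 2, 5, 3, 4, 0, 6, 3, 6, 5, 1, 3, 6, 3, 6, 3, 1, 4, 0, 2, 7, 2, 7, 2, 0, 4, 7, 2]
def rw7918 : List ℕ := [1, 3, 6, 3, 6, 3, 1, 4, 0, 2, 7, 2, 7, 2, 0, 4, 7, 2, 7, 1, 5, 2, 5, 3, 4, 0, 6, 3, 6, 5]
def rw7919 : List ℕ := [0, 3, 4, 1, 5, 3, 7, 5, 6, 2, 4, 0, 5, 2, 1, 4, 4, 4, 4, 7, 3, 1, 4, 0, 2, 6, 5, 5, 5, 5]
def rw7920 : List ℕ := [5, 3, 7, 5, 6, 2, 4, 0, 5, 2, 1, 4, 4, 4, 4, 7, 3, 1, 4, 0, 2, 6, 5, 5, 5, 5, 0, 3, 4, 1]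
def rw7921 : List ℕ := [4, 4, 4, 4, 7, 3, 1, 4, 0, 2, 6, 5, 5, 5, 5, 0, 3, 4, 1, 5, 3, 7, 5, 6, 2, 4, 0, 5, 2, 1]
def rw7922 : List ℕ := [3, 1, 6, 2, 1, 5, 3, 1, 4, 2, 7, 3, 5, 0, 2, 4, 0, 3, 7, 0, 2, 6, 2, 1, 1, 6, 0, 0, 3, 7]
def rw7923 : List ℕ := [6, 3, 6, 3, 4, 1, 5, 2, 7, 2, 7, 4, 3, 4, 0, 6, 3, 6, 5, 1, 0, 0, 4, 7, 2, 7, 1, 5, 2, 5]
def rw7924 : List ℕ := [2, 7, 2, 7, 4, 3, 4, 0, 6, 3, 6, 5, 1, 0, 0, 4, 7, 2, 7, 1, 5, 2, 5, 6, 3, 6, 3, 4, 1, 5]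
def rw7925 : List ℕ := [5, 2, 7, 2, 7, 4, 3, 4, 0, 6, 3, 6, 5, 1, 2, 0, 4, 7, 2, 7, 1, 5, 2, 5, 6, 3, 6, 3, 4, 3]
def rw7926 : List ℕ := [7, 1, 5, 2, 5, 6, 3, 6, 3, 4, 5, 5, 2, 7, 2, 7, 4, 3, 4, 0, 6, 3, 6, 5, 1, 4, 0, 4, 7, 2]
def rw7927 : List ℕ := [2, 7, 1, 5, 2, 5, 6, 3, 6, 3, 4, 7, 5, 2, 7, 2, 7, 4, 3, 4, 0, 6, 3, 6, 5, 1, 6, 0, 4, 7]
def rw7928 : List ℕ := [4, 2, 2, 2, 7, 3, 6, 3, 3, 3, 5, 3, 4, 1, 4, 2, 5, 7, 3, 1, 2, 0, 2, 6, 4, 3, 5, 0, 5, 2]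
def rw7929 : List ℕ := [4, 2, 7, 5, 6, 5, 1, 5, 3, 4, 0, 4, 7, 4, 6, 3, 5, 0, 6, 6, 3, 3, 1, 2, 0, 2, 2, 7, 7, 1]
def rw7930 : List ℕ := [2, 7, 5, 6, 5, 1, 5, 7, 4, 0, 4, 7, 4, 6, 3, 5, 0, 6, 6, 3, 3, 1, 6, 0, 2, 2, 7, 7, 1, 4]
def rw7931 : List ℕ := [0, 2, 5, 6, 3, 6, 3, 4, 3, 6, 3, 6, 3, 7, 2, 7, 2, 5, 2, 7, 2, 7, 4, 3, 1, 3, 1, 2, 0, 2]
def rw7932 : List ℕ := [7, 2, 0, 6, 5, 0, 5, 1, 4, 1, 4, 7, 1, 3, 6, 3, 6, 6, 6, 5, 2, 1, 0, 0, 3, 4, 7, 7, 7, 2]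
def rw7933 : List ℕ := [6, 5, 2, 1, 2, 0, 3, 4, 7, 7, 7, 2, 7, 2, 0, 6, 5, 0, 5, 3, 4, 1, 4, 7, 1, 3, 6, 3, 6, 6]
def rw7934 : List ℕ := [6, 6, 5, 2, 1, 6, 0, 3, 4, 7, 7, 7, 2, 7, 2, 0, 6, 5, 0, 5, 7, 4, 1, 4, 7, 1, 3, 6, 3, 6]
def rw7935 : List ℕ := [7, 0, 5, 0, 2, 4, 2, 4, 2, 6, 3, 3, 1, 0, 0, 2, 2, 7, 3, 5, 3, 5, 3, 1, 4, 1, 6, 3, 1, 2]
def rw7936 : List ℕ := [5, 2, 7, 2, 7, 3, 3, 1, 4, 0, 2, 2, 6, 3, 6, 3, 4, 2, 6, 3, 0, 2, 6, 5, 7, 3, 1, 2, 7, 3]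
def rw7937 : List ℕ := [1, 3, 5, 3, 5, 2, 7, 5, 6, 3, 4, 2, 4, 2, 0, 5, 2, 7, 1, 3, 1, 1, 4, 0, 0, 2, 0, 6, 3, 4]
def rw7938 : List ℕ := [4, 7, 2, 7, 1, 5, 5, 4, 0, 6, 3, 6, 5, 1, 3, 6, 3, 6, 1, 3, 1, 4, 0, 2, 0, 7, 2, 7, 2, 0]
def rw7939 : List ℕ := [3, 6, 0, 6, 4, 6, 3, 7, 5, 7, 1, 7, 2, 7, 2, 6, 4, 1, 7, 3, 1, 2, 0, 2, 6, 0, 5, 7, 3, 6]
def rw7940 : List ℕ := [1, 2, 7, 4, 3, 1, 4, 0, 2, 5, 6, 3, 0, 7, 2, 7, 2, 0, 3, 5, 6, 5, 7, 4, 2, 1, 3, 6, 3, 6]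
def rw7941 : List ℕ := [4, 3, 1, 7, 4, 1, 5, 6, 0, 2, 5, 6, 5, 6, 3, 6, 3, 4, 3, 1, 0, 0, 2, 5, 2, 7, 2, 7, 4, 7]
def rw7942 : List ℕ := [7, 4, 1, 5, 6, 0, 2, 5, 6, 5, 6, 3, 6, 3, 4, 3, 1, 0, 0, 2, 5, 2, 7, 2, 7, 4, 7, 4, 3, 1]
def rw7943 : List ℕ := [5, 6, 3, 6, 3, 4, 3, 1, 0, 0, 2, 5, 2, 7, 2, 7, 4, 7, 4, 3, 1, 7, 4, 1, 5, 6, 0, 2, 5, 6]
def rw7944 : List ℕ := [5, 6, 3, 6, 3, 4, 3, 1, 4, 0, 2, 5, 2, 7, 2, 7, 4, 7, 4, 3, 1, 7, 4, 5, 5, 6, 0, 2, 5, 6]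
def rw7945 : List ℕ := [6, 2, 0, 7, 5, 6, 1, 3, 7, 3, 1, 6, 2, 0, 7, 3, 1, 3, 1, 4, 0, 2, 0, 2, 6, 1, 3, 7, 0, 2]
def rw7946 : List ℕ := [4, 7, 2, 7, 1, 2, 5, 3, 0, 6, 3, 6, 5, 6, 0, 2, 5, 6, 3, 3, 1, 4, 0, 2, 2, 7, 4, 3, 1, 7]
def rw7947 : List ℕ := [1, 4, 0, 2, 2, 7, 4, 3, 1, 7, 4, 7, 2, 7, 1, 2, 5, 3, 0, 6, 3, 6, 5, 6, 0, 2, 5, 6, 3, 3]
def rw7948 : List ℕ := [3, 7, 2, 7, 5, 6, 3, 6, 2, 0, 7, 2, 7, 1, 2, 2, 1, 3, 1, 4, 0, 2, 0, 3, 3, 0, 6, 3, 6, 1]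
def rw7949 : List ℕ := [2, 7, 2, 7, 5, 3, 1, 0, 0, 2, 4, 6, 3, 6, 3, 5, 3, 6, 3, 6, 3, 5, 1, 4, 2, 7, 2, 7, 2, 4]
def rw7950 : List ℕ := [7, 2, 4, 2, 7, 2, 7, 5, 3, 1, 0, 0, 2, 4, 6, 3, 6, 3, 5, 3, 6, 3, 6, 3, 5, 1, 4, 2, 7, 2]
def rw7951 : List ℕ := [3, 6, 3, 6, 3, 5, 5, 4, 2, 7, 2, 7, 2, 4, 2, 7, 2, 7, 5, 3, 1, 4, 0, 2, 4, 6, 3, 6, 3, 5]
def rw7952 : List ℕ := [3, 4, 7, 5, 2, 6, 3, 3, 4, 1, 2, 7, 3, 6, 1, 5, 1, 6, 0, 4, 0, 7, 2, 6, 3, 0, 5, 2, 2, 7]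
def rw7953 : List ℕ := [5, 6, 0, 4, 4, 4, 1, 5, 5, 1, 2, 0, 4, 4, 0, 5, 5, 5, 1, 7, 4, 6, 2, 7, 5, 3, 4, 6, 3, 7]
def rw7954 : List ℕ := [4, 2, 4, 2, 5, 0, 5, 2, 7, 2, 3, 3, 6, 3, 4, 1, 4, 3, 5, 3, 5, 7, 0, 3, 1, 2, 0, 2, 1, 6]
def rw7955 : List ℕ := [3, 5, 3, 5, 7, 0, 3, 1, 4, 0, 2, 1, 6, 4, 2, 4, 2, 5, 0, 5, 2, 7, 2, 5, 3, 6, 3, 4, 1, 4]
def rw7956 : List ℕ := [4, 1, 4, 3, 5, 3, 5, 7, 0, 3, 1, 6, 0, 2, 1, 6, 4, 2, 4, 2, 5, 0, 5, 2, 7, 2, 7, 3, 6, 3]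
def rw7957 : List ℕ := [6, 0, 4, 7, 2, 0, 4, 3, 6, 2, 5, 3, 7, 2, 5, 1, 3, 6, 5, 1, 7, 1, 5, 3, 1, 4, 0, 2, 4, 0]
def rw7958 : List ℕ := [7, 2, 0, 4, 3, 6, 2, 7, 3, 7, 2, 5, 1, 3, 6, 5, 1, 7, 1, 5, 3, 1, 6, 0, 2, 4, 0, 6, 0, 4]
def rw7959 : List ℕ := [5, 0, 4, 6, 2, 6, 0, 5, 3, 4, 1, 7, 3, 7, 5, 1, 4, 1, 7, 3, 7, 5, 1, 2, 0, 4, 6, 2, 6, 0]
def rw7960 : List ℕ := [6, 2, 6, 0, 5, 5, 4, 1, 7, 3, 7, 5, 1, 4, 1, 7, 3, 7, 5, 1, 4, 0, 4, 6, 2, 6, 0, 5, 0, 4]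
def rw7961 : List ℕ := [2, 4, 0, 6, 3, 6, 5, 5, 4, 7, 2, 7, 1, 5, 3, 7, 2, 7, 2, 0, 3, 1, 4, 0, 2, 1, 3, 6, 3, 6]
def rw7962 : List ℕ := [3, 4, 6, 3, 4, 4, 3, 4, 7, 4, 2, 2, 1, 3, 3, 5, 6, 5, 2, 5, 5, 2, 7, 5, 2, 5, 1, 0, 0, 4]
def rw7963 : List ℕ := [5, 2, 5, 5, 2, 7, 5, 2, 5, 1, 0, 0, 4, 3, 4, 6, 3, 4, 4, 3, 4, 7, 4, 2, 2, 1, 3, 3, 5, 6]
def rw7964 : List ℕ := [4, 7, 4, 2, 2, 7, 3, 3, 5, 6, 5, 2, 5, 5, 2, 7, 5, 2, 5, 1, 6, 0, 4, 3, 4, 6, 3, 4, 4, 3]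
def rw7965 : List ℕ := [0, 4, 7, 4, 1, 5, 6, 5, 1, 3, 4, 3, 1, 5, 1, 7, 1, 3, 1, 0, 0, 2, 0, 6, 0, 4, 0, 2, 5, 2]
def rw7966 : List ℕ := [1, 5, 1, 7, 1, 3, 1, 2, 0, 2, 0, 6, 0, 4, 0, 2, 5, 2, 0, 4, 7, 4, 3, 5, 6, 5, 1, 3, 4, 3]
def rw7967 : List ℕ := [0, 4, 0, 2, 5, 2, 0, 4, 7, 4, 5, 5, 6, 5, 1, 3, 4, 3, 1, 5, 1, 7, 1, 3, 1, 4, 0, 2, 0, 6]
def rw7968 : List ℕ := [0, 2, 5, 2, 0, 4, 7, 4, 5, 5, 6, 5, 1, 3, 4, 3, 1, 5, 1, 7, 1, 3, 1, 4, 0, 2, 0, 6, 0, 4]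
def rw7969 : List ℕ := [4, 6, 3, 6, 4, 2, 0, 5, 7, 2, 7, 3, 1, 0, 0, 2, 6, 3, 6, 4, 1, 3, 5, 7, 2, 7, 5, 2, 1, 3]
def rw7970 : List ℕ := [5, 2, 5, 3, 4, 6, 3, 6, 4, 2, 0, 5, 7, 2, 7, 3, 1, 4, 0, 2, 6, 3, 6, 4, 1, 3, 5, 7, 2, 7]
def rw7971 : List ℕ := [0, 5, 7, 2, 7, 3, 1, 4, 0, 2, 6, 3, 6, 4, 1, 3, 5, 7, 2, 7, 5, 2, 5, 3, 4, 6, 3, 6, 4, 2]
def rw7972 : List ℕ := [7, 1, 2, 7, 5, 2, 5, 1, 1, 1, 0, 0, 0, 0, 4, 3, 4, 6, 3, 0, 6, 6, 0, 0, 5, 1, 4, 1, 1, 7]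
def rw7973 : List ℕ := [3, 0, 6, 6, 0, 0, 5, 5, 4, 1, 1, 7, 7, 1, 2, 7, 5, 2, 5, 1, 1, 1, 4, 0, 0, 0, 4, 3, 4, 6]
def rw7974 : List ℕ := [6, 6, 0, 0, 5, 7, 4, 1, 1, 7, 7, 1, 2, 7, 5, 2, 5, 1, 1, 1, 6, 0, 0, 0, 4, 3, 4, 6, 3, 0]
def rw7975 : List ℕ := [2, 0, 4, 7, 4, 2, 0, 2, 6, 0, 4, 7, 5, 1, 7, 3, 1, 3, 5, 6, 5, 1, 3, 4, 3, 1, 6, 0, 2, 5]
def rw7976 : List ℕ := [4, 2, 4, 2, 4, 6, 7, 7, 5, 3, 5, 3, 5, 1, 4, 1, 6, 3, 3, 3, 1, 6, 0, 2, 2, 2, 7, 0, 5, 0]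
def rw7977 : List ℕ := [3, 5, 2, 7, 2, 7, 5, 6, 3, 6, 3, 4, 2, 6, 3, 0, 2, 6, 3, 3, 1, 4, 0, 2, 2, 7, 3, 1, 2, 7]
def rw7978 : List ℕ := [2, 5, 2, 6, 3, 6, 5, 1, 4, 7, 2, 7, 3, 4, 3, 4, 7, 2, 7, 3, 4, 3, 0, 2, 5, 2, 6, 3, 6, 5]
def rw7979 : List ℕ := [3, 4, 3, 2, 2, 5, 2, 6, 3, 6, 5, 2, 5, 2, 6, 3, 6, 5, 3, 4, 7, 2, 7, 3, 4, 3, 4, 7, 2, 7]
def rw7980 : List ℕ := [7, 4, 3, 4, 0, 6, 5, 1, 0, 0, 4, 7, 1, 5, 2, 5, 6, 5, 2, 7, 4, 7, 4, 1, 5, 6, 5, 6, 3, 4]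
def rw7981 : List ℕ := [4, 0, 6, 5, 1, 2, 0, 4, 7, 1, 5, 2, 5, 6, 5, 2, 7, 4, 7, 4, 3, 5, 6, 5, 6, 3, 4, 7, 4, 3]
def rw7982 : List ℕ := [0, 6, 5, 1, 4, 0, 4, 7, 1, 5, 2, 5, 6, 5, 2, 7, 4, 7, 4, 5, 5, 6, 5, 6, 3, 4, 7, 4, 3, 4]
def rw7983 : List ℕ := [5, 6, 3, 4, 7, 4, 3, 4, 0, 6, 5, 1, 6, 0, 4, 7, 1, 5, 2, 5, 6, 5, 2, 7, 4, 7, 4, 7, 5, 6]
def rw7984 : List ℕ := [0, 3, 4, 0, 3, 4, 7, 3, 6, 5, 2, 1, 5, 2, 1, 2, 2, 2, 5, 7, 3, 1, 2, 0, 2, 6, 4, 3, 3, 3]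
def rw7985 : List ℕ := [5, 2, 7, 4, 1, 5, 6, 3, 4, 6, 6, 5, 1, 2, 2, 4, 4, 2, 1, 0, 0, 3, 5, 5, 3, 3, 0, 4, 7, 7]
def rw7986 : List ℕ := [7, 5, 2, 7, 4, 3, 5, 6, 3, 4, 6, 6, 5, 1, 2, 2, 4, 4, 2, 1, 2, 0, 3, 5, 5, 3, 3, 0, 4, 7]
def rw7987 : List ℕ := [4, 6, 6, 5, 1, 2, 2, 4, 4, 2, 1, 6, 0, 3, 5, 5, 3, 3, 0, 4, 7, 7, 5, 2, 7, 4, 7, 5, 6, 3]
def rw7988 : List ℕ := [4, 1, 6, 2, 2, 7, 4, 1, 6, 1, 3, 3, 1, 6, 0, 2, 2, 0, 7, 0, 5, 6, 3, 3, 7, 0, 5, 6, 7, 7]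
def rw7989 : List ℕ := [7, 2, 7, 4, 3, 3, 7, 2, 7, 1, 2, 1, 0, 0, 3, 0, 6, 3, 6, 2, 2, 5, 6, 3, 6, 3, 4, 1, 5, 2]
def rw7990 : List ℕ := [5, 6, 3, 6, 3, 4, 3, 5, 2, 7, 2, 7, 4, 3, 3, 7, 2, 7, 1, 2, 1, 2, 0, 3, 0, 6, 3, 6, 2, 2]
def rw7991 : List ℕ := [6, 6, 3, 0, 3, 1, 2, 0, 2, 1, 2, 7, 7, 3, 1, 6, 3, 0, 5, 5, 6, 3, 7, 4, 4, 1, 2, 7, 0, 2]
def rw7992 : List ℕ := [1, 2, 7, 0, 2, 6, 6, 3, 0, 3, 1, 4, 0, 2, 1, 2, 7, 7, 3, 1, 6, 3, 0, 5, 5, 6, 5, 7, 4, 4]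
def rw7993 : List ℕ := [0, 6, 6, 5, 1, 4, 0, 2, 5, 3, 1, 0, 0, 2, 4, 3, 1, 5, 0, 4, 7, 7, 1, 7, 1, 6, 1, 7, 0, 6]
def rw7994 : List ℕ := [7, 1, 6, 7, 7, 0, 6, 0, 6, 6, 5, 1, 4, 0, 2, 5, 3, 1, 6, 0, 2, 4, 3, 1, 5, 0, 4, 7, 7, 1]
def rw7995 : List ℕ := [7, 7, 1, 4, 6, 5, 7, 5, 0, 6, 6, 3, 0, 5, 5, 3, 5, 7, 3, 1, 4, 0, 2, 6, 4, 2, 4, 4, 1, 2]
def rw7996 : List ℕ := [0, 6, 1, 7, 1, 7, 1, 5, 2, 7, 4, 7, 2, 5, 6, 5, 1, 0, 0, 4, 7, 4, 3, 6, 5, 6, 3, 4, 0, 6]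
def rw7997 : List ℕ := [6, 0, 6, 3, 7, 1, 7, 1, 5, 2, 7, 4, 7, 2, 5, 6, 5, 1, 2, 0, 4, 7, 4, 3, 6, 5, 6, 3, 4, 0]
def rw7998 : List ℕ := [4, 4, 3, 4, 3, 6, 6, 3, 4, 1, 0, 0, 5, 2, 7, 7, 2, 5, 2, 5, 5, 3, 5, 7, 5, 1, 4, 6, 4, 2]
def rw7999 : List ℕ := [6, 3, 4, 1, 2, 0, 5, 2, 7, 7, 2, 5, 2, 5, 5, 3, 5, 7, 5, 3, 4, 6, 4, 2, 4, 4, 3, 4, 3, 6]
def rw8000 : List ℕ := [4, 6, 3, 1, 6, 2, 1, 3, 3, 2, 0, 3, 7, 0, 2, 7, 5, 7, 2, 6, 5, 1, 1, 2, 0, 0, 4, 7, 3, 6]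
def rw8001 : List ℕ := [0, 6, 5, 7, 2, 7, 1, 2, 0, 6, 3, 6, 4, 7, 1, 7, 4, 7, 4, 0, 6, 5, 3, 4, 7, 1, 5, 6, 5, 6]
def rw8002 : List ℕ := [6, 0, 2, 1, 2, 7, 4, 2, 0, 5, 7, 4, 1, 3, 5, 6, 3, 0, 3, 1, 7, 1, 3, 1, 1, 6, 0, 0, 2, 0]
def rw8003 : List ℕ := [6, 6, 4, 3, 4, 4, 3, 1, 1, 0, 0, 0, 2, 5, 5, 2, 5, 7, 7, 1, 3, 6, 6, 3, 1, 2, 7, 7, 2, 0]
def rw8004 : List ℕ := [7, 2, 0, 6, 6, 4, 3, 4, 4, 3, 1, 1, 6, 0, 0, 2, 5, 5, 2, 5, 7, 7, 1, 3, 6, 6, 3, 7, 2, 7]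
def rw8005 : List ℕ := [3, 6, 2, 1, 1, 2, 0, 0, 3, 7, 2, 7, 5, 5, 0, 7, 0, 3, 1, 7, 3, 6, 0, 2, 1, 6, 1, 4, 4, 6]
def rw8006 : List ℕ := [5, 5, 0, 7, 0, 3, 1, 7, 5, 6, 0, 2, 1, 6, 1, 4, 4, 6, 3, 6, 2, 1, 1, 4, 0, 0, 3, 7, 2, 7]
def rw8007 : List ℕ := [2, 5, 6, 3, 6, 3, 4, 1, 5, 2, 7, 2, 7, 4, 3, 0, 7, 2, 7, 1, 1, 1, 0, 0, 0, 0, 6, 3, 6, 1]
def rw8008 : List ℕ := [3, 7, 2, 6, 3, 4, 1, 3, 5, 3, 5, 2, 7, 1, 3, 1, 6, 0, 2, 0, 6, 3, 4, 2, 4, 2, 0, 5, 2, 7]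
def rw8009 : List ℕ := [7, 2, 7, 1, 3, 1, 7, 4, 1, 3, 1, 4, 0, 2, 0, 5, 6, 0, 2, 0, 6, 3, 6, 5, 6, 3, 5, 2, 7, 4]
def rw8010 : List ℕ := [2, 5, 7, 5, 6, 4, 3, 5, 0, 5, 5, 3, 0, 5, 2, 7, 3, 1, 4, 0, 2, 6, 3, 4, 1, 2, 4, 4, 1, 4]
def rw8011 : List ℕ := [1, 4, 2, 5, 7, 5, 6, 4, 3, 5, 0, 5, 5, 3, 0, 5, 2, 7, 3, 1, 4, 0, 2, 6, 3, 4, 1, 2, 4, 4]
def rw8012 : List ℕ := [4, 2, 4, 2, 4, 2, 7, 3, 1, 0, 0, 2, 6, 3, 5, 3, 5, 3, 5, 5, 0, 5, 2, 7, 1, 6, 3, 4, 1, 4]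
def rw8013 : List ℕ := [4, 3, 4, 4, 4, 3, 4, 7, 4, 1, 4, 2, 6, 1, 7, 3, 5, 0, 5, 6, 5, 2, 5, 5, 5, 2, 5, 1, 0, 0]
def rw8014 : List ℕ := [0, 4, 4, 3, 1, 1, 2, 0, 0, 2, 5, 5, 1, 7, 7, 5, 6, 2, 7, 2, 7, 3, 6, 3, 6, 3, 7, 4, 6, 6]
def rw8015 : List ℕ := [6, 0, 4, 4, 3, 1, 1, 4, 0, 0, 2, 5, 5, 1, 7, 7, 5, 6, 2, 7, 2, 7, 5, 6, 3, 6, 3, 7, 4, 6]
def rw8016 : List ℕ := [3, 1, 6, 0, 2, 5, 1, 4, 3, 1, 7, 0, 2, 6, 3, 0, 5, 3, 1, 3, 1, 0, 0, 2, 0, 2, 4, 1, 2, 7]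
def rw8017 : List ℕ := [2, 5, 7, 4, 1, 3, 5, 6, 4, 2, 0, 5, 5, 7, 4, 4, 1, 3, 5, 7, 4, 2, 0, 5, 6, 4, 3, 1, 6, 0]
def rw8018 : List ℕ := [5, 2, 5, 2, 7, 2, 7, 2, 5, 6, 3, 6, 5, 1, 4, 0, 4, 7, 2, 7, 4, 3, 6, 3, 6, 3, 4, 3, 4, 5]
def rw8019 : List ℕ := [3, 1, 4, 0, 2, 0, 6, 3, 6, 5, 6, 3, 3, 1, 3, 5, 6, 5, 7, 4, 2, 0, 2, 2, 7, 4, 7, 2, 7, 1]
def rw8020 : List ℕ := [6, 3, 6, 2, 5, 3, 7, 2, 7, 2, 5, 2, 7, 2, 7, 4, 3, 3, 1, 4, 0, 2, 2, 5, 6, 3, 6, 3, 4, 3]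
def rw8021 : List ℕ := [4, 2, 6, 3, 5, 2, 7, 3, 5, 2, 0, 2, 5, 0, 5, 6, 3, 3, 1, 4, 0, 2, 2, 7, 4, 1, 4, 3, 1, 3]
def rw8022 : List ℕ := [2, 7, 2, 2, 1, 3, 1, 1, 4, 0, 0, 2, 0, 3, 3, 6, 3, 6, 0, 6, 3, 6, 3, 5, 2, 7, 2, 7, 1, 7]
def rw8023 : List ℕ := [2, 7, 3, 1, 1, 3, 1, 1, 6, 0, 0, 2, 0, 0]
def rw8024 : List ℕ := [0, 5, 0, 5, 0, 5, 7, 4, 1, 4, 1, 4, 1, 4, 1, 4, 1, 6, 0, 5, 0, 5]
def rw8025 : List ℕ := [4, 2, 4, 2, 4, 7, 5, 3, 5, 3, 5, 3, 5, 3, 5, 3, 6, 2, 4, 2, 4, 2]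
def rw8026 : List ℕ := [1, 5, 0, 3, 7, 2, 1, 4, 0, 3, 0, 2, 5, 3, 1, 1, 1, 6, 0, 0, 0, 2, 4, 3, 1, 2]
def rw8027 : List ℕ := [1, 4, 7, 5, 0, 3, 3, 3, 1, 1, 4, 3, 1, 1, 1, 6, 0, 0, 0, 2, 5, 0, 0, 2, 2, 2]
def rw8028 : List ℕ := [1, 3, 5, 2, 7, 3, 4, 2, 0, 0, 3, 3, 0, 5, 1, 1, 1, 6, 0, 0, 0, 4, 1, 2, 2, 1]
def rw8029 : List ℕ := [2, 4, 7, 5, 3, 1, 1, 2, 2, 1, 4, 0, 3, 1, 1, 6, 0, 0, 2, 1, 5, 0, 3, 3, 0, 0]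
def rw8030 : List ℕ := [1, 4, 2, 7, 3, 5, 0, 5, 0, 0, 5, 0, 5, 3, 1, 1, 6, 0, 0, 2, 4, 1, 4, 1, 1, 4]
def rw8031 : List ℕ := [0, 4, 2, 7, 3, 5, 1, 1, 3, 0, 4, 1, 2, 2, 1, 1, 6, 0, 0, 3, 3, 0, 5, 1, 2, 0]
def rw8032 : List ℕ := [0, 4, 4, 7, 5, 5, 1, 5, 1, 1, 5, 5, 1, 5, 1, 1, 6, 0, 0, 4, 0, 4, 4, 0, 0, 4]
def rw8033 : List ℕ := [1, 2, 7, 3, 0, 4, 1, 2, 2, 2, 0, 0, 5, 1, 1, 6, 0, 0, 4, 1, 1, 3, 3, 3, 0, 5]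
def rw8034 : List ℕ := [0, 4, 4, 0, 0, 4, 4, 7, 5, 5, 1, 1, 5, 5, 1, 1, 5, 5, 1, 1, 6, 0, 0, 4, 4, 0]
def rw8035 : List ℕ := [0, 2, 0, 4, 7, 5, 1, 3, 1, 5, 1, 3, 1, 5, 1, 3, 1, 6, 0, 2, 0, 4, 0, 2, 0, 4]
def rw8036 : List ℕ := [3, 1, 4, 1, 3, 1, 4, 7, 5, 0, 2, 0, 5, 0, 2, 0, 5, 1, 3, 1, 6, 0, 2, 0, 4, 1]
def rw8037 : List ℕ := [5, 1, 2, 0, 4, 7, 5, 1, 3, 0, 4, 4, 3, 4, 4, 0, 3, 1, 6, 0, 2, 1, 5, 5, 2, 5]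
def rw8038 : List ℕ := [5, 0, 5, 2, 7, 3, 4, 1, 4, 2, 4, 1, 4, 1, 3, 3, 1, 6, 0, 2, 2, 0, 5, 0, 5, 3]
def rw8039 : List ℕ := [3, 5, 3, 0, 5, 3, 5, 7, 4, 2, 4, 1, 2, 4, 2, 4, 2, 5, 3, 1, 6, 0, 2, 4, 3, 5]
def rw8040 : List ℕ := [5, 1, 2, 0, 4, 3, 7, 2, 5, 1, 3, 0, 4, 4, 3, 4, 4, 3, 1, 6, 0, 2, 5, 5, 2, 5]
def rw8041 : List ℕ := [3, 4, 4, 1, 3, 4, 3, 7, 2, 5, 2, 0, 5, 5, 2, 2, 2, 1, 2, 1, 6, 0, 3, 0, 3, 3]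
def rw8042 : List ℕ := [0, 5, 3, 0, 5, 0, 5, 7, 4, 1, 4, 1, 2, 4, 1, 4, 2, 0, 5, 1, 6, 0, 4, 1, 3, 5]
def rw8043 : List ℕ := [4, 2, 2, 5, 7, 4, 3, 3, 5, 5, 1, 4, 3, 3, 5, 5, 1, 6, 0, 4, 4, 2, 2, 5, 0, 4]
def rw8044 : List ℕ := [4, 7, 4, 7, 4, 7, 4, 7, 1, 6, 5, 6, 5, 6, 5, 6, 5, 0]
def rw8045 : List ℕ := [4, 7, 4, 7, 1, 6, 5, 6, 5, 6, 5, 6, 5, 0, 4, 7, 4, 7]
def rw8046 : List ℕ := [7, 2, 7, 1, 7, 2, 7, 0, 2, 3, 3, 1, 6, 3, 6, 0, 6, 3, 6, 3, 1, 1, 2, 0, 0, 2]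
def rw8047 : List ℕ := [3, 6, 5, 1, 4, 7, 2, 7, 1, 5, 0, 7, 2, 7, 1, 1, 0, 0, 0, 6, 3, 6, 1, 4, 0, 6]
def rw8048 : List ℕ := [1, 5, 0, 7, 2, 7, 1, 1, 2, 0, 0, 6, 3, 6, 1, 4, 0, 6, 3, 6, 5, 3, 4, 7, 2, 7]
def rw8049 : List ℕ := [2, 7, 1, 5, 0, 7, 2, 7, 1, 1, 6, 0, 0, 6, 3, 6, 1, 4, 0, 6, 3, 6, 5, 7, 4, 7]
def rw8050 : List ℕ := [4, 7, 2, 7, 1, 5, 3, 4, 0, 6, 3, 6, 5, 0, 7, 2, 7, 1, 1, 2, 0, 0, 6, 3, 6, 1]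
def rw8051 : List ℕ := [7, 2, 3, 3, 6, 3, 6, 1, 3, 0, 6, 3, 6, 1, 1, 2, 0, 0, 7, 2, 7, 1, 2, 0, 7, 2]
def rw8052 : List ℕ := [7, 1, 7, 7, 6, 0, 6, 3, 6, 0, 6, 0, 2, 1, 3, 1, 6, 0, 2, 0, 3, 1, 7, 1, 7, 2]
def rw8053 : List ℕ := [1, 7, 7, 6, 0, 6, 3, 6, 0, 6, 0, 2, 1, 3, 1, 6, 0, 2, 0, 3, 1, 7, 1, 7, 2, 7]
def rw8054 : List ℕ := [2, 7, 2, 7, 1, 7, 2, 7, 2, 1, 3, 1, 4, 0, 2, 0, 3, 6, 3, 6, 0, 6, 3, 6, 3, 5]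
def rw8055 : List ℕ := [6, 0, 2, 5, 6, 1, 7, 4, 3, 1, 7, 4, 7, 2, 7, 1, 3, 1, 0, 0, 2, 0, 6, 3, 6, 5]
def rw8056 : List ℕ := [7, 1, 7, 1, 2, 5, 3, 0, 6, 0, 6, 3, 6, 0, 6, 0, 3, 1, 4, 0, 2, 1, 7, 1, 7, 2]
def rw8057 : List ℕ := [1, 7, 1, 7, 2, 7, 1, 7, 1, 2, 7, 3, 0, 6, 0, 6, 3, 6, 0, 6, 0, 3, 1, 6, 0, 2]
def rw8058 : List ℕ := [7, 2, 7, 1, 7, 1, 2, 7, 3, 0, 6, 0, 6, 3, 6, 0, 6, 0, 3, 1, 6, 0, 2, 1, 7, 1]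
def rw8059 : List ℕ := [1, 7, 1, 3, 3, 1, 4, 0, 2, 2, 0, 6, 0, 6, 3, 6, 0, 6, 2, 5, 3, 7, 1, 7, 2, 7]
def rw8060 : List ℕ := [7, 1, 7, 2, 7, 1, 7, 1, 3, 3, 1, 6, 0, 2, 2, 0, 6, 0, 6, 3, 6, 0, 6, 2, 7, 3]
def rw8061 : List ℕ := [7, 2, 2, 5, 3, 3, 6, 3, 6, 0, 6, 3, 6, 3, 3, 1, 4, 0, 2, 2, 7, 2, 7, 1, 7, 2]
def rw8062 : List ℕ := [2, 7, 1, 7, 2, 7, 2, 2, 7, 3, 3, 6, 3, 6, 0, 6, 3, 6, 3, 3, 1, 6, 0, 2, 2, 7]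
def rw8063 : List ℕ := [7, 3, 1, 6, 3, 3, 5, 1, 4, 2, 2, 7, 0, 2, 6, 3, 3, 5, 3, 1, 0, 0, 2, 4, 2, 2]
def rw8064 : List ℕ := [7, 1, 5, 6, 3, 7, 4, 0, 6, 3, 6, 3, 1, 7, 4, 3, 1, 2, 0, 2, 5, 6, 0, 2, 7, 2]
def rw8065 : List ℕ := [7, 5, 3, 6, 0, 2, 6, 4, 1, 7, 3, 1, 0, 0, 2, 6, 0, 5, 7, 3, 1, 7, 2, 4, 6, 1]
def rw8066 : List ℕ := [0, 5, 7, 3, 1, 7, 2, 4, 6, 3, 7, 5, 3, 6, 0, 2, 6, 4, 1, 7, 3, 1, 2, 0, 2, 6]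
def rw8067 : List ℕ := [2, 7, 2, 7, 1, 7, 2, 7, 3, 1, 6, 0, 2, 6, 3, 6, 0, 6, 3, 6, 3, 1, 2, 7, 3, 0]
def rw8068 : List ℕ := [7, 0, 3, 7, 7, 0, 3, 7, 7, 3, 6, 6, 2, 1, 6, 6, 2, 1, 6, 6, 2, 1, 2, 0, 3, 7]
def rw8069 : List ℕ := [7, 3, 6, 6, 2, 1, 6, 6, 2, 1, 6, 6, 2, 1, 2, 0, 3, 7, 7, 0, 3, 7, 7, 0, 3, 7]
def rw8070 : List ℕ := [7, 7, 7, 6, 6, 2, 1, 6, 6, 2, 1, 6, 6, 2, 1, 6, 0, 3, 7, 7, 0, 3, 7, 7, 0, 3]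
def rw8071 : List ℕ := [7, 2, 5, 1, 7, 2, 5, 1, 6, 0, 4, 3, 6, 0, 4, 3, 6, 0, 4, 3, 6, 7, 7, 2, 5, 1]
def rw8072 : List ℕ := [4, 6, 2, 5, 1, 0, 0, 4, 3, 7, 5, 6, 0, 4, 3, 7, 5, 6, 1, 7, 4, 6, 2, 5, 1, 7]
def rw8073 : List ℕ := [5, 6, 0, 4, 3, 7, 5, 6, 1, 7, 4, 6, 2, 5, 1, 7, 4, 6, 2, 5, 1, 0, 0, 4, 3, 7]
def rw8074 : List ℕ := [2, 5, 1, 7, 4, 6, 2, 5, 1, 2, 0, 4, 3, 7, 5, 6, 0, 4, 3, 7, 5, 6, 3, 7, 4, 6]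
def rw8075 : List ℕ := [6, 2, 5, 1, 7, 4, 6, 2, 5, 1, 6, 0, 4, 3, 7, 5, 6, 0, 4, 3, 7, 5, 6, 7, 7, 4]
def rw8076 : List ℕ := [7, 2, 0, 4, 7, 2, 0, 4, 7, 2, 1, 3, 6, 5, 1, 3, 6, 5, 1, 3, 6, 5, 1, 0, 0, 4]
def rw8077 : List ℕ := [5, 6, 3, 3, 7, 1, 6, 2, 2, 7, 4, 1, 6, 2, 2, 7, 4, 1, 0, 0, 5, 6, 3, 3, 7, 0]
def rw8078 : List ℕ := [4, 1, 6, 2, 2, 7, 4, 1, 0, 0, 5, 6, 3, 3, 7, 0, 5, 6, 3, 3, 7, 1, 6, 2, 2, 7]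
def rw8079 : List ℕ := [7, 1, 0, 0, 6, 0, 6, 0, 6, 0, 6, 0, 6, 0, 6, 1, 7, 1, 7, 1, 7, 1, 7, 1, 7, 1]
def rw8080 : List ℕ := [7, 1, 5, 3, 7, 2, 7, 1, 4, 0, 6, 3, 6, 2, 4, 0, 6, 3, 6, 5, 3, 5, 2, 4, 7, 2]
def rw8081 : List ℕ := [1, 6, 1, 6, 1, 0, 0, 7, 0, 7, 0, 7, 0, 7, 0, 7, 0, 7, 1, 6, 1, 6, 1, 6, 1, 6]
def rw8082 : List ℕ := [0, 7, 0, 7, 0, 7, 0, 7, 0, 7, 1, 6, 1, 6, 1, 6, 1, 6, 1, 6, 1, 6, 1, 0, 0, 7]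
def rw8083 : List ℕ := [7, 0, 7, 0, 7, 0, 7, 5, 6, 1, 6, 1, 6, 1, 6, 1, 6, 1, 6, 1, 4, 0, 7, 0, 7, 0]
def rw8084 : List ℕ := [7, 5, 6, 1, 6, 1, 6, 1, 6, 1, 6, 1, 6, 1, 4, 0, 7, 0, 7, 0, 7, 0, 7, 0, 7, 0]
def rw8085 : List ℕ := [6, 2, 6, 2, 6, 2, 6, 1, 7, 3, 7, 3, 7, 3, 7, 3, 7, 3, 7, 3, 0, 2, 6, 2, 6, 2]
def rw8086 : List ℕ := [7, 3, 7, 3, 7, 3, 7, 3, 7, 3, 0, 2, 6, 2, 6, 2, 6, 2, 6, 2, 6, 2, 6, 1, 7, 3]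
def rw8087 : List ℕ := [7, 3, 7, 3, 7, 3, 7, 3, 0, 2, 6, 2, 6, 2, 6, 2, 6, 2, 6, 2, 6, 1, 7, 3, 7, 3]
def rw8088 : List ℕ := [3, 7, 3, 2, 2, 6, 2, 6, 2, 6, 2, 6, 2, 6, 2, 6, 3, 7, 3, 7, 3, 7, 3, 7, 3, 7]
def rw8089 : List ℕ := [7, 3, 7, 3, 4, 2, 6, 2, 6, 2, 6, 2, 6, 2, 6, 2, 6, 5, 7, 3, 7, 3, 7, 3, 7, 3]
def rw8090 : List ℕ := [3, 7, 3, 7, 3, 7, 3, 7, 3, 7, 3, 6, 2, 6, 2, 6, 2, 6, 2, 6, 2, 6, 2, 6, 7, 7]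
def rw8091 : List ℕ := [3, 7, 3, 6, 2, 6, 2, 6, 2, 6, 2, 6, 2, 6, 2, 6, 7, 7, 3, 7, 3, 7, 3, 7, 3, 7]
def rw8092 : List ℕ := [0, 5, 7, 3, 1, 6, 3, 3, 3, 2, 2, 7, 0, 2, 6, 4, 1, 1, 5, 5, 1, 1, 2, 0, 0, 4, 4, 0]
def rw8093 : List ℕ := [4, 4, 4, 5, 5, 5, 5, 7, 3, 1, 6, 3, 3, 5, 5, 1, 1, 4, 0, 0, 4, 4, 2, 2, 7, 0, 2, 6]
def rw8094 : List ℕ := [1, 2, 0, 0, 4, 7, 0, 6, 3, 6, 6, 5, 5, 0, 5, 3, 4, 1, 4, 4, 7, 7, 2, 7, 1, 6, 5, 1]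
def rw8095 : List ℕ := [1, 6, 5, 1, 1, 6, 0, 0, 4, 7, 0, 6, 3, 6, 6, 5, 5, 0, 5, 7, 4, 1, 4, 4, 7, 7, 2, 7]
def rw8096 : List ℕ := [4, 1, 4, 4, 7, 0, 6, 3, 6, 6, 5, 1, 1, 0, 0, 0, 4, 7, 7, 2, 7, 1, 6, 5, 5, 0, 5, 1]
def rw8097 : List ℕ := [0, 4, 7, 7, 2, 7, 1, 6, 5, 5, 0, 5, 3, 4, 1, 4, 4, 7, 0, 6, 3, 6, 6, 5, 1, 1, 2, 0]
def rw8098 : List ℕ := [2, 6, 3, 1, 4, 1, 1, 6, 0, 0, 5, 0, 2, 7, 3, 6, 0, 6, 6, 3, 5, 7, 4, 2, 7, 7, 1, 7]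
def rw8099 : List ℕ := [3, 7, 7, 1, 7, 2, 6, 2, 4, 1, 1, 0, 0, 0, 5, 3, 7, 3, 6, 0, 6, 6, 2, 0, 5, 1, 4, 1]
def rw8100 : List ℕ := [3, 5, 5, 2, 0, 7, 4, 2, 0, 5, 6, 4, 1, 1, 2, 0, 0, 5, 7, 4, 1, 3, 5, 6, 1, 3, 4, 4]
def rw8101 : List ℕ := [4, 2, 7, 4, 1, 3, 1, 0, 0, 2, 0, 5, 6, 3, 5, 0, 5, 0, 3, 4, 7, 1, 6, 5, 2, 1, 4, 1]
def rw8102 : List ℕ := [5, 7, 4, 1, 3, 1, 0, 0, 2, 0, 5, 6, 4, 1, 4, 1, 2, 0, 4, 7, 1, 6, 5, 1, 3, 0, 5, 0]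
def rw8103 : List ℕ := [6, 6, 3, 3, 6, 3, 6, 4, 2, 7, 1, 3, 1, 0, 0, 2, 0, 6, 3, 5, 7, 2, 7, 2, 2, 7, 7, 1]
def rw8104 : List ℕ := [7, 2, 7, 2, 2, 7, 7, 3, 6, 6, 3, 3, 6, 3, 6, 4, 2, 7, 1, 3, 1, 2, 0, 2, 0, 6, 3, 5]
def rw8105 : List ℕ := [6, 3, 5, 7, 2, 7, 2, 2, 7, 7, 5, 6, 6, 3, 3, 6, 3, 6, 4, 2, 7, 1, 3, 1, 4, 0, 2, 0]
def rw8106 : List ℕ := [5, 0, 3, 4, 7, 1, 3, 1, 2, 0, 2, 0, 6, 5, 2, 1, 4, 1, 4, 2, 7, 4, 3, 5, 6, 3, 5, 0]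
def rw8107 : List ℕ := [3, 4, 7, 1, 3, 1, 4, 0, 2, 0, 6, 5, 2, 1, 4, 1, 4, 2, 7, 4, 5, 5, 6, 3, 5, 0, 5, 0]
def rw8108 : List ℕ := [4, 0, 2, 0, 6, 6, 3, 3, 6, 3, 6, 4, 2, 7, 5, 6, 3, 5, 7, 2, 7, 2, 2, 7, 7, 1, 3, 1]
def rw8109 : List ℕ := [7, 1, 6, 1, 5, 5, 1, 3, 4, 6, 1, 7, 5, 2, 0, 4, 4, 0, 7, 0, 6, 0, 3, 1, 0, 0, 2, 1]
def rw8110 : List ℕ := [4, 0, 7, 0, 6, 0, 3, 1, 6, 0, 2, 1, 7, 1, 6, 1, 5, 5, 1, 3, 4, 6, 7, 7, 5, 2, 0, 4]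
def rw8111 : List ℕ := [2, 5, 2, 0, 5, 3, 3, 1, 0, 0, 2, 2, 4, 1, 3, 4, 3, 4, 7, 3, 5, 6, 1, 7, 4, 2, 6, 5]
def rw8112 : List ℕ := [2, 4, 3, 5, 3, 0, 7, 4, 1, 6, 1, 2, 2, 5, 3, 1, 2, 0, 2, 4, 3, 3, 0, 7, 0, 5, 6, 1]
def rw8113 : List ℕ := [1, 3, 4, 7, 4, 0, 5, 6, 3, 7, 5, 6, 2, 7, 4, 1, 5, 6, 5, 2, 0, 4, 3, 1, 4, 0, 2, 5]
def rw8114 : List ℕ := [3, 5, 7, 0, 6, 2, 7, 3, 4, 3, 1, 6, 0, 2, 5, 2, 6, 3, 7, 1, 6, 4, 2, 2, 5, 7, 4, 3]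
def rw8115 : List ℕ := [1, 4, 6, 3, 4, 3, 1, 6, 0, 2, 5, 2, 7, 5, 0, 5, 0, 3, 4, 3, 6, 7, 7, 2, 5, 2, 1, 4]
def rw8116 : List ℕ := [7, 7, 2, 7, 3, 6, 6, 3, 3, 6, 3, 6, 4, 2, 7, 3, 1, 6, 0, 2, 6, 3, 5, 7, 2, 7, 2, 2]
def rw8117 : List ℕ := [3, 1, 0, 0, 2, 6, 6, 3, 3, 6, 3, 6, 4, 2, 7, 2, 1, 3, 6, 3, 5, 7, 2, 7, 2, 2, 7, 7]
def rw8118 : List ℕ := [4, 6, 3, 7, 5, 6, 3, 4, 2, 2, 7, 2, 7, 7, 3, 1, 2, 0, 2, 6, 6, 3, 6, 3, 3, 5, 2, 7]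
def rw8119 : List ℕ := [5, 5, 1, 3, 4, 6, 3, 7, 2, 7, 5, 2, 0, 4, 4, 0, 7, 0, 6, 3, 1, 6, 0, 2, 7, 1, 6, 1]
def rw8120 : List ℕ := [1, 6, 0, 4, 3, 4, 3, 4, 7, 4, 6, 2, 7, 4, 4, 7, 5, 5, 6, 3, 7, 5, 6, 5, 2, 5, 2, 5]
def rw8121 : List ℕ := [6, 1, 7, 0, 5, 2, 7, 5, 1, 2, 0, 4, 6, 3, 4, 1, 6, 0, 7, 7, 2, 6, 3, 3, 2, 7, 3, 6]
def rw8122 : List ℕ := [7, 7, 2, 6, 3, 3, 2, 7, 3, 6, 6, 1, 7, 0, 5, 2, 7, 5, 1, 2, 0, 4, 6, 3, 4, 1, 6, 0]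
def rw8123 : List ℕ := [4, 3, 4, 7, 2, 3, 3, 6, 5, 2, 5, 6, 4, 1, 4, 1, 6, 5, 1, 2, 0, 4, 7, 0, 5, 0, 5, 7]
def rw8124 : List ℕ := [4, 4, 1, 5, 5, 0, 5, 0, 7, 7, 2, 7, 1, 6, 5, 1, 0, 0, 4, 7, 0, 6, 3, 6, 6, 1, 4, 1]
def rw8125 : List ℕ := [5, 0, 7, 7, 2, 7, 1, 6, 5, 1, 0, 0, 4, 7, 0, 6, 3, 6, 6, 1, 4, 1, 4, 4, 1, 5, 5, 0]
def rw8126 : List ℕ := [4, 4, 3, 5, 5, 0, 5, 0, 7, 7, 2, 7, 1, 6, 5, 1, 2, 0, 4, 7, 0, 6, 3, 6, 6, 1, 4, 1]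
def rw8127 : List ℕ := [4, 3, 5, 5, 0, 5, 0, 7, 0, 6, 3, 6, 6, 5, 1, 2, 0, 4, 7, 7, 2, 7, 1, 6, 1, 4, 1, 4]
def rw8128 : List ℕ := [3, 6, 6, 5, 1, 6, 0, 4, 7, 7, 2, 7, 1, 6, 1, 4, 1, 4, 4, 7, 5, 5, 0, 5, 0, 7, 0, 6]
def rw8129 : List ℕ := [7, 2, 7, 0, 5, 6, 3, 7, 5, 1, 4, 6, 2, 7, 4, 1, 6, 3, 6, 6, 3, 4, 1, 0, 0, 5, 2, 7]
def rw8130 : List ℕ := [6, 2, 7, 4, 1, 6, 3, 6, 6, 3, 4, 1, 6, 0, 5, 2, 7, 7, 2, 7, 0, 5, 6, 3, 7, 5, 7, 4]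
def rw8131 : List ℕ := [4, 4, 2, 2, 7, 4, 1, 0, 0, 5, 6, 3, 3, 5, 5, 3, 5, 3, 3, 4, 7, 1, 6, 5, 2, 2, 4, 2]
def rw8132 : List ℕ := [2, 7, 1, 4, 6, 2, 7, 4, 1, 0, 0, 5, 6, 3, 7, 5, 0, 6, 3, 6, 6, 3, 4, 1, 5, 2, 7, 7]
def rw8133 : List ℕ := [2, 7, 1, 4, 6, 2, 7, 4, 1, 6, 0, 5, 6, 3, 7, 5, 0, 6, 3, 6, 6, 3, 4, 7, 5, 2, 7, 7]
def rw8134 : List ℕ := [6, 2, 7, 4, 1, 0, 0, 5, 6, 3, 7, 5, 7, 2, 7, 1, 6, 3, 4, 1, 5, 2, 7, 0, 6, 3, 6, 4]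
def rw8135 : List ℕ := [2, 7, 1, 6, 3, 4, 7, 5, 2, 7, 0, 6, 3, 6, 4, 6, 2, 7, 4, 1, 6, 0, 5, 6, 3, 7, 5, 7]
def rw8136 : List ℕ := [2, 5, 3, 4, 3, 4, 7, 3, 6, 5, 2, 5, 2, 4, 3, 5, 3, 5, 7, 4, 1, 2, 0, 5, 6, 4, 2, 4]
def rw8137 : List ℕ := [2, 7, 7, 4, 2, 6, 4, 1, 5, 7, 3, 5, 6, 6, 3, 3, 6, 6, 3, 3, 3, 0, 2, 2, 2, 7, 7, 2]
def rw8138 : List ℕ := [4, 3, 5, 7, 3, 5, 6, 6, 3, 3, 6, 6, 3, 3, 3, 2, 2, 2, 2, 7, 7, 2, 2, 7, 7, 4, 2, 6]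
def rw8139 : List ℕ := [6, 6, 3, 3, 6, 6, 3, 3, 3, 2, 2, 2, 2, 7, 7, 2, 2, 7, 7, 4, 2, 6, 4, 3, 5, 7, 3, 5]
def rw8140 : List ℕ := [2, 4, 1, 2, 7, 3, 1, 6, 3, 4, 3, 1, 0, 0, 2, 5, 2, 7, 0, 2, 6, 3, 0, 5, 3, 5, 2, 1, 3, 4]
def rw8141 : List ℕ := [7, 5, 5, 4, 6, 0, 6, 3, 6, 0, 6, 4, 1, 4, 2, 4, 1, 4, 0, 5, 3, 5, 0, 5, 7, 1, 7, 2, 7, 1]
def rw8142 : List ℕ := [2, 5, 0, 6, 3, 6, 2, 5, 2, 3, 3, 4, 3, 7, 2, 7, 1, 4, 3, 6, 3, 6, 5, 1, 2, 0, 4, 7, 2, 7]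
def rw8143 : List ℕ := [2, 5, 3, 4, 3, 7, 2, 7, 1, 4, 3, 6, 3, 6, 5, 1, 4, 0, 4, 7, 2, 7, 2, 5, 0, 6, 3, 6, 2, 5]
def rw8144 : List ℕ := [2, 7, 1, 4, 3, 6, 3, 6, 5, 1, 6, 0, 4, 7, 2, 7, 2, 5, 0, 6, 3, 6, 2, 5, 2, 7, 3, 4, 3, 7]
def rw8145 : List ℕ := [3, 3, 1, 1, 0, 0, 0, 2, 2, 7, 7, 2, 0, 6, 6, 4, 3, 4, 4, 1, 5, 5, 2, 5, 7, 7, 1, 3, 6, 6]
def rw8146 : List ℕ := [2, 5, 7, 7, 1, 3, 6, 6, 3, 3, 1, 1, 4, 0, 0, 2, 2, 7, 7, 2, 0, 6, 6, 4, 3, 4, 4, 5, 5, 5]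
def rw8147 : List ℕ := [0, 7, 4, 1, 3, 1, 6, 0, 2, 0, 5, 6, 1, 3, 1, 6, 3, 6, 5, 6, 3, 7, 2, 7, 4, 7, 2, 7, 0, 2]
def rw8148 : List ℕ := [2, 7, 3, 3, 1, 2, 0, 2, 2, 6, 3, 6, 5, 6, 0, 2, 5, 6, 1, 2, 3, 3, 0, 7, 4, 3, 1, 7, 4, 7]
def rw8149 : List ℕ := [3, 1, 7, 4, 7, 2, 7, 3, 3, 1, 6, 0, 2, 2, 6, 3, 6, 5, 6, 0, 2, 5, 6, 1, 2, 7, 3, 0, 7, 4]
def rw8150 : List ℕ := [4, 6, 2, 4, 4, 1, 5, 5, 1, 0, 0, 4, 4, 0, 5, 5, 3, 7, 5, 6, 0, 4, 7, 5, 1, 4, 6, 5, 1, 7]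
def rw8151 : List ℕ := [2, 7, 0, 2, 4, 2, 1, 3, 1, 0, 0, 2, 0, 3, 5, 3, 1, 6, 3, 3, 3, 1, 7, 4, 1, 5, 6, 0, 2, 2]
def rw8152 : List ℕ := [0, 5, 0, 2, 4, 2, 6, 3, 7, 2, 7, 3, 5, 3, 1, 4, 1, 4, 2, 6, 3, 3, 1, 6, 0, 2, 2, 7, 3, 5]
def rw8153 : List ℕ := [2, 7, 0, 2, 6, 3, 3, 5, 5, 4, 2, 2, 7, 3, 1, 6, 3, 3, 5, 1, 3, 1, 1, 4, 0, 0, 2, 0, 4, 2]
def rw8154 : List ℕ := [6, 3, 3, 5, 7, 4, 2, 2, 7, 3, 1, 6, 3, 3, 5, 1, 3, 1, 1, 6, 0, 0, 2, 0, 4, 2, 2, 7, 0, 2]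
def rw8155 : List ℕ := [2, 7, 2, 5, 3, 6, 3, 6, 2, 6, 3, 3, 5, 6, 3, 3, 5, 1, 4, 0, 4, 2, 2, 7, 4, 2, 2, 7, 3, 7]
def rw8156 : List ℕ := [7, 1, 4, 1, 3, 5, 7, 2, 7, 5, 1, 4, 6, 3, 6, 4, 2, 0, 5, 0, 6, 3, 6, 3, 1, 0, 0, 2, 7, 2]
def rw8157 : List ℕ := [2, 7, 5, 1, 4, 6, 3, 6, 4, 2, 0, 5, 0, 6, 3, 6, 3, 1, 0, 0, 2, 7, 2, 7, 1, 4, 1, 3, 5, 7]
def rw8158 : List ℕ := [4, 7, 4, 1, 3, 1, 0, 0, 2, 0, 5, 6, 5, 1, 3, 4, 3, 1, 5, 1, 7, 1, 6, 0, 4, 0, 2, 5, 2, 0]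
def rw8159 : List ℕ := [4, 4, 2, 6, 6, 6, 3, 7, 3, 4, 5, 5, 2, 6, 2, 7, 7, 7, 3, 5, 5, 6, 6, 3, 3, 4, 2, 2, 7, 7]
def rw8160 : List ℕ := [6, 3, 3, 6, 2, 2, 7, 7, 4, 4, 2, 6, 6, 6, 3, 7, 3, 4, 7, 5, 2, 6, 2, 7, 7, 7, 3, 5, 5, 6]
def rw8161 : List ℕ := [2, 7, 7, 7, 3, 5, 5, 6, 6, 3, 3, 6, 2, 2, 7, 7, 4, 4, 2, 6, 6, 6, 3, 7, 3, 4, 7, 5, 2, 6]
def rw8162 : List ℕ := [4, 1, 3, 1, 1, 4, 0, 0, 2, 0, 5, 6, 3, 6, 3, 4, 3, 6, 3, 6, 5, 7, 2, 7, 2, 5, 2, 7, 2, 7]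
def rw8163 : List ℕ := [2, 0, 2, 7, 0, 2, 4, 1, 3, 5, 6, 3, 1, 2, 7, 4, 2, 0, 5, 3, 1, 6, 3, 1, 3, 1, 1, 0, 0, 0]
def rw8164 : List ℕ := [2, 0, 5, 7, 2, 7, 2, 5, 3, 6, 3, 6, 4, 1, 3, 5, 7, 2, 7, 5, 3, 1, 4, 0, 2, 4, 6, 3, 6, 4]
def rw8165 : List ℕ := [4, 4, 1, 1, 1, 2, 0, 0, 0, 5, 5, 2, 1, 5, 5, 7, 0, 2, 6, 4, 3, 5, 7, 3, 1, 6, 4, 4, 0, 3]
def rw8166 : List ℕ := [3, 1, 3, 7, 4, 0, 3, 1, 0, 0, 2, 1, 5, 6, 2, 0, 2, 6, 3, 6, 5, 6, 2, 1, 3, 7, 4, 7, 2, 7]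
def rw8167 : List ℕ := [4, 7, 2, 0, 6, 5, 2, 0, 6, 1, 7, 1, 3, 4, 7, 1, 3, 6, 5, 2, 0, 6, 3, 1, 0, 0, 2, 7, 1, 3]
def rw8168 : List ℕ := [6, 6, 3, 1, 2, 7, 7, 5, 3, 0, 5, 6, 3, 3, 6, 4, 4, 1, 0, 0, 5, 5, 7, 2, 2, 7, 4, 1, 2, 4]
def rw8169 : List ℕ := [4, 1, 2, 7, 3, 3, 5, 3, 1, 2, 0, 2, 4, 2, 2, 6, 3, 0, 5, 6, 4, 6, 3, 6, 3, 7, 2, 7, 5, 7]
def rw8170 : List ℕ := [7, 2, 7, 1, 6, 0, 6, 3, 6, 1, 6, 3, 3, 5, 6, 3, 3, 5, 3, 7, 2, 4, 2, 2, 7, 4, 2, 2, 7, 0]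
def rw8171 : List ℕ := [2, 1, 6, 6, 2, 1, 6, 6, 1, 3, 1, 2, 0, 7, 7, 0, 3, 7, 7, 0, 3, 7, 7, 3, 1, 0, 0, 2, 6, 6]
def rw8172 : List ℕ := [7, 3, 1, 2, 0, 2, 6, 6, 2, 1, 6, 6, 2, 1, 6, 6, 1, 3, 3, 2, 0, 7, 7, 0, 3, 7, 7, 0, 3, 7]
def rw8173 : List ℕ := [7, 7, 0, 3, 7, 7, 3, 1, 2, 0, 2, 6, 6, 2, 1, 6, 6, 2, 1, 6, 6, 1, 3, 3, 2, 0, 7, 7, 0, 3]
def rw8174 : List ℕ := [7, 7, 3, 1, 2, 0, 2, 6, 6, 2, 1, 6, 6, 2, 1, 6, 6, 1, 3, 3, 2, 0, 7, 7, 0, 3, 7, 7, 0, 3]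
def rw8175 : List ℕ := [7, 7, 0, 3, 7, 7, 0, 3, 7, 7, 3, 1, 4, 0, 2, 6, 6, 2, 1, 6, 6, 2, 1, 6, 6, 1, 3, 5, 2, 0]
def rw8176 : List ℕ := [6, 1, 3, 7, 3, 3, 1, 4, 0, 2, 2, 6, 2, 0, 7, 0, 2, 6, 1, 3, 7, 2, 5, 3, 6, 2, 0, 7, 3, 1]
def rw8177 : List ℕ := [3, 6, 1, 7, 2, 7, 4, 1, 4, 3, 6, 3, 6, 0, 3, 3, 1, 0, 0, 2, 2, 1, 7, 2, 7, 2, 5, 0, 5, 6]
def rw8178 : List ℕ := [4, 1, 7, 3, 1, 6, 3, 4, 1, 4, 3, 1, 2, 0, 2, 5, 0, 5, 2, 7, 0, 2, 6, 0, 5, 3, 5, 3, 4, 2]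
def rw8179 : List ℕ := [4, 4, 2, 5, 2, 7, 3, 1, 0, 0, 2, 6, 3, 4, 3, 5, 5, 0, 5, 3, 3, 5, 7, 1, 6, 4, 2, 2, 4, 1]
def rw8180 : List ℕ := [5, 5, 0, 5, 3, 3, 5, 7, 1, 6, 4, 2, 2, 4, 1, 4, 4, 2, 5, 2, 7, 3, 1, 0, 0, 2, 6, 3, 4, 3]
def rw8181 : List ℕ := [1, 7, 5, 6, 1, 4, 1, 4, 4, 3, 7, 3, 1, 0, 0, 2, 6, 2, 5, 5, 0, 5, 0, 7, 4, 6, 0, 6, 1, 7]
def rw8182 : List ℕ := [1, 4, 1, 4, 4, 3, 7, 3, 1, 4, 0, 2, 6, 2, 5, 5, 0, 5, 0, 7, 4, 6, 0, 6, 5, 7, 1, 7, 5, 6]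
def rw8183 : List ℕ := [2, 7, 2, 2, 1, 4, 0, 3, 3, 6, 3, 6, 0, 4, 1, 4, 3, 6, 3, 6, 5, 7, 2, 7, 2, 5, 0, 5, 1, 7]
def rw8184 : List ℕ := [1, 7, 3, 1, 7, 5, 3, 6, 3, 7, 2, 7, 2, 4, 6, 0, 2, 6, 0, 5, 7, 1, 3, 1, 6, 0, 2, 0, 6, 4]
def rw8185 : List ℕ := [0, 2, 5, 0, 7, 2, 7, 1, 1, 2, 0, 0, 6, 3, 6, 1, 4, 3, 1, 7, 4, 3, 1, 7, 3, 6, 0, 2, 5, 6]
def rw8186 : List ℕ := [1, 0, 0, 4, 0, 4, 0, 6, 3, 0, 4, 0, 4, 0, 6, 3, 1, 2, 7, 1, 5, 1, 5, 1, 2, 7, 1, 5, 1, 5]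
def rw8187 : List ℕ := [4, 1, 4, 2, 2, 4, 1, 4, 0, 5, 3, 3, 5, 0, 5, 5, 7, 4, 1, 3, 5, 6, 5, 7, 4, 2, 0, 5, 6, 4]
def rw8188 : List ℕ := [5, 6, 4, 4, 1, 4, 2, 2, 4, 1, 6, 0, 5, 3, 3, 5, 0, 5, 5, 7, 4, 1, 3, 5, 6, 7, 7, 4, 2, 0]
def rw8189 : List ℕ := [4, 0, 6, 3, 4, 0, 6, 3, 4, 1, 5, 2, 7, 1, 5, 2, 7, 1, 5, 6, 5, 6, 3, 1, 0, 0, 2, 7, 4, 7]
def rw8190 : List ℕ := [7, 4, 0, 6, 3, 4, 0, 6, 3, 4, 1, 5, 2, 7, 1, 5, 2, 7, 1, 5, 6, 5, 6, 3, 1, 0, 0, 2, 7, 4]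
def rw8191 : List ℕ := [5, 6, 3, 1, 0, 0, 2, 7, 4, 7, 4, 0, 6, 3, 4, 0, 6, 3, 4, 1, 5, 2, 7, 1, 5, 2, 7, 1, 5, 6]
def rw8192 : List ℕ := [5, 2, 7, 1, 5, 6, 5, 6, 3, 1, 2, 0, 2, 7, 4, 7, 4, 0, 6, 3, 4, 0, 6, 3, 4, 3, 5, 2, 7, 1]
def rw8193 : List ℕ := [2, 0, 6, 0, 6, 5, 6, 5, 1, 6, 0, 4, 7, 4, 7, 1, 7, 1, 3, 6, 5, 2, 7, 4, 7, 5, 6, 3, 4, 7]
def rw8194 : List ℕ := [7, 3, 1, 7, 2, 4, 6, 3, 3, 1, 6, 0, 2, 2, 7, 5, 3, 6, 0, 2, 6, 4, 1, 7, 2, 7, 3, 6, 0, 5]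
def rw8195 : List ℕ := [4, 7, 2, 0, 4, 7, 3, 1, 0, 0, 2, 6, 5, 1, 3, 6, 5, 1, 3, 6, 5, 2, 2, 1, 3, 3, 4, 7, 2, 0]
def rw8196 : List ℕ := [3, 1, 2, 0, 2, 6, 5, 1, 3, 6, 5, 1, 3, 6, 5, 2, 2, 3, 3, 3, 4, 7, 2, 0, 4, 7, 2, 0, 4, 7]
def rw8197 : List ℕ := [7, 4, 3, 5, 6, 3, 1, 3, 6, 3, 6, 5, 6, 3, 1, 3, 1, 2, 0, 2, 0, 2, 7, 4, 7, 2, 7, 2, 0, 2]
def rw8198 : List ℕ := [1, 7, 2, 7, 1, 3, 1, 6, 0, 2, 0, 6, 3, 6, 0, 2, 5, 2, 7, 2, 7, 4, 7, 5, 6, 3, 6, 3, 4, 3]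
def rw8199 : List ℕ := [5, 7, 3, 1, 6, 4, 0, 4, 4, 3, 5, 5, 1, 5, 7, 0, 2, 6, 4, 0, 4, 4, 3, 1, 2, 0, 2, 5, 5, 1]
def rw8200 : List ℕ := [4, 3, 1, 0, 0, 2, 5, 6, 2, 0, 2, 6, 3, 4, 7, 4, 7, 4, 1, 5, 6, 5, 6, 5, 2, 7, 3, 1, 3, 7]
def rw8201 : List ℕ := [5, 2, 7, 3, 1, 3, 7, 4, 3, 1, 6, 0, 2, 5, 6, 2, 0, 2, 6, 3, 4, 7, 4, 7, 4, 7, 5, 6, 5, 6]
def rw8202 : List ℕ := [3, 6, 2, 1, 3, 7, 2, 4, 6, 0, 2, 6, 0, 5, 7, 0, 3, 1, 0, 0, 2, 1, 6, 4, 1, 7, 3, 1, 7, 5]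
def rw8203 : List ℕ := [5, 5, 2, 5, 7, 7, 1, 3, 6, 6, 5, 7, 7, 2, 0, 6, 6, 4, 3, 4, 4, 0, 3, 3, 1, 4, 0, 2, 2, 1]
def rw8204 : List ℕ := [6, 4, 3, 4, 4, 0, 3, 3, 1, 4, 0, 2, 2, 1, 5, 5, 2, 5, 7, 7, 1, 3, 6, 6, 5, 7, 7, 2, 0, 6]
def rw8205 : List ℕ := [2, 0, 6, 6, 5, 1, 2, 0, 4, 0, 3, 1, 2, 0, 2, 1, 5, 1, 3, 0, 4, 7, 7, 1, 3, 6, 6, 3, 7, 7]
def rw8206 : List ℕ := [3, 0, 4, 7, 7, 1, 3, 6, 6, 5, 7, 7, 2, 0, 6, 6, 5, 1, 2, 0, 4, 0, 3, 1, 4, 0, 2, 1, 5, 1]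
def rw8207 : List ℕ := [6, 2, 1, 5, 3, 1, 4, 2, 7, 3, 5, 0, 2, 4, 0, 3, 7, 0, 2, 6, 2, 1, 1, 6, 0, 0, 3, 7, 3, 1]
def rw8208 : List ℕ := [2, 1, 5, 3, 1, 4, 2, 7, 3, 5, 0, 2, 4, 0, 3, 7, 0, 2, 6, 2, 1, 1, 6, 0, 0, 3, 7, 3, 1, 6]
def rw8209 : List ℕ := [2, 7, 7, 1, 4, 2, 7, 5, 6, 5, 1, 5, 1, 4, 0, 4, 7, 4, 6, 3, 5, 0, 6, 6, 3, 3, 1, 0, 0, 2]
def rw8210 : List ℕ := [2, 7, 2, 5, 2, 7, 2, 7, 4, 3, 1, 3, 1, 2, 0, 2, 0, 2, 5, 6, 3, 6, 3, 4, 3, 6, 3, 6, 3, 7]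
def rw8211 : List ℕ := [2, 6, 3, 7, 2, 7, 3, 1, 6, 4, 2, 4, 1, 3, 0, 5, 3, 1, 6, 0, 2, 4, 1, 2, 0, 5, 3, 5, 7, 0]
def rw8212 : List ℕ := [1, 4, 7, 1, 3, 6, 3, 6, 6, 6, 5, 2, 1, 2, 0, 3, 4, 7, 7, 7, 2, 7, 2, 0, 6, 5, 0, 5, 3, 4]
def rw8213 : List ℕ := [2, 4, 0, 7, 3, 5, 6, 3, 3, 2, 7, 4, 2, 6, 1, 5, 3, 1, 5, 5, 0, 3, 1, 2, 0, 2, 1, 4, 4, 0]
def rw8214 : List ℕ := [2, 1, 4, 4, 0, 2, 4, 0, 7, 3, 5, 6, 3, 5, 2, 7, 4, 2, 6, 1, 5, 3, 1, 5, 5, 0, 3, 1, 4, 0]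
def rw8215 : List ℕ := [3, 1, 4, 0, 2, 1, 4, 4, 0, 2, 4, 0, 7, 3, 5, 6, 3, 5, 2, 7, 4, 2, 6, 1, 5, 3, 1, 5, 5, 0]
def rw8216 : List ℕ := [4, 1, 2, 0, 5, 2, 7, 1, 2, 7, 0, 5, 3, 5, 6, 6, 3, 3, 2, 7, 7, 4, 2, 4, 1, 6, 3, 0, 6, 3]
def rw8217 : List ℕ := [3, 5, 2, 7, 2, 7, 3, 3, 1, 2, 0, 2, 2, 6, 3, 6, 3, 4, 2, 6, 3, 0, 2, 6, 3, 7, 3, 1, 2, 7]
def rw8218 : List ℕ := [7, 2, 7, 1, 5, 5, 4, 0, 6, 3, 6, 5, 1, 3, 6, 3, 6, 1, 3, 1, 4, 0, 2, 0, 7, 2, 7, 2, 0, 4]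
def rw8219 : List ℕ := [2, 7, 2, 6, 4, 1, 7, 3, 1, 0, 0, 2, 6, 0, 5, 7, 3, 6, 3, 6, 0, 6, 4, 6, 1, 7, 5, 7, 1, 7]
def rw8220 : List ℕ := [2, 6, 4, 1, 7, 3, 1, 0, 0, 2, 6, 0, 5, 7, 3, 6, 3, 6, 0, 6, 4, 6, 1, 7, 5, 7, 1, 7, 2, 7]
def rw8221 : List ℕ := [1, 7, 3, 1, 2, 0, 2, 6, 0, 5, 7, 3, 6, 3, 6, 0, 6, 4, 6, 3, 7, 5, 7, 1, 7, 2, 7, 2, 6, 4]
def rw8222 : List ℕ := [7, 2, 7, 2, 6, 4, 1, 7, 3, 1, 6, 0, 2, 6, 0, 5, 7, 3, 6, 3, 6, 0, 6, 4, 6, 7, 7, 5, 7, 1]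
def rw8223 : List ℕ := [1, 7, 4, 5, 5, 6, 0, 2, 5, 6, 5, 6, 3, 6, 3, 4, 3, 1, 4, 0, 2, 5, 2, 7, 2, 7, 4, 7, 4, 3]
def rw8224 : List ℕ := [6, 0, 6, 3, 1, 0, 0, 2, 7, 1, 7, 2, 0, 6, 0, 6, 0, 6, 0, 6, 1, 7, 1, 7, 1, 7, 1, 7, 1, 3]
def rw8225 : List ℕ := [0, 7, 0, 2, 6, 1, 3, 7, 7, 6, 2, 0, 7, 3, 1, 6, 1, 3, 7, 3, 1, 3, 1, 6, 0, 2, 0, 2, 6, 2]
def rw8226 : List ℕ := [1, 7, 4, 7, 2, 7, 1, 2, 3, 3, 0, 6, 3, 6, 5, 6, 0, 2, 5, 6, 3, 3, 1, 2, 0, 2, 2, 7, 4, 3]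
def rw8227 : List ℕ := [4, 7, 2, 7, 1, 2, 7, 3, 0, 6, 3, 6, 5, 6, 0, 2, 5, 6, 3, 3, 1, 6, 0, 2, 2, 7, 4, 3, 1, 7]
def rw8228 : List ℕ := [2, 7, 1, 1, 1, 2, 0, 0, 0, 6, 3, 6, 1, 1, 3, 6, 3, 6, 0, 2, 3, 3, 1, 7, 2, 7, 2, 0, 0, 7]
def rw8229 : List ℕ := [1, 2, 0, 2, 4, 6, 3, 6, 3, 5, 3, 6, 3, 6, 3, 5, 3, 4, 2, 7, 2, 7, 2, 4, 2, 7, 2, 7, 5, 3]
def rw8230 : List ℕ := [2, 7, 5, 1, 4, 6, 3, 7, 5, 6, 0, 4, 4, 4, 1, 5, 5, 1, 0, 0, 4, 4, 0, 5, 5, 5, 1, 7, 4, 6]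
def rw8231 : List ℕ := [4, 4, 4, 1, 5, 5, 1, 0, 0, 4, 4, 0, 5, 5, 5, 1, 7, 4, 6, 2, 7, 5, 1, 4, 6, 3, 7, 5, 6, 0]
def rw8232 : List ℕ := [4, 6, 2, 7, 5, 5, 4, 6, 3, 7, 5, 6, 0, 4, 4, 4, 1, 5, 5, 1, 4, 0, 4, 4, 0, 5, 5, 5, 1, 7]
def rw8233 : List ℕ := [5, 1, 7, 1, 5, 3, 1, 6, 0, 2, 4, 0, 6, 0, 4, 7, 2, 0, 4, 3, 6, 2, 7, 3, 7, 2, 5, 1, 3, 6]
def rw8234 : List ℕ := [2, 6, 0, 5, 1, 4, 1, 7, 3, 7, 5, 1, 4, 1, 7, 3, 7, 5, 1, 0, 0, 4, 6, 2, 6, 0, 5, 0, 4, 6]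
def rw8235 : List ℕ := [3, 7, 5, 1, 0, 0, 4, 6, 2, 6, 0, 5, 0, 4, 6, 2, 6, 0, 5, 1, 4, 1, 7, 3, 7, 5, 1, 4, 1, 7]
def rw8236 : List ℕ := [7, 5, 1, 4, 1, 7, 3, 7, 5, 1, 2, 0, 4, 6, 2, 6, 0, 5, 0, 4, 6, 2, 6, 0, 5, 3, 4, 1, 7, 3]
def rw8237 : List ℕ := [3, 7, 5, 1, 4, 1, 7, 3, 7, 5, 1, 4, 0, 4, 6, 2, 6, 0, 5, 0, 4, 6, 2, 6, 0, 5, 5, 4, 1, 7]
def rw8238 : List ℕ := [3, 7, 5, 1, 4, 0, 4, 6, 2, 6, 0, 5, 0, 4, 6, 2, 6, 0, 5, 5, 4, 1, 7, 3, 7, 5, 1, 4, 1, 7]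
def rw8239 : List ℕ := [5, 2, 7, 5, 2, 5, 1, 6, 0, 4, 3, 4, 6, 3, 4, 4, 3, 4, 7, 4, 2, 2, 7, 3, 3, 5, 6, 5, 2, 5]
def rw8240 : List ℕ := [3, 4, 3, 1, 5, 1, 7, 1, 3, 1, 0, 0, 2, 0, 6, 0, 4, 0, 2, 5, 2, 0, 4, 7, 4, 1, 5, 6, 5, 1]
def rw8241 : List ℕ := [5, 7, 2, 7, 3, 1, 0, 0, 2, 6, 3, 6, 4, 1, 3, 5, 7, 2, 7, 5, 2, 1, 3, 4, 6, 3, 6, 4, 2, 0]
def rw8242 : List ℕ := [7, 7, 1, 2, 7, 5, 2, 5, 1, 1, 1, 0, 0, 0, 0, 4, 3, 4, 6, 3, 0, 6, 6, 0, 0, 5, 1, 4, 1, 1]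
def rw8243 : List ℕ := [0, 3, 1, 2, 0, 2, 1, 5, 6, 3, 1, 3, 6, 3, 6, 5, 6, 2, 3, 3, 7, 4, 7, 2, 7, 2, 0, 2, 7, 4]
def rw8244 : List ℕ := [7, 3, 1, 6, 2, 1, 5, 3, 1, 4, 0, 2, 4, 0, 3, 7, 0, 2, 6, 1, 3, 3, 0, 5, 5, 4, 1, 2, 2, 0]
def rw8245 : List ℕ := [0, 2, 6, 1, 3, 3, 0, 5, 7, 4, 1, 2, 2, 0, 7, 3, 1, 6, 2, 1, 5, 3, 1, 6, 0, 2, 4, 0, 3, 7]
def rw8246 : List ℕ := [2, 0, 5, 0, 5, 2, 7, 3, 1, 6, 1, 7, 0, 2, 6, 3, 4, 1, 4, 1, 3, 5, 0, 3, 1, 0, 0, 2, 1, 4]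
def rw8247 : List ℕ := [2, 7, 4, 7, 4, 5, 5, 6, 5, 6, 3, 4, 7, 4, 3, 4, 0, 6, 5, 1, 4, 0, 4, 7, 1, 5, 2, 5, 6, 5]
def rw8248 : List ℕ := [6, 5, 1, 2, 2, 4, 4, 2, 1, 0, 0, 3, 5, 5, 3, 3, 0, 4, 7, 7, 5, 2, 7, 4, 1, 5, 6, 3, 4, 6]
def rw8249 : List ℕ := [5, 6, 3, 4, 6, 6, 5, 1, 2, 2, 4, 4, 2, 1, 2, 0, 3, 5, 5, 3, 3, 0, 4, 7, 7, 5, 2, 7, 4, 3]
def rw8250 : List ℕ := [6, 2, 2, 7, 4, 1, 6, 1, 3, 3, 1, 6, 0, 2, 2, 0, 7, 0, 5, 6, 3, 3, 7, 0, 5, 6, 7, 7, 4, 1]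
def rw8251 : List ℕ := [3, 4, 3, 5, 2, 5, 2, 6, 0, 2, 6, 0, 2, 6, 3, 3, 1, 2, 0, 2, 2, 7, 3, 1, 7, 3, 1, 7, 3, 4]
def rw8252 : List ℕ := [0, 2, 1, 4, 1, 2, 0, 5, 3, 5, 7, 0, 2, 6, 1, 7, 3, 1, 6, 4, 2, 4, 1, 3, 0, 5, 0, 3, 1, 0]
def rw8253 : List ℕ := [5, 0, 3, 1, 0, 0, 2, 1, 4, 1, 2, 0, 5, 3, 5, 7, 0, 2, 6, 1, 7, 3, 1, 6, 4, 2, 4, 1, 3, 0]
def rw8254 : List ℕ := [7, 1, 2, 1, 3, 1, 1, 1, 0, 0, 0, 0, 2, 0, 3, 0, 6, 0, 6, 3, 6, 0, 6, 1, 7, 1, 7, 2, 7, 1]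
def rw8255 : List ℕ := [5, 3, 1, 0, 0, 2, 4, 3, 1, 5, 0, 4, 7, 7, 1, 7, 1, 6, 1, 7, 0, 6, 0, 6, 6, 5, 1, 4, 0, 2]
def rw8256 : List ℕ := [4, 7, 7, 1, 7, 1, 6, 3, 7, 0, 6, 0, 6, 6, 5, 1, 4, 0, 2, 5, 3, 1, 2, 0, 2, 4, 3, 1, 5, 0]
def rw8257 : List ℕ := [1, 7, 1, 6, 7, 7, 0, 6, 0, 6, 6, 5, 1, 4, 0, 2, 5, 3, 1, 6, 0, 2, 4, 3, 1, 5, 0, 4, 7, 7]
def rw8258 : List ℕ := [4, 3, 1, 3, 0, 5, 6, 3, 0, 3, 1, 6, 0, 2, 1, 2, 7, 4, 1, 2, 0, 2, 5, 3, 1, 6, 7, 7, 0, 2]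
def rw8259 : List ℕ := [4, 7, 2, 5, 6, 5, 1, 0, 0, 4, 7, 4, 3, 6, 5, 6, 3, 4, 0, 6, 0, 6, 1, 7, 1, 7, 1, 5, 2, 7]
def rw8260 : List ℕ := [4, 2, 4, 4, 3, 4, 3, 6, 6, 3, 4, 1, 2, 0, 5, 2, 7, 7, 2, 5, 2, 5, 5, 3, 5, 7, 5, 3, 4, 6]
def rw8261 : List ℕ := [7, 1, 4, 0, 5, 1, 4, 3, 1, 2, 0, 2, 5, 0, 4, 1, 5, 0, 6, 3, 7, 5, 6, 3, 3, 2, 7, 4, 6, 2]
def rw8262 : List ℕ := [5, 6, 3, 7, 2, 7, 4, 6, 2, 7, 1, 4, 0, 5, 1, 4, 3, 1, 6, 0, 2, 5, 0, 4, 1, 5, 0, 6, 3, 7]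
def rw8263 : List ℕ := [1, 4, 3, 1, 6, 0, 2, 5, 0, 4, 1, 5, 0, 6, 3, 7, 5, 6, 3, 7, 2, 7, 4, 6, 2, 7, 1, 4, 0, 5]
def rw8264 : List ℕ := [5, 7, 2, 6, 5, 1, 1, 0, 0, 0, 4, 7, 3, 6, 4, 6, 3, 1, 6, 2, 1, 3, 1, 2, 0, 3, 7, 0, 2, 7]
def rw8265 : List ℕ := [6, 2, 1, 3, 1, 2, 0, 3, 7, 0, 2, 7, 5, 7, 2, 6, 5, 1, 1, 0, 0, 0, 4, 7, 3, 6, 4, 6, 3, 1]
def rw8266 : List ℕ := [5, 1, 1, 2, 0, 0, 4, 7, 3, 6, 4, 6, 3, 1, 6, 2, 1, 3, 3, 2, 0, 3, 7, 0, 2, 7, 5, 7, 2, 6]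
def rw8267 : List ℕ := [6, 5, 1, 1, 4, 0, 0, 4, 7, 3, 6, 4, 6, 3, 1, 6, 2, 1, 3, 5, 2, 0, 3, 7, 0, 2, 7, 5, 7, 2]
def rw8268 : List ℕ := [7, 0, 2, 7, 5, 7, 2, 6, 5, 1, 1, 4, 0, 0, 4, 7, 3, 6, 4, 6, 3, 1, 6, 2, 1, 3, 5, 2, 0, 3]
def rw8269 : List ℕ := [6, 3, 1, 6, 2, 1, 3, 7, 2, 0, 3, 7, 0, 2, 7, 5, 7, 2, 6, 5, 1, 1, 6, 0, 0, 4, 7, 3, 6, 4]
def rw8270 : List ℕ := [2, 6, 5, 1, 1, 6, 0, 0, 4, 7, 3, 6, 4, 6, 3, 1, 6, 2, 1, 3, 7, 2, 0, 3, 7, 0, 2, 7, 5, 7]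
def rw8271 : List ℕ := [5, 7, 2, 6, 5, 1, 1, 6, 0, 0, 4, 7, 3, 6, 4, 6, 3, 1, 6, 2, 1, 3, 7, 2, 0, 3, 7, 0, 2, 7]
def rw8272 : List ℕ := [6, 5, 1, 1, 6, 0, 0, 4, 7, 3, 6, 4, 6, 3, 1, 6, 2, 1, 3, 7, 2, 0, 3, 7, 0, 2, 7, 5, 7, 2]
def rw8273 : List ℕ := [0, 6, 5, 1, 4, 7, 1, 5, 6, 5, 6, 0, 6, 5, 7, 2, 7, 1, 0, 0, 6, 3, 6, 4, 7, 1, 7, 4, 7, 4]
def rw8274 : List ℕ := [6, 5, 7, 2, 7, 1, 6, 0, 6, 3, 6, 4, 7, 1, 7, 4, 7, 4, 0, 6, 5, 7, 4, 7, 1, 5, 6, 5, 6, 0]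
def rw8275 : List ℕ := [1, 1, 2, 0, 0, 2, 5, 5, 2, 5, 7, 7, 1, 3, 6, 6, 3, 3, 2, 7, 7, 2, 0, 6, 6, 4, 3, 4, 4, 3]
def rw8276 : List ℕ := [5, 7, 7, 1, 3, 6, 6, 3, 7, 2, 7, 7, 2, 0, 6, 6, 4, 3, 4, 4, 3, 1, 1, 6, 0, 0, 2, 5, 5, 2]
def rw8277 : List ℕ := [2, 7, 5, 5, 0, 7, 0, 3, 1, 7, 3, 6, 0, 2, 1, 6, 1, 4, 4, 6, 3, 6, 2, 1, 1, 2, 0, 0, 3, 7]
def rw8278 : List ℕ := [7, 3, 1, 7, 3, 4, 3, 4, 3, 3, 1, 0, 0, 2, 2, 5, 2, 5, 2, 6, 0, 2, 6, 0, 2, 6, 1, 7, 3, 1]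
def rw8279 : List ℕ := [1, 7, 3, 4, 3, 4, 3, 3, 1, 6, 0, 2, 2, 5, 2, 5, 2, 6, 0, 2, 6, 0, 2, 6, 7, 7, 3, 1, 7, 3]
def rw8280 : List ℕ := [1, 7, 3, 1, 7, 3, 4, 3, 4, 3, 3, 1, 6, 0, 2, 2, 5, 2, 5, 2, 6, 0, 2, 6, 0, 2, 6, 7, 7, 3]
def rw8281 : List ℕ := [4, 1, 3, 5, 3, 5, 2, 7, 1, 3, 1, 0, 0, 2, 0, 6, 3, 4, 2, 4, 2, 0, 5, 2, 7, 3, 1, 2, 6, 3]
def rw8282 : List ℕ := [7, 3, 7, 2, 6, 3, 4, 1, 3, 5, 3, 5, 2, 7, 1, 3, 1, 6, 0, 2, 0, 6, 3, 4, 2, 4, 2, 0, 5, 2]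
def rw8283 : List ℕ := [6, 3, 6, 3, 1, 7, 4, 3, 5, 6, 0, 2, 7, 2, 7, 1, 5, 6, 3, 1, 3, 1, 2, 0, 2, 0, 2, 7, 4, 0]
def rw8284 : List ℕ := [3, 6, 3, 1, 7, 4, 5, 5, 6, 0, 2, 7, 2, 7, 1, 5, 6, 3, 1, 3, 1, 4, 0, 2, 0, 2, 7, 4, 0, 6]
def rw8285 : List ℕ := [3, 3, 5, 2, 5, 7, 0, 5, 6, 3, 5, 1, 4, 2, 7, 4, 1, 6, 4, 3, 4, 2, 2, 1, 2, 1, 0, 0, 3, 0]
def rw8286 : List ℕ := [3, 3, 5, 2, 5, 7, 0, 5, 6, 3, 5, 3, 4, 2, 7, 4, 1, 6, 4, 3, 4, 2, 2, 1, 2, 1, 2, 0, 3, 0]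
def rw8287 : List ℕ := [3, 4, 2, 2, 1, 2, 1, 4, 0, 3, 0, 3, 3, 5, 2, 5, 7, 0, 5, 6, 3, 5, 5, 4, 2, 7, 4, 1, 6, 4]
def rw8288 : List ℕ := [7, 3, 5, 2, 6, 1, 3, 7, 0, 2, 6, 2, 0, 7, 1, 3, 1, 4, 0, 2, 0, 6, 1, 3, 7, 3, 1, 6, 2, 0]
def rw8289 : List ℕ := [4, 7, 2, 7, 1, 3, 1, 6, 0, 2, 0, 6, 3, 6, 5, 6, 3, 3, 1, 3, 5, 6, 7, 7, 4, 2, 0, 2, 2, 7]
def rw8290 : List ℕ := [7, 2, 7, 2, 5, 2, 7, 2, 7, 4, 3, 3, 1, 0, 0, 2, 2, 5, 6, 3, 6, 3, 4, 3, 6, 3, 6, 2, 1, 3]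
def rw8291 : List ℕ := [0, 2, 1, 2, 7, 2, 4, 2, 4, 2, 1, 4, 1, 6, 7, 7, 0, 5, 0, 3, 5, 3, 5, 3, 6, 3, 0, 3, 1, 6]
def rw8292 : List ℕ := [5, 3, 5, 3, 6, 3, 0, 3, 1, 6, 0, 2, 1, 2, 7, 2, 4, 2, 4, 2, 1, 4, 1, 6, 7, 7, 0, 5, 0, 3]
def rw8293 : List ℕ := [6, 3, 3, 1, 4, 0, 2, 2, 7, 4, 1, 4, 3, 1, 3, 4, 2, 6, 3, 5, 2, 7, 3, 5, 2, 0, 2, 5, 0, 5]
def rw8294 : List ℕ := [6, 2, 0, 7, 0, 2, 6, 2, 3, 3, 7, 3, 1, 6, 1, 3, 7, 0, 2, 6, 1, 3, 1, 2, 0, 2, 0, 7, 3, 1]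
def rw8295 : List ℕ := [2, 6, 2, 5, 3, 7, 3, 1, 6, 1, 3, 7, 0, 2, 6, 1, 3, 1, 4, 0, 2, 0, 7, 3, 1, 6, 2, 0, 7, 0]
def rw8296 : List ℕ := [7, 3, 3, 1, 7, 0, 3, 1, 2, 0, 2, 1, 6, 0, 2, 2, 6, 3, 6, 3, 4, 2, 6, 3, 7, 3, 5, 2, 7, 2]
def rw8297 : List ℕ := [2, 2, 0, 2, 5, 6, 3, 0, 3, 1, 6, 0, 2, 1, 2, 7, 4, 3, 1, 3, 3, 5, 3, 1, 6, 7, 7, 0, 2, 4]
def rw8298 : List ℕ := [0, 2, 7, 3, 1, 1, 3, 1, 1, 6, 0, 0, 2, 0]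
def rw8299 : List ℕ := [1, 3, 0, 3, 0, 2, 7, 3, 1, 2, 1, 2, 0, 2, 2, 1, 1, 6, 0, 0, 3, 3]
def rw8300 : List ℕ := [0, 2, 2, 1, 2, 2, 7, 3, 3, 0, 3, 3, 1, 3, 0, 3, 0, 3, 1, 6, 0, 2, 1, 2, 1, 2]
def rw8301 : List ℕ := [0, 5, 7, 4, 1, 4, 1, 1, 4, 1, 4, 1, 1, 6, 0, 0, 5, 0, 5, 0, 0, 5]
def rw8302 : List ℕ := [2, 2, 4, 4, 4, 7, 5, 5, 5, 3, 3, 5, 3, 1, 5, 1, 1, 6, 0, 0, 4, 0, 2, 4]
def rw8303 : List ℕ := [3, 0, 5, 1, 2, 1, 3, 4, 2, 7, 3, 5, 2, 0, 3, 0, 4, 1, 2, 1, 1, 1, 6, 0, 0, 0]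
def rw8304 : List ℕ := [4, 3, 1, 2, 1, 5, 7, 4, 0, 3, 0, 2, 5, 0, 3, 3, 3, 1, 1, 6, 0, 0, 2, 2, 2, 1]
def rw8305 : List ℕ := [1, 4, 2, 0, 0, 5, 0, 5, 7, 4, 1, 4, 1, 1, 3, 5, 0, 5, 3, 1, 1, 6, 0, 0, 2, 4]
def rw8306 : List ℕ := [0, 5, 1, 2, 0, 0, 4, 2, 7, 3, 5, 1, 1, 3, 0, 4, 1, 2, 2, 1, 1, 6, 0, 0, 3, 3]
def rw8307 : List ℕ := [0, 4, 0, 4, 4, 7, 5, 5, 1, 5, 1, 1, 5, 5, 1, 5, 1, 1, 6, 0, 0, 4, 0, 4, 4, 0]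
def rw8308 : List ℕ := [1, 2, 1, 2, 7, 3, 0, 3, 0, 5, 1, 2, 1, 3, 4, 1, 1, 6, 0, 0, 5, 2, 0, 3, 0, 4]
def rw8309 : List ℕ := [4, 1, 4, 2, 4, 1, 4, 1, 3, 7, 2, 0, 5, 0, 5, 3, 5, 0, 5, 1, 3, 1, 6, 0, 2, 0]
def rw8310 : List ℕ := [2, 4, 1, 3, 1, 4, 7, 5, 0, 2, 0, 5, 3, 1, 3, 5, 1, 3, 1, 6, 0, 2, 0, 4, 2, 0]
def rw8311 : List ℕ := [3, 4, 1, 3, 1, 4, 7, 5, 0, 2, 0, 5, 2, 0, 2, 5, 1, 3, 1, 6, 0, 2, 0, 4, 3, 1]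
def rw8312 : List ℕ := [0, 2, 5, 7, 4, 3, 1, 3, 4, 1, 3, 1, 4, 1, 3, 1, 6, 0, 2, 0, 5, 0, 2, 0, 5, 2]
def rw8313 : List ℕ := [4, 1, 3, 5, 0, 5, 3, 0, 5, 0, 5, 7, 4, 1, 4, 1, 2, 4, 1, 4, 2, 0, 5, 1, 6, 0]
def rw8314 : List ℕ := [3, 6, 7, 7, 2, 7, 1, 7, 2, 7, 1, 6, 0, 6, 3, 6, 0, 6]
def rw8315 : List ℕ := [2, 0, 0, 6, 0, 6, 3, 6, 0, 6, 5, 7, 1, 7, 2, 7, 1, 7, 1, 1, 3, 1, 1, 4, 0, 0]
def rw8316 : List ℕ := [3, 1, 1, 4, 0, 0, 2, 0, 7, 2, 7, 1, 7, 2, 7, 2, 5, 3, 6, 3, 6, 0, 6, 3, 6, 1]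
def rw8317 : List ℕ := [0, 6, 3, 6, 1, 3, 1, 1, 6, 0, 0, 2, 0, 7, 2, 7, 1, 7, 2, 7, 2, 7, 3, 6, 3, 6]
def rw8318 : List ℕ := [3, 1, 6, 3, 6, 0, 6, 3, 6, 3, 1, 1, 0, 0, 0, 2, 7, 2, 7, 1, 7, 2, 7, 0, 2, 1]
def rw8319 : List ℕ := [3, 0, 6, 3, 6, 2, 7, 3, 7, 2, 7, 1, 2, 0, 7, 2, 7, 1, 1, 6, 0, 0, 6, 3, 6, 1]
def rw8320 : List ℕ := [0, 0, 6, 3, 6, 1, 3, 0, 6, 3, 6, 2, 7, 3, 7, 2, 7, 1, 2, 0, 7, 2, 7, 1, 1, 6]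
def rw8321 : List ℕ := [5, 0, 7, 2, 7, 1, 1, 6, 0, 0, 6, 3, 6, 1, 4, 0, 6, 3, 6, 5, 7, 4, 7, 2, 7, 1]
def rw8322 : List ℕ := [6, 3, 6, 1, 4, 0, 6, 3, 6, 5, 7, 4, 7, 2, 7, 1, 5, 0, 7, 2, 7, 1, 1, 6, 0, 0]
def rw8323 : List ℕ := [7, 2, 7, 1, 5, 3, 4, 0, 6, 3, 6, 5, 0, 7, 2, 7, 1, 1, 2, 0, 0, 6, 3, 6, 1, 4]
def rw8324 : List ℕ := [4, 7, 2, 7, 1, 5, 7, 4, 0, 6, 3, 6, 5, 0, 7, 2, 7, 1, 1, 6, 0, 0, 6, 3, 6, 1]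
def rw8325 : List ℕ := [6, 5, 0, 7, 2, 7, 1, 1, 6, 0, 0, 6, 3, 6, 1, 4, 7, 2, 7, 1, 5, 7, 4, 0, 6, 3]
def rw8326 : List ℕ := [0, 6, 0, 6, 3, 6, 0, 6, 1, 7, 1, 7, 2, 7, 1, 7, 1, 3, 1, 3, 1, 0, 0, 2, 0, 2]
def rw8327 : List ℕ := [0, 6, 3, 6, 3, 3, 2, 7, 2, 7, 1, 7, 2, 7, 2, 1, 3, 1, 2, 0, 2, 0, 3, 6, 3, 6]
def rw8328 : List ℕ := [6, 5, 6, 0, 2, 5, 6, 5, 7, 4, 3, 1, 7, 4, 7, 2, 7, 1, 3, 1, 4, 0, 2, 0, 6, 3]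
def rw8329 : List ℕ := [5, 6, 7, 7, 4, 3, 1, 7, 4, 7, 2, 7, 1, 3, 1, 6, 0, 2, 0, 6, 3, 6, 5, 6, 0, 2]
def rw8330 : List ℕ := [7, 4, 3, 1, 7, 4, 7, 2, 7, 1, 6, 3, 6, 5, 6, 0, 2, 5, 6, 1, 3, 1, 0, 0, 2, 0]
def rw8331 : List ℕ := [5, 6, 1, 3, 1, 4, 0, 2, 0, 7, 4, 3, 1, 7, 4, 7, 2, 7, 5, 6, 3, 6, 5, 6, 0, 2]
def rw8332 : List ℕ := [6, 0, 6, 3, 6, 0, 6, 0, 3, 1, 4, 0, 2, 1, 7, 1, 7, 2, 7, 1, 7, 1, 2, 5, 3, 0]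
def rw8333 : List ℕ := [0, 2, 6, 0, 6, 3, 6, 0, 6, 1, 7, 1, 7, 2, 7, 1, 7, 3, 1, 3, 3, 1, 0, 0, 2, 2]
def rw8334 : List ℕ := [0, 6, 2, 1, 3, 7, 1, 7, 2, 7, 1, 7, 1, 3, 3, 1, 0, 0, 2, 2, 0, 6, 0, 6, 3, 6]
def rw8335 : List ℕ := [2, 5, 3, 1, 2, 0, 2, 4, 3, 1, 7, 0, 2, 6, 3, 0, 5, 3, 4, 1, 2, 7, 3, 1, 6, 0]
def rw8336 : List ℕ := [4, 3, 1, 0, 0, 2, 5, 6, 0, 2, 7, 2, 7, 1, 5, 6, 1, 7, 4, 0, 6, 3, 6, 3, 1, 7]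
def rw8337 : List ℕ := [1, 7, 4, 0, 6, 3, 6, 3, 1, 7, 4, 3, 1, 0, 0, 2, 5, 6, 0, 2, 7, 2, 7, 1, 5, 6]
def rw8338 : List ℕ := [6, 0, 2, 7, 2, 7, 1, 5, 6, 5, 7, 4, 0, 6, 3, 6, 3, 1, 7, 4, 3, 1, 4, 0, 2, 5]
def rw8339 : List ℕ := [7, 3, 1, 3, 7, 4, 3, 1, 0, 0, 2, 5, 6, 2, 0, 2, 6, 3, 6, 5, 6, 1, 7, 4, 7, 2]
def rw8340 : List ℕ := [6, 0, 6, 3, 6, 3, 1, 2, 1, 3, 0, 2, 7, 2, 7, 1, 7, 2, 7, 3, 1, 0, 0, 2, 6, 3]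
def rw8341 : List ℕ := [7, 3, 1, 6, 0, 2, 6, 3, 6, 0, 6, 3, 6, 3, 1, 2, 7, 3, 0, 2, 7, 2, 7, 1, 7, 2]
def rw8342 : List ℕ := [6, 3, 4, 3, 6, 3, 6, 3, 1, 4, 0, 2, 7, 2, 7, 2, 5, 2, 7, 2, 7, 4, 5, 5, 6, 3]
def rw8343 : List ℕ := [6, 3, 6, 1, 3, 7, 2, 7, 2, 7, 3, 6, 3, 6, 2, 0, 7, 2, 7, 1, 2, 1, 6, 0, 3, 0]
def rw8344 : List ℕ := [6, 2, 1, 6, 6, 2, 1, 2, 0, 3, 7, 7, 0, 3, 7, 7, 0, 3, 7, 7, 3, 6, 6, 2, 1, 6]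
def rw8345 : List ℕ := [2, 1, 6, 0, 3, 7, 7, 0, 3, 7, 7, 0, 3, 7, 7, 7, 6, 6, 2, 1, 6, 6, 2, 1, 6, 6]
def rw8346 : List ℕ := [2, 5, 1, 0, 0, 4, 3, 6, 0, 4, 3, 6, 0, 4, 3, 6, 1, 7, 2, 5, 1, 7, 2, 5, 1, 7]
def rw8347 : List ℕ := [3, 6, 0, 4, 3, 6, 0, 4, 3, 6, 3, 7, 2, 5, 1, 7, 2, 5, 1, 7, 2, 5, 1, 2, 0, 4]
def rw8348 : List ℕ := [4, 3, 6, 7, 7, 2, 5, 1, 7, 2, 5, 1, 7, 2, 5, 1, 6, 0, 4, 3, 6, 0, 4, 3, 6, 0]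
def rw8349 : List ℕ := [7, 4, 6, 2, 5, 1, 7, 4, 6, 2, 5, 1, 0, 0, 4, 3, 7, 5, 6, 0, 4, 3, 7, 5, 6, 1]
def rw8350 : List ℕ := [7, 5, 6, 0, 4, 3, 7, 5, 6, 3, 7, 4, 6, 2, 5, 1, 7, 4, 6, 2, 5, 1, 2, 0, 4, 3]
def rw8351 : List ℕ := [7, 4, 6, 2, 5, 1, 2, 0, 4, 3, 7, 5, 6, 0, 4, 3, 7, 5, 6, 3, 7, 4, 6, 2, 5, 1]
def rw8352 : List ℕ := [5, 1, 2, 0, 4, 7, 2, 0, 4, 7, 2, 0, 4, 7, 2, 3, 3, 6, 5, 1, 3, 6, 5, 1, 3, 6]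
def rw8353 : List ℕ := [7, 2, 0, 4, 7, 2, 0, 4, 7, 2, 7, 3, 6, 5, 1, 3, 6, 5, 1, 3, 6, 5, 1, 6, 0, 4]
def rw8354 : List ℕ := [5, 1, 3, 6, 5, 1, 3, 6, 5, 1, 6, 0, 4, 7, 2, 0, 4, 7, 2, 0, 4, 7, 2, 7, 3, 6]
def rw8355 : List ℕ := [5, 6, 3, 3, 7, 0, 5, 6, 3, 3, 7, 7, 6, 2, 2, 7, 4, 1, 6, 2, 2, 7, 4, 1, 6, 0]
def rw8356 : List ℕ := [7, 2, 7, 1, 6, 0, 6, 3, 6, 2, 4, 0, 6, 3, 6, 5, 3, 7, 2, 4, 7, 2, 7, 1, 5, 3]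
def rw8357 : List ℕ := [0, 6, 3, 6, 5, 3, 7, 2, 7, 1, 0, 0, 6, 3, 6, 2, 4, 7, 2, 7, 1, 5, 3, 1, 2, 4]
def rw8358 : List ℕ := [1, 6, 1, 0, 0, 7, 0, 7, 0, 7, 0, 7, 0, 7, 0, 7, 1, 6, 1, 6, 1, 6, 1, 6, 1, 6]
def rw8359 : List ℕ := [6, 1, 6, 1, 6, 1, 0, 0, 7, 0, 7, 0, 7, 0, 7, 0, 7, 0, 7, 1, 6, 1, 6, 1, 6, 1]
def rw8360 : List ℕ := [6, 1, 6, 1, 6, 1, 2, 0, 7, 0, 7, 0, 7, 0, 7, 0, 7, 0, 7, 3, 6, 1, 6, 1, 6, 1]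
def rw8361 : List ℕ := [1, 6, 1, 6, 1, 2, 0, 7, 0, 7, 0, 7, 0, 7, 0, 7, 0, 7, 3, 6, 1, 6, 1, 6, 1, 6]
def rw8362 : List ℕ := [0, 7, 0, 7, 0, 7, 0, 7, 7, 6, 1, 6, 1, 6, 1, 6, 1, 6, 1, 6, 1, 6, 0, 7, 0, 7]
def rw8363 : List ℕ := [7, 1, 6, 6, 3, 4, 6, 3, 6, 6, 3, 4, 6, 3, 0, 2, 7, 5, 2, 7, 7, 2, 7, 5, 2, 7]
def rw8364 : List ℕ := [6, 3, 4, 2, 7, 5, 2, 7, 7, 2, 7, 5, 2, 7, 7, 5, 6, 6, 3, 4, 6, 3, 6, 6, 3, 4]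
def rw8365 : List ℕ := [5, 5, 4, 1, 4, 4, 7, 7, 2, 7, 1, 6, 5, 1, 1, 4, 0, 0, 4, 7, 0, 6, 3, 6, 6, 5, 5, 0]
def rw8366 : List ℕ := [1, 6, 5, 5, 0, 5, 3, 4, 1, 4, 4, 7, 0, 6, 3, 6, 6, 5, 1, 1, 2, 0, 0, 4, 7, 7, 2, 7]
def rw8367 : List ℕ := [6, 0, 6, 6, 3, 5, 3, 4, 2, 7, 7, 1, 7, 2, 6, 3, 1, 4, 1, 1, 2, 0, 0, 5, 0, 2, 7, 3]
def rw8368 : List ℕ := [7, 3, 6, 0, 6, 6, 3, 5, 5, 4, 2, 7, 7, 1, 7, 2, 6, 3, 1, 4, 1, 1, 4, 0, 0, 5, 0, 2]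
def rw8369 : List ℕ := [6, 3, 1, 4, 1, 1, 6, 0, 0, 5, 0, 2, 7, 7, 1, 7, 2, 6, 3, 5, 7, 4, 2, 7, 3, 6, 0, 6]
def rw8370 : List ℕ := [2, 0, 5, 7, 4, 1, 3, 7, 7, 1, 7, 2, 6, 2, 4, 1, 1, 6, 0, 0, 5, 3, 7, 3, 6, 0, 6, 6]
def rw8371 : List ℕ := [1, 1, 6, 0, 0, 5, 3, 7, 3, 6, 0, 6, 6, 2, 0, 5, 7, 4, 1, 3, 7, 7, 1, 7, 2, 6, 2, 4]
def rw8372 : List ℕ := [1, 3, 7, 7, 1, 7, 2, 6, 2, 4, 1, 1, 6, 0, 0, 5, 3, 7, 3, 6, 0, 6, 6, 2, 0, 5, 7, 4]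
def rw8373 : List ℕ := [2, 0, 5, 5, 4, 1, 3, 7, 3, 6, 0, 6, 6, 2, 4, 1, 1, 4, 0, 0, 5, 3, 7, 7, 1, 7, 2, 6]
def rw8374 : List ℕ := [1, 4, 1, 4, 2, 7, 4, 1, 3, 1, 0, 0, 2, 0, 5, 6, 3, 5, 0, 5, 0, 3, 4, 7, 1, 6, 5, 2]
def rw8375 : List ℕ := [7, 1, 3, 6, 3, 6, 6, 1, 7, 7, 2, 7, 2, 0, 6, 2, 7, 4, 1, 3, 1, 0, 0, 2, 0, 5, 6, 3]
def rw8376 : List ℕ := [5, 6, 3, 7, 1, 3, 6, 3, 6, 6, 3, 7, 7, 2, 7, 2, 0, 6, 2, 7, 4, 1, 3, 1, 2, 0, 2, 0]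
def rw8377 : List ℕ := [1, 4, 1, 2, 0, 4, 7, 1, 6, 5, 1, 3, 0, 5, 0, 5, 7, 4, 1, 3, 1, 0, 0, 2, 0, 5, 6, 4]
def rw8378 : List ℕ := [4, 1, 4, 1, 2, 0, 4, 7, 7, 6, 5, 1, 3, 0, 5, 0, 5, 7, 4, 1, 3, 1, 6, 0, 2, 0, 5, 6]
def rw8379 : List ℕ := [2, 7, 1, 3, 1, 2, 0, 2, 0, 6, 3, 5, 7, 2, 7, 2, 2, 7, 7, 3, 6, 6, 3, 3, 6, 3, 6, 4]
def rw8380 : List ℕ := [6, 3, 6, 4, 2, 7, 1, 3, 1, 4, 0, 2, 0, 6, 3, 5, 7, 2, 7, 2, 2, 7, 7, 5, 6, 6, 3, 3]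
def rw8381 : List ℕ := [7, 6, 6, 3, 3, 6, 3, 6, 4, 2, 7, 1, 3, 1, 6, 0, 2, 0, 6, 3, 5, 7, 2, 7, 2, 2, 7, 7]
def rw8382 : List ℕ := [3, 3, 6, 3, 6, 4, 2, 7, 3, 6, 3, 5, 7, 2, 7, 2, 2, 7, 7, 1, 3, 1, 2, 0, 2, 0, 6, 6]
def rw8383 : List ℕ := [7, 1, 3, 1, 2, 0, 2, 0, 6, 6, 3, 3, 6, 3, 6, 4, 2, 7, 3, 6, 3, 5, 7, 2, 7, 2, 2, 7]
def rw8384 : List ℕ := [2, 7, 2, 2, 7, 7, 1, 3, 1, 4, 0, 2, 0, 6, 6, 3, 3, 6, 3, 6, 4, 2, 7, 5, 6, 3, 5, 7]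
def rw8385 : List ℕ := [3, 6, 3, 6, 4, 2, 7, 7, 6, 3, 5, 7, 2, 7, 2, 2, 7, 7, 1, 3, 1, 6, 0, 2, 0, 6, 6, 3]
def rw8386 : List ℕ := [1, 3, 6, 3, 6, 6, 1, 3, 1, 4, 0, 2, 0, 7, 7, 2, 7, 2, 0, 6, 2, 7, 4, 5, 5, 6, 3, 7]
def rw8387 : List ℕ := [2, 0, 4, 4, 0, 7, 0, 6, 0, 3, 1, 0, 0, 2, 1, 7, 1, 6, 1, 5, 5, 1, 3, 4, 6, 1, 7, 5]
def rw8388 : List ℕ := [1, 0, 0, 2, 1, 7, 1, 6, 1, 5, 5, 1, 3, 4, 6, 1, 7, 5, 2, 0, 4, 4, 0, 7, 0, 6, 0, 3]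
def rw8389 : List ℕ := [1, 5, 5, 1, 3, 4, 6, 3, 7, 5, 2, 0, 4, 4, 0, 7, 0, 6, 0, 3, 1, 2, 0, 2, 1, 7, 1, 6]
def rw8390 : List ℕ := [5, 3, 1, 6, 0, 2, 4, 3, 3, 0, 7, 0, 5, 6, 1, 2, 4, 7, 5, 3, 0, 7, 4, 1, 6, 1, 2, 2]
def rw8391 : List ℕ := [0, 2, 5, 1, 6, 7, 7, 0, 4, 3, 1, 7, 4, 2, 7, 1, 4, 3, 1, 6, 0, 2, 5, 0, 6, 3, 5, 6]
def rw8392 : List ℕ := [3, 4, 3, 1, 0, 0, 2, 5, 2, 7, 5, 0, 5, 0, 3, 4, 3, 6, 1, 7, 2, 5, 2, 1, 4, 1, 4, 6]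
def rw8393 : List ℕ := [6, 2, 1, 3, 7, 7, 2, 7, 2, 0, 6, 2, 7, 4, 3, 1, 0, 0, 2, 5, 6, 3, 7, 1, 3, 6, 3, 6]
def rw8394 : List ℕ := [7, 7, 2, 3, 3, 6, 6, 3, 3, 6, 3, 6, 4, 2, 7, 3, 1, 2, 0, 2, 6, 3, 5, 7, 2, 7, 2, 2]
def rw8395 : List ℕ := [6, 3, 5, 7, 2, 7, 2, 2, 7, 7, 2, 7, 3, 6, 6, 3, 3, 6, 3, 6, 4, 2, 7, 3, 1, 6, 0, 2]
def rw8396 : List ℕ := [5, 0, 3, 4, 7, 3, 1, 6, 0, 2, 6, 5, 2, 1, 4, 1, 4, 2, 7, 4, 2, 7, 3, 5, 6, 3, 5, 0]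
def rw8397 : List ℕ := [3, 4, 2, 2, 7, 2, 7, 7, 3, 1, 0, 0, 2, 6, 6, 3, 6, 3, 3, 5, 2, 7, 4, 6, 1, 7, 5, 6]
def rw8398 : List ℕ := [6, 3, 7, 5, 6, 3, 4, 2, 2, 7, 2, 7, 7, 3, 1, 2, 0, 2, 6, 6, 3, 6, 3, 3, 5, 2, 7, 4]
def rw8399 : List ℕ := [7, 7, 3, 1, 6, 0, 2, 6, 6, 3, 6, 3, 3, 5, 2, 7, 4, 6, 7, 7, 5, 6, 3, 4, 2, 2, 7, 2]
def rw8400 : List ℕ := [3, 7, 5, 2, 7, 2, 0, 4, 7, 7, 6, 5, 1, 3, 6, 3, 4, 6, 2, 5, 2, 5, 1, 6, 0, 4, 3, 4]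
def rw8401 : List ℕ := [1, 7, 0, 5, 2, 7, 5, 1, 0, 0, 4, 6, 3, 4, 1, 6, 0, 7, 7, 2, 6, 3, 1, 2, 7, 3, 6, 6]
def rw8402 : List ℕ := [7, 3, 6, 6, 1, 7, 0, 5, 2, 7, 5, 1, 2, 0, 4, 6, 3, 4, 1, 6, 0, 7, 7, 2, 6, 3, 3, 2]
def rw8403 : List ℕ := [0, 4, 6, 3, 4, 1, 6, 0, 7, 7, 2, 6, 3, 5, 2, 7, 3, 6, 6, 1, 7, 0, 5, 2, 7, 5, 1, 4]
def rw8404 : List ℕ := [5, 6, 3, 7, 5, 1, 4, 6, 2, 7, 4, 1, 6, 3, 6, 6, 3, 4, 1, 0, 0, 5, 2, 7, 7, 2, 7, 0]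
def rw8405 : List ℕ := [3, 7, 5, 3, 4, 6, 2, 7, 4, 1, 6, 3, 6, 6, 3, 4, 1, 2, 0, 5, 2, 7, 7, 2, 7, 0, 5, 6]
def rw8406 : List ℕ := [6, 3, 6, 6, 3, 4, 1, 6, 0, 5, 2, 7, 7, 2, 7, 0, 5, 6, 3, 7, 5, 7, 4, 6, 2, 7, 4, 1]
def rw8407 : List ℕ := [4, 6, 2, 7, 4, 1, 0, 0, 5, 6, 3, 7, 5, 0, 6, 3, 6, 6, 3, 4, 1, 5, 2, 7, 7, 2, 7, 1]
def rw8408 : List ℕ := [5, 0, 6, 3, 6, 6, 3, 4, 5, 5, 2, 7, 7, 2, 7, 1, 4, 6, 2, 7, 4, 1, 4, 0, 5, 6, 3, 7]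
def rw8409 : List ℕ := [7, 5, 0, 6, 3, 6, 6, 3, 4, 7, 5, 2, 7, 7, 2, 7, 1, 4, 6, 2, 7, 4, 1, 6, 0, 5, 6, 3]
def rw8410 : List ℕ := [3, 4, 7, 5, 2, 7, 7, 2, 7, 1, 4, 6, 2, 7, 4, 1, 6, 0, 5, 6, 3, 7, 5, 0, 6, 3, 6, 6]
def rw8411 : List ℕ := [6, 4, 6, 2, 7, 4, 1, 2, 0, 5, 6, 3, 7, 5, 7, 2, 7, 1, 6, 3, 4, 3, 5, 2, 7, 0, 6, 3]
def rw8412 : List ℕ := [3, 6, 4, 6, 2, 7, 4, 1, 4, 0, 5, 6, 3, 7, 5, 7, 2, 7, 1, 6, 3, 4, 5, 5, 2, 7, 0, 6]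
def rw8413 : List ℕ := [7, 4, 1, 4, 0, 5, 6, 3, 7, 5, 7, 2, 7, 1, 6, 3, 4, 5, 5, 2, 7, 0, 6, 3, 6, 4, 6, 2]
def rw8414 : List ℕ := [1, 6, 0, 5, 6, 3, 7, 5, 7, 2, 7, 1, 6, 3, 4, 7, 5, 2, 7, 0, 6, 3, 6, 4, 6, 2, 7, 4]
def rw8415 : List ℕ := [4, 2, 4, 2, 5, 3, 4, 3, 4, 7, 1, 6, 5, 2, 5, 2, 4, 3, 5, 3, 5, 7, 4, 1, 0, 0, 5, 6]
def rw8416 : List ℕ := [5, 3, 5, 2, 7, 3, 4, 2, 4, 1, 2, 7, 3, 1, 6, 3, 4, 3, 1, 6, 0, 2, 5, 2, 7, 0, 2, 6, 3, 0]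
def rw8417 : List ℕ := [4, 1, 4, 2, 4, 1, 0, 0, 5, 3, 5, 0, 5, 7, 1, 7, 2, 7, 1, 7, 5, 1, 4, 6, 0, 6, 3, 6, 0, 6]
def rw8418 : List ℕ := [1, 4, 2, 4, 1, 2, 0, 5, 3, 5, 0, 5, 7, 1, 7, 2, 7, 1, 7, 5, 3, 4, 6, 0, 6, 3, 6, 0, 6, 4]
def rw8419 : List ℕ := [1, 4, 2, 4, 1, 4, 0, 5, 3, 5, 0, 5, 7, 1, 7, 2, 7, 1, 7, 5, 5, 4, 6, 0, 6, 3, 6, 0, 6, 4]
def rw8420 : List ℕ := [2, 4, 7, 5, 3, 3, 3, 7, 4, 2, 6, 4, 0, 5, 3, 5, 1, 6, 0, 4, 2, 4, 1, 5, 7, 3, 5, 6, 2, 2]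
def rw8421 : List ℕ := [4, 7, 5, 5, 2, 5, 7, 7, 1, 3, 6, 6, 3, 3, 1, 1, 6, 0, 0, 2, 2, 7, 7, 2, 0, 6, 6, 4, 3, 4]
def rw8422 : List ℕ := [5, 6, 1, 3, 1, 6, 3, 6, 5, 6, 3, 1, 2, 7, 4, 7, 2, 7, 0, 2, 0, 7, 4, 1, 3, 1, 0, 0, 2, 0]
def rw8423 : List ℕ := [3, 6, 5, 6, 3, 1, 2, 7, 4, 7, 2, 7, 0, 2, 0, 7, 4, 1, 3, 1, 0, 0, 2, 0, 5, 6, 1, 3, 1, 6]
def rw8424 : List ℕ := [2, 0, 5, 6, 1, 3, 1, 6, 3, 6, 5, 6, 3, 5, 2, 7, 4, 7, 2, 7, 0, 2, 0, 7, 4, 1, 3, 1, 4, 0]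
def rw8425 : List ℕ := [7, 0, 2, 0, 7, 4, 1, 3, 1, 6, 0, 2, 0, 5, 6, 1, 3, 1, 6, 3, 6, 5, 6, 3, 7, 2, 7, 4, 7, 2]
def rw8426 : List ℕ := [1, 4, 0, 2, 2, 7, 4, 1, 4, 2, 0, 2, 4, 2, 6, 3, 5, 2, 7, 3, 5, 3, 1, 3, 5, 0, 5, 6, 3, 3]
def rw8427 : List ℕ := [5, 2, 6, 6, 3, 0, 5, 1, 0, 0, 4, 1, 2, 7, 7, 3, 4, 3, 4, 2, 7, 4, 2, 1, 3, 5, 6, 3, 5, 2]
def rw8428 : List ℕ := [2, 6, 6, 3, 0, 5, 1, 4, 0, 4, 1, 2, 7, 7, 3, 4, 3, 4, 2, 7, 4, 2, 5, 3, 5, 6, 3, 5, 2, 5]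
def rw8429 : List ℕ := [5, 6, 0, 2, 5, 6, 1, 2, 3, 3, 0, 7, 4, 3, 1, 7, 4, 7, 2, 7, 3, 3, 1, 2, 0, 2, 2, 6, 3, 6]
def rw8430 : List ℕ := [2, 7, 1, 5, 6, 2, 5, 3, 7, 4, 0, 6, 3, 6, 3, 1, 7, 4, 0, 3, 1, 4, 0, 2, 1, 5, 6, 0, 2, 7]
def rw8431 : List ℕ := [3, 1, 7, 4, 3, 5, 6, 0, 2, 2, 2, 7, 0, 2, 4, 2, 1, 3, 1, 2, 0, 2, 0, 3, 5, 3, 1, 6, 3, 3]
def rw8432 : List ℕ := [2, 4, 2, 1, 3, 1, 6, 0, 2, 0, 3, 5, 3, 1, 6, 3, 3, 3, 1, 7, 4, 7, 5, 6, 0, 2, 2, 2, 7, 0]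
def rw8433 : List ℕ := [2, 4, 1, 2, 7, 1, 6, 3, 0, 5, 3, 5, 6, 3, 6, 3, 6, 3, 4, 1, 0, 0, 5, 2, 7, 2, 7, 2, 7, 4]
def rw8434 : List ℕ := [1, 6, 5, 7, 0, 3, 4, 0, 5, 2, 5, 7, 3, 6, 4, 3, 1, 4, 0, 2, 5, 7, 2, 6, 4, 3, 4, 1, 5, 2]
def rw8435 : List ℕ := [7, 4, 2, 2, 7, 3, 7, 2, 7, 2, 1, 3, 6, 3, 6, 2, 6, 3, 3, 5, 6, 3, 3, 5, 1, 0, 0, 4, 2, 2]
def rw8436 : List ℕ := [5, 1, 4, 0, 4, 2, 2, 7, 4, 2, 2, 7, 3, 7, 2, 7, 2, 5, 3, 6, 3, 6, 2, 6, 3, 3, 5, 6, 3, 3]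
def rw8437 : List ℕ := [7, 2, 7, 4, 7, 5, 6, 3, 6, 3, 6, 3, 6, 5, 1, 5, 2, 5, 1, 6, 0, 4, 3, 4, 0, 4, 7, 2, 7, 2]
def rw8438 : List ℕ := [0, 4, 7, 2, 7, 2, 7, 2, 7, 4, 7, 5, 6, 3, 6, 3, 6, 3, 6, 5, 1, 5, 2, 5, 1, 6, 0, 4, 3, 4]
def rw8439 : List ℕ := [1, 6, 0, 4, 3, 4, 0, 4, 7, 2, 7, 2, 7, 2, 7, 4, 7, 5, 6, 3, 6, 3, 6, 3, 6, 5, 1, 5, 2, 5]
def rw8440 : List ℕ := [1, 6, 1, 3, 1, 1, 1, 6, 0, 0, 0, 2, 0, 7, 0, 2, 4, 1, 3, 5, 6, 3, 7, 2, 7, 4, 2, 0, 5, 3]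
def rw8441 : List ℕ := [5, 7, 2, 7, 5, 7, 4, 6, 3, 6, 4, 2, 0, 5, 0, 6, 3, 6, 3, 1, 6, 0, 2, 7, 2, 7, 1, 4, 1, 3]
def rw8442 : List ℕ := [4, 0, 3, 0, 7, 4, 1, 6, 5, 3, 4, 3, 4, 2, 5, 5, 4, 3, 5, 2, 5, 2, 4, 7, 0, 5, 6, 1, 2, 1]
def rw8443 : List ℕ := [6, 6, 3, 7, 3, 4, 3, 5, 2, 6, 2, 7, 7, 7, 3, 5, 5, 6, 6, 3, 3, 2, 2, 2, 7, 7, 4, 4, 2, 6]
def rw8444 : List ℕ := [7, 3, 4, 7, 5, 2, 6, 2, 7, 7, 7, 3, 5, 5, 6, 6, 3, 3, 6, 2, 2, 7, 7, 4, 4, 2, 6, 6, 6, 3]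
def rw8445 : List ℕ := [0, 6, 3, 6, 1, 2, 7, 4, 3, 1, 0, 0, 2, 5, 6, 3, 0, 7, 2, 7, 1, 2, 0, 5, 6, 1, 7, 4, 1, 3]
def rw8446 : List ℕ := [4, 3, 1, 6, 0, 2, 5, 6, 3, 0, 7, 2, 7, 1, 2, 0, 5, 6, 7, 7, 4, 1, 3, 0, 6, 3, 6, 1, 2, 7]
def rw8447 : List ℕ := [2, 4, 0, 2, 7, 3, 1, 5, 3, 1, 6, 3, 3, 3, 1, 7, 4, 1, 1, 6, 0, 0, 5, 6, 0, 2, 2, 2, 7, 0]
def rw8448 : List ℕ := [7, 4, 0, 2, 5, 6, 1, 3, 1, 4, 0, 2, 0, 7, 4, 3, 1, 5, 6, 5, 6, 5, 2, 7, 5, 6, 3, 4, 7, 4]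
def rw8449 : List ℕ := [6, 3, 6, 3, 4, 3, 6, 3, 6, 1, 7, 2, 7, 2, 5, 2, 7, 2, 7, 4, 1, 3, 1, 1, 0, 0, 0, 2, 0, 5]
def rw8450 : List ℕ := [2, 5, 2, 7, 2, 7, 4, 1, 3, 1, 1, 0, 0, 0, 2, 0, 5, 6, 3, 6, 3, 4, 3, 6, 3, 6, 1, 7, 2, 7]
def rw8451 : List ℕ := [3, 1, 1, 6, 0, 0, 2, 0, 4, 1, 2, 7, 3, 1, 6, 0, 2, 5, 7, 4, 3, 1, 7, 0, 2, 6, 3, 0, 5, 1]
def rw8452 : List ℕ := [7, 2, 7, 1, 2, 2, 2, 1, 3, 3, 3, 0, 6, 3, 6, 1, 3, 7, 2, 7, 3, 1, 0, 0, 2, 6, 3, 6, 2, 0]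
def rw8453 : List ℕ := [6, 3, 6, 5, 6, 2, 5, 3, 7, 4, 7, 2, 7, 3, 1, 3, 7, 4, 0, 3, 1, 4, 0, 2, 1, 5, 6, 2, 0, 2]
def rw8454 : List ℕ := [7, 2, 7, 3, 1, 3, 7, 4, 0, 3, 1, 6, 0, 2, 1, 5, 6, 2, 0, 2, 6, 3, 6, 5, 6, 2, 7, 3, 7, 4]
def rw8455 : List ℕ := [7, 1, 3, 4, 7, 2, 0, 6, 5, 2, 0, 6, 1, 7, 1, 3, 4, 7, 1, 3, 6, 5, 2, 0, 6, 3, 1, 0, 0, 2]
def rw8456 : List ℕ := [1, 2, 0, 2, 7, 1, 3, 4, 7, 2, 0, 6, 5, 2, 0, 6, 3, 7, 1, 3, 4, 7, 1, 3, 6, 5, 2, 0, 6, 3]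
def rw8457 : List ℕ := [2, 7, 1, 3, 4, 7, 2, 0, 6, 5, 2, 0, 6, 5, 7, 1, 3, 4, 7, 1, 3, 6, 5, 2, 0, 6, 3, 1, 4, 0]
def rw8458 : List ℕ := [3, 3, 6, 6, 5, 2, 0, 5, 2, 1, 2, 0, 3, 4, 1, 3, 4, 7, 7, 2, 2, 7, 5, 3, 5, 3, 4, 2, 4, 6]
def rw8459 : List ℕ := [6, 5, 2, 0, 5, 2, 1, 4, 0, 3, 4, 1, 3, 4, 7, 7, 2, 2, 7, 5, 3, 5, 5, 4, 2, 4, 6, 3, 3, 6]
def rw8460 : List ℕ := [4, 4, 1, 0, 0, 5, 5, 7, 2, 2, 7, 4, 1, 2, 4, 6, 6, 3, 1, 2, 7, 7, 5, 3, 0, 5, 6, 3, 3, 6]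
def rw8461 : List ℕ := [5, 6, 4, 6, 3, 6, 3, 7, 2, 7, 5, 7, 4, 1, 2, 7, 3, 3, 5, 3, 1, 2, 0, 2, 4, 2, 2, 6, 3, 0]
def rw8462 : List ℕ := [5, 3, 1, 6, 0, 2, 4, 2, 2, 6, 3, 0, 5, 6, 4, 6, 3, 6, 7, 7, 2, 7, 5, 7, 4, 1, 2, 7, 3, 3]
def rw8463 : List ℕ := [5, 6, 3, 0, 3, 1, 7, 3, 7, 2, 6, 0, 2, 1, 2, 7, 4, 2, 0, 5, 1, 3, 1, 6, 0, 2, 0, 4, 1, 3]
def rw8464 : List ℕ := [5, 2, 5, 2, 5, 7, 3, 5, 3, 5, 7, 1, 6, 4, 2, 4, 2, 6, 4, 3, 4, 3, 4, 6, 3, 3, 0, 2, 2, 7]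
def rw8465 : List ℕ := [5, 3, 1, 3, 5, 0, 5, 6, 7, 7, 4, 1, 4, 2, 0, 2, 4, 2, 6, 3, 3, 3, 1, 6, 0, 2, 2, 2, 7, 3]
def rw8466 : List ℕ := [0, 4, 1, 4, 3, 1, 4, 0, 2, 5, 0, 5, 1, 7, 2, 7, 2, 2, 6, 3, 6, 5, 7, 2, 7, 3, 3, 6, 3, 6]
def rw8467 : List ℕ := [6, 3, 6, 7, 7, 2, 7, 3, 3, 6, 3, 6, 0, 4, 1, 4, 3, 1, 6, 0, 2, 5, 0, 5, 1, 7, 2, 7, 2, 2]
def rw8468 : List ℕ := [0, 2, 0, 4, 3, 1, 7, 0, 2, 6, 3, 0, 5, 3, 5, 2, 4, 1, 2, 7, 3, 1, 6, 0, 2, 5, 1, 3, 1, 4]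
def rw8469 : List ℕ := [0, 3, 1, 0, 0, 2, 1, 2, 7, 5, 3, 5, 3, 5, 1, 4, 1, 6, 1, 7, 0, 5, 0, 4, 2, 4, 2, 4, 6, 3]
def rw8470 : List ℕ := [1, 6, 6, 2, 1, 6, 6, 1, 3, 3, 2, 0, 7, 7, 0, 3, 7, 7, 0, 3, 7, 7, 3, 1, 2, 0, 2, 6, 6, 2]
def rw8471 : List ℕ := [0, 7, 2, 7, 2, 3, 3, 6, 3, 6, 1, 4, 2, 2, 7, 4, 2, 2, 7, 1, 2, 0, 6, 3, 3, 5, 6, 3, 3, 5]
def rw8472 : List ℕ := [6, 3, 3, 5, 0, 7, 2, 7, 2, 5, 3, 6, 3, 6, 1, 4, 2, 2, 7, 4, 2, 2, 7, 1, 4, 0, 6, 3, 3, 5]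
def rw8473 : List ℕ := [7, 2, 7, 1, 3, 1, 0, 0, 2, 0, 6, 3, 6, 4, 1, 3, 5, 7, 2, 7, 5, 1, 4, 6, 3, 6, 4, 2, 0, 5]
def rw8474 : List ℕ := [4, 1, 2, 0, 5, 2, 5, 3, 5, 0, 6, 3, 3, 6, 6, 5, 2, 3, 3, 4, 7, 7, 2, 2, 7, 1, 4, 2, 4, 3]
def rw8475 : List ℕ := [6, 5, 2, 7, 3, 4, 7, 7, 2, 2, 7, 1, 4, 2, 4, 3, 4, 1, 6, 0, 5, 2, 5, 3, 5, 0, 6, 3, 3, 6]
def rw8476 : List ℕ := [1, 4, 3, 6, 3, 6, 0, 3, 3, 1, 0, 0, 2, 2, 1, 7, 2, 7, 2, 5, 0, 5, 6, 3, 6, 1, 7, 2, 7, 4]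
def rw8477 : List ℕ := [4, 3, 6, 3, 6, 0, 3, 3, 1, 2, 0, 2, 2, 1, 7, 2, 7, 2, 5, 0, 5, 6, 3, 6, 3, 7, 2, 7, 4, 1]
def rw8478 : List ℕ := [7, 2, 7, 4, 1, 4, 3, 6, 3, 6, 0, 3, 3, 1, 6, 0, 2, 2, 1, 7, 2, 7, 2, 5, 0, 5, 6, 3, 6, 7]
def rw8479 : List ℕ := [5, 6, 1, 7, 4, 1, 2, 7, 3, 7, 0, 3, 1, 7, 4, 1, 1, 0, 0, 0, 5, 6, 0, 2, 1, 6, 2, 6, 3, 0]
def rw8480 : List ℕ := [1, 2, 7, 3, 7, 0, 3, 1, 7, 4, 1, 1, 0, 0, 0, 5, 6, 0, 2, 1, 6, 2, 6, 3, 0, 5, 6, 1, 7, 4]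
def rw8481 : List ℕ := [0, 5, 6, 7, 7, 4, 1, 2, 7, 3, 7, 0, 3, 1, 7, 4, 1, 1, 6, 0, 0, 5, 6, 0, 2, 1, 6, 2, 6, 3]
def rw8482 : List ℕ := [4, 1, 1, 6, 0, 0, 5, 6, 0, 2, 1, 6, 2, 6, 3, 0, 5, 6, 7, 7, 4, 1, 2, 7, 3, 7, 0, 3, 1, 7]
def rw8483 : List ℕ := [6, 3, 6, 5, 6, 3, 1, 3, 1, 2, 0, 2, 0, 2, 7, 4, 7, 2, 7, 0, 2, 0, 7, 4, 3, 5, 6, 1, 3, 1]
def rw8484 : List ℕ := [2, 5, 5, 0, 5, 0, 7, 4, 6, 0, 6, 1, 7, 1, 7, 5, 6, 1, 4, 1, 4, 4, 3, 7, 3, 1, 0, 0, 2, 6]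
def rw8485 : List ℕ := [1, 7, 5, 6, 1, 4, 1, 4, 4, 3, 7, 3, 1, 4, 0, 2, 6, 2, 5, 5, 0, 5, 0, 7, 4, 6, 0, 6, 5, 7]
def rw8486 : List ℕ := [5, 3, 6, 3, 3, 2, 7, 2, 4, 6, 0, 2, 6, 0, 5, 7, 1, 3, 1, 2, 0, 2, 0, 6, 4, 1, 7, 3, 1, 7]
def rw8487 : List ℕ := [5, 3, 6, 3, 7, 2, 7, 2, 4, 6, 0, 2, 6, 0, 5, 7, 1, 3, 1, 6, 0, 2, 0, 6, 4, 1, 7, 3, 1, 7]
def rw8488 : List ℕ := [6, 3, 6, 1, 4, 3, 1, 7, 4, 3, 1, 7, 7, 6, 0, 2, 5, 6, 0, 2, 5, 0, 7, 2, 7, 1, 1, 6, 0, 0]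
def rw8489 : List ℕ := [1, 5, 1, 5, 1, 0, 0, 4, 0, 4, 0, 6, 3, 0, 4, 0, 4, 0, 6, 3, 1, 2, 7, 1, 5, 1, 5, 1, 2, 7]
def rw8490 : List ℕ := [4, 4, 1, 4, 2, 2, 4, 1, 4, 0, 5, 3, 3, 5, 0, 5, 5, 7, 4, 1, 3, 5, 6, 5, 7, 4, 2, 0, 5, 6]
def rw8491 : List ℕ := [5, 3, 3, 5, 0, 5, 5, 7, 4, 1, 3, 5, 6, 7, 7, 4, 2, 0, 5, 6, 4, 4, 1, 4, 2, 2, 4, 1, 6, 0]
def rw8492 : List ℕ := [4, 1, 5, 2, 7, 1, 5, 2, 7, 1, 5, 6, 5, 6, 3, 1, 0, 0, 2, 7, 4, 7, 4, 0, 6, 3, 4, 0, 6, 3]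
def rw8493 : List ℕ := [5, 6, 3, 1, 2, 0, 2, 7, 4, 7, 4, 0, 6, 3, 4, 0, 6, 3, 4, 3, 5, 2, 7, 1, 5, 2, 7, 1, 5, 6]
def rw8494 : List ℕ := [4, 3, 5, 6, 3, 4, 7, 2, 0, 6, 0, 6, 5, 6, 5, 1, 2, 0, 4, 7, 4, 7, 1, 7, 1, 3, 6, 5, 2, 7]
def rw8495 : List ℕ := [4, 7, 1, 7, 1, 3, 6, 5, 2, 7, 4, 5, 5, 6, 3, 4, 7, 2, 0, 6, 0, 6, 5, 6, 5, 1, 4, 0, 4, 7]
def rw8496 : List ℕ := [0, 2, 6, 4, 1, 7, 2, 1, 3, 6, 0, 5, 7, 3, 1, 7, 2, 4, 6, 3, 3, 1, 0, 0, 2, 2, 7, 5, 3, 6]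
def rw8497 : List ℕ := [6, 0, 5, 7, 3, 1, 7, 2, 4, 6, 3, 3, 1, 4, 0, 2, 2, 7, 5, 3, 6, 0, 2, 6, 4, 1, 7, 2, 5, 3]
def rw8498 : List ℕ := [0, 2, 6, 4, 1, 7, 2, 7, 3, 6, 0, 5, 7, 3, 1, 7, 2, 4, 6, 3, 3, 1, 6, 0, 2, 2, 7, 5, 3, 6]
def rw8499 : List ℕ := [7, 2, 4, 6, 3, 3, 1, 6, 0, 2, 2, 7, 5, 3, 6, 0, 2, 6, 4, 1, 7, 2, 7, 3, 6, 0, 5, 7, 3, 1]
def rw8500 : List ℕ := [1, 3, 6, 5, 2, 2, 5, 3, 3, 4, 7, 2, 0, 4, 7, 2, 0, 4, 7, 3, 1, 4, 0, 2, 6, 5, 1, 3, 6, 5]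
def rw8501 : List ℕ := [3, 6, 5, 2, 2, 7, 3, 3, 4, 7, 2, 0, 4, 7, 2, 0, 4, 7, 3, 1, 6, 0, 2, 6, 5, 1, 3, 6, 5, 1]
def rw8502 : List ℕ := [5, 2, 2, 7, 3, 3, 4, 7, 2, 0, 4, 7, 2, 0, 4, 7, 3, 1, 6, 0, 2, 6, 5, 1, 3, 6, 5, 1, 3, 6]
def rw8503 : List ℕ := [5, 1, 7, 1, 5, 1, 4, 0, 6, 0, 4, 7, 2, 0, 4, 3, 6, 1, 3, 1, 0, 0, 2, 0, 7, 2, 5, 1, 3, 6]
def rw8504 : List ℕ := [3, 6, 1, 3, 1, 2, 0, 2, 0, 7, 2, 5, 1, 3, 6, 5, 1, 7, 1, 5, 3, 4, 0, 6, 0, 4, 7, 2, 0, 4]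
def rw8505 : List ℕ := [5, 3, 5, 3, 5, 6, 3, 3, 1, 6, 0, 2, 2, 7, 4, 2, 4, 2, 4, 1, 4, 1, 6, 3, 7, 2, 7, 0, 5, 0]
def rw8506 : List ℕ := [5, 6, 5, 6, 5, 2, 7, 3, 1, 3, 7, 4, 3, 1, 2, 0, 2, 5, 6, 2, 0, 2, 6, 3, 4, 7, 4, 7, 4, 3]
def rw8507 : List ℕ := [7, 4, 7, 4, 7, 5, 6, 5, 6, 5, 2, 7, 3, 1, 3, 7, 4, 3, 1, 6, 0, 2, 5, 6, 2, 0, 2, 6, 3, 4]
def rw8508 : List ℕ := [0, 6, 0, 2, 5, 3, 1, 4, 1, 2, 7, 7, 6, 3, 0, 5, 0, 2, 4, 3, 1, 7, 1, 3, 1, 1, 6, 0, 0, 2]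
def rw8509 : List ℕ := [7, 4, 1, 4, 3, 1, 7, 2, 7, 7, 6, 3, 6, 0, 2, 5, 0, 5, 6, 3, 6, 3, 3, 1, 6, 0, 2, 2, 7, 2]
def rw8510 : List ℕ := [4, 1, 7, 3, 1, 7, 5, 3, 6, 2, 7, 3, 7, 2, 4, 6, 0, 2, 6, 0, 5, 7, 0, 3, 1, 6, 0, 2, 1, 6]
def rw8511 : List ℕ := [7, 7, 1, 3, 6, 6, 5, 7, 7, 2, 0, 6, 6, 4, 3, 4, 4, 0, 3, 3, 1, 4, 0, 2, 2, 1, 5, 5, 2, 5]
def rw8512 : List ℕ := [2, 2, 4, 2, 0, 5, 5, 7, 3, 1, 0, 0, 2, 6, 4, 4, 1, 3, 5, 3, 3, 5, 2, 2, 7, 1, 6, 3, 3, 4]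
def rw8513 : List ℕ := [0, 5, 7, 4, 1, 3, 5, 6, 0, 2, 2, 2, 7, 3, 1, 3, 1, 6, 0, 2, 0, 2, 6, 3, 3, 3, 1, 7, 4, 2]
def rw8514 : List ℕ := [3, 5, 6, 0, 2, 2, 2, 7, 3, 1, 3, 1, 6, 0, 2, 0, 2, 6, 3, 3, 3, 1, 7, 4, 2, 0, 5, 7, 4, 1]
def rw8515 : List ℕ := [0, 3, 1, 4, 0, 2, 1, 4, 2, 2, 7, 3, 1, 6, 3, 3, 5, 2, 5, 3, 4, 2, 2, 7, 0, 2, 6, 3, 3, 5]
def rw8516 : List ℕ := [2, 7, 2, 0, 4, 0, 6, 3, 6, 5, 3, 1, 2, 0, 2, 4, 7, 2, 7, 1, 5, 1, 3, 6, 3, 6, 2, 3, 3, 7]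
def rw8517 : List ℕ := [3, 6, 5, 1, 3, 6, 3, 6, 3, 1, 0, 0, 2, 7, 2, 7, 2, 0, 4, 7, 2, 7, 1, 5, 2, 1, 3, 4, 0, 6]
def rw8518 : List ℕ := [7, 2, 7, 1, 5, 2, 7, 3, 4, 0, 6, 3, 6, 5, 1, 3, 6, 3, 6, 3, 1, 6, 0, 2, 7, 2, 7, 2, 0, 4]
def rw8519 : List ℕ := [3, 0, 4, 7, 7, 1, 3, 6, 6, 3, 7, 7, 2, 0, 6, 6, 5, 1, 2, 0, 4, 0, 3, 1, 2, 0, 2, 1, 5, 1]
def rw8520 : List ℕ := [5, 1, 0, 0, 4, 7, 2, 7, 1, 5, 2, 5, 6, 3, 6, 3, 4, 1, 5, 2, 7, 2, 7, 4, 3, 4, 0, 6, 3, 6]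
def rw8521 : List ℕ := [3, 0, 5, 3, 1, 0, 0, 2, 4, 1, 2, 0, 5, 3, 5, 7, 0, 2, 6, 3, 1, 2, 7, 3, 1, 6, 4, 2, 4, 1]
def rw8522 : List ℕ := [1, 3, 6, 3, 6, 6, 6, 5, 2, 1, 4, 0, 3, 4, 7, 7, 7, 2, 7, 2, 0, 6, 5, 0, 5, 5, 4, 1, 4, 7]
def rw8523 : List ℕ := [6, 5, 0, 5, 7, 4, 1, 4, 7, 1, 3, 6, 3, 6, 6, 6, 5, 2, 1, 6, 0, 3, 4, 7, 7, 7, 2, 7, 2, 0]
def rw8524 : List ℕ := [1, 2, 0, 2, 1, 4, 4, 0, 2, 4, 0, 7, 3, 5, 6, 3, 3, 2, 7, 4, 2, 6, 1, 5, 3, 1, 5, 5, 0, 3]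
def rw8525 : List ℕ := [0, 3, 1, 4, 0, 2, 1, 4, 4, 0, 2, 4, 0, 7, 3, 5, 6, 3, 5, 2, 7, 4, 2, 6, 1, 5, 3, 1, 5, 5]
def rw8526 : List ℕ := [5, 0, 3, 1, 4, 0, 2, 1, 4, 4, 0, 2, 4, 0, 7, 3, 5, 6, 3, 5, 2, 7, 4, 2, 6, 1, 5, 3, 1, 5]
def rw8527 : List ℕ := [3, 5, 6, 3, 7, 2, 7, 4, 2, 6, 1, 5, 3, 1, 5, 5, 0, 3, 1, 6, 0, 2, 1, 4, 4, 0, 2, 4, 0, 7]
def rw8528 : List ℕ := [6, 1, 5, 3, 1, 5, 5, 0, 3, 1, 6, 0, 2, 1, 4, 4, 0, 2, 4, 0, 7, 3, 5, 6, 3, 7, 2, 7, 4, 2]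
def rw8529 : List ℕ := [0, 6, 3, 4, 1, 6, 0, 5, 2, 7, 1, 2, 7, 0, 5, 3, 5, 6, 6, 3, 7, 2, 7, 7, 4, 2, 4, 1, 6, 3]
def rw8530 : List ℕ := [5, 2, 7, 2, 7, 3, 3, 1, 0, 0, 2, 2, 6, 3, 6, 3, 4, 2, 6, 3, 0, 2, 6, 1, 7, 3, 1, 2, 7, 3]
def rw8531 : List ℕ := [1, 3, 5, 3, 5, 2, 7, 1, 6, 3, 4, 2, 4, 2, 0, 5, 2, 7, 1, 3, 1, 1, 0, 0, 0, 2, 0, 6, 3, 4]
def rw8532 : List ℕ := [7, 2, 7, 2, 0, 4, 7, 2, 7, 1, 5, 7, 4, 0, 6, 3, 6, 5, 1, 3, 6, 3, 6, 1, 3, 1, 6, 0, 2, 0]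
def rw8533 : List ℕ := [1, 7, 2, 7, 2, 6, 4, 1, 7, 3, 1, 0, 0, 2, 6, 0, 5, 7, 3, 6, 3, 6, 0, 6, 4, 6, 1, 7, 5, 7]
def rw8534 : List ℕ := [3, 5, 6, 7, 7, 4, 2, 1, 3, 6, 3, 6, 1, 2, 7, 4, 3, 1, 6, 0, 2, 5, 6, 3, 0, 7, 2, 7, 2, 0]
def rw8535 : List ℕ := [2, 1, 3, 6, 3, 6, 1, 2, 7, 4, 3, 1, 6, 0, 2, 5, 6, 3, 0, 7, 2, 7, 2, 0, 3, 5, 6, 7, 7, 4]
def rw8536 : List ℕ := [6, 5, 6, 3, 6, 3, 4, 3, 1, 4, 0, 2, 5, 2, 7, 2, 7, 4, 7, 4, 3, 1, 7, 4, 5, 5, 6, 0, 2, 5]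
def rw8537 : List ℕ := [7, 2, 0, 6, 0, 6, 0, 6, 0, 6, 1, 7, 1, 7, 1, 7, 1, 7, 1, 3, 6, 0, 6, 3, 1, 0, 0, 2, 7, 1]
def rw8538 : List ℕ := [1, 7, 2, 0, 6, 0, 6, 0, 6, 0, 6, 3, 7, 1, 7, 1, 7, 1, 7, 1, 3, 6, 0, 6, 3, 1, 2, 0, 2, 7]
def rw8539 : List ℕ := [7, 1, 7, 2, 0, 6, 0, 6, 0, 6, 0, 6, 3, 7, 1, 7, 1, 7, 1, 7, 1, 3, 6, 0, 6, 3, 1, 2, 0, 2]
def rw8540 : List ℕ := [1, 3, 6, 0, 6, 3, 1, 6, 0, 2, 7, 1, 7, 2, 0, 6, 0, 6, 0, 6, 0, 6, 7, 7, 1, 7, 1, 7, 1, 7]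
def rw8541 : List ℕ := [0, 6, 3, 6, 5, 6, 0, 2, 5, 6, 3, 3, 1, 2, 0, 2, 2, 7, 4, 3, 1, 7, 4, 7, 2, 7, 1, 2, 3, 3]
def rw8542 : List ℕ := [3, 6, 3, 6, 0, 2, 7, 3, 1, 7, 2, 7, 2, 0, 0, 7, 2, 7, 1, 1, 1, 6, 0, 0, 0, 6, 3, 6, 1, 1]
def rw8543 : List ℕ := [4, 2, 7, 2, 7, 2, 4, 2, 7, 2, 7, 5, 3, 1, 0, 0, 2, 4, 6, 3, 6, 3, 5, 3, 6, 3, 6, 3, 5, 1]
def rw8544 : List ℕ := [5, 3, 6, 3, 6, 3, 5, 5, 4, 2, 7, 2, 7, 2, 4, 2, 7, 2, 7, 5, 3, 1, 4, 0, 2, 4, 6, 3, 6, 3]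
def rw8545 : List ℕ := [3, 0, 5, 2, 2, 7, 3, 4, 3, 5, 2, 6, 3, 3, 4, 1, 2, 7, 3, 6, 1, 5, 1, 2, 0, 4, 0, 7, 2, 6]
def rw8546 : List ℕ := [3, 0, 5, 2, 2, 7, 3, 4, 7, 5, 2, 6, 3, 3, 4, 1, 2, 7, 3, 6, 1, 5, 1, 6, 0, 4, 0, 7, 2, 6]
def rw8547 : List ℕ := [5, 6, 0, 4, 4, 4, 1, 5, 5, 1, 0, 0, 4, 4, 0, 5, 5, 5, 1, 7, 4, 6, 2, 7, 5, 1, 4, 6, 3, 7]
def rw8548 : List ℕ := [0, 5, 3, 4, 1, 7, 3, 7, 5, 1, 4, 1, 7, 3, 7, 5, 1, 2, 0, 4, 6, 2, 6, 0, 5, 0, 4, 6, 2, 6]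
def rw8549 : List ℕ := [6, 2, 6, 0, 5, 3, 4, 1, 7, 3, 7, 5, 1, 4, 1, 7, 3, 7, 5, 1, 2, 0, 4, 6, 2, 6, 0, 5, 0, 4]
def rw8550 : List ℕ := [4, 6, 2, 6, 0, 5, 5, 4, 1, 7, 3, 7, 5, 1, 4, 1, 7, 3, 7, 5, 1, 4, 0, 4, 6, 2, 6, 0, 5, 0]
def rw8551 : List ℕ := [2, 6, 0, 5, 5, 4, 1, 7, 3, 7, 5, 1, 4, 1, 7, 3, 7, 5, 1, 4, 0, 4, 6, 2, 6, 0, 5, 0, 4, 6]
def rw8552 : List ℕ := [5, 6, 3, 6, 3, 4, 3, 1, 4, 0, 2, 5, 2, 7, 2, 7, 4, 3, 1, 3, 6, 3, 6, 5, 7, 2, 7, 2, 0, 2]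
def rw8553 : List ℕ := [4, 0, 6, 3, 6, 5, 3, 4, 7, 2, 7, 1, 5, 3, 7, 2, 7, 2, 0, 3, 1, 2, 0, 2, 1, 3, 6, 3, 6, 2]
def rw8554 : List ℕ := [1, 3, 6, 3, 6, 2, 4, 0, 6, 3, 6, 5, 5, 4, 7, 2, 7, 1, 5, 3, 7, 2, 7, 2, 0, 3, 1, 4, 0, 2]
def rw8555 : List ℕ := [5, 5, 2, 7, 5, 2, 5, 1, 2, 0, 4, 3, 4, 6, 3, 4, 4, 3, 4, 7, 4, 2, 2, 3, 3, 3, 5, 6, 5, 2]
def rw8556 : List ℕ := [5, 2, 0, 4, 7, 4, 3, 5, 6, 5, 1, 3, 4, 3, 1, 5, 1, 7, 1, 3, 1, 2, 0, 2, 0, 6, 0, 4, 0, 2]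
def rw8557 : List ℕ := [5, 2, 0, 4, 7, 4, 7, 5, 6, 5, 1, 3, 4, 3, 1, 5, 1, 7, 1, 3, 1, 6, 0, 2, 0, 6, 0, 4, 0, 2]
def rw8558 : List ℕ := [6, 0, 5, 3, 5, 7, 2, 7, 1, 7, 2, 7, 5, 3, 5, 7, 4, 2, 4, 6, 3, 6, 0, 6, 3, 6, 4, 2, 4, 1]
def rw8559 : List ℕ := [1, 1, 1, 0, 0, 0, 0, 4, 3, 4, 6, 3, 0, 6, 6, 0, 0, 5, 1, 4, 1, 1, 7, 7, 1, 2, 7, 5, 2, 5]
def rw8560 : List ℕ := [0, 0, 4, 3, 4, 6, 3, 0, 6, 6, 0, 0, 5, 5, 4, 1, 1, 7, 7, 1, 2, 7, 5, 2, 5, 1, 1, 1, 4, 0]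
def rw8561 : List ℕ := [4, 6, 3, 0, 6, 6, 0, 0, 5, 7, 4, 1, 1, 7, 7, 1, 2, 7, 5, 2, 5, 1, 1, 1, 6, 0, 0, 0, 4, 3]
def rw8562 : List ℕ := [4, 2, 6, 3, 0, 2, 6, 3, 3, 1, 2, 0, 2, 2, 7, 3, 1, 2, 7, 3, 5, 2, 7, 2, 7, 3, 6, 3, 6, 3]
def rw8563 : List ℕ := [1, 4, 1, 3, 5, 0, 3, 1, 0, 0, 2, 1, 4, 2, 0, 5, 0, 5, 2, 7, 3, 1, 6, 1, 7, 0, 2, 6, 3, 4]
def rw8564 : List ℕ := [7, 4, 7, 4, 3, 5, 6, 5, 6, 3, 4, 7, 4, 3, 4, 0, 6, 5, 1, 2, 0, 4, 7, 1, 5, 2, 5, 6, 5, 2]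
def rw8565 : List ℕ := [7, 1, 5, 2, 5, 6, 5, 2, 7, 4, 7, 4, 3, 5, 6, 5, 6, 3, 4, 7, 4, 3, 4, 0, 6, 5, 1, 2, 0, 4]
def rw8566 : List ℕ := [3, 0, 3, 4, 0, 3, 4, 7, 1, 6, 5, 2, 1, 5, 2, 1, 2, 2, 2, 5, 7, 3, 1, 0, 0, 2, 6, 4, 3, 3]
def rw8567 : List ℕ := [0, 3, 5, 5, 3, 3, 0, 4, 7, 7, 5, 2, 7, 4, 5, 5, 6, 3, 4, 6, 6, 5, 1, 2, 2, 4, 4, 2, 1, 4]
def rw8568 : List ℕ := [1, 2, 2, 4, 4, 2, 1, 6, 0, 3, 5, 5, 3, 3, 0, 4, 7, 7, 5, 2, 7, 4, 7, 5, 6, 3, 4, 6, 6, 5]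
def rw8569 : List ℕ := [5, 6, 3, 3, 7, 0, 5, 6, 1, 7, 4, 1, 6, 2, 2, 7, 4, 1, 6, 1, 3, 3, 1, 0, 0, 2, 2, 0, 7, 0]
def rw8570 : List ℕ := [3, 7, 0, 5, 6, 3, 7, 4, 1, 6, 2, 2, 7, 4, 1, 6, 1, 3, 3, 1, 2, 0, 2, 2, 0, 7, 0, 5, 6, 3]
def rw8571 : List ℕ := [1, 2, 0, 5, 3, 5, 7, 0, 2, 6, 1, 7, 3, 1, 6, 4, 2, 4, 1, 3, 0, 5, 0, 3, 1, 0, 0, 2, 1, 4]
def rw8572 : List ℕ := [7, 4, 4, 1, 2, 7, 0, 2, 6, 6, 3, 0, 3, 1, 0, 0, 2, 1, 2, 7, 7, 3, 1, 6, 3, 0, 5, 5, 6, 1]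
def rw8573 : List ℕ := [0, 2, 1, 2, 7, 7, 3, 1, 6, 3, 0, 5, 5, 6, 3, 7, 4, 4, 1, 2, 7, 0, 2, 6, 6, 3, 0, 3, 1, 2]
def rw8574 : List ℕ := [4, 2, 4, 4, 1, 2, 7, 7, 1, 4, 6, 3, 7, 5, 0, 6, 6, 3, 0, 5, 5, 3, 5, 7, 3, 1, 2, 0, 2, 6]
def rw8575 : List ℕ := [4, 3, 6, 5, 6, 3, 4, 0, 6, 0, 6, 7, 7, 1, 7, 1, 5, 2, 7, 4, 7, 2, 5, 6, 5, 1, 6, 0, 4, 7]
def rw8576 : List ℕ := [3, 4, 3, 6, 6, 3, 4, 1, 2, 0, 5, 2, 7, 7, 2, 5, 2, 5, 5, 3, 5, 7, 5, 3, 4, 6, 4, 2, 4, 4]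
def rw8577 : List ℕ := [4, 2, 4, 4, 3, 4, 3, 6, 6, 3, 4, 1, 4, 0, 5, 2, 7, 7, 2, 5, 2, 5, 5, 3, 5, 7, 5, 5, 4, 6]
def rw8578 : List ℕ := [5, 0, 2, 4, 1, 5, 3, 1, 4, 1, 2, 7, 3, 1, 6, 3, 1, 3, 1, 0, 0, 2, 0, 2, 7, 0, 2, 6, 3, 0]
def rw8579 : List ℕ := [4, 6, 3, 1, 6, 2, 1, 3, 5, 2, 0, 3, 7, 0, 2, 7, 5, 7, 2, 6, 5, 1, 1, 4, 0, 0, 4, 7, 3, 6]
def rw8580 : List ℕ := [0, 3, 1, 7, 1, 3, 1, 1, 6, 0, 0, 2, 0, 6, 0, 2, 1, 2, 7, 4, 2, 0, 5, 7, 4, 1, 3, 5, 6, 3]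
def rw8581 : List ℕ := [6, 3, 4, 1, 5, 2, 7, 2, 7, 4, 3, 0, 7, 2, 7, 1, 1, 1, 0, 0, 0, 0, 6, 3, 6, 1, 2, 5, 6, 3]
def rw8582 : List ℕ := [5, 6, 3, 7, 2, 7, 4, 7, 2, 7, 1, 3, 1, 7, 4, 1, 3, 1, 6, 0, 2, 0, 5, 6, 0, 2, 0, 6, 3, 6]
def rw8583 : List ℕ := [2, 7, 4, 0, 6, 3, 6, 3, 1, 7, 4, 7, 5, 6, 0, 2, 7, 2, 7, 1, 5, 6, 3, 1, 3, 1, 6, 0, 2, 0]
def rw8584 : List ℕ := [0, 4, 3, 4, 4, 4, 3, 4, 7, 4, 1, 4, 2, 6, 7, 7, 3, 5, 0, 5, 6, 5, 2, 5, 5, 5, 2, 5, 1, 6]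
def rw8585 : List ℕ := [0, 0, 2, 5, 5, 1, 7, 7, 5, 6, 2, 7, 2, 7, 3, 6, 3, 6, 3, 7, 4, 6, 6, 0, 4, 4, 3, 1, 1, 2]
def rw8586 : List ℕ := [5, 6, 2, 7, 2, 7, 3, 6, 3, 6, 3, 7, 4, 6, 6, 0, 4, 4, 3, 1, 1, 2, 0, 0, 2, 5, 5, 1, 7, 7]
def rw8587 : List ℕ := [1, 6, 0, 0, 2, 5, 5, 1, 7, 7, 5, 6, 2, 7, 2, 7, 7, 6, 3, 6, 3, 7, 4, 6, 6, 0, 4, 4, 3, 1]
def rw8588 : List ℕ := [2, 7, 3, 1, 6, 0, 2, 5, 1, 4, 3, 1, 7, 0, 2, 6, 3, 0, 5, 3, 1, 3, 1, 0, 0, 2, 0, 2, 4, 1]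
def rw8589 : List ℕ := [4, 7, 2, 7, 4, 3, 6, 3, 6, 3, 4, 3, 4, 1, 5, 2, 5, 2, 7, 2, 7, 2, 5, 6, 3, 6, 5, 1, 0, 0]
def rw8590 : List ℕ := [3, 4, 3, 5, 2, 5, 2, 7, 2, 7, 2, 5, 6, 3, 6, 5, 1, 2, 0, 4, 7, 2, 7, 4, 3, 6, 3, 6, 3, 4]
def rw8591 : List ℕ := [0, 5, 6, 3, 5, 1, 4, 2, 7, 4, 1, 6, 4, 3, 4, 2, 2, 1, 2, 1, 0, 0, 3, 0, 3, 3, 5, 2, 5, 7]
def rw8592 : List ℕ := [5, 0, 5, 6, 3, 3, 1, 6, 0, 2, 2, 7, 4, 1, 4, 3, 1, 3, 4, 2, 6, 3, 7, 2, 7, 3, 5, 2, 0, 2]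
def rw8593 : List ℕ := [3, 5, 3, 5, 3, 6, 3, 3, 1, 6, 0, 2, 2, 7, 2, 4, 2, 4, 2, 1, 4, 1, 6, 3, 7, 2, 7, 0, 5, 0]
def rw8594 : List ℕ := [5, 3, 6, 3, 3, 1, 6, 0, 2, 2, 7, 2, 4, 2, 4, 2, 1, 4, 1, 6, 3, 7, 2, 7, 0, 5, 0, 3, 5, 3]
def rw8595 : List ℕ := [0, 6, 0, 6, 3, 6, 0, 6, 0, 3, 3, 1, 3, 3, 2, 0, 2, 2, 1, 7, 1, 7, 2, 7, 1, 7, 1, 1, 2, 0]
def rw8596 : List ℕ := [0, 6, 0, 6, 3, 6, 0, 6, 0, 3, 3, 1, 3, 5, 2, 0, 2, 2, 1, 7, 1, 7, 2, 7, 1, 7, 1, 1, 4, 0]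
def rw8597 : List ℕ := [7, 1, 7, 1, 1, 6, 0, 0, 6, 0, 6, 3, 6, 0, 6, 0, 3, 3, 1, 3, 7, 2, 0, 2, 2, 1, 7, 1, 7, 2]
def rw8598 : List ℕ := [6, 0, 3, 3, 1, 3, 7, 2, 0, 2, 2, 1, 7, 1, 7, 2, 7, 1, 7, 1, 1, 6, 0, 0, 6, 0, 6, 3, 6, 0]
def rw8599 : List ℕ := [0, 6, 3, 6, 3, 1, 2, 7, 2, 7, 1, 7, 2, 7, 2, 2, 1, 3, 1, 1, 0, 0, 0, 2, 0, 3, 3, 6, 3, 6]
def rw8600 : List ℕ := [3, 3, 6, 3, 6, 0, 6, 3, 6, 3, 5, 2, 7, 2, 7, 1, 7, 2, 7, 2, 2, 1, 3, 1, 1, 4, 0, 0, 2, 0]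
def rw8601 : List ℕ := [2, 1, 6, 0, 2, 2, 6, 3, 6, 3, 4, 2, 6, 3, 7, 3, 5, 2, 7, 2, 7, 3, 3, 1, 7, 0, 3, 1, 2, 0]
def rw8602 : List ℕ := [3, 3, 1, 4, 0, 2, 2, 2, 7, 0, 2, 4, 3, 1, 3, 0, 5, 6, 5, 7, 4, 1, 2, 0, 2, 5, 3, 1, 6, 3]
def rw8603 : List ℕ := [4, 3, 1, 3, 0, 5, 6, 7, 7, 4, 1, 2, 0, 2, 5, 3, 1, 6, 3, 3, 3, 1, 6, 0, 2, 2, 2, 7, 0, 2]
def rw8604 : List ℕ := [1, 0, 0, 5, 3, 5, 0, 5, 3, 5, 1, 4, 2, 4, 1, 4, 2, 4]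
def rw8605 : List ℕ := [4, 0, 0, 5, 0, 5, 0, 0, 5, 0, 5, 5, 4, 1, 4, 1, 1, 4, 1, 4, 1, 1]
def rw8606 : List ℕ := [6, 0, 0, 5, 0, 5, 0, 0, 5, 0, 5, 7, 4, 1, 4, 1, 1, 4, 1, 4, 1, 1]
def rw8607 : List ℕ := [4, 1, 4, 1, 4, 1, 4, 1, 4, 1, 2, 0, 5, 0, 5, 0, 5, 0, 5, 0, 5, 3]
def rw8608 : List ℕ := [1, 4, 1, 4, 1, 2, 0, 5, 0, 5, 0, 5, 0, 5, 0, 5, 3, 4, 1, 4, 1, 4]
def rw8609 : List ℕ := [2, 4, 2, 4, 2, 2, 4, 2, 4, 1, 5, 3, 5, 3, 3, 5, 3, 5, 3, 3, 0, 2]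
def rw8610 : List ℕ := [2, 4, 2, 2, 4, 4, 4, 5, 5, 5, 5, 3, 3, 5, 3, 1, 5, 1, 1, 4, 0, 0, 4, 0]
def rw8611 : List ℕ := [3, 3, 5, 0, 4, 5, 5, 1, 4, 2, 2, 4, 2, 5, 5, 1, 1, 4, 0, 0, 4, 4, 3, 5]
def rw8612 : List ℕ := [2, 1, 4, 0, 3, 3, 5, 3, 3, 0, 3, 4, 4, 3, 5, 2, 5, 5, 2, 1, 2, 2, 4, 2]
def rw8613 : List ℕ := [3, 0, 3, 4, 4, 3, 5, 2, 5, 5, 2, 1, 2, 2, 4, 2, 2, 1, 4, 0, 3, 3, 5, 3]
def rw8614 : List ℕ := [2, 5, 0, 0, 2, 2, 2, 1, 4, 5, 5, 0, 3, 3, 3, 1, 1, 4, 3, 1, 1, 1, 4, 0, 0, 0]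
def rw8615 : List ℕ := [4, 3, 5, 0, 0, 2, 1, 2, 1, 4, 3, 1, 1, 1, 2, 0, 0, 0, 2, 5, 0, 3, 0, 3, 1, 1]
def rw8616 : List ℕ := [2, 1, 4, 0, 0, 2, 1, 5, 3, 4, 0, 3, 1, 1, 5, 0, 3, 0, 3, 1, 1, 2, 0, 0, 2, 1]
def rw8617 : List ℕ := [1, 2, 0, 0, 4, 0, 4, 4, 0, 0, 4, 0, 4, 4, 3, 5, 5, 1, 5, 1, 1, 5, 5, 1, 5, 1]
def rw8618 : List ℕ := [0, 4, 0, 4, 4, 0, 0, 4, 0, 4, 4, 5, 5, 5, 1, 5, 1, 1, 5, 5, 1, 5, 1, 1, 4, 0]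
def rw8619 : List ℕ := [1, 1, 6, 0, 0, 4, 0, 4, 4, 0, 0, 4, 0, 4, 4, 7, 5, 5, 1, 5, 1, 1, 5, 5, 1, 5]
def rw8620 : List ℕ := [5, 1, 4, 0, 0, 4, 4, 0, 5, 1, 1, 0, 0, 0, 4, 1, 5, 5, 1, 1, 5, 0, 4, 4, 1, 5]
def rw8621 : List ℕ := [0, 0, 4, 4, 0, 5, 1, 1, 0, 0, 0, 4, 1, 5, 5, 1, 1, 5, 0, 4, 4, 1, 5, 5, 1, 4]
def rw8622 : List ℕ := [1, 1, 2, 0, 0, 4, 1, 5, 5, 1, 1, 5, 0, 4, 4, 3, 5, 5, 1, 4, 0, 0, 4, 4, 0, 5]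
def rw8623 : List ℕ := [1, 5, 2, 2, 5, 1, 1, 2, 0, 0, 4, 3, 3, 4, 0, 0, 4, 3, 3, 4, 3, 5, 2, 2, 5, 1]
def rw8624 : List ℕ := [4, 0, 0, 4, 4, 1, 5, 5, 1, 1, 5, 5, 1, 1, 5, 5, 1, 1, 0, 0, 0, 4, 4, 0, 0, 4]
def rw8625 : List ℕ := [4, 4, 3, 5, 5, 1, 1, 5, 5, 1, 1, 5, 5, 1, 1, 2, 0, 0, 4, 4, 0, 0, 4, 4, 0, 0]
def rw8626 : List ℕ := [0, 4, 0, 0, 4, 4, 0, 4, 1, 5, 1, 5, 5, 1, 1, 5, 1, 5, 5, 1, 1, 0, 0, 0, 4, 4]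
def rw8627 : List ℕ := [4, 0, 4, 3, 5, 1, 5, 5, 1, 1, 5, 1, 5, 5, 1, 1, 2, 0, 0, 4, 4, 0, 4, 0, 0, 4]
def rw8628 : List ℕ := [1, 4, 2, 4, 1, 4, 1, 3, 5, 2, 0, 5, 0, 5, 3, 5, 0, 5, 1, 3, 1, 4, 0, 2, 0, 4]
def rw8629 : List ℕ := [1, 3, 4, 1, 3, 1, 4, 1, 3, 1, 2, 0, 2, 0, 5, 0, 2, 0, 5, 2, 0, 2, 5, 3, 4, 3]
def rw8630 : List ℕ := [3, 1, 0, 0, 2, 1, 3, 5, 3, 5, 0, 5, 3, 5, 2, 1, 3, 4, 2, 4, 1, 4, 2, 4, 2, 0]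
def rw8631 : List ℕ := [4, 2, 4, 1, 4, 2, 4, 2, 0, 3, 1, 0, 0, 2, 1, 3, 5, 3, 5, 0, 5, 3, 5, 2, 1, 3]
def rw8632 : List ℕ := [2, 0, 3, 1, 4, 0, 2, 1, 3, 5, 3, 5, 0, 5, 3, 5, 2, 5, 3, 4, 2, 4, 1, 4, 2, 4]
def rw8633 : List ℕ := [2, 4, 2, 0, 3, 1, 4, 0, 2, 1, 3, 5, 3, 5, 0, 5, 3, 5, 2, 5, 3, 4, 2, 4, 1, 4]
def rw8634 : List ℕ := [0, 4, 1, 5, 1, 3, 0, 4, 4, 3, 4, 4, 0, 3, 1, 0, 0, 2, 1, 5, 5, 2, 5, 5, 1, 2]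
def rw8635 : List ℕ := [0, 4, 4, 3, 4, 4, 0, 3, 1, 2, 0, 2, 1, 5, 5, 2, 5, 5, 1, 2, 0, 4, 3, 5, 1, 3]
def rw8636 : List ℕ := [3, 4, 4, 3, 4, 4, 0, 3, 1, 0, 0, 2, 1, 5, 5, 2, 5, 5, 2, 0, 3, 4, 1, 5, 2, 1]
def rw8637 : List ℕ := [3, 3, 1, 4, 0, 2, 2, 0, 5, 0, 5, 3, 5, 0, 5, 2, 5, 3, 4, 1, 4, 2, 4, 1, 4, 1]
def rw8638 : List ℕ := [0, 3, 0, 2, 5, 0, 3, 3, 2, 1, 4, 3, 1, 2, 1, 5, 0, 3, 3, 1, 2, 0, 2, 2, 1, 4]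
def rw8639 : List ℕ := [2, 0, 5, 3, 5, 5, 4, 2, 4, 1, 3, 3, 5, 3, 5, 3, 3, 1, 4, 0, 2, 2, 4, 2, 4, 2]
def rw8640 : List ℕ := [4, 1, 4, 1, 5, 3, 4, 0, 5, 0, 5, 0, 3, 5, 0, 5, 3, 1, 2, 0, 2, 4, 1, 4, 2, 1]
def rw8641 : List ℕ := [2, 0, 5, 3, 5, 7, 4, 2, 4, 1, 3, 5, 3, 5, 3, 5, 3, 1, 6, 0, 2, 4, 2, 4, 2, 4]
def rw8642 : List ℕ := [4, 0, 5, 3, 5, 7, 4, 2, 4, 1, 5, 3, 5, 3, 5, 5, 3, 1, 6, 0, 2, 4, 4, 2, 4, 2]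
def rw8643 : List ℕ := [5, 5, 1, 4, 4, 3, 3, 3, 0, 3, 0, 3, 4, 3, 1, 0, 0, 2, 5, 2, 1, 2, 1, 2, 2, 2]
def rw8644 : List ℕ := [3, 1, 0, 0, 2, 5, 2, 5, 2, 5, 2, 0, 4, 3, 4, 1, 5, 2, 5, 1, 3, 4, 3, 4, 3, 4]
def rw8645 : List ℕ := [2, 4, 1, 3, 5, 2, 4, 2, 4, 2, 1, 2, 0, 3, 5, 3, 5, 3, 4, 2, 0, 5, 3, 5, 3, 4]
def rw8646 : List ℕ := [1, 6, 0, 4, 1, 4, 1, 4, 4, 4, 1, 4, 1, 4, 7, 5, 0, 5, 0, 5, 5, 5, 0, 5, 0, 5]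
def rw8647 : List ℕ := [4, 1, 3, 4, 1, 3, 4, 1, 3, 4, 1, 6, 0, 5, 2, 0, 5, 2, 0, 5, 2, 0, 5, 2, 7, 3]
def rw8648 : List ℕ := [4, 3, 4, 2, 5, 1, 4, 3, 5, 2, 5, 3, 4, 3, 5, 2, 5, 3, 0, 2, 4, 3, 4, 2, 5, 2]
def rw8649 : List ℕ := [4, 7, 4, 7, 3, 6, 5, 6, 5, 6, 5, 6, 5, 2, 4, 7, 4, 7]
def rw8650 : List ℕ := [7, 2, 7, 1, 1, 2, 0, 0, 6, 3, 6, 1, 4, 0, 6, 3, 6, 5, 3, 4, 7, 2, 7, 1, 5, 0]
def rw8651 : List ℕ := [1, 1, 4, 0, 0, 7, 2, 7, 2, 0, 3, 7, 2, 7, 2, 5, 3, 6, 3, 6, 2, 1, 3, 6, 3, 6]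
def rw8652 : List ℕ := [7, 4, 7, 2, 7, 7, 6, 3, 6, 5, 6, 0, 2, 5, 6, 1, 3, 1, 6, 0, 2, 0, 7, 4, 3, 1]
def rw8653 : List ℕ := [1, 7, 1, 7, 2, 7, 1, 7, 1, 2, 5, 3, 0, 6, 0, 6, 3, 6, 0, 6, 0, 3, 1, 4, 0, 2]
def rw8654 : List ℕ := [3, 3, 5, 7, 4, 2, 2, 7, 0, 2, 6, 3, 3, 5, 3, 1, 6, 0, 2, 4, 2, 2, 7, 3, 1, 6]
def rw8655 : List ℕ := [0, 2, 7, 2, 7, 1, 5, 6, 5, 7, 4, 0, 6, 3, 6, 3, 1, 7, 4, 3, 1, 4, 0, 2, 5, 6]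
def rw8656 : List ℕ := [6, 0, 4, 3, 6, 7, 7, 2, 5, 1, 7, 2, 5, 1, 7, 2, 5, 1, 6, 0, 4, 3, 6, 0, 4, 3]
def rw8657 : List ℕ := [6, 2, 5, 1, 7, 4, 6, 2, 5, 1, 4, 0, 4, 3, 7, 5, 6, 0, 4, 3, 7, 5, 6, 5, 7, 4]
def rw8658 : List ℕ := [4, 7, 2, 7, 1, 5, 3, 7, 2, 7, 1, 0, 0, 6, 3, 6, 2, 4, 0, 6, 3, 6, 5, 3, 1, 2]
def rw8659 : List ℕ := [6, 4, 1, 1, 5, 5, 1, 1, 4, 0, 0, 4, 4, 0, 0, 5, 7, 3, 1, 6, 3, 3, 5, 2, 2, 7, 0, 2]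
def rw8660 : List ℕ := [4, 7, 7, 2, 7, 1, 6, 5, 1, 1, 2, 0, 0, 4, 7, 0, 6, 3, 6, 6, 5, 5, 0, 5, 3, 4, 1, 4]
def rw8661 : List ℕ := [7, 2, 7, 1, 6, 5, 5, 0, 5, 5, 4, 1, 4, 4, 7, 0, 6, 3, 6, 6, 5, 1, 1, 4, 0, 0, 4, 7]
def rw8662 : List ℕ := [7, 1, 7, 2, 6, 3, 5, 5, 4, 2, 7, 3, 6, 0, 6, 6, 3, 1, 4, 1, 1, 4, 0, 0, 5, 0, 2, 7]
def rw8663 : List ℕ := [6, 1, 3, 4, 4, 3, 5, 5, 2, 0, 7, 4, 2, 0, 5, 6, 4, 1, 1, 2, 0, 0, 5, 7, 4, 1, 3, 5]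
def rw8664 : List ℕ := [2, 0, 5, 6, 4, 1, 1, 2, 0, 0, 5, 7, 4, 1, 3, 5, 6, 1, 3, 4, 4, 3, 5, 5, 2, 0, 7, 4]
def rw8665 : List ℕ := [7, 4, 1, 3, 1, 6, 0, 2, 0, 5, 6, 3, 5, 0, 5, 0, 3, 4, 7, 7, 6, 5, 2, 1, 4, 1, 4, 2]
def rw8666 : List ℕ := [5, 6, 5, 1, 3, 0, 5, 0, 5, 7, 4, 1, 3, 1, 4, 0, 2, 0, 5, 6, 4, 1, 4, 1, 2, 0, 4, 7]
def rw8667 : List ℕ := [7, 2, 0, 6, 2, 7, 4, 5, 5, 6, 3, 7, 1, 3, 6, 3, 6, 6, 1, 3, 1, 4, 0, 2, 0, 7, 7, 2]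
def rw8668 : List ℕ := [6, 0, 3, 1, 4, 0, 2, 1, 7, 1, 6, 1, 5, 5, 1, 3, 4, 6, 5, 7, 5, 2, 0, 4, 4, 0, 7, 0]
def rw8669 : List ℕ := [7, 4, 2, 1, 3, 5, 6, 4, 1, 4, 1, 2, 0, 4, 7, 3, 1, 0, 0, 2, 6, 5, 1, 3, 0, 5, 0, 5]
def rw8670 : List ℕ := [0, 6, 3, 1, 4, 0, 2, 7, 1, 6, 1, 5, 5, 1, 3, 4, 6, 3, 5, 2, 7, 5, 2, 0, 4, 4, 0, 7]
def rw8671 : List ℕ := [7, 3, 6, 5, 1, 3, 6, 3, 4, 6, 2, 5, 2, 5, 1, 2, 0, 4, 3, 4, 3, 7, 5, 2, 7, 2, 0, 4]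
def rw8672 : List ℕ := [7, 4, 2, 6, 4, 5, 5, 7, 3, 5, 6, 6, 3, 3, 6, 6, 3, 3, 3, 4, 2, 2, 2, 7, 7, 2, 2, 7]
def rw8673 : List ℕ := [7, 7, 4, 2, 6, 4, 5, 5, 7, 3, 5, 6, 6, 3, 3, 6, 6, 3, 3, 3, 4, 2, 2, 2, 7, 7, 2, 2]
def rw8674 : List ℕ := [3, 5, 6, 2, 2, 2, 4, 7, 5, 3, 3, 3, 7, 4, 2, 6, 4, 0, 5, 3, 5, 1, 6, 0, 4, 2, 4, 1, 5, 7]
def rw8675 : List ℕ := [6, 2, 2, 2, 4, 7, 5, 3, 3, 3, 7, 4, 2, 6, 4, 0, 5, 3, 5, 1, 6, 0, 4, 2, 4, 1, 5, 7, 3, 5]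
def rw8676 : List ℕ := [2, 5, 2, 5, 2, 6, 0, 4, 3, 4, 3, 3, 1, 2, 0, 2, 2, 5, 2, 5, 1, 7, 3, 4, 3, 4, 3, 6, 3, 7]
def rw8677 : List ℕ := [7, 5, 7, 4, 6, 5, 1, 7, 4, 6, 2, 4, 4, 1, 5, 5, 1, 6, 0, 4, 4, 0, 5, 5, 3, 7, 5, 6, 0, 4]
def rw8678 : List ℕ := [3, 6, 4, 3, 1, 0, 0, 2, 5, 7, 2, 6, 4, 3, 4, 1, 5, 2, 1, 6, 1, 7, 0, 3, 4, 0, 5, 2, 5, 7]
def rw8679 : List ℕ := [7, 7, 6, 0, 4, 0, 2, 5, 2, 0, 4, 7, 4, 1, 3, 1, 6, 0, 2, 0, 5, 6, 5, 1, 3, 4, 3, 1, 5, 1]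
def rw8680 : List ℕ := [7, 4, 1, 6, 5, 3, 4, 3, 4, 2, 5, 1, 4, 3, 5, 2, 5, 2, 4, 7, 0, 5, 6, 1, 2, 1, 0, 0, 3, 0]
def rw8681 : List ℕ := [4, 2, 6, 6, 6, 3, 7, 3, 4, 1, 5, 2, 6, 2, 7, 7, 7, 3, 5, 5, 6, 6, 3, 3, 0, 2, 2, 7, 7, 4]
def rw8682 : List ℕ := [6, 5, 6, 5, 2, 7, 3, 6, 3, 4, 7, 4, 7, 4, 0, 2, 5, 6, 1, 3, 1, 2, 0, 2, 0, 7, 4, 3, 1, 5]
def rw8683 : List ℕ := [4, 0, 2, 5, 6, 1, 3, 1, 4, 0, 2, 0, 7, 4, 3, 1, 5, 6, 5, 6, 5, 2, 7, 5, 6, 3, 4, 7, 4, 7]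
def rw8684 : List ℕ := [6, 5, 2, 0, 6, 3, 1, 4, 0, 2, 7, 1, 3, 4, 7, 2, 0, 6, 5, 2, 0, 6, 5, 7, 1, 3, 4, 7, 1, 3]
def rw8685 : List ℕ := [0, 4, 7, 2, 0, 4, 3, 6, 1, 7, 2, 5, 1, 3, 6, 5, 1, 7, 1, 5, 1, 3, 1, 0, 0, 2, 0, 4, 0, 6]
def rw8686 : List ℕ := [4, 0, 6, 0, 4, 7, 2, 0, 4, 3, 6, 7, 7, 2, 5, 1, 3, 6, 5, 1, 7, 1, 5, 1, 3, 1, 6, 0, 2, 0]
def rw8687 : List ℕ := [3, 5, 3, 5, 7, 3, 6, 4, 2, 4, 2, 6, 4, 3, 4, 3, 4, 6, 3, 3, 2, 2, 2, 7, 5, 2, 5, 2, 5, 7]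
def rw8688 : List ℕ := [3, 6, 0, 4, 1, 4, 3, 1, 0, 0, 2, 5, 0, 5, 1, 7, 2, 7, 2, 2, 6, 3, 6, 1, 7, 2, 7, 3, 3, 6]
def rw8689 : List ℕ := [7, 3, 1, 7, 5, 3, 6, 3, 3, 2, 7, 2, 4, 6, 0, 2, 6, 0, 5, 7, 1, 3, 1, 2, 0, 2, 0, 6, 4, 1]
def rw8690 : List ℕ := [6, 3, 5, 2, 7, 1, 5, 1, 5, 1, 2, 7, 1, 5, 1, 5, 1, 4, 0, 4, 0, 4, 0, 6, 3, 0, 4, 0, 4, 0]
def rw8691 : List ℕ := [6, 3, 4, 0, 6, 3, 4, 7, 5, 2, 7, 1, 5, 2, 7, 1, 5, 6, 5, 6, 3, 1, 6, 0, 2, 7, 4, 7, 4, 0]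
def rw8692 : List ℕ := [4, 0, 4, 4, 3, 1, 2, 0, 2, 5, 5, 1, 5, 7, 3, 1, 6, 4, 0, 4, 4, 3, 5, 5, 1, 5, 7, 0, 2, 6]
def rw8693 : List ℕ := [1, 4, 1, 6, 3, 7, 2, 7, 0, 5, 0, 5, 3, 5, 3, 5, 6, 3, 3, 1, 6, 0, 2, 2, 7, 4, 2, 4, 2, 4]
def rw8694 : List ℕ := [6, 3, 4, 7, 4, 7, 4, 5, 5, 6, 5, 6, 5, 2, 7, 3, 1, 3, 7, 4, 3, 1, 4, 0, 2, 5, 6, 2, 0, 2]
def rw8695 : List ℕ := [1, 3, 6, 6, 5, 7, 7, 2, 0, 6, 6, 5, 1, 2, 0, 4, 0, 3, 1, 4, 0, 2, 1, 5, 1, 3, 0, 4, 7, 7]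
def rw8696 : List ℕ := [6, 6, 3, 3, 1, 0, 0, 2, 2, 7, 7, 1, 4, 2, 7, 5, 6, 5, 1, 5, 1, 4, 0, 4, 7, 4, 6, 3, 5, 0]
def rw8697 : List ℕ := [6, 3, 4, 2, 6, 3, 0, 2, 6, 7, 7, 3, 1, 2, 7, 3, 5, 2, 7, 2, 7, 3, 3, 1, 6, 0, 2, 2, 6, 3]
def rw8698 : List ℕ := [1, 7, 4, 6, 2, 7, 5, 3, 4, 6, 3, 7, 5, 6, 0, 4, 4, 4, 1, 5, 5, 1, 2, 0, 4, 4, 0, 5, 5, 5]
def rw8699 : List ℕ := [7, 5, 6, 0, 4, 4, 4, 1, 5, 5, 1, 2, 0, 4, 4, 0, 5, 5, 5, 1, 7, 4, 6, 2, 7, 5, 3, 4, 6, 3]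
def rw8700 : List ℕ := [6, 0, 0, 5, 3, 4, 1, 1, 7, 7, 1, 2, 7, 5, 2, 5, 1, 1, 1, 2, 0, 0, 0, 4, 3, 4, 6, 3, 0, 6]
def rw8701 : List ℕ := [3, 7, 5, 6, 3, 1, 2, 7, 4, 6, 2, 7, 1, 4, 0, 5, 1, 4, 3, 1, 0, 0, 2, 5, 0, 4, 1, 5, 0, 6]
def rw8702 : List ℕ := [1, 7, 4, 7, 4, 0, 6, 5, 1, 4, 7, 1, 5, 6, 5, 6, 0, 6, 5, 7, 2, 7, 1, 0, 0, 6, 3, 6, 4, 7]
def rw8703 : List ℕ := [6, 4, 7, 1, 7, 4, 7, 4, 0, 6, 5, 1, 4, 7, 1, 5, 6, 5, 6, 0, 6, 5, 7, 2, 7, 1, 0, 0, 6, 3]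
def rw8704 : List ℕ := [4, 3, 1, 3, 4, 2, 6, 3, 1, 2, 7, 3, 5, 2, 0, 2, 5, 0, 5, 6, 3, 3, 1, 0, 0, 2, 2, 7, 4, 1]
def rw8705 : List ℕ := [1, 2, 0, 5, 6, 3, 4, 2, 4, 4, 3, 4, 7, 3, 6, 5, 2, 5, 5, 3, 5, 2, 7, 4]
def rw8706 : List ℕ := [2, 7, 2, 5, 2, 7, 2, 7, 4, 7, 5, 6, 3, 6, 3, 4, 3, 6, 3, 6, 3, 1, 6, 0, 2, 7]
def rw8707 : List ℕ := [7, 1, 6, 5, 1, 1, 0, 0, 0, 4, 7, 0, 6, 3, 6, 6, 5, 5, 0, 5, 1, 4, 1, 4, 4, 7, 7, 2]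
def rw8708 : List ℕ := [5, 7, 4, 1, 3, 5, 6, 1, 3, 4, 4, 7, 5, 5, 2, 0, 7, 4, 2, 0, 5, 6, 4, 1, 1, 6, 0, 0]
def rw8709 : List ℕ := [1, 6, 1, 2, 2, 5, 3, 1, 0, 0, 2, 4, 3, 3, 0, 7, 0, 5, 6, 1, 2, 4, 1, 5, 3, 0, 7, 4]
def rw8710 : List ℕ := [5, 1, 6, 5, 7, 0, 4, 3, 1, 7, 4, 2, 7, 1, 4, 3, 1, 4, 0, 2, 5, 0, 6, 3, 5, 6, 0, 2]
def rw8711 : List ℕ := [0, 6, 2, 7, 3, 4, 3, 1, 0, 0, 2, 5, 2, 6, 3, 7, 1, 6, 4, 2, 2, 5, 1, 4, 3, 3, 5, 7]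
def rw8712 : List ℕ := [4, 2, 7, 2, 5, 3, 6, 3, 5, 7, 2, 7, 2, 2, 7, 7, 3, 1, 4, 0, 2, 6, 6, 3, 3, 6, 3, 6]
def rw8713 : List ℕ := [2, 0, 6, 2, 7, 4, 2, 7, 3, 5, 6, 3, 7, 1, 3, 6, 3, 6, 6, 3, 1, 6, 0, 2, 7, 7, 2, 7]
def rw8714 : List ℕ := [3, 4, 6, 2, 5, 2, 5, 1, 0, 0, 4, 3, 4, 3, 7, 5, 2, 7, 2, 0, 4, 7, 1, 6, 5, 1, 3, 6]
def rw8715 : List ℕ := [7, 5, 7, 3, 5, 6, 6, 3, 3, 6, 6, 3, 3, 3, 6, 2, 2, 2, 7, 7, 2, 2, 7, 7, 4, 2, 6, 4]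
def rw8716 : List ℕ := [7, 4, 2, 6, 4, 0, 5, 3, 5, 1, 4, 0, 4, 2, 4, 1, 5, 7, 3, 5, 6, 2, 2, 2, 4, 5, 5, 3, 3, 3]
def rw8717 : List ℕ := [1, 2, 0, 0, 6, 3, 6, 1, 1, 5, 2, 7, 2, 7, 4, 3, 3, 2, 5, 6, 3, 6, 3, 4, 0, 0, 7, 2, 7, 1]
def rw8718 : List ℕ := [3, 1, 7, 4, 7, 2, 7, 3, 3, 1, 4, 0, 2, 2, 6, 3, 6, 5, 6, 0, 2, 5, 6, 1, 2, 5, 3, 0, 7, 4]
def rw8719 : List ℕ := [7, 4, 2, 4, 1, 2, 7, 7, 6, 3, 0, 5, 3, 5, 6, 3, 6, 3, 6, 3, 4, 1, 6, 0, 5, 2, 7, 2, 7, 2]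
def rw8720 : List ℕ := [3, 6, 4, 3, 1, 6, 0, 2, 5, 7, 2, 6, 4, 3, 4, 1, 5, 2, 1, 6, 7, 7, 0, 3, 4, 0, 5, 2, 5, 7]
def rw8721 : List ℕ := [7, 3, 5, 5, 6, 6, 3, 3, 0, 2, 2, 7, 7, 4, 4, 2, 6, 6, 6, 3, 7, 3, 4, 1, 5, 2, 6, 2, 7, 7]
def rw8722 : List ℕ := [3, 7, 3, 4, 7, 5, 2, 6, 2, 7, 7, 7, 3, 5, 5, 6, 6, 3, 3, 6, 2, 2, 7, 7, 4, 4, 2, 6, 6, 6]
def rw8723 : List ℕ := [2, 0, 6, 3, 7, 1, 3, 4, 7, 1, 3, 6, 5, 2, 0, 6, 3, 1, 2, 0, 2, 7, 1, 3, 4, 7, 2, 0, 6, 5]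
def rw8724 : List ℕ := [2, 7, 5, 3, 5, 3, 4, 2, 4, 6, 3, 3, 6, 6, 5, 2, 0, 5, 2, 1, 2, 0, 3, 4, 1, 3, 4, 7, 7, 2]
def rw8725 : List ℕ := [0, 5, 6, 4, 6, 3, 6, 3, 7, 2, 7, 5, 7, 4, 1, 2, 7, 3, 3, 5, 3, 1, 2, 0, 2, 4, 2, 2, 6, 3]
def rw8726 : List ℕ := [1, 7, 4, 2, 0, 5, 1, 3, 1, 0, 0, 2, 0, 4, 1, 3, 5, 6, 0, 2, 2, 2, 7, 3, 1, 2, 6, 3, 3, 3]
def rw8727 : List ℕ := [3, 6, 3, 6, 0, 4, 1, 4, 3, 6, 3, 6, 3, 7, 2, 7, 2, 5, 0, 5, 1, 7, 2, 7, 2, 2, 1, 2, 0, 3]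
def rw8728 : List ℕ := [0, 4, 1, 4, 3, 6, 3, 6, 5, 7, 2, 7, 2, 5, 0, 5, 1, 7, 2, 7, 2, 2, 1, 4, 0, 3, 3, 6, 3, 6]
def rw8729 : List ℕ := [4, 2, 0, 5, 6, 4, 4, 1, 4, 2, 2, 4, 1, 2, 0, 5, 3, 3, 5, 0, 5, 5, 7, 4, 1, 3, 5, 6, 3, 7]
def rw8730 : List ℕ := [4, 7, 4, 0, 6, 3, 4, 0, 6, 3, 4, 7, 5, 2, 7, 1, 5, 2, 7, 1, 5, 6, 5, 6, 3, 1, 6, 0, 2, 7]
def rw8731 : List ℕ := [1, 3, 6, 5, 2, 7, 4, 1, 5, 6, 3, 4, 7, 2, 0, 6, 0, 6, 5, 6, 5, 1, 0, 0, 4, 7, 4, 7, 1, 7]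
def rw8732 : List ℕ := [1, 3, 6, 5, 2, 7, 4, 3, 5, 6, 3, 4, 7, 2, 0, 6, 0, 6, 5, 6, 5, 1, 2, 0, 4, 7, 4, 7, 1, 7]
def rw8733 : List ℕ := [0, 2, 6, 3, 4, 7, 4, 7, 4, 1, 5, 6, 5, 6, 5, 2, 7, 3, 1, 3, 7, 4, 3, 1, 0, 0, 2, 5, 6, 2]
def rw8734 : List ℕ := [0, 2, 2, 7, 4, 1, 4, 1, 3, 1, 2, 0, 2, 0, 5, 0, 5, 6, 3, 3, 1, 2, 7, 3, 5, 3, 4, 2, 6, 3]
def rw8735 : List ℕ := [6, 3, 6, 3, 4, 3, 6, 3, 6, 3, 7, 2, 7, 2, 5, 2, 7, 2, 7, 4, 3, 1, 3, 1, 2, 0, 2, 0, 2, 5]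
def rw8736 : List ℕ := [7, 4, 7, 4, 3, 1, 7, 4, 1, 5, 6, 0, 2, 5, 6, 5, 6, 3, 6, 3, 4, 3, 1, 0, 0, 2, 5, 2, 7, 2]
def rw8737 : List ℕ := [4, 3, 6, 2, 5, 3, 7, 2, 5, 1, 3, 6, 5, 1, 7, 1, 5, 3, 1, 4, 0, 2, 4, 0, 6, 0, 4, 7, 2, 0]
def rw8738 : List ℕ := [7, 7, 5, 2, 7, 4, 7, 5, 6, 3, 4, 6, 6, 5, 1, 2, 2, 4, 4, 2, 1, 6, 0, 3, 5, 5, 3, 3, 0, 4]
def rw8739 : List ℕ := [1, 7, 3, 4, 3, 4, 1, 5, 2, 5, 2, 6, 0, 2, 6, 0, 2, 6, 3, 3, 1, 0, 0, 2, 2, 7, 3, 1, 7, 3]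
def rw8740 : List ℕ := [6, 1, 7, 1, 7, 1, 5, 2, 7, 4, 7, 2, 5, 6, 5, 1, 0, 0, 4, 7, 4, 3, 6, 5, 6, 3, 4, 0, 6, 0]
def rw8741 : List ℕ := [7, 4, 7, 4, 0, 6, 5, 5, 4, 7, 1, 5, 6, 5, 6, 0, 6, 5, 7, 2, 7, 1, 4, 0, 6, 3, 6, 4, 7, 1]
def rw8742 : List ℕ := [5, 6, 2, 7, 2, 7, 5, 6, 3, 6, 3, 7, 4, 6, 6, 0, 4, 4, 3, 1, 1, 4, 0, 0, 2, 5, 5, 1, 7, 7]
def rw8743 : List ℕ := [3, 5, 6, 4, 2, 0, 5, 5, 1, 4, 4, 1, 3, 5, 7, 4, 2, 0, 5, 6, 4, 3, 1, 0, 0, 2, 5, 7, 4, 1]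
def rw8744 : List ℕ := [2, 0, 5, 6, 4, 3, 1, 6, 0, 2, 5, 7, 4, 1, 3, 5, 6, 4, 2, 0, 5, 5, 7, 4, 4, 1, 3, 5, 7, 4]
def rw8745 : List ℕ := [7, 2, 5, 2, 7, 2, 7, 4, 3, 3, 1, 6, 0, 2, 2, 5, 6, 3, 6, 3, 4, 3, 6, 3, 6, 2, 7, 3, 7, 2]
def rw8746 : List ℕ := [4, 2, 4, 2, 1, 4, 1, 6, 5, 7, 0, 5, 0, 3, 5, 3, 5, 3, 6, 3, 0, 3, 1, 4, 0, 2, 1, 2, 7, 2]
def rw8747 : List ℕ := [4, 1, 2, 0, 5, 0, 5, 0, 5, 0, 5, 0, 5, 3, 4, 1, 4, 1, 4, 1, 4, 1]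
def rw8748 : List ℕ := [0, 2, 1, 2, 1, 4, 3, 1, 1, 1, 2, 0, 0, 0, 2, 5, 0, 3, 0, 3, 1, 1, 4, 3, 5, 0]
def rw8749 : List ℕ := [0, 5, 6, 3, 4, 2, 4, 4, 3, 4, 7, 3, 6, 5, 2, 5, 5, 3, 5, 2, 7, 4, 1, 2]
def rw8750 : List ℕ := [3, 4, 2, 4, 2, 0, 5, 2, 7, 1, 6, 3, 4, 1, 3, 5, 3, 5, 2, 7, 3, 1, 0, 0, 2, 6]
def rw8751 : List ℕ := [0, 2, 6, 4, 4, 4, 3, 5, 5, 5, 7, 3, 1, 6, 3, 3, 5, 5, 1, 1, 2, 0, 0, 4, 4, 2, 2, 7]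
def rw8752 : List ℕ := [7, 7, 1, 7, 2, 6, 3, 1, 4, 1, 1, 4, 0, 0, 5, 0, 2, 7, 3, 6, 0, 6, 6, 3, 5, 5, 4, 2]
def rw8753 : List ℕ := [3, 1, 7, 4, 3, 4, 3, 5, 2, 5, 6, 0, 2, 6, 6, 5, 2, 5, 3, 1, 2, 0, 2, 4, 3, 4, 7, 7]
def rw8754 : List ℕ := [1, 6, 1, 7, 0, 4, 3, 1, 7, 4, 2, 7, 1, 4, 3, 1, 0, 0, 2, 5, 0, 6, 3, 5, 6, 0, 2, 5]
def rw8755 : List ℕ := [7, 3, 4, 3, 1, 0, 0, 2, 5, 2, 6, 3, 7, 1, 6, 4, 2, 2, 5, 1, 4, 3, 3, 5, 7, 0, 6, 2]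
def rw8756 : List ℕ := [4, 4, 0, 7, 0, 6, 3, 1, 4, 0, 2, 7, 1, 6, 1, 5, 5, 1, 3, 4, 6, 3, 5, 2, 7, 5, 2, 0]
def rw8757 : List ℕ := [7, 4, 6, 2, 7, 4, 4, 1, 5, 5, 6, 3, 7, 5, 6, 5, 2, 5, 2, 5, 1, 0, 0, 4, 3, 4, 3, 4]
def rw8758 : List ℕ := [4, 7, 3, 6, 5, 1, 3, 6, 3, 4, 6, 2, 5, 2, 5, 1, 2, 0, 4, 3, 4, 3, 7, 5, 2, 7, 2, 0]
def rw8759 : List ℕ := [6, 3, 7, 2, 7, 3, 6, 6, 1, 7, 0, 5, 2, 7, 5, 1, 6, 0, 4, 6, 3, 4, 1, 6, 0, 7, 7, 2]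
def rw8760 : List ℕ := [4, 7, 0, 5, 0, 5, 7, 4, 3, 4, 7, 2, 7, 3, 6, 5, 2, 5, 6, 4, 1, 4, 1, 6, 5, 1, 6, 0]
def rw8761 : List ℕ := [7, 2, 2, 7, 7, 4, 2, 6, 4, 1, 5, 7, 3, 5, 6, 6, 3, 3, 6, 6, 3, 3, 3, 0, 2, 2, 2, 7]
def rw8762 : List ℕ := [0, 6, 3, 6, 0, 6, 4, 1, 4, 2, 4, 1, 0, 0, 5, 3, 5, 0, 5, 7, 1, 7, 2, 7, 1, 7, 5, 1, 4, 6]
def rw8763 : List ℕ := [0, 6, 3, 6, 0, 6, 4, 1, 4, 2, 4, 1, 4, 0, 5, 3, 5, 0, 5, 7, 1, 7, 2, 7, 1, 7, 5, 5, 4, 6]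
def rw8764 : List ℕ := [4, 2, 6, 4, 0, 5, 3, 5, 1, 6, 0, 4, 2, 4, 1, 5, 7, 3, 5, 6, 2, 2, 2, 4, 7, 5, 3, 3, 3, 7]
def rw8765 : List ℕ := [6, 3, 0, 5, 1, 2, 0, 4, 1, 2, 7, 7, 3, 4, 3, 4, 2, 7, 4, 2, 3, 3, 5, 6, 3, 5, 2, 5, 2, 6]
def rw8766 : List ℕ := [2, 6, 3, 3, 5, 1, 4, 2, 2, 7, 3, 1, 6, 3, 3, 5, 1, 3, 1, 1, 0, 0, 0, 2, 0, 4, 2, 2, 7, 0]
def rw8767 : List ℕ := [7, 2, 3, 3, 6, 3, 6, 4, 1, 3, 5, 7, 2, 7, 5, 3, 1, 2, 0, 2, 4, 6, 3, 6, 4, 2, 0, 5, 7, 2]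
def rw8768 : List ℕ := [1, 6, 4, 4, 0, 3, 4, 4, 1, 1, 1, 0, 0, 0, 0, 5, 5, 2, 1, 5, 5, 7, 0, 2, 6, 4, 1, 5, 7, 3]
def rw8769 : List ℕ := [3, 1, 6, 4, 4, 0, 3, 4, 4, 1, 1, 1, 2, 0, 0, 0, 5, 5, 2, 1, 5, 5, 7, 0, 2, 6, 4, 3, 5, 7]
def rw8770 : List ℕ := [0, 2, 2, 2, 7, 3, 5, 3, 1, 3, 5, 0, 5, 6, 5, 7, 4, 1, 4, 2, 0, 2, 4, 2, 6, 3, 3, 3, 1, 4]
def rw8771 : List ℕ := [5, 7, 4, 6, 3, 6, 4, 2, 0, 5, 7, 2, 7, 1, 3, 1, 6, 0, 2, 0, 6, 3, 6, 4, 1, 3, 5, 7, 2, 7]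
def rw8772 : List ℕ := [6, 0, 5, 3, 5, 1, 4, 2, 4, 1, 7, 3, 1, 6, 3, 4, 1, 4, 3, 1, 0, 0, 2, 5, 0, 5, 2, 7, 0, 2]
def rw8773 : List ℕ := [6, 4, 2, 2, 4, 1, 4, 4, 2, 5, 2, 7, 3, 1, 0, 0, 2, 6, 3, 4, 3, 5, 5, 0, 5, 3, 3, 5, 7, 1]
def rw8774 : List ℕ := [4, 6, 0, 6, 3, 7, 1, 7, 5, 6, 1, 4, 1, 4, 4, 3, 7, 3, 1, 2, 0, 2, 6, 2, 5, 5, 0, 5, 0, 7]
def rw8775 : List ℕ := [5, 6, 1, 4, 1, 4, 4, 3, 7, 3, 1, 4, 0, 2, 6, 2, 5, 5, 0, 5, 0, 7, 4, 6, 0, 6, 5, 7, 1, 7]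
def rw8776 : List ℕ := [0, 4, 0, 6, 3, 3, 2, 7, 1, 5, 1, 5, 1, 2, 7, 1, 5, 1, 5, 1, 2, 0, 4, 0, 4, 0, 6, 3, 0, 4]
def rw8777 : List ℕ := [4, 6, 3, 3, 1, 2, 0, 2, 2, 7, 5, 3, 6, 0, 2, 6, 4, 1, 7, 2, 3, 3, 6, 0, 5, 7, 3, 1, 7, 2]
def rw8778 : List ℕ := [0, 4, 7, 3, 1, 4, 0, 2, 6, 5, 1, 3, 6, 5, 1, 3, 6, 5, 2, 2, 5, 3, 3, 4, 7, 2, 0, 4, 7, 2]
def rw8779 : List ℕ := [2, 2, 7, 4, 2, 4, 2, 4, 1, 4, 1, 6, 3, 1, 2, 7, 0, 5, 0, 5, 3, 5, 3, 5, 6, 3, 3, 1, 0, 0]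
def rw8780 : List ℕ := [1, 2, 7, 3, 5, 1, 4, 2, 6, 3, 0, 2, 2, 7, 4, 1, 4, 1, 3, 1, 0, 0, 2, 0, 5, 0, 5, 6, 3, 3]
def rw8781 : List ℕ := [0, 6, 6, 4, 3, 4, 4, 0, 3, 3, 1, 6, 0, 2, 2, 1, 5, 5, 2, 5, 7, 7, 1, 3, 6, 6, 7, 7, 7, 2]
def rw8782 : List ℕ := [1, 6, 3, 3, 5, 2, 5, 3, 4, 2, 2, 7, 0, 2, 6, 3, 3, 5, 0, 3, 1, 4, 0, 2, 1, 4, 2, 2, 7, 3]
def rw8783 : List ℕ := [6, 3, 1, 2, 7, 4, 2, 6, 1, 5, 3, 1, 5, 5, 0, 3, 1, 0, 0, 2, 1, 4, 4, 0, 2, 4, 0, 7, 3, 5]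
def rw8784 : List ℕ := [6, 3, 1, 2, 7, 7, 4, 2, 4, 1, 6, 3, 0, 6, 3, 4, 1, 0, 0, 5, 2, 7, 1, 2, 7, 0, 5, 3, 5, 6]
def rw8785 : List ℕ := [4, 2, 4, 1, 6, 3, 0, 6, 3, 4, 1, 6, 0, 5, 2, 7, 1, 2, 7, 0, 5, 3, 5, 6, 6, 3, 7, 2, 7, 7]
def rw8786 : List ℕ := [2, 7, 2, 4, 2, 7, 2, 7, 5, 3, 1, 4, 0, 2, 4, 6, 3, 6, 3, 5, 3, 6, 3, 6, 3, 5, 5, 4, 2, 7]
def rw8787 : List ℕ := [6, 2, 6, 0, 5, 1, 4, 1, 7, 3, 7, 5, 1, 4, 1, 7, 3, 7, 5, 1, 0, 0, 4, 6, 2, 6, 0, 5, 0, 4]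
def rw8788 : List ℕ := [2, 6, 0, 5, 0, 4, 6, 2, 6, 0, 5, 5, 4, 1, 7, 3, 7, 5, 1, 4, 1, 7, 3, 7, 5, 1, 4, 0, 4, 6]
def rw8789 : List ℕ := [4, 4, 3, 4, 7, 4, 2, 2, 5, 3, 3, 5, 6, 5, 2, 5, 5, 2, 7, 5, 2, 5, 1, 4, 0, 4, 3, 4, 6, 3]
def rw8790 : List ℕ := [1, 2, 7, 5, 2, 5, 1, 1, 1, 2, 0, 0, 0, 4, 3, 4, 6, 3, 0, 6, 6, 0, 0, 5, 3, 4, 1, 1, 7, 7]
def rw8791 : List ℕ := [7, 4, 5, 5, 6, 3, 4, 6, 6, 5, 1, 2, 2, 4, 4, 2, 1, 4, 0, 3, 5, 5, 3, 3, 0, 4, 7, 7, 5, 2]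
def rw8792 : List ℕ := [0, 6, 0, 6, 6, 5, 1, 4, 0, 2, 5, 3, 1, 2, 0, 2, 4, 3, 1, 5, 0, 4, 7, 7, 1, 7, 1, 6, 3, 7]
def rw8793 : List ℕ := [0, 5, 5, 3, 5, 7, 3, 1, 2, 0, 2, 6, 4, 2, 4, 4, 1, 2, 7, 7, 1, 4, 6, 3, 7, 5, 0, 6, 6, 3]
def rw8794 : List ℕ := [4, 6, 4, 2, 4, 4, 3, 4, 3, 6, 6, 3, 4, 1, 0, 0, 5, 2, 7, 7, 2, 5, 2, 5, 5, 3, 5, 7, 5, 1]
def rw8795 : List ℕ := [7, 2, 5, 2, 5, 5, 3, 5, 7, 5, 1, 4, 6, 4, 2, 4, 4, 3, 4, 3, 6, 6, 3, 4, 1, 0, 0, 5, 2, 7]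
def rw8796 : List ℕ := [4, 1, 4, 0, 5, 2, 7, 7, 2, 5, 2, 5, 5, 3, 5, 7, 5, 5, 4, 6, 4, 2, 4, 4, 3, 4, 3, 6, 6, 3]
def rw8797 : List ℕ := [0, 6, 5, 3, 4, 7, 1, 5, 6, 5, 6, 0, 6, 5, 7, 2, 7, 1, 2, 0, 6, 3, 6, 4, 7, 1, 7, 4, 7, 4]
def rw8798 : List ℕ := [6, 6, 3, 1, 2, 7, 7, 2, 0, 6, 6, 4, 3, 4, 4, 3, 1, 1, 0, 0, 0, 2, 5, 5, 2, 5, 7, 7, 1, 3]
def rw8799 : List ℕ := [1, 7, 1, 6, 0, 2, 1, 6, 1, 4, 4, 6, 3, 6, 2, 1, 1, 0, 0, 0, 3, 7, 2, 7, 5, 5, 0, 7, 0, 3]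
def rw8800 : List ℕ := [4, 4, 6, 3, 6, 2, 1, 1, 6, 0, 0, 3, 7, 2, 7, 5, 5, 0, 7, 0, 3, 1, 7, 7, 6, 0, 2, 1, 6, 1]
def rw8801 : List ℕ := [6, 3, 4, 2, 4, 2, 0, 5, 2, 7, 3, 5, 2, 6, 3, 4, 1, 3, 5, 3, 5, 2, 7, 1, 3, 1, 4, 0, 2, 0]
def rw8802 : List ℕ := [1, 0, 0, 2, 6, 3, 5, 3, 5, 3, 5, 5, 0, 5, 2, 7, 1, 6, 3, 4, 1, 4, 4, 2, 4, 2, 4, 2, 7, 3]
def rw8803 : List ℕ := [1, 2, 0, 2, 6, 3, 5, 3, 5, 3, 5, 5, 0, 5, 2, 7, 3, 6, 3, 4, 1, 4, 4, 2, 4, 2, 4, 2, 7, 3]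
def rw8804 : List ℕ := [2, 6, 3, 5, 3, 5, 3, 5, 5, 0, 5, 2, 7, 3, 6, 3, 4, 1, 4, 4, 2, 4, 2, 4, 2, 7, 3, 1, 2, 0]
def rw8805 : List ℕ := [5, 0, 5, 6, 5, 2, 5, 5, 5, 2, 5, 1, 0, 0, 4, 3, 4, 4, 4, 3, 4, 7, 4, 1, 4, 2, 6, 1, 7, 3]
def rw8806 : List ℕ := [4, 2, 6, 5, 7, 3, 5, 0, 5, 6, 5, 2, 5, 5, 5, 2, 5, 1, 4, 0, 4, 3, 4, 4, 4, 3, 4, 7, 4, 1]
def rw8807 : List ℕ := [3, 3, 2, 7, 3, 5, 2, 0, 2, 5, 0, 5, 6, 3, 3, 1, 2, 0, 2, 2, 7, 4, 1, 4, 3, 1, 3, 4, 2, 6]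
def rw8808 : List ℕ := [5, 0, 5, 6, 3, 3, 1, 4, 0, 2, 2, 7, 4, 1, 4, 3, 1, 3, 4, 2, 6, 3, 5, 2, 7, 3, 5, 2, 0, 2]
def rw8809 : List ℕ := [0, 2, 2, 6, 3, 6, 3, 4, 2, 6, 5, 7, 3, 5, 2, 7, 2, 7, 3, 3, 1, 7, 0, 3, 1, 4, 0, 2, 1, 6]
def rw8810 : List ℕ := [1, 6, 0, 2, 2, 0, 2, 2, 7, 3, 3, 1, 3, 3]
def rw8811 : List ℕ := [4, 3, 1, 7, 4, 7, 2, 7, 1, 3, 1, 0, 0, 2, 0, 6, 3, 6, 5, 6, 0, 2, 5, 6, 1, 7]
def rw8812 : List ℕ := [6, 3, 6, 0, 6, 7, 7, 1, 7, 2, 7, 1, 7, 3, 1, 3, 3, 1, 6, 0, 2, 2, 0, 2, 6, 0]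
def rw8813 : List ℕ := [2, 0, 2, 2, 7, 4, 2, 0, 5, 3, 1, 6, 3, 3, 2, 7, 0, 2, 4, 1, 3, 5, 6, 3, 3, 1]
def rw8814 : List ℕ := [5, 3, 1, 6, 3, 3, 2, 7, 0, 2, 4, 1, 3, 5, 6, 3, 3, 1, 2, 0, 2, 2, 7, 4, 2, 0]
def rw8815 : List ℕ := [6, 2, 0, 2, 6, 3, 6, 5, 6, 3, 7, 4, 7, 2, 7, 3, 1, 3, 7, 4, 3, 1, 2, 0, 2, 5]
def rw8816 : List ℕ := [6, 1, 7, 4, 7, 2, 7, 2, 0, 2, 7, 4, 3, 1, 0, 0, 2, 5, 6, 3, 1, 3, 6, 3, 6, 5]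
def rw8817 : List ℕ := [4, 1, 7, 3, 1, 0, 0, 2, 6, 0, 5, 7, 3, 1, 7, 2, 4, 6, 1, 7, 5, 3, 6, 0, 2, 6]
def rw8818 : List ℕ := [4, 6, 3, 7, 5, 3, 6, 0, 2, 6, 4, 1, 7, 3, 1, 2, 0, 2, 6, 0, 5, 7, 3, 1, 7, 2]
def rw8819 : List ℕ := [5, 7, 5, 3, 6, 0, 2, 6, 4, 1, 7, 3, 1, 4, 0, 2, 6, 0, 5, 7, 3, 1, 7, 2, 4, 6]
def rw8820 : List ℕ := [4, 6, 7, 7, 5, 3, 6, 0, 2, 6, 4, 1, 7, 3, 1, 6, 0, 2, 6, 0, 5, 7, 3, 1, 7, 2]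
def rw8821 : List ℕ := [2, 0, 7, 3, 1, 0, 0, 2, 6, 1, 3, 7, 3, 1, 6, 2, 0, 7, 1, 6, 1, 3, 7, 0, 2, 6]
def rw8822 : List ℕ := [6, 3, 6, 3, 1, 2, 3, 3, 0, 2, 7, 2, 7, 1, 7, 2, 7, 3, 1, 2, 0, 2, 6, 3, 6, 0]
def rw8823 : List ℕ := [3, 1, 2, 5, 3, 0, 2, 7, 2, 7, 1, 7, 2, 7, 3, 1, 4, 0, 2, 6, 3, 6, 0, 6, 3, 6]
def rw8824 : List ℕ := [3, 0, 2, 7, 2, 7, 1, 7, 2, 7, 3, 1, 4, 0, 2, 6, 3, 6, 0, 6, 3, 6, 3, 1, 2, 5]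
def rw8825 : List ℕ := [0, 3, 7, 7, 0, 3, 7, 7, 5, 6, 6, 2, 1, 6, 6, 2, 1, 6, 6, 2, 1, 4, 0, 3, 7, 7]
def rw8826 : List ℕ := [7, 6, 6, 2, 1, 6, 6, 2, 1, 6, 6, 2, 1, 6, 0, 3, 7, 7, 0, 3, 7, 7, 0, 3, 7, 7]
def rw8827 : List ℕ := [2, 5, 1, 7, 2, 5, 1, 7, 2, 5, 1, 0, 0, 4, 3, 6, 0, 4, 3, 6, 0, 4, 3, 6, 1, 7]
def rw8828 : List ℕ := [3, 6, 0, 4, 3, 6, 0, 4, 3, 6, 5, 7, 2, 5, 1, 7, 2, 5, 1, 7, 2, 5, 1, 4, 0, 4]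
def rw8829 : List ℕ := [6, 5, 7, 4, 6, 2, 5, 1, 7, 4, 6, 2, 5, 1, 4, 0, 4, 3, 7, 5, 6, 0, 4, 3, 7, 5]
def rw8830 : List ℕ := [6, 5, 1, 3, 6, 5, 1, 3, 6, 5, 1, 0, 0, 4, 7, 2, 0, 4, 7, 2, 0, 4, 7, 2, 1, 3]
def rw8831 : List ℕ := [7, 2, 0, 4, 7, 2, 0, 4, 7, 2, 3, 3, 6, 5, 1, 3, 6, 5, 1, 3, 6, 5, 1, 2, 0, 4]
def rw8832 : List ℕ := [7, 2, 0, 4, 7, 2, 0, 4, 7, 2, 5, 3, 6, 5, 1, 3, 6, 5, 1, 3, 6, 5, 1, 4, 0, 4]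
def rw8833 : List ℕ := [0, 5, 6, 3, 3, 7, 0, 5, 6, 3, 3, 7, 1, 6, 2, 2, 7, 4, 1, 6, 2, 2, 7, 4, 1, 0]
def rw8834 : List ℕ := [6, 3, 3, 7, 0, 5, 6, 3, 3, 7, 3, 6, 2, 2, 7, 4, 1, 6, 2, 2, 7, 4, 1, 2, 0, 5]
def rw8835 : List ℕ := [0, 6, 0, 6, 3, 7, 1, 7, 1, 7, 1, 7, 1, 7, 1, 7, 1, 2, 0, 6, 0, 6, 0, 6, 0, 6]
def rw8836 : List ℕ := [2, 4, 7, 2, 7, 1, 5, 3, 7, 2, 4, 0, 6, 3, 6, 5, 3, 7, 2, 7, 1, 6, 0, 6, 3, 6]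
def rw8837 : List ℕ := [6, 1, 0, 0, 7, 0, 7, 0, 7, 0, 7, 0, 7, 0, 7, 1, 6, 1, 6, 1, 6, 1, 6, 1, 6, 1]
def rw8838 : List ℕ := [7, 0, 7, 0, 7, 0, 7, 0, 7, 0, 7, 1, 6, 1, 6, 1, 6, 1, 6, 1, 6, 1, 6, 1, 0, 0]
def rw8839 : List ℕ := [7, 0, 7, 0, 7, 0, 7, 0, 7, 0, 7, 3, 6, 1, 6, 1, 6, 1, 6, 1, 6, 1, 6, 1, 2, 0]
def rw8840 : List ℕ := [0, 7, 5, 6, 1, 6, 1, 6, 1, 6, 1, 6, 1, 6, 1, 4, 0, 7, 0, 7, 0, 7, 0, 7, 0, 7]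
def rw8841 : List ℕ := [1, 6, 0, 0, 5, 3, 7, 3, 6, 0, 6, 6, 2, 0, 5, 7, 4, 1, 3, 7, 7, 1, 7, 2, 6, 2, 4, 1]
def rw8842 : List ℕ := [0, 5, 3, 7, 7, 1, 7, 2, 6, 2, 0, 5, 5, 4, 1, 3, 7, 3, 6, 0, 6, 6, 2, 4, 1, 1, 4, 0]
def rw8843 : List ℕ := [6, 1, 3, 4, 4, 1, 5, 5, 2, 0, 7, 4, 2, 0, 5, 6, 4, 1, 1, 0, 0, 0, 5, 7, 4, 1, 3, 5]
def rw8844 : List ℕ := [1, 4, 2, 7, 4, 1, 3, 1, 0, 0, 2, 0, 5, 6, 3, 5, 0, 5, 0, 3, 4, 7, 1, 6, 5, 2, 1, 4]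
def rw8845 : List ℕ := [6, 5, 2, 1, 4, 1, 4, 2, 7, 4, 1, 3, 1, 0, 0, 2, 0, 5, 6, 3, 5, 0, 5, 0, 3, 4, 7, 1]
def rw8846 : List ℕ := [3, 5, 0, 5, 0, 3, 4, 7, 3, 6, 5, 2, 1, 4, 1, 4, 2, 7, 4, 1, 3, 1, 2, 0, 2, 0, 5, 6]
def rw8847 : List ℕ := [2, 7, 4, 1, 3, 1, 2, 0, 2, 0, 5, 6, 3, 7, 1, 3, 6, 3, 6, 6, 3, 7, 7, 2, 7, 2, 0, 6]
def rw8848 : List ℕ := [4, 7, 1, 6, 5, 1, 3, 0, 5, 0, 5, 7, 4, 1, 3, 1, 0, 0, 2, 0, 5, 6, 4, 1, 4, 1, 2, 0]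
def rw8849 : List ℕ := [0, 3, 4, 7, 1, 6, 5, 2, 1, 3, 5, 0, 5, 7, 4, 1, 3, 1, 0, 0, 2, 0, 5, 6, 4, 1, 4, 2]
def rw8850 : List ℕ := [1, 4, 1, 2, 0, 4, 7, 1, 3, 1, 0, 0, 2, 0, 6, 5, 1, 3, 0, 5, 0, 5, 7, 4, 1, 5, 6, 4]
def rw8851 : List ℕ := [0, 5, 0, 5, 7, 4, 5, 5, 6, 4, 1, 4, 1, 2, 0, 4, 7, 1, 3, 1, 4, 0, 2, 0, 6, 5, 1, 3]
def rw8852 : List ℕ := [5, 2, 1, 4, 1, 4, 2, 7, 4, 1, 5, 6, 3, 5, 0, 5, 0, 3, 4, 7, 1, 3, 1, 0, 0, 2, 0, 6]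
def rw8853 : List ℕ := [0, 6, 2, 7, 4, 7, 5, 6, 3, 7, 1, 3, 6, 3, 6, 6, 1, 3, 1, 6, 0, 2, 0, 7, 7, 2, 7, 2]
def rw8854 : List ℕ := [5, 1, 3, 4, 6, 1, 7, 5, 2, 0, 4, 4, 0, 7, 0, 6, 0, 3, 1, 0, 0, 2, 1, 7, 1, 6, 1, 5]
def rw8855 : List ℕ := [6, 0, 3, 1, 2, 0, 2, 1, 7, 1, 6, 1, 5, 5, 1, 3, 4, 6, 3, 7, 5, 2, 0, 4, 4, 0, 7, 0]
def rw8856 : List ℕ := [1, 7, 1, 6, 1, 5, 5, 1, 3, 4, 6, 5, 7, 5, 2, 0, 4, 4, 0, 7, 0, 6, 0, 3, 1, 4, 0, 2]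
def rw8857 : List ℕ := [2, 1, 7, 1, 6, 1, 5, 5, 1, 3, 4, 6, 5, 7, 5, 2, 0, 4, 4, 0, 7, 0, 6, 0, 3, 1, 4, 0]
def rw8858 : List ℕ := [3, 4, 6, 7, 7, 5, 2, 0, 4, 4, 0, 7, 0, 6, 0, 3, 1, 6, 0, 2, 1, 7, 1, 6, 1, 5, 5, 1]
def rw8859 : List ℕ := [5, 3, 3, 1, 6, 0, 2, 2, 4, 1, 3, 4, 3, 4, 7, 3, 5, 6, 7, 7, 4, 2, 6, 5, 2, 5, 2, 0]
def rw8860 : List ℕ := [1, 6, 5, 2, 5, 2, 0, 5, 2, 7, 3, 6, 3, 4, 1, 3, 4, 3, 4, 7, 0, 5, 3, 1, 2, 0, 2, 4]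
def rw8861 : List ℕ := [5, 2, 5, 2, 0, 5, 2, 7, 5, 6, 3, 4, 1, 3, 4, 3, 4, 7, 0, 5, 3, 1, 4, 0, 2, 4, 1, 6]
def rw8862 : List ℕ := [2, 5, 3, 1, 4, 0, 2, 4, 3, 3, 0, 7, 0, 5, 6, 1, 2, 4, 5, 5, 3, 0, 7, 4, 1, 6, 1, 2]
def rw8863 : List ℕ := [0, 4, 3, 1, 7, 4, 2, 7, 1, 4, 3, 1, 2, 0, 2, 5, 0, 6, 3, 5, 6, 0, 2, 5, 1, 6, 3, 7]
def rw8864 : List ℕ := [5, 1, 6, 7, 7, 0, 4, 3, 1, 7, 4, 2, 7, 1, 4, 3, 1, 6, 0, 2, 5, 0, 6, 3, 5, 6, 0, 2]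
def rw8865 : List ℕ := [5, 2, 0, 4, 3, 1, 6, 0, 2, 5, 1, 3, 4, 7, 4, 0, 5, 6, 3, 7, 7, 6, 2, 7, 4, 1, 5, 6]
def rw8866 : List ℕ := [3, 1, 0, 0, 2, 5, 2, 7, 5, 0, 5, 0, 3, 4, 3, 6, 1, 7, 2, 5, 2, 1, 4, 1, 4, 6, 3, 4]
def rw8867 : List ℕ := [5, 2, 7, 5, 0, 5, 0, 3, 4, 3, 6, 5, 7, 2, 5, 2, 1, 4, 1, 4, 6, 3, 4, 3, 1, 4, 0, 2]
def rw8868 : List ℕ := [4, 3, 6, 7, 7, 2, 5, 2, 1, 4, 1, 4, 6, 3, 4, 3, 1, 6, 0, 2, 5, 2, 7, 5, 0, 5, 0, 3]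
def rw8869 : List ℕ := [7, 1, 3, 6, 3, 6, 6, 2, 7, 3, 7, 7, 2, 7, 2, 0, 6, 2, 7, 4, 3, 1, 6, 0, 2, 5, 6, 3]
def rw8870 : List ℕ := [2, 6, 3, 5, 7, 2, 7, 2, 2, 7, 7, 2, 1, 3, 6, 6, 3, 3, 6, 3, 6, 4, 2, 7, 3, 1, 0, 0]
def rw8871 : List ℕ := [4, 2, 5, 3, 5, 6, 4, 1, 4, 1, 2, 0, 4, 7, 3, 1, 4, 0, 2, 6, 5, 1, 3, 0, 5, 0, 5, 7]
def rw8872 : List ℕ := [2, 6, 5, 1, 3, 0, 5, 0, 5, 7, 4, 2, 7, 3, 5, 6, 4, 1, 4, 1, 2, 0, 4, 7, 3, 1, 6, 0]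
def rw8873 : List ℕ := [1, 6, 0, 4, 3, 4, 7, 0, 5, 6, 3, 0, 5, 3, 5, 7, 4, 2, 4, 1, 2, 7, 4, 1, 6, 5, 2, 5]
def rw8874 : List ℕ := [5, 2, 5, 1, 6, 0, 4, 3, 4, 7, 0, 5, 6, 3, 0, 5, 3, 5, 7, 4, 2, 4, 1, 2, 7, 4, 1, 6]
def rw8875 : List ℕ := [3, 4, 1, 6, 0, 7, 7, 2, 6, 3, 1, 2, 7, 3, 6, 6, 1, 7, 0, 5, 2, 7, 5, 1, 0, 0, 4, 6]
def rw8876 : List ℕ := [7, 0, 5, 2, 7, 5, 1, 6, 0, 4, 6, 3, 4, 1, 6, 0, 7, 7, 2, 6, 3, 7, 2, 7, 3, 6, 6, 1]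
def rw8877 : List ℕ := [4, 7, 0, 5, 0, 5, 7, 4, 3, 4, 7, 2, 1, 3, 6, 5, 2, 5, 6, 4, 1, 4, 1, 6, 5, 1, 0, 0]
def rw8878 : List ℕ := [4, 7, 2, 3, 3, 6, 5, 2, 5, 6, 4, 1, 4, 1, 6, 5, 1, 2, 0, 4, 7, 0, 5, 0, 5, 7, 4, 3]
def rw8879 : List ℕ := [7, 0, 5, 0, 5, 7, 4, 3, 4, 7, 2, 7, 3, 6, 5, 2, 5, 6, 4, 1, 4, 1, 6, 5, 1, 6, 0, 4]
def rw8880 : List ℕ := [4, 1, 4, 4, 7, 5, 5, 0, 5, 0, 7, 7, 2, 7, 1, 6, 5, 1, 6, 0, 4, 7, 0, 6, 3, 6, 6, 1]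
def rw8881 : List ℕ := [5, 1, 4, 6, 2, 7, 4, 1, 6, 3, 6, 6, 3, 4, 1, 0, 0, 5, 2, 7, 7, 2, 7, 0, 5, 6, 3, 7]
def rw8882 : List ℕ := [7, 7, 2, 7, 1, 4, 6, 2, 7, 4, 1, 0, 0, 5, 6, 3, 7, 5, 0, 6, 3, 6, 6, 3, 4, 1, 5, 2]
def rw8883 : List ℕ := [3, 7, 5, 0, 6, 3, 6, 6, 3, 4, 3, 5, 2, 7, 7, 2, 7, 1, 4, 6, 2, 7, 4, 1, 2, 0, 5, 6]
def rw8884 : List ℕ := [2, 7, 4, 1, 2, 0, 5, 6, 3, 7, 5, 7, 2, 7, 1, 6, 3, 4, 3, 5, 2, 7, 0, 6, 3, 6, 4, 6]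
def rw8885 : List ℕ := [3, 7, 2, 7, 0, 2, 0, 3, 3, 7, 2, 7, 1, 1, 0, 0, 0, 6, 3, 6, 2, 2, 1, 3, 1, 6, 3, 6, 2, 1]
def rw8886 : List ℕ := [2, 1, 3, 1, 6, 3, 6, 2, 5, 3, 7, 2, 7, 0, 2, 0, 3, 3, 7, 2, 7, 1, 1, 4, 0, 0, 6, 3, 6, 2]
def rw8887 : List ℕ := [6, 2, 7, 3, 7, 2, 7, 0, 2, 0, 3, 3, 7, 2, 7, 1, 1, 6, 0, 0, 6, 3, 6, 2, 2, 1, 3, 1, 6, 3]
def rw8888 : List ℕ := [5, 2, 7, 0, 2, 6, 3, 0, 5, 3, 5, 2, 5, 3, 4, 2, 4, 1, 2, 7, 3, 1, 6, 3, 4, 3, 1, 4, 0, 2]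
def rw8889 : List ℕ := [2, 6, 3, 0, 5, 3, 5, 2, 7, 3, 4, 2, 4, 1, 2, 7, 3, 1, 6, 3, 4, 3, 1, 6, 0, 2, 5, 2, 7, 0]
def rw8890 : List ℕ := [6, 0, 6, 3, 6, 0, 6, 4, 1, 4, 2, 4, 1, 0, 0, 5, 3, 5, 0, 5, 7, 1, 7, 2, 7, 1, 7, 5, 1, 4]
def rw8891 : List ℕ := [5, 0, 5, 7, 1, 7, 2, 7, 1, 7, 5, 3, 4, 6, 0, 6, 3, 6, 0, 6, 4, 1, 4, 2, 4, 1, 2, 0, 5, 3]
def rw8892 : List ℕ := [5, 7, 1, 7, 2, 7, 1, 7, 5, 5, 4, 6, 0, 6, 3, 6, 0, 6, 4, 1, 4, 2, 4, 1, 4, 0, 5, 3, 5, 0]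
def rw8893 : List ℕ := [5, 0, 6, 3, 6, 2, 5, 2, 1, 3, 4, 3, 7, 2, 7, 1, 4, 3, 6, 3, 6, 5, 1, 0, 0, 4, 7, 2, 7, 2]
def rw8894 : List ℕ := [0, 6, 3, 6, 2, 5, 2, 3, 3, 4, 3, 7, 2, 7, 1, 4, 3, 6, 3, 6, 5, 1, 2, 0, 4, 7, 2, 7, 2, 5]
def rw8895 : List ℕ := [7, 7, 1, 3, 6, 6, 3, 3, 1, 1, 6, 0, 0, 2, 2, 7, 7, 2, 0, 6, 6, 4, 3, 4, 4, 7, 5, 5, 2, 5]
def rw8896 : List ℕ := [2, 7, 4, 7, 2, 7, 0, 2, 0, 7, 4, 1, 3, 1, 0, 0, 2, 0, 5, 6, 1, 3, 1, 6, 3, 6, 5, 6, 3, 1]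
def rw8897 : List ℕ := [1, 1, 5, 2, 7, 2, 7, 4, 3, 1, 2, 5, 6, 3, 6, 3, 4, 0, 0, 7, 2, 7, 1, 1, 0, 0, 0, 6, 3, 6]
def rw8898 : List ℕ := [4, 3, 3, 2, 5, 6, 3, 6, 3, 4, 0, 0, 7, 2, 7, 1, 1, 2, 0, 0, 6, 3, 6, 1, 1, 5, 2, 7, 2, 7]
def rw8899 : List ℕ := [7, 4, 3, 7, 2, 5, 6, 3, 6, 3, 4, 0, 0, 7, 2, 7, 1, 1, 6, 0, 0, 6, 3, 6, 1, 1, 5, 2, 7, 2]
def rw8900 : List ℕ := [2, 6, 3, 1, 2, 7, 3, 5, 3, 1, 3, 5, 0, 5, 6, 3, 3, 1, 0, 0, 2, 2, 7, 4, 1, 4, 2, 0, 2, 4]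
def rw8901 : List ℕ := [2, 7, 4, 1, 4, 2, 0, 2, 4, 2, 6, 3, 5, 2, 7, 3, 5, 3, 1, 3, 5, 0, 5, 6, 3, 3, 1, 4, 0, 2]
def rw8902 : List ℕ := [3, 7, 2, 7, 3, 5, 3, 1, 3, 5, 0, 5, 6, 3, 3, 1, 6, 0, 2, 2, 7, 4, 1, 4, 2, 0, 2, 4, 2, 6]
def rw8903 : List ℕ := [1, 2, 7, 7, 3, 4, 3, 4, 2, 7, 4, 2, 1, 3, 5, 6, 3, 5, 2, 5, 2, 6, 6, 3, 0, 5, 1, 0, 0, 4]
def rw8904 : List ℕ := [2, 7, 7, 3, 4, 3, 4, 2, 7, 4, 2, 5, 3, 5, 6, 3, 5, 2, 5, 2, 6, 6, 3, 0, 5, 1, 4, 0, 4, 1]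
def rw8905 : List ℕ := [3, 4, 3, 3, 1, 0, 0, 2, 2, 5, 2, 5, 1, 7, 3, 4, 3, 4, 3, 6, 1, 7, 2, 5, 2, 5, 2, 6, 0, 4]
def rw8906 : List ℕ := [4, 3, 4, 3, 3, 1, 2, 0, 2, 2, 5, 2, 5, 1, 7, 3, 4, 3, 4, 3, 6, 3, 7, 2, 5, 2, 5, 2, 6, 0]
def rw8907 : List ℕ := [6, 3, 6, 5, 6, 0, 2, 5, 6, 1, 2, 5, 3, 0, 7, 4, 3, 1, 7, 4, 7, 2, 7, 3, 3, 1, 4, 0, 2, 2]
def rw8908 : List ℕ := [0, 7, 2, 7, 2, 0, 3, 7, 2, 7, 3, 1, 2, 0, 2, 6, 3, 6, 2, 1, 3, 6, 3, 6, 1, 2, 2, 3, 3, 3]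
def rw8909 : List ℕ := [7, 3, 1, 6, 0, 2, 6, 3, 6, 2, 1, 3, 6, 3, 6, 1, 2, 2, 7, 3, 3, 0, 7, 2, 7, 2, 0, 3, 7, 2]
def rw8910 : List ℕ := [1, 5, 6, 0, 2, 7, 2, 7, 1, 5, 6, 2, 1, 3, 7, 4, 0, 6, 3, 6, 3, 1, 7, 4, 0, 3, 1, 0, 0, 2]
def rw8911 : List ℕ := [0, 6, 3, 6, 3, 1, 7, 4, 0, 3, 1, 0, 0, 2, 1, 5, 6, 0, 2, 7, 2, 7, 1, 5, 6, 2, 1, 3, 7, 4]
def rw8912 : List ℕ := [3, 7, 4, 0, 6, 3, 6, 3, 1, 7, 4, 0, 3, 1, 0, 0, 2, 1, 5, 6, 0, 2, 7, 2, 7, 1, 5, 6, 2, 1]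
def rw8913 : List ℕ := [4, 0, 3, 1, 2, 0, 2, 1, 5, 6, 0, 2, 7, 2, 7, 1, 5, 6, 2, 3, 3, 7, 4, 0, 6, 3, 6, 3, 1, 7]
def rw8914 : List ℕ := [3, 7, 3, 1, 6, 2, 1, 5, 3, 1, 4, 1, 1, 6, 0, 0, 5, 0, 2, 4, 0, 3, 7, 0, 2, 6, 2, 2, 7, 3]
def rw8915 : List ℕ := [5, 3, 1, 4, 1, 1, 6, 0, 0, 5, 0, 2, 4, 0, 3, 7, 0, 2, 6, 2, 2, 7, 3, 3, 7, 3, 1, 6, 2, 1]
def rw8916 : List ℕ := [1, 5, 3, 1, 4, 1, 1, 6, 0, 0, 5, 0, 2, 4, 0, 3, 7, 0, 2, 6, 2, 2, 7, 3, 3, 7, 3, 1, 6, 2]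
def rw8917 : List ℕ := [7, 0, 3, 1, 2, 0, 2, 1, 6, 1, 3, 7, 3, 1, 6, 2, 0, 7, 2, 3, 3, 6, 1, 3, 7, 0, 2, 6, 2, 0]
def rw8918 : List ℕ := [0, 2, 6, 1, 7, 3, 1, 4, 1, 3, 5, 0, 2, 6, 3, 3, 3, 1, 0, 0, 2, 2, 2, 7, 3, 1, 4, 2, 0, 5]
def rw8919 : List ℕ := [5, 7, 2, 6, 4, 3, 4, 1, 5, 2, 1, 6, 1, 7, 0, 3, 4, 0, 5, 2, 5, 7, 3, 6, 4, 3, 1, 0, 0, 2]
def rw8920 : List ℕ := [4, 3, 4, 1, 5, 2, 1, 6, 1, 7, 0, 3, 4, 0, 5, 2, 5, 7, 3, 6, 4, 3, 1, 0, 0, 2, 5, 7, 2, 6]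
def rw8921 : List ℕ := [3, 1, 6, 0, 2, 5, 7, 2, 6, 4, 3, 4, 1, 5, 2, 1, 6, 7, 7, 0, 3, 4, 0, 5, 2, 5, 7, 3, 6, 4]
def rw8922 : List ℕ := [3, 5, 1, 6, 0, 4, 2, 2, 7, 4, 2, 2, 7, 3, 7, 2, 7, 2, 7, 3, 6, 3, 6, 2, 6, 3, 3, 5, 6, 3]
def rw8923 : List ℕ := [7, 2, 7, 2, 7, 4, 3, 5, 6, 3, 6, 3, 6, 3, 6, 5, 1, 5, 2, 5, 1, 2, 0, 4, 3, 4, 0, 4, 7, 2]
def rw8924 : List ℕ := [2, 0, 7, 0, 2, 4, 1, 3, 5, 6, 3, 1, 2, 7, 4, 2, 0, 5, 3, 1, 6, 1, 3, 1, 1, 1, 0, 0, 0, 0]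
def rw8925 : List ℕ := [6, 3, 3, 2, 7, 4, 2, 0, 5, 3, 1, 6, 1, 3, 1, 1, 1, 2, 0, 0, 0, 2, 0, 7, 0, 2, 4, 1, 3, 5]
def rw8926 : List ℕ := [1, 2, 7, 3, 1, 6, 0, 2, 5, 2, 5, 3, 4, 3, 1, 7, 0, 2, 6, 3, 0, 5, 3, 3, 1, 4, 0, 2, 2, 4]
def rw8927 : List ℕ := [2, 2, 4, 1, 2, 7, 3, 1, 6, 0, 2, 5, 2, 7, 3, 4, 3, 1, 7, 0, 2, 6, 3, 0, 5, 3, 3, 1, 6, 0]
def rw8928 : List ℕ := [7, 1, 6, 0, 4, 0, 2, 5, 2, 0, 4, 7, 4, 1, 3, 1, 0, 0, 2, 0, 5, 6, 5, 1, 3, 4, 3, 1, 5, 1]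
def rw8929 : List ℕ := [1, 7, 1, 6, 0, 4, 0, 2, 5, 2, 0, 4, 7, 4, 1, 3, 1, 0, 0, 2, 0, 5, 6, 5, 1, 3, 4, 3, 1, 5]
def rw8930 : List ℕ := [5, 1, 7, 1, 6, 0, 4, 0, 2, 5, 2, 0, 4, 7, 4, 1, 3, 1, 0, 0, 2, 0, 5, 6, 5, 1, 3, 4, 3, 1]
def rw8931 : List ℕ := [0, 5, 6, 3, 3, 1, 2, 7, 3, 5, 1, 3, 1, 2, 0, 2, 0, 4, 2, 6, 3, 0, 2, 2, 7, 4, 1, 4, 3, 5]
def rw8932 : List ℕ := [0, 2, 4, 0, 2, 1, 3, 1, 5, 3, 1, 6, 3, 3, 3, 1, 7, 4, 1, 1, 0, 0, 0, 5, 6, 0, 2, 2, 2, 7]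
def rw8933 : List ℕ := [5, 6, 0, 2, 2, 2, 7, 0, 2, 4, 0, 2, 3, 3, 1, 5, 3, 1, 6, 3, 3, 3, 1, 7, 4, 1, 1, 2, 0, 0]
def rw8934 : List ℕ := [1, 5, 3, 1, 6, 3, 3, 3, 1, 7, 4, 1, 1, 6, 0, 0, 5, 6, 0, 2, 2, 2, 7, 0, 2, 4, 0, 2, 7, 3]
def rw8935 : List ℕ := [3, 1, 6, 3, 3, 3, 1, 7, 4, 1, 1, 6, 0, 0, 5, 6, 0, 2, 2, 2, 7, 0, 2, 4, 0, 2, 7, 3, 1, 5]
def rw8936 : List ℕ := [4, 7, 4, 0, 2, 5, 6, 1, 3, 1, 0, 0, 2, 0, 7, 4, 3, 1, 5, 6, 5, 6, 5, 2, 7, 1, 6, 3, 4, 7]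
def rw8937 : List ℕ := [6, 3, 3, 2, 7, 4, 2, 0, 5, 3, 1, 6, 3, 1, 3, 1, 1, 2, 0, 0, 2, 0, 2, 7, 0, 2, 4, 1, 3, 5]
def rw8938 : List ℕ := [0, 0, 2, 0, 2, 7, 0, 2, 4, 1, 3, 5, 6, 3, 5, 2, 7, 4, 2, 0, 5, 3, 1, 6, 3, 1, 3, 1, 1, 4]
def rw8939 : List ℕ := [5, 7, 2, 7, 5, 3, 1, 6, 0, 2, 4, 6, 3, 6, 4, 2, 0, 5, 7, 2, 7, 2, 7, 3, 6, 3, 6, 4, 1, 3]
def rw8940 : List ℕ := [0, 5, 5, 2, 1, 5, 5, 7, 0, 2, 6, 4, 7, 5, 7, 3, 1, 6, 4, 4, 0, 3, 4, 4, 1, 1, 1, 6, 0, 0]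
def rw8941 : List ℕ := [6, 5, 6, 2, 1, 3, 7, 4, 7, 2, 7, 3, 1, 3, 7, 4, 0, 3, 1, 0, 0, 2, 1, 5, 6, 2, 0, 2, 6, 3]
def rw8942 : List ℕ := [4, 0, 2, 0, 4, 0, 6, 0, 4, 7, 2, 0, 4, 3, 6, 5, 7, 2, 5, 1, 3, 6, 5, 1, 7, 1, 5, 1, 3, 1]
def rw8943 : List ℕ := [3, 5, 3, 1, 4, 1, 6, 3, 3, 3, 1, 0, 0, 2, 2, 2, 7, 0, 5, 0, 2, 4, 2, 4, 2, 6, 1, 7, 3, 5]
def rw8944 : List ℕ := [7, 4, 2, 0, 5, 1, 3, 1, 0, 0, 2, 0, 4, 1, 3, 5, 6, 3, 0, 3, 1, 7, 3, 1, 2, 6, 0, 2, 1, 2]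
def rw8945 : List ℕ := [3, 3, 1, 6, 0, 2, 2, 2, 7, 3, 5, 3, 1, 3, 5, 0, 5, 6, 7, 7, 4, 1, 4, 2, 0, 2, 4, 2, 6, 3]
def rw8946 : List ℕ := [1, 7, 2, 7, 2, 2, 6, 3, 6, 1, 7, 2, 7, 3, 3, 6, 3, 6, 0, 4, 1, 4, 3, 1, 0, 0, 2, 5, 0, 5]
def rw8947 : List ℕ := [6, 3, 6, 0, 4, 1, 4, 3, 1, 6, 0, 2, 5, 0, 5, 1, 7, 2, 7, 2, 2, 6, 3, 6, 7, 7, 2, 7, 3, 3]
def rw8948 : List ℕ := [5, 3, 3, 2, 4, 1, 2, 7, 3, 1, 6, 0, 2, 5, 1, 3, 1, 2, 0, 2, 0, 4, 3, 1, 7, 0, 2, 6, 3, 0]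
def rw8949 : List ℕ := [3, 1, 6, 0, 2, 0, 4, 3, 1, 7, 0, 2, 6, 3, 0, 5, 3, 7, 2, 4, 1, 2, 7, 3, 1, 6, 0, 2, 5, 1]
def rw8950 : List ℕ := [3, 5, 1, 4, 1, 6, 1, 7, 0, 5, 0, 4, 2, 4, 2, 4, 6, 3, 0, 3, 1, 0, 0, 2, 1, 2, 7, 5, 3, 5]
def rw8951 : List ℕ := [3, 1, 2, 0, 2, 6, 6, 2, 1, 6, 6, 2, 1, 6, 6, 1, 3, 3, 2, 0, 7, 7, 0, 3, 7, 7, 0, 3, 7, 7]
def rw8952 : List ℕ := [0, 2, 6, 1, 3, 7, 2, 5, 3, 6, 2, 0, 7, 3, 1, 6, 1, 3, 7, 3, 3, 1, 4, 0, 2, 2, 6, 2, 0, 7]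
def rw8953 : List ℕ := [7, 3, 3, 1, 6, 0, 2, 2, 6, 2, 0, 7, 0, 2, 6, 1, 3, 7, 2, 7, 3, 6, 2, 0, 7, 3, 1, 6, 1, 3]
def rw8954 : List ℕ := [7, 7, 2, 2, 7, 1, 4, 2, 4, 3, 4, 1, 6, 0, 5, 2, 5, 3, 5, 0, 6, 3, 3, 6, 6, 5, 2, 7, 3, 4]
def rw8955 : List ℕ := [0, 3, 3, 1, 0, 0, 2, 2, 1, 7, 2, 7, 2, 5, 0, 5, 6, 3, 6, 1, 7, 2, 7, 4, 1, 4, 3, 6, 3, 6]
def rw8956 : List ℕ := [5, 0, 5, 6, 3, 6, 3, 7, 2, 7, 4, 1, 4, 3, 6, 3, 6, 0, 3, 3, 1, 2, 0, 2, 2, 1, 7, 2, 7, 2]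
def rw8957 : List ℕ := [6, 3, 6, 5, 7, 2, 7, 4, 1, 4, 3, 6, 3, 6, 0, 3, 3, 1, 4, 0, 2, 2, 1, 7, 2, 7, 2, 5, 0, 5]
def rw8958 : List ℕ := [0, 3, 1, 7, 4, 1, 1, 2, 0, 0, 5, 6, 0, 2, 1, 6, 2, 6, 3, 0, 5, 6, 3, 7, 4, 1, 2, 7, 3, 7]
def rw8959 : List ℕ := [5, 6, 0, 2, 1, 6, 2, 6, 3, 0, 5, 6, 5, 7, 4, 1, 2, 7, 3, 7, 0, 3, 1, 7, 4, 1, 1, 4, 0, 0]
def rw8960 : List ℕ := [1, 7, 4, 1, 1, 6, 0, 0, 5, 6, 0, 2, 1, 6, 2, 6, 3, 0, 5, 6, 7, 7, 4, 1, 2, 7, 3, 7, 0, 3]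
def rw8961 : List ℕ := [5, 6, 3, 1, 3, 1, 0, 0, 2, 0, 2, 7, 4, 7, 2, 7, 0, 2, 0, 7, 4, 1, 5, 6, 1, 3, 1, 6, 3, 6]
def rw8962 : List ℕ := [3, 7, 3, 1, 0, 0, 2, 6, 2, 5, 5, 0, 5, 0, 7, 4, 6, 0, 6, 1, 7, 1, 7, 5, 6, 1, 4, 1, 4, 4]
def rw8963 : List ℕ := [0, 6, 3, 7, 1, 7, 5, 6, 1, 4, 1, 4, 4, 3, 7, 3, 1, 2, 0, 2, 6, 2, 5, 5, 0, 5, 0, 7, 4, 6]
def rw8964 : List ℕ := [2, 6, 2, 5, 5, 0, 5, 0, 7, 4, 6, 0, 6, 7, 7, 1, 7, 5, 6, 1, 4, 1, 4, 4, 3, 7, 3, 1, 6, 0]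
def rw8965 : List ℕ := [4, 3, 6, 3, 6, 3, 7, 2, 7, 2, 5, 0, 5, 1, 7, 2, 7, 2, 2, 1, 2, 0, 3, 3, 6, 3, 6, 0, 4, 1]
def rw8966 : List ℕ := [6, 0, 2, 6, 0, 5, 7, 1, 3, 1, 0, 0, 2, 0, 6, 4, 1, 7, 3, 1, 7, 5, 3, 6, 3, 1, 2, 7, 2, 4]
def rw8967 : List ℕ := [5, 1, 5, 1, 0, 0, 4, 0, 4, 0, 6, 3, 0, 4, 0, 4, 0, 6, 3, 1, 2, 7, 1, 5, 1, 5, 1, 2, 7, 1]
def rw8968 : List ℕ := [2, 7, 1, 5, 1, 5, 1, 0, 0, 4, 0, 4, 0, 6, 3, 0, 4, 0, 4, 0, 6, 3, 1, 2, 7, 1, 5, 1, 5, 1]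
def rw8969 : List ℕ := [1, 2, 7, 1, 5, 1, 5, 1, 2, 0, 4, 0, 4, 0, 6, 3, 0, 4, 0, 4, 0, 6, 3, 3, 2, 7, 1, 5, 1, 5]
def rw8970 : List ℕ := [0, 6, 3, 0, 4, 0, 4, 0, 6, 3, 3, 2, 7, 1, 5, 1, 5, 1, 2, 7, 1, 5, 1, 5, 1, 2, 0, 4, 0, 4]
def rw8971 : List ℕ := [1, 3, 3, 5, 3, 1, 6, 3, 1, 2, 7, 0, 2, 4, 2, 2, 0, 2, 5, 6, 3, 3, 1, 0, 0, 2, 2, 7, 4, 3]
def rw8972 : List ℕ := [1, 3, 6, 5, 2, 7, 4, 5, 5, 6, 3, 4, 7, 2, 0, 6, 0, 6, 5, 6, 5, 1, 4, 0, 4, 7, 4, 7, 1, 7]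
def rw8973 : List ℕ := [3, 3, 1, 6, 0, 2, 2, 7, 5, 3, 6, 0, 2, 6, 4, 1, 7, 2, 7, 3, 6, 0, 5, 7, 3, 1, 7, 2, 4, 6]
def rw8974 : List ℕ := [5, 2, 2, 1, 3, 3, 4, 7, 2, 0, 4, 7, 2, 0, 4, 7, 3, 1, 0, 0, 2, 6, 5, 1, 3, 6, 5, 1, 3, 6]
def rw8975 : List ℕ := [0, 6, 0, 4, 7, 2, 0, 4, 3, 6, 1, 3, 1, 0, 0, 2, 0, 7, 2, 5, 1, 3, 6, 5, 1, 7, 1, 5, 1, 4]
def rw8976 : List ℕ := [0, 6, 0, 4, 7, 2, 0, 4, 3, 6, 1, 3, 1, 2, 0, 2, 0, 7, 2, 5, 1, 3, 6, 5, 1, 7, 1, 5, 3, 4]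
def rw8977 : List ℕ := [1, 4, 0, 2, 0, 7, 2, 5, 1, 3, 6, 5, 1, 7, 1, 5, 5, 4, 0, 6, 0, 4, 7, 2, 0, 4, 3, 6, 1, 3]
def rw8978 : List ℕ := [2, 7, 2, 7, 4, 1, 5, 6, 3, 6, 3, 4, 3, 1, 7, 2, 7, 1, 3, 1, 0, 0, 2, 0, 6, 3, 6, 0, 2, 5]
def rw8979 : List ℕ := [2, 7, 2, 7, 4, 5, 5, 6, 3, 6, 3, 4, 3, 1, 7, 2, 7, 1, 3, 1, 4, 0, 2, 0, 6, 3, 6, 0, 2, 5]
def rw8980 : List ℕ := [0, 2, 1, 6, 3, 0, 5, 0, 2, 4, 3, 1, 7, 2, 1, 3, 6, 0, 2, 5, 3, 1, 4, 1, 2, 7, 0, 3, 1, 0]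
def rw8981 : List ℕ := [0, 2, 6, 3, 4, 7, 4, 7, 4, 7, 5, 6, 5, 6, 5, 2, 7, 3, 1, 3, 7, 4, 3, 1, 6, 0, 2, 5, 6, 2]
def rw8982 : List ℕ := [0, 2, 5, 0, 5, 6, 3, 6, 3, 3, 1, 4, 0, 2, 2, 7, 2, 7, 4, 1, 4, 3, 1, 7, 2, 7, 5, 6, 3, 6]
def rw8983 : List ℕ := [3, 5, 3, 4, 2, 6, 3, 0, 2, 2, 7, 4, 1, 4, 1, 3, 1, 2, 0, 2, 0, 5, 0, 5, 6, 3, 3, 1, 2, 7]
def rw8984 : List ℕ := [1, 4, 1, 3, 1, 6, 0, 2, 0, 5, 0, 5, 6, 3, 3, 1, 2, 7, 3, 5, 7, 4, 2, 6, 3, 0, 2, 2, 7, 4]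
def rw8985 : List ℕ := [0, 3, 3, 1, 2, 0, 2, 2, 1, 5, 5, 2, 5, 7, 7, 1, 3, 6, 6, 3, 7, 7, 2, 0, 6, 6, 4, 3, 4, 4]
def rw8986 : List ℕ := [3, 4, 4, 0, 3, 3, 1, 2, 0, 2, 2, 1, 5, 5, 2, 5, 7, 7, 1, 3, 6, 6, 3, 7, 7, 2, 0, 6, 6, 4]
def rw8987 : List ℕ := [4, 3, 4, 4, 0, 3, 3, 1, 4, 0, 2, 2, 1, 5, 5, 2, 5, 7, 7, 1, 3, 6, 6, 5, 7, 7, 2, 0, 6, 6]
def rw8988 : List ℕ := [5, 6, 0, 2, 2, 2, 7, 3, 1, 3, 1, 0, 0, 2, 0, 2, 6, 3, 3, 3, 1, 7, 4, 2, 0, 5, 1, 4, 1, 3]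
def rw8989 : List ℕ := [4, 2, 0, 5, 3, 4, 1, 3, 5, 6, 0, 2, 2, 2, 7, 3, 1, 3, 1, 2, 0, 2, 0, 2, 6, 3, 3, 3, 1, 7]
def rw8990 : List ℕ := [3, 3, 5, 0, 3, 1, 4, 0, 2, 1, 4, 2, 2, 7, 3, 1, 6, 3, 3, 5, 2, 5, 3, 4, 2, 2, 7, 0, 2, 6]
def rw8991 : List ℕ := [0, 6, 3, 6, 5, 3, 1, 0, 0, 2, 4, 7, 2, 7, 1, 5, 1, 3, 6, 3, 6, 2, 1, 3, 7, 2, 7, 2, 0, 4]
def rw8992 : List ℕ := [7, 2, 7, 1, 5, 2, 1, 3, 4, 0, 6, 3, 6, 5, 1, 3, 6, 3, 6, 3, 1, 0, 0, 2, 7, 2, 7, 2, 0, 4]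
def rw8993 : List ℕ := [1, 3, 6, 3, 6, 3, 1, 2, 0, 2, 7, 2, 7, 2, 0, 4, 7, 2, 7, 1, 5, 2, 3, 3, 4, 0, 6, 3, 6, 5]
def rw8994 : List ℕ := [6, 5, 1, 3, 6, 3, 6, 3, 1, 4, 0, 2, 7, 2, 7, 2, 0, 4, 7, 2, 7, 1, 5, 2, 5, 3, 4, 0, 6, 3]
def rw8995 : List ℕ := [4, 0, 3, 7, 0, 2, 6, 2, 1, 1, 0, 0, 0, 3, 7, 3, 1, 6, 2, 1, 5, 3, 1, 4, 2, 1, 3, 5, 0, 2]
def rw8996 : List ℕ := [5, 2, 5, 6, 3, 6, 3, 4, 1, 5, 2, 7, 2, 7, 4, 3, 4, 0, 6, 3, 6, 5, 1, 0, 0, 4, 7, 2, 7, 1]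
def rw8997 : List ℕ := [6, 5, 1, 0, 0, 4, 7, 2, 7, 1, 5, 2, 5, 6, 3, 6, 3, 4, 1, 5, 2, 7, 2, 7, 4, 3, 4, 0, 6, 3]
def rw8998 : List ℕ := [5, 3, 4, 1, 4, 2, 5, 7, 3, 1, 0, 0, 2, 6, 4, 3, 5, 0, 5, 2, 4, 2, 2, 2, 7, 1, 6, 3, 3, 3]
def rw8999 : List ℕ := [1, 5, 3, 4, 0, 4, 7, 4, 6, 3, 5, 0, 6, 6, 3, 3, 1, 2, 0, 2, 2, 7, 7, 1, 4, 2, 7, 5, 6, 5]
def rw9000 : List ℕ := [6, 3, 3, 1, 6, 0, 2, 2, 7, 7, 1, 4, 2, 7, 5, 6, 5, 1, 5, 7, 4, 0, 4, 7, 4, 6, 3, 5, 0, 6]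
def rw9001 : List ℕ := [0, 2, 4, 0, 2, 3, 3, 1, 5, 3, 1, 6, 0, 2, 1, 2, 7, 4, 1, 1, 2, 0, 0, 5, 6, 3, 0, 3, 1, 7]
def rw9002 : List ℕ := [4, 0, 2, 5, 3, 1, 5, 3, 1, 6, 0, 2, 1, 2, 7, 4, 1, 1, 4, 0, 0, 5, 6, 3, 0, 3, 1, 7, 0, 2]
def rw9003 : List ℕ := [3, 6, 3, 6, 3, 7, 2, 7, 2, 5, 2, 7, 2, 7, 4, 3, 1, 3, 1, 2, 0, 2, 0, 2, 5, 6, 3, 6, 3, 4]
def rw9004 : List ℕ := [2, 7, 2, 0, 6, 5, 0, 5, 1, 4, 1, 4, 7, 1, 3, 6, 3, 6, 6, 6, 5, 2, 1, 0, 0, 3, 4, 7, 7, 7]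
def rw9005 : List ℕ := [0, 5, 3, 4, 1, 4, 7, 1, 3, 6, 3, 6, 6, 6, 5, 2, 1, 2, 0, 3, 4, 7, 7, 7, 2, 7, 2, 0, 6, 5]
def rw9006 : List ℕ := [7, 2, 7, 3, 3, 1, 0, 0, 2, 2, 6, 3, 6, 3, 4, 2, 6, 3, 0, 2, 6, 1, 7, 3, 1, 2, 7, 3, 5, 2]
def rw9007 : List ℕ := [3, 5, 2, 7, 1, 6, 3, 4, 2, 4, 2, 0, 5, 2, 7, 1, 3, 1, 1, 0, 0, 0, 2, 0, 6, 3, 4, 1, 3, 5]
def rw9008 : List ℕ := [7, 2, 7, 1, 5, 1, 4, 0, 6, 3, 6, 5, 1, 3, 6, 3, 6, 1, 3, 1, 0, 0, 2, 0, 7, 2, 7, 2, 0, 4]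
def rw9009 : List ℕ := [2, 0, 4, 7, 2, 7, 1, 5, 3, 4, 0, 6, 3, 6, 5, 1, 3, 6, 3, 6, 1, 3, 1, 2, 0, 2, 0, 7, 2, 7]
def rw9010 : List ℕ := [5, 5, 4, 0, 6, 3, 6, 5, 1, 3, 6, 3, 6, 1, 3, 1, 4, 0, 2, 0, 7, 2, 7, 2, 0, 4, 7, 2, 7, 1]
def rw9011 : List ℕ := [3, 6, 3, 6, 0, 6, 4, 6, 5, 7, 5, 7, 1, 7, 2, 7, 2, 6, 4, 1, 7, 3, 1, 4, 0, 2, 6, 0, 5, 7]
def rw9012 : List ℕ := [0, 7, 2, 7, 2, 0, 3, 5, 6, 7, 7, 4, 2, 1, 3, 6, 3, 6, 1, 2, 7, 4, 3, 1, 6, 0, 2, 5, 6, 3]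
def rw9013 : List ℕ := [0, 6, 0, 6, 0, 6, 0, 6, 1, 7, 1, 7, 1, 7, 1, 7, 1, 3, 6, 0, 6, 3, 1, 0, 0, 2, 7, 1, 7, 2]
def rw9014 : List ℕ := [7, 2, 7, 1, 2, 0, 7, 2, 7, 3, 1, 2, 0, 2, 6, 3, 6, 1, 3, 0, 6, 3, 6, 1, 2, 2, 3, 3, 3, 0]
def rw9015 : List ℕ := [2, 6, 2, 0, 7, 0, 2, 6, 1, 3, 7, 5, 6, 2, 0, 7, 3, 1, 6, 1, 3, 7, 3, 1, 3, 1, 4, 0, 2, 0]
def rw9016 : List ℕ := [7, 2, 7, 1, 2, 5, 3, 0, 6, 3, 6, 5, 6, 0, 2, 5, 6, 3, 3, 1, 4, 0, 2, 2, 7, 4, 3, 1, 7, 4]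
def rw9017 : List ℕ := [6, 5, 6, 0, 2, 5, 6, 3, 3, 1, 4, 0, 2, 2, 7, 4, 3, 1, 7, 4, 7, 2, 7, 1, 2, 5, 3, 0, 6, 3]
def rw9018 : List ℕ := [5, 0, 5, 6, 3, 0, 3, 1, 7, 3, 5, 1, 3, 1, 0, 0, 2, 0, 4, 2, 6, 0, 2, 1, 2, 7, 4, 1, 4, 1]
def rw9019 : List ℕ := [0, 6, 3, 6, 1, 1, 3, 6, 3, 6, 0, 2, 3, 3, 1, 7, 2, 7, 2, 0, 0, 7, 2, 7, 1, 1, 1, 2, 0, 0]
def rw9020 : List ℕ := [0, 0, 7, 2, 7, 1, 1, 1, 2, 0, 0, 0, 6, 3, 6, 1, 1, 3, 6, 3, 6, 0, 2, 3, 3, 1, 7, 2, 7, 2]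
def rw9021 : List ℕ := [3, 1, 4, 0, 2, 0, 3, 3, 0, 6, 3, 6, 1, 3, 7, 2, 7, 5, 6, 3, 6, 2, 0, 7, 2, 7, 1, 2, 2, 1]
def rw9022 : List ℕ := [4, 4, 1, 5, 5, 1, 0, 0, 4, 4, 0, 5, 5, 5, 1, 7, 4, 6, 2, 7, 5, 1, 4, 6, 3, 7, 5, 6, 0, 4]
def rw9023 : List ℕ := [0, 6, 0, 4, 7, 2, 0, 4, 3, 6, 2, 3, 3, 7, 2, 5, 1, 3, 6, 5, 1, 7, 1, 5, 3, 1, 2, 0, 2, 4]
def rw9024 : List ℕ := [0, 6, 0, 4, 7, 2, 0, 4, 3, 6, 2, 5, 3, 7, 2, 5, 1, 3, 6, 5, 1, 7, 1, 5, 3, 1, 4, 0, 2, 4]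
def rw9025 : List ℕ := [0, 2, 4, 0, 6, 0, 4, 7, 2, 0, 4, 3, 6, 2, 7, 3, 7, 2, 5, 1, 3, 6, 5, 1, 7, 1, 5, 3, 1, 6]
def rw9026 : List ℕ := [6, 2, 6, 0, 5, 0, 4, 6, 2, 6, 0, 5, 1, 4, 1, 7, 3, 7, 5, 1, 4, 1, 7, 3, 7, 5, 1, 0, 0, 4]
def rw9027 : List ℕ := [6, 0, 5, 3, 4, 1, 7, 3, 7, 5, 1, 4, 1, 7, 3, 7, 5, 1, 2, 0, 4, 6, 2, 6, 0, 5, 0, 4, 6, 2]
def rw9028 : List ℕ := [5, 3, 7, 2, 7, 2, 0, 3, 1, 0, 0, 2, 1, 3, 6, 3, 6, 2, 4, 0, 6, 3, 6, 5, 1, 4, 7, 2, 7, 1]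
def rw9029 : List ℕ := [6, 5, 1, 3, 4, 3, 1, 5, 1, 7, 1, 3, 1, 0, 0, 2, 0, 6, 0, 4, 0, 2, 5, 2, 0, 4, 7, 4, 1, 5]
def rw9030 : List ℕ := [6, 0, 4, 0, 2, 5, 2, 0, 4, 7, 4, 5, 5, 6, 5, 1, 3, 4, 3, 1, 5, 1, 7, 1, 3, 1, 4, 0, 2, 0]
def rw9031 : List ℕ := [5, 7, 2, 7, 3, 1, 4, 0, 2, 6, 3, 6, 4, 1, 3, 5, 7, 2, 7, 5, 2, 5, 3, 4, 6, 3, 6, 4, 2, 0]
def rw9032 : List ℕ := [5, 7, 2, 7, 1, 7, 2, 7, 5, 3, 5, 1, 4, 2, 4, 6, 3, 6, 0, 6, 3, 6, 4, 2, 4, 1, 0, 0, 5, 3]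
def rw9033 : List ℕ := [3, 5, 5, 4, 2, 4, 6, 3, 6, 0, 6, 3, 6, 4, 2, 4, 1, 4, 0, 5, 3, 5, 7, 2, 7, 1, 7, 2, 7, 5]
def rw9034 : List ℕ := [0, 5, 3, 5, 7, 2, 7, 1, 7, 2, 7, 5, 3, 5, 7, 4, 2, 4, 6, 3, 6, 0, 6, 3, 6, 4, 2, 4, 1, 6]
def rw9035 : List ℕ := [4, 3, 4, 6, 3, 0, 6, 6, 0, 0, 5, 1, 4, 1, 1, 7, 7, 1, 2, 7, 5, 2, 5, 1, 1, 1, 0, 0, 0, 0]
def rw9036 : List ℕ := [0, 4, 3, 4, 6, 3, 0, 6, 6, 0, 0, 5, 1, 4, 1, 1, 7, 7, 1, 2, 7, 5, 2, 5, 1, 1, 1, 0, 0, 0]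
def rw9037 : List ℕ := [3, 4, 1, 1, 7, 7, 1, 2, 7, 5, 2, 5, 1, 1, 1, 2, 0, 0, 0, 4, 3, 4, 6, 3, 0, 6, 6, 0, 0, 5]
def rw9038 : List ℕ := [3, 0, 6, 6, 0, 0, 5, 3, 4, 1, 1, 7, 7, 1, 2, 7, 5, 2, 5, 1, 1, 1, 2, 0, 0, 0, 4, 3, 4, 6]
def rw9039 : List ℕ := [5, 1, 1, 1, 6, 0, 0, 0, 4, 3, 4, 6, 3, 0, 6, 6, 0, 0, 5, 7, 4, 1, 1, 7, 7, 1, 2, 7, 5, 2]
def rw9040 : List ℕ := [3, 0, 5, 3, 4, 1, 2, 2, 0, 7, 3, 1, 6, 2, 1, 5, 3, 1, 2, 0, 2, 4, 0, 3, 7, 0, 2, 6, 1, 3]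
def rw9041 : List ℕ := [4, 0, 3, 7, 0, 2, 6, 1, 3, 3, 0, 5, 5, 4, 1, 2, 2, 0, 7, 3, 1, 6, 2, 1, 5, 3, 1, 4, 0, 2]
def rw9042 : List ℕ := [2, 7, 3, 1, 3, 3, 1, 2, 2, 0, 2, 6, 3, 6, 1, 3, 7, 2, 7, 1, 1, 0, 0, 0, 6, 3, 6, 2, 0, 7]
def rw9043 : List ℕ := [0, 4, 7, 4, 2, 0, 2, 6, 0, 4, 1, 5, 1, 7, 3, 1, 3, 5, 6, 5, 1, 3, 4, 3, 1, 0, 0, 2, 5, 2]
def rw9044 : List ℕ := [2, 0, 4, 7, 4, 2, 0, 2, 6, 0, 4, 1, 5, 1, 7, 3, 1, 3, 5, 6, 5, 1, 3, 4, 3, 1, 0, 0, 2, 5]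
def rw9045 : List ℕ := [2, 0, 4, 7, 4, 2, 0, 2, 6, 0, 4, 3, 5, 1, 7, 3, 1, 3, 5, 6, 5, 1, 3, 4, 3, 1, 2, 0, 2, 5]
def rw9046 : List ℕ := [6, 0, 4, 5, 5, 1, 7, 3, 1, 3, 5, 6, 5, 1, 3, 4, 3, 1, 4, 0, 2, 5, 2, 0, 4, 7, 4, 2, 0, 2]
def rw9047 : List ℕ := [3, 5, 3, 1, 6, 0, 2, 1, 2, 7, 4, 1, 5, 6, 3, 0, 3, 1, 7, 0, 2, 4, 2, 1, 3, 1, 0, 0, 2, 0]
def rw9048 : List ℕ := [2, 0, 2, 0, 3, 5, 3, 1, 6, 0, 2, 1, 2, 7, 4, 3, 5, 6, 3, 0, 3, 1, 7, 0, 2, 4, 2, 1, 3, 1]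
def rw9049 : List ℕ := [0, 2, 4, 2, 1, 3, 1, 4, 0, 2, 0, 3, 5, 3, 1, 6, 0, 2, 1, 2, 7, 4, 5, 5, 6, 3, 0, 3, 1, 7]
def rw9050 : List ℕ := [3, 5, 3, 5, 1, 4, 1, 6, 3, 3, 3, 1, 0, 0, 2, 2, 2, 7, 0, 5, 0, 4, 2, 4, 2, 4, 6, 1, 7, 5]
def rw9051 : List ℕ := [5, 0, 4, 2, 4, 2, 4, 6, 7, 7, 5, 3, 5, 3, 5, 1, 4, 1, 6, 3, 3, 3, 1, 6, 0, 2, 2, 2, 7, 0]
def rw9052 : List ℕ := [0, 2, 0, 7, 4, 7, 2, 7, 0, 2, 0, 7, 4, 3, 5, 6, 1, 3, 1, 6, 3, 6, 5, 6, 1, 3, 1, 1, 2, 0]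
def rw9053 : List ℕ := [0, 2, 1, 4, 2, 0, 5, 0, 5, 2, 7, 3, 1, 6, 5, 7, 0, 2, 6, 3, 4, 1, 4, 1, 3, 5, 0, 3, 1, 4]
def rw9054 : List ℕ := [4, 3, 4, 7, 2, 7, 3, 4, 3, 0, 2, 5, 2, 6, 3, 6, 5, 2, 5, 2, 6, 3, 6, 5, 1, 4, 7, 2, 7, 3]
def rw9055 : List ℕ := [5, 7, 3, 1, 0, 0, 2, 6, 4, 3, 3, 3, 0, 3, 4, 0, 3, 4, 7, 1, 6, 5, 2, 1, 5, 2, 1, 2, 2, 2]
def rw9056 : List ℕ := [5, 5, 3, 3, 0, 4, 7, 7, 5, 2, 7, 4, 3, 5, 6, 3, 4, 6, 6, 5, 1, 2, 2, 4, 4, 2, 1, 2, 0, 3]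
def rw9057 : List ℕ := [3, 3, 1, 2, 0, 2, 2, 7, 3, 1, 7, 3, 1, 7, 3, 4, 3, 4, 3, 5, 2, 5, 2, 6, 0, 2, 6, 0, 2, 6]
def rw9058 : List ℕ := [4, 1, 2, 0, 5, 3, 5, 7, 0, 2, 6, 3, 7, 3, 1, 6, 4, 2, 4, 1, 3, 0, 5, 0, 3, 1, 2, 0, 2, 1]
def rw9059 : List ℕ := [5, 7, 0, 2, 6, 7, 7, 3, 1, 6, 4, 2, 4, 1, 3, 0, 5, 0, 3, 1, 6, 0, 2, 1, 4, 1, 2, 0, 5, 3]
def rw9060 : List ℕ := [6, 3, 6, 3, 4, 3, 5, 2, 7, 2, 7, 4, 3, 3, 7, 2, 7, 1, 2, 1, 2, 0, 3, 0, 6, 3, 6, 2, 2, 5]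
def rw9061 : List ℕ := [2, 2, 5, 6, 3, 6, 3, 4, 5, 5, 2, 7, 2, 7, 4, 3, 3, 7, 2, 7, 1, 2, 1, 4, 0, 3, 0, 6, 3, 6]
def rw9062 : List ℕ := [1, 2, 7, 0, 2, 6, 6, 3, 0, 3, 1, 2, 0, 2, 1, 2, 7, 7, 3, 1, 6, 3, 0, 5, 5, 6, 3, 7, 4, 4]
def rw9063 : List ℕ := [2, 0, 3, 0, 6, 0, 6, 3, 6, 0, 6, 3, 7, 1, 7, 2, 7, 1, 7, 1, 2, 1, 3, 1, 1, 1, 2, 0, 0, 0]
def rw9064 : List ℕ := [2, 4, 4, 1, 2, 7, 7, 1, 4, 6, 1, 7, 5, 0, 6, 6, 3, 0, 5, 5, 3, 5, 7, 3, 1, 0, 0, 2, 6, 4]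
def rw9065 : List ℕ := [5, 0, 4, 1, 5, 0, 6, 3, 7, 5, 6, 3, 5, 2, 7, 4, 6, 2, 7, 1, 4, 0, 5, 1, 4, 3, 1, 4, 0, 2]
def rw9066 : List ℕ := [4, 1, 5, 3, 1, 4, 1, 2, 7, 3, 1, 6, 3, 1, 3, 1, 0, 0, 2, 0, 2, 7, 0, 2, 6, 3, 0, 5, 0, 2]
def rw9067 : List ℕ := [0, 2, 7, 0, 2, 6, 3, 0, 5, 0, 2, 4, 1, 5, 3, 1, 4, 1, 2, 7, 3, 1, 6, 3, 1, 3, 1, 0, 0, 2]
def rw9068 : List ℕ := [3, 1, 4, 1, 2, 7, 3, 1, 6, 3, 1, 3, 1, 2, 0, 2, 0, 2, 7, 0, 2, 6, 3, 0, 5, 0, 2, 4, 3, 5]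
def rw9069 : List ℕ := [1, 1, 2, 0, 0, 4, 7, 3, 6, 4, 6, 3, 1, 6, 2, 1, 3, 3, 2, 0, 3, 7, 0, 2, 7, 5, 7, 2, 6, 5]
def rw9070 : List ℕ := [3, 4, 3, 0, 6, 0, 2, 6, 6, 3, 7, 7, 3, 1, 7, 1, 2, 5, 2, 5, 1, 4, 3, 1, 2, 0, 2, 5, 0, 4]
def rw9071 : List ℕ := [4, 7, 1, 7, 4, 7, 4, 0, 6, 5, 5, 4, 7, 1, 5, 6, 5, 6, 0, 6, 5, 7, 2, 7, 1, 4, 0, 6, 3, 6]
def rw9072 : List ℕ := [4, 2, 0, 5, 5, 4, 1, 3, 5, 6, 3, 0, 3, 1, 7, 1, 3, 1, 1, 4, 0, 0, 2, 0, 6, 0, 2, 1, 2, 7]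
def rw9073 : List ℕ := [4, 6, 3, 6, 2, 1, 1, 0, 0, 0, 3, 7, 2, 7, 5, 5, 0, 7, 0, 3, 1, 7, 1, 6, 0, 2, 1, 6, 1, 4]
def rw9074 : List ℕ := [6, 2, 1, 1, 2, 0, 0, 3, 7, 2, 7, 5, 5, 0, 7, 0, 3, 1, 7, 3, 6, 0, 2, 1, 6, 1, 4, 4, 6, 3]
def rw9075 : List ℕ := [7, 2, 7, 5, 5, 0, 7, 0, 3, 1, 7, 3, 6, 0, 2, 1, 6, 1, 4, 4, 6, 3, 6, 2, 1, 1, 2, 0, 0, 3]
def rw9076 : List ℕ := [0, 3, 1, 7, 5, 6, 0, 2, 1, 6, 1, 4, 4, 6, 3, 6, 2, 1, 1, 4, 0, 0, 3, 7, 2, 7, 5, 5, 0, 7]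
def rw9077 : List ℕ := [0, 7, 0, 3, 1, 7, 5, 6, 0, 2, 1, 6, 1, 4, 4, 6, 3, 6, 2, 1, 1, 4, 0, 0, 3, 7, 2, 7, 5, 5]
def rw9078 : List ℕ := [5, 5, 0, 7, 0, 3, 1, 7, 7, 6, 0, 2, 1, 6, 1, 4, 4, 6, 3, 6, 2, 1, 1, 6, 0, 0, 3, 7, 2, 7]
def rw9079 : List ℕ := [6, 3, 6, 1, 2, 5, 6, 3, 6, 3, 4, 3, 5, 2, 7, 2, 7, 4, 3, 0, 7, 2, 7, 1, 1, 1, 2, 0, 0, 0]
def rw9080 : List ℕ := [2, 5, 2, 6, 0, 2, 6, 0, 2, 6, 3, 7, 3, 1, 7, 3, 1, 7, 3, 4, 3, 4, 3, 3, 1, 2, 0, 2, 2, 5]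
def rw9081 : List ℕ := [5, 2, 6, 0, 2, 6, 0, 2, 6, 7, 7, 3, 1, 7, 3, 1, 7, 3, 4, 3, 4, 3, 3, 1, 6, 0, 2, 2, 5, 2]
def rw9082 : List ℕ := [6, 3, 6, 1, 2, 0, 2, 7, 2, 7, 2, 3, 3, 6, 3, 6, 3, 1, 3, 0, 7, 2, 7, 1, 1, 1, 2, 0, 0, 0]
def rw9083 : List ℕ := [7, 4, 1, 4, 2, 6, 3, 7, 3, 5, 0, 5, 6, 5, 2, 5, 5, 5, 2, 5, 1, 2, 0, 4, 3, 4, 4, 4, 3, 4]
def rw9084 : List ℕ := [7, 2, 7, 5, 6, 3, 6, 3, 7, 4, 6, 6, 0, 4, 4, 3, 1, 1, 4, 0, 0, 2, 5, 5, 1, 7, 7, 5, 6, 2]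
def rw9085 : List ℕ := [4, 4, 1, 3, 5, 7, 4, 2, 0, 5, 6, 4, 3, 1, 0, 0, 2, 5, 7, 4, 1, 3, 5, 6, 4, 2, 0, 5, 5, 1]
def rw9086 : List ℕ := [4, 2, 0, 5, 5, 5, 4, 4, 1, 3, 5, 7, 4, 2, 0, 5, 6, 4, 3, 1, 4, 0, 2, 5, 7, 4, 1, 3, 5, 6]
def rw9087 : List ℕ := [5, 6, 3, 3, 1, 3, 5, 6, 5, 7, 4, 2, 0, 2, 2, 7, 4, 7, 2, 7, 1, 3, 1, 4, 0, 2, 0, 6, 3, 6]
def rw9088 : List ℕ := [1, 3, 1, 6, 0, 2, 0, 6, 3, 6, 5, 6, 3, 3, 1, 3, 5, 6, 7, 7, 4, 2, 0, 2, 2, 7, 4, 7, 2, 7]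
def rw9089 : List ℕ := [4, 2, 4, 2, 1, 4, 1, 6, 1, 7, 0, 5, 0, 3, 5, 3, 5, 3, 6, 3, 0, 3, 1, 0, 0, 2, 1, 2, 7, 2]
def rw9090 : List ℕ := [3, 6, 3, 4, 2, 6, 1, 7, 3, 5, 2, 7, 2, 7, 3, 3, 1, 7, 0, 3, 1, 0, 0, 2, 1, 6, 0, 2, 2, 6]
def rw9091 : List ℕ := [3, 3, 3, 3, 3, 0, 0, 0, 0, 3, 0, 2, 1, 1, 1, 1, 2, 2, 2, 2, 2, 0]
def rw9092 : List ℕ := [1, 3, 3, 3, 3, 0, 2, 0, 0, 0, 0, 3]
def rw9093 : List ℕ := [0, 0, 0, 0, 0, 2, 0, 3, 3, 3, 3, 3, 1, 3]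
def rw9094 : List ℕ := [3, 3, 3, 3, 3, 0, 2, 0, 0, 0, 0, 0, 3, 1]
def rw9095 : List ℕ := [6, 3, 3, 3, 0, 3, 0, 0, 6, 1, 1, 2, 1, 2, 2, 2, 7, 2, 1, 1, 1, 1, 1, 1, 1, 1, 1, 1, 1, 1, 1, 3]
def rw9096 : List ℕ := [1, 0, 0, 2, 1, 2, 0, 2, 2, 2, 1, 3, 3, 3, 1, 3, 0, 3]
def rw9097 : List ℕ := [0, 2, 0, 3, 0, 3, 1, 3, 3, 1, 2, 2, 0, 2, 1, 2, 1, 3, 1, 1, 0, 0]
def rw9098 : List ℕ := [1, 3, 3, 3, 3, 1, 3, 3, 2, 0, 2, 2, 2, 2, 0, 2, 1, 1, 2, 0, 0, 3]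
def rw9099 : List ℕ := [3, 1, 3, 0, 3, 0, 2, 3, 3, 1, 2, 1, 2, 0, 2, 2, 1, 1, 2, 0, 0, 3]
def rw9100 : List ℕ := [1, 2, 0, 0, 3, 3, 1, 3, 0, 3, 0, 2, 3, 3, 1, 2, 1, 2, 0, 2, 2, 1]
def rw9101 : List ℕ := [1, 3, 3, 5, 2, 2, 0, 2, 1, 2, 2, 1, 3, 1, 1, 1, 4, 0, 0, 0, 2, 0, 3, 3, 0, 3]
def rw9102 : List ℕ := [3, 3, 3, 3, 3, 1, 3, 1, 2, 0, 2, 2, 2, 2, 2, 0, 2, 1, 1, 1, 0, 0, 0, 0, 3, 1]
def rw9103 : List ℕ := [3, 0, 2, 3, 3, 1, 2, 1, 2, 2, 0, 2, 1, 2, 1, 1, 2, 0, 0, 3, 0, 3, 1, 3, 3, 0]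
def rw9104 : List ℕ := [0, 3, 1, 3, 3, 0, 3, 0, 2, 5, 3, 1, 2, 1, 2, 2, 0, 2, 1, 2, 1, 1, 4, 0, 0, 3]
def rw9105 : List ℕ := [3, 3, 0, 3, 0, 2, 5, 3, 1, 2, 1, 2, 2, 0, 2, 1, 2, 1, 1, 4, 0, 0, 3, 0, 3, 1]
def rw9106 : List ℕ := [0, 4, 0, 4, 0, 4, 3, 5, 1, 5, 1, 5, 1, 5, 1, 5, 1, 2, 0, 4, 0, 4]
def rw9107 : List ℕ := [3, 3, 0, 2, 2, 4, 2, 4, 2, 2, 4, 2, 4, 1, 5, 3, 5, 3, 3, 5, 3, 5]
def rw9108 : List ℕ := [5, 5, 3, 5, 3, 2, 2, 4, 2, 4, 4, 2, 4, 2, 4, 4, 3, 5, 5, 3, 5, 3]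
def rw9109 : List ℕ := [5, 3, 1, 5, 1, 1, 2, 0, 0, 4, 0, 2, 4, 2, 2, 4, 4, 4, 3, 5, 5, 5, 3, 3]
def rw9110 : List ℕ := [4, 7, 5, 5, 5, 3, 3, 5, 3, 1, 5, 1, 1, 6, 0, 0, 4, 0, 2, 4, 2, 2, 4, 4]
def rw9111 : List ℕ := [3, 5, 0, 4, 5, 5, 1, 4, 2, 2, 4, 2, 5, 5, 1, 1, 4, 0, 0, 4, 4, 3, 5, 3]
def rw9112 : List ℕ := [5, 1, 4, 2, 2, 4, 2, 5, 5, 1, 1, 6, 0, 0, 4, 4, 3, 5, 3, 3, 5, 0, 4, 7]
def rw9113 : List ℕ := [1, 3, 5, 3, 3, 5, 5, 5, 1, 1, 4, 0, 0, 4, 4, 4, 2, 2, 4, 2, 0, 4, 5, 5]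
def rw9114 : List ℕ := [4, 0, 3, 0, 2, 5, 3, 1, 1, 1, 2, 0, 0, 0, 2, 4, 3, 1, 2, 1, 5, 0, 3, 3, 2, 1]
def rw9115 : List ℕ := [1, 1, 1, 4, 3, 4, 1, 1, 1, 2, 0, 0, 0, 5, 2, 5, 0, 0, 0, 5, 2, 5, 3, 4, 3, 4]
def rw9116 : List ℕ := [4, 0, 3, 1, 1, 5, 0, 3, 0, 3, 1, 1, 0, 0, 0, 2, 1, 2, 1, 4, 0, 0, 2, 1, 5, 1]
def rw9117 : List ℕ := [2, 1, 2, 1, 4, 0, 0, 2, 1, 5, 1, 4, 0, 3, 1, 1, 5, 0, 3, 0, 3, 1, 1, 0, 0, 0]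
def rw9118 : List ℕ := [2, 1, 2, 1, 4, 0, 3, 0, 2, 5, 3, 4, 3, 1, 2, 1, 5, 0, 3, 0, 3, 1, 1, 2, 0, 0]
def rw9119 : List ℕ := [1, 2, 1, 4, 0, 3, 1, 1, 2, 0, 0, 2, 1, 5, 0, 3, 0, 2, 2, 1, 4, 3, 5, 0, 3, 3]
def rw9120 : List ℕ := [4, 1, 4, 2, 4, 0, 2, 1, 3, 1, 5, 3, 5, 0, 5, 3, 5, 3, 1, 1, 0, 0, 0, 2, 4, 2]
def rw9121 : List ℕ := [5, 1, 1, 3, 0, 4, 1, 2, 2, 1, 1, 0, 0, 0, 3, 3, 0, 5, 1, 2, 0, 0, 4, 2, 1, 3]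
def rw9122 : List ℕ := [3, 3, 0, 5, 1, 2, 1, 3, 0, 4, 1, 2, 2, 2, 0, 0, 5, 1, 1, 0, 0, 0, 4, 1, 1, 3]
def rw9123 : List ℕ := [5, 2, 2, 5, 1, 1, 2, 0, 0, 4, 3, 3, 4, 0, 0, 4, 3, 3, 4, 3, 5, 2, 2, 5, 1, 1]
def rw9124 : List ℕ := [1, 2, 2, 2, 3, 3, 3, 3, 0, 5, 2, 0, 3, 0, 4, 1, 1, 2, 0, 0, 5, 1, 2, 1, 3, 4]
def rw9125 : List ℕ := [4, 1, 1, 4, 0, 0, 5, 1, 2, 1, 3, 4, 1, 2, 2, 2, 5, 3, 3, 3, 0, 5, 2, 0, 3, 0]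
def rw9126 : List ℕ := [5, 3, 1, 3, 1, 4, 0, 2, 0, 2, 4, 2, 4, 1, 4, 2, 4, 2, 5, 3, 5, 3, 5, 0, 5, 3]
def rw9127 : List ℕ := [1, 4, 1, 3, 1, 4, 0, 2, 0, 5, 0, 2, 0, 5, 0, 2, 0, 5, 5, 4, 1, 3, 1, 4, 1, 3]
def rw9128 : List ℕ := [5, 2, 1, 3, 4, 2, 4, 1, 4, 2, 4, 2, 0, 3, 1, 0, 0, 2, 1, 3, 5, 3, 5, 0, 5, 3]
def rw9129 : List ℕ := [2, 1, 5, 5, 2, 5, 5, 2, 0, 3, 4, 5, 5, 2, 1, 3, 4, 4, 3, 4, 4, 0, 3, 1, 4, 0]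
def rw9130 : List ℕ := [4, 1, 4, 1, 3, 3, 1, 2, 0, 2, 2, 0, 5, 0, 5, 3, 5, 0, 5, 2, 3, 3, 4, 1, 4, 2]
def rw9131 : List ℕ := [3, 3, 1, 4, 0, 2, 2, 1, 4, 0, 3, 0, 2, 5, 0, 3, 5, 2, 1, 4, 3, 1, 2, 1, 5, 0]
def rw9132 : List ℕ := [0, 2, 4, 2, 0, 5, 1, 4, 1, 3, 5, 3, 1, 4, 1, 3, 5, 3, 1, 0, 0, 2, 4, 2, 0, 5]
def rw9133 : List ℕ := [5, 3, 5, 3, 1, 4, 0, 2, 4, 2, 4, 1, 4, 2, 4, 3, 1, 3, 5, 2, 0, 2, 5, 3, 5, 0]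
def rw9134 : List ℕ := [4, 3, 3, 3, 0, 3, 0, 3, 4, 3, 1, 0, 0, 2, 5, 2, 1, 2, 1, 2, 2, 2, 5, 5, 1, 4]
def rw9135 : List ℕ := [5, 3, 5, 3, 5, 2, 0, 5, 3, 5, 1, 4, 2, 4, 1, 3, 4, 2, 4, 2, 4, 3, 1, 0, 0, 2]
def rw9136 : List ℕ := [3, 5, 2, 0, 5, 3, 5, 1, 4, 2, 4, 1, 3, 4, 2, 4, 2, 4, 3, 1, 0, 0, 2, 5, 3, 5]
def rw9137 : List ℕ := [3, 6, 3, 6, 1, 3, 7, 2, 7, 1, 1, 1, 4, 0, 0, 0, 6, 3, 6, 2, 0, 7, 2, 7, 2, 5]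
def rw9138 : List ℕ := [6, 0, 6, 3, 6, 3, 1, 1, 4, 0, 0, 2, 7, 2, 7, 1, 7, 2, 7, 0, 2, 5, 3, 1, 6, 3]
def rw9139 : List ℕ := [6, 3, 6, 2, 1, 3, 6, 3, 6, 2, 1, 3, 7, 2, 7, 2, 0, 3, 7, 2, 7, 1, 1, 0, 0, 0]
def rw9140 : List ℕ := [7, 2, 7, 2, 7, 3, 6, 3, 6, 2, 1, 3, 6, 3, 6, 1, 1, 6, 0, 0, 7, 2, 7, 2, 0, 3]
def rw9141 : List ℕ := [0, 2, 4, 1, 3, 5, 6, 3, 0, 3, 1, 4, 0, 2, 1, 2, 7, 4, 2, 0, 5, 3, 1, 6, 5, 7]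
def rw9142 : List ℕ := [6, 0, 6, 0, 3, 1, 6, 0, 2, 1, 7, 1, 7, 2, 7, 1, 7, 1, 2, 7, 3, 0, 6, 0, 6, 3]
def rw9143 : List ℕ := [6, 3, 3, 3, 1, 0, 0, 2, 2, 2, 7, 0, 2, 4, 1, 3, 5, 6, 1, 7, 4, 2, 0, 5, 3, 1]
def rw9144 : List ℕ := [6, 0, 6, 3, 6, 3, 3, 1, 4, 0, 2, 2, 7, 2, 7, 1, 7, 2, 7, 2, 2, 5, 3, 3, 6, 3]
def rw9145 : List ℕ := [5, 3, 1, 2, 0, 2, 4, 2, 2, 7, 3, 1, 6, 3, 3, 5, 3, 4, 2, 2, 7, 0, 2, 6, 3, 3]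
def rw9146 : List ℕ := [7, 4, 3, 1, 4, 0, 2, 5, 6, 0, 2, 7, 2, 7, 1, 5, 6, 5, 7, 4, 0, 6, 3, 6, 3, 1]
def rw9147 : List ℕ := [3, 1, 6, 2, 0, 7, 1, 6, 1, 3, 7, 0, 2, 6, 2, 0, 7, 3, 1, 0, 0, 2, 6, 1, 3, 7]
def rw9148 : List ℕ := [3, 4, 3, 6, 3, 6, 3, 1, 6, 0, 2, 7, 2, 7, 2, 5, 2, 7, 2, 7, 4, 7, 5, 6, 3, 6]
def rw9149 : List ℕ := [6, 3, 6, 6, 5, 1, 1, 0, 0, 0, 4, 7, 7, 2, 7, 1, 6, 5, 5, 0, 5, 1, 4, 1, 4, 4, 7, 0]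
def rw9150 : List ℕ := [1, 3, 4, 3, 4, 7, 3, 5, 6, 3, 3, 1, 0, 0, 2, 2, 7, 4, 2, 6, 5, 2, 5, 2, 0, 5, 1, 4]
def rw9151 : List ℕ := [4, 7, 3, 5, 6, 3, 3, 1, 2, 0, 2, 2, 7, 4, 2, 6, 5, 2, 5, 2, 0, 5, 3, 4, 1, 3, 4, 3]
def rw9152 : List ℕ := [7, 4, 0, 5, 6, 3, 7, 1, 6, 2, 7, 4, 1, 5, 6, 5, 2, 0, 4, 3, 1, 0, 0, 2, 5, 1, 3, 4]
def rw9153 : List ℕ := [4, 0, 5, 6, 3, 7, 1, 6, 2, 7, 4, 1, 5, 6, 5, 2, 0, 4, 3, 1, 0, 0, 2, 5, 1, 3, 4, 7]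
def rw9154 : List ℕ := [6, 3, 0, 5, 3, 5, 3, 4, 2, 4, 1, 2, 7, 4, 1, 6, 5, 2, 5, 1, 2, 0, 4, 3, 4, 7, 0, 5]
def rw9155 : List ℕ := [5, 6, 3, 7, 5, 0, 6, 3, 6, 6, 3, 4, 5, 5, 2, 7, 7, 2, 7, 1, 4, 6, 2, 7, 4, 1, 4, 0]
def rw9156 : List ℕ := [6, 6, 3, 3, 6, 6, 3, 3, 3, 4, 2, 2, 2, 7, 7, 2, 2, 7, 7, 4, 2, 6, 4, 5, 5, 7, 3, 5]
def rw9157 : List ℕ := [7, 1, 1, 2, 0, 0, 6, 3, 6, 1, 1, 5, 2, 7, 2, 7, 4, 3, 3, 2, 5, 6, 3, 6, 3, 4, 0, 0, 7, 2]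
def rw9158 : List ℕ := [6, 3, 3, 5, 1, 3, 1, 1, 6, 0, 0, 2, 0, 4, 2, 2, 7, 0, 2, 6, 3, 3, 5, 7, 4, 2, 2, 7, 3, 1]
def rw9159 : List ℕ := [2, 5, 5, 4, 3, 5, 2, 5, 2, 4, 7, 0, 5, 6, 1, 2, 1, 4, 0, 3, 0, 7, 4, 1, 6, 5, 3, 4, 3, 4]
def rw9160 : List ℕ := [3, 3, 1, 2, 7, 3, 5, 1, 3, 1, 6, 0, 2, 0, 4, 2, 6, 3, 0, 2, 2, 7, 4, 1, 4, 7, 5, 0, 5, 6]
def rw9161 : List ℕ := [0, 2, 5, 7, 4, 3, 1, 7, 0, 2, 6, 3, 0, 5, 1, 3, 1, 1, 6, 0, 0, 2, 0, 4, 1, 2, 7, 3, 1, 6]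
def rw9162 : List ℕ := [6, 6, 5, 2, 0, 5, 2, 1, 0, 0, 3, 4, 1, 3, 4, 7, 7, 2, 2, 7, 5, 3, 5, 1, 4, 2, 4, 6, 3, 3]
def rw9163 : List ℕ := [7, 7, 2, 2, 7, 5, 3, 5, 3, 4, 2, 4, 6, 3, 3, 6, 6, 5, 2, 0, 5, 2, 1, 2, 0, 3, 4, 1, 3, 4]
def rw9164 : List ℕ := [7, 2, 7, 1, 5, 1, 3, 6, 3, 6, 2, 5, 3, 7, 2, 7, 2, 0, 4, 0, 6, 3, 6, 5, 3, 1, 4, 0, 2, 4]
def rw9165 : List ℕ := [4, 0, 5, 2, 1, 4, 4, 4, 4, 7, 3, 1, 0, 0, 2, 6, 5, 5, 5, 5, 0, 3, 4, 1, 5, 3, 7, 1, 6, 2]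
def rw9166 : List ℕ := [2, 6, 3, 6, 1, 3, 0, 6, 3, 6, 1, 2, 2, 5, 3, 3, 0, 7, 2, 7, 1, 2, 0, 7, 2, 7, 3, 1, 4, 0]
def rw9167 : List ℕ := [7, 2, 7, 1, 1, 0, 0, 0, 6, 3, 6, 2, 0, 7, 2, 7, 3, 1, 3, 3, 1, 2, 2, 0, 2, 6, 3, 6, 1, 3]
def rw9168 : List ℕ := [6, 3, 4, 1, 4, 1, 3, 5, 0, 3, 1, 4, 0, 2, 1, 4, 2, 0, 5, 0, 5, 2, 7, 3, 1, 6, 5, 7, 0, 2]
def rw9169 : List ℕ := [5, 5, 2, 2, 2, 1, 2, 1, 2, 0, 3, 0, 3, 3, 3, 4, 4, 1, 3, 4, 3, 3, 2, 5, 2, 0]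
def rw9170 : List ℕ := [7, 7, 0, 3, 7, 7, 0, 3, 7, 7, 1, 6, 6, 2, 1, 6, 6, 2, 1, 6, 6, 2, 1, 0, 0, 3]
def rw9171 : List ℕ := [5, 2, 0, 7, 4, 2, 0, 5, 6, 4, 1, 1, 0, 0, 0, 5, 7, 4, 1, 3, 5, 6, 1, 3, 4, 4, 1, 5]
def rw9172 : List ℕ := [7, 7, 6, 5, 2, 5, 5, 3, 5, 2, 7, 4, 1, 6, 0, 5, 6, 3, 4, 2, 4, 4, 3, 4]
def rw9173 : List ℕ := [3, 7, 2, 7, 1, 1, 1, 0, 0, 0, 0, 6, 3, 6, 2, 0, 7, 2, 7, 2, 1, 3, 6, 3, 6, 1]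
def rw9174 : List ℕ := [0, 7, 2, 7, 2, 1, 3, 6, 3, 6, 1, 3, 7, 2, 7, 1, 1, 1, 0, 0, 0, 0, 6, 3, 6, 2]
def rw9175 : List ℕ := [5, 5, 4, 7, 2, 7, 1, 5, 0, 7, 2, 7, 1, 1, 4, 0, 0, 6, 3, 6, 1, 4, 0, 6, 3, 6]
def rw9176 : List ℕ := [6, 5, 7, 2, 7, 1, 7, 2, 7, 1, 4, 0, 6, 3, 6, 0, 6, 3]
def rw9177 : List ℕ := [7, 5, 6, 5, 6, 5, 6, 5, 6, 5, 4, 4, 7, 4, 7, 4, 7, 4]
def rw9178 : List ℕ := [0, 6, 3, 6, 1, 7, 2, 7, 1, 7, 2, 7, 1, 0, 0, 6, 3, 6]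
def rw9179 : List ℕ := [5, 6, 5, 6, 5, 6, 5, 0, 4, 7, 4, 7, 4, 7, 4, 7, 1, 6]
def rw9180 : List ℕ := [1, 1, 1, 2, 0, 0, 0, 6, 3, 6, 2, 0, 7, 2, 7, 2, 3, 3, 6, 3, 6, 1, 3, 7, 2, 7]
def rw9181 : List ℕ := [4, 6, 1, 7, 5, 3, 6, 0, 2, 6, 4, 1, 7, 3, 1, 0, 0, 2, 6, 0, 5, 7, 3, 1, 7, 2]
def rw9182 : List ℕ := [7, 4, 6, 2, 5, 1, 7, 4, 6, 2, 5, 1, 6, 0, 4, 3, 7, 5, 6, 0, 4, 3, 7, 5, 6, 7]
def rw9183 : List ℕ := [0, 3, 3, 3, 3, 3, 0, 0, 0, 0, 3, 0, 2, 1, 1, 1, 1, 2, 2, 2, 2, 2]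
def rw9184 : List ℕ := [5, 3, 4, 4, 1, 4, 1, 4, 4, 1, 4, 1, 2, 0, 5, 0, 5, 5, 0, 5, 0, 5]
def rw9185 : List ℕ := [7, 4, 7, 4, 7, 4, 7, 1, 6, 5, 6, 5, 6, 5, 6, 5, 0, 4]
def rw9186 : List ℕ := [6, 4, 1, 1, 0, 0, 0, 5, 7, 4, 1, 3, 5, 6, 1, 3, 4, 4, 1, 5, 5, 2, 0, 7, 4, 2, 0, 5]
def rw9187 : List ℕ := [7, 2, 7, 1, 7, 2, 7, 1, 4, 0, 6, 3, 6, 0, 6, 3, 6, 5]
def rw9188 : List ℕ := [7, 1, 6, 5, 6, 5, 6, 5, 6, 5, 0, 4, 7, 4, 7, 4, 7, 4]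
def rw9189 : List ℕ := [7, 0, 3, 7, 7, 1, 6, 6, 2, 1, 6, 6, 2, 1, 6, 6, 2, 1, 0, 0, 3, 7, 7, 0, 3, 7]
def rw9190 : List ℕ := [7, 2, 5, 1, 7, 2, 5, 1, 7, 2, 5, 1, 0, 0, 4, 3, 6, 0, 4, 3, 6, 0, 4, 3, 6, 1]
def rw9191 : List ℕ := [4, 3, 5, 3, 5, 3, 3, 5, 3, 5, 3, 3, 2, 2, 2, 4, 2, 4, 2, 2, 4, 2]
def rw9192 : List ℕ := [6, 3, 6, 0, 6, 3, 6, 1, 7, 2, 7, 1, 7, 2, 7, 1, 0, 0]
def rw9193 : List ℕ := [4, 3, 5, 1, 5, 1, 5, 1, 5, 1, 5, 1, 2, 0, 4, 0, 4, 0, 4, 0, 4, 0]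
def rw9194 : List ℕ := [3, 7, 2, 7, 2, 3, 3, 6, 3, 6, 2, 1, 3, 6, 3, 6, 1, 1, 2, 0, 0, 7, 2, 7, 2, 0]
def rw9195 : List ℕ := [7, 2, 1, 1, 1, 1, 1, 1, 1, 1, 1, 1, 1, 1, 1, 3, 6, 3, 3, 3, 0, 3, 0, 0, 6, 1, 1, 2, 1, 2, 2, 2]
def rw9196 : List ℕ := [6, 1, 1, 2, 1, 2, 2, 2, 7, 2, 1, 1, 1, 1, 1, 1, 1, 1, 1, 1, 1, 1, 1, 3, 6, 3, 3, 3, 0, 3, 0, 0]
def rw9197 : List ℕ := [1, 2, 1, 2, 2, 2, 7, 2, 1, 1, 1, 1, 1, 1, 1, 1, 1, 1, 1, 1, 1, 3, 6, 3, 3, 3, 0, 3, 0, 0, 6, 1]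
def rw9198 : List ℕ := [6, 6, 6, 6, 6, 6, 6, 6, 6, 6, 6, 6, 6, 6, 6, 6, 6]
def rw9199 : List ℕ := [3, 6, 3, 3, 3, 0, 3, 0, 0, 6, 1, 1, 2, 1, 2, 2, 2, 7, 2, 1, 1, 1, 1, 1, 1, 1, 1, 1, 1, 1, 1, 1]
def rw9200 : List ℕ := [0, 6, 1, 1, 2, 1, 2, 2, 2, 7, 2, 1, 1, 1, 1, 1, 1, 1, 1, 1, 1, 1, 1, 1, 3, 6, 3, 3, 3, 0, 3, 0]
def rw9201 : List ℕ := [1, 6, 0, 0, 3, 1, 3, 3, 3, 3, 1, 3, 7, 2, 0, 2, 2, 2, 2, 0, 2, 1]
def rw9202 : List ℕ := [3, 1, 2, 1, 2, 0, 2, 2, 1, 1, 6, 0, 0, 3, 3, 1, 3, 0, 3, 0, 2, 7]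
def rw9203 : List ℕ := [4, 2, 4, 1, 4, 2, 4, 1, 6, 0, 5, 3, 5, 0, 5, 3, 5, 7]
def rw9204 : List ℕ := [5, 1, 5, 1, 5, 1, 5, 1, 5, 1, 6, 0, 4, 0, 4, 0, 4, 0, 4, 0, 4, 7]
def rw9205 : List ℕ := [2, 7, 2, 1, 1, 1, 1, 1, 1, 1, 1, 1, 1, 1, 1, 1, 3, 6, 3, 3, 3, 0, 3, 0, 0, 6, 1, 1, 2, 1, 2, 2]
def rw9206 : List ℕ := [0, 0, 2, 0, 0, 2, 7, 3, 1, 1, 3, 1, 1, 6]
def rw9207 : List ℕ := [3, 7, 2, 2, 0, 2, 1, 2, 1, 3, 1, 1, 6, 0, 0, 2, 0, 3, 0, 3, 1, 3]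
def rw9208 : List ℕ := [4, 7, 5, 1, 5, 1, 5, 1, 5, 1, 5, 1, 6, 0, 4, 0, 4, 0, 4, 0, 4, 0]
def rw9209 : List ℕ := [7, 7, 6, 5, 6, 5, 6, 5, 6, 5, 6, 4, 7, 4, 7, 4, 7, 4]
def rw9210 : List ℕ := [5, 7, 4, 3, 4, 1, 1, 1, 4, 3, 4, 1, 1, 1, 6, 0, 0, 0, 5, 2, 5, 0, 0, 0, 5, 2]
def rw9211 : List ℕ := [6, 5, 6, 5, 6, 5, 6, 5, 0, 4, 7, 4, 7, 4, 7, 4, 7, 1]
def rw9212 : List ℕ := [2, 4, 4, 4, 3, 5, 5, 5, 3, 3, 5, 3, 1, 5, 1, 1, 2, 0, 0, 4, 0, 2, 4, 2]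
def rw9213 : List ℕ := [6, 1, 7, 2, 7, 1, 7, 2, 7, 1, 0, 0, 6, 3, 6, 0, 6, 3]
def rw9214 : List ℕ := [7, 4, 3, 1, 7, 4, 7, 2, 7, 1, 3, 1, 6, 0, 2, 0, 6, 3, 6, 5, 6, 0, 2, 5, 6, 7]
def rw9215 : List ℕ := [4, 7, 5, 5, 2, 4, 2, 2, 4, 1, 5, 1, 1, 6, 0, 0, 4, 0, 5, 3, 3, 5, 3, 4]
def rw9216 : List ℕ := [2, 2, 4, 2, 4, 2, 2, 4, 2, 4, 7, 5, 3, 5, 3, 3, 5, 3, 5, 3, 3, 6]
def rw9217 : List ℕ := [0, 5, 3, 3, 5, 7, 4, 2, 2, 4, 1, 1, 4, 2, 2, 4, 1, 1, 6, 0, 0, 5, 3, 3, 5, 0]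
def rw9218 : List ℕ := [6, 3, 6, 0, 6, 3, 6, 3, 7, 2, 7, 1, 7, 2, 7, 1, 2, 0]
def rw9219 : List ℕ := [7, 1, 7, 2, 7, 1, 7, 1, 1, 3, 1, 1, 4, 0, 0, 2, 0, 0, 6, 0, 6, 3, 6, 0, 6, 5]
def rw9220 : List ℕ := [0, 0, 2, 0, 3, 0, 3, 1, 3, 3, 5, 2, 2, 0, 2, 1, 2, 1, 3, 1, 1, 4]
def rw9221 : List ℕ := [2, 5, 3, 1, 2, 1, 2, 0, 2, 2, 1, 1, 4, 0, 0, 3, 3, 1, 3, 0, 3, 0]
def rw9222 : List ℕ := [7, 5, 6, 6, 2, 1, 6, 6, 2, 1, 6, 6, 2, 1, 4, 0, 3, 7, 7, 0, 3, 7, 7, 0, 3, 7]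
def rw9223 : List ℕ := [5, 3, 5, 3, 3, 5, 3, 5, 3, 3, 6, 2, 2, 4, 2, 4, 2, 2, 4, 2, 4, 7]
def rw9224 : List ℕ := [1, 6, 0, 3, 3, 5, 3, 3, 0, 3, 4, 4, 3, 7, 2, 5, 5, 2, 1, 2, 2, 4, 2, 2]
def rw9225 : List ℕ := [3, 5, 1, 2, 0, 0, 4, 1, 2, 1, 1, 1, 6, 0, 0, 0, 3, 0, 5, 1, 1, 3, 0, 4, 2, 7]
def rw9226 : List ℕ := [4, 3, 4, 1, 1, 1, 4, 3, 4, 1, 1, 1, 6, 0, 0, 0, 5, 2, 5, 0, 0, 0, 5, 2, 5, 7]
def rw9227 : List ℕ := [4, 7, 5, 3, 5, 3, 3, 5, 3, 5, 3, 3, 6, 2, 2, 4, 2, 4, 2, 2, 4, 2]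
noncomputable def rwb0 (i : ℕ) : List ℕ := Bool.rec (motive := fun _ => List ℕ) (Bool.rec (motive := fun _ => List ℕ) (Bool.rec (motive := fun _ => List ℕ) (Bool.rec (motive := fun _ => List ℕ) (Bool.rec (motive := fun _ => List ℕ) (Bool.rec (motive := fun _ => List ℕ) (rw0) (rw1) (Nat.ble 1 i)) (Bool.rec (motive := fun _ => List ℕ) (rw2) (rw3) (Nat.ble 3 i)) (Nat.ble 2 i)) (Bool.rec (motive := fun _ => List ℕ) (Bool.rec (motive := fun _ => List ℕ) (rw4) (rw5) (Nat.ble 5 i)) (Bool.rec (motive := fun _ => List ℕ) (rw6) (rw7) (Nat.ble 7 i)) (Nat.ble 6 i)) (Nat.ble 4 i)) (Bool.rec (motive := fun _ => List ℕ) (Bool.rec (motive := fun _ => List ℕ) (Bool.rec (motive := fun _ => List ℕ) (rw8) (rw9) (Nat.ble 9 i)) (Bool.rec (motive := fun _ => List ℕ) (rw10) (rw11) (Nat.ble 11 i)) (Nat.ble 10 i)) (Bool.rec (motive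 := fun _ => List ℕ) (Bool.rec (motive := fun _ => List ℕ) (rw12) (rw13) (Nat.ble 13 i)) (Bool.rec (motive := fun _ => List ℕ) (rw14) (rw15) (Nat.ble 15 i)) (Nat.ble 14 i)) (Nat.ble 12 i)) (Nat.ble 8 i)) (Bool.rec (motive := fun _ => List ℕ) (Bool.rec (motive := fun _ => List ℕ) (Bool.rec (motive := fun _ => List ℕ) (Bool.rec (motive := fun _ => List ℕ) (rw16) (rw17) (Nat.ble 17 i)) (Bool.rec (motive := fun _ => List ℕ) (rw18) (rw19) (Nat.ble 19 i)) (Nat.ble 18 i)) (Bool.rec (motive := fun _ => List ℕ) (Bool.rec (motive := fun _ => List ℕ) (rw20) (rw21) (Nat.ble 21 i)) (Bool.rec (motive := fun _ => List ℕ) (rw22) (rw23) (Nat.ble 23 i)) (Nat.ble 22 i)) (Nat.ble 20 i)) (Bool.rec (motive := fun _ => List ℕ) (Bool.rec (motive := fun _ => List ℕ) (Bool.rec (motive := fun _ => List ℕ) (rw24) (rw25) (Nat.ble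 25 i)) (Bool.rec (motive := fun _ => List ℕ) (rw26) (rw27) (Nat.ble 27 i)) (Nat.ble 26 i)) (Bool.rec (motive := fun _ => List ℕ) (Bool.rec (motive := fun _ => List ℕ) (rw28) (rw29) (Nat.ble 29 i)) (Bool.rec (motive := fun _ => List ℕ) (rw30) (rw31) (Nat.ble 31 i)) (Nat.ble 30 i)) (Nat.ble 28 i)) (Nat.ble 24 i)) (Nat.ble 16 i)) (Bool.rec (motive := fun _ => List ℕ) (Bool.rec (motive := fun _ => List ℕ) (Bool.rec (motive := fun _ => List ℕ) (Bool.rec (motive := fun _ => List ℕ) (Bool.rec (motive := fun _ => List ℕ) (rw32) (rw33) (Nat.ble 33 i)) (Bool.rec (motive := fun _ => List ℕ) (rw34) (rw35) (Nat.ble 35 i)) (Nat.ble 34 i)) (Bool.rec (motive := fun _ => List ℕ) (Bool.rec (motive := fun _ => List ℕ) (rw36) (rw37) (Nat.ble 37 i)) (Bool.rec (motive := fun _ => List ℕ) (rw38) (rw39) (Nat.ble 39 i)) (Nat.ble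 38 i)) (Nat.ble 36 i)) (Bool.rec (motive := fun _ => List ℕ) (Bool.rec (motive := fun _ => List ℕ) (Bool.rec (motive := fun _ => List ℕ) (rw40) (rw41) (Nat.ble 41 i)) (Bool.rec (motive := fun _ => List ℕ) (rw42) (rw43) (Nat.ble 43 i)) (Nat.ble 42 i)) (Bool.rec (motive := fun _ => List ℕ) (Bool.rec (motive := fun _ => List ℕ) (rw44) (rw45) (Nat.ble 45 i)) (Bool.rec (motive := fun _ => List ℕ) (rw46) (rw47) (Nat.ble 47 i)) (Nat.ble 46 i)) (Nat.ble 44 i)) (Nat.ble 40 i)) (Bool.rec (motive := fun _ => List ℕ) (Bool.rec (motive := fun _ => List ℕ) (Bool.rec (motive := fun _ => List ℕ) (Bool.rec (motive := fun _ => List ℕ) (rw48) (rw49) (Nat.ble 49 i)) (Bool.rec (motive := fun _ => List ℕ) (rw50) (rw51) (Nat.ble 51 i)) (Nat.ble 50 i)) (Bool.rec (motive := fun _ => List ℕ) (Bool.rec (motive := fun _ => List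 ℕ) (rw52) (rw53) (Nat.ble 53 i)) (Bool.rec (motive := fun _ => List ℕ) (rw54) (rw55) (Nat.ble 55 i)) (Nat.ble 54 i)) (Nat.ble 52 i)) (Bool.rec (motive := fun _ => List ℕ) (Bool.rec (motive := fun _ => List ℕ) (Bool.rec (motive := fun _ => List ℕ) (rw56) (rw57) (Nat.ble 57 i)) (Bool.rec (motive := fun _ => List ℕ) (rw58) (rw59) (Nat.ble 59 i)) (Nat.ble 58 i)) (Bool.rec (motive := fun _ => List ℕ) (Bool.rec (motive := fun _ => List ℕ) (rw60) (rw61) (Nat.ble 61 i)) (Bool.rec (motive := fun _ => List ℕ) (rw62) (rw63) (Nat.ble 63 i)) (Nat.ble 62 i)) (Nat.ble 60 i)) (Nat.ble 56 i)) (Nat.ble 48 i)) (Nat.ble 32 i)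
noncomputable def rwb1 (i : ℕ) : List ℕ := Bool.rec (motive := fun _ => List ℕ) (Bool.rec (motive := fun _ => List ℕ) (Bool.rec (motive := fun _ => List ℕ) (Bool.rec (motive := fun _ => List ℕ) (Bool.rec (motive := fun _ => List ℕ) (Bool.rec (motive := fun _ => List ℕ) (rw64) (rw65) (Nat.ble 65 i)) (Bool.rec (motive := fun _ => List ℕ) (rw66) (rw67) (Nat.ble 67 i)) (Nat.ble 66 i)) (Bool.rec (motive := fun _ => List ℕ) (Bool.rec (motive := fun _ => List ℕ) (rw68) (rw69) (Nat.ble 69 i)) (Bool.rec (motive := fun _ => List ℕ) (rw70) (rw71) (Nat.ble 71 i)) (Nat.ble 70 i)) (Nat.ble 68 i)) (Bool.rec (motive := fun _ => List ℕ) (Bool.rec (motive := fun _ => List ℕ) (Bool.rec (motive := fun _ => List ℕ) (rw72) (rw73) (Nat.ble 73 i)) (Bool.rec (motive := fun _ => List ℕ) (rw74) (rw75) (Nat.ble 75 i)) (Nat.ble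 74 i)) (Bool.rec (motive := fun _ => List ℕ) (Bool.rec (motive := fun _ => List ℕ) (rw76) (rw77) (Nat.ble 77 i)) (Bool.rec (motive := fun _ => List ℕ) (rw78) (rw79) (Nat.ble 79 i)) (Nat.ble 78 i)) (Nat.ble 76 i)) (Nat.ble 72 i)) (Bool.rec (motive := fun _ => List ℕ) (Bool.rec (motive := fun _ => List ℕ) (Bool.rec (motive := fun _ => List ℕ) (Bool.rec (motive := fun _ => List ℕ) (rw80) (rw81) (Nat.ble 81 i)) (Bool.rec (motive := fun _ => List ℕ) (rw82) (rw83) (Nat.ble 83 i)) (Nat.ble 82 i)) (Bool.rec (motive := fun _ => List ℕ) (Bool.rec (motive := fun _ => List ℕ) (rw84) (rw85) (Nat.ble 85 i)) (Bool.rec (motive := fun _ => List ℕ) (rw86) (rw87) (Nat.ble 87 i)) (Nat.ble 86 i)) (Nat.ble 84 i)) (Bool.rec (motive := fun _ => List ℕ) (Bool.rec (motive := fun _ => List ℕ) (Bool.rec (motive := fun _ => List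 ℕ) (rw88) (rw89) (Nat.ble 89 i)) (Bool.rec (motive := fun _ => List ℕ) (rw90) (rw91) (Nat.ble 91 i)) (Nat.ble 90 i)) (Bool.rec (motive := fun _ => List ℕ) (Bool.rec (motive := fun _ => List ℕ) (rw92) (rw93) (Nat.ble 93 i)) (Bool.rec (motive := fun _ => List ℕ) (rw94) (rw95) (Nat.ble 95 i)) (Nat.ble 94 i)) (Nat.ble 92 i)) (Nat.ble 88 i)) (Nat.ble 80 i)) (Bool.rec (motive := fun _ => List ℕ) (Bool.rec (motive := fun _ => List ℕ) (Bool.rec (motive := fun _ => List ℕ) (Bool.rec (motive := fun _ => List ℕ) (Bool.rec (motive := fun _ => List ℕ) (rw96) (rw97) (Nat.ble 97 i)) (Bool.rec (motive := fun _ => List ℕ) (rw98) (rw99) (Nat.ble 99 i)) (Nat.ble 98 i)) (Bool.rec (motive := fun _ => List ℕ) (Bool.rec (motive := fun _ => List ℕ) (rw100) (rw101) (Nat.ble 101 i)) (Bool.rec (motive := fun _ => List ℕ) (rw102)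 (rw103) (Nat.ble 103 i)) (Nat.ble 102 i)) (Nat.ble 100 i)) (Bool.rec (motive := fun _ => List ℕ) (Bool.rec (motive := fun _ => List ℕ) (Bool.rec (motive := fun _ => List ℕ) (rw104) (rw105) (Nat.ble 105 i)) (Bool.rec (motive := fun _ => List ℕ) (rw106) (rw107) (Nat.ble 107 i)) (Nat.ble 106 i)) (Bool.rec (motive := fun _ => List ℕ) (Bool.rec (motive := fun _ => List ℕ) (rw108) (rw109) (Nat.ble 109 i)) (Bool.rec (motive := fun _ => List ℕ) (rw110) (rw111) (Nat.ble 111 i)) (Nat.ble 110 i)) (Nat.ble 108 i)) (Nat.ble 104 i)) (Bool.rec (motive := fun _ => List ℕ) (Bool.rec (motive := fun _ => List ℕ) (Bool.rec (motive := fun _ => List ℕ) (Bool.rec (motive := fun _ => List ℕ) (rw112) (rw113) (Nat.ble 113 i)) (Bool.rec (motive := fun _ => List ℕ) (rw114) (rw115) (Nat.ble 115 i)) (Nat.ble 114 i)) (Bool.rec (motive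 := fun _ => List ℕ) (Bool.rec (motive := fun _ => List ℕ) (rw116) (rw117) (Nat.ble 117 i)) (Bool.rec (motive := fun _ => List ℕ) (rw118) (rw119) (Nat.ble 119 i)) (Nat.ble 118 i)) (Nat.ble 116 i)) (Bool.rec (motive := fun _ => List ℕ) (Bool.rec (motive := fun _ => List ℕ) (Bool.rec (motive := fun _ => List ℕ) (rw120) (rw121) (Nat.ble 121 i)) (Bool.rec (motive := fun _ => List ℕ) (rw122) (rw123) (Nat.ble 123 i)) (Nat.ble 122 i)) (Bool.rec (motive := fun _ => List ℕ) (Bool.rec (motive := fun _ => List ℕ) (rw124) (rw125) (Nat.ble 125 i)) (Bool.rec (motive := fun _ => List ℕ) (rw126) (rw127) (Nat.ble 127 i)) (Nat.ble 126 i)) (Nat.ble 124 i)) (Nat.ble 120 i)) (Nat.ble 112 i)) (Nat.ble 96 i)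
noncomputable def rwb2 (i : ℕ) : List ℕ := Bool.rec (motive := fun _ => List ℕ) (Bool.rec (motive := fun _ => List ℕ) (Bool.rec (motive := fun _ => List ℕ) (Bool.rec (motive := fun _ => List ℕ) (Bool.rec (motive := fun _ => List ℕ) (Bool.rec (motive := fun _ => List ℕ) (rw128) (rw129) (Nat.ble 129 i)) (Bool.rec (motive := fun _ => List ℕ) (rw130) (rw131) (Nat.ble 131 i)) (Nat.ble 130 i)) (Bool.rec (motive := fun _ => List ℕ) (Bool.rec (motive := fun _ => List ℕ) (rw132) (rw133) (Nat.ble 133 i)) (Bool.rec (motive := fun _ => List ℕ) (rw134) (rw135) (Nat.ble 135 i)) (Nat.ble 134 i)) (Nat.ble 132 i)) (Bool.rec (motive := fun _ => List ℕ) (Bool.rec (motive := fun _ => List ℕ) (Bool.rec (motive := fun _ => List ℕ) (rw136) (rw137) (Nat.ble 137 i)) (Bool.rec (motive := fun _ => List ℕ) (rw138) (rw139) (Nat.ble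 139 i)) (Nat.ble 138 i)) (Bool.rec (motive := fun _ => List ℕ) (Bool.rec (motive := fun _ => List ℕ) (rw140) (rw141) (Nat.ble 141 i)) (Bool.rec (motive := fun _ => List ℕ) (rw142) (rw143) (Nat.ble 143 i)) (Nat.ble 142 i)) (Nat.ble 140 i)) (Nat.ble 136 i)) (Bool.rec (motive := fun _ => List ℕ) (Bool.rec (motive := fun _ => List ℕ) (Bool.rec (motive := fun _ => List ℕ) (Bool.rec (motive := fun _ => List ℕ) (rw144) (rw145) (Nat.ble 145 i)) (Bool.rec (motive := fun _ => List ℕ) (rw146) (rw147) (Nat.ble 147 i)) (Nat.ble 146 i)) (Bool.rec (motive := fun _ => List ℕ) (Bool.rec (motive := fun _ => List ℕ) (rw148) (rw149) (Nat.ble 149 i)) (Bool.rec (motive := fun _ => List ℕ) (rw150) (rw151) (Nat.ble 151 i)) (Nat.ble 150 i)) (Nat.ble 148 i)) (Bool.rec (motive := fun _ => List ℕ) (Bool.rec (motive := fun _ =>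 List ℕ) (Bool.rec (motive := fun _ => List ℕ) (rw152) (rw153) (Nat.ble 153 i)) (Bool.rec (motive := fun _ => List ℕ) (rw154) (rw155) (Nat.ble 155 i)) (Nat.ble 154 i)) (Bool.rec (motive := fun _ => List ℕ) (Bool.rec (motive := fun _ => List ℕ) (rw156) (rw157) (Nat.ble 157 i)) (Bool.rec (motive := fun _ => List ℕ) (rw158) (rw159) (Nat.ble 159 i)) (Nat.ble 158 i)) (Nat.ble 156 i)) (Nat.ble 152 i)) (Nat.ble 144 i)) (Bool.rec (motive := fun _ => List ℕ) (Bool.rec (motive := fun _ => List ℕ) (Bool.rec (motive := fun _ => List ℕ) (Bool.rec (motive := fun _ => List ℕ) (Bool.rec (motive := fun _ => List ℕ) (rw160) (rw161) (Nat.ble 161 i)) (Bool.rec (motive := fun _ => List ℕ) (rw162) (rw163) (Nat.ble 163 i)) (Nat.ble 162 i)) (Bool.rec (motive := fun _ => List ℕ) (Bool.rec (motive := fun _ => List ℕ) (rw164) (rw165)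 (Nat.ble 165 i)) (Bool.rec (motive := fun _ => List ℕ) (rw166) (rw167) (Nat.ble 167 i)) (Nat.ble 166 i)) (Nat.ble 164 i)) (Bool.rec (motive := fun _ => List ℕ) (Bool.rec (motive := fun _ => List ℕ) (Bool.rec (motive := fun _ => List ℕ) (rw168) (rw169) (Nat.ble 169 i)) (Bool.rec (motive := fun _ => List ℕ) (rw170) (rw171) (Nat.ble 171 i)) (Nat.ble 170 i)) (Bool.rec (motive := fun _ => List ℕ) (Bool.rec (motive := fun _ => List ℕ) (rw172) (rw173) (Nat.ble 173 i)) (Bool.rec (motive := fun _ => List ℕ) (rw174) (rw175) (Nat.ble 175 i)) (Nat.ble 174 i)) (Nat.ble 172 i)) (Nat.ble 168 i)) (Bool.rec (motive := fun _ => List ℕ) (Bool.rec (motive := fun _ => List ℕ) (Bool.rec (motive := fun _ => List ℕ) (Bool.rec (motive := fun _ => List ℕ) (rw176) (rw177) (Nat.ble 177 i)) (Bool.rec (motive := fun _ => List ℕ)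 (rw178) (rw179) (Nat.ble 179 i)) (Nat.ble 178 i)) (Bool.rec (motive := fun _ => List ℕ) (Bool.rec (motive := fun _ => List ℕ) (rw180) (rw181) (Nat.ble 181 i)) (Bool.rec (motive := fun _ => List ℕ) (rw182) (rw183) (Nat.ble 183 i)) (Nat.ble 182 i)) (Nat.ble 180 i)) (Bool.rec (motive := fun _ => List ℕ) (Bool.rec (motive := fun _ => List ℕ) (Bool.rec (motive := fun _ => List ℕ) (rw184) (rw185) (Nat.ble 185 i)) (Bool.rec (motive := fun _ => List ℕ) (rw186) (rw187) (Nat.ble 187 i)) (Nat.ble 186 i)) (Bool.rec (motive := fun _ => List ℕ) (Bool.rec (motive := fun _ => List ℕ) (rw188) (rw189) (Nat.ble 189 i)) (Bool.rec (motive := fun _ => List ℕ) (rw190) (rw191) (Nat.ble 191 i)) (Nat.ble 190 i)) (Nat.ble 188 i)) (Nat.ble 184 i)) (Nat.ble 176 i)) (Nat.ble 160 i)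
noncomputable def rwb3 (i : ℕ) : List ℕ := Bool.rec (motive := fun _ => List ℕ) (Bool.rec (motive := fun _ => List ℕ) (Bool.rec (motive := fun _ => List ℕ) (Bool.rec (motive := fun _ => List ℕ) (Bool.rec (motive := fun _ => List ℕ) (Bool.rec (motive := fun _ => List ℕ) (rw192) (rw193) (Nat.ble 193 i)) (Bool.rec (motive := fun _ => List ℕ) (rw194) (rw195) (Nat.ble 195 i)) (Nat.ble 194 i)) (Bool.rec (motive := fun _ => List ℕ) (Bool.rec (motive := fun _ => List ℕ) (rw196) (rw197) (Nat.ble 197 i)) (Bool.rec (motive := fun _ => List ℕ) (rw198) (rw199) (Nat.ble 199 i)) (Nat.ble 198 i)) (Nat.ble 196 i)) (Bool.rec (motive := fun _ => List ℕ) (Bool.rec (motive := fun _ => List ℕ) (Bool.rec (motive := fun _ => List ℕ) (rw200) (rw201) (Nat.ble 201 i)) (Bool.rec (motive := fun _ => List ℕ) (rw202) (rw203) (Nat.ble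 203 i)) (Nat.ble 202 i)) (Bool.rec (motive := fun _ => List ℕ) (Bool.rec (motive := fun _ => List ℕ) (rw204) (rw205) (Nat.ble 205 i)) (Bool.rec (motive := fun _ => List ℕ) (rw206) (rw207) (Nat.ble 207 i)) (Nat.ble 206 i)) (Nat.ble 204 i)) (Nat.ble 200 i)) (Bool.rec (motive := fun _ => List ℕ) (Bool.rec (motive := fun _ => List ℕ) (Bool.rec (motive := fun _ => List ℕ) (Bool.rec (motive := fun _ => List ℕ) (rw208) (rw209) (Nat.ble 209 i)) (Bool.rec (motive := fun _ => List ℕ) (rw210) (rw211) (Nat.ble 211 i)) (Nat.ble 210 i)) (Bool.rec (motive := fun _ => List ℕ) (Bool.rec (motive := fun _ => List ℕ) (rw212) (rw213) (Nat.ble 213 i)) (Bool.rec (motive := fun _ => List ℕ) (rw214) (rw215) (Nat.ble 215 i)) (Nat.ble 214 i)) (Nat.ble 212 i)) (Bool.rec (motive := fun _ => List ℕ) (Bool.rec (motive := fun _ =>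 List ℕ) (Bool.rec (motive := fun _ => List ℕ) (rw216) (rw217) (Nat.ble 217 i)) (Bool.rec (motive := fun _ => List ℕ) (rw218) (rw219) (Nat.ble 219 i)) (Nat.ble 218 i)) (Bool.rec (motive := fun _ => List ℕ) (Bool.rec (motive := fun _ => List ℕ) (rw220) (rw221) (Nat.ble 221 i)) (Bool.rec (motive := fun _ => List ℕ) (rw222) (rw223) (Nat.ble 223 i)) (Nat.ble 222 i)) (Nat.ble 220 i)) (Nat.ble 216 i)) (Nat.ble 208 i)) (Bool.rec (motive := fun _ => List ℕ) (Bool.rec (motive := fun _ => List ℕ) (Bool.rec (motive := fun _ => List ℕ) (Bool.rec (motive := fun _ => List ℕ) (Bool.rec (motive := fun _ => List ℕ) (rw224) (rw225) (Nat.ble 225 i)) (Bool.rec (motive := fun _ => List ℕ) (rw226) (rw227) (Nat.ble 227 i)) (Nat.ble 226 i)) (Bool.rec (motive := fun _ => List ℕ) (Bool.rec (motive := fun _ => List ℕ) (rw228) (rw229)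 (Nat.ble 229 i)) (Bool.rec (motive := fun _ => List ℕ) (rw230) (rw231) (Nat.ble 231 i)) (Nat.ble 230 i)) (Nat.ble 228 i)) (Bool.rec (motive := fun _ => List ℕ) (Bool.rec (motive := fun _ => List ℕ) (Bool.rec (motive := fun _ => List ℕ) (rw232) (rw233) (Nat.ble 233 i)) (Bool.rec (motive := fun _ => List ℕ) (rw234) (rw235) (Nat.ble 235 i)) (Nat.ble 234 i)) (Bool.rec (motive := fun _ => List ℕ) (Bool.rec (motive := fun _ => List ℕ) (rw236) (rw237) (Nat.ble 237 i)) (Bool.rec (motive := fun _ => List ℕ) (rw238) (rw239) (Nat.ble 239 i)) (Nat.ble 238 i)) (Nat.ble 236 i)) (Nat.ble 232 i)) (Bool.rec (motive := fun _ => List ℕ) (Bool.rec (motive := fun _ => List ℕ) (Bool.rec (motive := fun _ => List ℕ) (Bool.rec (motive := fun _ => List ℕ) (rw240) (rw241) (Nat.ble 241 i)) (Bool.rec (motive := fun _ => List ℕ)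 (rw242) (rw243) (Nat.ble 243 i)) (Nat.ble 242 i)) (Bool.rec (motive := fun _ => List ℕ) (Bool.rec (motive := fun _ => List ℕ) (rw244) (rw245) (Nat.ble 245 i)) (Bool.rec (motive := fun _ => List ℕ) (rw246) (rw247) (Nat.ble 247 i)) (Nat.ble 246 i)) (Nat.ble 244 i)) (Bool.rec (motive := fun _ => List ℕ) (Bool.rec (motive := fun _ => List ℕ) (Bool.rec (motive := fun _ => List ℕ) (rw248) (rw249) (Nat.ble 249 i)) (Bool.rec (motive := fun _ => List ℕ) (rw250) (rw251) (Nat.ble 251 i)) (Nat.ble 250 i)) (Bool.rec (motive := fun _ => List ℕ) (Bool.rec (motive := fun _ => List ℕ) (rw252) (rw253) (Nat.ble 253 i)) (Bool.rec (motive := fun _ => List ℕ) (rw254) (rw255) (Nat.ble 255 i)) (Nat.ble 254 i)) (Nat.ble 252 i)) (Nat.ble 248 i)) (Nat.ble 240 i)) (Nat.ble 224 i)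
noncomputable def rwb4 (i : ℕ) : List ℕ := Bool.rec (motive := fun _ => List ℕ) (Bool.rec (motive := fun _ => List ℕ) (Bool.rec (motive := fun _ => List ℕ) (Bool.rec (motive := fun _ => List ℕ) (Bool.rec (motive := fun _ => List ℕ) (Bool.rec (motive := fun _ => List ℕ) (rw256) (rw257) (Nat.ble 257 i)) (Bool.rec (motive := fun _ => List ℕ) (rw258) (rw259) (Nat.ble 259 i)) (Nat.ble 258 i)) (Bool.rec (motive := fun _ => List ℕ) (Bool.rec (motive := fun _ => List ℕ) (rw260) (rw261) (Nat.ble 261 i)) (Bool.rec (motive := fun _ => List ℕ) (rw262) (rw263) (Nat.ble 263 i)) (Nat.ble 262 i)) (Nat.ble 260 i)) (Bool.rec (motive := fun _ => List ℕ) (Bool.rec (motive := fun _ => List ℕ) (Bool.rec (motive := fun _ => List ℕ) (rw264) (rw265) (Nat.ble 265 i)) (Bool.rec (motive := fun _ => List ℕ) (rw266) (rw267) (Nat.ble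 267 i)) (Nat.ble 266 i)) (Bool.rec (motive := fun _ => List ℕ) (Bool.rec (motive := fun _ => List ℕ) (rw268) (rw269) (Nat.ble 269 i)) (Bool.rec (motive := fun _ => List ℕ) (rw270) (rw271) (Nat.ble 271 i)) (Nat.ble 270 i)) (Nat.ble 268 i)) (Nat.ble 264 i)) (Bool.rec (motive := fun _ => List ℕ) (Bool.rec (motive := fun _ => List ℕ) (Bool.rec (motive := fun _ => List ℕ) (Bool.rec (motive := fun _ => List ℕ) (rw272) (rw273) (Nat.ble 273 i)) (Bool.rec (motive := fun _ => List ℕ) (rw274) (rw275) (Nat.ble 275 i)) (Nat.ble 274 i)) (Bool.rec (motive := fun _ => List ℕ) (Bool.rec (motive := fun _ => List ℕ) (rw276) (rw277) (Nat.ble 277 i)) (Bool.rec (motive := fun _ => List ℕ) (rw278) (rw279) (Nat.ble 279 i)) (Nat.ble 278 i)) (Nat.ble 276 i)) (Bool.rec (motive := fun _ => List ℕ) (Bool.rec (motive := fun _ =>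 List ℕ) (Bool.rec (motive := fun _ => List ℕ) (rw280) (rw281) (Nat.ble 281 i)) (Bool.rec (motive := fun _ => List ℕ) (rw282) (rw283) (Nat.ble 283 i)) (Nat.ble 282 i)) (Bool.rec (motive := fun _ => List ℕ) (Bool.rec (motive := fun _ => List ℕ) (rw284) (rw285) (Nat.ble 285 i)) (Bool.rec (motive := fun _ => List ℕ) (rw286) (rw287) (Nat.ble 287 i)) (Nat.ble 286 i)) (Nat.ble 284 i)) (Nat.ble 280 i)) (Nat.ble 272 i)) (Bool.rec (motive := fun _ => List ℕ) (Bool.rec (motive := fun _ => List ℕ) (Bool.rec (motive := fun _ => List ℕ) (Bool.rec (motive := fun _ => List ℕ) (Bool.rec (motive := fun _ => List ℕ) (rw288) (rw289) (Nat.ble 289 i)) (Bool.rec (motive := fun _ => List ℕ) (rw290) (rw291) (Nat.ble 291 i)) (Nat.ble 290 i)) (Bool.rec (motive := fun _ => List ℕ) (Bool.rec (motive := fun _ => List ℕ) (rw292) (rw293)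 (Nat.ble 293 i)) (Bool.rec (motive := fun _ => List ℕ) (rw294) (rw295) (Nat.ble 295 i)) (Nat.ble 294 i)) (Nat.ble 292 i)) (Bool.rec (motive := fun _ => List ℕ) (Bool.rec (motive := fun _ => List ℕ) (Bool.rec (motive := fun _ => List ℕ) (rw296) (rw297) (Nat.ble 297 i)) (Bool.rec (motive := fun _ => List ℕ) (rw298) (rw299) (Nat.ble 299 i)) (Nat.ble 298 i)) (Bool.rec (motive := fun _ => List ℕ) (Bool.rec (motive := fun _ => List ℕ) (rw300) (rw301) (Nat.ble 301 i)) (Bool.rec (motive := fun _ => List ℕ) (rw302) (rw303) (Nat.ble 303 i)) (Nat.ble 302 i)) (Nat.ble 300 i)) (Nat.ble 296 i)) (Bool.rec (motive := fun _ => List ℕ) (Bool.rec (motive := fun _ => List ℕ) (Bool.rec (motive := fun _ => List ℕ) (Bool.rec (motive := fun _ => List ℕ) (rw304) (rw305) (Nat.ble 305 i)) (Bool.rec (motive := fun _ => List ℕ)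 (rw306) (rw307) (Nat.ble 307 i)) (Nat.ble 306 i)) (Bool.rec (motive := fun _ => List ℕ) (Bool.rec (motive := fun _ => List ℕ) (rw308) (rw309) (Nat.ble 309 i)) (Bool.rec (motive := fun _ => List ℕ) (rw310) (rw311) (Nat.ble 311 i)) (Nat.ble 310 i)) (Nat.ble 308 i)) (Bool.rec (motive := fun _ => List ℕ) (Bool.rec (motive := fun _ => List ℕ) (Bool.rec (motive := fun _ => List ℕ) (rw312) (rw313) (Nat.ble 313 i)) (Bool.rec (motive := fun _ => List ℕ) (rw314) (rw315) (Nat.ble 315 i)) (Nat.ble 314 i)) (Bool.rec (motive := fun _ => List ℕ) (Bool.rec (motive := fun _ => List ℕ) (rw316) (rw317) (Nat.ble 317 i)) (Bool.rec (motive := fun _ => List ℕ) (rw318) (rw319) (Nat.ble 319 i)) (Nat.ble 318 i)) (Nat.ble 316 i)) (Nat.ble 312 i)) (Nat.ble 304 i)) (Nat.ble 288 i)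
noncomputable def rwb5 (i : ℕ) : List ℕ := Bool.rec (motive := fun _ => List ℕ) (Bool.rec (motive := fun _ => List ℕ) (Bool.rec (motive := fun _ => List ℕ) (Bool.rec (motive := fun _ => List ℕ) (Bool.rec (motive := fun _ => List ℕ) (Bool.rec (motive := fun _ => List ℕ) (rw320) (rw321) (Nat.ble 321 i)) (Bool.rec (motive := fun _ => List ℕ) (rw322) (rw323) (Nat.ble 323 i)) (Nat.ble 322 i)) (Bool.rec (motive := fun _ => List ℕ) (Bool.rec (motive := fun _ => List ℕ) (rw324) (rw325) (Nat.ble 325 i)) (Bool.rec (motive := fun _ => List ℕ) (rw326) (rw327) (Nat.ble 327 i)) (Nat.ble 326 i)) (Nat.ble 324 i)) (Bool.rec (motive := fun _ => List ℕ) (Bool.rec (motive := fun _ => List ℕ) (Bool.rec (motive := fun _ => List ℕ) (rw328) (rw329) (Nat.ble 329 i)) (Bool.rec (motive := fun _ => List ℕ) (rw330) (rw331) (Nat.ble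 331 i)) (Nat.ble 330 i)) (Bool.rec (motive := fun _ => List ℕ) (Bool.rec (motive := fun _ => List ℕ) (rw332) (rw333) (Nat.ble 333 i)) (Bool.rec (motive := fun _ => List ℕ) (rw334) (rw335) (Nat.ble 335 i)) (Nat.ble 334 i)) (Nat.ble 332 i)) (Nat.ble 328 i)) (Bool.rec (motive := fun _ => List ℕ) (Bool.rec (motive := fun _ => List ℕ) (Bool.rec (motive := fun _ => List ℕ) (Bool.rec (motive := fun _ => List ℕ) (rw336) (rw337) (Nat.ble 337 i)) (Bool.rec (motive := fun _ => List ℕ) (rw338) (rw339) (Nat.ble 339 i)) (Nat.ble 338 i)) (Bool.rec (motive := fun _ => List ℕ) (Bool.rec (motive := fun _ => List ℕ) (rw340) (rw341) (Nat.ble 341 i)) (Bool.rec (motive := fun _ => List ℕ) (rw342) (rw343) (Nat.ble 343 i)) (Nat.ble 342 i)) (Nat.ble 340 i)) (Bool.rec (motive := fun _ => List ℕ) (Bool.rec (motive := fun _ =>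 List ℕ) (Bool.rec (motive := fun _ => List ℕ) (rw344) (rw345) (Nat.ble 345 i)) (Bool.rec (motive := fun _ => List ℕ) (rw346) (rw347) (Nat.ble 347 i)) (Nat.ble 346 i)) (Bool.rec (motive := fun _ => List ℕ) (Bool.rec (motive := fun _ => List ℕ) (rw348) (rw349) (Nat.ble 349 i)) (Bool.rec (motive := fun _ => List ℕ) (rw350) (rw351) (Nat.ble 351 i)) (Nat.ble 350 i)) (Nat.ble 348 i)) (Nat.ble 344 i)) (Nat.ble 336 i)) (Bool.rec (motive := fun _ => List ℕ) (Bool.rec (motive := fun _ => List ℕ) (Bool.rec (motive := fun _ => List ℕ) (Bool.rec (motive := fun _ => List ℕ) (Bool.rec (motive := fun _ => List ℕ) (rw352) (rw353) (Nat.ble 353 i)) (Bool.rec (motive := fun _ => List ℕ) (rw354) (rw355) (Nat.ble 355 i)) (Nat.ble 354 i)) (Bool.rec (motive := fun _ => List ℕ) (Bool.rec (motive := fun _ => List ℕ) (rw356) (rw357)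 (Nat.ble 357 i)) (Bool.rec (motive := fun _ => List ℕ) (rw358) (rw359) (Nat.ble 359 i)) (Nat.ble 358 i)) (Nat.ble 356 i)) (Bool.rec (motive := fun _ => List ℕ) (Bool.rec (motive := fun _ => List ℕ) (Bool.rec (motive := fun _ => List ℕ) (rw360) (rw361) (Nat.ble 361 i)) (Bool.rec (motive := fun _ => List ℕ) (rw362) (rw363) (Nat.ble 363 i)) (Nat.ble 362 i)) (Bool.rec (motive := fun _ => List ℕ) (Bool.rec (motive := fun _ => List ℕ) (rw364) (rw365) (Nat.ble 365 i)) (Bool.rec (motive := fun _ => List ℕ) (rw366) (rw367) (Nat.ble 367 i)) (Nat.ble 366 i)) (Nat.ble 364 i)) (Nat.ble 360 i)) (Bool.rec (motive := fun _ => List ℕ) (Bool.rec (motive := fun _ => List ℕ) (Bool.rec (motive := fun _ => List ℕ) (Bool.rec (motive := fun _ => List ℕ) (rw368) (rw369) (Nat.ble 369 i)) (Bool.rec (motive := fun _ => List ℕ)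 (rw370) (rw371) (Nat.ble 371 i)) (Nat.ble 370 i)) (Bool.rec (motive := fun _ => List ℕ) (Bool.rec (motive := fun _ => List ℕ) (rw372) (rw373) (Nat.ble 373 i)) (Bool.rec (motive := fun _ => List ℕ) (rw374) (rw375) (Nat.ble 375 i)) (Nat.ble 374 i)) (Nat.ble 372 i)) (Bool.rec (motive := fun _ => List ℕ) (Bool.rec (motive := fun _ => List ℕ) (Bool.rec (motive := fun _ => List ℕ) (rw376) (rw377) (Nat.ble 377 i)) (Bool.rec (motive := fun _ => List ℕ) (rw378) (rw379) (Nat.ble 379 i)) (Nat.ble 378 i)) (Bool.rec (motive := fun _ => List ℕ) (Bool.rec (motive := fun _ => List ℕ) (rw380) (rw381) (Nat.ble 381 i)) (Bool.rec (motive := fun _ => List ℕ) (rw382) (rw383) (Nat.ble 383 i)) (Nat.ble 382 i)) (Nat.ble 380 i)) (Nat.ble 376 i)) (Nat.ble 368 i)) (Nat.ble 352 i)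
noncomputable def rwb6 (i : ℕ) : List ℕ := Bool.rec (motive := fun _ => List ℕ) (Bool.rec (motive := fun _ => List ℕ) (Bool.rec (motive := fun _ => List ℕ) (Bool.rec (motive := fun _ => List ℕ) (Bool.rec (motive := fun _ => List ℕ) (Bool.rec (motive := fun _ => List ℕ) (rw384) (rw385) (Nat.ble 385 i)) (Bool.rec (motive := fun _ => List ℕ) (rw386) (rw387) (Nat.ble 387 i)) (Nat.ble 386 i)) (Bool.rec (motive := fun _ => List ℕ) (Bool.rec (motive := fun _ => List ℕ) (rw388) (rw389) (Nat.ble 389 i)) (Bool.rec (motive := fun _ => List ℕ) (rw390) (rw391) (Nat.ble 391 i)) (Nat.ble 390 i)) (Nat.ble 388 i)) (Bool.rec (motive := fun _ => List ℕ) (Bool.rec (motive := fun _ => List ℕ) (Bool.rec (motive := fun _ => List ℕ) (rw392) (rw393) (Nat.ble 393 i)) (Bool.rec (motive := fun _ => List ℕ) (rw394) (rw395) (Nat.ble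 395 i)) (Nat.ble 394 i)) (Bool.rec (motive := fun _ => List ℕ) (Bool.rec (motive := fun _ => List ℕ) (rw396) (rw397) (Nat.ble 397 i)) (Bool.rec (motive := fun _ => List ℕ) (rw398) (rw399) (Nat.ble 399 i)) (Nat.ble 398 i)) (Nat.ble 396 i)) (Nat.ble 392 i)) (Bool.rec (motive := fun _ => List ℕ) (Bool.rec (motive := fun _ => List ℕ) (Bool.rec (motive := fun _ => List ℕ) (Bool.rec (motive := fun _ => List ℕ) (rw400) (rw401) (Nat.ble 401 i)) (Bool.rec (motive := fun _ => List ℕ) (rw402) (rw403) (Nat.ble 403 i)) (Nat.ble 402 i)) (Bool.rec (motive := fun _ => List ℕ) (Bool.rec (motive := fun _ => List ℕ) (rw404) (rw405) (Nat.ble 405 i)) (Bool.rec (motive := fun _ => List ℕ) (rw406) (rw407) (Nat.ble 407 i)) (Nat.ble 406 i)) (Nat.ble 404 i)) (Bool.rec (motive := fun _ => List ℕ) (Bool.rec (motive := fun _ =>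 List ℕ) (Bool.rec (motive := fun _ => List ℕ) (rw408) (rw409) (Nat.ble 409 i)) (Bool.rec (motive := fun _ => List ℕ) (rw410) (rw411) (Nat.ble 411 i)) (Nat.ble 410 i)) (Bool.rec (motive := fun _ => List ℕ) (Bool.rec (motive := fun _ => List ℕ) (rw412) (rw413) (Nat.ble 413 i)) (Bool.rec (motive := fun _ => List ℕ) (rw414) (rw415) (Nat.ble 415 i)) (Nat.ble 414 i)) (Nat.ble 412 i)) (Nat.ble 408 i)) (Nat.ble 400 i)) (Bool.rec (motive := fun _ => List ℕ) (Bool.rec (motive := fun _ => List ℕ) (Bool.rec (motive := fun _ => List ℕ) (Bool.rec (motive := fun _ => List ℕ) (Bool.rec (motive := fun _ => List ℕ) (rw416) (rw417) (Nat.ble 417 i)) (Bool.rec (motive := fun _ => List ℕ) (rw418) (rw419) (Nat.ble 419 i)) (Nat.ble 418 i)) (Bool.rec (motive := fun _ => List ℕ) (Bool.rec (motive := fun _ => List ℕ) (rw420) (rw421)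 (Nat.ble 421 i)) (Bool.rec (motive := fun _ => List ℕ) (rw422) (rw423) (Nat.ble 423 i)) (Nat.ble 422 i)) (Nat.ble 420 i)) (Bool.rec (motive := fun _ => List ℕ) (Bool.rec (motive := fun _ => List ℕ) (Bool.rec (motive := fun _ => List ℕ) (rw424) (rw425) (Nat.ble 425 i)) (Bool.rec (motive := fun _ => List ℕ) (rw426) (rw427) (Nat.ble 427 i)) (Nat.ble 426 i)) (Bool.rec (motive := fun _ => List ℕ) (Bool.rec (motive := fun _ => List ℕ) (rw428) (rw429) (Nat.ble 429 i)) (Bool.rec (motive := fun _ => List ℕ) (rw430) (rw431) (Nat.ble 431 i)) (Nat.ble 430 i)) (Nat.ble 428 i)) (Nat.ble 424 i)) (Bool.rec (motive := fun _ => List ℕ) (Bool.rec (motive := fun _ => List ℕ) (Bool.rec (motive := fun _ => List ℕ) (Bool.rec (motive := fun _ => List ℕ) (rw432) (rw433) (Nat.ble 433 i)) (Bool.rec (motive := fun _ => List ℕ)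 (rw434) (rw435) (Nat.ble 435 i)) (Nat.ble 434 i)) (Bool.rec (motive := fun _ => List ℕ) (Bool.rec (motive := fun _ => List ℕ) (rw436) (rw437) (Nat.ble 437 i)) (Bool.rec (motive := fun _ => List ℕ) (rw438) (rw439) (Nat.ble 439 i)) (Nat.ble 438 i)) (Nat.ble 436 i)) (Bool.rec (motive := fun _ => List ℕ) (Bool.rec (motive := fun _ => List ℕ) (Bool.rec (motive := fun _ => List ℕ) (rw440) (rw441) (Nat.ble 441 i)) (Bool.rec (motive := fun _ => List ℕ) (rw442) (rw443) (Nat.ble 443 i)) (Nat.ble 442 i)) (Bool.rec (motive := fun _ => List ℕ) (Bool.rec (motive := fun _ => List ℕ) (rw444) (rw445) (Nat.ble 445 i)) (Bool.rec (motive := fun _ => List ℕ) (rw446) (rw447) (Nat.ble 447 i)) (Nat.ble 446 i)) (Nat.ble 444 i)) (Nat.ble 440 i)) (Nat.ble 432 i)) (Nat.ble 416 i)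
noncomputable def rwb7 (i : ℕ) : List ℕ := Bool.rec (motive := fun _ => List ℕ) (Bool.rec (motive := fun _ => List ℕ) (Bool.rec (motive := fun _ => List ℕ) (Bool.rec (motive := fun _ => List ℕ) (Bool.rec (motive := fun _ => List ℕ) (Bool.rec (motive := fun _ => List ℕ) (rw448) (rw449) (Nat.ble 449 i)) (Bool.rec (motive := fun _ => List ℕ) (rw450) (rw451) (Nat.ble 451 i)) (Nat.ble 450 i)) (Bool.rec (motive := fun _ => List ℕ) (Bool.rec (motive := fun _ => List ℕ) (rw452) (rw453) (Nat.ble 453 i)) (Bool.rec (motive := fun _ => List ℕ) (rw454) (rw455) (Nat.ble 455 i)) (Nat.ble 454 i)) (Nat.ble 452 i)) (Bool.rec (motive := fun _ => List ℕ) (Bool.rec (motive := fun _ => List ℕ) (Bool.rec (motive := fun _ => List ℕ) (rw456) (rw457) (Nat.ble 457 i)) (Bool.rec (motive := fun _ => List ℕ) (rw458) (rw459) (Nat.ble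 459 i)) (Nat.ble 458 i)) (Bool.rec (motive := fun _ => List ℕ) (Bool.rec (motive := fun _ => List ℕ) (rw460) (rw461) (Nat.ble 461 i)) (Bool.rec (motive := fun _ => List ℕ) (rw462) (rw463) (Nat.ble 463 i)) (Nat.ble 462 i)) (Nat.ble 460 i)) (Nat.ble 456 i)) (Bool.rec (motive := fun _ => List ℕ) (Bool.rec (motive := fun _ => List ℕ) (Bool.rec (motive := fun _ => List ℕ) (Bool.rec (motive := fun _ => List ℕ) (rw464) (rw465) (Nat.ble 465 i)) (Bool.rec (motive := fun _ => List ℕ) (rw466) (rw467) (Nat.ble 467 i)) (Nat.ble 466 i)) (Bool.rec (motive := fun _ => List ℕ) (Bool.rec (motive := fun _ => List ℕ) (rw468) (rw469) (Nat.ble 469 i)) (Bool.rec (motive := fun _ => List ℕ) (rw470) (rw471) (Nat.ble 471 i)) (Nat.ble 470 i)) (Nat.ble 468 i)) (Bool.rec (motive := fun _ => List ℕ) (Bool.rec (motive := fun _ =>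 List ℕ) (Bool.rec (motive := fun _ => List ℕ) (rw472) (rw473) (Nat.ble 473 i)) (Bool.rec (motive := fun _ => List ℕ) (rw474) (rw475) (Nat.ble 475 i)) (Nat.ble 474 i)) (Bool.rec (motive := fun _ => List ℕ) (Bool.rec (motive := fun _ => List ℕ) (rw476) (rw477) (Nat.ble 477 i)) (Bool.rec (motive := fun _ => List ℕ) (rw478) (rw479) (Nat.ble 479 i)) (Nat.ble 478 i)) (Nat.ble 476 i)) (Nat.ble 472 i)) (Nat.ble 464 i)) (Bool.rec (motive := fun _ => List ℕ) (Bool.rec (motive := fun _ => List ℕ) (Bool.rec (motive := fun _ => List ℕ) (Bool.rec (motive := fun _ => List ℕ) (Bool.rec (motive := fun _ => List ℕ) (rw480) (rw481) (Nat.ble 481 i)) (Bool.rec (motive := fun _ => List ℕ) (rw482) (rw483) (Nat.ble 483 i)) (Nat.ble 482 i)) (Bool.rec (motive := fun _ => List ℕ) (Bool.rec (motive := fun _ => List ℕ) (rw484) (rw485)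 (Nat.ble 485 i)) (Bool.rec (motive := fun _ => List ℕ) (rw486) (rw487) (Nat.ble 487 i)) (Nat.ble 486 i)) (Nat.ble 484 i)) (Bool.rec (motive := fun _ => List ℕ) (Bool.rec (motive := fun _ => List ℕ) (Bool.rec (motive := fun _ => List ℕ) (rw488) (rw489) (Nat.ble 489 i)) (Bool.rec (motive := fun _ => List ℕ) (rw490) (rw491) (Nat.ble 491 i)) (Nat.ble 490 i)) (Bool.rec (motive := fun _ => List ℕ) (Bool.rec (motive := fun _ => List ℕ) (rw492) (rw493) (Nat.ble 493 i)) (Bool.rec (motive := fun _ => List ℕ) (rw494) (rw495) (Nat.ble 495 i)) (Nat.ble 494 i)) (Nat.ble 492 i)) (Nat.ble 488 i)) (Bool.rec (motive := fun _ => List ℕ) (Bool.rec (motive := fun _ => List ℕ) (Bool.rec (motive := fun _ => List ℕ) (Bool.rec (motive := fun _ => List ℕ) (rw496) (rw497) (Nat.ble 497 i)) (Bool.rec (motive := fun _ => List ℕ)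 (rw498) (rw499) (Nat.ble 499 i)) (Nat.ble 498 i)) (Bool.rec (motive := fun _ => List ℕ) (Bool.rec (motive := fun _ => List ℕ) (rw500) (rw501) (Nat.ble 501 i)) (Bool.rec (motive := fun _ => List ℕ) (rw502) (rw503) (Nat.ble 503 i)) (Nat.ble 502 i)) (Nat.ble 500 i)) (Bool.rec (motive := fun _ => List ℕ) (Bool.rec (motive := fun _ => List ℕ) (Bool.rec (motive := fun _ => List ℕ) (rw504) (rw505) (Nat.ble 505 i)) (Bool.rec (motive := fun _ => List ℕ) (rw506) (rw507) (Nat.ble 507 i)) (Nat.ble 506 i)) (Bool.rec (motive := fun _ => List ℕ) (Bool.rec (motive := fun _ => List ℕ) (rw508) (rw509) (Nat.ble 509 i)) (Bool.rec (motive := fun _ => List ℕ) (rw510) (rw511) (Nat.ble 511 i)) (Nat.ble 510 i)) (Nat.ble 508 i)) (Nat.ble 504 i)) (Nat.ble 496 i)) (Nat.ble 480 i)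
noncomputable def rwb8 (i : ℕ) : List ℕ := Bool.rec (motive := fun _ => List ℕ) (Bool.rec (motive := fun _ => List ℕ) (Bool.rec (motive := fun _ => List ℕ) (Bool.rec (motive := fun _ => List ℕ) (Bool.rec (motive := fun _ => List ℕ) (Bool.rec (motive := fun _ => List ℕ) (rw512) (rw513) (Nat.ble 513 i)) (Bool.rec (motive := fun _ => List ℕ) (rw514) (rw515) (Nat.ble 515 i)) (Nat.ble 514 i)) (Bool.rec (motive := fun _ => List ℕ) (Bool.rec (motive := fun _ => List ℕ) (rw516) (rw517) (Nat.ble 517 i)) (Bool.rec (motive := fun _ => List ℕ) (rw518) (rw519) (Nat.ble 519 i)) (Nat.ble 518 i)) (Nat.ble 516 i)) (Bool.rec (motive := fun _ => List ℕ) (Bool.rec (motive := fun _ => List ℕ) (Bool.rec (motive := fun _ => List ℕ) (rw520) (rw521) (Nat.ble 521 i)) (Bool.rec (motive := fun _ => List ℕ) (rw522) (rw523) (Nat.ble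 523 i)) (Nat.ble 522 i)) (Bool.rec (motive := fun _ => List ℕ) (Bool.rec (motive := fun _ => List ℕ) (rw524) (rw525) (Nat.ble 525 i)) (Bool.rec (motive := fun _ => List ℕ) (rw526) (rw527) (Nat.ble 527 i)) (Nat.ble 526 i)) (Nat.ble 524 i)) (Nat.ble 520 i)) (Bool.rec (motive := fun _ => List ℕ) (Bool.rec (motive := fun _ => List ℕ) (Bool.rec (motive := fun _ => List ℕ) (Bool.rec (motive := fun _ => List ℕ) (rw528) (rw529) (Nat.ble 529 i)) (Bool.rec (motive := fun _ => List ℕ) (rw530) (rw531) (Nat.ble 531 i)) (Nat.ble 530 i)) (Bool.rec (motive := fun _ => List ℕ) (Bool.rec (motive := fun _ => List ℕ) (rw532) (rw533) (Nat.ble 533 i)) (Bool.rec (motive := fun _ => List ℕ) (rw534) (rw535) (Nat.ble 535 i)) (Nat.ble 534 i)) (Nat.ble 532 i)) (Bool.rec (motive := fun _ => List ℕ) (Bool.rec (motive := fun _ =>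 List ℕ) (Bool.rec (motive := fun _ => List ℕ) (rw536) (rw537) (Nat.ble 537 i)) (Bool.rec (motive := fun _ => List ℕ) (rw538) (rw539) (Nat.ble 539 i)) (Nat.ble 538 i)) (Bool.rec (motive := fun _ => List ℕ) (Bool.rec (motive := fun _ => List ℕ) (rw540) (rw541) (Nat.ble 541 i)) (Bool.rec (motive := fun _ => List ℕ) (rw542) (rw543) (Nat.ble 543 i)) (Nat.ble 542 i)) (Nat.ble 540 i)) (Nat.ble 536 i)) (Nat.ble 528 i)) (Bool.rec (motive := fun _ => List ℕ) (Bool.rec (motive := fun _ => List ℕ) (Bool.rec (motive := fun _ => List ℕ) (Bool.rec (motive := fun _ => List ℕ) (Bool.rec (motive := fun _ => List ℕ) (rw544) (rw545) (Nat.ble 545 i)) (Bool.rec (motive := fun _ => List ℕ) (rw546) (rw547) (Nat.ble 547 i)) (Nat.ble 546 i)) (Bool.rec (motive := fun _ => List ℕ) (Bool.rec (motive := fun _ => List ℕ) (rw548) (rw549)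 (Nat.ble 549 i)) (Bool.rec (motive := fun _ => List ℕ) (rw550) (rw551) (Nat.ble 551 i)) (Nat.ble 550 i)) (Nat.ble 548 i)) (Bool.rec (motive := fun _ => List ℕ) (Bool.rec (motive := fun _ => List ℕ) (Bool.rec (motive := fun _ => List ℕ) (rw552) (rw553) (Nat.ble 553 i)) (Bool.rec (motive := fun _ => List ℕ) (rw554) (rw555) (Nat.ble 555 i)) (Nat.ble 554 i)) (Bool.rec (motive := fun _ => List ℕ) (Bool.rec (motive := fun _ => List ℕ) (rw556) (rw557) (Nat.ble 557 i)) (Bool.rec (motive := fun _ => List ℕ) (rw558) (rw559) (Nat.ble 559 i)) (Nat.ble 558 i)) (Nat.ble 556 i)) (Nat.ble 552 i)) (Bool.rec (motive := fun _ => List ℕ) (Bool.rec (motive := fun _ => List ℕ) (Bool.rec (motive := fun _ => List ℕ) (Bool.rec (motive := fun _ => List ℕ) (rw560) (rw561) (Nat.ble 561 i)) (Bool.rec (motive := fun _ => List ℕ)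 (rw562) (rw563) (Nat.ble 563 i)) (Nat.ble 562 i)) (Bool.rec (motive := fun _ => List ℕ) (Bool.rec (motive := fun _ => List ℕ) (rw564) (rw565) (Nat.ble 565 i)) (Bool.rec (motive := fun _ => List ℕ) (rw566) (rw567) (Nat.ble 567 i)) (Nat.ble 566 i)) (Nat.ble 564 i)) (Bool.rec (motive := fun _ => List ℕ) (Bool.rec (motive := fun _ => List ℕ) (Bool.rec (motive := fun _ => List ℕ) (rw568) (rw569) (Nat.ble 569 i)) (Bool.rec (motive := fun _ => List ℕ) (rw570) (rw571) (Nat.ble 571 i)) (Nat.ble 570 i)) (Bool.rec (motive := fun _ => List ℕ) (Bool.rec (motive := fun _ => List ℕ) (rw572) (rw573) (Nat.ble 573 i)) (Bool.rec (motive := fun _ => List ℕ) (rw574) (rw575) (Nat.ble 575 i)) (Nat.ble 574 i)) (Nat.ble 572 i)) (Nat.ble 568 i)) (Nat.ble 560 i)) (Nat.ble 544 i)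
noncomputable def rwb9 (i : ℕ) : List ℕ := Bool.rec (motive := fun _ => List ℕ) (Bool.rec (motive := fun _ => List ℕ) (Bool.rec (motive := fun _ => List ℕ) (Bool.rec (motive := fun _ => List ℕ) (Bool.rec (motive := fun _ => List ℕ) (Bool.rec (motive := fun _ => List ℕ) (rw576) (rw577) (Nat.ble 577 i)) (Bool.rec (motive := fun _ => List ℕ) (rw578) (rw579) (Nat.ble 579 i)) (Nat.ble 578 i)) (Bool.rec (motive := fun _ => List ℕ) (Bool.rec (motive := fun _ => List ℕ) (rw580) (rw581) (Nat.ble 581 i)) (Bool.rec (motive := fun _ => List ℕ) (rw582) (rw583) (Nat.ble 583 i)) (Nat.ble 582 i)) (Nat.ble 580 i)) (Bool.rec (motive := fun _ => List ℕ) (Bool.rec (motive := fun _ => List ℕ) (Bool.rec (motive := fun _ => List ℕ) (rw584) (rw585) (Nat.ble 585 i)) (Bool.rec (motive := fun _ => List ℕ) (rw586) (rw587) (Nat.ble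 587 i)) (Nat.ble 586 i)) (Bool.rec (motive := fun _ => List ℕ) (Bool.rec (motive := fun _ => List ℕ) (rw588) (rw589) (Nat.ble 589 i)) (Bool.rec (motive := fun _ => List ℕ) (rw590) (rw591) (Nat.ble 591 i)) (Nat.ble 590 i)) (Nat.ble 588 i)) (Nat.ble 584 i)) (Bool.rec (motive := fun _ => List ℕ) (Bool.rec (motive := fun _ => List ℕ) (Bool.rec (motive := fun _ => List ℕ) (Bool.rec (motive := fun _ => List ℕ) (rw592) (rw593) (Nat.ble 593 i)) (Bool.rec (motive := fun _ => List ℕ) (rw594) (rw595) (Nat.ble 595 i)) (Nat.ble 594 i)) (Bool.rec (motive := fun _ => List ℕ) (Bool.rec (motive := fun _ => List ℕ) (rw596) (rw597) (Nat.ble 597 i)) (Bool.rec (motive := fun _ => List ℕ) (rw598) (rw599) (Nat.ble 599 i)) (Nat.ble 598 i)) (Nat.ble 596 i)) (Bool.rec (motive := fun _ => List ℕ) (Bool.rec (motive := fun _ =>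 List ℕ) (Bool.rec (motive := fun _ => List ℕ) (rw600) (rw601) (Nat.ble 601 i)) (Bool.rec (motive := fun _ => List ℕ) (rw602) (rw603) (Nat.ble 603 i)) (Nat.ble 602 i)) (Bool.rec (motive := fun _ => List ℕ) (Bool.rec (motive := fun _ => List ℕ) (rw604) (rw605) (Nat.ble 605 i)) (Bool.rec (motive := fun _ => List ℕ) (rw606) (rw607) (Nat.ble 607 i)) (Nat.ble 606 i)) (Nat.ble 604 i)) (Nat.ble 600 i)) (Nat.ble 592 i)) (Bool.rec (motive := fun _ => List ℕ) (Bool.rec (motive := fun _ => List ℕ) (Bool.rec (motive := fun _ => List ℕ) (Bool.rec (motive := fun _ => List ℕ) (Bool.rec (motive := fun _ => List ℕ) (rw608) (rw609) (Nat.ble 609 i)) (Bool.rec (motive := fun _ => List ℕ) (rw610) (rw611) (Nat.ble 611 i)) (Nat.ble 610 i)) (Bool.rec (motive := fun _ => List ℕ) (Bool.rec (motive := fun _ => List ℕ) (rw612) (rw613)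 (Nat.ble 613 i)) (Bool.rec (motive := fun _ => List ℕ) (rw614) (rw615) (Nat.ble 615 i)) (Nat.ble 614 i)) (Nat.ble 612 i)) (Bool.rec (motive := fun _ => List ℕ) (Bool.rec (motive := fun _ => List ℕ) (Bool.rec (motive := fun _ => List ℕ) (rw616) (rw617) (Nat.ble 617 i)) (Bool.rec (motive := fun _ => List ℕ) (rw618) (rw619) (Nat.ble 619 i)) (Nat.ble 618 i)) (Bool.rec (motive := fun _ => List ℕ) (Bool.rec (motive := fun _ => List ℕ) (rw620) (rw621) (Nat.ble 621 i)) (Bool.rec (motive := fun _ => List ℕ) (rw622) (rw623) (Nat.ble 623 i)) (Nat.ble 622 i)) (Nat.ble 620 i)) (Nat.ble 616 i)) (Bool.rec (motive := fun _ => List ℕ) (Bool.rec (motive := fun _ => List ℕ) (Bool.rec (motive := fun _ => List ℕ) (Bool.rec (motive := fun _ => List ℕ) (rw624) (rw625) (Nat.ble 625 i)) (Bool.rec (motive := fun _ => List ℕ)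 (rw626) (rw627) (Nat.ble 627 i)) (Nat.ble 626 i)) (Bool.rec (motive := fun _ => List ℕ) (Bool.rec (motive := fun _ => List ℕ) (rw628) (rw629) (Nat.ble 629 i)) (Bool.rec (motive := fun _ => List ℕ) (rw630) (rw631) (Nat.ble 631 i)) (Nat.ble 630 i)) (Nat.ble 628 i)) (Bool.rec (motive := fun _ => List ℕ) (Bool.rec (motive := fun _ => List ℕ) (Bool.rec (motive := fun _ => List ℕ) (rw632) (rw633) (Nat.ble 633 i)) (Bool.rec (motive := fun _ => List ℕ) (rw634) (rw635) (Nat.ble 635 i)) (Nat.ble 634 i)) (Bool.rec (motive := fun _ => List ℕ) (Bool.rec (motive := fun _ => List ℕ) (rw636) (rw637) (Nat.ble 637 i)) (Bool.rec (motive := fun _ => List ℕ) (rw638) (rw639) (Nat.ble 639 i)) (Nat.ble 638 i)) (Nat.ble 636 i)) (Nat.ble 632 i)) (Nat.ble 624 i)) (Nat.ble 608 i)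
noncomputable def rwb10 (i : ℕ) : List ℕ := Bool.rec (motive := fun _ => List ℕ) (Bool.rec (motive := fun _ => List ℕ) (Bool.rec (motive := fun _ => List ℕ) (Bool.rec (motive := fun _ => List ℕ) (Bool.rec (motive := fun _ => List ℕ) (Bool.rec (motive := fun _ => List ℕ) (rw640) (rw641) (Nat.ble 641 i)) (Bool.rec (motive := fun _ => List ℕ) (rw642) (rw643) (Nat.ble 643 i)) (Nat.ble 642 i)) (Bool.rec (motive := fun _ => List ℕ) (Bool.rec (motive := fun _ => List ℕ) (rw644) (rw645) (Nat.ble 645 i)) (Bool.rec (motive := fun _ => List ℕ) (rw646) (rw647) (Nat.ble 647 i)) (Nat.ble 646 i)) (Nat.ble 644 i)) (Bool.rec (motive := fun _ => List ℕ) (Bool.rec (motive := fun _ => List ℕ) (Bool.rec (motive := fun _ => List ℕ) (rw648) (rw649) (Nat.ble 649 i)) (Bool.rec (motive := fun _ => List ℕ) (rw650) (rw651) (Nat.ble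 651 i)) (Nat.ble 650 i)) (Bool.rec (motive := fun _ => List ℕ) (Bool.rec (motive := fun _ => List ℕ) (rw652) (rw653) (Nat.ble 653 i)) (Bool.rec (motive := fun _ => List ℕ) (rw654) (rw655) (Nat.ble 655 i)) (Nat.ble 654 i)) (Nat.ble 652 i)) (Nat.ble 648 i)) (Bool.rec (motive := fun _ => List ℕ) (Bool.rec (motive := fun _ => List ℕ) (Bool.rec (motive := fun _ => List ℕ) (Bool.rec (motive := fun _ => List ℕ) (rw656) (rw657) (Nat.ble 657 i)) (Bool.rec (motive := fun _ => List ℕ) (rw658) (rw659) (Nat.ble 659 i)) (Nat.ble 658 i)) (Bool.rec (motive := fun _ => List ℕ) (Bool.rec (motive := fun _ => List ℕ) (rw660) (rw661) (Nat.ble 661 i)) (Bool.rec (motive := fun _ => List ℕ) (rw662) (rw663) (Nat.ble 663 i)) (Nat.ble 662 i)) (Nat.ble 660 i)) (Bool.rec (motive := fun _ => List ℕ) (Bool.rec (motive := fun _ =>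 List ℕ) (Bool.rec (motive := fun _ => List ℕ) (rw664) (rw665) (Nat.ble 665 i)) (Bool.rec (motive := fun _ => List ℕ) (rw666) (rw667) (Nat.ble 667 i)) (Nat.ble 666 i)) (Bool.rec (motive := fun _ => List ℕ) (Bool.rec (motive := fun _ => List ℕ) (rw668) (rw669) (Nat.ble 669 i)) (Bool.rec (motive := fun _ => List ℕ) (rw670) (rw671) (Nat.ble 671 i)) (Nat.ble 670 i)) (Nat.ble 668 i)) (Nat.ble 664 i)) (Nat.ble 656 i)) (Bool.rec (motive := fun _ => List ℕ) (Bool.rec (motive := fun _ => List ℕ) (Bool.rec (motive := fun _ => List ℕ) (Bool.rec (motive := fun _ => List ℕ) (Bool.rec (motive := fun _ => List ℕ) (rw672) (rw673) (Nat.ble 673 i)) (Bool.rec (motive := fun _ => List ℕ) (rw674) (rw675) (Nat.ble 675 i)) (Nat.ble 674 i)) (Bool.rec (motive := fun _ => List ℕ) (Bool.rec (motive := fun _ => List ℕ) (rw676) (rw677)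 (Nat.ble 677 i)) (Bool.rec (motive := fun _ => List ℕ) (rw678) (rw679) (Nat.ble 679 i)) (Nat.ble 678 i)) (Nat.ble 676 i)) (Bool.rec (motive := fun _ => List ℕ) (Bool.rec (motive := fun _ => List ℕ) (Bool.rec (motive := fun _ => List ℕ) (rw680) (rw681) (Nat.ble 681 i)) (Bool.rec (motive := fun _ => List ℕ) (rw682) (rw683) (Nat.ble 683 i)) (Nat.ble 682 i)) (Bool.rec (motive := fun _ => List ℕ) (Bool.rec (motive := fun _ => List ℕ) (rw684) (rw685) (Nat.ble 685 i)) (Bool.rec (motive := fun _ => List ℕ) (rw686) (rw687) (Nat.ble 687 i)) (Nat.ble 686 i)) (Nat.ble 684 i)) (Nat.ble 680 i)) (Bool.rec (motive := fun _ => List ℕ) (Bool.rec (motive := fun _ => List ℕ) (Bool.rec (motive := fun _ => List ℕ) (Bool.rec (motive := fun _ => List ℕ) (rw688) (rw689) (Nat.ble 689 i)) (Bool.rec (motive := fun _ => List ℕ)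 (rw690) (rw691) (Nat.ble 691 i)) (Nat.ble 690 i)) (Bool.rec (motive := fun _ => List ℕ) (Bool.rec (motive := fun _ => List ℕ) (rw692) (rw693) (Nat.ble 693 i)) (Bool.rec (motive := fun _ => List ℕ) (rw694) (rw695) (Nat.ble 695 i)) (Nat.ble 694 i)) (Nat.ble 692 i)) (Bool.rec (motive := fun _ => List ℕ) (Bool.rec (motive := fun _ => List ℕ) (Bool.rec (motive := fun _ => List ℕ) (rw696) (rw697) (Nat.ble 697 i)) (Bool.rec (motive := fun _ => List ℕ) (rw698) (rw699) (Nat.ble 699 i)) (Nat.ble 698 i)) (Bool.rec (motive := fun _ => List ℕ) (Bool.rec (motive := fun _ => List ℕ) (rw700) (rw701) (Nat.ble 701 i)) (Bool.rec (motive := fun _ => List ℕ) (rw702) (rw703) (Nat.ble 703 i)) (Nat.ble 702 i)) (Nat.ble 700 i)) (Nat.ble 696 i)) (Nat.ble 688 i)) (Nat.ble 672 i)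
noncomputable def rwb11 (i : ℕ) : List ℕ := Bool.rec (motive := fun _ => List ℕ) (Bool.rec (motive := fun _ => List ℕ) (Bool.rec (motive := fun _ => List ℕ) (Bool.rec (motive := fun _ => List ℕ) (Bool.rec (motive := fun _ => List ℕ) (Bool.rec (motive := fun _ => List ℕ) (rw704) (rw705) (Nat.ble 705 i)) (Bool.rec (motive := fun _ => List ℕ) (rw706) (rw707) (Nat.ble 707 i)) (Nat.ble 706 i)) (Bool.rec (motive := fun _ => List ℕ) (Bool.rec (motive := fun _ => List ℕ) (rw708) (rw709) (Nat.ble 709 i)) (Bool.rec (motive := fun _ => List ℕ) (rw710) (rw711) (Nat.ble 711 i)) (Nat.ble 710 i)) (Nat.ble 708 i)) (Bool.rec (motive := fun _ => List ℕ) (Bool.rec (motive := fun _ => List ℕ) (Bool.rec (motive := fun _ => List ℕ) (rw712) (rw713) (Nat.ble 713 i)) (Bool.rec (motive := fun _ => List ℕ) (rw714) (rw715) (Nat.ble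 715 i)) (Nat.ble 714 i)) (Bool.rec (motive := fun _ => List ℕ) (Bool.rec (motive := fun _ => List ℕ) (rw716) (rw717) (Nat.ble 717 i)) (Bool.rec (motive := fun _ => List ℕ) (rw718) (rw719) (Nat.ble 719 i)) (Nat.ble 718 i)) (Nat.ble 716 i)) (Nat.ble 712 i)) (Bool.rec (motive := fun _ => List ℕ) (Bool.rec (motive := fun _ => List ℕ) (Bool.rec (motive := fun _ => List ℕ) (Bool.rec (motive := fun _ => List ℕ) (rw720) (rw721) (Nat.ble 721 i)) (Bool.rec (motive := fun _ => List ℕ) (rw722) (rw723) (Nat.ble 723 i)) (Nat.ble 722 i)) (Bool.rec (motive := fun _ => List ℕ) (Bool.rec (motive := fun _ => List ℕ) (rw724) (rw725) (Nat.ble 725 i)) (Bool.rec (motive := fun _ => List ℕ) (rw726) (rw727) (Nat.ble 727 i)) (Nat.ble 726 i)) (Nat.ble 724 i)) (Bool.rec (motive := fun _ => List ℕ) (Bool.rec (motive := fun _ =>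 List ℕ) (Bool.rec (motive := fun _ => List ℕ) (rw728) (rw729) (Nat.ble 729 i)) (Bool.rec (motive := fun _ => List ℕ) (rw730) (rw731) (Nat.ble 731 i)) (Nat.ble 730 i)) (Bool.rec (motive := fun _ => List ℕ) (Bool.rec (motive := fun _ => List ℕ) (rw732) (rw733) (Nat.ble 733 i)) (Bool.rec (motive := fun _ => List ℕ) (rw734) (rw735) (Nat.ble 735 i)) (Nat.ble 734 i)) (Nat.ble 732 i)) (Nat.ble 728 i)) (Nat.ble 720 i)) (Bool.rec (motive := fun _ => List ℕ) (Bool.rec (motive := fun _ => List ℕ) (Bool.rec (motive := fun _ => List ℕ) (Bool.rec (motive := fun _ => List ℕ) (Bool.rec (motive := fun _ => List ℕ) (rw736) (rw737) (Nat.ble 737 i)) (Bool.rec (motive := fun _ => List ℕ) (rw738) (rw739) (Nat.ble 739 i)) (Nat.ble 738 i)) (Bool.rec (motive := fun _ => List ℕ) (Bool.rec (motive := fun _ => List ℕ) (rw740) (rw741)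 (Nat.ble 741 i)) (Bool.rec (motive := fun _ => List ℕ) (rw742) (rw743) (Nat.ble 743 i)) (Nat.ble 742 i)) (Nat.ble 740 i)) (Bool.rec (motive := fun _ => List ℕ) (Bool.rec (motive := fun _ => List ℕ) (Bool.rec (motive := fun _ => List ℕ) (rw744) (rw745) (Nat.ble 745 i)) (Bool.rec (motive := fun _ => List ℕ) (rw746) (rw747) (Nat.ble 747 i)) (Nat.ble 746 i)) (Bool.rec (motive := fun _ => List ℕ) (Bool.rec (motive := fun _ => List ℕ) (rw748) (rw749) (Nat.ble 749 i)) (Bool.rec (motive := fun _ => List ℕ) (rw750) (rw751) (Nat.ble 751 i)) (Nat.ble 750 i)) (Nat.ble 748 i)) (Nat.ble 744 i)) (Bool.rec (motive := fun _ => List ℕ) (Bool.rec (motive := fun _ => List ℕ) (Bool.rec (motive := fun _ => List ℕ) (Bool.rec (motive := fun _ => List ℕ) (rw752) (rw753) (Nat.ble 753 i)) (Bool.rec (motive := fun _ => List ℕ)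 (rw754) (rw755) (Nat.ble 755 i)) (Nat.ble 754 i)) (Bool.rec (motive := fun _ => List ℕ) (Bool.rec (motive := fun _ => List ℕ) (rw756) (rw757) (Nat.ble 757 i)) (Bool.rec (motive := fun _ => List ℕ) (rw758) (rw759) (Nat.ble 759 i)) (Nat.ble 758 i)) (Nat.ble 756 i)) (Bool.rec (motive := fun _ => List ℕ) (Bool.rec (motive := fun _ => List ℕ) (Bool.rec (motive := fun _ => List ℕ) (rw760) (rw761) (Nat.ble 761 i)) (Bool.rec (motive := fun _ => List ℕ) (rw762) (rw763) (Nat.ble 763 i)) (Nat.ble 762 i)) (Bool.rec (motive := fun _ => List ℕ) (Bool.rec (motive := fun _ => List ℕ) (rw764) (rw765) (Nat.ble 765 i)) (Bool.rec (motive := fun _ => List ℕ) (rw766) (rw767) (Nat.ble 767 i)) (Nat.ble 766 i)) (Nat.ble 764 i)) (Nat.ble 760 i)) (Nat.ble 752 i)) (Nat.ble 736 i)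
noncomputable def rwb12 (i : ℕ) : List ℕ := Bool.rec (motive := fun _ => List ℕ) (Bool.rec (motive := fun _ => List ℕ) (Bool.rec (motive := fun _ => List ℕ) (Bool.rec (motive := fun _ => List ℕ) (Bool.rec (motive := fun _ => List ℕ) (Bool.rec (motive := fun _ => List ℕ) (rw768) (rw769) (Nat.ble 769 i)) (Bool.rec (motive := fun _ => List ℕ) (rw770) (rw771) (Nat.ble 771 i)) (Nat.ble 770 i)) (Bool.rec (motive := fun _ => List ℕ) (Bool.rec (motive := fun _ => List ℕ) (rw772) (rw773) (Nat.ble 773 i)) (Bool.rec (motive := fun _ => List ℕ) (rw774) (rw775) (Nat.ble 775 i)) (Nat.ble 774 i)) (Nat.ble 772 i)) (Bool.rec (motive := fun _ => List ℕ) (Bool.rec (motive := fun _ => List ℕ) (Bool.rec (motive := fun _ => List ℕ) (rw776) (rw777) (Nat.ble 777 i)) (Bool.rec (motive := fun _ => List ℕ) (rw778) (rw779) (Nat.ble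 779 i)) (Nat.ble 778 i)) (Bool.rec (motive := fun _ => List ℕ) (Bool.rec (motive := fun _ => List ℕ) (rw780) (rw781) (Nat.ble 781 i)) (Bool.rec (motive := fun _ => List ℕ) (rw782) (rw783) (Nat.ble 783 i)) (Nat.ble 782 i)) (Nat.ble 780 i)) (Nat.ble 776 i)) (Bool.rec (motive := fun _ => List ℕ) (Bool.rec (motive := fun _ => List ℕ) (Bool.rec (motive := fun _ => List ℕ) (Bool.rec (motive := fun _ => List ℕ) (rw784) (rw785) (Nat.ble 785 i)) (Bool.rec (motive := fun _ => List ℕ) (rw786) (rw787) (Nat.ble 787 i)) (Nat.ble 786 i)) (Bool.rec (motive := fun _ => List ℕ) (Bool.rec (motive := fun _ => List ℕ) (rw788) (rw789) (Nat.ble 789 i)) (Bool.rec (motive := fun _ => List ℕ) (rw790) (rw791) (Nat.ble 791 i)) (Nat.ble 790 i)) (Nat.ble 788 i)) (Bool.rec (motive := fun _ => List ℕ) (Bool.rec (motive := fun _ =>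 List ℕ) (Bool.rec (motive := fun _ => List ℕ) (rw792) (rw793) (Nat.ble 793 i)) (Bool.rec (motive := fun _ => List ℕ) (rw794) (rw795) (Nat.ble 795 i)) (Nat.ble 794 i)) (Bool.rec (motive := fun _ => List ℕ) (Bool.rec (motive := fun _ => List ℕ) (rw796) (rw797) (Nat.ble 797 i)) (Bool.rec (motive := fun _ => List ℕ) (rw798) (rw799) (Nat.ble 799 i)) (Nat.ble 798 i)) (Nat.ble 796 i)) (Nat.ble 792 i)) (Nat.ble 784 i)) (Bool.rec (motive := fun _ => List ℕ) (Bool.rec (motive := fun _ => List ℕ) (Bool.rec (motive := fun _ => List ℕ) (Bool.rec (motive := fun _ => List ℕ) (Bool.rec (motive := fun _ => List ℕ) (rw800) (rw801) (Nat.ble 801 i)) (Bool.rec (motive := fun _ => List ℕ) (rw802) (rw803) (Nat.ble 803 i)) (Nat.ble 802 i)) (Bool.rec (motive := fun _ => List ℕ) (Bool.rec (motive := fun _ => List ℕ) (rw804) (rw805)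 (Nat.ble 805 i)) (Bool.rec (motive := fun _ => List ℕ) (rw806) (rw807) (Nat.ble 807 i)) (Nat.ble 806 i)) (Nat.ble 804 i)) (Bool.rec (motive := fun _ => List ℕ) (Bool.rec (motive := fun _ => List ℕ) (Bool.rec (motive := fun _ => List ℕ) (rw808) (rw809) (Nat.ble 809 i)) (Bool.rec (motive := fun _ => List ℕ) (rw810) (rw811) (Nat.ble 811 i)) (Nat.ble 810 i)) (Bool.rec (motive := fun _ => List ℕ) (Bool.rec (motive := fun _ => List ℕ) (rw812) (rw813) (Nat.ble 813 i)) (Bool.rec (motive := fun _ => List ℕ) (rw814) (rw815) (Nat.ble 815 i)) (Nat.ble 814 i)) (Nat.ble 812 i)) (Nat.ble 808 i)) (Bool.rec (motive := fun _ => List ℕ) (Bool.rec (motive := fun _ => List ℕ) (Bool.rec (motive := fun _ => List ℕ) (Bool.rec (motive := fun _ => List ℕ) (rw816) (rw817) (Nat.ble 817 i)) (Bool.rec (motive := fun _ => List ℕ)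 (rw818) (rw819) (Nat.ble 819 i)) (Nat.ble 818 i)) (Bool.rec (motive := fun _ => List ℕ) (Bool.rec (motive := fun _ => List ℕ) (rw820) (rw821) (Nat.ble 821 i)) (Bool.rec (motive := fun _ => List ℕ) (rw822) (rw823) (Nat.ble 823 i)) (Nat.ble 822 i)) (Nat.ble 820 i)) (Bool.rec (motive := fun _ => List ℕ) (Bool.rec (motive := fun _ => List ℕ) (Bool.rec (motive := fun _ => List ℕ) (rw824) (rw825) (Nat.ble 825 i)) (Bool.rec (motive := fun _ => List ℕ) (rw826) (rw827) (Nat.ble 827 i)) (Nat.ble 826 i)) (Bool.rec (motive := fun _ => List ℕ) (Bool.rec (motive := fun _ => List ℕ) (rw828) (rw829) (Nat.ble 829 i)) (Bool.rec (motive := fun _ => List ℕ) (rw830) (rw831) (Nat.ble 831 i)) (Nat.ble 830 i)) (Nat.ble 828 i)) (Nat.ble 824 i)) (Nat.ble 816 i)) (Nat.ble 800 i)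
noncomputable def rwb13 (i : ℕ) : List ℕ := Bool.rec (motive := fun _ => List ℕ) (Bool.rec (motive := fun _ => List ℕ) (Bool.rec (motive := fun _ => List ℕ) (Bool.rec (motive := fun _ => List ℕ) (Bool.rec (motive := fun _ => List ℕ) (Bool.rec (motive := fun _ => List ℕ) (rw832) (rw833) (Nat.ble 833 i)) (Bool.rec (motive := fun _ => List ℕ) (rw834) (rw835) (Nat.ble 835 i)) (Nat.ble 834 i)) (Bool.rec (motive := fun _ => List ℕ) (Bool.rec (motive := fun _ => List ℕ) (rw836) (rw837) (Nat.ble 837 i)) (Bool.rec (motive := fun _ => List ℕ) (rw838) (rw839) (Nat.ble 839 i)) (Nat.ble 838 i)) (Nat.ble 836 i)) (Bool.rec (motive := fun _ => List ℕ) (Bool.rec (motive := fun _ => List ℕ) (Bool.rec (motive := fun _ => List ℕ) (rw840) (rw841) (Nat.ble 841 i)) (Bool.rec (motive := fun _ => List ℕ) (rw842) (rw843) (Nat.ble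 843 i)) (Nat.ble 842 i)) (Bool.rec (motive := fun _ => List ℕ) (Bool.rec (motive := fun _ => List ℕ) (rw844) (rw845) (Nat.ble 845 i)) (Bool.rec (motive := fun _ => List ℕ) (rw846) (rw847) (Nat.ble 847 i)) (Nat.ble 846 i)) (Nat.ble 844 i)) (Nat.ble 840 i)) (Bool.rec (motive := fun _ => List ℕ) (Bool.rec (motive := fun _ => List ℕ) (Bool.rec (motive := fun _ => List ℕ) (Bool.rec (motive := fun _ => List ℕ) (rw848) (rw849) (Nat.ble 849 i)) (Bool.rec (motive := fun _ => List ℕ) (rw850) (rw851) (Nat.ble 851 i)) (Nat.ble 850 i)) (Bool.rec (motive := fun _ => List ℕ) (Bool.rec (motive := fun _ => List ℕ) (rw852) (rw853) (Nat.ble 853 i)) (Bool.rec (motive := fun _ => List ℕ) (rw854) (rw855) (Nat.ble 855 i)) (Nat.ble 854 i)) (Nat.ble 852 i)) (Bool.rec (motive := fun _ => List ℕ) (Bool.rec (motive := fun _ =>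 List ℕ) (Bool.rec (motive := fun _ => List ℕ) (rw856) (rw857) (Nat.ble 857 i)) (Bool.rec (motive := fun _ => List ℕ) (rw858) (rw859) (Nat.ble 859 i)) (Nat.ble 858 i)) (Bool.rec (motive := fun _ => List ℕ) (Bool.rec (motive := fun _ => List ℕ) (rw860) (rw861) (Nat.ble 861 i)) (Bool.rec (motive := fun _ => List ℕ) (rw862) (rw863) (Nat.ble 863 i)) (Nat.ble 862 i)) (Nat.ble 860 i)) (Nat.ble 856 i)) (Nat.ble 848 i)) (Bool.rec (motive := fun _ => List ℕ) (Bool.rec (motive := fun _ => List ℕ) (Bool.rec (motive := fun _ => List ℕ) (Bool.rec (motive := fun _ => List ℕ) (Bool.rec (motive := fun _ => List ℕ) (rw864) (rw865) (Nat.ble 865 i)) (Bool.rec (motive := fun _ => List ℕ) (rw866) (rw867) (Nat.ble 867 i)) (Nat.ble 866 i)) (Bool.rec (motive := fun _ => List ℕ) (Bool.rec (motive := fun _ => List ℕ) (rw868) (rw869)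 (Nat.ble 869 i)) (Bool.rec (motive := fun _ => List ℕ) (rw870) (rw871) (Nat.ble 871 i)) (Nat.ble 870 i)) (Nat.ble 868 i)) (Bool.rec (motive := fun _ => List ℕ) (Bool.rec (motive := fun _ => List ℕ) (Bool.rec (motive := fun _ => List ℕ) (rw872) (rw873) (Nat.ble 873 i)) (Bool.rec (motive := fun _ => List ℕ) (rw874) (rw875) (Nat.ble 875 i)) (Nat.ble 874 i)) (Bool.rec (motive := fun _ => List ℕ) (Bool.rec (motive := fun _ => List ℕ) (rw876) (rw877) (Nat.ble 877 i)) (Bool.rec (motive := fun _ => List ℕ) (rw878) (rw879) (Nat.ble 879 i)) (Nat.ble 878 i)) (Nat.ble 876 i)) (Nat.ble 872 i)) (Bool.rec (motive := fun _ => List ℕ) (Bool.rec (motive := fun _ => List ℕ) (Bool.rec (motive := fun _ => List ℕ) (Bool.rec (motive := fun _ => List ℕ) (rw880) (rw881) (Nat.ble 881 i)) (Bool.rec (motive := fun _ => List ℕ)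 (rw882) (rw883) (Nat.ble 883 i)) (Nat.ble 882 i)) (Bool.rec (motive := fun _ => List ℕ) (Bool.rec (motive := fun _ => List ℕ) (rw884) (rw885) (Nat.ble 885 i)) (Bool.rec (motive := fun _ => List ℕ) (rw886) (rw887) (Nat.ble 887 i)) (Nat.ble 886 i)) (Nat.ble 884 i)) (Bool.rec (motive := fun _ => List ℕ) (Bool.rec (motive := fun _ => List ℕ) (Bool.rec (motive := fun _ => List ℕ) (rw888) (rw889) (Nat.ble 889 i)) (Bool.rec (motive := fun _ => List ℕ) (rw890) (rw891) (Nat.ble 891 i)) (Nat.ble 890 i)) (Bool.rec (motive := fun _ => List ℕ) (Bool.rec (motive := fun _ => List ℕ) (rw892) (rw893) (Nat.ble 893 i)) (Bool.rec (motive := fun _ => List ℕ) (rw894) (rw895) (Nat.ble 895 i)) (Nat.ble 894 i)) (Nat.ble 892 i)) (Nat.ble 888 i)) (Nat.ble 880 i)) (Nat.ble 864 i)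
noncomputable def rwb14 (i : ℕ) : List ℕ := Bool.rec (motive := fun _ => List ℕ) (Bool.rec (motive := fun _ => List ℕ) (Bool.rec (motive := fun _ => List ℕ) (Bool.rec (motive := fun _ => List ℕ) (Bool.rec (motive := fun _ => List ℕ) (Bool.rec (motive := fun _ => List ℕ) (rw896) (rw897) (Nat.ble 897 i)) (Bool.rec (motive := fun _ => List ℕ) (rw898) (rw899) (Nat.ble 899 i)) (Nat.ble 898 i)) (Bool.rec (motive := fun _ => List ℕ) (Bool.rec (motive := fun _ => List ℕ) (rw900) (rw901) (Nat.ble 901 i)) (Bool.rec (motive := fun _ => List ℕ) (rw902) (rw903) (Nat.ble 903 i)) (Nat.ble 902 i)) (Nat.ble 900 i)) (Bool.rec (motive := fun _ => List ℕ) (Bool.rec (motive := fun _ => List ℕ) (Bool.rec (motive := fun _ => List ℕ) (rw904) (rw905) (Nat.ble 905 i)) (Bool.rec (motive := fun _ => List ℕ) (rw906) (rw907) (Nat.ble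 907 i)) (Nat.ble 906 i)) (Bool.rec (motive := fun _ => List ℕ) (Bool.rec (motive := fun _ => List ℕ) (rw908) (rw909) (Nat.ble 909 i)) (Bool.rec (motive := fun _ => List ℕ) (rw910) (rw911) (Nat.ble 911 i)) (Nat.ble 910 i)) (Nat.ble 908 i)) (Nat.ble 904 i)) (Bool.rec (motive := fun _ => List ℕ) (Bool.rec (motive := fun _ => List ℕ) (Bool.rec (motive := fun _ => List ℕ) (Bool.rec (motive := fun _ => List ℕ) (rw912) (rw913) (Nat.ble 913 i)) (Bool.rec (motive := fun _ => List ℕ) (rw914) (rw915) (Nat.ble 915 i)) (Nat.ble 914 i)) (Bool.rec (motive := fun _ => List ℕ) (Bool.rec (motive := fun _ => List ℕ) (rw916) (rw917) (Nat.ble 917 i)) (Bool.rec (motive := fun _ => List ℕ) (rw918) (rw919) (Nat.ble 919 i)) (Nat.ble 918 i)) (Nat.ble 916 i)) (Bool.rec (motive := fun _ => List ℕ) (Bool.rec (motive := fun _ =>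 List ℕ) (Bool.rec (motive := fun _ => List ℕ) (rw920) (rw921) (Nat.ble 921 i)) (Bool.rec (motive := fun _ => List ℕ) (rw922) (rw923) (Nat.ble 923 i)) (Nat.ble 922 i)) (Bool.rec (motive := fun _ => List ℕ) (Bool.rec (motive := fun _ => List ℕ) (rw924) (rw925) (Nat.ble 925 i)) (Bool.rec (motive := fun _ => List ℕ) (rw926) (rw927) (Nat.ble 927 i)) (Nat.ble 926 i)) (Nat.ble 924 i)) (Nat.ble 920 i)) (Nat.ble 912 i)) (Bool.rec (motive := fun _ => List ℕ) (Bool.rec (motive := fun _ => List ℕ) (Bool.rec (motive := fun _ => List ℕ) (Bool.rec (motive := fun _ => List ℕ) (Bool.rec (motive := fun _ => List ℕ) (rw928) (rw929) (Nat.ble 929 i)) (Bool.rec (motive := fun _ => List ℕ) (rw930) (rw931) (Nat.ble 931 i)) (Nat.ble 930 i)) (Bool.rec (motive := fun _ => List ℕ) (Bool.rec (motive := fun _ => List ℕ) (rw932) (rw933)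 (Nat.ble 933 i)) (Bool.rec (motive := fun _ => List ℕ) (rw934) (rw935) (Nat.ble 935 i)) (Nat.ble 934 i)) (Nat.ble 932 i)) (Bool.rec (motive := fun _ => List ℕ) (Bool.rec (motive := fun _ => List ℕ) (Bool.rec (motive := fun _ => List ℕ) (rw936) (rw937) (Nat.ble 937 i)) (Bool.rec (motive := fun _ => List ℕ) (rw938) (rw939) (Nat.ble 939 i)) (Nat.ble 938 i)) (Bool.rec (motive := fun _ => List ℕ) (Bool.rec (motive := fun _ => List ℕ) (rw940) (rw941) (Nat.ble 941 i)) (Bool.rec (motive := fun _ => List ℕ) (rw942) (rw943) (Nat.ble 943 i)) (Nat.ble 942 i)) (Nat.ble 940 i)) (Nat.ble 936 i)) (Bool.rec (motive := fun _ => List ℕ) (Bool.rec (motive := fun _ => List ℕ) (Bool.rec (motive := fun _ => List ℕ) (Bool.rec (motive := fun _ => List ℕ) (rw944) (rw945) (Nat.ble 945 i)) (Bool.rec (motive := fun _ => List ℕ)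 (rw946) (rw947) (Nat.ble 947 i)) (Nat.ble 946 i)) (Bool.rec (motive := fun _ => List ℕ) (Bool.rec (motive := fun _ => List ℕ) (rw948) (rw949) (Nat.ble 949 i)) (Bool.rec (motive := fun _ => List ℕ) (rw950) (rw951) (Nat.ble 951 i)) (Nat.ble 950 i)) (Nat.ble 948 i)) (Bool.rec (motive := fun _ => List ℕ) (Bool.rec (motive := fun _ => List ℕ) (Bool.rec (motive := fun _ => List ℕ) (rw952) (rw953) (Nat.ble 953 i)) (Bool.rec (motive := fun _ => List ℕ) (rw954) (rw955) (Nat.ble 955 i)) (Nat.ble 954 i)) (Bool.rec (motive := fun _ => List ℕ) (Bool.rec (motive := fun _ => List ℕ) (rw956) (rw957) (Nat.ble 957 i)) (Bool.rec (motive := fun _ => List ℕ) (rw958) (rw959) (Nat.ble 959 i)) (Nat.ble 958 i)) (Nat.ble 956 i)) (Nat.ble 952 i)) (Nat.ble 944 i)) (Nat.ble 928 i)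
noncomputable def rwb15 (i : ℕ) : List ℕ := Bool.rec (motive := fun _ => List ℕ) (Bool.rec (motive := fun _ => List ℕ) (Bool.rec (motive := fun _ => List ℕ) (Bool.rec (motive := fun _ => List ℕ) (Bool.rec (motive := fun _ => List ℕ) (Bool.rec (motive := fun _ => List ℕ) (rw960) (rw961) (Nat.ble 961 i)) (Bool.rec (motive := fun _ => List ℕ) (rw962) (rw963) (Nat.ble 963 i)) (Nat.ble 962 i)) (Bool.rec (motive := fun _ => List ℕ) (Bool.rec (motive := fun _ => List ℕ) (rw964) (rw965) (Nat.ble 965 i)) (Bool.rec (motive := fun _ => List ℕ) (rw966) (rw967) (Nat.ble 967 i)) (Nat.ble 966 i)) (Nat.ble 964 i)) (Bool.rec (motive := fun _ => List ℕ) (Bool.rec (motive := fun _ => List ℕ) (Bool.rec (motive := fun _ => List ℕ) (rw968) (rw969) (Nat.ble 969 i)) (Bool.rec (motive := fun _ => List ℕ) (rw970) (rw971) (Nat.ble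 971 i)) (Nat.ble 970 i)) (Bool.rec (motive := fun _ => List ℕ) (Bool.rec (motive := fun _ => List ℕ) (rw972) (rw973) (Nat.ble 973 i)) (Bool.rec (motive := fun _ => List ℕ) (rw974) (rw975) (Nat.ble 975 i)) (Nat.ble 974 i)) (Nat.ble 972 i)) (Nat.ble 968 i)) (Bool.rec (motive := fun _ => List ℕ) (Bool.rec (motive := fun _ => List ℕ) (Bool.rec (motive := fun _ => List ℕ) (Bool.rec (motive := fun _ => List ℕ) (rw976) (rw977) (Nat.ble 977 i)) (Bool.rec (motive := fun _ => List ℕ) (rw978) (rw979) (Nat.ble 979 i)) (Nat.ble 978 i)) (Bool.rec (motive := fun _ => List ℕ) (Bool.rec (motive := fun _ => List ℕ) (rw980) (rw981) (Nat.ble 981 i)) (Bool.rec (motive := fun _ => List ℕ) (rw982) (rw983) (Nat.ble 983 i)) (Nat.ble 982 i)) (Nat.ble 980 i)) (Bool.rec (motive := fun _ => List ℕ) (Bool.rec (motive := fun _ =>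 List ℕ) (Bool.rec (motive := fun _ => List ℕ) (rw984) (rw985) (Nat.ble 985 i)) (Bool.rec (motive := fun _ => List ℕ) (rw986) (rw987) (Nat.ble 987 i)) (Nat.ble 986 i)) (Bool.rec (motive := fun _ => List ℕ) (Bool.rec (motive := fun _ => List ℕ) (rw988) (rw989) (Nat.ble 989 i)) (Bool.rec (motive := fun _ => List ℕ) (rw990) (rw991) (Nat.ble 991 i)) (Nat.ble 990 i)) (Nat.ble 988 i)) (Nat.ble 984 i)) (Nat.ble 976 i)) (Bool.rec (motive := fun _ => List ℕ) (Bool.rec (motive := fun _ => List ℕ) (Bool.rec (motive := fun _ => List ℕ) (Bool.rec (motive := fun _ => List ℕ) (Bool.rec (motive := fun _ => List ℕ) (rw992) (rw993) (Nat.ble 993 i)) (Bool.rec (motive := fun _ => List ℕ) (rw994) (rw995) (Nat.ble 995 i)) (Nat.ble 994 i)) (Bool.rec (motive := fun _ => List ℕ) (Bool.rec (motive := fun _ => List ℕ) (rw996) (rw997)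 (Nat.ble 997 i)) (Bool.rec (motive := fun _ => List ℕ) (rw998) (rw999) (Nat.ble 999 i)) (Nat.ble 998 i)) (Nat.ble 996 i)) (Bool.rec (motive := fun _ => List ℕ) (Bool.rec (motive := fun _ => List ℕ) (Bool.rec (motive := fun _ => List ℕ) (rw1000) (rw1001) (Nat.ble 1001 i)) (Bool.rec (motive := fun _ => List ℕ) (rw1002) (rw1003) (Nat.ble 1003 i)) (Nat.ble 1002 i)) (Bool.rec (motive := fun _ => List ℕ) (Bool.rec (motive := fun _ => List ℕ) (rw1004) (rw1005) (Nat.ble 1005 i)) (Bool.rec (motive := fun _ => List ℕ) (rw1006) (rw1007) (Nat.ble 1007 i)) (Nat.ble 1006 i)) (Nat.ble 1004 i)) (Nat.ble 1000 i)) (Bool.rec (motive := fun _ => List ℕ) (Bool.rec (motive := fun _ => List ℕ) (Bool.rec (motive := fun _ => List ℕ) (Bool.rec (motive := fun _ => List ℕ) (rw1008) (rw1009) (Nat.ble 1009 i)) (Bool.rec (motive :=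 fun _ => List ℕ) (rw1010) (rw1011) (Nat.ble 1011 i)) (Nat.ble 1010 i)) (Bool.rec (motive := fun _ => List ℕ) (Bool.rec (motive := fun _ => List ℕ) (rw1012) (rw1013) (Nat.ble 1013 i)) (Bool.rec (motive := fun _ => List ℕ) (rw1014) (rw1015) (Nat.ble 1015 i)) (Nat.ble 1014 i)) (Nat.ble 1012 i)) (Bool.rec (motive := fun _ => List ℕ) (Bool.rec (motive := fun _ => List ℕ) (Bool.rec (motive := fun _ => List ℕ) (rw1016) (rw1017) (Nat.ble 1017 i)) (Bool.rec (motive := fun _ => List ℕ) (rw1018) (rw1019) (Nat.ble 1019 i)) (Nat.ble 1018 i)) (Bool.rec (motive := fun _ => List ℕ) (Bool.rec (motive := fun _ => List ℕ) (rw1020) (rw1021) (Nat.ble 1021 i)) (Bool.rec (motive := fun _ => List ℕ) (rw1022) (rw1023) (Nat.ble 1023 i)) (Nat.ble 1022 i)) (Nat.ble 1020 i)) (Nat.ble 1016 i)) (Nat.ble 1008 i)) (Nat.ble 992 i)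
noncomputable def rwb16 (i : ℕ) : List ℕ := Bool.rec (motive := fun _ => List ℕ) (Bool.rec (motive := fun _ => List ℕ) (Bool.rec (motive := fun _ => List ℕ) (Bool.rec (motive := fun _ => List ℕ) (Bool.rec (motive := fun _ => List ℕ) (Bool.rec (motive := fun _ => List ℕ) (rw1024) (rw1025) (Nat.ble 1025 i)) (Bool.rec (motive := fun _ => List ℕ) (rw1026) (rw1027) (Nat.ble 1027 i)) (Nat.ble 1026 i)) (Bool.rec (motive := fun _ => List ℕ) (Bool.rec (motive := fun _ => List ℕ) (rw1028) (rw1029) (Nat.ble 1029 i)) (Bool.rec (motive := fun _ => List ℕ) (rw1030) (rw1031) (Nat.ble 1031 i)) (Nat.ble 1030 i)) (Nat.ble 1028 i)) (Bool.rec (motive := fun _ => List ℕ) (Bool.rec (motive := fun _ => List ℕ) (Bool.rec (motive := fun _ => List ℕ) (rw1032) (rw1033) (Nat.ble 1033 i)) (Bool.rec (motive := fun _ => List ℕ) (rw1034)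 (rw1035) (Nat.ble 1035 i)) (Nat.ble 1034 i)) (Bool.rec (motive := fun _ => List ℕ) (Bool.rec (motive := fun _ => List ℕ) (rw1036) (rw1037) (Nat.ble 1037 i)) (Bool.rec (motive := fun _ => List ℕ) (rw1038) (rw1039) (Nat.ble 1039 i)) (Nat.ble 1038 i)) (Nat.ble 1036 i)) (Nat.ble 1032 i)) (Bool.rec (motive := fun _ => List ℕ) (Bool.rec (motive := fun _ => List ℕ) (Bool.rec (motive := fun _ => List ℕ) (Bool.rec (motive := fun _ => List ℕ) (rw1040) (rw1041) (Nat.ble 1041 i)) (Bool.rec (motive := fun _ => List ℕ) (rw1042) (rw1043) (Nat.ble 1043 i)) (Nat.ble 1042 i)) (Bool.rec (motive := fun _ => List ℕ) (Bool.rec (motive := fun _ => List ℕ) (rw1044) (rw1045) (Nat.ble 1045 i)) (Bool.rec (motive := fun _ => List ℕ) (rw1046) (rw1047) (Nat.ble 1047 i)) (Nat.ble 1046 i)) (Nat.ble 1044 i)) (Bool.rec (motive := fun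 _ => List ℕ) (Bool.rec (motive := fun _ => List ℕ) (Bool.rec (motive := fun _ => List ℕ) (rw1048) (rw1049) (Nat.ble 1049 i)) (Bool.rec (motive := fun _ => List ℕ) (rw1050) (rw1051) (Nat.ble 1051 i)) (Nat.ble 1050 i)) (Bool.rec (motive := fun _ => List ℕ) (Bool.rec (motive := fun _ => List ℕ) (rw1052) (rw1053) (Nat.ble 1053 i)) (Bool.rec (motive := fun _ => List ℕ) (rw1054) (rw1055) (Nat.ble 1055 i)) (Nat.ble 1054 i)) (Nat.ble 1052 i)) (Nat.ble 1048 i)) (Nat.ble 1040 i)) (Bool.rec (motive := fun _ => List ℕ) (Bool.rec (motive := fun _ => List ℕ) (Bool.rec (motive := fun _ => List ℕ) (Bool.rec (motive := fun _ => List ℕ) (Bool.rec (motive := fun _ => List ℕ) (rw1056) (rw1057) (Nat.ble 1057 i)) (Bool.rec (motive := fun _ => List ℕ) (rw1058) (rw1059) (Nat.ble 1059 i)) (Nat.ble 1058 i)) (Bool.rec (motive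 := fun _ => List ℕ) (Bool.rec (motive := fun _ => List ℕ) (rw1060) (rw1061) (Nat.ble 1061 i)) (Bool.rec (motive := fun _ => List ℕ) (rw1062) (rw1063) (Nat.ble 1063 i)) (Nat.ble 1062 i)) (Nat.ble 1060 i)) (Bool.rec (motive := fun _ => List ℕ) (Bool.rec (motive := fun _ => List ℕ) (Bool.rec (motive := fun _ => List ℕ) (rw1064) (rw1065) (Nat.ble 1065 i)) (Bool.rec (motive := fun _ => List ℕ) (rw1066) (rw1067) (Nat.ble 1067 i)) (Nat.ble 1066 i)) (Bool.rec (motive := fun _ => List ℕ) (Bool.rec (motive := fun _ => List ℕ) (rw1068) (rw1069) (Nat.ble 1069 i)) (Bool.rec (motive := fun _ => List ℕ) (rw1070) (rw1071) (Nat.ble 1071 i)) (Nat.ble 1070 i)) (Nat.ble 1068 i)) (Nat.ble 1064 i)) (Bool.rec (motive := fun _ => List ℕ) (Bool.rec (motive := fun _ => List ℕ) (Bool.rec (motive := fun _ => List ℕ) (Bool.rec (motive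 := fun _ => List ℕ) (rw1072) (rw1073) (Nat.ble 1073 i)) (Bool.rec (motive := fun _ => List ℕ) (rw1074) (rw1075) (Nat.ble 1075 i)) (Nat.ble 1074 i)) (Bool.rec (motive := fun _ => List ℕ) (Bool.rec (motive := fun _ => List ℕ) (rw1076) (rw1077) (Nat.ble 1077 i)) (Bool.rec (motive := fun _ => List ℕ) (rw1078) (rw1079) (Nat.ble 1079 i)) (Nat.ble 1078 i)) (Nat.ble 1076 i)) (Bool.rec (motive := fun _ => List ℕ) (Bool.rec (motive := fun _ => List ℕ) (Bool.rec (motive := fun _ => List ℕ) (rw1080) (rw1081) (Nat.ble 1081 i)) (Bool.rec (motive := fun _ => List ℕ) (rw1082) (rw1083) (Nat.ble 1083 i)) (Nat.ble 1082 i)) (Bool.rec (motive := fun _ => List ℕ) (Bool.rec (motive := fun _ => List ℕ) (rw1084) (rw1085) (Nat.ble 1085 i)) (Bool.rec (motive := fun _ => List ℕ) (rw1086) (rw1087) (Nat.ble 1087 i)) (Nat.ble 1086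 i)) (Nat.ble 1084 i)) (Nat.ble 1080 i)) (Nat.ble 1072 i)) (Nat.ble 1056 i)
noncomputable def rwb17 (i : ℕ) : List ℕ := Bool.rec (motive := fun _ => List ℕ) (Bool.rec (motive := fun _ => List ℕ) (Bool.rec (motive := fun _ => List ℕ) (Bool.rec (motive := fun _ => List ℕ) (Bool.rec (motive := fun _ => List ℕ) (Bool.rec (motive := fun _ => List ℕ) (rw1088) (rw1089) (Nat.ble 1089 i)) (Bool.rec (motive := fun _ => List ℕ) (rw1090) (rw1091) (Nat.ble 1091 i)) (Nat.ble 1090 i)) (Bool.rec (motive := fun _ => List ℕ) (Bool.rec (motive := fun _ => List ℕ) (rw1092) (rw1093) (Nat.ble 1093 i)) (Bool.rec (motive := fun _ => List ℕ) (rw1094) (rw1095) (Nat.ble 1095 i)) (Nat.ble 1094 i)) (Nat.ble 1092 i)) (Bool.rec (motive := fun _ => List ℕ) (Bool.rec (motive := fun _ => List ℕ) (Bool.rec (motive := fun _ => List ℕ) (rw1096)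 (rw1097) (Nat.ble 1097 i)) (Bool.rec (motive := fun _ => List ℕ) (rw1098) (rw1099) (Nat.ble 1099 i)) (Nat.ble 1098 i)) (Bool.rec (motive := fun _ => List ℕ) (Bool.rec (motive := fun _ => List ℕ) (rw1100) (rw1101) (Nat.ble 1101 i)) (Bool.rec (motive := fun _ => List ℕ) (rw1102) (rw1103) (Nat.ble 1103 i)) (Nat.ble 1102 i)) (Nat.ble 1100 i)) (Nat.ble 1096 i)) (Bool.rec (motive := fun _ => List ℕ) (Bool.rec (motive := fun _ => List ℕ) (Bool.rec (motive := fun _ => List ℕ) (Bool.rec (motive := fun _ => List ℕ) (rw1104) (rw1105) (Nat.ble 1105 i)) (Bool.rec (motive := fun _ => List ℕ) (rw1106) (rw1107) (Nat.ble 1107 i)) (Nat.ble 1106 i)) (Bool.rec (motive := fun _ => List ℕ) (Bool.rec (motive := fun _ => List ℕ) (rw1108) (rw1109) (Nat.ble 1109 i)) (Bool.rec (motive := fun _ => List ℕ) (rw1110) (rw1111) (Nat.ble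 1111 i)) (Nat.ble 1110 i)) (Nat.ble 1108 i)) (Bool.rec (motive := fun _ => List ℕ) (Bool.rec (motive := fun _ => List ℕ) (Bool.rec (motive := fun _ => List ℕ) (rw1112) (rw1113) (Nat.ble 1113 i)) (Bool.rec (motive := fun _ => List ℕ) (rw1114) (rw1115) (Nat.ble 1115 i)) (Nat.ble 1114 i)) (Bool.rec (motive := fun _ => List ℕ) (Bool.rec (motive := fun _ => List ℕ) (rw1116) (rw1117) (Nat.ble 1117 i)) (Bool.rec (motive := fun _ => List ℕ) (rw1118) (rw1119) (Nat.ble 1119 i)) (Nat.ble 1118 i)) (Nat.ble 1116 i)) (Nat.ble 1112 i)) (Nat.ble 1104 i)) (Bool.rec (motive := fun _ => List ℕ) (Bool.rec (motive := fun _ => List ℕ) (Bool.rec (motive := fun _ => List ℕ) (Bool.rec (motive := fun _ => List ℕ) (Bool.rec (motive := fun _ => List ℕ) (rw1120) (rw1121) (Nat.ble 1121 i)) (Bool.rec (motive := fun _ => List ℕ) (rw1122)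 (rw1123) (Nat.ble 1123 i)) (Nat.ble 1122 i)) (Bool.rec (motive := fun _ => List ℕ) (Bool.rec (motive := fun _ => List ℕ) (rw1124) (rw1125) (Nat.ble 1125 i)) (Bool.rec (motive := fun _ => List ℕ) (rw1126) (rw1127) (Nat.ble 1127 i)) (Nat.ble 1126 i)) (Nat.ble 1124 i)) (Bool.rec (motive := fun _ => List ℕ) (Bool.rec (motive := fun _ => List ℕ) (Bool.rec (motive := fun _ => List ℕ) (rw1128) (rw1129) (Nat.ble 1129 i)) (Bool.rec (motive := fun _ => List ℕ) (rw1130) (rw1131) (Nat.ble 1131 i)) (Nat.ble 1130 i)) (Bool.rec (motive := fun _ => List ℕ) (Bool.rec (motive := fun _ => List ℕ) (rw1132) (rw1133) (Nat.ble 1133 i)) (Bool.rec (motive := fun _ => List ℕ) (rw1134) (rw1135) (Nat.ble 1135 i)) (Nat.ble 1134 i)) (Nat.ble 1132 i)) (Nat.ble 1128 i)) (Bool.rec (motive := fun _ => List ℕ) (Bool.rec (motive := fun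 _ => List ℕ) (Bool.rec (motive := fun _ => List ℕ) (Bool.rec (motive := fun _ => List ℕ) (rw1136) (rw1137) (Nat.ble 1137 i)) (Bool.rec (motive := fun _ => List ℕ) (rw1138) (rw1139) (Nat.ble 1139 i)) (Nat.ble 1138 i)) (Bool.rec (motive := fun _ => List ℕ) (Bool.rec (motive := fun _ => List ℕ) (rw1140) (rw1141) (Nat.ble 1141 i)) (Bool.rec (motive := fun _ => List ℕ) (rw1142) (rw1143) (Nat.ble 1143 i)) (Nat.ble 1142 i)) (Nat.ble 1140 i)) (Bool.rec (motive := fun _ => List ℕ) (Bool.rec (motive := fun _ => List ℕ) (Bool.rec (motive := fun _ => List ℕ) (rw1144) (rw1145) (Nat.ble 1145 i)) (Bool.rec (motive := fun _ => List ℕ) (rw1146) (rw1147) (Nat.ble 1147 i)) (Nat.ble 1146 i)) (Bool.rec (motive := fun _ => List ℕ) (Bool.rec (motive := fun _ => List ℕ) (rw1148) (rw1149) (Nat.ble 1149 i)) (Bool.rec (motive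 := fun _ => List ℕ) (rw1150) (rw1151) (Nat.ble 1151 i)) (Nat.ble 1150 i)) (Nat.ble 1148 i)) (Nat.ble 1144 i)) (Nat.ble 1136 i)) (Nat.ble 1120 i)
noncomputable def rwb18 (i : ℕ) : List ℕ := Bool.rec (motive := fun _ => List ℕ) (Bool.rec (motive := fun _ => List ℕ) (Bool.rec (motive := fun _ => List ℕ) (Bool.rec (motive := fun _ => List ℕ) (Bool.rec (motive := fun _ => List ℕ) (Bool.rec (motive := fun _ => List ℕ) (rw1152) (rw1153) (Nat.ble 1153 i)) (Bool.rec (motive := fun _ => List ℕ) (rw1154) (rw1155) (Nat.ble 1155 i)) (Nat.ble 1154 i)) (Bool.rec (motive := fun _ => List ℕ) (Bool.rec (motive := fun _ => List ℕ) (rw1156) (rw1157) (Nat.ble 1157 i)) (Bool.rec (motive := fun _ => List ℕ) (rw1158) (rw1159) (Nat.ble 1159 i)) (Nat.ble 1158 i)) (Nat.ble 1156 i)) (Bool.rec (motive := fun _ => List ℕ) (Bool.rec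 (motive := fun _ => List ℕ) (Bool.rec (motive := fun _ => List ℕ) (rw1160) (rw1161) (Nat.ble 1161 i)) (Bool.rec (motive := fun _ => List ℕ) (rw1162) (rw1163) (Nat.ble 1163 i)) (Nat.ble 1162 i)) (Bool.rec (motive := fun _ => List ℕ) (Bool.rec (motive := fun _ => List ℕ) (rw1164) (rw1165) (Nat.ble 1165 i)) (Bool.rec (motive := fun _ => List ℕ) (rw1166) (rw1167) (Nat.ble 1167 i)) (Nat.ble 1166 i)) (Nat.ble 1164 i)) (Nat.ble 1160 i)) (Bool.rec (motive := fun _ => List ℕ) (Bool.rec (motive := fun _ => List ℕ) (Bool.rec (motive := fun _ => List ℕ) (Bool.rec (motive := fun _ => List ℕ) (rw1168) (rw1169) (Nat.ble 1169 i)) (Bool.rec (motive := fun _ => List ℕ) (rw1170) (rw1171) (Nat.ble 1171 i)) (Nat.ble 1170 i)) (Bool.rec (motive := fun _ => List ℕ) (Bool.rec (motive := fun _ => List ℕ) (rw1172) (rw1173) (Nat.ble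 1173 i)) (Bool.rec (motive := fun _ => List ℕ) (rw1174) (rw1175) (Nat.ble 1175 i)) (Nat.ble 1174 i)) (Nat.ble 1172 i)) (Bool.rec (motive := fun _ => List ℕ) (Bool.rec (motive := fun _ => List ℕ) (Bool.rec (motive := fun _ => List ℕ) (rw1176) (rw1177) (Nat.ble 1177 i)) (Bool.rec (motive := fun _ => List ℕ) (rw1178) (rw1179) (Nat.ble 1179 i)) (Nat.ble 1178 i)) (Bool.rec (motive := fun _ => List ℕ) (Bool.rec (motive := fun _ => List ℕ) (rw1180) (rw1181) (Nat.ble 1181 i)) (Bool.rec (motive := fun _ => List ℕ) (rw1182) (rw1183) (Nat.ble 1183 i)) (Nat.ble 1182 i)) (Nat.ble 1180 i)) (Nat.ble 1176 i)) (Nat.ble 1168 i)) (Bool.rec (motive := fun _ => List ℕ) (Bool.rec (motive := fun _ => List ℕ) (Bool.rec (motive := fun _ => List ℕ) (Bool.rec (motive := fun _ => List ℕ) (Bool.rec (motive := fun _ => List ℕ) (rw1184)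 (rw1185) (Nat.ble 1185 i)) (Bool.rec (motive := fun _ => List ℕ) (rw1186) (rw1187) (Nat.ble 1187 i)) (Nat.ble 1186 i)) (Bool.rec (motive := fun _ => List ℕ) (Bool.rec (motive := fun _ => List ℕ) (rw1188) (rw1189) (Nat.ble 1189 i)) (Bool.rec (motive := fun _ => List ℕ) (rw1190) (rw1191) (Nat.ble 1191 i)) (Nat.ble 1190 i)) (Nat.ble 1188 i)) (Bool.rec (motive := fun _ => List ℕ) (Bool.rec (motive := fun _ => List ℕ) (Bool.rec (motive := fun _ => List ℕ) (rw1192) (rw1193) (Nat.ble 1193 i)) (Bool.rec (motive := fun _ => List ℕ) (rw1194) (rw1195) (Nat.ble 1195 i)) (Nat.ble 1194 i)) (Bool.rec (motive := fun _ => List ℕ) (Bool.rec (motive := fun _ => List ℕ) (rw1196) (rw1197) (Nat.ble 1197 i)) (Bool.rec (motive := fun _ => List ℕ) (rw1198) (rw1199) (Nat.ble 1199 i)) (Nat.ble 1198 i)) (Nat.ble 1196 i)) (Nat.ble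 1192 i)) (Bool.rec (motive := fun _ => List ℕ) (Bool.rec (motive := fun _ => List ℕ) (Bool.rec (motive := fun _ => List ℕ) (Bool.rec (motive := fun _ => List ℕ) (rw1200) (rw1201) (Nat.ble 1201 i)) (Bool.rec (motive := fun _ => List ℕ) (rw1202) (rw1203) (Nat.ble 1203 i)) (Nat.ble 1202 i)) (Bool.rec (motive := fun _ => List ℕ) (Bool.rec (motive := fun _ => List ℕ) (rw1204) (rw1205) (Nat.ble 1205 i)) (Bool.rec (motive := fun _ => List ℕ) (rw1206) (rw1207) (Nat.ble 1207 i)) (Nat.ble 1206 i)) (Nat.ble 1204 i)) (Bool.rec (motive := fun _ => List ℕ) (Bool.rec (motive := fun _ => List ℕ) (Bool.rec (motive := fun _ => List ℕ) (rw1208) (rw1209) (Nat.ble 1209 i)) (Bool.rec (motive := fun _ => List ℕ) (rw1210) (rw1211) (Nat.ble 1211 i)) (Nat.ble 1210 i)) (Bool.rec (motive := fun _ => List ℕ) (Bool.rec (motive :=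 fun _ => List ℕ) (rw1212) (rw1213) (Nat.ble 1213 i)) (Bool.rec (motive := fun _ => List ℕ) (rw1214) (rw1215) (Nat.ble 1215 i)) (Nat.ble 1214 i)) (Nat.ble 1212 i)) (Nat.ble 1208 i)) (Nat.ble 1200 i)) (Nat.ble 1184 i)
noncomputable def rwb19 (i : ℕ) : List ℕ := Bool.rec (motive := fun _ => List ℕ) (Bool.rec (motive := fun _ => List ℕ) (Bool.rec (motive := fun _ => List ℕ) (Bool.rec (motive := fun _ => List ℕ) (Bool.rec (motive := fun _ => List ℕ) (Bool.rec (motive := fun _ => List ℕ) (rw1216) (rw1217) (Nat.ble 1217 i)) (Bool.rec (motive := fun _ => List ℕ) (rw1218) (rw1219) (Nat.ble 1219 i)) (Nat.ble 1218 i)) (Bool.rec (motive := fun _ => List ℕ) (Bool.rec (motive := fun _ => List ℕ) (rw1220) (rw1221) (Nat.ble 1221 i)) (Bool.rec (motive := fun _ => List ℕ) (rw1222) (rw1223) (Nat.ble 1223 i)) (Nat.ble 1222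 i)) (Nat.ble 1220 i)) (Bool.rec (motive := fun _ => List ℕ) (Bool.rec (motive := fun _ => List ℕ) (Bool.rec (motive := fun _ => List ℕ) (rw1224) (rw1225) (Nat.ble 1225 i)) (Bool.rec (motive := fun _ => List ℕ) (rw1226) (rw1227) (Nat.ble 1227 i)) (Nat.ble 1226 i)) (Bool.rec (motive := fun _ => List ℕ) (Bool.rec (motive := fun _ => List ℕ) (rw1228) (rw1229) (Nat.ble 1229 i)) (Bool.rec (motive := fun _ => List ℕ) (rw1230) (rw1231) (Nat.ble 1231 i)) (Nat.ble 1230 i)) (Nat.ble 1228 i)) (Nat.ble 1224 i)) (Bool.rec (motive := fun _ => List ℕ) (Bool.rec (motive := fun _ => List ℕ) (Bool.rec (motive := fun _ => List ℕ) (Bool.rec (motive := fun _ => List ℕ) (rw1232) (rw1233) (Nat.ble 1233 i)) (Bool.rec (motive := fun _ => List ℕ) (rw1234) (rw1235) (Nat.ble 1235 i)) (Nat.ble 1234 i)) (Bool.rec (motive := fun _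 => List ℕ) (Bool.rec (motive := fun _ => List ℕ) (rw1236) (rw1237) (Nat.ble 1237 i)) (Bool.rec (motive := fun _ => List ℕ) (rw1238) (rw1239) (Nat.ble 1239 i)) (Nat.ble 1238 i)) (Nat.ble 1236 i)) (Bool.rec (motive := fun _ => List ℕ) (Bool.rec (motive := fun _ => List ℕ) (Bool.rec (motive := fun _ => List ℕ) (rw1240) (rw1241) (Nat.ble 1241 i)) (Bool.rec (motive := fun _ => List ℕ) (rw1242) (rw1243) (Nat.ble 1243 i)) (Nat.ble 1242 i)) (Bool.rec (motive := fun _ => List ℕ) (Bool.rec (motive := fun _ => List ℕ) (rw1244) (rw1245) (Nat.ble 1245 i)) (Bool.rec (motive := fun _ => List ℕ) (rw1246) (rw1247) (Nat.ble 1247 i)) (Nat.ble 1246 i)) (Nat.ble 1244 i)) (Nat.ble 1240 i)) (Nat.ble 1232 i)) (Bool.rec (motive := fun _ => List ℕ) (Bool.rec (motive := fun _ => List ℕ) (Bool.rec (motive := fun _ => List ℕ) (Bool.rec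 (motive := fun _ => List ℕ) (Bool.rec (motive := fun _ => List ℕ) (rw1248) (rw1249) (Nat.ble 1249 i)) (Bool.rec (motive := fun _ => List ℕ) (rw1250) (rw1251) (Nat.ble 1251 i)) (Nat.ble 1250 i)) (Bool.rec (motive := fun _ => List ℕ) (Bool.rec (motive := fun _ => List ℕ) (rw1252) (rw1253) (Nat.ble 1253 i)) (Bool.rec (motive := fun _ => List ℕ) (rw1254) (rw1255) (Nat.ble 1255 i)) (Nat.ble 1254 i)) (Nat.ble 1252 i)) (Bool.rec (motive := fun _ => List ℕ) (Bool.rec (motive := fun _ => List ℕ) (Bool.rec (motive := fun _ => List ℕ) (rw1256) (rw1257) (Nat.ble 1257 i)) (Bool.rec (motive := fun _ => List ℕ) (rw1258) (rw1259) (Nat.ble 1259 i)) (Nat.ble 1258 i)) (Bool.rec (motive := fun _ => List ℕ) (Bool.rec (motive := fun _ => List ℕ) (rw1260) (rw1261) (Nat.ble 1261 i)) (Bool.rec (motive := fun _ => List ℕ) (rw1262)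 (rw1263) (Nat.ble 1263 i)) (Nat.ble 1262 i)) (Nat.ble 1260 i)) (Nat.ble 1256 i)) (Bool.rec (motive := fun _ => List ℕ) (Bool.rec (motive := fun _ => List ℕ) (Bool.rec (motive := fun _ => List ℕ) (Bool.rec (motive := fun _ => List ℕ) (rw1264) (rw1265) (Nat.ble 1265 i)) (Bool.rec (motive := fun _ => List ℕ) (rw1266) (rw1267) (Nat.ble 1267 i)) (Nat.ble 1266 i)) (Bool.rec (motive := fun _ => List ℕ) (Bool.rec (motive := fun _ => List ℕ) (rw1268) (rw1269) (Nat.ble 1269 i)) (Bool.rec (motive := fun _ => List ℕ) (rw1270) (rw1271) (Nat.ble 1271 i)) (Nat.ble 1270 i)) (Nat.ble 1268 i)) (Bool.rec (motive := fun _ => List ℕ) (Bool.rec (motive := fun _ => List ℕ) (Bool.rec (motive := fun _ => List ℕ) (rw1272) (rw1273) (Nat.ble 1273 i)) (Bool.rec (motive := fun _ => List ℕ) (rw1274) (rw1275) (Nat.ble 1275 i)) (Nat.ble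 1274 i)) (Bool.rec (motive := fun _ => List ℕ) (Bool.rec (motive := fun _ => List ℕ) (rw1276) (rw1277) (Nat.ble 1277 i)) (Bool.rec (motive := fun _ => List ℕ) (rw1278) (rw1279) (Nat.ble 1279 i)) (Nat.ble 1278 i)) (Nat.ble 1276 i)) (Nat.ble 1272 i)) (Nat.ble 1264 i)) (Nat.ble 1248 i)
noncomputable def rwb20 (i : ℕ) : List ℕ := Bool.rec (motive := fun _ => List ℕ) (Bool.rec (motive := fun _ => List ℕ) (Bool.rec (motive := fun _ => List ℕ) (Bool.rec (motive := fun _ => List ℕ) (Bool.rec (motive := fun _ => List ℕ) (Bool.rec (motive := fun _ => List ℕ) (rw1280) (rw1281) (Nat.ble 1281 i)) (Bool.rec (motive := fun _ => List ℕ) (rw1282) (rw1283) (Nat.ble 1283 i)) (Nat.ble 1282 i)) (Bool.rec (motive := fun _ => List ℕ) (Bool.rec (motive := fun _ => List ℕ) (rw1284) (rw1285) (Nat.ble 1285 i)) (Bool.rec (motive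 := fun _ => List ℕ) (rw1286) (rw1287) (Nat.ble 1287 i)) (Nat.ble 1286 i)) (Nat.ble 1284 i)) (Bool.rec (motive := fun _ => List ℕ) (Bool.rec (motive := fun _ => List ℕ) (Bool.rec (motive := fun _ => List ℕ) (rw1288) (rw1289) (Nat.ble 1289 i)) (Bool.rec (motive := fun _ => List ℕ) (rw1290) (rw1291) (Nat.ble 1291 i)) (Nat.ble 1290 i)) (Bool.rec (motive := fun _ => List ℕ) (Bool.rec (motive := fun _ => List ℕ) (rw1292) (rw1293) (Nat.ble 1293 i)) (Bool.rec (motive := fun _ => List ℕ) (rw1294) (rw1295) (Nat.ble 1295 i)) (Nat.ble 1294 i)) (Nat.ble 1292 i)) (Nat.ble 1288 i)) (Bool.rec (motive := fun _ => List ℕ) (Bool.rec (motive := fun _ => List ℕ) (Bool.rec (motive := fun _ => List ℕ) (Bool.rec (motive := fun _ => List ℕ) (rw1296) (rw1297) (Nat.ble 1297 i)) (Bool.rec (motive := fun _ => List ℕ) (rw1298) (rw1299)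 (Nat.ble 1299 i)) (Nat.ble 1298 i)) (Bool.rec (motive := fun _ => List ℕ) (Bool.rec (motive := fun _ => List ℕ) (rw1300) (rw1301) (Nat.ble 1301 i)) (Bool.rec (motive := fun _ => List ℕ) (rw1302) (rw1303) (Nat.ble 1303 i)) (Nat.ble 1302 i)) (Nat.ble 1300 i)) (Bool.rec (motive := fun _ => List ℕ) (Bool.rec (motive := fun _ => List ℕ) (Bool.rec (motive := fun _ => List ℕ) (rw1304) (rw1305) (Nat.ble 1305 i)) (Bool.rec (motive := fun _ => List ℕ) (rw1306) (rw1307) (Nat.ble 1307 i)) (Nat.ble 1306 i)) (Bool.rec (motive := fun _ => List ℕ) (Bool.rec (motive := fun _ => List ℕ) (rw1308) (rw1309) (Nat.ble 1309 i)) (Bool.rec (motive := fun _ => List ℕ) (rw1310) (rw1311) (Nat.ble 1311 i)) (Nat.ble 1310 i)) (Nat.ble 1308 i)) (Nat.ble 1304 i)) (Nat.ble 1296 i)) (Bool.rec (motive := fun _ => List ℕ) (Bool.rec (motive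 := fun _ => List ℕ) (Bool.rec (motive := fun _ => List ℕ) (Bool.rec (motive := fun _ => List ℕ) (Bool.rec (motive := fun _ => List ℕ) (rw1312) (rw1313) (Nat.ble 1313 i)) (Bool.rec (motive := fun _ => List ℕ) (rw1314) (rw1315) (Nat.ble 1315 i)) (Nat.ble 1314 i)) (Bool.rec (motive := fun _ => List ℕ) (Bool.rec (motive := fun _ => List ℕ) (rw1316) (rw1317) (Nat.ble 1317 i)) (Bool.rec (motive := fun _ => List ℕ) (rw1318) (rw1319) (Nat.ble 1319 i)) (Nat.ble 1318 i)) (Nat.ble 1316 i)) (Bool.rec (motive := fun _ => List ℕ) (Bool.rec (motive := fun _ => List ℕ) (Bool.rec (motive := fun _ => List ℕ) (rw1320) (rw1321) (Nat.ble 1321 i)) (Bool.rec (motive := fun _ => List ℕ) (rw1322) (rw1323) (Nat.ble 1323 i)) (Nat.ble 1322 i)) (Bool.rec (motive := fun _ => List ℕ) (Bool.rec (motive := fun _ => List ℕ) (rw1324)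 (rw1325) (Nat.ble 1325 i)) (Bool.rec (motive := fun _ => List ℕ) (rw1326) (rw1327) (Nat.ble 1327 i)) (Nat.ble 1326 i)) (Nat.ble 1324 i)) (Nat.ble 1320 i)) (Bool.rec (motive := fun _ => List ℕ) (Bool.rec (motive := fun _ => List ℕ) (Bool.rec (motive := fun _ => List ℕ) (Bool.rec (motive := fun _ => List ℕ) (rw1328) (rw1329) (Nat.ble 1329 i)) (Bool.rec (motive := fun _ => List ℕ) (rw1330) (rw1331) (Nat.ble 1331 i)) (Nat.ble 1330 i)) (Bool.rec (motive := fun _ => List ℕ) (Bool.rec (motive := fun _ => List ℕ) (rw1332) (rw1333) (Nat.ble 1333 i)) (Bool.rec (motive := fun _ => List ℕ) (rw1334) (rw1335) (Nat.ble 1335 i)) (Nat.ble 1334 i)) (Nat.ble 1332 i)) (Bool.rec (motive := fun _ => List ℕ) (Bool.rec (motive := fun _ => List ℕ) (Bool.rec (motive := fun _ => List ℕ) (rw1336) (rw1337) (Nat.ble 1337 i)) (Bool.rec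 (motive := fun _ => List ℕ) (rw1338) (rw1339) (Nat.ble 1339 i)) (Nat.ble 1338 i)) (Bool.rec (motive := fun _ => List ℕ) (Bool.rec (motive := fun _ => List ℕ) (rw1340) (rw1341) (Nat.ble 1341 i)) (Bool.rec (motive := fun _ => List ℕ) (rw1342) (rw1343) (Nat.ble 1343 i)) (Nat.ble 1342 i)) (Nat.ble 1340 i)) (Nat.ble 1336 i)) (Nat.ble 1328 i)) (Nat.ble 1312 i)
noncomputable def rwb21 (i : ℕ) : List ℕ := Bool.rec (motive := fun _ => List ℕ) (Bool.rec (motive := fun _ => List ℕ) (Bool.rec (motive := fun _ => List ℕ) (Bool.rec (motive := fun _ => List ℕ) (Bool.rec (motive := fun _ => List ℕ) (Bool.rec (motive := fun _ => List ℕ) (rw1344) (rw1345) (Nat.ble 1345 i)) (Bool.rec (motive := fun _ => List ℕ) (rw1346) (rw1347) (Nat.ble 1347 i)) (Nat.ble 1346 i)) (Bool.rec (motive := fun _ => List ℕ) (Bool.rec (motive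 := fun _ => List ℕ) (rw1348) (rw1349) (Nat.ble 1349 i)) (Bool.rec (motive := fun _ => List ℕ) (rw1350) (rw1351) (Nat.ble 1351 i)) (Nat.ble 1350 i)) (Nat.ble 1348 i)) (Bool.rec (motive := fun _ => List ℕ) (Bool.rec (motive := fun _ => List ℕ) (Bool.rec (motive := fun _ => List ℕ) (rw1352) (rw1353) (Nat.ble 1353 i)) (Bool.rec (motive := fun _ => List ℕ) (rw1354) (rw1355) (Nat.ble 1355 i)) (Nat.ble 1354 i)) (Bool.rec (motive := fun _ => List ℕ) (Bool.rec (motive := fun _ => List ℕ) (rw1356) (rw1357) (Nat.ble 1357 i)) (Bool.rec (motive := fun _ => List ℕ) (rw1358) (rw1359) (Nat.ble 1359 i)) (Nat.ble 1358 i)) (Nat.ble 1356 i)) (Nat.ble 1352 i)) (Bool.rec (motive := fun _ => List ℕ) (Bool.rec (motive := fun _ => List ℕ) (Bool.rec (motive := fun _ => List ℕ) (Bool.rec (motive := fun _ => List ℕ) (rw1360) (rw1361)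 (Nat.ble 1361 i)) (Bool.rec (motive := fun _ => List ℕ) (rw1362) (rw1363) (Nat.ble 1363 i)) (Nat.ble 1362 i)) (Bool.rec (motive := fun _ => List ℕ) (Bool.rec (motive := fun _ => List ℕ) (rw1364) (rw1365) (Nat.ble 1365 i)) (Bool.rec (motive := fun _ => List ℕ) (rw1366) (rw1367) (Nat.ble 1367 i)) (Nat.ble 1366 i)) (Nat.ble 1364 i)) (Bool.rec (motive := fun _ => List ℕ) (Bool.rec (motive := fun _ => List ℕ) (Bool.rec (motive := fun _ => List ℕ) (rw1368) (rw1369) (Nat.ble 1369 i)) (Bool.rec (motive := fun _ => List ℕ) (rw1370) (rw1371) (Nat.ble 1371 i)) (Nat.ble 1370 i)) (Bool.rec (motive := fun _ => List ℕ) (Bool.rec (motive := fun _ => List ℕ) (rw1372) (rw1373) (Nat.ble 1373 i)) (Bool.rec (motive := fun _ => List ℕ) (rw1374) (rw1375) (Nat.ble 1375 i)) (Nat.ble 1374 i)) (Nat.ble 1372 i)) (Nat.ble 1368 i))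 (Nat.ble 1360 i)) (Bool.rec (motive := fun _ => List ℕ) (Bool.rec (motive := fun _ => List ℕ) (Bool.rec (motive := fun _ => List ℕ) (Bool.rec (motive := fun _ => List ℕ) (Bool.rec (motive := fun _ => List ℕ) (rw1376) (rw1377) (Nat.ble 1377 i)) (Bool.rec (motive := fun _ => List ℕ) (rw1378) (rw1379) (Nat.ble 1379 i)) (Nat.ble 1378 i)) (Bool.rec (motive := fun _ => List ℕ) (Bool.rec (motive := fun _ => List ℕ) (rw1380) (rw1381) (Nat.ble 1381 i)) (Bool.rec (motive := fun _ => List ℕ) (rw1382) (rw1383) (Nat.ble 1383 i)) (Nat.ble 1382 i)) (Nat.ble 1380 i)) (Bool.rec (motive := fun _ => List ℕ) (Bool.rec (motive := fun _ => List ℕ) (Bool.rec (motive := fun _ => List ℕ) (rw1384) (rw1385) (Nat.ble 1385 i)) (Bool.rec (motive := fun _ => List ℕ) (rw1386) (rw1387) (Nat.ble 1387 i)) (Nat.ble 1386 i)) (Bool.rec (motive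 := fun _ => List ℕ) (Bool.rec (motive := fun _ => List ℕ) (rw1388) (rw1389) (Nat.ble 1389 i)) (Bool.rec (motive := fun _ => List ℕ) (rw1390) (rw1391) (Nat.ble 1391 i)) (Nat.ble 1390 i)) (Nat.ble 1388 i)) (Nat.ble 1384 i)) (Bool.rec (motive := fun _ => List ℕ) (Bool.rec (motive := fun _ => List ℕ) (Bool.rec (motive := fun _ => List ℕ) (Bool.rec (motive := fun _ => List ℕ) (rw1392) (rw1393) (Nat.ble 1393 i)) (Bool.rec (motive := fun _ => List ℕ) (rw1394) (rw1395) (Nat.ble 1395 i)) (Nat.ble 1394 i)) (Bool.rec (motive := fun _ => List ℕ) (Bool.rec (motive := fun _ => List ℕ) (rw1396) (rw1397) (Nat.ble 1397 i)) (Bool.rec (motive := fun _ => List ℕ) (rw1398) (rw1399) (Nat.ble 1399 i)) (Nat.ble 1398 i)) (Nat.ble 1396 i)) (Bool.rec (motive := fun _ => List ℕ) (Bool.rec (motive := fun _ => List ℕ) (Bool.rec (motive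 := fun _ => List ℕ) (rw1400) (rw1401) (Nat.ble 1401 i)) (Bool.rec (motive := fun _ => List ℕ) (rw1402) (rw1403) (Nat.ble 1403 i)) (Nat.ble 1402 i)) (Bool.rec (motive := fun _ => List ℕ) (Bool.rec (motive := fun _ => List ℕ) (rw1404) (rw1405) (Nat.ble 1405 i)) (Bool.rec (motive := fun _ => List ℕ) (rw1406) (rw1407) (Nat.ble 1407 i)) (Nat.ble 1406 i)) (Nat.ble 1404 i)) (Nat.ble 1400 i)) (Nat.ble 1392 i)) (Nat.ble 1376 i)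
noncomputable def rwb22 (i : ℕ) : List ℕ := Bool.rec (motive := fun _ => List ℕ) (Bool.rec (motive := fun _ => List ℕ) (Bool.rec (motive := fun _ => List ℕ) (Bool.rec (motive := fun _ => List ℕ) (Bool.rec (motive := fun _ => List ℕ) (Bool.rec (motive := fun _ => List ℕ) (rw1408) (rw1409) (Nat.ble 1409 i)) (Bool.rec (motive := fun _ => List ℕ) (rw1410) (rw1411) (Nat.ble 1411 i)) (Nat.ble 1410 i)) (Bool.rec (motive := fun _ => List ℕ) (Bool.rec (motive := fun _ => List ℕ) (rw1412) (rw1413) (Nat.ble 1413 i)) (Bool.rec (motive := fun _ => List ℕ) (rw1414) (rw1415) (Nat.ble 1415 i)) (Nat.ble 1414 i)) (Nat.ble 1412 i)) (Bool.rec (motive := fun _ => List ℕ) (Bool.rec (motive := fun _ => List ℕ) (Bool.rec (motive := fun _ => List ℕ) (rw1416) (rw1417) (Nat.ble 1417 i)) (Bool.rec (motive := fun _ => List ℕ) (rw1418)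 (rw1419) (Nat.ble 1419 i)) (Nat.ble 1418 i)) (Bool.rec (motive := fun _ => List ℕ) (Bool.rec (motive := fun _ => List ℕ) (rw1420) (rw1421) (Nat.ble 1421 i)) (Bool.rec (motive := fun _ => List ℕ) (rw1422) (rw1423) (Nat.ble 1423 i)) (Nat.ble 1422 i)) (Nat.ble 1420 i)) (Nat.ble 1416 i)) (Bool.rec (motive := fun _ => List ℕ) (Bool.rec (motive := fun _ => List ℕ) (Bool.rec (motive := fun _ => List ℕ) (Bool.rec (motive := fun _ => List ℕ) (rw1424) (rw1425) (Nat.ble 1425 i)) (Bool.rec (motive := fun _ => List ℕ) (rw1426) (rw1427) (Nat.ble 1427 i)) (Nat.ble 1426 i)) (Bool.rec (motive := fun _ => List ℕ) (Bool.rec (motive := fun _ => List ℕ) (rw1428) (rw1429) (Nat.ble 1429 i)) (Bool.rec (motive := fun _ => List ℕ) (rw1430) (rw1431) (Nat.ble 1431 i)) (Nat.ble 1430 i)) (Nat.ble 1428 i)) (Bool.rec (motive := fun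 _ => List ℕ) (Bool.rec (motive := fun _ => List ℕ) (Bool.rec (motive := fun _ => List ℕ) (rw1432) (rw1433) (Nat.ble 1433 i)) (Bool.rec (motive := fun _ => List ℕ) (rw1434) (rw1435) (Nat.ble 1435 i)) (Nat.ble 1434 i)) (Bool.rec (motive := fun _ => List ℕ) (Bool.rec (motive := fun _ => List ℕ) (rw1436) (rw1437) (Nat.ble 1437 i)) (Bool.rec (motive := fun _ => List ℕ) (rw1438) (rw1439) (Nat.ble 1439 i)) (Nat.ble 1438 i)) (Nat.ble 1436 i)) (Nat.ble 1432 i)) (Nat.ble 1424 i)) (Bool.rec (motive := fun _ => List ℕ) (Bool.rec (motive := fun _ => List ℕ) (Bool.rec (motive := fun _ => List ℕ) (Bool.rec (motive := fun _ => List ℕ) (Bool.rec (motive := fun _ => List ℕ) (rw1440) (rw1441) (Nat.ble 1441 i)) (Bool.rec (motive := fun _ => List ℕ) (rw1442) (rw1443) (Nat.ble 1443 i)) (Nat.ble 1442 i)) (Bool.rec (motive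 := fun _ => List ℕ) (Bool.rec (motive := fun _ => List ℕ) (rw1444) (rw1445) (Nat.ble 1445 i)) (Bool.rec (motive := fun _ => List ℕ) (rw1446) (rw1447) (Nat.ble 1447 i)) (Nat.ble 1446 i)) (Nat.ble 1444 i)) (Bool.rec (motive := fun _ => List ℕ) (Bool.rec (motive := fun _ => List ℕ) (Bool.rec (motive := fun _ => List ℕ) (rw1448) (rw1449) (Nat.ble 1449 i)) (Bool.rec (motive := fun _ => List ℕ) (rw1450) (rw1451) (Nat.ble 1451 i)) (Nat.ble 1450 i)) (Bool.rec (motive := fun _ => List ℕ) (Bool.rec (motive := fun _ => List ℕ) (rw1452) (rw1453) (Nat.ble 1453 i)) (Bool.rec (motive := fun _ => List ℕ) (rw1454) (rw1455) (Nat.ble 1455 i)) (Nat.ble 1454 i)) (Nat.ble 1452 i)) (Nat.ble 1448 i)) (Bool.rec (motive := fun _ => List ℕ) (Bool.rec (motive := fun _ => List ℕ) (Bool.rec (motive := fun _ => List ℕ) (Bool.rec (motive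 := fun _ => List ℕ) (rw1456) (rw1457) (Nat.ble 1457 i)) (Bool.rec (motive := fun _ => List ℕ) (rw1458) (rw1459) (Nat.ble 1459 i)) (Nat.ble 1458 i)) (Bool.rec (motive := fun _ => List ℕ) (Bool.rec (motive := fun _ => List ℕ) (rw1460) (rw1461) (Nat.ble 1461 i)) (Bool.rec (motive := fun _ => List ℕ) (rw1462) (rw1463) (Nat.ble 1463 i)) (Nat.ble 1462 i)) (Nat.ble 1460 i)) (Bool.rec (motive := fun _ => List ℕ) (Bool.rec (motive := fun _ => List ℕ) (Bool.rec (motive := fun _ => List ℕ) (rw1464) (rw1465) (Nat.ble 1465 i)) (Bool.rec (motive := fun _ => List ℕ) (rw1466) (rw1467) (Nat.ble 1467 i)) (Nat.ble 1466 i)) (Bool.rec (motive := fun _ => List ℕ) (Bool.rec (motive := fun _ => List ℕ) (rw1468) (rw1469) (Nat.ble 1469 i)) (Bool.rec (motive := fun _ => List ℕ) (rw1470) (rw1471) (Nat.ble 1471 i)) (Nat.ble 1470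 i)) (Nat.ble 1468 i)) (Nat.ble 1464 i)) (Nat.ble 1456 i)) (Nat.ble 1440 i)
noncomputable def rwb23 (i : ℕ) : List ℕ := Bool.rec (motive := fun _ => List ℕ) (Bool.rec (motive := fun _ => List ℕ) (Bool.rec (motive := fun _ => List ℕ) (Bool.rec (motive := fun _ => List ℕ) (Bool.rec (motive := fun _ => List ℕ) (Bool.rec (motive := fun _ => List ℕ) (rw1472) (rw1473) (Nat.ble 1473 i)) (Bool.rec (motive := fun _ => List ℕ) (rw1474) (rw1475) (Nat.ble 1475 i)) (Nat.ble 1474 i)) (Bool.rec (motive := fun _ => List ℕ) (Bool.rec (motive := fun _ => List ℕ) (rw1476) (rw1477) (Nat.ble 1477 i)) (Bool.rec (motive := fun _ => List ℕ) (rw1478) (rw1479) (Nat.ble 1479 i)) (Nat.ble 1478 i)) (Nat.ble 1476 i)) (Bool.rec (motive := fun _ => List ℕ) (Bool.rec (motive := fun _ => List ℕ) (Bool.rec (motive := fun _ => List ℕ) (rw1480)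 (rw1481) (Nat.ble 1481 i)) (Bool.rec (motive := fun _ => List ℕ) (rw1482) (rw1483) (Nat.ble 1483 i)) (Nat.ble 1482 i)) (Bool.rec (motive := fun _ => List ℕ) (Bool.rec (motive := fun _ => List ℕ) (rw1484) (rw1485) (Nat.ble 1485 i)) (Bool.rec (motive := fun _ => List ℕ) (rw1486) (rw1487) (Nat.ble 1487 i)) (Nat.ble 1486 i)) (Nat.ble 1484 i)) (Nat.ble 1480 i)) (Bool.rec (motive := fun _ => List ℕ) (Bool.rec (motive := fun _ => List ℕ) (Bool.rec (motive := fun _ => List ℕ) (Bool.rec (motive := fun _ => List ℕ) (rw1488) (rw1489) (Nat.ble 1489 i)) (Bool.rec (motive := fun _ => List ℕ) (rw1490) (rw1491) (Nat.ble 1491 i)) (Nat.ble 1490 i)) (Bool.rec (motive := fun _ => List ℕ) (Bool.rec (motive := fun _ => List ℕ) (rw1492) (rw1493) (Nat.ble 1493 i)) (Bool.rec (motive := fun _ => List ℕ) (rw1494) (rw1495) (Nat.ble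 1495 i)) (Nat.ble 1494 i)) (Nat.ble 1492 i)) (Bool.rec (motive := fun _ => List ℕ) (Bool.rec (motive := fun _ => List ℕ) (Bool.rec (motive := fun _ => List ℕ) (rw1496) (rw1497) (Nat.ble 1497 i)) (Bool.rec (motive := fun _ => List ℕ) (rw1498) (rw1499) (Nat.ble 1499 i)) (Nat.ble 1498 i)) (Bool.rec (motive := fun _ => List ℕ) (Bool.rec (motive := fun _ => List ℕ) (rw1500) (rw1501) (Nat.ble 1501 i)) (Bool.rec (motive := fun _ => List ℕ) (rw1502) (rw1503) (Nat.ble 1503 i)) (Nat.ble 1502 i)) (Nat.ble 1500 i)) (Nat.ble 1496 i)) (Nat.ble 1488 i)) (Bool.rec (motive := fun _ => List ℕ) (Bool.rec (motive := fun _ => List ℕ) (Bool.rec (motive := fun _ => List ℕ) (Bool.rec (motive := fun _ => List ℕ) (Bool.rec (motive := fun _ => List ℕ) (rw1504) (rw1505) (Nat.ble 1505 i)) (Bool.rec (motive := fun _ => List ℕ) (rw1506)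 (rw1507) (Nat.ble 1507 i)) (Nat.ble 1506 i)) (Bool.rec (motive := fun _ => List ℕ) (Bool.rec (motive := fun _ => List ℕ) (rw1508) (rw1509) (Nat.ble 1509 i)) (Bool.rec (motive := fun _ => List ℕ) (rw1510) (rw1511) (Nat.ble 1511 i)) (Nat.ble 1510 i)) (Nat.ble 1508 i)) (Bool.rec (motive := fun _ => List ℕ) (Bool.rec (motive := fun _ => List ℕ) (Bool.rec (motive := fun _ => List ℕ) (rw1512) (rw1513) (Nat.ble 1513 i)) (Bool.rec (motive := fun _ => List ℕ) (rw1514) (rw1515) (Nat.ble 1515 i)) (Nat.ble 1514 i)) (Bool.rec (motive := fun _ => List ℕ) (Bool.rec (motive := fun _ => List ℕ) (rw1516) (rw1517) (Nat.ble 1517 i)) (Bool.rec (motive := fun _ => List ℕ) (rw1518) (rw1519) (Nat.ble 1519 i)) (Nat.ble 1518 i)) (Nat.ble 1516 i)) (Nat.ble 1512 i)) (Bool.rec (motive := fun _ => List ℕ) (Bool.rec (motive := fun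 _ => List ℕ) (Bool.rec (motive := fun _ => List ℕ) (Bool.rec (motive := fun _ => List ℕ) (rw1520) (rw1521) (Nat.ble 1521 i)) (Bool.rec (motive := fun _ => List ℕ) (rw1522) (rw1523) (Nat.ble 1523 i)) (Nat.ble 1522 i)) (Bool.rec (motive := fun _ => List ℕ) (Bool.rec (motive := fun _ => List ℕ) (rw1524) (rw1525) (Nat.ble 1525 i)) (Bool.rec (motive := fun _ => List ℕ) (rw1526) (rw1527) (Nat.ble 1527 i)) (Nat.ble 1526 i)) (Nat.ble 1524 i)) (Bool.rec (motive := fun _ => List ℕ) (Bool.rec (motive := fun _ => List ℕ) (Bool.rec (motive := fun _ => List ℕ) (rw1528) (rw1529) (Nat.ble 1529 i)) (Bool.rec (motive := fun _ => List ℕ) (rw1530) (rw1531) (Nat.ble 1531 i)) (Nat.ble 1530 i)) (Bool.rec (motive := fun _ => List ℕ) (Bool.rec (motive := fun _ => List ℕ) (rw1532) (rw1533) (Nat.ble 1533 i)) (Bool.rec (motive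 := fun _ => List ℕ) (rw1534) (rw1535) (Nat.ble 1535 i)) (Nat.ble 1534 i)) (Nat.ble 1532 i)) (Nat.ble 1528 i)) (Nat.ble 1520 i)) (Nat.ble 1504 i)
noncomputable def rwb24 (i : ℕ) : List ℕ := Bool.rec (motive := fun _ => List ℕ) (Bool.rec (motive := fun _ => List ℕ) (Bool.rec (motive := fun _ => List ℕ) (Bool.rec (motive := fun _ => List ℕ) (Bool.rec (motive := fun _ => List ℕ) (Bool.rec (motive := fun _ => List ℕ) (rw1536) (rw1537) (Nat.ble 1537 i)) (Bool.rec (motive := fun _ => List ℕ) (rw1538) (rw1539) (Nat.ble 1539 i)) (Nat.ble 1538 i)) (Bool.rec (motive := fun _ => List ℕ) (Bool.rec (motive := fun _ => List ℕ) (rw1540) (rw1541) (Nat.ble 1541 i)) (Bool.rec (motive := fun _ => List ℕ) (rw1542) (rw1543) (Nat.ble 1543 i)) (Nat.ble 1542 i)) (Nat.ble 1540 i)) (Bool.rec (motive := fun _ => List ℕ) (Bool.rec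 (motive := fun _ => List ℕ) (Bool.rec (motive := fun _ => List ℕ) (rw1544) (rw1545) (Nat.ble 1545 i)) (Bool.rec (motive := fun _ => List ℕ) (rw1546) (rw1547) (Nat.ble 1547 i)) (Nat.ble 1546 i)) (Bool.rec (motive := fun _ => List ℕ) (Bool.rec (motive := fun _ => List ℕ) (rw1548) (rw1549) (Nat.ble 1549 i)) (Bool.rec (motive := fun _ => List ℕ) (rw1550) (rw1551) (Nat.ble 1551 i)) (Nat.ble 1550 i)) (Nat.ble 1548 i)) (Nat.ble 1544 i)) (Bool.rec (motive := fun _ => List ℕ) (Bool.rec (motive := fun _ => List ℕ) (Bool.rec (motive := fun _ => List ℕ) (Bool.rec (motive := fun _ => List ℕ) (rw1552) (rw1553) (Nat.ble 1553 i)) (Bool.rec (motive := fun _ => List ℕ) (rw1554) (rw1555) (Nat.ble 1555 i)) (Nat.ble 1554 i)) (Bool.rec (motive := fun _ => List ℕ) (Bool.rec (motive := fun _ => List ℕ) (rw1556) (rw1557) (Nat.ble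 1557 i)) (Bool.rec (motive := fun _ => List ℕ) (rw1558) (rw1559) (Nat.ble 1559 i)) (Nat.ble 1558 i)) (Nat.ble 1556 i)) (Bool.rec (motive := fun _ => List ℕ) (Bool.rec (motive := fun _ => List ℕ) (Bool.rec (motive := fun _ => List ℕ) (rw1560) (rw1561) (Nat.ble 1561 i)) (Bool.rec (motive := fun _ => List ℕ) (rw1562) (rw1563) (Nat.ble 1563 i)) (Nat.ble 1562 i)) (Bool.rec (motive := fun _ => List ℕ) (Bool.rec (motive := fun _ => List ℕ) (rw1564) (rw1565) (Nat.ble 1565 i)) (Bool.rec (motive := fun _ => List ℕ) (rw1566) (rw1567) (Nat.ble 1567 i)) (Nat.ble 1566 i)) (Nat.ble 1564 i)) (Nat.ble 1560 i)) (Nat.ble 1552 i)) (Bool.rec (motive := fun _ => List ℕ) (Bool.rec (motive := fun _ => List ℕ) (Bool.rec (motive := fun _ => List ℕ) (Bool.rec (motive := fun _ => List ℕ) (Bool.rec (motive := fun _ => List ℕ) (rw1568)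 (rw1569) (Nat.ble 1569 i)) (Bool.rec (motive := fun _ => List ℕ) (rw1570) (rw1571) (Nat.ble 1571 i)) (Nat.ble 1570 i)) (Bool.rec (motive := fun _ => List ℕ) (Bool.rec (motive := fun _ => List ℕ) (rw1572) (rw1573) (Nat.ble 1573 i)) (Bool.rec (motive := fun _ => List ℕ) (rw1574) (rw1575) (Nat.ble 1575 i)) (Nat.ble 1574 i)) (Nat.ble 1572 i)) (Bool.rec (motive := fun _ => List ℕ) (Bool.rec (motive := fun _ => List ℕ) (Bool.rec (motive := fun _ => List ℕ) (rw1576) (rw1577) (Nat.ble 1577 i)) (Bool.rec (motive := fun _ => List ℕ) (rw1578) (rw1579) (Nat.ble 1579 i)) (Nat.ble 1578 i)) (Bool.rec (motive := fun _ => List ℕ) (Bool.rec (motive := fun _ => List ℕ) (rw1580) (rw1581) (Nat.ble 1581 i)) (Bool.rec (motive := fun _ => List ℕ) (rw1582) (rw1583) (Nat.ble 1583 i)) (Nat.ble 1582 i)) (Nat.ble 1580 i)) (Nat.ble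 1576 i)) (Bool.rec (motive := fun _ => List ℕ) (Bool.rec (motive := fun _ => List ℕ) (Bool.rec (motive := fun _ => List ℕ) (Bool.rec (motive := fun _ => List ℕ) (rw1584) (rw1585) (Nat.ble 1585 i)) (Bool.rec (motive := fun _ => List ℕ) (rw1586) (rw1587) (Nat.ble 1587 i)) (Nat.ble 1586 i)) (Bool.rec (motive := fun _ => List ℕ) (Bool.rec (motive := fun _ => List ℕ) (rw1588) (rw1589) (Nat.ble 1589 i)) (Bool.rec (motive := fun _ => List ℕ) (rw1590) (rw1591) (Nat.ble 1591 i)) (Nat.ble 1590 i)) (Nat.ble 1588 i)) (Bool.rec (motive := fun _ => List ℕ) (Bool.rec (motive := fun _ => List ℕ) (Bool.rec (motive := fun _ => List ℕ) (rw1592) (rw1593) (Nat.ble 1593 i)) (Bool.rec (motive := fun _ => List ℕ) (rw1594) (rw1595) (Nat.ble 1595 i)) (Nat.ble 1594 i)) (Bool.rec (motive := fun _ => List ℕ) (Bool.rec (motive :=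 fun _ => List ℕ) (rw1596) (rw1597) (Nat.ble 1597 i)) (Bool.rec (motive := fun _ => List ℕ) (rw1598) (rw1599) (Nat.ble 1599 i)) (Nat.ble 1598 i)) (Nat.ble 1596 i)) (Nat.ble 1592 i)) (Nat.ble 1584 i)) (Nat.ble 1568 i)
noncomputable def rwb25 (i : ℕ) : List ℕ := Bool.rec (motive := fun _ => List ℕ) (Bool.rec (motive := fun _ => List ℕ) (Bool.rec (motive := fun _ => List ℕ) (Bool.rec (motive := fun _ => List ℕ) (Bool.rec (motive := fun _ => List ℕ) (Bool.rec (motive := fun _ => List ℕ) (rw1600) (rw1601) (Nat.ble 1601 i)) (Bool.rec (motive := fun _ => List ℕ) (rw1602) (rw1603) (Nat.ble 1603 i)) (Nat.ble 1602 i)) (Bool.rec (motive := fun _ => List ℕ) (Bool.rec (motive := fun _ => List ℕ) (rw1604) (rw1605) (Nat.ble 1605 i)) (Bool.rec (motive := fun _ => List ℕ) (rw1606) (rw1607) (Nat.ble 1607 i)) (Nat.ble 1606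 i)) (Nat.ble 1604 i)) (Bool.rec (motive := fun _ => List ℕ) (Bool.rec (motive := fun _ => List ℕ) (Bool.rec (motive := fun _ => List ℕ) (rw1608) (rw1609) (Nat.ble 1609 i)) (Bool.rec (motive := fun _ => List ℕ) (rw1610) (rw1611) (Nat.ble 1611 i)) (Nat.ble 1610 i)) (Bool.rec (motive := fun _ => List ℕ) (Bool.rec (motive := fun _ => List ℕ) (rw1612) (rw1613) (Nat.ble 1613 i)) (Bool.rec (motive := fun _ => List ℕ) (rw1614) (rw1615) (Nat.ble 1615 i)) (Nat.ble 1614 i)) (Nat.ble 1612 i)) (Nat.ble 1608 i)) (Bool.rec (motive := fun _ => List ℕ) (Bool.rec (motive := fun _ => List ℕ) (Bool.rec (motive := fun _ => List ℕ) (Bool.rec (motive := fun _ => List ℕ) (rw1616) (rw1617) (Nat.ble 1617 i)) (Bool.rec (motive := fun _ => List ℕ) (rw1618) (rw1619) (Nat.ble 1619 i)) (Nat.ble 1618 i)) (Bool.rec (motive := fun _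 => List ℕ) (Bool.rec (motive := fun _ => List ℕ) (rw1620) (rw1621) (Nat.ble 1621 i)) (Bool.rec (motive := fun _ => List ℕ) (rw1622) (rw1623) (Nat.ble 1623 i)) (Nat.ble 1622 i)) (Nat.ble 1620 i)) (Bool.rec (motive := fun _ => List ℕ) (Bool.rec (motive := fun _ => List ℕ) (Bool.rec (motive := fun _ => List ℕ) (rw1624) (rw1625) (Nat.ble 1625 i)) (Bool.rec (motive := fun _ => List ℕ) (rw1626) (rw1627) (Nat.ble 1627 i)) (Nat.ble 1626 i)) (Bool.rec (motive := fun _ => List ℕ) (Bool.rec (motive := fun _ => List ℕ) (rw1628) (rw1629) (Nat.ble 1629 i)) (Bool.rec (motive := fun _ => List ℕ) (rw1630) (rw1631) (Nat.ble 1631 i)) (Nat.ble 1630 i)) (Nat.ble 1628 i)) (Nat.ble 1624 i)) (Nat.ble 1616 i)) (Bool.rec (motive := fun _ => List ℕ) (Bool.rec (motive := fun _ => List ℕ) (Bool.rec (motive := fun _ => List ℕ) (Bool.rec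 (motive := fun _ => List ℕ) (Bool.rec (motive := fun _ => List ℕ) (rw1632) (rw1633) (Nat.ble 1633 i)) (Bool.rec (motive := fun _ => List ℕ) (rw1634) (rw1635) (Nat.ble 1635 i)) (Nat.ble 1634 i)) (Bool.rec (motive := fun _ => List ℕ) (Bool.rec (motive := fun _ => List ℕ) (rw1636) (rw1637) (Nat.ble 1637 i)) (Bool.rec (motive := fun _ => List ℕ) (rw1638) (rw1639) (Nat.ble 1639 i)) (Nat.ble 1638 i)) (Nat.ble 1636 i)) (Bool.rec (motive := fun _ => List ℕ) (Bool.rec (motive := fun _ => List ℕ) (Bool.rec (motive := fun _ => List ℕ) (rw1640) (rw1641) (Nat.ble 1641 i)) (Bool.rec (motive := fun _ => List ℕ) (rw1642) (rw1643) (Nat.ble 1643 i)) (Nat.ble 1642 i)) (Bool.rec (motive := fun _ => List ℕ) (Bool.rec (motive := fun _ => List ℕ) (rw1644) (rw1645) (Nat.ble 1645 i)) (Bool.rec (motive := fun _ => List ℕ) (rw1646)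 (rw1647) (Nat.ble 1647 i)) (Nat.ble 1646 i)) (Nat.ble 1644 i)) (Nat.ble 1640 i)) (Bool.rec (motive := fun _ => List ℕ) (Bool.rec (motive := fun _ => List ℕ) (Bool.rec (motive := fun _ => List ℕ) (Bool.rec (motive := fun _ => List ℕ) (rw1648) (rw1649) (Nat.ble 1649 i)) (Bool.rec (motive := fun _ => List ℕ) (rw1650) (rw1651) (Nat.ble 1651 i)) (Nat.ble 1650 i)) (Bool.rec (motive := fun _ => List ℕ) (Bool.rec (motive := fun _ => List ℕ) (rw1652) (rw1653) (Nat.ble 1653 i)) (Bool.rec (motive := fun _ => List ℕ) (rw1654) (rw1655) (Nat.ble 1655 i)) (Nat.ble 1654 i)) (Nat.ble 1652 i)) (Bool.rec (motive := fun _ => List ℕ) (Bool.rec (motive := fun _ => List ℕ) (Bool.rec (motive := fun _ => List ℕ) (rw1656) (rw1657) (Nat.ble 1657 i)) (Bool.rec (motive := fun _ => List ℕ) (rw1658) (rw1659) (Nat.ble 1659 i)) (Nat.ble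 1658 i)) (Bool.rec (motive := fun _ => List ℕ) (Bool.rec (motive := fun _ => List ℕ) (rw1660) (rw1661) (Nat.ble 1661 i)) (Bool.rec (motive := fun _ => List ℕ) (rw1662) (rw1663) (Nat.ble 1663 i)) (Nat.ble 1662 i)) (Nat.ble 1660 i)) (Nat.ble 1656 i)) (Nat.ble 1648 i)) (Nat.ble 1632 i)
noncomputable def rwb26 (i : ℕ) : List ℕ := Bool.rec (motive := fun _ => List ℕ) (Bool.rec (motive := fun _ => List ℕ) (Bool.rec (motive := fun _ => List ℕ) (Bool.rec (motive := fun _ => List ℕ) (Bool.rec (motive := fun _ => List ℕ) (Bool.rec (motive := fun _ => List ℕ) (rw1664) (rw1665) (Nat.ble 1665 i)) (Bool.rec (motive := fun _ => List ℕ) (rw1666) (rw1667) (Nat.ble 1667 i)) (Nat.ble 1666 i)) (Bool.rec (motive := fun _ => List ℕ) (Bool.rec (motive := fun _ => List ℕ) (rw1668) (rw1669) (Nat.ble 1669 i)) (Bool.rec (motive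 := fun _ => List ℕ) (rw1670) (rw1671) (Nat.ble 1671 i)) (Nat.ble 1670 i)) (Nat.ble 1668 i)) (Bool.rec (motive := fun _ => List ℕ) (Bool.rec (motive := fun _ => List ℕ) (Bool.rec (motive := fun _ => List ℕ) (rw1672) (rw1673) (Nat.ble 1673 i)) (Bool.rec (motive := fun _ => List ℕ) (rw1674) (rw1675) (Nat.ble 1675 i)) (Nat.ble 1674 i)) (Bool.rec (motive := fun _ => List ℕ) (Bool.rec (motive := fun _ => List ℕ) (rw1676) (rw1677) (Nat.ble 1677 i)) (Bool.rec (motive := fun _ => List ℕ) (rw1678) (rw1679) (Nat.ble 1679 i)) (Nat.ble 1678 i)) (Nat.ble 1676 i)) (Nat.ble 1672 i)) (Bool.rec (motive := fun _ => List ℕ) (Bool.rec (motive := fun _ => List ℕ) (Bool.rec (motive := fun _ => List ℕ) (Bool.rec (motive := fun _ => List ℕ) (rw1680) (rw1681) (Nat.ble 1681 i)) (Bool.rec (motive := fun _ => List ℕ) (rw1682) (rw1683)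 (Nat.ble 1683 i)) (Nat.ble 1682 i)) (Bool.rec (motive := fun _ => List ℕ) (Bool.rec (motive := fun _ => List ℕ) (rw1684) (rw1685) (Nat.ble 1685 i)) (Bool.rec (motive := fun _ => List ℕ) (rw1686) (rw1687) (Nat.ble 1687 i)) (Nat.ble 1686 i)) (Nat.ble 1684 i)) (Bool.rec (motive := fun _ => List ℕ) (Bool.rec (motive := fun _ => List ℕ) (Bool.rec (motive := fun _ => List ℕ) (rw1688) (rw1689) (Nat.ble 1689 i)) (Bool.rec (motive := fun _ => List ℕ) (rw1690) (rw1691) (Nat.ble 1691 i)) (Nat.ble 1690 i)) (Bool.rec (motive := fun _ => List ℕ) (Bool.rec (motive := fun _ => List ℕ) (rw1692) (rw1693) (Nat.ble 1693 i)) (Bool.rec (motive := fun _ => List ℕ) (rw1694) (rw1695) (Nat.ble 1695 i)) (Nat.ble 1694 i)) (Nat.ble 1692 i)) (Nat.ble 1688 i)) (Nat.ble 1680 i)) (Bool.rec (motive := fun _ => List ℕ) (Bool.rec (motive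 := fun _ => List ℕ) (Bool.rec (motive := fun _ => List ℕ) (Bool.rec (motive := fun _ => List ℕ) (Bool.rec (motive := fun _ => List ℕ) (rw1696) (rw1697) (Nat.ble 1697 i)) (Bool.rec (motive := fun _ => List ℕ) (rw1698) (rw1699) (Nat.ble 1699 i)) (Nat.ble 1698 i)) (Bool.rec (motive := fun _ => List ℕ) (Bool.rec (motive := fun _ => List ℕ) (rw1700) (rw1701) (Nat.ble 1701 i)) (Bool.rec (motive := fun _ => List ℕ) (rw1702) (rw1703) (Nat.ble 1703 i)) (Nat.ble 1702 i)) (Nat.ble 1700 i)) (Bool.rec (motive := fun _ => List ℕ) (Bool.rec (motive := fun _ => List ℕ) (Bool.rec (motive := fun _ => List ℕ) (rw1704) (rw1705) (Nat.ble 1705 i)) (Bool.rec (motive := fun _ => List ℕ) (rw1706) (rw1707) (Nat.ble 1707 i)) (Nat.ble 1706 i)) (Bool.rec (motive := fun _ => List ℕ) (Bool.rec (motive := fun _ => List ℕ) (rw1708)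 (rw1709) (Nat.ble 1709 i)) (Bool.rec (motive := fun _ => List ℕ) (rw1710) (rw1711) (Nat.ble 1711 i)) (Nat.ble 1710 i)) (Nat.ble 1708 i)) (Nat.ble 1704 i)) (Bool.rec (motive := fun _ => List ℕ) (Bool.rec (motive := fun _ => List ℕ) (Bool.rec (motive := fun _ => List ℕ) (Bool.rec (motive := fun _ => List ℕ) (rw1712) (rw1713) (Nat.ble 1713 i)) (Bool.rec (motive := fun _ => List ℕ) (rw1714) (rw1715) (Nat.ble 1715 i)) (Nat.ble 1714 i)) (Bool.rec (motive := fun _ => List ℕ) (Bool.rec (motive := fun _ => List ℕ) (rw1716) (rw1717) (Nat.ble 1717 i)) (Bool.rec (motive := fun _ => List ℕ) (rw1718) (rw1719) (Nat.ble 1719 i)) (Nat.ble 1718 i)) (Nat.ble 1716 i)) (Bool.rec (motive := fun _ => List ℕ) (Bool.rec (motive := fun _ => List ℕ) (Bool.rec (motive := fun _ => List ℕ) (rw1720) (rw1721) (Nat.ble 1721 i)) (Bool.rec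 (motive := fun _ => List ℕ) (rw1722) (rw1723) (Nat.ble 1723 i)) (Nat.ble 1722 i)) (Bool.rec (motive := fun _ => List ℕ) (Bool.rec (motive := fun _ => List ℕ) (rw1724) (rw1725) (Nat.ble 1725 i)) (Bool.rec (motive := fun _ => List ℕ) (rw1726) (rw1727) (Nat.ble 1727 i)) (Nat.ble 1726 i)) (Nat.ble 1724 i)) (Nat.ble 1720 i)) (Nat.ble 1712 i)) (Nat.ble 1696 i)
noncomputable def rwb27 (i : ℕ) : List ℕ := Bool.rec (motive := fun _ => List ℕ) (Bool.rec (motive := fun _ => List ℕ) (Bool.rec (motive := fun _ => List ℕ) (Bool.rec (motive := fun _ => List ℕ) (Bool.rec (motive := fun _ => List ℕ) (Bool.rec (motive := fun _ => List ℕ) (rw1728) (rw1729) (Nat.ble 1729 i)) (Bool.rec (motive := fun _ => List ℕ) (rw1730) (rw1731) (Nat.ble 1731 i)) (Nat.ble 1730 i)) (Bool.rec (motive := fun _ => List ℕ) (Bool.rec (motive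 := fun _ => List ℕ) (rw1732) (rw1733) (Nat.ble 1733 i)) (Bool.rec (motive := fun _ => List ℕ) (rw1734) (rw1735) (Nat.ble 1735 i)) (Nat.ble 1734 i)) (Nat.ble 1732 i)) (Bool.rec (motive := fun _ => List ℕ) (Bool.rec (motive := fun _ => List ℕ) (Bool.rec (motive := fun _ => List ℕ) (rw1736) (rw1737) (Nat.ble 1737 i)) (Bool.rec (motive := fun _ => List ℕ) (rw1738) (rw1739) (Nat.ble 1739 i)) (Nat.ble 1738 i)) (Bool.rec (motive := fun _ => List ℕ) (Bool.rec (motive := fun _ => List ℕ) (rw1740) (rw1741) (Nat.ble 1741 i)) (Bool.rec (motive := fun _ => List ℕ) (rw1742) (rw1743) (Nat.ble 1743 i)) (Nat.ble 1742 i)) (Nat.ble 1740 i)) (Nat.ble 1736 i)) (Bool.rec (motive := fun _ => List ℕ) (Bool.rec (motive := fun _ => List ℕ) (Bool.rec (motive := fun _ => List ℕ) (Bool.rec (motive := fun _ => List ℕ) (rw1744) (rw1745)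 (Nat.ble 1745 i)) (Bool.rec (motive := fun _ => List ℕ) (rw1746) (rw1747) (Nat.ble 1747 i)) (Nat.ble 1746 i)) (Bool.rec (motive := fun _ => List ℕ) (Bool.rec (motive := fun _ => List ℕ) (rw1748) (rw1749) (Nat.ble 1749 i)) (Bool.rec (motive := fun _ => List ℕ) (rw1750) (rw1751) (Nat.ble 1751 i)) (Nat.ble 1750 i)) (Nat.ble 1748 i)) (Bool.rec (motive := fun _ => List ℕ) (Bool.rec (motive := fun _ => List ℕ) (Bool.rec (motive := fun _ => List ℕ) (rw1752) (rw1753) (Nat.ble 1753 i)) (Bool.rec (motive := fun _ => List ℕ) (rw1754) (rw1755) (Nat.ble 1755 i)) (Nat.ble 1754 i)) (Bool.rec (motive := fun _ => List ℕ) (Bool.rec (motive := fun _ => List ℕ) (rw1756) (rw1757) (Nat.ble 1757 i)) (Bool.rec (motive := fun _ => List ℕ) (rw1758) (rw1759) (Nat.ble 1759 i)) (Nat.ble 1758 i)) (Nat.ble 1756 i)) (Nat.ble 1752 i))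 (Nat.ble 1744 i)) (Bool.rec (motive := fun _ => List ℕ) (Bool.rec (motive := fun _ => List ℕ) (Bool.rec (motive := fun _ => List ℕ) (Bool.rec (motive := fun _ => List ℕ) (Bool.rec (motive := fun _ => List ℕ) (rw1760) (rw1761) (Nat.ble 1761 i)) (Bool.rec (motive := fun _ => List ℕ) (rw1762) (rw1763) (Nat.ble 1763 i)) (Nat.ble 1762 i)) (Bool.rec (motive := fun _ => List ℕ) (Bool.rec (motive := fun _ => List ℕ) (rw1764) (rw1765) (Nat.ble 1765 i)) (Bool.rec (motive := fun _ => List ℕ) (rw1766) (rw1767) (Nat.ble 1767 i)) (Nat.ble 1766 i)) (Nat.ble 1764 i)) (Bool.rec (motive := fun _ => List ℕ) (Bool.rec (motive := fun _ => List ℕ) (Bool.rec (motive := fun _ => List ℕ) (rw1768) (rw1769) (Nat.ble 1769 i)) (Bool.rec (motive := fun _ => List ℕ) (rw1770) (rw1771) (Nat.ble 1771 i)) (Nat.ble 1770 i)) (Bool.rec (motive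 := fun _ => List ℕ) (Bool.rec (motive := fun _ => List ℕ) (rw1772) (rw1773) (Nat.ble 1773 i)) (Bool.rec (motive := fun _ => List ℕ) (rw1774) (rw1775) (Nat.ble 1775 i)) (Nat.ble 1774 i)) (Nat.ble 1772 i)) (Nat.ble 1768 i)) (Bool.rec (motive := fun _ => List ℕ) (Bool.rec (motive := fun _ => List ℕ) (Bool.rec (motive := fun _ => List ℕ) (Bool.rec (motive := fun _ => List ℕ) (rw1776) (rw1777) (Nat.ble 1777 i)) (Bool.rec (motive := fun _ => List ℕ) (rw1778) (rw1779) (Nat.ble 1779 i)) (Nat.ble 1778 i)) (Bool.rec (motive := fun _ => List ℕ) (Bool.rec (motive := fun _ => List ℕ) (rw1780) (rw1781) (Nat.ble 1781 i)) (Bool.rec (motive := fun _ => List ℕ) (rw1782) (rw1783) (Nat.ble 1783 i)) (Nat.ble 1782 i)) (Nat.ble 1780 i)) (Bool.rec (motive := fun _ => List ℕ) (Bool.rec (motive := fun _ => List ℕ) (Bool.rec (motive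 := fun _ => List ℕ) (rw1784) (rw1785) (Nat.ble 1785 i)) (Bool.rec (motive := fun _ => List ℕ) (rw1786) (rw1787) (Nat.ble 1787 i)) (Nat.ble 1786 i)) (Bool.rec (motive := fun _ => List ℕ) (Bool.rec (motive := fun _ => List ℕ) (rw1788) (rw1789) (Nat.ble 1789 i)) (Bool.rec (motive := fun _ => List ℕ) (rw1790) (rw1791) (Nat.ble 1791 i)) (Nat.ble 1790 i)) (Nat.ble 1788 i)) (Nat.ble 1784 i)) (Nat.ble 1776 i)) (Nat.ble 1760 i)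
noncomputable def rwb28 (i : ℕ) : List ℕ := Bool.rec (motive := fun _ => List ℕ) (Bool.rec (motive := fun _ => List ℕ) (Bool.rec (motive := fun _ => List ℕ) (Bool.rec (motive := fun _ => List ℕ) (Bool.rec (motive := fun _ => List ℕ) (Bool.rec (motive := fun _ => List ℕ) (rw1792) (rw1793) (Nat.ble 1793 i)) (Bool.rec (motive := fun _ => List ℕ) (rw1794) (rw1795) (Nat.ble 1795 i)) (Nat.ble 1794 i)) (Bool.rec (motive := fun _ => List ℕ) (Bool.rec (motive := fun _ => List ℕ) (rw1796) (rw1797) (Nat.ble 1797 i)) (Bool.rec (motive := fun _ => List ℕ) (rw1798) (rw1799) (Nat.ble 1799 i)) (Nat.ble 1798 i)) (Nat.ble 1796 i)) (Bool.rec (motive := fun _ => List ℕ) (Bool.rec (motive := fun _ => List ℕ) (Bool.rec (motive := fun _ => List ℕ) (rw1800) (rw1801) (Nat.ble 1801 i)) (Bool.rec (motive := fun _ => List ℕ) (rw1802)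 (rw1803) (Nat.ble 1803 i)) (Nat.ble 1802 i)) (Bool.rec (motive := fun _ => List ℕ) (Bool.rec (motive := fun _ => List ℕ) (rw1804) (rw1805) (Nat.ble 1805 i)) (Bool.rec (motive := fun _ => List ℕ) (rw1806) (rw1807) (Nat.ble 1807 i)) (Nat.ble 1806 i)) (Nat.ble 1804 i)) (Nat.ble 1800 i)) (Bool.rec (motive := fun _ => List ℕ) (Bool.rec (motive := fun _ => List ℕ) (Bool.rec (motive := fun _ => List ℕ) (Bool.rec (motive := fun _ => List ℕ) (rw1808) (rw1809) (Nat.ble 1809 i)) (Bool.rec (motive := fun _ => List ℕ) (rw1810) (rw1811) (Nat.ble 1811 i)) (Nat.ble 1810 i)) (Bool.rec (motive := fun _ => List ℕ) (Bool.rec (motive := fun _ => List ℕ) (rw1812) (rw1813) (Nat.ble 1813 i)) (Bool.rec (motive := fun _ => List ℕ) (rw1814) (rw1815) (Nat.ble 1815 i)) (Nat.ble 1814 i)) (Nat.ble 1812 i)) (Bool.rec (motive := fun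 _ => List ℕ) (Bool.rec (motive := fun _ => List ℕ) (Bool.rec (motive := fun _ => List ℕ) (rw1816) (rw1817) (Nat.ble 1817 i)) (Bool.rec (motive := fun _ => List ℕ) (rw1818) (rw1819) (Nat.ble 1819 i)) (Nat.ble 1818 i)) (Bool.rec (motive := fun _ => List ℕ) (Bool.rec (motive := fun _ => List ℕ) (rw1820) (rw1821) (Nat.ble 1821 i)) (Bool.rec (motive := fun _ => List ℕ) (rw1822) (rw1823) (Nat.ble 1823 i)) (Nat.ble 1822 i)) (Nat.ble 1820 i)) (Nat.ble 1816 i)) (Nat.ble 1808 i)) (Bool.rec (motive := fun _ => List ℕ) (Bool.rec (motive := fun _ => List ℕ) (Bool.rec (motive := fun _ => List ℕ) (Bool.rec (motive := fun _ => List ℕ) (Bool.rec (motive := fun _ => List ℕ) (rw1824) (rw1825) (Nat.ble 1825 i)) (Bool.rec (motive := fun _ => List ℕ) (rw1826) (rw1827) (Nat.ble 1827 i)) (Nat.ble 1826 i)) (Bool.rec (motive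 := fun _ => List ℕ) (Bool.rec (motive := fun _ => List ℕ) (rw1828) (rw1829) (Nat.ble 1829 i)) (Bool.rec (motive := fun _ => List ℕ) (rw1830) (rw1831) (Nat.ble 1831 i)) (Nat.ble 1830 i)) (Nat.ble 1828 i)) (Bool.rec (motive := fun _ => List ℕ) (Bool.rec (motive := fun _ => List ℕ) (Bool.rec (motive := fun _ => List ℕ) (rw1832) (rw1833) (Nat.ble 1833 i)) (Bool.rec (motive := fun _ => List ℕ) (rw1834) (rw1835) (Nat.ble 1835 i)) (Nat.ble 1834 i)) (Bool.rec (motive := fun _ => List ℕ) (Bool.rec (motive := fun _ => List ℕ) (rw1836) (rw1837) (Nat.ble 1837 i)) (Bool.rec (motive := fun _ => List ℕ) (rw1838) (rw1839) (Nat.ble 1839 i)) (Nat.ble 1838 i)) (Nat.ble 1836 i)) (Nat.ble 1832 i)) (Bool.rec (motive := fun _ => List ℕ) (Bool.rec (motive := fun _ => List ℕ) (Bool.rec (motive := fun _ => List ℕ) (Bool.rec (motive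 := fun _ => List ℕ) (rw1840) (rw1841) (Nat.ble 1841 i)) (Bool.rec (motive := fun _ => List ℕ) (rw1842) (rw1843) (Nat.ble 1843 i)) (Nat.ble 1842 i)) (Bool.rec (motive := fun _ => List ℕ) (Bool.rec (motive := fun _ => List ℕ) (rw1844) (rw1845) (Nat.ble 1845 i)) (Bool.rec (motive := fun _ => List ℕ) (rw1846) (rw1847) (Nat.ble 1847 i)) (Nat.ble 1846 i)) (Nat.ble 1844 i)) (Bool.rec (motive := fun _ => List ℕ) (Bool.rec (motive := fun _ => List ℕ) (Bool.rec (motive := fun _ => List ℕ) (rw1848) (rw1849) (Nat.ble 1849 i)) (Bool.rec (motive := fun _ => List ℕ) (rw1850) (rw1851) (Nat.ble 1851 i)) (Nat.ble 1850 i)) (Bool.rec (motive := fun _ => List ℕ) (Bool.rec (motive := fun _ => List ℕ) (rw1852) (rw1853) (Nat.ble 1853 i)) (Bool.rec (motive := fun _ => List ℕ) (rw1854) (rw1855) (Nat.ble 1855 i)) (Nat.ble 1854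 i)) (Nat.ble 1852 i)) (Nat.ble 1848 i)) (Nat.ble 1840 i)) (Nat.ble 1824 i)
noncomputable def rwb29 (i : ℕ) : List ℕ := Bool.rec (motive := fun _ => List ℕ) (Bool.rec (motive := fun _ => List ℕ) (Bool.rec (motive := fun _ => List ℕ) (Bool.rec (motive := fun _ => List ℕ) (Bool.rec (motive := fun _ => List ℕ) (Bool.rec (motive := fun _ => List ℕ) (rw1856) (rw1857) (Nat.ble 1857 i)) (Bool.rec (motive := fun _ => List ℕ) (rw1858) (rw1859) (Nat.ble 1859 i)) (Nat.ble 1858 i)) (Bool.rec (motive := fun _ => List ℕ) (Bool.rec (motive := fun _ => List ℕ) (rw1860) (rw1861) (Nat.ble 1861 i)) (Bool.rec (motive := fun _ => List ℕ) (rw1862) (rw1863) (Nat.ble 1863 i)) (Nat.ble 1862 i)) (Nat.ble 1860 i)) (Bool.rec (motive := fun _ => List ℕ) (Bool.rec (motive := fun _ => List ℕ) (Bool.rec (motive := fun _ => List ℕ) (rw1864)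 (rw1865) (Nat.ble 1865 i)) (Bool.rec (motive := fun _ => List ℕ) (rw1866) (rw1867) (Nat.ble 1867 i)) (Nat.ble 1866 i)) (Bool.rec (motive := fun _ => List ℕ) (Bool.rec (motive := fun _ => List ℕ) (rw1868) (rw1869) (Nat.ble 1869 i)) (Bool.rec (motive := fun _ => List ℕ) (rw1870) (rw1871) (Nat.ble 1871 i)) (Nat.ble 1870 i)) (Nat.ble 1868 i)) (Nat.ble 1864 i)) (Bool.rec (motive := fun _ => List ℕ) (Bool.rec (motive := fun _ => List ℕ) (Bool.rec (motive := fun _ => List ℕ) (Bool.rec (motive := fun _ => List ℕ) (rw1872) (rw1873) (Nat.ble 1873 i)) (Bool.rec (motive := fun _ => List ℕ) (rw1874) (rw1875) (Nat.ble 1875 i)) (Nat.ble 1874 i)) (Bool.rec (motive := fun _ => List ℕ) (Bool.rec (motive := fun _ => List ℕ) (rw1876) (rw1877) (Nat.ble 1877 i)) (Bool.rec (motive := fun _ => List ℕ) (rw1878) (rw1879) (Nat.ble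 1879 i)) (Nat.ble 1878 i)) (Nat.ble 1876 i)) (Bool.rec (motive := fun _ => List ℕ) (Bool.rec (motive := fun _ => List ℕ) (Bool.rec (motive := fun _ => List ℕ) (rw1880) (rw1881) (Nat.ble 1881 i)) (Bool.rec (motive := fun _ => List ℕ) (rw1882) (rw1883) (Nat.ble 1883 i)) (Nat.ble 1882 i)) (Bool.rec (motive := fun _ => List ℕ) (Bool.rec (motive := fun _ => List ℕ) (rw1884) (rw1885) (Nat.ble 1885 i)) (Bool.rec (motive := fun _ => List ℕ) (rw1886) (rw1887) (Nat.ble 1887 i)) (Nat.ble 1886 i)) (Nat.ble 1884 i)) (Nat.ble 1880 i)) (Nat.ble 1872 i)) (Bool.rec (motive := fun _ => List ℕ) (Bool.rec (motive := fun _ => List ℕ) (Bool.rec (motive := fun _ => List ℕ) (Bool.rec (motive := fun _ => List ℕ) (Bool.rec (motive := fun _ => List ℕ) (rw1888) (rw1889) (Nat.ble 1889 i)) (Bool.rec (motive := fun _ => List ℕ) (rw1890)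 (rw1891) (Nat.ble 1891 i)) (Nat.ble 1890 i)) (Bool.rec (motive := fun _ => List ℕ) (Bool.rec (motive := fun _ => List ℕ) (rw1892) (rw1893) (Nat.ble 1893 i)) (Bool.rec (motive := fun _ => List ℕ) (rw1894) (rw1895) (Nat.ble 1895 i)) (Nat.ble 1894 i)) (Nat.ble 1892 i)) (Bool.rec (motive := fun _ => List ℕ) (Bool.rec (motive := fun _ => List ℕ) (Bool.rec (motive := fun _ => List ℕ) (rw1896) (rw1897) (Nat.ble 1897 i)) (Bool.rec (motive := fun _ => List ℕ) (rw1898) (rw1899) (Nat.ble 1899 i)) (Nat.ble 1898 i)) (Bool.rec (motive := fun _ => List ℕ) (Bool.rec (motive := fun _ => List ℕ) (rw1900) (rw1901) (Nat.ble 1901 i)) (Bool.rec (motive := fun _ => List ℕ) (rw1902) (rw1903) (Nat.ble 1903 i)) (Nat.ble 1902 i)) (Nat.ble 1900 i)) (Nat.ble 1896 i)) (Bool.rec (motive := fun _ => List ℕ) (Bool.rec (motive := fun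 _ => List ℕ) (Bool.rec (motive := fun _ => List ℕ) (Bool.rec (motive := fun _ => List ℕ) (rw1904) (rw1905) (Nat.ble 1905 i)) (Bool.rec (motive := fun _ => List ℕ) (rw1906) (rw1907) (Nat.ble 1907 i)) (Nat.ble 1906 i)) (Bool.rec (motive := fun _ => List ℕ) (Bool.rec (motive := fun _ => List ℕ) (rw1908) (rw1909) (Nat.ble 1909 i)) (Bool.rec (motive := fun _ => List ℕ) (rw1910) (rw1911) (Nat.ble 1911 i)) (Nat.ble 1910 i)) (Nat.ble 1908 i)) (Bool.rec (motive := fun _ => List ℕ) (Bool.rec (motive := fun _ => List ℕ) (Bool.rec (motive := fun _ => List ℕ) (rw1912) (rw1913) (Nat.ble 1913 i)) (Bool.rec (motive := fun _ => List ℕ) (rw1914) (rw1915) (Nat.ble 1915 i)) (Nat.ble 1914 i)) (Bool.rec (motive := fun _ => List ℕ) (Bool.rec (motive := fun _ => List ℕ) (rw1916) (rw1917) (Nat.ble 1917 i)) (Bool.rec (motive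 := fun _ => List ℕ) (rw1918) (rw1919) (Nat.ble 1919 i)) (Nat.ble 1918 i)) (Nat.ble 1916 i)) (Nat.ble 1912 i)) (Nat.ble 1904 i)) (Nat.ble 1888 i)
noncomputable def rwb30 (i : ℕ) : List ℕ := Bool.rec (motive := fun _ => List ℕ) (Bool.rec (motive := fun _ => List ℕ) (Bool.rec (motive := fun _ => List ℕ) (Bool.rec (motive := fun _ => List ℕ) (Bool.rec (motive := fun _ => List ℕ) (Bool.rec (motive := fun _ => List ℕ) (rw1920) (rw1921) (Nat.ble 1921 i)) (Bool.rec (motive := fun _ => List ℕ) (rw1922) (rw1923) (Nat.ble 1923 i)) (Nat.ble 1922 i)) (Bool.rec (motive := fun _ => List ℕ) (Bool.rec (motive := fun _ => List ℕ) (rw1924) (rw1925) (Nat.ble 1925 i)) (Bool.rec (motive := fun _ => List ℕ) (rw1926) (rw1927) (Nat.ble 1927 i)) (Nat.ble 1926 i)) (Nat.ble 1924 i)) (Bool.rec (motive := fun _ => List ℕ) (Bool.rec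 (motive := fun _ => List ℕ) (Bool.rec (motive := fun _ => List ℕ) (rw1928) (rw1929) (Nat.ble 1929 i)) (Bool.rec (motive := fun _ => List ℕ) (rw1930) (rw1931) (Nat.ble 1931 i)) (Nat.ble 1930 i)) (Bool.rec (motive := fun _ => List ℕ) (Bool.rec (motive := fun _ => List ℕ) (rw1932) (rw1933) (Nat.ble 1933 i)) (Bool.rec (motive := fun _ => List ℕ) (rw1934) (rw1935) (Nat.ble 1935 i)) (Nat.ble 1934 i)) (Nat.ble 1932 i)) (Nat.ble 1928 i)) (Bool.rec (motive := fun _ => List ℕ) (Bool.rec (motive := fun _ => List ℕ) (Bool.rec (motive := fun _ => List ℕ) (Bool.rec (motive := fun _ => List ℕ) (rw1936) (rw1937) (Nat.ble 1937 i)) (Bool.rec (motive := fun _ => List ℕ) (rw1938) (rw1939) (Nat.ble 1939 i)) (Nat.ble 1938 i)) (Bool.rec (motive := fun _ => List ℕ) (Bool.rec (motive := fun _ => List ℕ) (rw1940) (rw1941) (Nat.ble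 1941 i)) (Bool.rec (motive := fun _ => List ℕ) (rw1942) (rw1943) (Nat.ble 1943 i)) (Nat.ble 1942 i)) (Nat.ble 1940 i)) (Bool.rec (motive := fun _ => List ℕ) (Bool.rec (motive := fun _ => List ℕ) (Bool.rec (motive := fun _ => List ℕ) (rw1944) (rw1945) (Nat.ble 1945 i)) (Bool.rec (motive := fun _ => List ℕ) (rw1946) (rw1947) (Nat.ble 1947 i)) (Nat.ble 1946 i)) (Bool.rec (motive := fun _ => List ℕ) (Bool.rec (motive := fun _ => List ℕ) (rw1948) (rw1949) (Nat.ble 1949 i)) (Bool.rec (motive := fun _ => List ℕ) (rw1950) (rw1951) (Nat.ble 1951 i)) (Nat.ble 1950 i)) (Nat.ble 1948 i)) (Nat.ble 1944 i)) (Nat.ble 1936 i)) (Bool.rec (motive := fun _ => List ℕ) (Bool.rec (motive := fun _ => List ℕ) (Bool.rec (motive := fun _ => List ℕ) (Bool.rec (motive := fun _ => List ℕ) (Bool.rec (motive := fun _ => List ℕ) (rw1952)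 (rw1953) (Nat.ble 1953 i)) (Bool.rec (motive := fun _ => List ℕ) (rw1954) (rw1955) (Nat.ble 1955 i)) (Nat.ble 1954 i)) (Bool.rec (motive := fun _ => List ℕ) (Bool.rec (motive := fun _ => List ℕ) (rw1956) (rw1957) (Nat.ble 1957 i)) (Bool.rec (motive := fun _ => List ℕ) (rw1958) (rw1959) (Nat.ble 1959 i)) (Nat.ble 1958 i)) (Nat.ble 1956 i)) (Bool.rec (motive := fun _ => List ℕ) (Bool.rec (motive := fun _ => List ℕ) (Bool.rec (motive := fun _ => List ℕ) (rw1960) (rw1961) (Nat.ble 1961 i)) (Bool.rec (motive := fun _ => List ℕ) (rw1962) (rw1963) (Nat.ble 1963 i)) (Nat.ble 1962 i)) (Bool.rec (motive := fun _ => List ℕ) (Bool.rec (motive := fun _ => List ℕ) (rw1964) (rw1965) (Nat.ble 1965 i)) (Bool.rec (motive := fun _ => List ℕ) (rw1966) (rw1967) (Nat.ble 1967 i)) (Nat.ble 1966 i)) (Nat.ble 1964 i)) (Nat.ble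 1960 i)) (Bool.rec (motive := fun _ => List ℕ) (Bool.rec (motive := fun _ => List ℕ) (Bool.rec (motive := fun _ => List ℕ) (Bool.rec (motive := fun _ => List ℕ) (rw1968) (rw1969) (Nat.ble 1969 i)) (Bool.rec (motive := fun _ => List ℕ) (rw1970) (rw1971) (Nat.ble 1971 i)) (Nat.ble 1970 i)) (Bool.rec (motive := fun _ => List ℕ) (Bool.rec (motive := fun _ => List ℕ) (rw1972) (rw1973) (Nat.ble 1973 i)) (Bool.rec (motive := fun _ => List ℕ) (rw1974) (rw1975) (Nat.ble 1975 i)) (Nat.ble 1974 i)) (Nat.ble 1972 i)) (Bool.rec (motive := fun _ => List ℕ) (Bool.rec (motive := fun _ => List ℕ) (Bool.rec (motive := fun _ => List ℕ) (rw1976) (rw1977) (Nat.ble 1977 i)) (Bool.rec (motive := fun _ => List ℕ) (rw1978) (rw1979) (Nat.ble 1979 i)) (Nat.ble 1978 i)) (Bool.rec (motive := fun _ => List ℕ) (Bool.rec (motive :=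 fun _ => List ℕ) (rw1980) (rw1981) (Nat.ble 1981 i)) (Bool.rec (motive := fun _ => List ℕ) (rw1982) (rw1983) (Nat.ble 1983 i)) (Nat.ble 1982 i)) (Nat.ble 1980 i)) (Nat.ble 1976 i)) (Nat.ble 1968 i)) (Nat.ble 1952 i)
noncomputable def rwb31 (i : ℕ) : List ℕ := Bool.rec (motive := fun _ => List ℕ) (Bool.rec (motive := fun _ => List ℕ) (Bool.rec (motive := fun _ => List ℕ) (Bool.rec (motive := fun _ => List ℕ) (Bool.rec (motive := fun _ => List ℕ) (Bool.rec (motive := fun _ => List ℕ) (rw1984) (rw1985) (Nat.ble 1985 i)) (Bool.rec (motive := fun _ => List ℕ) (rw1986) (rw1987) (Nat.ble 1987 i)) (Nat.ble 1986 i)) (Bool.rec (motive := fun _ => List ℕ) (Bool.rec (motive := fun _ => List ℕ) (rw1988) (rw1989) (Nat.ble 1989 i)) (Bool.rec (motive := fun _ => List ℕ) (rw1990) (rw1991) (Nat.ble 1991 i)) (Nat.ble 1990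 i)) (Nat.ble 1988 i)) (Bool.rec (motive := fun _ => List ℕ) (Bool.rec (motive := fun _ => List ℕ) (Bool.rec (motive := fun _ => List ℕ) (rw1992) (rw1993) (Nat.ble 1993 i)) (Bool.rec (motive := fun _ => List ℕ) (rw1994) (rw1995) (Nat.ble 1995 i)) (Nat.ble 1994 i)) (Bool.rec (motive := fun _ => List ℕ) (Bool.rec (motive := fun _ => List ℕ) (rw1996) (rw1997) (Nat.ble 1997 i)) (Bool.rec (motive := fun _ => List ℕ) (rw1998) (rw1999) (Nat.ble 1999 i)) (Nat.ble 1998 i)) (Nat.ble 1996 i)) (Nat.ble 1992 i)) (Bool.rec (motive := fun _ => List ℕ) (Bool.rec (motive := fun _ => List ℕ) (Bool.rec (motive := fun _ => List ℕ) (Bool.rec (motive := fun _ => List ℕ) (rw2000) (rw2001) (Nat.ble 2001 i)) (Bool.rec (motive := fun _ => List ℕ) (rw2002) (rw2003) (Nat.ble 2003 i)) (Nat.ble 2002 i)) (Bool.rec (motive := fun _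 => List ℕ) (Bool.rec (motive := fun _ => List ℕ) (rw2004) (rw2005) (Nat.ble 2005 i)) (Bool.rec (motive := fun _ => List ℕ) (rw2006) (rw2007) (Nat.ble 2007 i)) (Nat.ble 2006 i)) (Nat.ble 2004 i)) (Bool.rec (motive := fun _ => List ℕ) (Bool.rec (motive := fun _ => List ℕ) (Bool.rec (motive := fun _ => List ℕ) (rw2008) (rw2009) (Nat.ble 2009 i)) (Bool.rec (motive := fun _ => List ℕ) (rw2010) (rw2011) (Nat.ble 2011 i)) (Nat.ble 2010 i)) (Bool.rec (motive := fun _ => List ℕ) (Bool.rec (motive := fun _ => List ℕ) (rw2012) (rw2013) (Nat.ble 2013 i)) (Bool.rec (motive := fun _ => List ℕ) (rw2014) (rw2015) (Nat.ble 2015 i)) (Nat.ble 2014 i)) (Nat.ble 2012 i)) (Nat.ble 2008 i)) (Nat.ble 2000 i)) (Bool.rec (motive := fun _ => List ℕ) (Bool.rec (motive := fun _ => List ℕ) (Bool.rec (motive := fun _ => List ℕ) (Bool.rec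 (motive := fun _ => List ℕ) (Bool.rec (motive := fun _ => List ℕ) (rw2016) (rw2017) (Nat.ble 2017 i)) (Bool.rec (motive := fun _ => List ℕ) (rw2018) (rw2019) (Nat.ble 2019 i)) (Nat.ble 2018 i)) (Bool.rec (motive := fun _ => List ℕ) (Bool.rec (motive := fun _ => List ℕ) (rw2020) (rw2021) (Nat.ble 2021 i)) (Bool.rec (motive := fun _ => List ℕ) (rw2022) (rw2023) (Nat.ble 2023 i)) (Nat.ble 2022 i)) (Nat.ble 2020 i)) (Bool.rec (motive := fun _ => List ℕ) (Bool.rec (motive := fun _ => List ℕ) (Bool.rec (motive := fun _ => List ℕ) (rw2024) (rw2025) (Nat.ble 2025 i)) (Bool.rec (motive := fun _ => List ℕ) (rw2026) (rw2027) (Nat.ble 2027 i)) (Nat.ble 2026 i)) (Bool.rec (motive := fun _ => List ℕ) (Bool.rec (motive := fun _ => List ℕ) (rw2028) (rw2029) (Nat.ble 2029 i)) (Bool.rec (motive := fun _ => List ℕ) (rw2030)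 (rw2031) (Nat.ble 2031 i)) (Nat.ble 2030 i)) (Nat.ble 2028 i)) (Nat.ble 2024 i)) (Bool.rec (motive := fun _ => List ℕ) (Bool.rec (motive := fun _ => List ℕ) (Bool.rec (motive := fun _ => List ℕ) (Bool.rec (motive := fun _ => List ℕ) (rw2032) (rw2033) (Nat.ble 2033 i)) (Bool.rec (motive := fun _ => List ℕ) (rw2034) (rw2035) (Nat.ble 2035 i)) (Nat.ble 2034 i)) (Bool.rec (motive := fun _ => List ℕ) (Bool.rec (motive := fun _ => List ℕ) (rw2036) (rw2037) (Nat.ble 2037 i)) (Bool.rec (motive := fun _ => List ℕ) (rw2038) (rw2039) (Nat.ble 2039 i)) (Nat.ble 2038 i)) (Nat.ble 2036 i)) (Bool.rec (motive := fun _ => List ℕ) (Bool.rec (motive := fun _ => List ℕ) (Bool.rec (motive := fun _ => List ℕ) (rw2040) (rw2041) (Nat.ble 2041 i)) (Bool.rec (motive := fun _ => List ℕ) (rw2042) (rw2043) (Nat.ble 2043 i)) (Nat.ble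 2042 i)) (Bool.rec (motive := fun _ => List ℕ) (Bool.rec (motive := fun _ => List ℕ) (rw2044) (rw2045) (Nat.ble 2045 i)) (Bool.rec (motive := fun _ => List ℕ) (rw2046) (rw2047) (Nat.ble 2047 i)) (Nat.ble 2046 i)) (Nat.ble 2044 i)) (Nat.ble 2040 i)) (Nat.ble 2032 i)) (Nat.ble 2016 i)
noncomputable def rwb32 (i : ℕ) : List ℕ := Bool.rec (motive := fun _ => List ℕ) (Bool.rec (motive := fun _ => List ℕ) (Bool.rec (motive := fun _ => List ℕ) (Bool.rec (motive := fun _ => List ℕ) (Bool.rec (motive := fun _ => List ℕ) (Bool.rec (motive := fun _ => List ℕ) (rw2048) (rw2049) (Nat.ble 2049 i)) (Bool.rec (motive := fun _ => List ℕ) (rw2050) (rw2051) (Nat.ble 2051 i)) (Nat.ble 2050 i)) (Bool.rec (motive := fun _ => List ℕ) (Bool.rec (motive := fun _ => List ℕ) (rw2052) (rw2053) (Nat.ble 2053 i)) (Bool.rec (motive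 := fun _ => List ℕ) (rw2054) (rw2055) (Nat.ble 2055 i)) (Nat.ble 2054 i)) (Nat.ble 2052 i)) (Bool.rec (motive := fun _ => List ℕ) (Bool.rec (motive := fun _ => List ℕ) (Bool.rec (motive := fun _ => List ℕ) (rw2056) (rw2057) (Nat.ble 2057 i)) (Bool.rec (motive := fun _ => List ℕ) (rw2058) (rw2059) (Nat.ble 2059 i)) (Nat.ble 2058 i)) (Bool.rec (motive := fun _ => List ℕ) (Bool.rec (motive := fun _ => List ℕ) (rw2060) (rw2061) (Nat.ble 2061 i)) (Bool.rec (motive := fun _ => List ℕ) (rw2062) (rw2063) (Nat.ble 2063 i)) (Nat.ble 2062 i)) (Nat.ble 2060 i)) (Nat.ble 2056 i)) (Bool.rec (motive := fun _ => List ℕ) (Bool.rec (motive := fun _ => List ℕ) (Bool.rec (motive := fun _ => List ℕ) (Bool.rec (motive := fun _ => List ℕ) (rw2064) (rw2065) (Nat.ble 2065 i)) (Bool.rec (motive := fun _ => List ℕ) (rw2066) (rw2067)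 (Nat.ble 2067 i)) (Nat.ble 2066 i)) (Bool.rec (motive := fun _ => List ℕ) (Bool.rec (motive := fun _ => List ℕ) (rw2068) (rw2069) (Nat.ble 2069 i)) (Bool.rec (motive := fun _ => List ℕ) (rw2070) (rw2071) (Nat.ble 2071 i)) (Nat.ble 2070 i)) (Nat.ble 2068 i)) (Bool.rec (motive := fun _ => List ℕ) (Bool.rec (motive := fun _ => List ℕ) (Bool.rec (motive := fun _ => List ℕ) (rw2072) (rw2073) (Nat.ble 2073 i)) (Bool.rec (motive := fun _ => List ℕ) (rw2074) (rw2075) (Nat.ble 2075 i)) (Nat.ble 2074 i)) (Bool.rec (motive := fun _ => List ℕ) (Bool.rec (motive := fun _ => List ℕ) (rw2076) (rw2077) (Nat.ble 2077 i)) (Bool.rec (motive := fun _ => List ℕ) (rw2078) (rw2079) (Nat.ble 2079 i)) (Nat.ble 2078 i)) (Nat.ble 2076 i)) (Nat.ble 2072 i)) (Nat.ble 2064 i)) (Bool.rec (motive := fun _ => List ℕ) (Bool.rec (motive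 := fun _ => List ℕ) (Bool.rec (motive := fun _ => List ℕ) (Bool.rec (motive := fun _ => List ℕ) (Bool.rec (motive := fun _ => List ℕ) (rw2080) (rw2081) (Nat.ble 2081 i)) (Bool.rec (motive := fun _ => List ℕ) (rw2082) (rw2083) (Nat.ble 2083 i)) (Nat.ble 2082 i)) (Bool.rec (motive := fun _ => List ℕ) (Bool.rec (motive := fun _ => List ℕ) (rw2084) (rw2085) (Nat.ble 2085 i)) (Bool.rec (motive := fun _ => List ℕ) (rw2086) (rw2087) (Nat.ble 2087 i)) (Nat.ble 2086 i)) (Nat.ble 2084 i)) (Bool.rec (motive := fun _ => List ℕ) (Bool.rec (motive := fun _ => List ℕ) (Bool.rec (motive := fun _ => List ℕ) (rw2088) (rw2089) (Nat.ble 2089 i)) (Bool.rec (motive := fun _ => List ℕ) (rw2090) (rw2091) (Nat.ble 2091 i)) (Nat.ble 2090 i)) (Bool.rec (motive := fun _ => List ℕ) (Bool.rec (motive := fun _ => List ℕ) (rw2092)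 (rw2093) (Nat.ble 2093 i)) (Bool.rec (motive := fun _ => List ℕ) (rw2094) (rw2095) (Nat.ble 2095 i)) (Nat.ble 2094 i)) (Nat.ble 2092 i)) (Nat.ble 2088 i)) (Bool.rec (motive := fun _ => List ℕ) (Bool.rec (motive := fun _ => List ℕ) (Bool.rec (motive := fun _ => List ℕ) (Bool.rec (motive := fun _ => List ℕ) (rw2096) (rw2097) (Nat.ble 2097 i)) (Bool.rec (motive := fun _ => List ℕ) (rw2098) (rw2099) (Nat.ble 2099 i)) (Nat.ble 2098 i)) (Bool.rec (motive := fun _ => List ℕ) (Bool.rec (motive := fun _ => List ℕ) (rw2100) (rw2101) (Nat.ble 2101 i)) (Bool.rec (motive := fun _ => List ℕ) (rw2102) (rw2103) (Nat.ble 2103 i)) (Nat.ble 2102 i)) (Nat.ble 2100 i)) (Bool.rec (motive := fun _ => List ℕ) (Bool.rec (motive := fun _ => List ℕ) (Bool.rec (motive := fun _ => List ℕ) (rw2104) (rw2105) (Nat.ble 2105 i)) (Bool.rec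 (motive := fun _ => List ℕ) (rw2106) (rw2107) (Nat.ble 2107 i)) (Nat.ble 2106 i)) (Bool.rec (motive := fun _ => List ℕ) (Bool.rec (motive := fun _ => List ℕ) (rw2108) (rw2109) (Nat.ble 2109 i)) (Bool.rec (motive := fun _ => List ℕ) (rw2110) (rw2111) (Nat.ble 2111 i)) (Nat.ble 2110 i)) (Nat.ble 2108 i)) (Nat.ble 2104 i)) (Nat.ble 2096 i)) (Nat.ble 2080 i)
noncomputable def rwb33 (i : ℕ) : List ℕ := Bool.rec (motive := fun _ => List ℕ) (Bool.rec (motive := fun _ => List ℕ) (Bool.rec (motive := fun _ => List ℕ) (Bool.rec (motive := fun _ => List ℕ) (Bool.rec (motive := fun _ => List ℕ) (Bool.rec (motive := fun _ => List ℕ) (rw2112) (rw2113) (Nat.ble 2113 i)) (Bool.rec (motive := fun _ => List ℕ) (rw2114) (rw2115) (Nat.ble 2115 i)) (Nat.ble 2114 i)) (Bool.rec (motive := fun _ => List ℕ) (Bool.rec (motive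 := fun _ => List ℕ) (rw2116) (rw2117) (Nat.ble 2117 i)) (Bool.rec (motive := fun _ => List ℕ) (rw2118) (rw2119) (Nat.ble 2119 i)) (Nat.ble 2118 i)) (Nat.ble 2116 i)) (Bool.rec (motive := fun _ => List ℕ) (Bool.rec (motive := fun _ => List ℕ) (Bool.rec (motive := fun _ => List ℕ) (rw2120) (rw2121) (Nat.ble 2121 i)) (Bool.rec (motive := fun _ => List ℕ) (rw2122) (rw2123) (Nat.ble 2123 i)) (Nat.ble 2122 i)) (Bool.rec (motive := fun _ => List ℕ) (Bool.rec (motive := fun _ => List ℕ) (rw2124) (rw2125) (Nat.ble 2125 i)) (Bool.rec (motive := fun _ => List ℕ) (rw2126) (rw2127) (Nat.ble 2127 i)) (Nat.ble 2126 i)) (Nat.ble 2124 i)) (Nat.ble 2120 i)) (Bool.rec (motive := fun _ => List ℕ) (Bool.rec (motive := fun _ => List ℕ) (Bool.rec (motive := fun _ => List ℕ) (Bool.rec (motive := fun _ => List ℕ) (rw2128) (rw2129)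 (Nat.ble 2129 i)) (Bool.rec (motive := fun _ => List ℕ) (rw2130) (rw2131) (Nat.ble 2131 i)) (Nat.ble 2130 i)) (Bool.rec (motive := fun _ => List ℕ) (Bool.rec (motive := fun _ => List ℕ) (rw2132) (rw2133) (Nat.ble 2133 i)) (Bool.rec (motive := fun _ => List ℕ) (rw2134) (rw2135) (Nat.ble 2135 i)) (Nat.ble 2134 i)) (Nat.ble 2132 i)) (Bool.rec (motive := fun _ => List ℕ) (Bool.rec (motive := fun _ => List ℕ) (Bool.rec (motive := fun _ => List ℕ) (rw2136) (rw2137) (Nat.ble 2137 i)) (Bool.rec (motive := fun _ => List ℕ) (rw2138) (rw2139) (Nat.ble 2139 i)) (Nat.ble 2138 i)) (Bool.rec (motive := fun _ => List ℕ) (Bool.rec (motive := fun _ => List ℕ) (rw2140) (rw2141) (Nat.ble 2141 i)) (Bool.rec (motive := fun _ => List ℕ) (rw2142) (rw2143) (Nat.ble 2143 i)) (Nat.ble 2142 i)) (Nat.ble 2140 i)) (Nat.ble 2136 i))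 (Nat.ble 2128 i)) (Bool.rec (motive := fun _ => List ℕ) (Bool.rec (motive := fun _ => List ℕ) (Bool.rec (motive := fun _ => List ℕ) (Bool.rec (motive := fun _ => List ℕ) (Bool.rec (motive := fun _ => List ℕ) (rw2144) (rw2145) (Nat.ble 2145 i)) (Bool.rec (motive := fun _ => List ℕ) (rw2146) (rw2147) (Nat.ble 2147 i)) (Nat.ble 2146 i)) (Bool.rec (motive := fun _ => List ℕ) (Bool.rec (motive := fun _ => List ℕ) (rw2148) (rw2149) (Nat.ble 2149 i)) (Bool.rec (motive := fun _ => List ℕ) (rw2150) (rw2151) (Nat.ble 2151 i)) (Nat.ble 2150 i)) (Nat.ble 2148 i)) (Bool.rec (motive := fun _ => List ℕ) (Bool.rec (motive := fun _ => List ℕ) (Bool.rec (motive := fun _ => List ℕ) (rw2152) (rw2153) (Nat.ble 2153 i)) (Bool.rec (motive := fun _ => List ℕ) (rw2154) (rw2155) (Nat.ble 2155 i)) (Nat.ble 2154 i)) (Bool.rec (motive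 := fun _ => List ℕ) (Bool.rec (motive := fun _ => List ℕ) (rw2156) (rw2157) (Nat.ble 2157 i)) (Bool.rec (motive := fun _ => List ℕ) (rw2158) (rw2159) (Nat.ble 2159 i)) (Nat.ble 2158 i)) (Nat.ble 2156 i)) (Nat.ble 2152 i)) (Bool.rec (motive := fun _ => List ℕ) (Bool.rec (motive := fun _ => List ℕ) (Bool.rec (motive := fun _ => List ℕ) (Bool.rec (motive := fun _ => List ℕ) (rw2160) (rw2161) (Nat.ble 2161 i)) (Bool.rec (motive := fun _ => List ℕ) (rw2162) (rw2163) (Nat.ble 2163 i)) (Nat.ble 2162 i)) (Bool.rec (motive := fun _ => List ℕ) (Bool.rec (motive := fun _ => List ℕ) (rw2164) (rw2165) (Nat.ble 2165 i)) (Bool.rec (motive := fun _ => List ℕ) (rw2166) (rw2167) (Nat.ble 2167 i)) (Nat.ble 2166 i)) (Nat.ble 2164 i)) (Bool.rec (motive := fun _ => List ℕ) (Bool.rec (motive := fun _ => List ℕ) (Bool.rec (motive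 := fun _ => List ℕ) (rw2168) (rw2169) (Nat.ble 2169 i)) (Bool.rec (motive := fun _ => List ℕ) (rw2170) (rw2171) (Nat.ble 2171 i)) (Nat.ble 2170 i)) (Bool.rec (motive := fun _ => List ℕ) (Bool.rec (motive := fun _ => List ℕ) (rw2172) (rw2173) (Nat.ble 2173 i)) (Bool.rec (motive := fun _ => List ℕ) (rw2174) (rw2175) (Nat.ble 2175 i)) (Nat.ble 2174 i)) (Nat.ble 2172 i)) (Nat.ble 2168 i)) (Nat.ble 2160 i)) (Nat.ble 2144 i)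
noncomputable def rwb34 (i : ℕ) : List ℕ := Bool.rec (motive := fun _ => List ℕ) (Bool.rec (motive := fun _ => List ℕ) (Bool.rec (motive := fun _ => List ℕ) (Bool.rec (motive := fun _ => List ℕ) (Bool.rec (motive := fun _ => List ℕ) (Bool.rec (motive := fun _ => List ℕ) (rw2176) (rw2177) (Nat.ble 2177 i)) (Bool.rec (motive := fun _ => List ℕ) (rw2178) (rw2179) (Nat.ble 2179 i)) (Nat.ble 2178 i)) (Bool.rec (motive := fun _ => List ℕ) (Bool.rec (motive := fun _ => List ℕ) (rw2180) (rw2181) (Nat.ble 2181 i)) (Bool.rec (motive := fun _ => List ℕ) (rw2182) (rw2183) (Nat.ble 2183 i)) (Nat.ble 2182 i)) (Nat.ble 2180 i)) (Bool.rec (motive := fun _ => List ℕ) (Bool.rec (motive := fun _ => List ℕ) (Bool.rec (motive := fun _ => List ℕ) (rw2184) (rw2185) (Nat.ble 2185 i)) (Bool.rec (motive := fun _ => List ℕ) (rw2186)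 (rw2187) (Nat.ble 2187 i)) (Nat.ble 2186 i)) (Bool.rec (motive := fun _ => List ℕ) (Bool.rec (motive := fun _ => List ℕ) (rw2188) (rw2189) (Nat.ble 2189 i)) (Bool.rec (motive := fun _ => List ℕ) (rw2190) (rw2191) (Nat.ble 2191 i)) (Nat.ble 2190 i)) (Nat.ble 2188 i)) (Nat.ble 2184 i)) (Bool.rec (motive := fun _ => List ℕ) (Bool.rec (motive := fun _ => List ℕ) (Bool.rec (motive := fun _ => List ℕ) (Bool.rec (motive := fun _ => List ℕ) (rw2192) (rw2193) (Nat.ble 2193 i)) (Bool.rec (motive := fun _ => List ℕ) (rw2194) (rw2195) (Nat.ble 2195 i)) (Nat.ble 2194 i)) (Bool.rec (motive := fun _ => List ℕ) (Bool.rec (motive := fun _ => List ℕ) (rw2196) (rw2197) (Nat.ble 2197 i)) (Bool.rec (motive := fun _ => List ℕ) (rw2198) (rw2199) (Nat.ble 2199 i)) (Nat.ble 2198 i)) (Nat.ble 2196 i)) (Bool.rec (motive := fun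 _ => List ℕ) (Bool.rec (motive := fun _ => List ℕ) (Bool.rec (motive := fun _ => List ℕ) (rw2200) (rw2201) (Nat.ble 2201 i)) (Bool.rec (motive := fun _ => List ℕ) (rw2202) (rw2203) (Nat.ble 2203 i)) (Nat.ble 2202 i)) (Bool.rec (motive := fun _ => List ℕ) (Bool.rec (motive := fun _ => List ℕ) (rw2204) (rw2205) (Nat.ble 2205 i)) (Bool.rec (motive := fun _ => List ℕ) (rw2206) (rw2207) (Nat.ble 2207 i)) (Nat.ble 2206 i)) (Nat.ble 2204 i)) (Nat.ble 2200 i)) (Nat.ble 2192 i)) (Bool.rec (motive := fun _ => List ℕ) (Bool.rec (motive := fun _ => List ℕ) (Bool.rec (motive := fun _ => List ℕ) (Bool.rec (motive := fun _ => List ℕ) (Bool.rec (motive := fun _ => List ℕ) (rw2208) (rw2209) (Nat.ble 2209 i)) (Bool.rec (motive := fun _ => List ℕ) (rw2210) (rw2211) (Nat.ble 2211 i)) (Nat.ble 2210 i)) (Bool.rec (motive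 := fun _ => List ℕ) (Bool.rec (motive := fun _ => List ℕ) (rw2212) (rw2213) (Nat.ble 2213 i)) (Bool.rec (motive := fun _ => List ℕ) (rw2214) (rw2215) (Nat.ble 2215 i)) (Nat.ble 2214 i)) (Nat.ble 2212 i)) (Bool.rec (motive := fun _ => List ℕ) (Bool.rec (motive := fun _ => List ℕ) (Bool.rec (motive := fun _ => List ℕ) (rw2216) (rw2217) (Nat.ble 2217 i)) (Bool.rec (motive := fun _ => List ℕ) (rw2218) (rw2219) (Nat.ble 2219 i)) (Nat.ble 2218 i)) (Bool.rec (motive := fun _ => List ℕ) (Bool.rec (motive := fun _ => List ℕ) (rw2220) (rw2221) (Nat.ble 2221 i)) (Bool.rec (motive := fun _ => List ℕ) (rw2222) (rw2223) (Nat.ble 2223 i)) (Nat.ble 2222 i)) (Nat.ble 2220 i)) (Nat.ble 2216 i)) (Bool.rec (motive := fun _ => List ℕ) (Bool.rec (motive := fun _ => List ℕ) (Bool.rec (motive := fun _ => List ℕ) (Bool.rec (motive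 := fun _ => List ℕ) (rw2224) (rw2225) (Nat.ble 2225 i)) (Bool.rec (motive := fun _ => List ℕ) (rw2226) (rw2227) (Nat.ble 2227 i)) (Nat.ble 2226 i)) (Bool.rec (motive := fun _ => List ℕ) (Bool.rec (motive := fun _ => List ℕ) (rw2228) (rw2229) (Nat.ble 2229 i)) (Bool.rec (motive := fun _ => List ℕ) (rw2230) (rw2231) (Nat.ble 2231 i)) (Nat.ble 2230 i)) (Nat.ble 2228 i)) (Bool.rec (motive := fun _ => List ℕ) (Bool.rec (motive := fun _ => List ℕ) (Bool.rec (motive := fun _ => List ℕ) (rw2232) (rw2233) (Nat.ble 2233 i)) (Bool.rec (motive := fun _ => List ℕ) (rw2234) (rw2235) (Nat.ble 2235 i)) (Nat.ble 2234 i)) (Bool.rec (motive := fun _ => List ℕ) (Bool.rec (motive := fun _ => List ℕ) (rw2236) (rw2237) (Nat.ble 2237 i)) (Bool.rec (motive := fun _ => List ℕ) (rw2238) (rw2239) (Nat.ble 2239 i)) (Nat.ble 2238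 i)) (Nat.ble 2236 i)) (Nat.ble 2232 i)) (Nat.ble 2224 i)) (Nat.ble 2208 i)
noncomputable def rwb35 (i : ℕ) : List ℕ := Bool.rec (motive := fun _ => List ℕ) (Bool.rec (motive := fun _ => List ℕ) (Bool.rec (motive := fun _ => List ℕ) (Bool.rec (motive := fun _ => List ℕ) (Bool.rec (motive := fun _ => List ℕ) (Bool.rec (motive := fun _ => List ℕ) (rw2240) (rw2241) (Nat.ble 2241 i)) (Bool.rec (motive := fun _ => List ℕ) (rw2242) (rw2243) (Nat.ble 2243 i)) (Nat.ble 2242 i)) (Bool.rec (motive := fun _ => List ℕ) (Bool.rec (motive := fun _ => List ℕ) (rw2244) (rw2245) (Nat.ble 2245 i)) (Bool.rec (motive := fun _ => List ℕ) (rw2246) (rw2247) (Nat.ble 2247 i)) (Nat.ble 2246 i)) (Nat.ble 2244 i)) (Bool.rec (motive := fun _ => List ℕ) (Bool.rec (motive := fun _ => List ℕ) (Bool.rec (motive := fun _ => List ℕ) (rw2248)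 (rw2249) (Nat.ble 2249 i)) (Bool.rec (motive := fun _ => List ℕ) (rw2250) (rw2251) (Nat.ble 2251 i)) (Nat.ble 2250 i)) (Bool.rec (motive := fun _ => List ℕ) (Bool.rec (motive := fun _ => List ℕ) (rw2252) (rw2253) (Nat.ble 2253 i)) (Bool.rec (motive := fun _ => List ℕ) (rw2254) (rw2255) (Nat.ble 2255 i)) (Nat.ble 2254 i)) (Nat.ble 2252 i)) (Nat.ble 2248 i)) (Bool.rec (motive := fun _ => List ℕ) (Bool.rec (motive := fun _ => List ℕ) (Bool.rec (motive := fun _ => List ℕ) (Bool.rec (motive := fun _ => List ℕ) (rw2256) (rw2257) (Nat.ble 2257 i)) (Bool.rec (motive := fun _ => List ℕ) (rw2258) (rw2259) (Nat.ble 2259 i)) (Nat.ble 2258 i)) (Bool.rec (motive := fun _ => List ℕ) (Bool.rec (motive := fun _ => List ℕ) (rw2260) (rw2261) (Nat.ble 2261 i)) (Bool.rec (motive := fun _ => List ℕ) (rw2262) (rw2263) (Nat.ble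 2263 i)) (Nat.ble 2262 i)) (Nat.ble 2260 i)) (Bool.rec (motive := fun _ => List ℕ) (Bool.rec (motive := fun _ => List ℕ) (Bool.rec (motive := fun _ => List ℕ) (rw2264) (rw2265) (Nat.ble 2265 i)) (Bool.rec (motive := fun _ => List ℕ) (rw2266) (rw2267) (Nat.ble 2267 i)) (Nat.ble 2266 i)) (Bool.rec (motive := fun _ => List ℕ) (Bool.rec (motive := fun _ => List ℕ) (rw2268) (rw2269) (Nat.ble 2269 i)) (Bool.rec (motive := fun _ => List ℕ) (rw2270) (rw2271) (Nat.ble 2271 i)) (Nat.ble 2270 i)) (Nat.ble 2268 i)) (Nat.ble 2264 i)) (Nat.ble 2256 i)) (Bool.rec (motive := fun _ => List ℕ) (Bool.rec (motive := fun _ => List ℕ) (Bool.rec (motive := fun _ => List ℕ) (Bool.rec (motive := fun _ => List ℕ) (Bool.rec (motive := fun _ => List ℕ) (rw2272) (rw2273) (Nat.ble 2273 i)) (Bool.rec (motive := fun _ => List ℕ) (rw2274)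 (rw2275) (Nat.ble 2275 i)) (Nat.ble 2274 i)) (Bool.rec (motive := fun _ => List ℕ) (Bool.rec (motive := fun _ => List ℕ) (rw2276) (rw2277) (Nat.ble 2277 i)) (Bool.rec (motive := fun _ => List ℕ) (rw2278) (rw2279) (Nat.ble 2279 i)) (Nat.ble 2278 i)) (Nat.ble 2276 i)) (Bool.rec (motive := fun _ => List ℕ) (Bool.rec (motive := fun _ => List ℕ) (Bool.rec (motive := fun _ => List ℕ) (rw2280) (rw2281) (Nat.ble 2281 i)) (Bool.rec (motive := fun _ => List ℕ) (rw2282) (rw2283) (Nat.ble 2283 i)) (Nat.ble 2282 i)) (Bool.rec (motive := fun _ => List ℕ) (Bool.rec (motive := fun _ => List ℕ) (rw2284) (rw2285) (Nat.ble 2285 i)) (Bool.rec (motive := fun _ => List ℕ) (rw2286) (rw2287) (Nat.ble 2287 i)) (Nat.ble 2286 i)) (Nat.ble 2284 i)) (Nat.ble 2280 i)) (Bool.rec (motive := fun _ => List ℕ) (Bool.rec (motive := fun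 _ => List ℕ) (Bool.rec (motive := fun _ => List ℕ) (Bool.rec (motive := fun _ => List ℕ) (rw2288) (rw2289) (Nat.ble 2289 i)) (Bool.rec (motive := fun _ => List ℕ) (rw2290) (rw2291) (Nat.ble 2291 i)) (Nat.ble 2290 i)) (Bool.rec (motive := fun _ => List ℕ) (Bool.rec (motive := fun _ => List ℕ) (rw2292) (rw2293) (Nat.ble 2293 i)) (Bool.rec (motive := fun _ => List ℕ) (rw2294) (rw2295) (Nat.ble 2295 i)) (Nat.ble 2294 i)) (Nat.ble 2292 i)) (Bool.rec (motive := fun _ => List ℕ) (Bool.rec (motive := fun _ => List ℕ) (Bool.rec (motive := fun _ => List ℕ) (rw2296) (rw2297) (Nat.ble 2297 i)) (Bool.rec (motive := fun _ => List ℕ) (rw2298) (rw2299) (Nat.ble 2299 i)) (Nat.ble 2298 i)) (Bool.rec (motive := fun _ => List ℕ) (Bool.rec (motive := fun _ => List ℕ) (rw2300) (rw2301) (Nat.ble 2301 i)) (Bool.rec (motive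 := fun _ => List ℕ) (rw2302) (rw2303) (Nat.ble 2303 i)) (Nat.ble 2302 i)) (Nat.ble 2300 i)) (Nat.ble 2296 i)) (Nat.ble 2288 i)) (Nat.ble 2272 i)
noncomputable def rwb36 (i : ℕ) : List ℕ := Bool.rec (motive := fun _ => List ℕ) (Bool.rec (motive := fun _ => List ℕ) (Bool.rec (motive := fun _ => List ℕ) (Bool.rec (motive := fun _ => List ℕ) (Bool.rec (motive := fun _ => List ℕ) (Bool.rec (motive := fun _ => List ℕ) (rw2304) (rw2305) (Nat.ble 2305 i)) (Bool.rec (motive := fun _ => List ℕ) (rw2306) (rw2307) (Nat.ble 2307 i)) (Nat.ble 2306 i)) (Bool.rec (motive := fun _ => List ℕ) (Bool.rec (motive := fun _ => List ℕ) (rw2308) (rw2309) (Nat.ble 2309 i)) (Bool.rec (motive := fun _ => List ℕ) (rw2310) (rw2311) (Nat.ble 2311 i)) (Nat.ble 2310 i)) (Nat.ble 2308 i)) (Bool.rec (motive := fun _ => List ℕ) (Bool.rec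 (motive := fun _ => List ℕ) (Bool.rec (motive := fun _ => List ℕ) (rw2312) (rw2313) (Nat.ble 2313 i)) (Bool.rec (motive := fun _ => List ℕ) (rw2314) (rw2315) (Nat.ble 2315 i)) (Nat.ble 2314 i)) (Bool.rec (motive := fun _ => List ℕ) (Bool.rec (motive := fun _ => List ℕ) (rw2316) (rw2317) (Nat.ble 2317 i)) (Bool.rec (motive := fun _ => List ℕ) (rw2318) (rw2319) (Nat.ble 2319 i)) (Nat.ble 2318 i)) (Nat.ble 2316 i)) (Nat.ble 2312 i)) (Bool.rec (motive := fun _ => List ℕ) (Bool.rec (motive := fun _ => List ℕ) (Bool.rec (motive := fun _ => List ℕ) (Bool.rec (motive := fun _ => List ℕ) (rw2320) (rw2321) (Nat.ble 2321 i)) (Bool.rec (motive := fun _ => List ℕ) (rw2322) (rw2323) (Nat.ble 2323 i)) (Nat.ble 2322 i)) (Bool.rec (motive := fun _ => List ℕ) (Bool.rec (motive := fun _ => List ℕ) (rw2324) (rw2325) (Nat.ble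 2325 i)) (Bool.rec (motive := fun _ => List ℕ) (rw2326) (rw2327) (Nat.ble 2327 i)) (Nat.ble 2326 i)) (Nat.ble 2324 i)) (Bool.rec (motive := fun _ => List ℕ) (Bool.rec (motive := fun _ => List ℕ) (Bool.rec (motive := fun _ => List ℕ) (rw2328) (rw2329) (Nat.ble 2329 i)) (Bool.rec (motive := fun _ => List ℕ) (rw2330) (rw2331) (Nat.ble 2331 i)) (Nat.ble 2330 i)) (Bool.rec (motive := fun _ => List ℕ) (Bool.rec (motive := fun _ => List ℕ) (rw2332) (rw2333) (Nat.ble 2333 i)) (Bool.rec (motive := fun _ => List ℕ) (rw2334) (rw2335) (Nat.ble 2335 i)) (Nat.ble 2334 i)) (Nat.ble 2332 i)) (Nat.ble 2328 i)) (Nat.ble 2320 i)) (Bool.rec (motive := fun _ => List ℕ) (Bool.rec (motive := fun _ => List ℕ) (Bool.rec (motive := fun _ => List ℕ) (Bool.rec (motive := fun _ => List ℕ) (Bool.rec (motive := fun _ => List ℕ) (rw2336)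 (rw2337) (Nat.ble 2337 i)) (Bool.rec (motive := fun _ => List ℕ) (rw2338) (rw2339) (Nat.ble 2339 i)) (Nat.ble 2338 i)) (Bool.rec (motive := fun _ => List ℕ) (Bool.rec (motive := fun _ => List ℕ) (rw2340) (rw2341) (Nat.ble 2341 i)) (Bool.rec (motive := fun _ => List ℕ) (rw2342) (rw2343) (Nat.ble 2343 i)) (Nat.ble 2342 i)) (Nat.ble 2340 i)) (Bool.rec (motive := fun _ => List ℕ) (Bool.rec (motive := fun _ => List ℕ) (Bool.rec (motive := fun _ => List ℕ) (rw2344) (rw2345) (Nat.ble 2345 i)) (Bool.rec (motive := fun _ => List ℕ) (rw2346) (rw2347) (Nat.ble 2347 i)) (Nat.ble 2346 i)) (Bool.rec (motive := fun _ => List ℕ) (Bool.rec (motive := fun _ => List ℕ) (rw2348) (rw2349) (Nat.ble 2349 i)) (Bool.rec (motive := fun _ => List ℕ) (rw2350) (rw2351) (Nat.ble 2351 i)) (Nat.ble 2350 i)) (Nat.ble 2348 i)) (Nat.ble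 2344 i)) (Bool.rec (motive := fun _ => List ℕ) (Bool.rec (motive := fun _ => List ℕ) (Bool.rec (motive := fun _ => List ℕ) (Bool.rec (motive := fun _ => List ℕ) (rw2352) (rw2353) (Nat.ble 2353 i)) (Bool.rec (motive := fun _ => List ℕ) (rw2354) (rw2355) (Nat.ble 2355 i)) (Nat.ble 2354 i)) (Bool.rec (motive := fun _ => List ℕ) (Bool.rec (motive := fun _ => List ℕ) (rw2356) (rw2357) (Nat.ble 2357 i)) (Bool.rec (motive := fun _ => List ℕ) (rw2358) (rw2359) (Nat.ble 2359 i)) (Nat.ble 2358 i)) (Nat.ble 2356 i)) (Bool.rec (motive := fun _ => List ℕ) (Bool.rec (motive := fun _ => List ℕ) (Bool.rec (motive := fun _ => List ℕ) (rw2360) (rw2361) (Nat.ble 2361 i)) (Bool.rec (motive := fun _ => List ℕ) (rw2362) (rw2363) (Nat.ble 2363 i)) (Nat.ble 2362 i)) (Bool.rec (motive := fun _ => List ℕ) (Bool.rec (motive :=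 fun _ => List ℕ) (rw2364) (rw2365) (Nat.ble 2365 i)) (Bool.rec (motive := fun _ => List ℕ) (rw2366) (rw2367) (Nat.ble 2367 i)) (Nat.ble 2366 i)) (Nat.ble 2364 i)) (Nat.ble 2360 i)) (Nat.ble 2352 i)) (Nat.ble 2336 i)
noncomputable def rwb37 (i : ℕ) : List ℕ := Bool.rec (motive := fun _ => List ℕ) (Bool.rec (motive := fun _ => List ℕ) (Bool.rec (motive := fun _ => List ℕ) (Bool.rec (motive := fun _ => List ℕ) (Bool.rec (motive := fun _ => List ℕ) (Bool.rec (motive := fun _ => List ℕ) (rw2368) (rw2369) (Nat.ble 2369 i)) (Bool.rec (motive := fun _ => List ℕ) (rw2370) (rw2371) (Nat.ble 2371 i)) (Nat.ble 2370 i)) (Bool.rec (motive := fun _ => List ℕ) (Bool.rec (motive := fun _ => List ℕ) (rw2372) (rw2373) (Nat.ble 2373 i)) (Bool.rec (motive := fun _ => List ℕ) (rw2374) (rw2375) (Nat.ble 2375 i)) (Nat.ble 2374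 i)) (Nat.ble 2372 i)) (Bool.rec (motive := fun _ => List ℕ) (Bool.rec (motive := fun _ => List ℕ) (Bool.rec (motive := fun _ => List ℕ) (rw2376) (rw2377) (Nat.ble 2377 i)) (Bool.rec (motive := fun _ => List ℕ) (rw2378) (rw2379) (Nat.ble 2379 i)) (Nat.ble 2378 i)) (Bool.rec (motive := fun _ => List ℕ) (Bool.rec (motive := fun _ => List ℕ) (rw2380) (rw2381) (Nat.ble 2381 i)) (Bool.rec (motive := fun _ => List ℕ) (rw2382) (rw2383) (Nat.ble 2383 i)) (Nat.ble 2382 i)) (Nat.ble 2380 i)) (Nat.ble 2376 i)) (Bool.rec (motive := fun _ => List ℕ) (Bool.rec (motive := fun _ => List ℕ) (Bool.rec (motive := fun _ => List ℕ) (Bool.rec (motive := fun _ => List ℕ) (rw2384) (rw2385) (Nat.ble 2385 i)) (Bool.rec (motive := fun _ => List ℕ) (rw2386) (rw2387) (Nat.ble 2387 i)) (Nat.ble 2386 i)) (Bool.rec (motive := fun _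 => List ℕ) (Bool.rec (motive := fun _ => List ℕ) (rw2388) (rw2389) (Nat.ble 2389 i)) (Bool.rec (motive := fun _ => List ℕ) (rw2390) (rw2391) (Nat.ble 2391 i)) (Nat.ble 2390 i)) (Nat.ble 2388 i)) (Bool.rec (motive := fun _ => List ℕ) (Bool.rec (motive := fun _ => List ℕ) (Bool.rec (motive := fun _ => List ℕ) (rw2392) (rw2393) (Nat.ble 2393 i)) (Bool.rec (motive := fun _ => List ℕ) (rw2394) (rw2395) (Nat.ble 2395 i)) (Nat.ble 2394 i)) (Bool.rec (motive := fun _ => List ℕ) (Bool.rec (motive := fun _ => List ℕ) (rw2396) (rw2397) (Nat.ble 2397 i)) (Bool.rec (motive := fun _ => List ℕ) (rw2398) (rw2399) (Nat.ble 2399 i)) (Nat.ble 2398 i)) (Nat.ble 2396 i)) (Nat.ble 2392 i)) (Nat.ble 2384 i)) (Bool.rec (motive := fun _ => List ℕ) (Bool.rec (motive := fun _ => List ℕ) (Bool.rec (motive := fun _ => List ℕ) (Bool.rec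 (motive := fun _ => List ℕ) (Bool.rec (motive := fun _ => List ℕ) (rw2400) (rw2401) (Nat.ble 2401 i)) (Bool.rec (motive := fun _ => List ℕ) (rw2402) (rw2403) (Nat.ble 2403 i)) (Nat.ble 2402 i)) (Bool.rec (motive := fun _ => List ℕ) (Bool.rec (motive := fun _ => List ℕ) (rw2404) (rw2405) (Nat.ble 2405 i)) (Bool.rec (motive := fun _ => List ℕ) (rw2406) (rw2407) (Nat.ble 2407 i)) (Nat.ble 2406 i)) (Nat.ble 2404 i)) (Bool.rec (motive := fun _ => List ℕ) (Bool.rec (motive := fun _ => List ℕ) (Bool.rec (motive := fun _ => List ℕ) (rw2408) (rw2409) (Nat.ble 2409 i)) (Bool.rec (motive := fun _ => List ℕ) (rw2410) (rw2411) (Nat.ble 2411 i)) (Nat.ble 2410 i)) (Bool.rec (motive := fun _ => List ℕ) (Bool.rec (motive := fun _ => List ℕ) (rw2412) (rw2413) (Nat.ble 2413 i)) (Bool.rec (motive := fun _ => List ℕ) (rw2414)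 (rw2415) (Nat.ble 2415 i)) (Nat.ble 2414 i)) (Nat.ble 2412 i)) (Nat.ble 2408 i)) (Bool.rec (motive := fun _ => List ℕ) (Bool.rec (motive := fun _ => List ℕ) (Bool.rec (motive := fun _ => List ℕ) (Bool.rec (motive := fun _ => List ℕ) (rw2416) (rw2417) (Nat.ble 2417 i)) (Bool.rec (motive := fun _ => List ℕ) (rw2418) (rw2419) (Nat.ble 2419 i)) (Nat.ble 2418 i)) (Bool.rec (motive := fun _ => List ℕ) (Bool.rec (motive := fun _ => List ℕ) (rw2420) (rw2421) (Nat.ble 2421 i)) (Bool.rec (motive := fun _ => List ℕ) (rw2422) (rw2423) (Nat.ble 2423 i)) (Nat.ble 2422 i)) (Nat.ble 2420 i)) (Bool.rec (motive := fun _ => List ℕ) (Bool.rec (motive := fun _ => List ℕ) (Bool.rec (motive := fun _ => List ℕ) (rw2424) (rw2425) (Nat.ble 2425 i)) (Bool.rec (motive := fun _ => List ℕ) (rw2426) (rw2427) (Nat.ble 2427 i)) (Nat.ble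 2426 i)) (Bool.rec (motive := fun _ => List ℕ) (Bool.rec (motive := fun _ => List ℕ) (rw2428) (rw2429) (Nat.ble 2429 i)) (Bool.rec (motive := fun _ => List ℕ) (rw2430) (rw2431) (Nat.ble 2431 i)) (Nat.ble 2430 i)) (Nat.ble 2428 i)) (Nat.ble 2424 i)) (Nat.ble 2416 i)) (Nat.ble 2400 i)
noncomputable def rwb38 (i : ℕ) : List ℕ := Bool.rec (motive := fun _ => List ℕ) (Bool.rec (motive := fun _ => List ℕ) (Bool.rec (motive := fun _ => List ℕ) (Bool.rec (motive := fun _ => List ℕ) (Bool.rec (motive := fun _ => List ℕ) (Bool.rec (motive := fun _ => List ℕ) (rw2432) (rw2433) (Nat.ble 2433 i)) (Bool.rec (motive := fun _ => List ℕ) (rw2434) (rw2435) (Nat.ble 2435 i)) (Nat.ble 2434 i)) (Bool.rec (motive := fun _ => List ℕ) (Bool.rec (motive := fun _ => List ℕ) (rw2436) (rw2437) (Nat.ble 2437 i)) (Bool.rec (motive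 := fun _ => List ℕ) (rw2438) (rw2439) (Nat.ble 2439 i)) (Nat.ble 2438 i)) (Nat.ble 2436 i)) (Bool.rec (motive := fun _ => List ℕ) (Bool.rec (motive := fun _ => List ℕ) (Bool.rec (motive := fun _ => List ℕ) (rw2440) (rw2441) (Nat.ble 2441 i)) (Bool.rec (motive := fun _ => List ℕ) (rw2442) (rw2443) (Nat.ble 2443 i)) (Nat.ble 2442 i)) (Bool.rec (motive := fun _ => List ℕ) (Bool.rec (motive := fun _ => List ℕ) (rw2444) (rw2445) (Nat.ble 2445 i)) (Bool.rec (motive := fun _ => List ℕ) (rw2446) (rw2447) (Nat.ble 2447 i)) (Nat.ble 2446 i)) (Nat.ble 2444 i)) (Nat.ble 2440 i)) (Bool.rec (motive := fun _ => List ℕ) (Bool.rec (motive := fun _ => List ℕ) (Bool.rec (motive := fun _ => List ℕ) (Bool.rec (motive := fun _ => List ℕ) (rw2448) (rw2449) (Nat.ble 2449 i)) (Bool.rec (motive := fun _ => List ℕ) (rw2450) (rw2451)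 (Nat.ble 2451 i)) (Nat.ble 2450 i)) (Bool.rec (motive := fun _ => List ℕ) (Bool.rec (motive := fun _ => List ℕ) (rw2452) (rw2453) (Nat.ble 2453 i)) (Bool.rec (motive := fun _ => List ℕ) (rw2454) (rw2455) (Nat.ble 2455 i)) (Nat.ble 2454 i)) (Nat.ble 2452 i)) (Bool.rec (motive := fun _ => List ℕ) (Bool.rec (motive := fun _ => List ℕ) (Bool.rec (motive := fun _ => List ℕ) (rw2456) (rw2457) (Nat.ble 2457 i)) (Bool.rec (motive := fun _ => List ℕ) (rw2458) (rw2459) (Nat.ble 2459 i)) (Nat.ble 2458 i)) (Bool.rec (motive := fun _ => List ℕ) (Bool.rec (motive := fun _ => List ℕ) (rw2460) (rw2461) (Nat.ble 2461 i)) (Bool.rec (motive := fun _ => List ℕ) (rw2462) (rw2463) (Nat.ble 2463 i)) (Nat.ble 2462 i)) (Nat.ble 2460 i)) (Nat.ble 2456 i)) (Nat.ble 2448 i)) (Bool.rec (motive := fun _ => List ℕ) (Bool.rec (motive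 := fun _ => List ℕ) (Bool.rec (motive := fun _ => List ℕ) (Bool.rec (motive := fun _ => List ℕ) (Bool.rec (motive := fun _ => List ℕ) (rw2464) (rw2465) (Nat.ble 2465 i)) (Bool.rec (motive := fun _ => List ℕ) (rw2466) (rw2467) (Nat.ble 2467 i)) (Nat.ble 2466 i)) (Bool.rec (motive := fun _ => List ℕ) (Bool.rec (motive := fun _ => List ℕ) (rw2468) (rw2469) (Nat.ble 2469 i)) (Bool.rec (motive := fun _ => List ℕ) (rw2470) (rw2471) (Nat.ble 2471 i)) (Nat.ble 2470 i)) (Nat.ble 2468 i)) (Bool.rec (motive := fun _ => List ℕ) (Bool.rec (motive := fun _ => List ℕ) (Bool.rec (motive := fun _ => List ℕ) (rw2472) (rw2473) (Nat.ble 2473 i)) (Bool.rec (motive := fun _ => List ℕ) (rw2474) (rw2475) (Nat.ble 2475 i)) (Nat.ble 2474 i)) (Bool.rec (motive := fun _ => List ℕ) (Bool.rec (motive := fun _ => List ℕ) (rw2476)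 (rw2477) (Nat.ble 2477 i)) (Bool.rec (motive := fun _ => List ℕ) (rw2478) (rw2479) (Nat.ble 2479 i)) (Nat.ble 2478 i)) (Nat.ble 2476 i)) (Nat.ble 2472 i)) (Bool.rec (motive := fun _ => List ℕ) (Bool.rec (motive := fun _ => List ℕ) (Bool.rec (motive := fun _ => List ℕ) (Bool.rec (motive := fun _ => List ℕ) (rw2480) (rw2481) (Nat.ble 2481 i)) (Bool.rec (motive := fun _ => List ℕ) (rw2482) (rw2483) (Nat.ble 2483 i)) (Nat.ble 2482 i)) (Bool.rec (motive := fun _ => List ℕ) (Bool.rec (motive := fun _ => List ℕ) (rw2484) (rw2485) (Nat.ble 2485 i)) (Bool.rec (motive := fun _ => List ℕ) (rw2486) (rw2487) (Nat.ble 2487 i)) (Nat.ble 2486 i)) (Nat.ble 2484 i)) (Bool.rec (motive := fun _ => List ℕ) (Bool.rec (motive := fun _ => List ℕ) (Bool.rec (motive := fun _ => List ℕ) (rw2488) (rw2489) (Nat.ble 2489 i)) (Bool.rec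 (motive := fun _ => List ℕ) (rw2490) (rw2491) (Nat.ble 2491 i)) (Nat.ble 2490 i)) (Bool.rec (motive := fun _ => List ℕ) (Bool.rec (motive := fun _ => List ℕ) (rw2492) (rw2493) (Nat.ble 2493 i)) (Bool.rec (motive := fun _ => List ℕ) (rw2494) (rw2495) (Nat.ble 2495 i)) (Nat.ble 2494 i)) (Nat.ble 2492 i)) (Nat.ble 2488 i)) (Nat.ble 2480 i)) (Nat.ble 2464 i)
noncomputable def rwb39 (i : ℕ) : List ℕ := Bool.rec (motive := fun _ => List ℕ) (Bool.rec (motive := fun _ => List ℕ) (Bool.rec (motive := fun _ => List ℕ) (Bool.rec (motive := fun _ => List ℕ) (Bool.rec (motive := fun _ => List ℕ) (Bool.rec (motive := fun _ => List ℕ) (rw2496) (rw2497) (Nat.ble 2497 i)) (Bool.rec (motive := fun _ => List ℕ) (rw2498) (rw2499) (Nat.ble 2499 i)) (Nat.ble 2498 i)) (Bool.rec (motive := fun _ => List ℕ) (Bool.rec (motive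 := fun _ => List ℕ) (rw2500) (rw2501) (Nat.ble 2501 i)) (Bool.rec (motive := fun _ => List ℕ) (rw2502) (rw2503) (Nat.ble 2503 i)) (Nat.ble 2502 i)) (Nat.ble 2500 i)) (Bool.rec (motive := fun _ => List ℕ) (Bool.rec (motive := fun _ => List ℕ) (Bool.rec (motive := fun _ => List ℕ) (rw2504) (rw2505) (Nat.ble 2505 i)) (Bool.rec (motive := fun _ => List ℕ) (rw2506) (rw2507) (Nat.ble 2507 i)) (Nat.ble 2506 i)) (Bool.rec (motive := fun _ => List ℕ) (Bool.rec (motive := fun _ => List ℕ) (rw2508) (rw2509) (Nat.ble 2509 i)) (Bool.rec (motive := fun _ => List ℕ) (rw2510) (rw2511) (Nat.ble 2511 i)) (Nat.ble 2510 i)) (Nat.ble 2508 i)) (Nat.ble 2504 i)) (Bool.rec (motive := fun _ => List ℕ) (Bool.rec (motive := fun _ => List ℕ) (Bool.rec (motive := fun _ => List ℕ) (Bool.rec (motive := fun _ => List ℕ) (rw2512) (rw2513)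 (Nat.ble 2513 i)) (Bool.rec (motive := fun _ => List ℕ) (rw2514) (rw2515) (Nat.ble 2515 i)) (Nat.ble 2514 i)) (Bool.rec (motive := fun _ => List ℕ) (Bool.rec (motive := fun _ => List ℕ) (rw2516) (rw2517) (Nat.ble 2517 i)) (Bool.rec (motive := fun _ => List ℕ) (rw2518) (rw2519) (Nat.ble 2519 i)) (Nat.ble 2518 i)) (Nat.ble 2516 i)) (Bool.rec (motive := fun _ => List ℕ) (Bool.rec (motive := fun _ => List ℕ) (Bool.rec (motive := fun _ => List ℕ) (rw2520) (rw2521) (Nat.ble 2521 i)) (Bool.rec (motive := fun _ => List ℕ) (rw2522) (rw2523) (Nat.ble 2523 i)) (Nat.ble 2522 i)) (Bool.rec (motive := fun _ => List ℕ) (Bool.rec (motive := fun _ => List ℕ) (rw2524) (rw2525) (Nat.ble 2525 i)) (Bool.rec (motive := fun _ => List ℕ) (rw2526) (rw2527) (Nat.ble 2527 i)) (Nat.ble 2526 i)) (Nat.ble 2524 i)) (Nat.ble 2520 i))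 (Nat.ble 2512 i)) (Bool.rec (motive := fun _ => List ℕ) (Bool.rec (motive := fun _ => List ℕ) (Bool.rec (motive := fun _ => List ℕ) (Bool.rec (motive := fun _ => List ℕ) (Bool.rec (motive := fun _ => List ℕ) (rw2528) (rw2529) (Nat.ble 2529 i)) (Bool.rec (motive := fun _ => List ℕ) (rw2530) (rw2531) (Nat.ble 2531 i)) (Nat.ble 2530 i)) (Bool.rec (motive := fun _ => List ℕ) (Bool.rec (motive := fun _ => List ℕ) (rw2532) (rw2533) (Nat.ble 2533 i)) (Bool.rec (motive := fun _ => List ℕ) (rw2534) (rw2535) (Nat.ble 2535 i)) (Nat.ble 2534 i)) (Nat.ble 2532 i)) (Bool.rec (motive := fun _ => List ℕ) (Bool.rec (motive := fun _ => List ℕ) (Bool.rec (motive := fun _ => List ℕ) (rw2536) (rw2537) (Nat.ble 2537 i)) (Bool.rec (motive := fun _ => List ℕ) (rw2538) (rw2539) (Nat.ble 2539 i)) (Nat.ble 2538 i)) (Bool.rec (motive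 := fun _ => List ℕ) (Bool.rec (motive := fun _ => List ℕ) (rw2540) (rw2541) (Nat.ble 2541 i)) (Bool.rec (motive := fun _ => List ℕ) (rw2542) (rw2543) (Nat.ble 2543 i)) (Nat.ble 2542 i)) (Nat.ble 2540 i)) (Nat.ble 2536 i)) (Bool.rec (motive := fun _ => List ℕ) (Bool.rec (motive := fun _ => List ℕ) (Bool.rec (motive := fun _ => List ℕ) (Bool.rec (motive := fun _ => List ℕ) (rw2544) (rw2545) (Nat.ble 2545 i)) (Bool.rec (motive := fun _ => List ℕ) (rw2546) (rw2547) (Nat.ble 2547 i)) (Nat.ble 2546 i)) (Bool.rec (motive := fun _ => List ℕ) (Bool.rec (motive := fun _ => List ℕ) (rw2548) (rw2549) (Nat.ble 2549 i)) (Bool.rec (motive := fun _ => List ℕ) (rw2550) (rw2551) (Nat.ble 2551 i)) (Nat.ble 2550 i)) (Nat.ble 2548 i)) (Bool.rec (motive := fun _ => List ℕ) (Bool.rec (motive := fun _ => List ℕ) (Bool.rec (motive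 := fun _ => List ℕ) (rw2552) (rw2553) (Nat.ble 2553 i)) (Bool.rec (motive := fun _ => List ℕ) (rw2554) (rw2555) (Nat.ble 2555 i)) (Nat.ble 2554 i)) (Bool.rec (motive := fun _ => List ℕ) (Bool.rec (motive := fun _ => List ℕ) (rw2556) (rw2557) (Nat.ble 2557 i)) (Bool.rec (motive := fun _ => List ℕ) (rw2558) (rw2559) (Nat.ble 2559 i)) (Nat.ble 2558 i)) (Nat.ble 2556 i)) (Nat.ble 2552 i)) (Nat.ble 2544 i)) (Nat.ble 2528 i)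
noncomputable def rwb40 (i : ℕ) : List ℕ := Bool.rec (motive := fun _ => List ℕ) (Bool.rec (motive := fun _ => List ℕ) (Bool.rec (motive := fun _ => List ℕ) (Bool.rec (motive := fun _ => List ℕ) (Bool.rec (motive := fun _ => List ℕ) (Bool.rec (motive := fun _ => List ℕ) (rw2560) (rw2561) (Nat.ble 2561 i)) (Bool.rec (motive := fun _ => List ℕ) (rw2562) (rw2563) (Nat.ble 2563 i)) (Nat.ble 2562 i)) (Bool.rec (motive := fun _ => List ℕ) (Bool.rec (motive := fun _ => List ℕ) (rw2564) (rw2565) (Nat.ble 2565 i)) (Bool.rec (motive := fun _ => List ℕ) (rw2566) (rw2567) (Nat.ble 2567 i)) (Nat.ble 2566 i)) (Nat.ble 2564 i)) (Bool.rec (motive := fun _ => List ℕ) (Bool.rec (motive := fun _ => List ℕ) (Bool.rec (motive := fun _ => List ℕ) (rw2568) (rw2569) (Nat.ble 2569 i)) (Bool.rec (motive := fun _ => List ℕ) (rw2570)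 (rw2571) (Nat.ble 2571 i)) (Nat.ble 2570 i)) (Bool.rec (motive := fun _ => List ℕ) (Bool.rec (motive := fun _ => List ℕ) (rw2572) (rw2573) (Nat.ble 2573 i)) (Bool.rec (motive := fun _ => List ℕ) (rw2574) (rw2575) (Nat.ble 2575 i)) (Nat.ble 2574 i)) (Nat.ble 2572 i)) (Nat.ble 2568 i)) (Bool.rec (motive := fun _ => List ℕ) (Bool.rec (motive := fun _ => List ℕ) (Bool.rec (motive := fun _ => List ℕ) (Bool.rec (motive := fun _ => List ℕ) (rw2576) (rw2577) (Nat.ble 2577 i)) (Bool.rec (motive := fun _ => List ℕ) (rw2578) (rw2579) (Nat.ble 2579 i)) (Nat.ble 2578 i)) (Bool.rec (motive := fun _ => List ℕ) (Bool.rec (motive := fun _ => List ℕ) (rw2580) (rw2581) (Nat.ble 2581 i)) (Bool.rec (motive := fun _ => List ℕ) (rw2582) (rw2583) (Nat.ble 2583 i)) (Nat.ble 2582 i)) (Nat.ble 2580 i)) (Bool.rec (motive := fun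 _ => List ℕ) (Bool.rec (motive := fun _ => List ℕ) (Bool.rec (motive := fun _ => List ℕ) (rw2584) (rw2585) (Nat.ble 2585 i)) (Bool.rec (motive := fun _ => List ℕ) (rw2586) (rw2587) (Nat.ble 2587 i)) (Nat.ble 2586 i)) (Bool.rec (motive := fun _ => List ℕ) (Bool.rec (motive := fun _ => List ℕ) (rw2588) (rw2589) (Nat.ble 2589 i)) (Bool.rec (motive := fun _ => List ℕ) (rw2590) (rw2591) (Nat.ble 2591 i)) (Nat.ble 2590 i)) (Nat.ble 2588 i)) (Nat.ble 2584 i)) (Nat.ble 2576 i)) (Bool.rec (motive := fun _ => List ℕ) (Bool.rec (motive := fun _ => List ℕ) (Bool.rec (motive := fun _ => List ℕ) (Bool.rec (motive := fun _ => List ℕ) (Bool.rec (motive := fun _ => List ℕ) (rw2592) (rw2593) (Nat.ble 2593 i)) (Bool.rec (motive := fun _ => List ℕ) (rw2594) (rw2595) (Nat.ble 2595 i)) (Nat.ble 2594 i)) (Bool.rec (motive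 := fun _ => List ℕ) (Bool.rec (motive := fun _ => List ℕ) (rw2596) (rw2597) (Nat.ble 2597 i)) (Bool.rec (motive := fun _ => List ℕ) (rw2598) (rw2599) (Nat.ble 2599 i)) (Nat.ble 2598 i)) (Nat.ble 2596 i)) (Bool.rec (motive := fun _ => List ℕ) (Bool.rec (motive := fun _ => List ℕ) (Bool.rec (motive := fun _ => List ℕ) (rw2600) (rw2601) (Nat.ble 2601 i)) (Bool.rec (motive := fun _ => List ℕ) (rw2602) (rw2603) (Nat.ble 2603 i)) (Nat.ble 2602 i)) (Bool.rec (motive := fun _ => List ℕ) (Bool.rec (motive := fun _ => List ℕ) (rw2604) (rw2605) (Nat.ble 2605 i)) (Bool.rec (motive := fun _ => List ℕ) (rw2606) (rw2607) (Nat.ble 2607 i)) (Nat.ble 2606 i)) (Nat.ble 2604 i)) (Nat.ble 2600 i)) (Bool.rec (motive := fun _ => List ℕ) (Bool.rec (motive := fun _ => List ℕ) (Bool.rec (motive := fun _ => List ℕ) (Bool.rec (motive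 := fun _ => List ℕ) (rw2608) (rw2609) (Nat.ble 2609 i)) (Bool.rec (motive := fun _ => List ℕ) (rw2610) (rw2611) (Nat.ble 2611 i)) (Nat.ble 2610 i)) (Bool.rec (motive := fun _ => List ℕ) (Bool.rec (motive := fun _ => List ℕ) (rw2612) (rw2613) (Nat.ble 2613 i)) (Bool.rec (motive := fun _ => List ℕ) (rw2614) (rw2615) (Nat.ble 2615 i)) (Nat.ble 2614 i)) (Nat.ble 2612 i)) (Bool.rec (motive := fun _ => List ℕ) (Bool.rec (motive := fun _ => List ℕ) (Bool.rec (motive := fun _ => List ℕ) (rw2616) (rw2617) (Nat.ble 2617 i)) (Bool.rec (motive := fun _ => List ℕ) (rw2618) (rw2619) (Nat.ble 2619 i)) (Nat.ble 2618 i)) (Bool.rec (motive := fun _ => List ℕ) (Bool.rec (motive := fun _ => List ℕ) (rw2620) (rw2621) (Nat.ble 2621 i)) (Bool.rec (motive := fun _ => List ℕ) (rw2622) (rw2623) (Nat.ble 2623 i)) (Nat.ble 2622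 i)) (Nat.ble 2620 i)) (Nat.ble 2616 i)) (Nat.ble 2608 i)) (Nat.ble 2592 i)
noncomputable def rwb41 (i : ℕ) : List ℕ := Bool.rec (motive := fun _ => List ℕ) (Bool.rec (motive := fun _ => List ℕ) (Bool.rec (motive := fun _ => List ℕ) (Bool.rec (motive := fun _ => List ℕ) (Bool.rec (motive := fun _ => List ℕ) (Bool.rec (motive := fun _ => List ℕ) (rw2624) (rw2625) (Nat.ble 2625 i)) (Bool.rec (motive := fun _ => List ℕ) (rw2626) (rw2627) (Nat.ble 2627 i)) (Nat.ble 2626 i)) (Bool.rec (motive := fun _ => List ℕ) (Bool.rec (motive := fun _ => List ℕ) (rw2628) (rw2629) (Nat.ble 2629 i)) (Bool.rec (motive := fun _ => List ℕ) (rw2630) (rw2631) (Nat.ble 2631 i)) (Nat.ble 2630 i)) (Nat.ble 2628 i)) (Bool.rec (motive := fun _ => List ℕ) (Bool.rec (motive := fun _ => List ℕ) (Bool.rec (motive := fun _ => List ℕ) (rw2632)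 (rw2633) (Nat.ble 2633 i)) (Bool.rec (motive := fun _ => List ℕ) (rw2634) (rw2635) (Nat.ble 2635 i)) (Nat.ble 2634 i)) (Bool.rec (motive := fun _ => List ℕ) (Bool.rec (motive := fun _ => List ℕ) (rw2636) (rw2637) (Nat.ble 2637 i)) (Bool.rec (motive := fun _ => List ℕ) (rw2638) (rw2639) (Nat.ble 2639 i)) (Nat.ble 2638 i)) (Nat.ble 2636 i)) (Nat.ble 2632 i)) (Bool.rec (motive := fun _ => List ℕ) (Bool.rec (motive := fun _ => List ℕ) (Bool.rec (motive := fun _ => List ℕ) (Bool.rec (motive := fun _ => List ℕ) (rw2640) (rw2641) (Nat.ble 2641 i)) (Bool.rec (motive := fun _ => List ℕ) (rw2642) (rw2643) (Nat.ble 2643 i)) (Nat.ble 2642 i)) (Bool.rec (motive := fun _ => List ℕ) (Bool.rec (motive := fun _ => List ℕ) (rw2644) (rw2645) (Nat.ble 2645 i)) (Bool.rec (motive := fun _ => List ℕ) (rw2646) (rw2647) (Nat.ble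 2647 i)) (Nat.ble 2646 i)) (Nat.ble 2644 i)) (Bool.rec (motive := fun _ => List ℕ) (Bool.rec (motive := fun _ => List ℕ) (Bool.rec (motive := fun _ => List ℕ) (rw2648) (rw2649) (Nat.ble 2649 i)) (Bool.rec (motive := fun _ => List ℕ) (rw2650) (rw2651) (Nat.ble 2651 i)) (Nat.ble 2650 i)) (Bool.rec (motive := fun _ => List ℕ) (Bool.rec (motive := fun _ => List ℕ) (rw2652) (rw2653) (Nat.ble 2653 i)) (Bool.rec (motive := fun _ => List ℕ) (rw2654) (rw2655) (Nat.ble 2655 i)) (Nat.ble 2654 i)) (Nat.ble 2652 i)) (Nat.ble 2648 i)) (Nat.ble 2640 i)) (Bool.rec (motive := fun _ => List ℕ) (Bool.rec (motive := fun _ => List ℕ) (Bool.rec (motive := fun _ => List ℕ) (Bool.rec (motive := fun _ => List ℕ) (Bool.rec (motive := fun _ => List ℕ) (rw2656) (rw2657) (Nat.ble 2657 i)) (Bool.rec (motive := fun _ => List ℕ) (rw2658)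 (rw2659) (Nat.ble 2659 i)) (Nat.ble 2658 i)) (Bool.rec (motive := fun _ => List ℕ) (Bool.rec (motive := fun _ => List ℕ) (rw2660) (rw2661) (Nat.ble 2661 i)) (Bool.rec (motive := fun _ => List ℕ) (rw2662) (rw2663) (Nat.ble 2663 i)) (Nat.ble 2662 i)) (Nat.ble 2660 i)) (Bool.rec (motive := fun _ => List ℕ) (Bool.rec (motive := fun _ => List ℕ) (Bool.rec (motive := fun _ => List ℕ) (rw2664) (rw2665) (Nat.ble 2665 i)) (Bool.rec (motive := fun _ => List ℕ) (rw2666) (rw2667) (Nat.ble 2667 i)) (Nat.ble 2666 i)) (Bool.rec (motive := fun _ => List ℕ) (Bool.rec (motive := fun _ => List ℕ) (rw2668) (rw2669) (Nat.ble 2669 i)) (Bool.rec (motive := fun _ => List ℕ) (rw2670) (rw2671) (Nat.ble 2671 i)) (Nat.ble 2670 i)) (Nat.ble 2668 i)) (Nat.ble 2664 i)) (Bool.rec (motive := fun _ => List ℕ) (Bool.rec (motive := fun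 _ => List ℕ) (Bool.rec (motive := fun _ => List ℕ) (Bool.rec (motive := fun _ => List ℕ) (rw2672) (rw2673) (Nat.ble 2673 i)) (Bool.rec (motive := fun _ => List ℕ) (rw2674) (rw2675) (Nat.ble 2675 i)) (Nat.ble 2674 i)) (Bool.rec (motive := fun _ => List ℕ) (Bool.rec (motive := fun _ => List ℕ) (rw2676) (rw2677) (Nat.ble 2677 i)) (Bool.rec (motive := fun _ => List ℕ) (rw2678) (rw2679) (Nat.ble 2679 i)) (Nat.ble 2678 i)) (Nat.ble 2676 i)) (Bool.rec (motive := fun _ => List ℕ) (Bool.rec (motive := fun _ => List ℕ) (Bool.rec (motive := fun _ => List ℕ) (rw2680) (rw2681) (Nat.ble 2681 i)) (Bool.rec (motive := fun _ => List ℕ) (rw2682) (rw2683) (Nat.ble 2683 i)) (Nat.ble 2682 i)) (Bool.rec (motive := fun _ => List ℕ) (Bool.rec (motive := fun _ => List ℕ) (rw2684) (rw2685) (Nat.ble 2685 i)) (Bool.rec (motive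 := fun _ => List ℕ) (rw2686) (rw2687) (Nat.ble 2687 i)) (Nat.ble 2686 i)) (Nat.ble 2684 i)) (Nat.ble 2680 i)) (Nat.ble 2672 i)) (Nat.ble 2656 i)
noncomputable def rwb42 (i : ℕ) : List ℕ := Bool.rec (motive := fun _ => List ℕ) (Bool.rec (motive := fun _ => List ℕ) (Bool.rec (motive := fun _ => List ℕ) (Bool.rec (motive := fun _ => List ℕ) (Bool.rec (motive := fun _ => List ℕ) (Bool.rec (motive := fun _ => List ℕ) (rw2688) (rw2689) (Nat.ble 2689 i)) (Bool.rec (motive := fun _ => List ℕ) (rw2690) (rw2691) (Nat.ble 2691 i)) (Nat.ble 2690 i)) (Bool.rec (motive := fun _ => List ℕ) (Bool.rec (motive := fun _ => List ℕ) (rw2692) (rw2693) (Nat.ble 2693 i)) (Bool.rec (motive := fun _ => List ℕ) (rw2694) (rw2695) (Nat.ble 2695 i)) (Nat.ble 2694 i)) (Nat.ble 2692 i)) (Bool.rec (motive := fun _ => List ℕ) (Bool.rec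 (motive := fun _ => List ℕ) (Bool.rec (motive := fun _ => List ℕ) (rw2696) (rw2697) (Nat.ble 2697 i)) (Bool.rec (motive := fun _ => List ℕ) (rw2698) (rw2699) (Nat.ble 2699 i)) (Nat.ble 2698 i)) (Bool.rec (motive := fun _ => List ℕ) (Bool.rec (motive := fun _ => List ℕ) (rw2700) (rw2701) (Nat.ble 2701 i)) (Bool.rec (motive := fun _ => List ℕ) (rw2702) (rw2703) (Nat.ble 2703 i)) (Nat.ble 2702 i)) (Nat.ble 2700 i)) (Nat.ble 2696 i)) (Bool.rec (motive := fun _ => List ℕ) (Bool.rec (motive := fun _ => List ℕ) (Bool.rec (motive := fun _ => List ℕ) (Bool.rec (motive := fun _ => List ℕ) (rw2704) (rw2705) (Nat.ble 2705 i)) (Bool.rec (motive := fun _ => List ℕ) (rw2706) (rw2707) (Nat.ble 2707 i)) (Nat.ble 2706 i)) (Bool.rec (motive := fun _ => List ℕ) (Bool.rec (motive := fun _ => List ℕ) (rw2708) (rw2709) (Nat.ble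 2709 i)) (Bool.rec (motive := fun _ => List ℕ) (rw2710) (rw2711) (Nat.ble 2711 i)) (Nat.ble 2710 i)) (Nat.ble 2708 i)) (Bool.rec (motive := fun _ => List ℕ) (Bool.rec (motive := fun _ => List ℕ) (Bool.rec (motive := fun _ => List ℕ) (rw2712) (rw2713) (Nat.ble 2713 i)) (Bool.rec (motive := fun _ => List ℕ) (rw2714) (rw2715) (Nat.ble 2715 i)) (Nat.ble 2714 i)) (Bool.rec (motive := fun _ => List ℕ) (Bool.rec (motive := fun _ => List ℕ) (rw2716) (rw2717) (Nat.ble 2717 i)) (Bool.rec (motive := fun _ => List ℕ) (rw2718) (rw2719) (Nat.ble 2719 i)) (Nat.ble 2718 i)) (Nat.ble 2716 i)) (Nat.ble 2712 i)) (Nat.ble 2704 i)) (Bool.rec (motive := fun _ => List ℕ) (Bool.rec (motive := fun _ => List ℕ) (Bool.rec (motive := fun _ => List ℕ) (Bool.rec (motive := fun _ => List ℕ) (Bool.rec (motive := fun _ => List ℕ) (rw2720)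 (rw2721) (Nat.ble 2721 i)) (Bool.rec (motive := fun _ => List ℕ) (rw2722) (rw2723) (Nat.ble 2723 i)) (Nat.ble 2722 i)) (Bool.rec (motive := fun _ => List ℕ) (Bool.rec (motive := fun _ => List ℕ) (rw2724) (rw2725) (Nat.ble 2725 i)) (Bool.rec (motive := fun _ => List ℕ) (rw2726) (rw2727) (Nat.ble 2727 i)) (Nat.ble 2726 i)) (Nat.ble 2724 i)) (Bool.rec (motive := fun _ => List ℕ) (Bool.rec (motive := fun _ => List ℕ) (Bool.rec (motive := fun _ => List ℕ) (rw2728) (rw2729) (Nat.ble 2729 i)) (Bool.rec (motive := fun _ => List ℕ) (rw2730) (rw2731) (Nat.ble 2731 i)) (Nat.ble 2730 i)) (Bool.rec (motive := fun _ => List ℕ) (Bool.rec (motive := fun _ => List ℕ) (rw2732) (rw2733) (Nat.ble 2733 i)) (Bool.rec (motive := fun _ => List ℕ) (rw2734) (rw2735) (Nat.ble 2735 i)) (Nat.ble 2734 i)) (Nat.ble 2732 i)) (Nat.ble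 2728 i)) (Bool.rec (motive := fun _ => List ℕ) (Bool.rec (motive := fun _ => List ℕ) (Bool.rec (motive := fun _ => List ℕ) (Bool.rec (motive := fun _ => List ℕ) (rw2736) (rw2737) (Nat.ble 2737 i)) (Bool.rec (motive := fun _ => List ℕ) (rw2738) (rw2739) (Nat.ble 2739 i)) (Nat.ble 2738 i)) (Bool.rec (motive := fun _ => List ℕ) (Bool.rec (motive := fun _ => List ℕ) (rw2740) (rw2741) (Nat.ble 2741 i)) (Bool.rec (motive := fun _ => List ℕ) (rw2742) (rw2743) (Nat.ble 2743 i)) (Nat.ble 2742 i)) (Nat.ble 2740 i)) (Bool.rec (motive := fun _ => List ℕ) (Bool.rec (motive := fun _ => List ℕ) (Bool.rec (motive := fun _ => List ℕ) (rw2744) (rw2745) (Nat.ble 2745 i)) (Bool.rec (motive := fun _ => List ℕ) (rw2746) (rw2747) (Nat.ble 2747 i)) (Nat.ble 2746 i)) (Bool.rec (motive := fun _ => List ℕ) (Bool.rec (motive :=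 fun _ => List ℕ) (rw2748) (rw2749) (Nat.ble 2749 i)) (Bool.rec (motive := fun _ => List ℕ) (rw2750) (rw2751) (Nat.ble 2751 i)) (Nat.ble 2750 i)) (Nat.ble 2748 i)) (Nat.ble 2744 i)) (Nat.ble 2736 i)) (Nat.ble 2720 i)
noncomputable def rwb43 (i : ℕ) : List ℕ := Bool.rec (motive := fun _ => List ℕ) (Bool.rec (motive := fun _ => List ℕ) (Bool.rec (motive := fun _ => List ℕ) (Bool.rec (motive := fun _ => List ℕ) (Bool.rec (motive := fun _ => List ℕ) (Bool.rec (motive := fun _ => List ℕ) (rw2752) (rw2753) (Nat.ble 2753 i)) (Bool.rec (motive := fun _ => List ℕ) (rw2754) (rw2755) (Nat.ble 2755 i)) (Nat.ble 2754 i)) (Bool.rec (motive := fun _ => List ℕ) (Bool.rec (motive := fun _ => List ℕ) (rw2756) (rw2757) (Nat.ble 2757 i)) (Bool.rec (motive := fun _ => List ℕ) (rw2758) (rw2759) (Nat.ble 2759 i)) (Nat.ble 2758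 i)) (Nat.ble 2756 i)) (Bool.rec (motive := fun _ => List ℕ) (Bool.rec (motive := fun _ => List ℕ) (Bool.rec (motive := fun _ => List ℕ) (rw2760) (rw2761) (Nat.ble 2761 i)) (Bool.rec (motive := fun _ => List ℕ) (rw2762) (rw2763) (Nat.ble 2763 i)) (Nat.ble 2762 i)) (Bool.rec (motive := fun _ => List ℕ) (Bool.rec (motive := fun _ => List ℕ) (rw2764) (rw2765) (Nat.ble 2765 i)) (Bool.rec (motive := fun _ => List ℕ) (rw2766) (rw2767) (Nat.ble 2767 i)) (Nat.ble 2766 i)) (Nat.ble 2764 i)) (Nat.ble 2760 i)) (Bool.rec (motive := fun _ => List ℕ) (Bool.rec (motive := fun _ => List ℕ) (Bool.rec (motive := fun _ => List ℕ) (Bool.rec (motive := fun _ => List ℕ) (rw2768) (rw2769) (Nat.ble 2769 i)) (Bool.rec (motive := fun _ => List ℕ) (rw2770) (rw2771) (Nat.ble 2771 i)) (Nat.ble 2770 i)) (Bool.rec (motive := fun _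 => List ℕ) (Bool.rec (motive := fun _ => List ℕ) (rw2772) (rw2773) (Nat.ble 2773 i)) (Bool.rec (motive := fun _ => List ℕ) (rw2774) (rw2775) (Nat.ble 2775 i)) (Nat.ble 2774 i)) (Nat.ble 2772 i)) (Bool.rec (motive := fun _ => List ℕ) (Bool.rec (motive := fun _ => List ℕ) (Bool.rec (motive := fun _ => List ℕ) (rw2776) (rw2777) (Nat.ble 2777 i)) (Bool.rec (motive := fun _ => List ℕ) (rw2778) (rw2779) (Nat.ble 2779 i)) (Nat.ble 2778 i)) (Bool.rec (motive := fun _ => List ℕ) (Bool.rec (motive := fun _ => List ℕ) (rw2780) (rw2781) (Nat.ble 2781 i)) (Bool.rec (motive := fun _ => List ℕ) (rw2782) (rw2783) (Nat.ble 2783 i)) (Nat.ble 2782 i)) (Nat.ble 2780 i)) (Nat.ble 2776 i)) (Nat.ble 2768 i)) (Bool.rec (motive := fun _ => List ℕ) (Bool.rec (motive := fun _ => List ℕ) (Bool.rec (motive := fun _ => List ℕ) (Bool.rec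 (motive := fun _ => List ℕ) (Bool.rec (motive := fun _ => List ℕ) (rw2784) (rw2785) (Nat.ble 2785 i)) (Bool.rec (motive := fun _ => List ℕ) (rw2786) (rw2787) (Nat.ble 2787 i)) (Nat.ble 2786 i)) (Bool.rec (motive := fun _ => List ℕ) (Bool.rec (motive := fun _ => List ℕ) (rw2788) (rw2789) (Nat.ble 2789 i)) (Bool.rec (motive := fun _ => List ℕ) (rw2790) (rw2791) (Nat.ble 2791 i)) (Nat.ble 2790 i)) (Nat.ble 2788 i)) (Bool.rec (motive := fun _ => List ℕ) (Bool.rec (motive := fun _ => List ℕ) (Bool.rec (motive := fun _ => List ℕ) (rw2792) (rw2793) (Nat.ble 2793 i)) (Bool.rec (motive := fun _ => List ℕ) (rw2794) (rw2795) (Nat.ble 2795 i)) (Nat.ble 2794 i)) (Bool.rec (motive := fun _ => List ℕ) (Bool.rec (motive := fun _ => List ℕ) (rw2796) (rw2797) (Nat.ble 2797 i)) (Bool.rec (motive := fun _ => List ℕ) (rw2798)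 (rw2799) (Nat.ble 2799 i)) (Nat.ble 2798 i)) (Nat.ble 2796 i)) (Nat.ble 2792 i)) (Bool.rec (motive := fun _ => List ℕ) (Bool.rec (motive := fun _ => List ℕ) (Bool.rec (motive := fun _ => List ℕ) (Bool.rec (motive := fun _ => List ℕ) (rw2800) (rw2801) (Nat.ble 2801 i)) (Bool.rec (motive := fun _ => List ℕ) (rw2802) (rw2803) (Nat.ble 2803 i)) (Nat.ble 2802 i)) (Bool.rec (motive := fun _ => List ℕ) (Bool.rec (motive := fun _ => List ℕ) (rw2804) (rw2805) (Nat.ble 2805 i)) (Bool.rec (motive := fun _ => List ℕ) (rw2806) (rw2807) (Nat.ble 2807 i)) (Nat.ble 2806 i)) (Nat.ble 2804 i)) (Bool.rec (motive := fun _ => List ℕ) (Bool.rec (motive := fun _ => List ℕ) (Bool.rec (motive := fun _ => List ℕ) (rw2808) (rw2809) (Nat.ble 2809 i)) (Bool.rec (motive := fun _ => List ℕ) (rw2810) (rw2811) (Nat.ble 2811 i)) (Nat.ble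 2810 i)) (Bool.rec (motive := fun _ => List ℕ) (Bool.rec (motive := fun _ => List ℕ) (rw2812) (rw2813) (Nat.ble 2813 i)) (Bool.rec (motive := fun _ => List ℕ) (rw2814) (rw2815) (Nat.ble 2815 i)) (Nat.ble 2814 i)) (Nat.ble 2812 i)) (Nat.ble 2808 i)) (Nat.ble 2800 i)) (Nat.ble 2784 i)
noncomputable def rwb44 (i : ℕ) : List ℕ := Bool.rec (motive := fun _ => List ℕ) (Bool.rec (motive := fun _ => List ℕ) (Bool.rec (motive := fun _ => List ℕ) (Bool.rec (motive := fun _ => List ℕ) (Bool.rec (motive := fun _ => List ℕ) (Bool.rec (motive := fun _ => List ℕ) (rw2816) (rw2817) (Nat.ble 2817 i)) (Bool.rec (motive := fun _ => List ℕ) (rw2818) (rw2819) (Nat.ble 2819 i)) (Nat.ble 2818 i)) (Bool.rec (motive := fun _ => List ℕ) (Bool.rec (motive := fun _ => List ℕ) (rw2820) (rw2821) (Nat.ble 2821 i)) (Bool.rec (motive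 := fun _ => List ℕ) (rw2822) (rw2823) (Nat.ble 2823 i)) (Nat.ble 2822 i)) (Nat.ble 2820 i)) (Bool.rec (motive := fun _ => List ℕ) (Bool.rec (motive := fun _ => List ℕ) (Bool.rec (motive := fun _ => List ℕ) (rw2824) (rw2825) (Nat.ble 2825 i)) (Bool.rec (motive := fun _ => List ℕ) (rw2826) (rw2827) (Nat.ble 2827 i)) (Nat.ble 2826 i)) (Bool.rec (motive := fun _ => List ℕ) (Bool.rec (motive := fun _ => List ℕ) (rw2828) (rw2829) (Nat.ble 2829 i)) (Bool.rec (motive := fun _ => List ℕ) (rw2830) (rw2831) (Nat.ble 2831 i)) (Nat.ble 2830 i)) (Nat.ble 2828 i)) (Nat.ble 2824 i)) (Bool.rec (motive := fun _ => List ℕ) (Bool.rec (motive := fun _ => List ℕ) (Bool.rec (motive := fun _ => List ℕ) (Bool.rec (motive := fun _ => List ℕ) (rw2832) (rw2833) (Nat.ble 2833 i)) (Bool.rec (motive := fun _ => List ℕ) (rw2834) (rw2835)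 (Nat.ble 2835 i)) (Nat.ble 2834 i)) (Bool.rec (motive := fun _ => List ℕ) (Bool.rec (motive := fun _ => List ℕ) (rw2836) (rw2837) (Nat.ble 2837 i)) (Bool.rec (motive := fun _ => List ℕ) (rw2838) (rw2839) (Nat.ble 2839 i)) (Nat.ble 2838 i)) (Nat.ble 2836 i)) (Bool.rec (motive := fun _ => List ℕ) (Bool.rec (motive := fun _ => List ℕ) (Bool.rec (motive := fun _ => List ℕ) (rw2840) (rw2841) (Nat.ble 2841 i)) (Bool.rec (motive := fun _ => List ℕ) (rw2842) (rw2843) (Nat.ble 2843 i)) (Nat.ble 2842 i)) (Bool.rec (motive := fun _ => List ℕ) (Bool.rec (motive := fun _ => List ℕ) (rw2844) (rw2845) (Nat.ble 2845 i)) (Bool.rec (motive := fun _ => List ℕ) (rw2846) (rw2847) (Nat.ble 2847 i)) (Nat.ble 2846 i)) (Nat.ble 2844 i)) (Nat.ble 2840 i)) (Nat.ble 2832 i)) (Bool.rec (motive := fun _ => List ℕ) (Bool.rec (motive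 := fun _ => List ℕ) (Bool.rec (motive := fun _ => List ℕ) (Bool.rec (motive := fun _ => List ℕ) (Bool.rec (motive := fun _ => List ℕ) (rw2848) (rw2849) (Nat.ble 2849 i)) (Bool.rec (motive := fun _ => List ℕ) (rw2850) (rw2851) (Nat.ble 2851 i)) (Nat.ble 2850 i)) (Bool.rec (motive := fun _ => List ℕ) (Bool.rec (motive := fun _ => List ℕ) (rw2852) (rw2853) (Nat.ble 2853 i)) (Bool.rec (motive := fun _ => List ℕ) (rw2854) (rw2855) (Nat.ble 2855 i)) (Nat.ble 2854 i)) (Nat.ble 2852 i)) (Bool.rec (motive := fun _ => List ℕ) (Bool.rec (motive := fun _ => List ℕ) (Bool.rec (motive := fun _ => List ℕ) (rw2856) (rw2857) (Nat.ble 2857 i)) (Bool.rec (motive := fun _ => List ℕ) (rw2858) (rw2859) (Nat.ble 2859 i)) (Nat.ble 2858 i)) (Bool.rec (motive := fun _ => List ℕ) (Bool.rec (motive := fun _ => List ℕ) (rw2860)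 (rw2861) (Nat.ble 2861 i)) (Bool.rec (motive := fun _ => List ℕ) (rw2862) (rw2863) (Nat.ble 2863 i)) (Nat.ble 2862 i)) (Nat.ble 2860 i)) (Nat.ble 2856 i)) (Bool.rec (motive := fun _ => List ℕ) (Bool.rec (motive := fun _ => List ℕ) (Bool.rec (motive := fun _ => List ℕ) (Bool.rec (motive := fun _ => List ℕ) (rw2864) (rw2865) (Nat.ble 2865 i)) (Bool.rec (motive := fun _ => List ℕ) (rw2866) (rw2867) (Nat.ble 2867 i)) (Nat.ble 2866 i)) (Bool.rec (motive := fun _ => List ℕ) (Bool.rec (motive := fun _ => List ℕ) (rw2868) (rw2869) (Nat.ble 2869 i)) (Bool.rec (motive := fun _ => List ℕ) (rw2870) (rw2871) (Nat.ble 2871 i)) (Nat.ble 2870 i)) (Nat.ble 2868 i)) (Bool.rec (motive := fun _ => List ℕ) (Bool.rec (motive := fun _ => List ℕ) (Bool.rec (motive := fun _ => List ℕ) (rw2872) (rw2873) (Nat.ble 2873 i)) (Bool.rec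 (motive := fun _ => List ℕ) (rw2874) (rw2875) (Nat.ble 2875 i)) (Nat.ble 2874 i)) (Bool.rec (motive := fun _ => List ℕ) (Bool.rec (motive := fun _ => List ℕ) (rw2876) (rw2877) (Nat.ble 2877 i)) (Bool.rec (motive := fun _ => List ℕ) (rw2878) (rw2879) (Nat.ble 2879 i)) (Nat.ble 2878 i)) (Nat.ble 2876 i)) (Nat.ble 2872 i)) (Nat.ble 2864 i)) (Nat.ble 2848 i)
noncomputable def rwb45 (i : ℕ) : List ℕ := Bool.rec (motive := fun _ => List ℕ) (Bool.rec (motive := fun _ => List ℕ) (Bool.rec (motive := fun _ => List ℕ) (Bool.rec (motive := fun _ => List ℕ) (Bool.rec (motive := fun _ => List ℕ) (Bool.rec (motive := fun _ => List ℕ) (rw2880) (rw2881) (Nat.ble 2881 i)) (Bool.rec (motive := fun _ => List ℕ) (rw2882) (rw2883) (Nat.ble 2883 i)) (Nat.ble 2882 i)) (Bool.rec (motive := fun _ => List ℕ) (Bool.rec (motive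 := fun _ => List ℕ) (rw2884) (rw2885) (Nat.ble 2885 i)) (Bool.rec (motive := fun _ => List ℕ) (rw2886) (rw2887) (Nat.ble 2887 i)) (Nat.ble 2886 i)) (Nat.ble 2884 i)) (Bool.rec (motive := fun _ => List ℕ) (Bool.rec (motive := fun _ => List ℕ) (Bool.rec (motive := fun _ => List ℕ) (rw2888) (rw2889) (Nat.ble 2889 i)) (Bool.rec (motive := fun _ => List ℕ) (rw2890) (rw2891) (Nat.ble 2891 i)) (Nat.ble 2890 i)) (Bool.rec (motive := fun _ => List ℕ) (Bool.rec (motive := fun _ => List ℕ) (rw2892) (rw2893) (Nat.ble 2893 i)) (Bool.rec (motive := fun _ => List ℕ) (rw2894) (rw2895) (Nat.ble 2895 i)) (Nat.ble 2894 i)) (Nat.ble 2892 i)) (Nat.ble 2888 i)) (Bool.rec (motive := fun _ => List ℕ) (Bool.rec (motive := fun _ => List ℕ) (Bool.rec (motive := fun _ => List ℕ) (Bool.rec (motive := fun _ => List ℕ) (rw2896) (rw2897)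 (Nat.ble 2897 i)) (Bool.rec (motive := fun _ => List ℕ) (rw2898) (rw2899) (Nat.ble 2899 i)) (Nat.ble 2898 i)) (Bool.rec (motive := fun _ => List ℕ) (Bool.rec (motive := fun _ => List ℕ) (rw2900) (rw2901) (Nat.ble 2901 i)) (Bool.rec (motive := fun _ => List ℕ) (rw2902) (rw2903) (Nat.ble 2903 i)) (Nat.ble 2902 i)) (Nat.ble 2900 i)) (Bool.rec (motive := fun _ => List ℕ) (Bool.rec (motive := fun _ => List ℕ) (Bool.rec (motive := fun _ => List ℕ) (rw2904) (rw2905) (Nat.ble 2905 i)) (Bool.rec (motive := fun _ => List ℕ) (rw2906) (rw2907) (Nat.ble 2907 i)) (Nat.ble 2906 i)) (Bool.rec (motive := fun _ => List ℕ) (Bool.rec (motive := fun _ => List ℕ) (rw2908) (rw2909) (Nat.ble 2909 i)) (Bool.rec (motive := fun _ => List ℕ) (rw2910) (rw2911) (Nat.ble 2911 i)) (Nat.ble 2910 i)) (Nat.ble 2908 i)) (Nat.ble 2904 i))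 (Nat.ble 2896 i)) (Bool.rec (motive := fun _ => List ℕ) (Bool.rec (motive := fun _ => List ℕ) (Bool.rec (motive := fun _ => List ℕ) (Bool.rec (motive := fun _ => List ℕ) (Bool.rec (motive := fun _ => List ℕ) (rw2912) (rw2913) (Nat.ble 2913 i)) (Bool.rec (motive := fun _ => List ℕ) (rw2914) (rw2915) (Nat.ble 2915 i)) (Nat.ble 2914 i)) (Bool.rec (motive := fun _ => List ℕ) (Bool.rec (motive := fun _ => List ℕ) (rw2916) (rw2917) (Nat.ble 2917 i)) (Bool.rec (motive := fun _ => List ℕ) (rw2918) (rw2919) (Nat.ble 2919 i)) (Nat.ble 2918 i)) (Nat.ble 2916 i)) (Bool.rec (motive := fun _ => List ℕ) (Bool.rec (motive := fun _ => List ℕ) (Bool.rec (motive := fun _ => List ℕ) (rw2920) (rw2921) (Nat.ble 2921 i)) (Bool.rec (motive := fun _ => List ℕ) (rw2922) (rw2923) (Nat.ble 2923 i)) (Nat.ble 2922 i)) (Bool.rec (motive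 := fun _ => List ℕ) (Bool.rec (motive := fun _ => List ℕ) (rw2924) (rw2925) (Nat.ble 2925 i)) (Bool.rec (motive := fun _ => List ℕ) (rw2926) (rw2927) (Nat.ble 2927 i)) (Nat.ble 2926 i)) (Nat.ble 2924 i)) (Nat.ble 2920 i)) (Bool.rec (motive := fun _ => List ℕ) (Bool.rec (motive := fun _ => List ℕ) (Bool.rec (motive := fun _ => List ℕ) (Bool.rec (motive := fun _ => List ℕ) (rw2928) (rw2929) (Nat.ble 2929 i)) (Bool.rec (motive := fun _ => List ℕ) (rw2930) (rw2931) (Nat.ble 2931 i)) (Nat.ble 2930 i)) (Bool.rec (motive := fun _ => List ℕ) (Bool.rec (motive := fun _ => List ℕ) (rw2932) (rw2933) (Nat.ble 2933 i)) (Bool.rec (motive := fun _ => List ℕ) (rw2934) (rw2935) (Nat.ble 2935 i)) (Nat.ble 2934 i)) (Nat.ble 2932 i)) (Bool.rec (motive := fun _ => List ℕ) (Bool.rec (motive := fun _ => List ℕ) (Bool.rec (motive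 := fun _ => List ℕ) (rw2936) (rw2937) (Nat.ble 2937 i)) (Bool.rec (motive := fun _ => List ℕ) (rw2938) (rw2939) (Nat.ble 2939 i)) (Nat.ble 2938 i)) (Bool.rec (motive := fun _ => List ℕ) (Bool.rec (motive := fun _ => List ℕ) (rw2940) (rw2941) (Nat.ble 2941 i)) (Bool.rec (motive := fun _ => List ℕ) (rw2942) (rw2943) (Nat.ble 2943 i)) (Nat.ble 2942 i)) (Nat.ble 2940 i)) (Nat.ble 2936 i)) (Nat.ble 2928 i)) (Nat.ble 2912 i)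
noncomputable def rwb46 (i : ℕ) : List ℕ := Bool.rec (motive := fun _ => List ℕ) (Bool.rec (motive := fun _ => List ℕ) (Bool.rec (motive := fun _ => List ℕ) (Bool.rec (motive := fun _ => List ℕ) (Bool.rec (motive := fun _ => List ℕ) (Bool.rec (motive := fun _ => List ℕ) (rw2944) (rw2945) (Nat.ble 2945 i)) (Bool.rec (motive := fun _ => List ℕ) (rw2946) (rw2947) (Nat.ble 2947 i)) (Nat.ble 2946 i)) (Bool.rec (motive := fun _ => List ℕ) (Bool.rec (motive := fun _ => List ℕ) (rw2948) (rw2949) (Nat.ble 2949 i)) (Bool.rec (motive := fun _ => List ℕ) (rw2950) (rw2951) (Nat.ble 2951 i)) (Nat.ble 2950 i)) (Nat.ble 2948 i)) (Bool.rec (motive := fun _ => List ℕ) (Bool.rec (motive := fun _ => List ℕ) (Bool.rec (motive := fun _ => List ℕ) (rw2952) (rw2953) (Nat.ble 2953 i)) (Bool.rec (motive := fun _ => List ℕ) (rw2954)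 (rw2955) (Nat.ble 2955 i)) (Nat.ble 2954 i)) (Bool.rec (motive := fun _ => List ℕ) (Bool.rec (motive := fun _ => List ℕ) (rw2956) (rw2957) (Nat.ble 2957 i)) (Bool.rec (motive := fun _ => List ℕ) (rw2958) (rw2959) (Nat.ble 2959 i)) (Nat.ble 2958 i)) (Nat.ble 2956 i)) (Nat.ble 2952 i)) (Bool.rec (motive := fun _ => List ℕ) (Bool.rec (motive := fun _ => List ℕ) (Bool.rec (motive := fun _ => List ℕ) (Bool.rec (motive := fun _ => List ℕ) (rw2960) (rw2961) (Nat.ble 2961 i)) (Bool.rec (motive := fun _ => List ℕ) (rw2962) (rw2963) (Nat.ble 2963 i)) (Nat.ble 2962 i)) (Bool.rec (motive := fun _ => List ℕ) (Bool.rec (motive := fun _ => List ℕ) (rw2964) (rw2965) (Nat.ble 2965 i)) (Bool.rec (motive := fun _ => List ℕ) (rw2966) (rw2967) (Nat.ble 2967 i)) (Nat.ble 2966 i)) (Nat.ble 2964 i)) (Bool.rec (motive := fun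 _ => List ℕ) (Bool.rec (motive := fun _ => List ℕ) (Bool.rec (motive := fun _ => List ℕ) (rw2968) (rw2969) (Nat.ble 2969 i)) (Bool.rec (motive := fun _ => List ℕ) (rw2970) (rw2971) (Nat.ble 2971 i)) (Nat.ble 2970 i)) (Bool.rec (motive := fun _ => List ℕ) (Bool.rec (motive := fun _ => List ℕ) (rw2972) (rw2973) (Nat.ble 2973 i)) (Bool.rec (motive := fun _ => List ℕ) (rw2974) (rw2975) (Nat.ble 2975 i)) (Nat.ble 2974 i)) (Nat.ble 2972 i)) (Nat.ble 2968 i)) (Nat.ble 2960 i)) (Bool.rec (motive := fun _ => List ℕ) (Bool.rec (motive := fun _ => List ℕ) (Bool.rec (motive := fun _ => List ℕ) (Bool.rec (motive := fun _ => List ℕ) (Bool.rec (motive := fun _ => List ℕ) (rw2976) (rw2977) (Nat.ble 2977 i)) (Bool.rec (motive := fun _ => List ℕ) (rw2978) (rw2979) (Nat.ble 2979 i)) (Nat.ble 2978 i)) (Bool.rec (motive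 := fun _ => List ℕ) (Bool.rec (motive := fun _ => List ℕ) (rw2980) (rw2981) (Nat.ble 2981 i)) (Bool.rec (motive := fun _ => List ℕ) (rw2982) (rw2983) (Nat.ble 2983 i)) (Nat.ble 2982 i)) (Nat.ble 2980 i)) (Bool.rec (motive := fun _ => List ℕ) (Bool.rec (motive := fun _ => List ℕ) (Bool.rec (motive := fun _ => List ℕ) (rw2984) (rw2985) (Nat.ble 2985 i)) (Bool.rec (motive := fun _ => List ℕ) (rw2986) (rw2987) (Nat.ble 2987 i)) (Nat.ble 2986 i)) (Bool.rec (motive := fun _ => List ℕ) (Bool.rec (motive := fun _ => List ℕ) (rw2988) (rw2989) (Nat.ble 2989 i)) (Bool.rec (motive := fun _ => List ℕ) (rw2990) (rw2991) (Nat.ble 2991 i)) (Nat.ble 2990 i)) (Nat.ble 2988 i)) (Nat.ble 2984 i)) (Bool.rec (motive := fun _ => List ℕ) (Bool.rec (motive := fun _ => List ℕ) (Bool.rec (motive := fun _ => List ℕ) (Bool.rec (motive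 := fun _ => List ℕ) (rw2992) (rw2993) (Nat.ble 2993 i)) (Bool.rec (motive := fun _ => List ℕ) (rw2994) (rw2995) (Nat.ble 2995 i)) (Nat.ble 2994 i)) (Bool.rec (motive := fun _ => List ℕ) (Bool.rec (motive := fun _ => List ℕ) (rw2996) (rw2997) (Nat.ble 2997 i)) (Bool.rec (motive := fun _ => List ℕ) (rw2998) (rw2999) (Nat.ble 2999 i)) (Nat.ble 2998 i)) (Nat.ble 2996 i)) (Bool.rec (motive := fun _ => List ℕ) (Bool.rec (motive := fun _ => List ℕ) (Bool.rec (motive := fun _ => List ℕ) (rw3000) (rw3001) (Nat.ble 3001 i)) (Bool.rec (motive := fun _ => List ℕ) (rw3002) (rw3003) (Nat.ble 3003 i)) (Nat.ble 3002 i)) (Bool.rec (motive := fun _ => List ℕ) (Bool.rec (motive := fun _ => List ℕ) (rw3004) (rw3005) (Nat.ble 3005 i)) (Bool.rec (motive := fun _ => List ℕ) (rw3006) (rw3007) (Nat.ble 3007 i)) (Nat.ble 3006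 i)) (Nat.ble 3004 i)) (Nat.ble 3000 i)) (Nat.ble 2992 i)) (Nat.ble 2976 i)
noncomputable def rwb47 (i : ℕ) : List ℕ := Bool.rec (motive := fun _ => List ℕ) (Bool.rec (motive := fun _ => List ℕ) (Bool.rec (motive := fun _ => List ℕ) (Bool.rec (motive := fun _ => List ℕ) (Bool.rec (motive := fun _ => List ℕ) (Bool.rec (motive := fun _ => List ℕ) (rw3008) (rw3009) (Nat.ble 3009 i)) (Bool.rec (motive := fun _ => List ℕ) (rw3010) (rw3011) (Nat.ble 3011 i)) (Nat.ble 3010 i)) (Bool.rec (motive := fun _ => List ℕ) (Bool.rec (motive := fun _ => List ℕ) (rw3012) (rw3013) (Nat.ble 3013 i)) (Bool.rec (motive := fun _ => List ℕ) (rw3014) (rw3015) (Nat.ble 3015 i)) (Nat.ble 3014 i)) (Nat.ble 3012 i)) (Bool.rec (motive := fun _ => List ℕ) (Bool.rec (motive := fun _ => List ℕ) (Bool.rec (motive := fun _ => List ℕ) (rw3016)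 (rw3017) (Nat.ble 3017 i)) (Bool.rec (motive := fun _ => List ℕ) (rw3018) (rw3019) (Nat.ble 3019 i)) (Nat.ble 3018 i)) (Bool.rec (motive := fun _ => List ℕ) (Bool.rec (motive := fun _ => List ℕ) (rw3020) (rw3021) (Nat.ble 3021 i)) (Bool.rec (motive := fun _ => List ℕ) (rw3022) (rw3023) (Nat.ble 3023 i)) (Nat.ble 3022 i)) (Nat.ble 3020 i)) (Nat.ble 3016 i)) (Bool.rec (motive := fun _ => List ℕ) (Bool.rec (motive := fun _ => List ℕ) (Bool.rec (motive := fun _ => List ℕ) (Bool.rec (motive := fun _ => List ℕ) (rw3024) (rw3025) (Nat.ble 3025 i)) (Bool.rec (motive := fun _ => List ℕ) (rw3026) (rw3027) (Nat.ble 3027 i)) (Nat.ble 3026 i)) (Bool.rec (motive := fun _ => List ℕ) (Bool.rec (motive := fun _ => List ℕ) (rw3028) (rw3029) (Nat.ble 3029 i)) (Bool.rec (motive := fun _ => List ℕ) (rw3030) (rw3031) (Nat.ble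 3031 i)) (Nat.ble 3030 i)) (Nat.ble 3028 i)) (Bool.rec (motive := fun _ => List ℕ) (Bool.rec (motive := fun _ => List ℕ) (Bool.rec (motive := fun _ => List ℕ) (rw3032) (rw3033) (Nat.ble 3033 i)) (Bool.rec (motive := fun _ => List ℕ) (rw3034) (rw3035) (Nat.ble 3035 i)) (Nat.ble 3034 i)) (Bool.rec (motive := fun _ => List ℕ) (Bool.rec (motive := fun _ => List ℕ) (rw3036) (rw3037) (Nat.ble 3037 i)) (Bool.rec (motive := fun _ => List ℕ) (rw3038) (rw3039) (Nat.ble 3039 i)) (Nat.ble 3038 i)) (Nat.ble 3036 i)) (Nat.ble 3032 i)) (Nat.ble 3024 i)) (Bool.rec (motive := fun _ => List ℕ) (Bool.rec (motive := fun _ => List ℕ) (Bool.rec (motive := fun _ => List ℕ) (Bool.rec (motive := fun _ => List ℕ) (Bool.rec (motive := fun _ => List ℕ) (rw3040) (rw3041) (Nat.ble 3041 i)) (Bool.rec (motive := fun _ => List ℕ) (rw3042)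 (rw3043) (Nat.ble 3043 i)) (Nat.ble 3042 i)) (Bool.rec (motive := fun _ => List ℕ) (Bool.rec (motive := fun _ => List ℕ) (rw3044) (rw3045) (Nat.ble 3045 i)) (Bool.rec (motive := fun _ => List ℕ) (rw3046) (rw3047) (Nat.ble 3047 i)) (Nat.ble 3046 i)) (Nat.ble 3044 i)) (Bool.rec (motive := fun _ => List ℕ) (Bool.rec (motive := fun _ => List ℕ) (Bool.rec (motive := fun _ => List ℕ) (rw3048) (rw3049) (Nat.ble 3049 i)) (Bool.rec (motive := fun _ => List ℕ) (rw3050) (rw3051) (Nat.ble 3051 i)) (Nat.ble 3050 i)) (Bool.rec (motive := fun _ => List ℕ) (Bool.rec (motive := fun _ => List ℕ) (rw3052) (rw3053) (Nat.ble 3053 i)) (Bool.rec (motive := fun _ => List ℕ) (rw3054) (rw3055) (Nat.ble 3055 i)) (Nat.ble 3054 i)) (Nat.ble 3052 i)) (Nat.ble 3048 i)) (Bool.rec (motive := fun _ => List ℕ) (Bool.rec (motive := fun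 _ => List ℕ) (Bool.rec (motive := fun _ => List ℕ) (Bool.rec (motive := fun _ => List ℕ) (rw3056) (rw3057) (Nat.ble 3057 i)) (Bool.rec (motive := fun _ => List ℕ) (rw3058) (rw3059) (Nat.ble 3059 i)) (Nat.ble 3058 i)) (Bool.rec (motive := fun _ => List ℕ) (Bool.rec (motive := fun _ => List ℕ) (rw3060) (rw3061) (Nat.ble 3061 i)) (Bool.rec (motive := fun _ => List ℕ) (rw3062) (rw3063) (Nat.ble 3063 i)) (Nat.ble 3062 i)) (Nat.ble 3060 i)) (Bool.rec (motive := fun _ => List ℕ) (Bool.rec (motive := fun _ => List ℕ) (Bool.rec (motive := fun _ => List ℕ) (rw3064) (rw3065) (Nat.ble 3065 i)) (Bool.rec (motive := fun _ => List ℕ) (rw3066) (rw3067) (Nat.ble 3067 i)) (Nat.ble 3066 i)) (Bool.rec (motive := fun _ => List ℕ) (Bool.rec (motive := fun _ => List ℕ) (rw3068) (rw3069) (Nat.ble 3069 i)) (Bool.rec (motive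 := fun _ => List ℕ) (rw3070) (rw3071) (Nat.ble 3071 i)) (Nat.ble 3070 i)) (Nat.ble 3068 i)) (Nat.ble 3064 i)) (Nat.ble 3056 i)) (Nat.ble 3040 i)
noncomputable def rwb48 (i : ℕ) : List ℕ := Bool.rec (motive := fun _ => List ℕ) (Bool.rec (motive := fun _ => List ℕ) (Bool.rec (motive := fun _ => List ℕ) (Bool.rec (motive := fun _ => List ℕ) (Bool.rec (motive := fun _ => List ℕ) (Bool.rec (motive := fun _ => List ℕ) (rw3072) (rw3073) (Nat.ble 3073 i)) (Bool.rec (motive := fun _ => List ℕ) (rw3074) (rw3075) (Nat.ble 3075 i)) (Nat.ble 3074 i)) (Bool.rec (motive := fun _ => List ℕ) (Bool.rec (motive := fun _ => List ℕ) (rw3076) (rw3077) (Nat.ble 3077 i)) (Bool.rec (motive := fun _ => List ℕ) (rw3078) (rw3079) (Nat.ble 3079 i)) (Nat.ble 3078 i)) (Nat.ble 3076 i)) (Bool.rec (motive := fun _ => List ℕ) (Bool.rec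 (motive := fun _ => List ℕ) (Bool.rec (motive := fun _ => List ℕ) (rw3080) (rw3081) (Nat.ble 3081 i)) (Bool.rec (motive := fun _ => List ℕ) (rw3082) (rw3083) (Nat.ble 3083 i)) (Nat.ble 3082 i)) (Bool.rec (motive := fun _ => List ℕ) (Bool.rec (motive := fun _ => List ℕ) (rw3084) (rw3085) (Nat.ble 3085 i)) (Bool.rec (motive := fun _ => List ℕ) (rw3086) (rw3087) (Nat.ble 3087 i)) (Nat.ble 3086 i)) (Nat.ble 3084 i)) (Nat.ble 3080 i)) (Bool.rec (motive := fun _ => List ℕ) (Bool.rec (motive := fun _ => List ℕ) (Bool.rec (motive := fun _ => List ℕ) (Bool.rec (motive := fun _ => List ℕ) (rw3088) (rw3089) (Nat.ble 3089 i)) (Bool.rec (motive := fun _ => List ℕ) (rw3090) (rw3091) (Nat.ble 3091 i)) (Nat.ble 3090 i)) (Bool.rec (motive := fun _ => List ℕ) (Bool.rec (motive := fun _ => List ℕ) (rw3092) (rw3093) (Nat.ble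 3093 i)) (Bool.rec (motive := fun _ => List ℕ) (rw3094) (rw3095) (Nat.ble 3095 i)) (Nat.ble 3094 i)) (Nat.ble 3092 i)) (Bool.rec (motive := fun _ => List ℕ) (Bool.rec (motive := fun _ => List ℕ) (Bool.rec (motive := fun _ => List ℕ) (rw3096) (rw3097) (Nat.ble 3097 i)) (Bool.rec (motive := fun _ => List ℕ) (rw3098) (rw3099) (Nat.ble 3099 i)) (Nat.ble 3098 i)) (Bool.rec (motive := fun _ => List ℕ) (Bool.rec (motive := fun _ => List ℕ) (rw3100) (rw3101) (Nat.ble 3101 i)) (Bool.rec (motive := fun _ => List ℕ) (rw3102) (rw3103) (Nat.ble 3103 i)) (Nat.ble 3102 i)) (Nat.ble 3100 i)) (Nat.ble 3096 i)) (Nat.ble 3088 i)) (Bool.rec (motive := fun _ => List ℕ) (Bool.rec (motive := fun _ => List ℕ) (Bool.rec (motive := fun _ => List ℕ) (Bool.rec (motive := fun _ => List ℕ) (Bool.rec (motive := fun _ => List ℕ) (rw3104)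 (rw3105) (Nat.ble 3105 i)) (Bool.rec (motive := fun _ => List ℕ) (rw3106) (rw3107) (Nat.ble 3107 i)) (Nat.ble 3106 i)) (Bool.rec (motive := fun _ => List ℕ) (Bool.rec (motive := fun _ => List ℕ) (rw3108) (rw3109) (Nat.ble 3109 i)) (Bool.rec (motive := fun _ => List ℕ) (rw3110) (rw3111) (Nat.ble 3111 i)) (Nat.ble 3110 i)) (Nat.ble 3108 i)) (Bool.rec (motive := fun _ => List ℕ) (Bool.rec (motive := fun _ => List ℕ) (Bool.rec (motive := fun _ => List ℕ) (rw3112) (rw3113) (Nat.ble 3113 i)) (Bool.rec (motive := fun _ => List ℕ) (rw3114) (rw3115) (Nat.ble 3115 i)) (Nat.ble 3114 i)) (Bool.rec (motive := fun _ => List ℕ) (Bool.rec (motive := fun _ => List ℕ) (rw3116) (rw3117) (Nat.ble 3117 i)) (Bool.rec (motive := fun _ => List ℕ) (rw3118) (rw3119) (Nat.ble 3119 i)) (Nat.ble 3118 i)) (Nat.ble 3116 i)) (Nat.ble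 3112 i)) (Bool.rec (motive := fun _ => List ℕ) (Bool.rec (motive := fun _ => List ℕ) (Bool.rec (motive := fun _ => List ℕ) (Bool.rec (motive := fun _ => List ℕ) (rw3120) (rw3121) (Nat.ble 3121 i)) (Bool.rec (motive := fun _ => List ℕ) (rw3122) (rw3123) (Nat.ble 3123 i)) (Nat.ble 3122 i)) (Bool.rec (motive := fun _ => List ℕ) (Bool.rec (motive := fun _ => List ℕ) (rw3124) (rw3125) (Nat.ble 3125 i)) (Bool.rec (motive := fun _ => List ℕ) (rw3126) (rw3127) (Nat.ble 3127 i)) (Nat.ble 3126 i)) (Nat.ble 3124 i)) (Bool.rec (motive := fun _ => List ℕ) (Bool.rec (motive := fun _ => List ℕ) (Bool.rec (motive := fun _ => List ℕ) (rw3128) (rw3129) (Nat.ble 3129 i)) (Bool.rec (motive := fun _ => List ℕ) (rw3130) (rw3131) (Nat.ble 3131 i)) (Nat.ble 3130 i)) (Bool.rec (motive := fun _ => List ℕ) (Bool.rec (motive :=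 fun _ => List ℕ) (rw3132) (rw3133) (Nat.ble 3133 i)) (Bool.rec (motive := fun _ => List ℕ) (rw3134) (rw3135) (Nat.ble 3135 i)) (Nat.ble 3134 i)) (Nat.ble 3132 i)) (Nat.ble 3128 i)) (Nat.ble 3120 i)) (Nat.ble 3104 i)
noncomputable def rwb49 (i : ℕ) : List ℕ := Bool.rec (motive := fun _ => List ℕ) (Bool.rec (motive := fun _ => List ℕ) (Bool.rec (motive := fun _ => List ℕ) (Bool.rec (motive := fun _ => List ℕ) (Bool.rec (motive := fun _ => List ℕ) (Bool.rec (motive := fun _ => List ℕ) (rw3136) (rw3137) (Nat.ble 3137 i)) (Bool.rec (motive := fun _ => List ℕ) (rw3138) (rw3139) (Nat.ble 3139 i)) (Nat.ble 3138 i)) (Bool.rec (motive := fun _ => List ℕ) (Bool.rec (motive := fun _ => List ℕ) (rw3140) (rw3141) (Nat.ble 3141 i)) (Bool.rec (motive := fun _ => List ℕ) (rw3142) (rw3143) (Nat.ble 3143 i)) (Nat.ble 3142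 i)) (Nat.ble 3140 i)) (Bool.rec (motive := fun _ => List ℕ) (Bool.rec (motive := fun _ => List ℕ) (Bool.rec (motive := fun _ => List ℕ) (rw3144) (rw3145) (Nat.ble 3145 i)) (Bool.rec (motive := fun _ => List ℕ) (rw3146) (rw3147) (Nat.ble 3147 i)) (Nat.ble 3146 i)) (Bool.rec (motive := fun _ => List ℕ) (Bool.rec (motive := fun _ => List ℕ) (rw3148) (rw3149) (Nat.ble 3149 i)) (Bool.rec (motive := fun _ => List ℕ) (rw3150) (rw3151) (Nat.ble 3151 i)) (Nat.ble 3150 i)) (Nat.ble 3148 i)) (Nat.ble 3144 i)) (Bool.rec (motive := fun _ => List ℕ) (Bool.rec (motive := fun _ => List ℕ) (Bool.rec (motive := fun _ => List ℕ) (Bool.rec (motive := fun _ => List ℕ) (rw3152) (rw3153) (Nat.ble 3153 i)) (Bool.rec (motive := fun _ => List ℕ) (rw3154) (rw3155) (Nat.ble 3155 i)) (Nat.ble 3154 i)) (Bool.rec (motive := fun _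 => List ℕ) (Bool.rec (motive := fun _ => List ℕ) (rw3156) (rw3157) (Nat.ble 3157 i)) (Bool.rec (motive := fun _ => List ℕ) (rw3158) (rw3159) (Nat.ble 3159 i)) (Nat.ble 3158 i)) (Nat.ble 3156 i)) (Bool.rec (motive := fun _ => List ℕ) (Bool.rec (motive := fun _ => List ℕ) (Bool.rec (motive := fun _ => List ℕ) (rw3160) (rw3161) (Nat.ble 3161 i)) (Bool.rec (motive := fun _ => List ℕ) (rw3162) (rw3163) (Nat.ble 3163 i)) (Nat.ble 3162 i)) (Bool.rec (motive := fun _ => List ℕ) (Bool.rec (motive := fun _ => List ℕ) (rw3164) (rw3165) (Nat.ble 3165 i)) (Bool.rec (motive := fun _ => List ℕ) (rw3166) (rw3167) (Nat.ble 3167 i)) (Nat.ble 3166 i)) (Nat.ble 3164 i)) (Nat.ble 3160 i)) (Nat.ble 3152 i)) (Bool.rec (motive := fun _ => List ℕ) (Bool.rec (motive := fun _ => List ℕ) (Bool.rec (motive := fun _ => List ℕ) (Bool.rec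 (motive := fun _ => List ℕ) (Bool.rec (motive := fun _ => List ℕ) (rw3168) (rw3169) (Nat.ble 3169 i)) (Bool.rec (motive := fun _ => List ℕ) (rw3170) (rw3171) (Nat.ble 3171 i)) (Nat.ble 3170 i)) (Bool.rec (motive := fun _ => List ℕ) (Bool.rec (motive := fun _ => List ℕ) (rw3172) (rw3173) (Nat.ble 3173 i)) (Bool.rec (motive := fun _ => List ℕ) (rw3174) (rw3175) (Nat.ble 3175 i)) (Nat.ble 3174 i)) (Nat.ble 3172 i)) (Bool.rec (motive := fun _ => List ℕ) (Bool.rec (motive := fun _ => List ℕ) (Bool.rec (motive := fun _ => List ℕ) (rw3176) (rw3177) (Nat.ble 3177 i)) (Bool.rec (motive := fun _ => List ℕ) (rw3178) (rw3179) (Nat.ble 3179 i)) (Nat.ble 3178 i)) (Bool.rec (motive := fun _ => List ℕ) (Bool.rec (motive := fun _ => List ℕ) (rw3180) (rw3181) (Nat.ble 3181 i)) (Bool.rec (motive := fun _ => List ℕ) (rw3182)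 (rw3183) (Nat.ble 3183 i)) (Nat.ble 3182 i)) (Nat.ble 3180 i)) (Nat.ble 3176 i)) (Bool.rec (motive := fun _ => List ℕ) (Bool.rec (motive := fun _ => List ℕ) (Bool.rec (motive := fun _ => List ℕ) (Bool.rec (motive := fun _ => List ℕ) (rw3184) (rw3185) (Nat.ble 3185 i)) (Bool.rec (motive := fun _ => List ℕ) (rw3186) (rw3187) (Nat.ble 3187 i)) (Nat.ble 3186 i)) (Bool.rec (motive := fun _ => List ℕ) (Bool.rec (motive := fun _ => List ℕ) (rw3188) (rw3189) (Nat.ble 3189 i)) (Bool.rec (motive := fun _ => List ℕ) (rw3190) (rw3191) (Nat.ble 3191 i)) (Nat.ble 3190 i)) (Nat.ble 3188 i)) (Bool.rec (motive := fun _ => List ℕ) (Bool.rec (motive := fun _ => List ℕ) (Bool.rec (motive := fun _ => List ℕ) (rw3192) (rw3193) (Nat.ble 3193 i)) (Bool.rec (motive := fun _ => List ℕ) (rw3194) (rw3195) (Nat.ble 3195 i)) (Nat.ble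 3194 i)) (Bool.rec (motive := fun _ => List ℕ) (Bool.rec (motive := fun _ => List ℕ) (rw3196) (rw3197) (Nat.ble 3197 i)) (Bool.rec (motive := fun _ => List ℕ) (rw3198) (rw3199) (Nat.ble 3199 i)) (Nat.ble 3198 i)) (Nat.ble 3196 i)) (Nat.ble 3192 i)) (Nat.ble 3184 i)) (Nat.ble 3168 i)
noncomputable def rwb50 (i : ℕ) : List ℕ := Bool.rec (motive := fun _ => List ℕ) (Bool.rec (motive := fun _ => List ℕ) (Bool.rec (motive := fun _ => List ℕ) (Bool.rec (motive := fun _ => List ℕ) (Bool.rec (motive := fun _ => List ℕ) (Bool.rec (motive := fun _ => List ℕ) (rw3200) (rw3201) (Nat.ble 3201 i)) (Bool.rec (motive := fun _ => List ℕ) (rw3202) (rw3203) (Nat.ble 3203 i)) (Nat.ble 3202 i)) (Bool.rec (motive := fun _ => List ℕ) (Bool.rec (motive := fun _ => List ℕ) (rw3204) (rw3205) (Nat.ble 3205 i)) (Bool.rec (motive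 := fun _ => List ℕ) (rw3206) (rw3207) (Nat.ble 3207 i)) (Nat.ble 3206 i)) (Nat.ble 3204 i)) (Bool.rec (motive := fun _ => List ℕ) (Bool.rec (motive := fun _ => List ℕ) (Bool.rec (motive := fun _ => List ℕ) (rw3208) (rw3209) (Nat.ble 3209 i)) (Bool.rec (motive := fun _ => List ℕ) (rw3210) (rw3211) (Nat.ble 3211 i)) (Nat.ble 3210 i)) (Bool.rec (motive := fun _ => List ℕ) (Bool.rec (motive := fun _ => List ℕ) (rw3212) (rw3213) (Nat.ble 3213 i)) (Bool.rec (motive := fun _ => List ℕ) (rw3214) (rw3215) (Nat.ble 3215 i)) (Nat.ble 3214 i)) (Nat.ble 3212 i)) (Nat.ble 3208 i)) (Bool.rec (motive := fun _ => List ℕ) (Bool.rec (motive := fun _ => List ℕ) (Bool.rec (motive := fun _ => List ℕ) (Bool.rec (motive := fun _ => List ℕ) (rw3216) (rw3217) (Nat.ble 3217 i)) (Bool.rec (motive := fun _ => List ℕ) (rw3218) (rw3219)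 (Nat.ble 3219 i)) (Nat.ble 3218 i)) (Bool.rec (motive := fun _ => List ℕ) (Bool.rec (motive := fun _ => List ℕ) (rw3220) (rw3221) (Nat.ble 3221 i)) (Bool.rec (motive := fun _ => List ℕ) (rw3222) (rw3223) (Nat.ble 3223 i)) (Nat.ble 3222 i)) (Nat.ble 3220 i)) (Bool.rec (motive := fun _ => List ℕ) (Bool.rec (motive := fun _ => List ℕ) (Bool.rec (motive := fun _ => List ℕ) (rw3224) (rw3225) (Nat.ble 3225 i)) (Bool.rec (motive := fun _ => List ℕ) (rw3226) (rw3227) (Nat.ble 3227 i)) (Nat.ble 3226 i)) (Bool.rec (motive := fun _ => List ℕ) (Bool.rec (motive := fun _ => List ℕ) (rw3228) (rw3229) (Nat.ble 3229 i)) (Bool.rec (motive := fun _ => List ℕ) (rw3230) (rw3231) (Nat.ble 3231 i)) (Nat.ble 3230 i)) (Nat.ble 3228 i)) (Nat.ble 3224 i)) (Nat.ble 3216 i)) (Bool.rec (motive := fun _ => List ℕ) (Bool.rec (motive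 := fun _ => List ℕ) (Bool.rec (motive := fun _ => List ℕ) (Bool.rec (motive := fun _ => List ℕ) (Bool.rec (motive := fun _ => List ℕ) (rw3232) (rw3233) (Nat.ble 3233 i)) (Bool.rec (motive := fun _ => List ℕ) (rw3234) (rw3235) (Nat.ble 3235 i)) (Nat.ble 3234 i)) (Bool.rec (motive := fun _ => List ℕ) (Bool.rec (motive := fun _ => List ℕ) (rw3236) (rw3237) (Nat.ble 3237 i)) (Bool.rec (motive := fun _ => List ℕ) (rw3238) (rw3239) (Nat.ble 3239 i)) (Nat.ble 3238 i)) (Nat.ble 3236 i)) (Bool.rec (motive := fun _ => List ℕ) (Bool.rec (motive := fun _ => List ℕ) (Bool.rec (motive := fun _ => List ℕ) (rw3240) (rw3241) (Nat.ble 3241 i)) (Bool.rec (motive := fun _ => List ℕ) (rw3242) (rw3243) (Nat.ble 3243 i)) (Nat.ble 3242 i)) (Bool.rec (motive := fun _ => List ℕ) (Bool.rec (motive := fun _ => List ℕ) (rw3244)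 (rw3245) (Nat.ble 3245 i)) (Bool.rec (motive := fun _ => List ℕ) (rw3246) (rw3247) (Nat.ble 3247 i)) (Nat.ble 3246 i)) (Nat.ble 3244 i)) (Nat.ble 3240 i)) (Bool.rec (motive := fun _ => List ℕ) (Bool.rec (motive := fun _ => List ℕ) (Bool.rec (motive := fun _ => List ℕ) (Bool.rec (motive := fun _ => List ℕ) (rw3248) (rw3249) (Nat.ble 3249 i)) (Bool.rec (motive := fun _ => List ℕ) (rw3250) (rw3251) (Nat.ble 3251 i)) (Nat.ble 3250 i)) (Bool.rec (motive := fun _ => List ℕ) (Bool.rec (motive := fun _ => List ℕ) (rw3252) (rw3253) (Nat.ble 3253 i)) (Bool.rec (motive := fun _ => List ℕ) (rw3254) (rw3255) (Nat.ble 3255 i)) (Nat.ble 3254 i)) (Nat.ble 3252 i)) (Bool.rec (motive := fun _ => List ℕ) (Bool.rec (motive := fun _ => List ℕ) (Bool.rec (motive := fun _ => List ℕ) (rw3256) (rw3257) (Nat.ble 3257 i)) (Bool.rec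 (motive := fun _ => List ℕ) (rw3258) (rw3259) (Nat.ble 3259 i)) (Nat.ble 3258 i)) (Bool.rec (motive := fun _ => List ℕ) (Bool.rec (motive := fun _ => List ℕ) (rw3260) (rw3261) (Nat.ble 3261 i)) (Bool.rec (motive := fun _ => List ℕ) (rw3262) (rw3263) (Nat.ble 3263 i)) (Nat.ble 3262 i)) (Nat.ble 3260 i)) (Nat.ble 3256 i)) (Nat.ble 3248 i)) (Nat.ble 3232 i)
noncomputable def rwb51 (i : ℕ) : List ℕ := Bool.rec (motive := fun _ => List ℕ) (Bool.rec (motive := fun _ => List ℕ) (Bool.rec (motive := fun _ => List ℕ) (Bool.rec (motive := fun _ => List ℕ) (Bool.rec (motive := fun _ => List ℕ) (Bool.rec (motive := fun _ => List ℕ) (rw3264) (rw3265) (Nat.ble 3265 i)) (Bool.rec (motive := fun _ => List ℕ) (rw3266) (rw3267) (Nat.ble 3267 i)) (Nat.ble 3266 i)) (Bool.rec (motive := fun _ => List ℕ) (Bool.rec (motive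 := fun _ => List ℕ) (rw3268) (rw3269) (Nat.ble 3269 i)) (Bool.rec (motive := fun _ => List ℕ) (rw3270) (rw3271) (Nat.ble 3271 i)) (Nat.ble 3270 i)) (Nat.ble 3268 i)) (Bool.rec (motive := fun _ => List ℕ) (Bool.rec (motive := fun _ => List ℕ) (Bool.rec (motive := fun _ => List ℕ) (rw3272) (rw3273) (Nat.ble 3273 i)) (Bool.rec (motive := fun _ => List ℕ) (rw3274) (rw3275) (Nat.ble 3275 i)) (Nat.ble 3274 i)) (Bool.rec (motive := fun _ => List ℕ) (Bool.rec (motive := fun _ => List ℕ) (rw3276) (rw3277) (Nat.ble 3277 i)) (Bool.rec (motive := fun _ => List ℕ) (rw3278) (rw3279) (Nat.ble 3279 i)) (Nat.ble 3278 i)) (Nat.ble 3276 i)) (Nat.ble 3272 i)) (Bool.rec (motive := fun _ => List ℕ) (Bool.rec (motive := fun _ => List ℕ) (Bool.rec (motive := fun _ => List ℕ) (Bool.rec (motive := fun _ => List ℕ) (rw3280) (rw3281)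 (Nat.ble 3281 i)) (Bool.rec (motive := fun _ => List ℕ) (rw3282) (rw3283) (Nat.ble 3283 i)) (Nat.ble 3282 i)) (Bool.rec (motive := fun _ => List ℕ) (Bool.rec (motive := fun _ => List ℕ) (rw3284) (rw3285) (Nat.ble 3285 i)) (Bool.rec (motive := fun _ => List ℕ) (rw3286) (rw3287) (Nat.ble 3287 i)) (Nat.ble 3286 i)) (Nat.ble 3284 i)) (Bool.rec (motive := fun _ => List ℕ) (Bool.rec (motive := fun _ => List ℕ) (Bool.rec (motive := fun _ => List ℕ) (rw3288) (rw3289) (Nat.ble 3289 i)) (Bool.rec (motive := fun _ => List ℕ) (rw3290) (rw3291) (Nat.ble 3291 i)) (Nat.ble 3290 i)) (Bool.rec (motive := fun _ => List ℕ) (Bool.rec (motive := fun _ => List ℕ) (rw3292) (rw3293) (Nat.ble 3293 i)) (Bool.rec (motive := fun _ => List ℕ) (rw3294) (rw3295) (Nat.ble 3295 i)) (Nat.ble 3294 i)) (Nat.ble 3292 i)) (Nat.ble 3288 i))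 (Nat.ble 3280 i)) (Bool.rec (motive := fun _ => List ℕ) (Bool.rec (motive := fun _ => List ℕ) (Bool.rec (motive := fun _ => List ℕ) (Bool.rec (motive := fun _ => List ℕ) (Bool.rec (motive := fun _ => List ℕ) (rw3296) (rw3297) (Nat.ble 3297 i)) (Bool.rec (motive := fun _ => List ℕ) (rw3298) (rw3299) (Nat.ble 3299 i)) (Nat.ble 3298 i)) (Bool.rec (motive := fun _ => List ℕ) (Bool.rec (motive := fun _ => List ℕ) (rw3300) (rw3301) (Nat.ble 3301 i)) (Bool.rec (motive := fun _ => List ℕ) (rw3302) (rw3303) (Nat.ble 3303 i)) (Nat.ble 3302 i)) (Nat.ble 3300 i)) (Bool.rec (motive := fun _ => List ℕ) (Bool.rec (motive := fun _ => List ℕ) (Bool.rec (motive := fun _ => List ℕ) (rw3304) (rw3305) (Nat.ble 3305 i)) (Bool.rec (motive := fun _ => List ℕ) (rw3306) (rw3307) (Nat.ble 3307 i)) (Nat.ble 3306 i)) (Bool.rec (motive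 := fun _ => List ℕ) (Bool.rec (motive := fun _ => List ℕ) (rw3308) (rw3309) (Nat.ble 3309 i)) (Bool.rec (motive := fun _ => List ℕ) (rw3310) (rw3311) (Nat.ble 3311 i)) (Nat.ble 3310 i)) (Nat.ble 3308 i)) (Nat.ble 3304 i)) (Bool.rec (motive := fun _ => List ℕ) (Bool.rec (motive := fun _ => List ℕ) (Bool.rec (motive := fun _ => List ℕ) (Bool.rec (motive := fun _ => List ℕ) (rw3312) (rw3313) (Nat.ble 3313 i)) (Bool.rec (motive := fun _ => List ℕ) (rw3314) (rw3315) (Nat.ble 3315 i)) (Nat.ble 3314 i)) (Bool.rec (motive := fun _ => List ℕ) (Bool.rec (motive := fun _ => List ℕ) (rw3316) (rw3317) (Nat.ble 3317 i)) (Bool.rec (motive := fun _ => List ℕ) (rw3318) (rw3319) (Nat.ble 3319 i)) (Nat.ble 3318 i)) (Nat.ble 3316 i)) (Bool.rec (motive := fun _ => List ℕ) (Bool.rec (motive := fun _ => List ℕ) (Bool.rec (motive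 := fun _ => List ℕ) (rw3320) (rw3321) (Nat.ble 3321 i)) (Bool.rec (motive := fun _ => List ℕ) (rw3322) (rw3323) (Nat.ble 3323 i)) (Nat.ble 3322 i)) (Bool.rec (motive := fun _ => List ℕ) (Bool.rec (motive := fun _ => List ℕ) (rw3324) (rw3325) (Nat.ble 3325 i)) (Bool.rec (motive := fun _ => List ℕ) (rw3326) (rw3327) (Nat.ble 3327 i)) (Nat.ble 3326 i)) (Nat.ble 3324 i)) (Nat.ble 3320 i)) (Nat.ble 3312 i)) (Nat.ble 3296 i)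
noncomputable def rwb52 (i : ℕ) : List ℕ := Bool.rec (motive := fun _ => List ℕ) (Bool.rec (motive := fun _ => List ℕ) (Bool.rec (motive := fun _ => List ℕ) (Bool.rec (motive := fun _ => List ℕ) (Bool.rec (motive := fun _ => List ℕ) (Bool.rec (motive := fun _ => List ℕ) (rw3328) (rw3329) (Nat.ble 3329 i)) (Bool.rec (motive := fun _ => List ℕ) (rw3330) (rw3331) (Nat.ble 3331 i)) (Nat.ble 3330 i)) (Bool.rec (motive := fun _ => List ℕ) (Bool.rec (motive := fun _ => List ℕ) (rw3332) (rw3333) (Nat.ble 3333 i)) (Bool.rec (motive := fun _ => List ℕ) (rw3334) (rw3335) (Nat.ble 3335 i)) (Nat.ble 3334 i)) (Nat.ble 3332 i)) (Bool.rec (motive := fun _ => List ℕ) (Bool.rec (motive := fun _ => List ℕ) (Bool.rec (motive := fun _ => List ℕ) (rw3336) (rw3337) (Nat.ble 3337 i)) (Bool.rec (motive := fun _ => List ℕ) (rw3338)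 (rw3339) (Nat.ble 3339 i)) (Nat.ble 3338 i)) (Bool.rec (motive := fun _ => List ℕ) (Bool.rec (motive := fun _ => List ℕ) (rw3340) (rw3341) (Nat.ble 3341 i)) (Bool.rec (motive := fun _ => List ℕ) (rw3342) (rw3343) (Nat.ble 3343 i)) (Nat.ble 3342 i)) (Nat.ble 3340 i)) (Nat.ble 3336 i)) (Bool.rec (motive := fun _ => List ℕ) (Bool.rec (motive := fun _ => List ℕ) (Bool.rec (motive := fun _ => List ℕ) (Bool.rec (motive := fun _ => List ℕ) (rw3344) (rw3345) (Nat.ble 3345 i)) (Bool.rec (motive := fun _ => List ℕ) (rw3346) (rw3347) (Nat.ble 3347 i)) (Nat.ble 3346 i)) (Bool.rec (motive := fun _ => List ℕ) (Bool.rec (motive := fun _ => List ℕ) (rw3348) (rw3349) (Nat.ble 3349 i)) (Bool.rec (motive := fun _ => List ℕ) (rw3350) (rw3351) (Nat.ble 3351 i)) (Nat.ble 3350 i)) (Nat.ble 3348 i)) (Bool.rec (motive := fun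 _ => List ℕ) (Bool.rec (motive := fun _ => List ℕ) (Bool.rec (motive := fun _ => List ℕ) (rw3352) (rw3353) (Nat.ble 3353 i)) (Bool.rec (motive := fun _ => List ℕ) (rw3354) (rw3355) (Nat.ble 3355 i)) (Nat.ble 3354 i)) (Bool.rec (motive := fun _ => List ℕ) (Bool.rec (motive := fun _ => List ℕ) (rw3356) (rw3357) (Nat.ble 3357 i)) (Bool.rec (motive := fun _ => List ℕ) (rw3358) (rw3359) (Nat.ble 3359 i)) (Nat.ble 3358 i)) (Nat.ble 3356 i)) (Nat.ble 3352 i)) (Nat.ble 3344 i)) (Bool.rec (motive := fun _ => List ℕ) (Bool.rec (motive := fun _ => List ℕ) (Bool.rec (motive := fun _ => List ℕ) (Bool.rec (motive := fun _ => List ℕ) (Bool.rec (motive := fun _ => List ℕ) (rw3360) (rw3361) (Nat.ble 3361 i)) (Bool.rec (motive := fun _ => List ℕ) (rw3362) (rw3363) (Nat.ble 3363 i)) (Nat.ble 3362 i)) (Bool.rec (motive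 := fun _ => List ℕ) (Bool.rec (motive := fun _ => List ℕ) (rw3364) (rw3365) (Nat.ble 3365 i)) (Bool.rec (motive := fun _ => List ℕ) (rw3366) (rw3367) (Nat.ble 3367 i)) (Nat.ble 3366 i)) (Nat.ble 3364 i)) (Bool.rec (motive := fun _ => List ℕ) (Bool.rec (motive := fun _ => List ℕ) (Bool.rec (motive := fun _ => List ℕ) (rw3368) (rw3369) (Nat.ble 3369 i)) (Bool.rec (motive := fun _ => List ℕ) (rw3370) (rw3371) (Nat.ble 3371 i)) (Nat.ble 3370 i)) (Bool.rec (motive := fun _ => List ℕ) (Bool.rec (motive := fun _ => List ℕ) (rw3372) (rw3373) (Nat.ble 3373 i)) (Bool.rec (motive := fun _ => List ℕ) (rw3374) (rw3375) (Nat.ble 3375 i)) (Nat.ble 3374 i)) (Nat.ble 3372 i)) (Nat.ble 3368 i)) (Bool.rec (motive := fun _ => List ℕ) (Bool.rec (motive := fun _ => List ℕ) (Bool.rec (motive := fun _ => List ℕ) (Bool.rec (motive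 := fun _ => List ℕ) (rw3376) (rw3377) (Nat.ble 3377 i)) (Bool.rec (motive := fun _ => List ℕ) (rw3378) (rw3379) (Nat.ble 3379 i)) (Nat.ble 3378 i)) (Bool.rec (motive := fun _ => List ℕ) (Bool.rec (motive := fun _ => List ℕ) (rw3380) (rw3381) (Nat.ble 3381 i)) (Bool.rec (motive := fun _ => List ℕ) (rw3382) (rw3383) (Nat.ble 3383 i)) (Nat.ble 3382 i)) (Nat.ble 3380 i)) (Bool.rec (motive := fun _ => List ℕ) (Bool.rec (motive := fun _ => List ℕ) (Bool.rec (motive := fun _ => List ℕ) (rw3384) (rw3385) (Nat.ble 3385 i)) (Bool.rec (motive := fun _ => List ℕ) (rw3386) (rw3387) (Nat.ble 3387 i)) (Nat.ble 3386 i)) (Bool.rec (motive := fun _ => List ℕ) (Bool.rec (motive := fun _ => List ℕ) (rw3388) (rw3389) (Nat.ble 3389 i)) (Bool.rec (motive := fun _ => List ℕ) (rw3390) (rw3391) (Nat.ble 3391 i)) (Nat.ble 3390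 i)) (Nat.ble 3388 i)) (Nat.ble 3384 i)) (Nat.ble 3376 i)) (Nat.ble 3360 i)
noncomputable def rwb53 (i : ℕ) : List ℕ := Bool.rec (motive := fun _ => List ℕ) (Bool.rec (motive := fun _ => List ℕ) (Bool.rec (motive := fun _ => List ℕ) (Bool.rec (motive := fun _ => List ℕ) (Bool.rec (motive := fun _ => List ℕ) (Bool.rec (motive := fun _ => List ℕ) (rw3392) (rw3393) (Nat.ble 3393 i)) (Bool.rec (motive := fun _ => List ℕ) (rw3394) (rw3395) (Nat.ble 3395 i)) (Nat.ble 3394 i)) (Bool.rec (motive := fun _ => List ℕ) (Bool.rec (motive := fun _ => List ℕ) (rw3396) (rw3397) (Nat.ble 3397 i)) (Bool.rec (motive := fun _ => List ℕ) (rw3398) (rw3399) (Nat.ble 3399 i)) (Nat.ble 3398 i)) (Nat.ble 3396 i)) (Bool.rec (motive := fun _ => List ℕ) (Bool.rec (motive := fun _ => List ℕ) (Bool.rec (motive := fun _ => List ℕ) (rw3400)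 (rw3401) (Nat.ble 3401 i)) (Bool.rec (motive := fun _ => List ℕ) (rw3402) (rw3403) (Nat.ble 3403 i)) (Nat.ble 3402 i)) (Bool.rec (motive := fun _ => List ℕ) (Bool.rec (motive := fun _ => List ℕ) (rw3404) (rw3405) (Nat.ble 3405 i)) (Bool.rec (motive := fun _ => List ℕ) (rw3406) (rw3407) (Nat.ble 3407 i)) (Nat.ble 3406 i)) (Nat.ble 3404 i)) (Nat.ble 3400 i)) (Bool.rec (motive := fun _ => List ℕ) (Bool.rec (motive := fun _ => List ℕ) (Bool.rec (motive := fun _ => List ℕ) (Bool.rec (motive := fun _ => List ℕ) (rw3408) (rw3409) (Nat.ble 3409 i)) (Bool.rec (motive := fun _ => List ℕ) (rw3410) (rw3411) (Nat.ble 3411 i)) (Nat.ble 3410 i)) (Bool.rec (motive := fun _ => List ℕ) (Bool.rec (motive := fun _ => List ℕ) (rw3412) (rw3413) (Nat.ble 3413 i)) (Bool.rec (motive := fun _ => List ℕ) (rw3414) (rw3415) (Nat.ble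 3415 i)) (Nat.ble 3414 i)) (Nat.ble 3412 i)) (Bool.rec (motive := fun _ => List ℕ) (Bool.rec (motive := fun _ => List ℕ) (Bool.rec (motive := fun _ => List ℕ) (rw3416) (rw3417) (Nat.ble 3417 i)) (Bool.rec (motive := fun _ => List ℕ) (rw3418) (rw3419) (Nat.ble 3419 i)) (Nat.ble 3418 i)) (Bool.rec (motive := fun _ => List ℕ) (Bool.rec (motive := fun _ => List ℕ) (rw3420) (rw3421) (Nat.ble 3421 i)) (Bool.rec (motive := fun _ => List ℕ) (rw3422) (rw3423) (Nat.ble 3423 i)) (Nat.ble 3422 i)) (Nat.ble 3420 i)) (Nat.ble 3416 i)) (Nat.ble 3408 i)) (Bool.rec (motive := fun _ => List ℕ) (Bool.rec (motive := fun _ => List ℕ) (Bool.rec (motive := fun _ => List ℕ) (Bool.rec (motive := fun _ => List ℕ) (Bool.rec (motive := fun _ => List ℕ) (rw3424) (rw3425) (Nat.ble 3425 i)) (Bool.rec (motive := fun _ => List ℕ) (rw3426)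 (rw3427) (Nat.ble 3427 i)) (Nat.ble 3426 i)) (Bool.rec (motive := fun _ => List ℕ) (Bool.rec (motive := fun _ => List ℕ) (rw3428) (rw3429) (Nat.ble 3429 i)) (Bool.rec (motive := fun _ => List ℕ) (rw3430) (rw3431) (Nat.ble 3431 i)) (Nat.ble 3430 i)) (Nat.ble 3428 i)) (Bool.rec (motive := fun _ => List ℕ) (Bool.rec (motive := fun _ => List ℕ) (Bool.rec (motive := fun _ => List ℕ) (rw3432) (rw3433) (Nat.ble 3433 i)) (Bool.rec (motive := fun _ => List ℕ) (rw3434) (rw3435) (Nat.ble 3435 i)) (Nat.ble 3434 i)) (Bool.rec (motive := fun _ => List ℕ) (Bool.rec (motive := fun _ => List ℕ) (rw3436) (rw3437) (Nat.ble 3437 i)) (Bool.rec (motive := fun _ => List ℕ) (rw3438) (rw3439) (Nat.ble 3439 i)) (Nat.ble 3438 i)) (Nat.ble 3436 i)) (Nat.ble 3432 i)) (Bool.rec (motive := fun _ => List ℕ) (Bool.rec (motive := fun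 _ => List ℕ) (Bool.rec (motive := fun _ => List ℕ) (Bool.rec (motive := fun _ => List ℕ) (rw3440) (rw3441) (Nat.ble 3441 i)) (Bool.rec (motive := fun _ => List ℕ) (rw3442) (rw3443) (Nat.ble 3443 i)) (Nat.ble 3442 i)) (Bool.rec (motive := fun _ => List ℕ) (Bool.rec (motive := fun _ => List ℕ) (rw3444) (rw3445) (Nat.ble 3445 i)) (Bool.rec (motive := fun _ => List ℕ) (rw3446) (rw3447) (Nat.ble 3447 i)) (Nat.ble 3446 i)) (Nat.ble 3444 i)) (Bool.rec (motive := fun _ => List ℕ) (Bool.rec (motive := fun _ => List ℕ) (Bool.rec (motive := fun _ => List ℕ) (rw3448) (rw3449) (Nat.ble 3449 i)) (Bool.rec (motive := fun _ => List ℕ) (rw3450) (rw3451) (Nat.ble 3451 i)) (Nat.ble 3450 i)) (Bool.rec (motive := fun _ => List ℕ) (Bool.rec (motive := fun _ => List ℕ) (rw3452) (rw3453) (Nat.ble 3453 i)) (Bool.rec (motive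 := fun _ => List ℕ) (rw3454) (rw3455) (Nat.ble 3455 i)) (Nat.ble 3454 i)) (Nat.ble 3452 i)) (Nat.ble 3448 i)) (Nat.ble 3440 i)) (Nat.ble 3424 i)
noncomputable def rwb54 (i : ℕ) : List ℕ := Bool.rec (motive := fun _ => List ℕ) (Bool.rec (motive := fun _ => List ℕ) (Bool.rec (motive := fun _ => List ℕ) (Bool.rec (motive := fun _ => List ℕ) (Bool.rec (motive := fun _ => List ℕ) (Bool.rec (motive := fun _ => List ℕ) (rw3456) (rw3457) (Nat.ble 3457 i)) (Bool.rec (motive := fun _ => List ℕ) (rw3458) (rw3459) (Nat.ble 3459 i)) (Nat.ble 3458 i)) (Bool.rec (motive := fun _ => List ℕ) (Bool.rec (motive := fun _ => List ℕ) (rw3460) (rw3461) (Nat.ble 3461 i)) (Bool.rec (motive := fun _ => List ℕ) (rw3462) (rw3463) (Nat.ble 3463 i)) (Nat.ble 3462 i)) (Nat.ble 3460 i)) (Bool.rec (motive := fun _ => List ℕ) (Bool.rec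 (motive := fun _ => List ℕ) (Bool.rec (motive := fun _ => List ℕ) (rw3464) (rw3465) (Nat.ble 3465 i)) (Bool.rec (motive := fun _ => List ℕ) (rw3466) (rw3467) (Nat.ble 3467 i)) (Nat.ble 3466 i)) (Bool.rec (motive := fun _ => List ℕ) (Bool.rec (motive := fun _ => List ℕ) (rw3468) (rw3469) (Nat.ble 3469 i)) (Bool.rec (motive := fun _ => List ℕ) (rw3470) (rw3471) (Nat.ble 3471 i)) (Nat.ble 3470 i)) (Nat.ble 3468 i)) (Nat.ble 3464 i)) (Bool.rec (motive := fun _ => List ℕ) (Bool.rec (motive := fun _ => List ℕ) (Bool.rec (motive := fun _ => List ℕ) (Bool.rec (motive := fun _ => List ℕ) (rw3472) (rw3473) (Nat.ble 3473 i)) (Bool.rec (motive := fun _ => List ℕ) (rw3474) (rw3475) (Nat.ble 3475 i)) (Nat.ble 3474 i)) (Bool.rec (motive := fun _ => List ℕ) (Bool.rec (motive := fun _ => List ℕ) (rw3476) (rw3477) (Nat.ble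 3477 i)) (Bool.rec (motive := fun _ => List ℕ) (rw3478) (rw3479) (Nat.ble 3479 i)) (Nat.ble 3478 i)) (Nat.ble 3476 i)) (Bool.rec (motive := fun _ => List ℕ) (Bool.rec (motive := fun _ => List ℕ) (Bool.rec (motive := fun _ => List ℕ) (rw3480) (rw3481) (Nat.ble 3481 i)) (Bool.rec (motive := fun _ => List ℕ) (rw3482) (rw3483) (Nat.ble 3483 i)) (Nat.ble 3482 i)) (Bool.rec (motive := fun _ => List ℕ) (Bool.rec (motive := fun _ => List ℕ) (rw3484) (rw3485) (Nat.ble 3485 i)) (Bool.rec (motive := fun _ => List ℕ) (rw3486) (rw3487) (Nat.ble 3487 i)) (Nat.ble 3486 i)) (Nat.ble 3484 i)) (Nat.ble 3480 i)) (Nat.ble 3472 i)) (Bool.rec (motive := fun _ => List ℕ) (Bool.rec (motive := fun _ => List ℕ) (Bool.rec (motive := fun _ => List ℕ) (Bool.rec (motive := fun _ => List ℕ) (Bool.rec (motive := fun _ => List ℕ) (rw3488)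 (rw3489) (Nat.ble 3489 i)) (Bool.rec (motive := fun _ => List ℕ) (rw3490) (rw3491) (Nat.ble 3491 i)) (Nat.ble 3490 i)) (Bool.rec (motive := fun _ => List ℕ) (Bool.rec (motive := fun _ => List ℕ) (rw3492) (rw3493) (Nat.ble 3493 i)) (Bool.rec (motive := fun _ => List ℕ) (rw3494) (rw3495) (Nat.ble 3495 i)) (Nat.ble 3494 i)) (Nat.ble 3492 i)) (Bool.rec (motive := fun _ => List ℕ) (Bool.rec (motive := fun _ => List ℕ) (Bool.rec (motive := fun _ => List ℕ) (rw3496) (rw3497) (Nat.ble 3497 i)) (Bool.rec (motive := fun _ => List ℕ) (rw3498) (rw3499) (Nat.ble 3499 i)) (Nat.ble 3498 i)) (Bool.rec (motive := fun _ => List ℕ) (Bool.rec (motive := fun _ => List ℕ) (rw3500) (rw3501) (Nat.ble 3501 i)) (Bool.rec (motive := fun _ => List ℕ) (rw3502) (rw3503) (Nat.ble 3503 i)) (Nat.ble 3502 i)) (Nat.ble 3500 i)) (Nat.ble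 3496 i)) (Bool.rec (motive := fun _ => List ℕ) (Bool.rec (motive := fun _ => List ℕ) (Bool.rec (motive := fun _ => List ℕ) (Bool.rec (motive := fun _ => List ℕ) (rw3504) (rw3505) (Nat.ble 3505 i)) (Bool.rec (motive := fun _ => List ℕ) (rw3506) (rw3507) (Nat.ble 3507 i)) (Nat.ble 3506 i)) (Bool.rec (motive := fun _ => List ℕ) (Bool.rec (motive := fun _ => List ℕ) (rw3508) (rw3509) (Nat.ble 3509 i)) (Bool.rec (motive := fun _ => List ℕ) (rw3510) (rw3511) (Nat.ble 3511 i)) (Nat.ble 3510 i)) (Nat.ble 3508 i)) (Bool.rec (motive := fun _ => List ℕ) (Bool.rec (motive := fun _ => List ℕ) (Bool.rec (motive := fun _ => List ℕ) (rw3512) (rw3513) (Nat.ble 3513 i)) (Bool.rec (motive := fun _ => List ℕ) (rw3514) (rw3515) (Nat.ble 3515 i)) (Nat.ble 3514 i)) (Bool.rec (motive := fun _ => List ℕ) (Bool.rec (motive :=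 fun _ => List ℕ) (rw3516) (rw3517) (Nat.ble 3517 i)) (Bool.rec (motive := fun _ => List ℕ) (rw3518) (rw3519) (Nat.ble 3519 i)) (Nat.ble 3518 i)) (Nat.ble 3516 i)) (Nat.ble 3512 i)) (Nat.ble 3504 i)) (Nat.ble 3488 i)
noncomputable def rwb55 (i : ℕ) : List ℕ := Bool.rec (motive := fun _ => List ℕ) (Bool.rec (motive := fun _ => List ℕ) (Bool.rec (motive := fun _ => List ℕ) (Bool.rec (motive := fun _ => List ℕ) (Bool.rec (motive := fun _ => List ℕ) (Bool.rec (motive := fun _ => List ℕ) (rw3520) (rw3521) (Nat.ble 3521 i)) (Bool.rec (motive := fun _ => List ℕ) (rw3522) (rw3523) (Nat.ble 3523 i)) (Nat.ble 3522 i)) (Bool.rec (motive := fun _ => List ℕ) (Bool.rec (motive := fun _ => List ℕ) (rw3524) (rw3525) (Nat.ble 3525 i)) (Bool.rec (motive := fun _ => List ℕ) (rw3526) (rw3527) (Nat.ble 3527 i)) (Nat.ble 3526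 i)) (Nat.ble 3524 i)) (Bool.rec (motive := fun _ => List ℕ) (Bool.rec (motive := fun _ => List ℕ) (Bool.rec (motive := fun _ => List ℕ) (rw3528) (rw3529) (Nat.ble 3529 i)) (Bool.rec (motive := fun _ => List ℕ) (rw3530) (rw3531) (Nat.ble 3531 i)) (Nat.ble 3530 i)) (Bool.rec (motive := fun _ => List ℕ) (Bool.rec (motive := fun _ => List ℕ) (rw3532) (rw3533) (Nat.ble 3533 i)) (Bool.rec (motive := fun _ => List ℕ) (rw3534) (rw3535) (Nat.ble 3535 i)) (Nat.ble 3534 i)) (Nat.ble 3532 i)) (Nat.ble 3528 i)) (Bool.rec (motive := fun _ => List ℕ) (Bool.rec (motive := fun _ => List ℕ) (Bool.rec (motive := fun _ => List ℕ) (Bool.rec (motive := fun _ => List ℕ) (rw3536) (rw3537) (Nat.ble 3537 i)) (Bool.rec (motive := fun _ => List ℕ) (rw3538) (rw3539) (Nat.ble 3539 i)) (Nat.ble 3538 i)) (Bool.rec (motive := fun _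 => List ℕ) (Bool.rec (motive := fun _ => List ℕ) (rw3540) (rw3541) (Nat.ble 3541 i)) (Bool.rec (motive := fun _ => List ℕ) (rw3542) (rw3543) (Nat.ble 3543 i)) (Nat.ble 3542 i)) (Nat.ble 3540 i)) (Bool.rec (motive := fun _ => List ℕ) (Bool.rec (motive := fun _ => List ℕ) (Bool.rec (motive := fun _ => List ℕ) (rw3544) (rw3545) (Nat.ble 3545 i)) (Bool.rec (motive := fun _ => List ℕ) (rw3546) (rw3547) (Nat.ble 3547 i)) (Nat.ble 3546 i)) (Bool.rec (motive := fun _ => List ℕ) (Bool.rec (motive := fun _ => List ℕ) (rw3548) (rw3549) (Nat.ble 3549 i)) (Bool.rec (motive := fun _ => List ℕ) (rw3550) (rw3551) (Nat.ble 3551 i)) (Nat.ble 3550 i)) (Nat.ble 3548 i)) (Nat.ble 3544 i)) (Nat.ble 3536 i)) (Bool.rec (motive := fun _ => List ℕ) (Bool.rec (motive := fun _ => List ℕ) (Bool.rec (motive := fun _ => List ℕ) (Bool.rec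 (motive := fun _ => List ℕ) (Bool.rec (motive := fun _ => List ℕ) (rw3552) (rw3553) (Nat.ble 3553 i)) (Bool.rec (motive := fun _ => List ℕ) (rw3554) (rw3555) (Nat.ble 3555 i)) (Nat.ble 3554 i)) (Bool.rec (motive := fun _ => List ℕ) (Bool.rec (motive := fun _ => List ℕ) (rw3556) (rw3557) (Nat.ble 3557 i)) (Bool.rec (motive := fun _ => List ℕ) (rw3558) (rw3559) (Nat.ble 3559 i)) (Nat.ble 3558 i)) (Nat.ble 3556 i)) (Bool.rec (motive := fun _ => List ℕ) (Bool.rec (motive := fun _ => List ℕ) (Bool.rec (motive := fun _ => List ℕ) (rw3560) (rw3561) (Nat.ble 3561 i)) (Bool.rec (motive := fun _ => List ℕ) (rw3562) (rw3563) (Nat.ble 3563 i)) (Nat.ble 3562 i)) (Bool.rec (motive := fun _ => List ℕ) (Bool.rec (motive := fun _ => List ℕ) (rw3564) (rw3565) (Nat.ble 3565 i)) (Bool.rec (motive := fun _ => List ℕ) (rw3566)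 (rw3567) (Nat.ble 3567 i)) (Nat.ble 3566 i)) (Nat.ble 3564 i)) (Nat.ble 3560 i)) (Bool.rec (motive := fun _ => List ℕ) (Bool.rec (motive := fun _ => List ℕ) (Bool.rec (motive := fun _ => List ℕ) (Bool.rec (motive := fun _ => List ℕ) (rw3568) (rw3569) (Nat.ble 3569 i)) (Bool.rec (motive := fun _ => List ℕ) (rw3570) (rw3571) (Nat.ble 3571 i)) (Nat.ble 3570 i)) (Bool.rec (motive := fun _ => List ℕ) (Bool.rec (motive := fun _ => List ℕ) (rw3572) (rw3573) (Nat.ble 3573 i)) (Bool.rec (motive := fun _ => List ℕ) (rw3574) (rw3575) (Nat.ble 3575 i)) (Nat.ble 3574 i)) (Nat.ble 3572 i)) (Bool.rec (motive := fun _ => List ℕ) (Bool.rec (motive := fun _ => List ℕ) (Bool.rec (motive := fun _ => List ℕ) (rw3576) (rw3577) (Nat.ble 3577 i)) (Bool.rec (motive := fun _ => List ℕ) (rw3578) (rw3579) (Nat.ble 3579 i)) (Nat.ble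 3578 i)) (Bool.rec (motive := fun _ => List ℕ) (Bool.rec (motive := fun _ => List ℕ) (rw3580) (rw3581) (Nat.ble 3581 i)) (Bool.rec (motive := fun _ => List ℕ) (rw3582) (rw3583) (Nat.ble 3583 i)) (Nat.ble 3582 i)) (Nat.ble 3580 i)) (Nat.ble 3576 i)) (Nat.ble 3568 i)) (Nat.ble 3552 i)
noncomputable def rwb56 (i : ℕ) : List ℕ := Bool.rec (motive := fun _ => List ℕ) (Bool.rec (motive := fun _ => List ℕ) (Bool.rec (motive := fun _ => List ℕ) (Bool.rec (motive := fun _ => List ℕ) (Bool.rec (motive := fun _ => List ℕ) (Bool.rec (motive := fun _ => List ℕ) (rw3584) (rw3585) (Nat.ble 3585 i)) (Bool.rec (motive := fun _ => List ℕ) (rw3586) (rw3587) (Nat.ble 3587 i)) (Nat.ble 3586 i)) (Bool.rec (motive := fun _ => List ℕ) (Bool.rec (motive := fun _ => List ℕ) (rw3588) (rw3589) (Nat.ble 3589 i)) (Bool.rec (motive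 := fun _ => List ℕ) (rw3590) (rw3591) (Nat.ble 3591 i)) (Nat.ble 3590 i)) (Nat.ble 3588 i)) (Bool.rec (motive := fun _ => List ℕ) (Bool.rec (motive := fun _ => List ℕ) (Bool.rec (motive := fun _ => List ℕ) (rw3592) (rw3593) (Nat.ble 3593 i)) (Bool.rec (motive := fun _ => List ℕ) (rw3594) (rw3595) (Nat.ble 3595 i)) (Nat.ble 3594 i)) (Bool.rec (motive := fun _ => List ℕ) (Bool.rec (motive := fun _ => List ℕ) (rw3596) (rw3597) (Nat.ble 3597 i)) (Bool.rec (motive := fun _ => List ℕ) (rw3598) (rw3599) (Nat.ble 3599 i)) (Nat.ble 3598 i)) (Nat.ble 3596 i)) (Nat.ble 3592 i)) (Bool.rec (motive := fun _ => List ℕ) (Bool.rec (motive := fun _ => List ℕ) (Bool.rec (motive := fun _ => List ℕ) (Bool.rec (motive := fun _ => List ℕ) (rw3600) (rw3601) (Nat.ble 3601 i)) (Bool.rec (motive := fun _ => List ℕ) (rw3602) (rw3603)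 (Nat.ble 3603 i)) (Nat.ble 3602 i)) (Bool.rec (motive := fun _ => List ℕ) (Bool.rec (motive := fun _ => List ℕ) (rw3604) (rw3605) (Nat.ble 3605 i)) (Bool.rec (motive := fun _ => List ℕ) (rw3606) (rw3607) (Nat.ble 3607 i)) (Nat.ble 3606 i)) (Nat.ble 3604 i)) (Bool.rec (motive := fun _ => List ℕ) (Bool.rec (motive := fun _ => List ℕ) (Bool.rec (motive := fun _ => List ℕ) (rw3608) (rw3609) (Nat.ble 3609 i)) (Bool.rec (motive := fun _ => List ℕ) (rw3610) (rw3611) (Nat.ble 3611 i)) (Nat.ble 3610 i)) (Bool.rec (motive := fun _ => List ℕ) (Bool.rec (motive := fun _ => List ℕ) (rw3612) (rw3613) (Nat.ble 3613 i)) (Bool.rec (motive := fun _ => List ℕ) (rw3614) (rw3615) (Nat.ble 3615 i)) (Nat.ble 3614 i)) (Nat.ble 3612 i)) (Nat.ble 3608 i)) (Nat.ble 3600 i)) (Bool.rec (motive := fun _ => List ℕ) (Bool.rec (motive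 := fun _ => List ℕ) (Bool.rec (motive := fun _ => List ℕ) (Bool.rec (motive := fun _ => List ℕ) (Bool.rec (motive := fun _ => List ℕ) (rw3616) (rw3617) (Nat.ble 3617 i)) (Bool.rec (motive := fun _ => List ℕ) (rw3618) (rw3619) (Nat.ble 3619 i)) (Nat.ble 3618 i)) (Bool.rec (motive := fun _ => List ℕ) (Bool.rec (motive := fun _ => List ℕ) (rw3620) (rw3621) (Nat.ble 3621 i)) (Bool.rec (motive := fun _ => List ℕ) (rw3622) (rw3623) (Nat.ble 3623 i)) (Nat.ble 3622 i)) (Nat.ble 3620 i)) (Bool.rec (motive := fun _ => List ℕ) (Bool.rec (motive := fun _ => List ℕ) (Bool.rec (motive := fun _ => List ℕ) (rw3624) (rw3625) (Nat.ble 3625 i)) (Bool.rec (motive := fun _ => List ℕ) (rw3626) (rw3627) (Nat.ble 3627 i)) (Nat.ble 3626 i)) (Bool.rec (motive := fun _ => List ℕ) (Bool.rec (motive := fun _ => List ℕ) (rw3628)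 (rw3629) (Nat.ble 3629 i)) (Bool.rec (motive := fun _ => List ℕ) (rw3630) (rw3631) (Nat.ble 3631 i)) (Nat.ble 3630 i)) (Nat.ble 3628 i)) (Nat.ble 3624 i)) (Bool.rec (motive := fun _ => List ℕ) (Bool.rec (motive := fun _ => List ℕ) (Bool.rec (motive := fun _ => List ℕ) (Bool.rec (motive := fun _ => List ℕ) (rw3632) (rw3633) (Nat.ble 3633 i)) (Bool.rec (motive := fun _ => List ℕ) (rw3634) (rw3635) (Nat.ble 3635 i)) (Nat.ble 3634 i)) (Bool.rec (motive := fun _ => List ℕ) (Bool.rec (motive := fun _ => List ℕ) (rw3636) (rw3637) (Nat.ble 3637 i)) (Bool.rec (motive := fun _ => List ℕ) (rw3638) (rw3639) (Nat.ble 3639 i)) (Nat.ble 3638 i)) (Nat.ble 3636 i)) (Bool.rec (motive := fun _ => List ℕ) (Bool.rec (motive := fun _ => List ℕ) (Bool.rec (motive := fun _ => List ℕ) (rw3640) (rw3641) (Nat.ble 3641 i)) (Bool.rec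 (motive := fun _ => List ℕ) (rw3642) (rw3643) (Nat.ble 3643 i)) (Nat.ble 3642 i)) (Bool.rec (motive := fun _ => List ℕ) (Bool.rec (motive := fun _ => List ℕ) (rw3644) (rw3645) (Nat.ble 3645 i)) (Bool.rec (motive := fun _ => List ℕ) (rw3646) (rw3647) (Nat.ble 3647 i)) (Nat.ble 3646 i)) (Nat.ble 3644 i)) (Nat.ble 3640 i)) (Nat.ble 3632 i)) (Nat.ble 3616 i)
noncomputable def rwb57 (i : ℕ) : List ℕ := Bool.rec (motive := fun _ => List ℕ) (Bool.rec (motive := fun _ => List ℕ) (Bool.rec (motive := fun _ => List ℕ) (Bool.rec (motive := fun _ => List ℕ) (Bool.rec (motive := fun _ => List ℕ) (Bool.rec (motive := fun _ => List ℕ) (rw3648) (rw3649) (Nat.ble 3649 i)) (Bool.rec (motive := fun _ => List ℕ) (rw3650) (rw3651) (Nat.ble 3651 i)) (Nat.ble 3650 i)) (Bool.rec (motive := fun _ => List ℕ) (Bool.rec (motive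 := fun _ => List ℕ) (rw3652) (rw3653) (Nat.ble 3653 i)) (Bool.rec (motive := fun _ => List ℕ) (rw3654) (rw3655) (Nat.ble 3655 i)) (Nat.ble 3654 i)) (Nat.ble 3652 i)) (Bool.rec (motive := fun _ => List ℕ) (Bool.rec (motive := fun _ => List ℕ) (Bool.rec (motive := fun _ => List ℕ) (rw3656) (rw3657) (Nat.ble 3657 i)) (Bool.rec (motive := fun _ => List ℕ) (rw3658) (rw3659) (Nat.ble 3659 i)) (Nat.ble 3658 i)) (Bool.rec (motive := fun _ => List ℕ) (Bool.rec (motive := fun _ => List ℕ) (rw3660) (rw3661) (Nat.ble 3661 i)) (Bool.rec (motive := fun _ => List ℕ) (rw3662) (rw3663) (Nat.ble 3663 i)) (Nat.ble 3662 i)) (Nat.ble 3660 i)) (Nat.ble 3656 i)) (Bool.rec (motive := fun _ => List ℕ) (Bool.rec (motive := fun _ => List ℕ) (Bool.rec (motive := fun _ => List ℕ) (Bool.rec (motive := fun _ => List ℕ) (rw3664) (rw3665)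 (Nat.ble 3665 i)) (Bool.rec (motive := fun _ => List ℕ) (rw3666) (rw3667) (Nat.ble 3667 i)) (Nat.ble 3666 i)) (Bool.rec (motive := fun _ => List ℕ) (Bool.rec (motive := fun _ => List ℕ) (rw3668) (rw3669) (Nat.ble 3669 i)) (Bool.rec (motive := fun _ => List ℕ) (rw3670) (rw3671) (Nat.ble 3671 i)) (Nat.ble 3670 i)) (Nat.ble 3668 i)) (Bool.rec (motive := fun _ => List ℕ) (Bool.rec (motive := fun _ => List ℕ) (Bool.rec (motive := fun _ => List ℕ) (rw3672) (rw3673) (Nat.ble 3673 i)) (Bool.rec (motive := fun _ => List ℕ) (rw3674) (rw3675) (Nat.ble 3675 i)) (Nat.ble 3674 i)) (Bool.rec (motive := fun _ => List ℕ) (Bool.rec (motive := fun _ => List ℕ) (rw3676) (rw3677) (Nat.ble 3677 i)) (Bool.rec (motive := fun _ => List ℕ) (rw3678) (rw3679) (Nat.ble 3679 i)) (Nat.ble 3678 i)) (Nat.ble 3676 i)) (Nat.ble 3672 i))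 (Nat.ble 3664 i)) (Bool.rec (motive := fun _ => List ℕ) (Bool.rec (motive := fun _ => List ℕ) (Bool.rec (motive := fun _ => List ℕ) (Bool.rec (motive := fun _ => List ℕ) (Bool.rec (motive := fun _ => List ℕ) (rw3680) (rw3681) (Nat.ble 3681 i)) (Bool.rec (motive := fun _ => List ℕ) (rw3682) (rw3683) (Nat.ble 3683 i)) (Nat.ble 3682 i)) (Bool.rec (motive := fun _ => List ℕ) (Bool.rec (motive := fun _ => List ℕ) (rw3684) (rw3685) (Nat.ble 3685 i)) (Bool.rec (motive := fun _ => List ℕ) (rw3686) (rw3687) (Nat.ble 3687 i)) (Nat.ble 3686 i)) (Nat.ble 3684 i)) (Bool.rec (motive := fun _ => List ℕ) (Bool.rec (motive := fun _ => List ℕ) (Bool.rec (motive := fun _ => List ℕ) (rw3688) (rw3689) (Nat.ble 3689 i)) (Bool.rec (motive := fun _ => List ℕ) (rw3690) (rw3691) (Nat.ble 3691 i)) (Nat.ble 3690 i)) (Bool.rec (motive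 := fun _ => List ℕ) (Bool.rec (motive := fun _ => List ℕ) (rw3692) (rw3693) (Nat.ble 3693 i)) (Bool.rec (motive := fun _ => List ℕ) (rw3694) (rw3695) (Nat.ble 3695 i)) (Nat.ble 3694 i)) (Nat.ble 3692 i)) (Nat.ble 3688 i)) (Bool.rec (motive := fun _ => List ℕ) (Bool.rec (motive := fun _ => List ℕ) (Bool.rec (motive := fun _ => List ℕ) (Bool.rec (motive := fun _ => List ℕ) (rw3696) (rw3697) (Nat.ble 3697 i)) (Bool.rec (motive := fun _ => List ℕ) (rw3698) (rw3699) (Nat.ble 3699 i)) (Nat.ble 3698 i)) (Bool.rec (motive := fun _ => List ℕ) (Bool.rec (motive := fun _ => List ℕ) (rw3700) (rw3701) (Nat.ble 3701 i)) (Bool.rec (motive := fun _ => List ℕ) (rw3702) (rw3703) (Nat.ble 3703 i)) (Nat.ble 3702 i)) (Nat.ble 3700 i)) (Bool.rec (motive := fun _ => List ℕ) (Bool.rec (motive := fun _ => List ℕ) (Bool.rec (motive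 := fun _ => List ℕ) (rw3704) (rw3705) (Nat.ble 3705 i)) (Bool.rec (motive := fun _ => List ℕ) (rw3706) (rw3707) (Nat.ble 3707 i)) (Nat.ble 3706 i)) (Bool.rec (motive := fun _ => List ℕ) (Bool.rec (motive := fun _ => List ℕ) (rw3708) (rw3709) (Nat.ble 3709 i)) (Bool.rec (motive := fun _ => List ℕ) (rw3710) (rw3711) (Nat.ble 3711 i)) (Nat.ble 3710 i)) (Nat.ble 3708 i)) (Nat.ble 3704 i)) (Nat.ble 3696 i)) (Nat.ble 3680 i)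
noncomputable def rwb58 (i : ℕ) : List ℕ := Bool.rec (motive := fun _ => List ℕ) (Bool.rec (motive := fun _ => List ℕ) (Bool.rec (motive := fun _ => List ℕ) (Bool.rec (motive := fun _ => List ℕ) (Bool.rec (motive := fun _ => List ℕ) (Bool.rec (motive := fun _ => List ℕ) (rw3712) (rw3713) (Nat.ble 3713 i)) (Bool.rec (motive := fun _ => List ℕ) (rw3714) (rw3715) (Nat.ble 3715 i)) (Nat.ble 3714 i)) (Bool.rec (motive := fun _ => List ℕ) (Bool.rec (motive := fun _ => List ℕ) (rw3716) (rw3717) (Nat.ble 3717 i)) (Bool.rec (motive := fun _ => List ℕ) (rw3718) (rw3719) (Nat.ble 3719 i)) (Nat.ble 3718 i)) (Nat.ble 3716 i)) (Bool.rec (motive := fun _ => List ℕ) (Bool.rec (motive := fun _ => List ℕ) (Bool.rec (motive := fun _ => List ℕ) (rw3720) (rw3721) (Nat.ble 3721 i)) (Bool.rec (motive := fun _ => List ℕ) (rw3722)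 (rw3723) (Nat.ble 3723 i)) (Nat.ble 3722 i)) (Bool.rec (motive := fun _ => List ℕ) (Bool.rec (motive := fun _ => List ℕ) (rw3724) (rw3725) (Nat.ble 3725 i)) (Bool.rec (motive := fun _ => List ℕ) (rw3726) (rw3727) (Nat.ble 3727 i)) (Nat.ble 3726 i)) (Nat.ble 3724 i)) (Nat.ble 3720 i)) (Bool.rec (motive := fun _ => List ℕ) (Bool.rec (motive := fun _ => List ℕ) (Bool.rec (motive := fun _ => List ℕ) (Bool.rec (motive := fun _ => List ℕ) (rw3728) (rw3729) (Nat.ble 3729 i)) (Bool.rec (motive := fun _ => List ℕ) (rw3730) (rw3731) (Nat.ble 3731 i)) (Nat.ble 3730 i)) (Bool.rec (motive := fun _ => List ℕ) (Bool.rec (motive := fun _ => List ℕ) (rw3732) (rw3733) (Nat.ble 3733 i)) (Bool.rec (motive := fun _ => List ℕ) (rw3734) (rw3735) (Nat.ble 3735 i)) (Nat.ble 3734 i)) (Nat.ble 3732 i)) (Bool.rec (motive := fun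 _ => List ℕ) (Bool.rec (motive := fun _ => List ℕ) (Bool.rec (motive := fun _ => List ℕ) (rw3736) (rw3737) (Nat.ble 3737 i)) (Bool.rec (motive := fun _ => List ℕ) (rw3738) (rw3739) (Nat.ble 3739 i)) (Nat.ble 3738 i)) (Bool.rec (motive := fun _ => List ℕ) (Bool.rec (motive := fun _ => List ℕ) (rw3740) (rw3741) (Nat.ble 3741 i)) (Bool.rec (motive := fun _ => List ℕ) (rw3742) (rw3743) (Nat.ble 3743 i)) (Nat.ble 3742 i)) (Nat.ble 3740 i)) (Nat.ble 3736 i)) (Nat.ble 3728 i)) (Bool.rec (motive := fun _ => List ℕ) (Bool.rec (motive := fun _ => List ℕ) (Bool.rec (motive := fun _ => List ℕ) (Bool.rec (motive := fun _ => List ℕ) (Bool.rec (motive := fun _ => List ℕ) (rw3744) (rw3745) (Nat.ble 3745 i)) (Bool.rec (motive := fun _ => List ℕ) (rw3746) (rw3747) (Nat.ble 3747 i)) (Nat.ble 3746 i)) (Bool.rec (motive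 := fun _ => List ℕ) (Bool.rec (motive := fun _ => List ℕ) (rw3748) (rw3749) (Nat.ble 3749 i)) (Bool.rec (motive := fun _ => List ℕ) (rw3750) (rw3751) (Nat.ble 3751 i)) (Nat.ble 3750 i)) (Nat.ble 3748 i)) (Bool.rec (motive := fun _ => List ℕ) (Bool.rec (motive := fun _ => List ℕ) (Bool.rec (motive := fun _ => List ℕ) (rw3752) (rw3753) (Nat.ble 3753 i)) (Bool.rec (motive := fun _ => List ℕ) (rw3754) (rw3755) (Nat.ble 3755 i)) (Nat.ble 3754 i)) (Bool.rec (motive := fun _ => List ℕ) (Bool.rec (motive := fun _ => List ℕ) (rw3756) (rw3757) (Nat.ble 3757 i)) (Bool.rec (motive := fun _ => List ℕ) (rw3758) (rw3759) (Nat.ble 3759 i)) (Nat.ble 3758 i)) (Nat.ble 3756 i)) (Nat.ble 3752 i)) (Bool.rec (motive := fun _ => List ℕ) (Bool.rec (motive := fun _ => List ℕ) (Bool.rec (motive := fun _ => List ℕ) (Bool.rec (motive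 := fun _ => List ℕ) (rw3760) (rw3761) (Nat.ble 3761 i)) (Bool.rec (motive := fun _ => List ℕ) (rw3762) (rw3763) (Nat.ble 3763 i)) (Nat.ble 3762 i)) (Bool.rec (motive := fun _ => List ℕ) (Bool.rec (motive := fun _ => List ℕ) (rw3764) (rw3765) (Nat.ble 3765 i)) (Bool.rec (motive := fun _ => List ℕ) (rw3766) (rw3767) (Nat.ble 3767 i)) (Nat.ble 3766 i)) (Nat.ble 3764 i)) (Bool.rec (motive := fun _ => List ℕ) (Bool.rec (motive := fun _ => List ℕ) (Bool.rec (motive := fun _ => List ℕ) (rw3768) (rw3769) (Nat.ble 3769 i)) (Bool.rec (motive := fun _ => List ℕ) (rw3770) (rw3771) (Nat.ble 3771 i)) (Nat.ble 3770 i)) (Bool.rec (motive := fun _ => List ℕ) (Bool.rec (motive := fun _ => List ℕ) (rw3772) (rw3773) (Nat.ble 3773 i)) (Bool.rec (motive := fun _ => List ℕ) (rw3774) (rw3775) (Nat.ble 3775 i)) (Nat.ble 3774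 i)) (Nat.ble 3772 i)) (Nat.ble 3768 i)) (Nat.ble 3760 i)) (Nat.ble 3744 i)
noncomputable def rwb59 (i : ℕ) : List ℕ := Bool.rec (motive := fun _ => List ℕ) (Bool.rec (motive := fun _ => List ℕ) (Bool.rec (motive := fun _ => List ℕ) (Bool.rec (motive := fun _ => List ℕ) (Bool.rec (motive := fun _ => List ℕ) (Bool.rec (motive := fun _ => List ℕ) (rw3776) (rw3777) (Nat.ble 3777 i)) (Bool.rec (motive := fun _ => List ℕ) (rw3778) (rw3779) (Nat.ble 3779 i)) (Nat.ble 3778 i)) (Bool.rec (motive := fun _ => List ℕ) (Bool.rec (motive := fun _ => List ℕ) (rw3780) (rw3781) (Nat.ble 3781 i)) (Bool.rec (motive := fun _ => List ℕ) (rw3782) (rw3783) (Nat.ble 3783 i)) (Nat.ble 3782 i)) (Nat.ble 3780 i)) (Bool.rec (motive := fun _ => List ℕ) (Bool.rec (motive := fun _ => List ℕ) (Bool.rec (motive := fun _ => List ℕ) (rw3784)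 (rw3785) (Nat.ble 3785 i)) (Bool.rec (motive := fun _ => List ℕ) (rw3786) (rw3787) (Nat.ble 3787 i)) (Nat.ble 3786 i)) (Bool.rec (motive := fun _ => List ℕ) (Bool.rec (motive := fun _ => List ℕ) (rw3788) (rw3789) (Nat.ble 3789 i)) (Bool.rec (motive := fun _ => List ℕ) (rw3790) (rw3791) (Nat.ble 3791 i)) (Nat.ble 3790 i)) (Nat.ble 3788 i)) (Nat.ble 3784 i)) (Bool.rec (motive := fun _ => List ℕ) (Bool.rec (motive := fun _ => List ℕ) (Bool.rec (motive := fun _ => List ℕ) (Bool.rec (motive := fun _ => List ℕ) (rw3792) (rw3793) (Nat.ble 3793 i)) (Bool.rec (motive := fun _ => List ℕ) (rw3794) (rw3795) (Nat.ble 3795 i)) (Nat.ble 3794 i)) (Bool.rec (motive := fun _ => List ℕ) (Bool.rec (motive := fun _ => List ℕ) (rw3796) (rw3797) (Nat.ble 3797 i)) (Bool.rec (motive := fun _ => List ℕ) (rw3798) (rw3799) (Nat.ble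 3799 i)) (Nat.ble 3798 i)) (Nat.ble 3796 i)) (Bool.rec (motive := fun _ => List ℕ) (Bool.rec (motive := fun _ => List ℕ) (Bool.rec (motive := fun _ => List ℕ) (rw3800) (rw3801) (Nat.ble 3801 i)) (Bool.rec (motive := fun _ => List ℕ) (rw3802) (rw3803) (Nat.ble 3803 i)) (Nat.ble 3802 i)) (Bool.rec (motive := fun _ => List ℕ) (Bool.rec (motive := fun _ => List ℕ) (rw3804) (rw3805) (Nat.ble 3805 i)) (Bool.rec (motive := fun _ => List ℕ) (rw3806) (rw3807) (Nat.ble 3807 i)) (Nat.ble 3806 i)) (Nat.ble 3804 i)) (Nat.ble 3800 i)) (Nat.ble 3792 i)) (Bool.rec (motive := fun _ => List ℕ) (Bool.rec (motive := fun _ => List ℕ) (Bool.rec (motive := fun _ => List ℕ) (Bool.rec (motive := fun _ => List ℕ) (Bool.rec (motive := fun _ => List ℕ) (rw3808) (rw3809) (Nat.ble 3809 i)) (Bool.rec (motive := fun _ => List ℕ) (rw3810)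 (rw3811) (Nat.ble 3811 i)) (Nat.ble 3810 i)) (Bool.rec (motive := fun _ => List ℕ) (Bool.rec (motive := fun _ => List ℕ) (rw3812) (rw3813) (Nat.ble 3813 i)) (Bool.rec (motive := fun _ => List ℕ) (rw3814) (rw3815) (Nat.ble 3815 i)) (Nat.ble 3814 i)) (Nat.ble 3812 i)) (Bool.rec (motive := fun _ => List ℕ) (Bool.rec (motive := fun _ => List ℕ) (Bool.rec (motive := fun _ => List ℕ) (rw3816) (rw3817) (Nat.ble 3817 i)) (Bool.rec (motive := fun _ => List ℕ) (rw3818) (rw3819) (Nat.ble 3819 i)) (Nat.ble 3818 i)) (Bool.rec (motive := fun _ => List ℕ) (Bool.rec (motive := fun _ => List ℕ) (rw3820) (rw3821) (Nat.ble 3821 i)) (Bool.rec (motive := fun _ => List ℕ) (rw3822) (rw3823) (Nat.ble 3823 i)) (Nat.ble 3822 i)) (Nat.ble 3820 i)) (Nat.ble 3816 i)) (Bool.rec (motive := fun _ => List ℕ) (Bool.rec (motive := fun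 _ => List ℕ) (Bool.rec (motive := fun _ => List ℕ) (Bool.rec (motive := fun _ => List ℕ) (rw3824) (rw3825) (Nat.ble 3825 i)) (Bool.rec (motive := fun _ => List ℕ) (rw3826) (rw3827) (Nat.ble 3827 i)) (Nat.ble 3826 i)) (Bool.rec (motive := fun _ => List ℕ) (Bool.rec (motive := fun _ => List ℕ) (rw3828) (rw3829) (Nat.ble 3829 i)) (Bool.rec (motive := fun _ => List ℕ) (rw3830) (rw3831) (Nat.ble 3831 i)) (Nat.ble 3830 i)) (Nat.ble 3828 i)) (Bool.rec (motive := fun _ => List ℕ) (Bool.rec (motive := fun _ => List ℕ) (Bool.rec (motive := fun _ => List ℕ) (rw3832) (rw3833) (Nat.ble 3833 i)) (Bool.rec (motive := fun _ => List ℕ) (rw3834) (rw3835) (Nat.ble 3835 i)) (Nat.ble 3834 i)) (Bool.rec (motive := fun _ => List ℕ) (Bool.rec (motive := fun _ => List ℕ) (rw3836) (rw3837) (Nat.ble 3837 i)) (Bool.rec (motive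 := fun _ => List ℕ) (rw3838) (rw3839) (Nat.ble 3839 i)) (Nat.ble 3838 i)) (Nat.ble 3836 i)) (Nat.ble 3832 i)) (Nat.ble 3824 i)) (Nat.ble 3808 i)
noncomputable def rwb60 (i : ℕ) : List ℕ := Bool.rec (motive := fun _ => List ℕ) (Bool.rec (motive := fun _ => List ℕ) (Bool.rec (motive := fun _ => List ℕ) (Bool.rec (motive := fun _ => List ℕ) (Bool.rec (motive := fun _ => List ℕ) (Bool.rec (motive := fun _ => List ℕ) (rw3840) (rw3841) (Nat.ble 3841 i)) (Bool.rec (motive := fun _ => List ℕ) (rw3842) (rw3843) (Nat.ble 3843 i)) (Nat.ble 3842 i)) (Bool.rec (motive := fun _ => List ℕ) (Bool.rec (motive := fun _ => List ℕ) (rw3844) (rw3845) (Nat.ble 3845 i)) (Bool.rec (motive := fun _ => List ℕ) (rw3846) (rw3847) (Nat.ble 3847 i)) (Nat.ble 3846 i)) (Nat.ble 3844 i)) (Bool.rec (motive := fun _ => List ℕ) (Bool.rec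 (motive := fun _ => List ℕ) (Bool.rec (motive := fun _ => List ℕ) (rw3848) (rw3849) (Nat.ble 3849 i)) (Bool.rec (motive := fun _ => List ℕ) (rw3850) (rw3851) (Nat.ble 3851 i)) (Nat.ble 3850 i)) (Bool.rec (motive := fun _ => List ℕ) (Bool.rec (motive := fun _ => List ℕ) (rw3852) (rw3853) (Nat.ble 3853 i)) (Bool.rec (motive := fun _ => List ℕ) (rw3854) (rw3855) (Nat.ble 3855 i)) (Nat.ble 3854 i)) (Nat.ble 3852 i)) (Nat.ble 3848 i)) (Bool.rec (motive := fun _ => List ℕ) (Bool.rec (motive := fun _ => List ℕ) (Bool.rec (motive := fun _ => List ℕ) (Bool.rec (motive := fun _ => List ℕ) (rw3856) (rw3857) (Nat.ble 3857 i)) (Bool.rec (motive := fun _ => List ℕ) (rw3858) (rw3859) (Nat.ble 3859 i)) (Nat.ble 3858 i)) (Bool.rec (motive := fun _ => List ℕ) (Bool.rec (motive := fun _ => List ℕ) (rw3860) (rw3861) (Nat.ble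 3861 i)) (Bool.rec (motive := fun _ => List ℕ) (rw3862) (rw3863) (Nat.ble 3863 i)) (Nat.ble 3862 i)) (Nat.ble 3860 i)) (Bool.rec (motive := fun _ => List ℕ) (Bool.rec (motive := fun _ => List ℕ) (Bool.rec (motive := fun _ => List ℕ) (rw3864) (rw3865) (Nat.ble 3865 i)) (Bool.rec (motive := fun _ => List ℕ) (rw3866) (rw3867) (Nat.ble 3867 i)) (Nat.ble 3866 i)) (Bool.rec (motive := fun _ => List ℕ) (Bool.rec (motive := fun _ => List ℕ) (rw3868) (rw3869) (Nat.ble 3869 i)) (Bool.rec (motive := fun _ => List ℕ) (rw3870) (rw3871) (Nat.ble 3871 i)) (Nat.ble 3870 i)) (Nat.ble 3868 i)) (Nat.ble 3864 i)) (Nat.ble 3856 i)) (Bool.rec (motive := fun _ => List ℕ) (Bool.rec (motive := fun _ => List ℕ) (Bool.rec (motive := fun _ => List ℕ) (Bool.rec (motive := fun _ => List ℕ) (Bool.rec (motive := fun _ => List ℕ) (rw3872)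 (rw3873) (Nat.ble 3873 i)) (Bool.rec (motive := fun _ => List ℕ) (rw3874) (rw3875) (Nat.ble 3875 i)) (Nat.ble 3874 i)) (Bool.rec (motive := fun _ => List ℕ) (Bool.rec (motive := fun _ => List ℕ) (rw3876) (rw3877) (Nat.ble 3877 i)) (Bool.rec (motive := fun _ => List ℕ) (rw3878) (rw3879) (Nat.ble 3879 i)) (Nat.ble 3878 i)) (Nat.ble 3876 i)) (Bool.rec (motive := fun _ => List ℕ) (Bool.rec (motive := fun _ => List ℕ) (Bool.rec (motive := fun _ => List ℕ) (rw3880) (rw3881) (Nat.ble 3881 i)) (Bool.rec (motive := fun _ => List ℕ) (rw3882) (rw3883) (Nat.ble 3883 i)) (Nat.ble 3882 i)) (Bool.rec (motive := fun _ => List ℕ) (Bool.rec (motive := fun _ => List ℕ) (rw3884) (rw3885) (Nat.ble 3885 i)) (Bool.rec (motive := fun _ => List ℕ) (rw3886) (rw3887) (Nat.ble 3887 i)) (Nat.ble 3886 i)) (Nat.ble 3884 i)) (Nat.ble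 3880 i)) (Bool.rec (motive := fun _ => List ℕ) (Bool.rec (motive := fun _ => List ℕ) (Bool.rec (motive := fun _ => List ℕ) (Bool.rec (motive := fun _ => List ℕ) (rw3888) (rw3889) (Nat.ble 3889 i)) (Bool.rec (motive := fun _ => List ℕ) (rw3890) (rw3891) (Nat.ble 3891 i)) (Nat.ble 3890 i)) (Bool.rec (motive := fun _ => List ℕ) (Bool.rec (motive := fun _ => List ℕ) (rw3892) (rw3893) (Nat.ble 3893 i)) (Bool.rec (motive := fun _ => List ℕ) (rw3894) (rw3895) (Nat.ble 3895 i)) (Nat.ble 3894 i)) (Nat.ble 3892 i)) (Bool.rec (motive := fun _ => List ℕ) (Bool.rec (motive := fun _ => List ℕ) (Bool.rec (motive := fun _ => List ℕ) (rw3896) (rw3897) (Nat.ble 3897 i)) (Bool.rec (motive := fun _ => List ℕ) (rw3898) (rw3899) (Nat.ble 3899 i)) (Nat.ble 3898 i)) (Bool.rec (motive := fun _ => List ℕ) (Bool.rec (motive :=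 fun _ => List ℕ) (rw3900) (rw3901) (Nat.ble 3901 i)) (Bool.rec (motive := fun _ => List ℕ) (rw3902) (rw3903) (Nat.ble 3903 i)) (Nat.ble 3902 i)) (Nat.ble 3900 i)) (Nat.ble 3896 i)) (Nat.ble 3888 i)) (Nat.ble 3872 i)
noncomputable def rwb61 (i : ℕ) : List ℕ := Bool.rec (motive := fun _ => List ℕ) (Bool.rec (motive := fun _ => List ℕ) (Bool.rec (motive := fun _ => List ℕ) (Bool.rec (motive := fun _ => List ℕ) (Bool.rec (motive := fun _ => List ℕ) (Bool.rec (motive := fun _ => List ℕ) (rw3904) (rw3905) (Nat.ble 3905 i)) (Bool.rec (motive := fun _ => List ℕ) (rw3906) (rw3907) (Nat.ble 3907 i)) (Nat.ble 3906 i)) (Bool.rec (motive := fun _ => List ℕ) (Bool.rec (motive := fun _ => List ℕ) (rw3908) (rw3909) (Nat.ble 3909 i)) (Bool.rec (motive := fun _ => List ℕ) (rw3910) (rw3911) (Nat.ble 3911 i)) (Nat.ble 3910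 i)) (Nat.ble 3908 i)) (Bool.rec (motive := fun _ => List ℕ) (Bool.rec (motive := fun _ => List ℕ) (Bool.rec (motive := fun _ => List ℕ) (rw3912) (rw3913) (Nat.ble 3913 i)) (Bool.rec (motive := fun _ => List ℕ) (rw3914) (rw3915) (Nat.ble 3915 i)) (Nat.ble 3914 i)) (Bool.rec (motive := fun _ => List ℕ) (Bool.rec (motive := fun _ => List ℕ) (rw3916) (rw3917) (Nat.ble 3917 i)) (Bool.rec (motive := fun _ => List ℕ) (rw3918) (rw3919) (Nat.ble 3919 i)) (Nat.ble 3918 i)) (Nat.ble 3916 i)) (Nat.ble 3912 i)) (Bool.rec (motive := fun _ => List ℕ) (Bool.rec (motive := fun _ => List ℕ) (Bool.rec (motive := fun _ => List ℕ) (Bool.rec (motive := fun _ => List ℕ) (rw3920) (rw3921) (Nat.ble 3921 i)) (Bool.rec (motive := fun _ => List ℕ) (rw3922) (rw3923) (Nat.ble 3923 i)) (Nat.ble 3922 i)) (Bool.rec (motive := fun _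 => List ℕ) (Bool.rec (motive := fun _ => List ℕ) (rw3924) (rw3925) (Nat.ble 3925 i)) (Bool.rec (motive := fun _ => List ℕ) (rw3926) (rw3927) (Nat.ble 3927 i)) (Nat.ble 3926 i)) (Nat.ble 3924 i)) (Bool.rec (motive := fun _ => List ℕ) (Bool.rec (motive := fun _ => List ℕ) (Bool.rec (motive := fun _ => List ℕ) (rw3928) (rw3929) (Nat.ble 3929 i)) (Bool.rec (motive := fun _ => List ℕ) (rw3930) (rw3931) (Nat.ble 3931 i)) (Nat.ble 3930 i)) (Bool.rec (motive := fun _ => List ℕ) (Bool.rec (motive := fun _ => List ℕ) (rw3932) (rw3933) (Nat.ble 3933 i)) (Bool.rec (motive := fun _ => List ℕ) (rw3934) (rw3935) (Nat.ble 3935 i)) (Nat.ble 3934 i)) (Nat.ble 3932 i)) (Nat.ble 3928 i)) (Nat.ble 3920 i)) (Bool.rec (motive := fun _ => List ℕ) (Bool.rec (motive := fun _ => List ℕ) (Bool.rec (motive := fun _ => List ℕ) (Bool.rec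 (motive := fun _ => List ℕ) (Bool.rec (motive := fun _ => List ℕ) (rw3936) (rw3937) (Nat.ble 3937 i)) (Bool.rec (motive := fun _ => List ℕ) (rw3938) (rw3939) (Nat.ble 3939 i)) (Nat.ble 3938 i)) (Bool.rec (motive := fun _ => List ℕ) (Bool.rec (motive := fun _ => List ℕ) (rw3940) (rw3941) (Nat.ble 3941 i)) (Bool.rec (motive := fun _ => List ℕ) (rw3942) (rw3943) (Nat.ble 3943 i)) (Nat.ble 3942 i)) (Nat.ble 3940 i)) (Bool.rec (motive := fun _ => List ℕ) (Bool.rec (motive := fun _ => List ℕ) (Bool.rec (motive := fun _ => List ℕ) (rw3944) (rw3945) (Nat.ble 3945 i)) (Bool.rec (motive := fun _ => List ℕ) (rw3946) (rw3947) (Nat.ble 3947 i)) (Nat.ble 3946 i)) (Bool.rec (motive := fun _ => List ℕ) (Bool.rec (motive := fun _ => List ℕ) (rw3948) (rw3949) (Nat.ble 3949 i)) (Bool.rec (motive := fun _ => List ℕ) (rw3950)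 (rw3951) (Nat.ble 3951 i)) (Nat.ble 3950 i)) (Nat.ble 3948 i)) (Nat.ble 3944 i)) (Bool.rec (motive := fun _ => List ℕ) (Bool.rec (motive := fun _ => List ℕ) (Bool.rec (motive := fun _ => List ℕ) (Bool.rec (motive := fun _ => List ℕ) (rw3952) (rw3953) (Nat.ble 3953 i)) (Bool.rec (motive := fun _ => List ℕ) (rw3954) (rw3955) (Nat.ble 3955 i)) (Nat.ble 3954 i)) (Bool.rec (motive := fun _ => List ℕ) (Bool.rec (motive := fun _ => List ℕ) (rw3956) (rw3957) (Nat.ble 3957 i)) (Bool.rec (motive := fun _ => List ℕ) (rw3958) (rw3959) (Nat.ble 3959 i)) (Nat.ble 3958 i)) (Nat.ble 3956 i)) (Bool.rec (motive := fun _ => List ℕ) (Bool.rec (motive := fun _ => List ℕ) (Bool.rec (motive := fun _ => List ℕ) (rw3960) (rw3961) (Nat.ble 3961 i)) (Bool.rec (motive := fun _ => List ℕ) (rw3962) (rw3963) (Nat.ble 3963 i)) (Nat.ble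 3962 i)) (Bool.rec (motive := fun _ => List ℕ) (Bool.rec (motive := fun _ => List ℕ) (rw3964) (rw3965) (Nat.ble 3965 i)) (Bool.rec (motive := fun _ => List ℕ) (rw3966) (rw3967) (Nat.ble 3967 i)) (Nat.ble 3966 i)) (Nat.ble 3964 i)) (Nat.ble 3960 i)) (Nat.ble 3952 i)) (Nat.ble 3936 i)
noncomputable def rwb62 (i : ℕ) : List ℕ := Bool.rec (motive := fun _ => List ℕ) (Bool.rec (motive := fun _ => List ℕ) (Bool.rec (motive := fun _ => List ℕ) (Bool.rec (motive := fun _ => List ℕ) (Bool.rec (motive := fun _ => List ℕ) (Bool.rec (motive := fun _ => List ℕ) (rw3968) (rw3969) (Nat.ble 3969 i)) (Bool.rec (motive := fun _ => List ℕ) (rw3970) (rw3971) (Nat.ble 3971 i)) (Nat.ble 3970 i)) (Bool.rec (motive := fun _ => List ℕ) (Bool.rec (motive := fun _ => List ℕ) (rw3972) (rw3973) (Nat.ble 3973 i)) (Bool.rec (motive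 := fun _ => List ℕ) (rw3974) (rw3975) (Nat.ble 3975 i)) (Nat.ble 3974 i)) (Nat.ble 3972 i)) (Bool.rec (motive := fun _ => List ℕ) (Bool.rec (motive := fun _ => List ℕ) (Bool.rec (motive := fun _ => List ℕ) (rw3976) (rw3977) (Nat.ble 3977 i)) (Bool.rec (motive := fun _ => List ℕ) (rw3978) (rw3979) (Nat.ble 3979 i)) (Nat.ble 3978 i)) (Bool.rec (motive := fun _ => List ℕ) (Bool.rec (motive := fun _ => List ℕ) (rw3980) (rw3981) (Nat.ble 3981 i)) (Bool.rec (motive := fun _ => List ℕ) (rw3982) (rw3983) (Nat.ble 3983 i)) (Nat.ble 3982 i)) (Nat.ble 3980 i)) (Nat.ble 3976 i)) (Bool.rec (motive := fun _ => List ℕ) (Bool.rec (motive := fun _ => List ℕ) (Bool.rec (motive := fun _ => List ℕ) (Bool.rec (motive := fun _ => List ℕ) (rw3984) (rw3985) (Nat.ble 3985 i)) (Bool.rec (motive := fun _ => List ℕ) (rw3986) (rw3987)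 (Nat.ble 3987 i)) (Nat.ble 3986 i)) (Bool.rec (motive := fun _ => List ℕ) (Bool.rec (motive := fun _ => List ℕ) (rw3988) (rw3989) (Nat.ble 3989 i)) (Bool.rec (motive := fun _ => List ℕ) (rw3990) (rw3991) (Nat.ble 3991 i)) (Nat.ble 3990 i)) (Nat.ble 3988 i)) (Bool.rec (motive := fun _ => List ℕ) (Bool.rec (motive := fun _ => List ℕ) (Bool.rec (motive := fun _ => List ℕ) (rw3992) (rw3993) (Nat.ble 3993 i)) (Bool.rec (motive := fun _ => List ℕ) (rw3994) (rw3995) (Nat.ble 3995 i)) (Nat.ble 3994 i)) (Bool.rec (motive := fun _ => List ℕ) (Bool.rec (motive := fun _ => List ℕ) (rw3996) (rw3997) (Nat.ble 3997 i)) (Bool.rec (motive := fun _ => List ℕ) (rw3998) (rw3999) (Nat.ble 3999 i)) (Nat.ble 3998 i)) (Nat.ble 3996 i)) (Nat.ble 3992 i)) (Nat.ble 3984 i)) (Bool.rec (motive := fun _ => List ℕ) (Bool.rec (motive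 := fun _ => List ℕ) (Bool.rec (motive := fun _ => List ℕ) (Bool.rec (motive := fun _ => List ℕ) (Bool.rec (motive := fun _ => List ℕ) (rw4000) (rw4001) (Nat.ble 4001 i)) (Bool.rec (motive := fun _ => List ℕ) (rw4002) (rw4003) (Nat.ble 4003 i)) (Nat.ble 4002 i)) (Bool.rec (motive := fun _ => List ℕ) (Bool.rec (motive := fun _ => List ℕ) (rw4004) (rw4005) (Nat.ble 4005 i)) (Bool.rec (motive := fun _ => List ℕ) (rw4006) (rw4007) (Nat.ble 4007 i)) (Nat.ble 4006 i)) (Nat.ble 4004 i)) (Bool.rec (motive := fun _ => List ℕ) (Bool.rec (motive := fun _ => List ℕ) (Bool.rec (motive := fun _ => List ℕ) (rw4008) (rw4009) (Nat.ble 4009 i)) (Bool.rec (motive := fun _ => List ℕ) (rw4010) (rw4011) (Nat.ble 4011 i)) (Nat.ble 4010 i)) (Bool.rec (motive := fun _ => List ℕ) (Bool.rec (motive := fun _ => List ℕ) (rw4012)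 (rw4013) (Nat.ble 4013 i)) (Bool.rec (motive := fun _ => List ℕ) (rw4014) (rw4015) (Nat.ble 4015 i)) (Nat.ble 4014 i)) (Nat.ble 4012 i)) (Nat.ble 4008 i)) (Bool.rec (motive := fun _ => List ℕ) (Bool.rec (motive := fun _ => List ℕ) (Bool.rec (motive := fun _ => List ℕ) (Bool.rec (motive := fun _ => List ℕ) (rw4016) (rw4017) (Nat.ble 4017 i)) (Bool.rec (motive := fun _ => List ℕ) (rw4018) (rw4019) (Nat.ble 4019 i)) (Nat.ble 4018 i)) (Bool.rec (motive := fun _ => List ℕ) (Bool.rec (motive := fun _ => List ℕ) (rw4020) (rw4021) (Nat.ble 4021 i)) (Bool.rec (motive := fun _ => List ℕ) (rw4022) (rw4023) (Nat.ble 4023 i)) (Nat.ble 4022 i)) (Nat.ble 4020 i)) (Bool.rec (motive := fun _ => List ℕ) (Bool.rec (motive := fun _ => List ℕ) (Bool.rec (motive := fun _ => List ℕ) (rw4024) (rw4025) (Nat.ble 4025 i)) (Bool.rec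 (motive := fun _ => List ℕ) (rw4026) (rw4027) (Nat.ble 4027 i)) (Nat.ble 4026 i)) (Bool.rec (motive := fun _ => List ℕ) (Bool.rec (motive := fun _ => List ℕ) (rw4028) (rw4029) (Nat.ble 4029 i)) (Bool.rec (motive := fun _ => List ℕ) (rw4030) (rw4031) (Nat.ble 4031 i)) (Nat.ble 4030 i)) (Nat.ble 4028 i)) (Nat.ble 4024 i)) (Nat.ble 4016 i)) (Nat.ble 4000 i)
noncomputable def rwb63 (i : ℕ) : List ℕ := Bool.rec (motive := fun _ => List ℕ) (Bool.rec (motive := fun _ => List ℕ) (Bool.rec (motive := fun _ => List ℕ) (Bool.rec (motive := fun _ => List ℕ) (Bool.rec (motive := fun _ => List ℕ) (Bool.rec (motive := fun _ => List ℕ) (rw4032) (rw4033) (Nat.ble 4033 i)) (Bool.rec (motive := fun _ => List ℕ) (rw4034) (rw4035) (Nat.ble 4035 i)) (Nat.ble 4034 i)) (Bool.rec (motive := fun _ => List ℕ) (Bool.rec (motive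 := fun _ => List ℕ) (rw4036) (rw4037) (Nat.ble 4037 i)) (Bool.rec (motive := fun _ => List ℕ) (rw4038) (rw4039) (Nat.ble 4039 i)) (Nat.ble 4038 i)) (Nat.ble 4036 i)) (Bool.rec (motive := fun _ => List ℕ) (Bool.rec (motive := fun _ => List ℕ) (Bool.rec (motive := fun _ => List ℕ) (rw4040) (rw4041) (Nat.ble 4041 i)) (Bool.rec (motive := fun _ => List ℕ) (rw4042) (rw4043) (Nat.ble 4043 i)) (Nat.ble 4042 i)) (Bool.rec (motive := fun _ => List ℕ) (Bool.rec (motive := fun _ => List ℕ) (rw4044) (rw4045) (Nat.ble 4045 i)) (Bool.rec (motive := fun _ => List ℕ) (rw4046) (rw4047) (Nat.ble 4047 i)) (Nat.ble 4046 i)) (Nat.ble 4044 i)) (Nat.ble 4040 i)) (Bool.rec (motive := fun _ => List ℕ) (Bool.rec (motive := fun _ => List ℕ) (Bool.rec (motive := fun _ => List ℕ) (Bool.rec (motive := fun _ => List ℕ) (rw4048) (rw4049)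 (Nat.ble 4049 i)) (Bool.rec (motive := fun _ => List ℕ) (rw4050) (rw4051) (Nat.ble 4051 i)) (Nat.ble 4050 i)) (Bool.rec (motive := fun _ => List ℕ) (Bool.rec (motive := fun _ => List ℕ) (rw4052) (rw4053) (Nat.ble 4053 i)) (Bool.rec (motive := fun _ => List ℕ) (rw4054) (rw4055) (Nat.ble 4055 i)) (Nat.ble 4054 i)) (Nat.ble 4052 i)) (Bool.rec (motive := fun _ => List ℕ) (Bool.rec (motive := fun _ => List ℕ) (Bool.rec (motive := fun _ => List ℕ) (rw4056) (rw4057) (Nat.ble 4057 i)) (Bool.rec (motive := fun _ => List ℕ) (rw4058) (rw4059) (Nat.ble 4059 i)) (Nat.ble 4058 i)) (Bool.rec (motive := fun _ => List ℕ) (Bool.rec (motive := fun _ => List ℕ) (rw4060) (rw4061) (Nat.ble 4061 i)) (Bool.rec (motive := fun _ => List ℕ) (rw4062) (rw4063) (Nat.ble 4063 i)) (Nat.ble 4062 i)) (Nat.ble 4060 i)) (Nat.ble 4056 i))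 (Nat.ble 4048 i)) (Bool.rec (motive := fun _ => List ℕ) (Bool.rec (motive := fun _ => List ℕ) (Bool.rec (motive := fun _ => List ℕ) (Bool.rec (motive := fun _ => List ℕ) (Bool.rec (motive := fun _ => List ℕ) (rw4064) (rw4065) (Nat.ble 4065 i)) (Bool.rec (motive := fun _ => List ℕ) (rw4066) (rw4067) (Nat.ble 4067 i)) (Nat.ble 4066 i)) (Bool.rec (motive := fun _ => List ℕ) (Bool.rec (motive := fun _ => List ℕ) (rw4068) (rw4069) (Nat.ble 4069 i)) (Bool.rec (motive := fun _ => List ℕ) (rw4070) (rw4071) (Nat.ble 4071 i)) (Nat.ble 4070 i)) (Nat.ble 4068 i)) (Bool.rec (motive := fun _ => List ℕ) (Bool.rec (motive := fun _ => List ℕ) (Bool.rec (motive := fun _ => List ℕ) (rw4072) (rw4073) (Nat.ble 4073 i)) (Bool.rec (motive := fun _ => List ℕ) (rw4074) (rw4075) (Nat.ble 4075 i)) (Nat.ble 4074 i)) (Bool.rec (motive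 := fun _ => List ℕ) (Bool.rec (motive := fun _ => List ℕ) (rw4076) (rw4077) (Nat.ble 4077 i)) (Bool.rec (motive := fun _ => List ℕ) (rw4078) (rw4079) (Nat.ble 4079 i)) (Nat.ble 4078 i)) (Nat.ble 4076 i)) (Nat.ble 4072 i)) (Bool.rec (motive := fun _ => List ℕ) (Bool.rec (motive := fun _ => List ℕ) (Bool.rec (motive := fun _ => List ℕ) (Bool.rec (motive := fun _ => List ℕ) (rw4080) (rw4081) (Nat.ble 4081 i)) (Bool.rec (motive := fun _ => List ℕ) (rw4082) (rw4083) (Nat.ble 4083 i)) (Nat.ble 4082 i)) (Bool.rec (motive := fun _ => List ℕ) (Bool.rec (motive := fun _ => List ℕ) (rw4084) (rw4085) (Nat.ble 4085 i)) (Bool.rec (motive := fun _ => List ℕ) (rw4086) (rw4087) (Nat.ble 4087 i)) (Nat.ble 4086 i)) (Nat.ble 4084 i)) (Bool.rec (motive := fun _ => List ℕ) (Bool.rec (motive := fun _ => List ℕ) (Bool.rec (motive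 := fun _ => List ℕ) (rw4088) (rw4089) (Nat.ble 4089 i)) (Bool.rec (motive := fun _ => List ℕ) (rw4090) (rw4091) (Nat.ble 4091 i)) (Nat.ble 4090 i)) (Bool.rec (motive := fun _ => List ℕ) (Bool.rec (motive := fun _ => List ℕ) (rw4092) (rw4093) (Nat.ble 4093 i)) (Bool.rec (motive := fun _ => List ℕ) (rw4094) (rw4095) (Nat.ble 4095 i)) (Nat.ble 4094 i)) (Nat.ble 4092 i)) (Nat.ble 4088 i)) (Nat.ble 4080 i)) (Nat.ble 4064 i)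
noncomputable def rwb64 (i : ℕ) : List ℕ := Bool.rec (motive := fun _ => List ℕ) (Bool.rec (motive := fun _ => List ℕ) (Bool.rec (motive := fun _ => List ℕ) (Bool.rec (motive := fun _ => List ℕ) (Bool.rec (motive := fun _ => List ℕ) (Bool.rec (motive := fun _ => List ℕ) (rw4096) (rw4097) (Nat.ble 4097 i)) (Bool.rec (motive := fun _ => List ℕ) (rw4098) (rw4099) (Nat.ble 4099 i)) (Nat.ble 4098 i)) (Bool.rec (motive := fun _ => List ℕ) (Bool.rec (motive := fun _ => List ℕ) (rw4100) (rw4101) (Nat.ble 4101 i)) (Bool.rec (motive := fun _ => List ℕ) (rw4102) (rw4103) (Nat.ble 4103 i)) (Nat.ble 4102 i)) (Nat.ble 4100 i)) (Bool.rec (motive := fun _ => List ℕ) (Bool.rec (motive := fun _ => List ℕ) (Bool.rec (motive := fun _ => List ℕ) (rw4104) (rw4105) (Nat.ble 4105 i)) (Bool.rec (motive := fun _ => List ℕ) (rw4106)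 (rw4107) (Nat.ble 4107 i)) (Nat.ble 4106 i)) (Bool.rec (motive := fun _ => List ℕ) (Bool.rec (motive := fun _ => List ℕ) (rw4108) (rw4109) (Nat.ble 4109 i)) (Bool.rec (motive := fun _ => List ℕ) (rw4110) (rw4111) (Nat.ble 4111 i)) (Nat.ble 4110 i)) (Nat.ble 4108 i)) (Nat.ble 4104 i)) (Bool.rec (motive := fun _ => List ℕ) (Bool.rec (motive := fun _ => List ℕ) (Bool.rec (motive := fun _ => List ℕ) (Bool.rec (motive := fun _ => List ℕ) (rw4112) (rw4113) (Nat.ble 4113 i)) (Bool.rec (motive := fun _ => List ℕ) (rw4114) (rw4115) (Nat.ble 4115 i)) (Nat.ble 4114 i)) (Bool.rec (motive := fun _ => List ℕ) (Bool.rec (motive := fun _ => List ℕ) (rw4116) (rw4117) (Nat.ble 4117 i)) (Bool.rec (motive := fun _ => List ℕ) (rw4118) (rw4119) (Nat.ble 4119 i)) (Nat.ble 4118 i)) (Nat.ble 4116 i)) (Bool.rec (motive := fun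 _ => List ℕ) (Bool.rec (motive := fun _ => List ℕ) (Bool.rec (motive := fun _ => List ℕ) (rw4120) (rw4121) (Nat.ble 4121 i)) (Bool.rec (motive := fun _ => List ℕ) (rw4122) (rw4123) (Nat.ble 4123 i)) (Nat.ble 4122 i)) (Bool.rec (motive := fun _ => List ℕ) (Bool.rec (motive := fun _ => List ℕ) (rw4124) (rw4125) (Nat.ble 4125 i)) (Bool.rec (motive := fun _ => List ℕ) (rw4126) (rw4127) (Nat.ble 4127 i)) (Nat.ble 4126 i)) (Nat.ble 4124 i)) (Nat.ble 4120 i)) (Nat.ble 4112 i)) (Bool.rec (motive := fun _ => List ℕ) (Bool.rec (motive := fun _ => List ℕ) (Bool.rec (motive := fun _ => List ℕ) (Bool.rec (motive := fun _ => List ℕ) (Bool.rec (motive := fun _ => List ℕ) (rw4128) (rw4129) (Nat.ble 4129 i)) (Bool.rec (motive := fun _ => List ℕ) (rw4130) (rw4131) (Nat.ble 4131 i)) (Nat.ble 4130 i)) (Bool.rec (motive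 := fun _ => List ℕ) (Bool.rec (motive := fun _ => List ℕ) (rw4132) (rw4133) (Nat.ble 4133 i)) (Bool.rec (motive := fun _ => List ℕ) (rw4134) (rw4135) (Nat.ble 4135 i)) (Nat.ble 4134 i)) (Nat.ble 4132 i)) (Bool.rec (motive := fun _ => List ℕ) (Bool.rec (motive := fun _ => List ℕ) (Bool.rec (motive := fun _ => List ℕ) (rw4136) (rw4137) (Nat.ble 4137 i)) (Bool.rec (motive := fun _ => List ℕ) (rw4138) (rw4139) (Nat.ble 4139 i)) (Nat.ble 4138 i)) (Bool.rec (motive := fun _ => List ℕ) (Bool.rec (motive := fun _ => List ℕ) (rw4140) (rw4141) (Nat.ble 4141 i)) (Bool.rec (motive := fun _ => List ℕ) (rw4142) (rw4143) (Nat.ble 4143 i)) (Nat.ble 4142 i)) (Nat.ble 4140 i)) (Nat.ble 4136 i)) (Bool.rec (motive := fun _ => List ℕ) (Bool.rec (motive := fun _ => List ℕ) (Bool.rec (motive := fun _ => List ℕ) (Bool.rec (motive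 := fun _ => List ℕ) (rw4144) (rw4145) (Nat.ble 4145 i)) (Bool.rec (motive := fun _ => List ℕ) (rw4146) (rw4147) (Nat.ble 4147 i)) (Nat.ble 4146 i)) (Bool.rec (motive := fun _ => List ℕ) (Bool.rec (motive := fun _ => List ℕ) (rw4148) (rw4149) (Nat.ble 4149 i)) (Bool.rec (motive := fun _ => List ℕ) (rw4150) (rw4151) (Nat.ble 4151 i)) (Nat.ble 4150 i)) (Nat.ble 4148 i)) (Bool.rec (motive := fun _ => List ℕ) (Bool.rec (motive := fun _ => List ℕ) (Bool.rec (motive := fun _ => List ℕ) (rw4152) (rw4153) (Nat.ble 4153 i)) (Bool.rec (motive := fun _ => List ℕ) (rw4154) (rw4155) (Nat.ble 4155 i)) (Nat.ble 4154 i)) (Bool.rec (motive := fun _ => List ℕ) (Bool.rec (motive := fun _ => List ℕ) (rw4156) (rw4157) (Nat.ble 4157 i)) (Bool.rec (motive := fun _ => List ℕ) (rw4158) (rw4159) (Nat.ble 4159 i)) (Nat.ble 4158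 i)) (Nat.ble 4156 i)) (Nat.ble 4152 i)) (Nat.ble 4144 i)) (Nat.ble 4128 i)
noncomputable def rwb65 (i : ℕ) : List ℕ := Bool.rec (motive := fun _ => List ℕ) (Bool.rec (motive := fun _ => List ℕ) (Bool.rec (motive := fun _ => List ℕ) (Bool.rec (motive := fun _ => List ℕ) (Bool.rec (motive := fun _ => List ℕ) (Bool.rec (motive := fun _ => List ℕ) (rw4160) (rw4161) (Nat.ble 4161 i)) (Bool.rec (motive := fun _ => List ℕ) (rw4162) (rw4163) (Nat.ble 4163 i)) (Nat.ble 4162 i)) (Bool.rec (motive := fun _ => List ℕ) (Bool.rec (motive := fun _ => List ℕ) (rw4164) (rw4165) (Nat.ble 4165 i)) (Bool.rec (motive := fun _ => List ℕ) (rw4166) (rw4167) (Nat.ble 4167 i)) (Nat.ble 4166 i)) (Nat.ble 4164 i)) (Bool.rec (motive := fun _ => List ℕ) (Bool.rec (motive := fun _ => List ℕ) (Bool.rec (motive := fun _ => List ℕ) (rw4168)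 (rw4169) (Nat.ble 4169 i)) (Bool.rec (motive := fun _ => List ℕ) (rw4170) (rw4171) (Nat.ble 4171 i)) (Nat.ble 4170 i)) (Bool.rec (motive := fun _ => List ℕ) (Bool.rec (motive := fun _ => List ℕ) (rw4172) (rw4173) (Nat.ble 4173 i)) (Bool.rec (motive := fun _ => List ℕ) (rw4174) (rw4175) (Nat.ble 4175 i)) (Nat.ble 4174 i)) (Nat.ble 4172 i)) (Nat.ble 4168 i)) (Bool.rec (motive := fun _ => List ℕ) (Bool.rec (motive := fun _ => List ℕ) (Bool.rec (motive := fun _ => List ℕ) (Bool.rec (motive := fun _ => List ℕ) (rw4176) (rw4177) (Nat.ble 4177 i)) (Bool.rec (motive := fun _ => List ℕ) (rw4178) (rw4179) (Nat.ble 4179 i)) (Nat.ble 4178 i)) (Bool.rec (motive := fun _ => List ℕ) (Bool.rec (motive := fun _ => List ℕ) (rw4180) (rw4181) (Nat.ble 4181 i)) (Bool.rec (motive := fun _ => List ℕ) (rw4182) (rw4183) (Nat.ble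 4183 i)) (Nat.ble 4182 i)) (Nat.ble 4180 i)) (Bool.rec (motive := fun _ => List ℕ) (Bool.rec (motive := fun _ => List ℕ) (Bool.rec (motive := fun _ => List ℕ) (rw4184) (rw4185) (Nat.ble 4185 i)) (Bool.rec (motive := fun _ => List ℕ) (rw4186) (rw4187) (Nat.ble 4187 i)) (Nat.ble 4186 i)) (Bool.rec (motive := fun _ => List ℕ) (Bool.rec (motive := fun _ => List ℕ) (rw4188) (rw4189) (Nat.ble 4189 i)) (Bool.rec (motive := fun _ => List ℕ) (rw4190) (rw4191) (Nat.ble 4191 i)) (Nat.ble 4190 i)) (Nat.ble 4188 i)) (Nat.ble 4184 i)) (Nat.ble 4176 i)) (Bool.rec (motive := fun _ => List ℕ) (Bool.rec (motive := fun _ => List ℕ) (Bool.rec (motive := fun _ => List ℕ) (Bool.rec (motive := fun _ => List ℕ) (Bool.rec (motive := fun _ => List ℕ) (rw4192) (rw4193) (Nat.ble 4193 i)) (Bool.rec (motive := fun _ => List ℕ) (rw4194)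 (rw4195) (Nat.ble 4195 i)) (Nat.ble 4194 i)) (Bool.rec (motive := fun _ => List ℕ) (Bool.rec (motive := fun _ => List ℕ) (rw4196) (rw4197) (Nat.ble 4197 i)) (Bool.rec (motive := fun _ => List ℕ) (rw4198) (rw4199) (Nat.ble 4199 i)) (Nat.ble 4198 i)) (Nat.ble 4196 i)) (Bool.rec (motive := fun _ => List ℕ) (Bool.rec (motive := fun _ => List ℕ) (Bool.rec (motive := fun _ => List ℕ) (rw4200) (rw4201) (Nat.ble 4201 i)) (Bool.rec (motive := fun _ => List ℕ) (rw4202) (rw4203) (Nat.ble 4203 i)) (Nat.ble 4202 i)) (Bool.rec (motive := fun _ => List ℕ) (Bool.rec (motive := fun _ => List ℕ) (rw4204) (rw4205) (Nat.ble 4205 i)) (Bool.rec (motive := fun _ => List ℕ) (rw4206) (rw4207) (Nat.ble 4207 i)) (Nat.ble 4206 i)) (Nat.ble 4204 i)) (Nat.ble 4200 i)) (Bool.rec (motive := fun _ => List ℕ) (Bool.rec (motive := fun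 _ => List ℕ) (Bool.rec (motive := fun _ => List ℕ) (Bool.rec (motive := fun _ => List ℕ) (rw4208) (rw4209) (Nat.ble 4209 i)) (Bool.rec (motive := fun _ => List ℕ) (rw4210) (rw4211) (Nat.ble 4211 i)) (Nat.ble 4210 i)) (Bool.rec (motive := fun _ => List ℕ) (Bool.rec (motive := fun _ => List ℕ) (rw4212) (rw4213) (Nat.ble 4213 i)) (Bool.rec (motive := fun _ => List ℕ) (rw4214) (rw4215) (Nat.ble 4215 i)) (Nat.ble 4214 i)) (Nat.ble 4212 i)) (Bool.rec (motive := fun _ => List ℕ) (Bool.rec (motive := fun _ => List ℕ) (Bool.rec (motive := fun _ => List ℕ) (rw4216) (rw4217) (Nat.ble 4217 i)) (Bool.rec (motive := fun _ => List ℕ) (rw4218) (rw4219) (Nat.ble 4219 i)) (Nat.ble 4218 i)) (Bool.rec (motive := fun _ => List ℕ) (Bool.rec (motive := fun _ => List ℕ) (rw4220) (rw4221) (Nat.ble 4221 i)) (Bool.rec (motive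 := fun _ => List ℕ) (rw4222) (rw4223) (Nat.ble 4223 i)) (Nat.ble 4222 i)) (Nat.ble 4220 i)) (Nat.ble 4216 i)) (Nat.ble 4208 i)) (Nat.ble 4192 i)
noncomputable def rwb66 (i : ℕ) : List ℕ := Bool.rec (motive := fun _ => List ℕ) (Bool.rec (motive := fun _ => List ℕ) (Bool.rec (motive := fun _ => List ℕ) (Bool.rec (motive := fun _ => List ℕ) (Bool.rec (motive := fun _ => List ℕ) (Bool.rec (motive := fun _ => List ℕ) (rw4224) (rw4225) (Nat.ble 4225 i)) (Bool.rec (motive := fun _ => List ℕ) (rw4226) (rw4227) (Nat.ble 4227 i)) (Nat.ble 4226 i)) (Bool.rec (motive := fun _ => List ℕ) (Bool.rec (motive := fun _ => List ℕ) (rw4228) (rw4229) (Nat.ble 4229 i)) (Bool.rec (motive := fun _ => List ℕ) (rw4230) (rw4231) (Nat.ble 4231 i)) (Nat.ble 4230 i)) (Nat.ble 4228 i)) (Bool.rec (motive := fun _ => List ℕ) (Bool.rec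 (motive := fun _ => List ℕ) (Bool.rec (motive := fun _ => List ℕ) (rw4232) (rw4233) (Nat.ble 4233 i)) (Bool.rec (motive := fun _ => List ℕ) (rw4234) (rw4235) (Nat.ble 4235 i)) (Nat.ble 4234 i)) (Bool.rec (motive := fun _ => List ℕ) (Bool.rec (motive := fun _ => List ℕ) (rw4236) (rw4237) (Nat.ble 4237 i)) (Bool.rec (motive := fun _ => List ℕ) (rw4238) (rw4239) (Nat.ble 4239 i)) (Nat.ble 4238 i)) (Nat.ble 4236 i)) (Nat.ble 4232 i)) (Bool.rec (motive := fun _ => List ℕ) (Bool.rec (motive := fun _ => List ℕ) (Bool.rec (motive := fun _ => List ℕ) (Bool.rec (motive := fun _ => List ℕ) (rw4240) (rw4241) (Nat.ble 4241 i)) (Bool.rec (motive := fun _ => List ℕ) (rw4242) (rw4243) (Nat.ble 4243 i)) (Nat.ble 4242 i)) (Bool.rec (motive := fun _ => List ℕ) (Bool.rec (motive := fun _ => List ℕ) (rw4244) (rw4245) (Nat.ble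 4245 i)) (Bool.rec (motive := fun _ => List ℕ) (rw4246) (rw4247) (Nat.ble 4247 i)) (Nat.ble 4246 i)) (Nat.ble 4244 i)) (Bool.rec (motive := fun _ => List ℕ) (Bool.rec (motive := fun _ => List ℕ) (Bool.rec (motive := fun _ => List ℕ) (rw4248) (rw4249) (Nat.ble 4249 i)) (Bool.rec (motive := fun _ => List ℕ) (rw4250) (rw4251) (Nat.ble 4251 i)) (Nat.ble 4250 i)) (Bool.rec (motive := fun _ => List ℕ) (Bool.rec (motive := fun _ => List ℕ) (rw4252) (rw4253) (Nat.ble 4253 i)) (Bool.rec (motive := fun _ => List ℕ) (rw4254) (rw4255) (Nat.ble 4255 i)) (Nat.ble 4254 i)) (Nat.ble 4252 i)) (Nat.ble 4248 i)) (Nat.ble 4240 i)) (Bool.rec (motive := fun _ => List ℕ) (Bool.rec (motive := fun _ => List ℕ) (Bool.rec (motive := fun _ => List ℕ) (Bool.rec (motive := fun _ => List ℕ) (Bool.rec (motive := fun _ => List ℕ) (rw4256)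 (rw4257) (Nat.ble 4257 i)) (Bool.rec (motive := fun _ => List ℕ) (rw4258) (rw4259) (Nat.ble 4259 i)) (Nat.ble 4258 i)) (Bool.rec (motive := fun _ => List ℕ) (Bool.rec (motive := fun _ => List ℕ) (rw4260) (rw4261) (Nat.ble 4261 i)) (Bool.rec (motive := fun _ => List ℕ) (rw4262) (rw4263) (Nat.ble 4263 i)) (Nat.ble 4262 i)) (Nat.ble 4260 i)) (Bool.rec (motive := fun _ => List ℕ) (Bool.rec (motive := fun _ => List ℕ) (Bool.rec (motive := fun _ => List ℕ) (rw4264) (rw4265) (Nat.ble 4265 i)) (Bool.rec (motive := fun _ => List ℕ) (rw4266) (rw4267) (Nat.ble 4267 i)) (Nat.ble 4266 i)) (Bool.rec (motive := fun _ => List ℕ) (Bool.rec (motive := fun _ => List ℕ) (rw4268) (rw4269) (Nat.ble 4269 i)) (Bool.rec (motive := fun _ => List ℕ) (rw4270) (rw4271) (Nat.ble 4271 i)) (Nat.ble 4270 i)) (Nat.ble 4268 i)) (Nat.ble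 4264 i)) (Bool.rec (motive := fun _ => List ℕ) (Bool.rec (motive := fun _ => List ℕ) (Bool.rec (motive := fun _ => List ℕ) (Bool.rec (motive := fun _ => List ℕ) (rw4272) (rw4273) (Nat.ble 4273 i)) (Bool.rec (motive := fun _ => List ℕ) (rw4274) (rw4275) (Nat.ble 4275 i)) (Nat.ble 4274 i)) (Bool.rec (motive := fun _ => List ℕ) (Bool.rec (motive := fun _ => List ℕ) (rw4276) (rw4277) (Nat.ble 4277 i)) (Bool.rec (motive := fun _ => List ℕ) (rw4278) (rw4279) (Nat.ble 4279 i)) (Nat.ble 4278 i)) (Nat.ble 4276 i)) (Bool.rec (motive := fun _ => List ℕ) (Bool.rec (motive := fun _ => List ℕ) (Bool.rec (motive := fun _ => List ℕ) (rw4280) (rw4281) (Nat.ble 4281 i)) (Bool.rec (motive := fun _ => List ℕ) (rw4282) (rw4283) (Nat.ble 4283 i)) (Nat.ble 4282 i)) (Bool.rec (motive := fun _ => List ℕ) (Bool.rec (motive :=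 fun _ => List ℕ) (rw4284) (rw4285) (Nat.ble 4285 i)) (Bool.rec (motive := fun _ => List ℕ) (rw4286) (rw4287) (Nat.ble 4287 i)) (Nat.ble 4286 i)) (Nat.ble 4284 i)) (Nat.ble 4280 i)) (Nat.ble 4272 i)) (Nat.ble 4256 i)
noncomputable def rwb67 (i : ℕ) : List ℕ := Bool.rec (motive := fun _ => List ℕ) (Bool.rec (motive := fun _ => List ℕ) (Bool.rec (motive := fun _ => List ℕ) (Bool.rec (motive := fun _ => List ℕ) (Bool.rec (motive := fun _ => List ℕ) (Bool.rec (motive := fun _ => List ℕ) (rw4288) (rw4289) (Nat.ble 4289 i)) (Bool.rec (motive := fun _ => List ℕ) (rw4290) (rw4291) (Nat.ble 4291 i)) (Nat.ble 4290 i)) (Bool.rec (motive := fun _ => List ℕ) (Bool.rec (motive := fun _ => List ℕ) (rw4292) (rw4293) (Nat.ble 4293 i)) (Bool.rec (motive := fun _ => List ℕ) (rw4294) (rw4295) (Nat.ble 4295 i)) (Nat.ble 4294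 i)) (Nat.ble 4292 i)) (Bool.rec (motive := fun _ => List ℕ) (Bool.rec (motive := fun _ => List ℕ) (Bool.rec (motive := fun _ => List ℕ) (rw4296) (rw4297) (Nat.ble 4297 i)) (Bool.rec (motive := fun _ => List ℕ) (rw4298) (rw4299) (Nat.ble 4299 i)) (Nat.ble 4298 i)) (Bool.rec (motive := fun _ => List ℕ) (Bool.rec (motive := fun _ => List ℕ) (rw4300) (rw4301) (Nat.ble 4301 i)) (Bool.rec (motive := fun _ => List ℕ) (rw4302) (rw4303) (Nat.ble 4303 i)) (Nat.ble 4302 i)) (Nat.ble 4300 i)) (Nat.ble 4296 i)) (Bool.rec (motive := fun _ => List ℕ) (Bool.rec (motive := fun _ => List ℕ) (Bool.rec (motive := fun _ => List ℕ) (Bool.rec (motive := fun _ => List ℕ) (rw4304) (rw4305) (Nat.ble 4305 i)) (Bool.rec (motive := fun _ => List ℕ) (rw4306) (rw4307) (Nat.ble 4307 i)) (Nat.ble 4306 i)) (Bool.rec (motive := fun _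 => List ℕ) (Bool.rec (motive := fun _ => List ℕ) (rw4308) (rw4309) (Nat.ble 4309 i)) (Bool.rec (motive := fun _ => List ℕ) (rw4310) (rw4311) (Nat.ble 4311 i)) (Nat.ble 4310 i)) (Nat.ble 4308 i)) (Bool.rec (motive := fun _ => List ℕ) (Bool.rec (motive := fun _ => List ℕ) (Bool.rec (motive := fun _ => List ℕ) (rw4312) (rw4313) (Nat.ble 4313 i)) (Bool.rec (motive := fun _ => List ℕ) (rw4314) (rw4315) (Nat.ble 4315 i)) (Nat.ble 4314 i)) (Bool.rec (motive := fun _ => List ℕ) (Bool.rec (motive := fun _ => List ℕ) (rw4316) (rw4317) (Nat.ble 4317 i)) (Bool.rec (motive := fun _ => List ℕ) (rw4318) (rw4319) (Nat.ble 4319 i)) (Nat.ble 4318 i)) (Nat.ble 4316 i)) (Nat.ble 4312 i)) (Nat.ble 4304 i)) (Bool.rec (motive := fun _ => List ℕ) (Bool.rec (motive := fun _ => List ℕ) (Bool.rec (motive := fun _ => List ℕ) (Bool.rec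 (motive := fun _ => List ℕ) (Bool.rec (motive := fun _ => List ℕ) (rw4320) (rw4321) (Nat.ble 4321 i)) (Bool.rec (motive := fun _ => List ℕ) (rw4322) (rw4323) (Nat.ble 4323 i)) (Nat.ble 4322 i)) (Bool.rec (motive := fun _ => List ℕ) (Bool.rec (motive := fun _ => List ℕ) (rw4324) (rw4325) (Nat.ble 4325 i)) (Bool.rec (motive := fun _ => List ℕ) (rw4326) (rw4327) (Nat.ble 4327 i)) (Nat.ble 4326 i)) (Nat.ble 4324 i)) (Bool.rec (motive := fun _ => List ℕ) (Bool.rec (motive := fun _ => List ℕ) (Bool.rec (motive := fun _ => List ℕ) (rw4328) (rw4329) (Nat.ble 4329 i)) (Bool.rec (motive := fun _ => List ℕ) (rw4330) (rw4331) (Nat.ble 4331 i)) (Nat.ble 4330 i)) (Bool.rec (motive := fun _ => List ℕ) (Bool.rec (motive := fun _ => List ℕ) (rw4332) (rw4333) (Nat.ble 4333 i)) (Bool.rec (motive := fun _ => List ℕ) (rw4334)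 (rw4335) (Nat.ble 4335 i)) (Nat.ble 4334 i)) (Nat.ble 4332 i)) (Nat.ble 4328 i)) (Bool.rec (motive := fun _ => List ℕ) (Bool.rec (motive := fun _ => List ℕ) (Bool.rec (motive := fun _ => List ℕ) (Bool.rec (motive := fun _ => List ℕ) (rw4336) (rw4337) (Nat.ble 4337 i)) (Bool.rec (motive := fun _ => List ℕ) (rw4338) (rw4339) (Nat.ble 4339 i)) (Nat.ble 4338 i)) (Bool.rec (motive := fun _ => List ℕ) (Bool.rec (motive := fun _ => List ℕ) (rw4340) (rw4341) (Nat.ble 4341 i)) (Bool.rec (motive := fun _ => List ℕ) (rw4342) (rw4343) (Nat.ble 4343 i)) (Nat.ble 4342 i)) (Nat.ble 4340 i)) (Bool.rec (motive := fun _ => List ℕ) (Bool.rec (motive := fun _ => List ℕ) (Bool.rec (motive := fun _ => List ℕ) (rw4344) (rw4345) (Nat.ble 4345 i)) (Bool.rec (motive := fun _ => List ℕ) (rw4346) (rw4347) (Nat.ble 4347 i)) (Nat.ble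 4346 i)) (Bool.rec (motive := fun _ => List ℕ) (Bool.rec (motive := fun _ => List ℕ) (rw4348) (rw4349) (Nat.ble 4349 i)) (Bool.rec (motive := fun _ => List ℕ) (rw4350) (rw4351) (Nat.ble 4351 i)) (Nat.ble 4350 i)) (Nat.ble 4348 i)) (Nat.ble 4344 i)) (Nat.ble 4336 i)) (Nat.ble 4320 i)
noncomputable def rwb68 (i : ℕ) : List ℕ := Bool.rec (motive := fun _ => List ℕ) (Bool.rec (motive := fun _ => List ℕ) (Bool.rec (motive := fun _ => List ℕ) (Bool.rec (motive := fun _ => List ℕ) (Bool.rec (motive := fun _ => List ℕ) (Bool.rec (motive := fun _ => List ℕ) (rw4352) (rw4353) (Nat.ble 4353 i)) (Bool.rec (motive := fun _ => List ℕ) (rw4354) (rw4355) (Nat.ble 4355 i)) (Nat.ble 4354 i)) (Bool.rec (motive := fun _ => List ℕ) (Bool.rec (motive := fun _ => List ℕ) (rw4356) (rw4357) (Nat.ble 4357 i)) (Bool.rec (motive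 := fun _ => List ℕ) (rw4358) (rw4359) (Nat.ble 4359 i)) (Nat.ble 4358 i)) (Nat.ble 4356 i)) (Bool.rec (motive := fun _ => List ℕ) (Bool.rec (motive := fun _ => List ℕ) (Bool.rec (motive := fun _ => List ℕ) (rw4360) (rw4361) (Nat.ble 4361 i)) (Bool.rec (motive := fun _ => List ℕ) (rw4362) (rw4363) (Nat.ble 4363 i)) (Nat.ble 4362 i)) (Bool.rec (motive := fun _ => List ℕ) (Bool.rec (motive := fun _ => List ℕ) (rw4364) (rw4365) (Nat.ble 4365 i)) (Bool.rec (motive := fun _ => List ℕ) (rw4366) (rw4367) (Nat.ble 4367 i)) (Nat.ble 4366 i)) (Nat.ble 4364 i)) (Nat.ble 4360 i)) (Bool.rec (motive := fun _ => List ℕ) (Bool.rec (motive := fun _ => List ℕ) (Bool.rec (motive := fun _ => List ℕ) (Bool.rec (motive := fun _ => List ℕ) (rw4368) (rw4369) (Nat.ble 4369 i)) (Bool.rec (motive := fun _ => List ℕ) (rw4370) (rw4371)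 (Nat.ble 4371 i)) (Nat.ble 4370 i)) (Bool.rec (motive := fun _ => List ℕ) (Bool.rec (motive := fun _ => List ℕ) (rw4372) (rw4373) (Nat.ble 4373 i)) (Bool.rec (motive := fun _ => List ℕ) (rw4374) (rw4375) (Nat.ble 4375 i)) (Nat.ble 4374 i)) (Nat.ble 4372 i)) (Bool.rec (motive := fun _ => List ℕ) (Bool.rec (motive := fun _ => List ℕ) (Bool.rec (motive := fun _ => List ℕ) (rw4376) (rw4377) (Nat.ble 4377 i)) (Bool.rec (motive := fun _ => List ℕ) (rw4378) (rw4379) (Nat.ble 4379 i)) (Nat.ble 4378 i)) (Bool.rec (motive := fun _ => List ℕ) (Bool.rec (motive := fun _ => List ℕ) (rw4380) (rw4381) (Nat.ble 4381 i)) (Bool.rec (motive := fun _ => List ℕ) (rw4382) (rw4383) (Nat.ble 4383 i)) (Nat.ble 4382 i)) (Nat.ble 4380 i)) (Nat.ble 4376 i)) (Nat.ble 4368 i)) (Bool.rec (motive := fun _ => List ℕ) (Bool.rec (motive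 := fun _ => List ℕ) (Bool.rec (motive := fun _ => List ℕ) (Bool.rec (motive := fun _ => List ℕ) (Bool.rec (motive := fun _ => List ℕ) (rw4384) (rw4385) (Nat.ble 4385 i)) (Bool.rec (motive := fun _ => List ℕ) (rw4386) (rw4387) (Nat.ble 4387 i)) (Nat.ble 4386 i)) (Bool.rec (motive := fun _ => List ℕ) (Bool.rec (motive := fun _ => List ℕ) (rw4388) (rw4389) (Nat.ble 4389 i)) (Bool.rec (motive := fun _ => List ℕ) (rw4390) (rw4391) (Nat.ble 4391 i)) (Nat.ble 4390 i)) (Nat.ble 4388 i)) (Bool.rec (motive := fun _ => List ℕ) (Bool.rec (motive := fun _ => List ℕ) (Bool.rec (motive := fun _ => List ℕ) (rw4392) (rw4393) (Nat.ble 4393 i)) (Bool.rec (motive := fun _ => List ℕ) (rw4394) (rw4395) (Nat.ble 4395 i)) (Nat.ble 4394 i)) (Bool.rec (motive := fun _ => List ℕ) (Bool.rec (motive := fun _ => List ℕ) (rw4396)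 (rw4397) (Nat.ble 4397 i)) (Bool.rec (motive := fun _ => List ℕ) (rw4398) (rw4399) (Nat.ble 4399 i)) (Nat.ble 4398 i)) (Nat.ble 4396 i)) (Nat.ble 4392 i)) (Bool.rec (motive := fun _ => List ℕ) (Bool.rec (motive := fun _ => List ℕ) (Bool.rec (motive := fun _ => List ℕ) (Bool.rec (motive := fun _ => List ℕ) (rw4400) (rw4401) (Nat.ble 4401 i)) (Bool.rec (motive := fun _ => List ℕ) (rw4402) (rw4403) (Nat.ble 4403 i)) (Nat.ble 4402 i)) (Bool.rec (motive := fun _ => List ℕ) (Bool.rec (motive := fun _ => List ℕ) (rw4404) (rw4405) (Nat.ble 4405 i)) (Bool.rec (motive := fun _ => List ℕ) (rw4406) (rw4407) (Nat.ble 4407 i)) (Nat.ble 4406 i)) (Nat.ble 4404 i)) (Bool.rec (motive := fun _ => List ℕ) (Bool.rec (motive := fun _ => List ℕ) (Bool.rec (motive := fun _ => List ℕ) (rw4408) (rw4409) (Nat.ble 4409 i)) (Bool.rec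 (motive := fun _ => List ℕ) (rw4410) (rw4411) (Nat.ble 4411 i)) (Nat.ble 4410 i)) (Bool.rec (motive := fun _ => List ℕ) (Bool.rec (motive := fun _ => List ℕ) (rw4412) (rw4413) (Nat.ble 4413 i)) (Bool.rec (motive := fun _ => List ℕ) (rw4414) (rw4415) (Nat.ble 4415 i)) (Nat.ble 4414 i)) (Nat.ble 4412 i)) (Nat.ble 4408 i)) (Nat.ble 4400 i)) (Nat.ble 4384 i)
noncomputable def rwb69 (i : ℕ) : List ℕ := Bool.rec (motive := fun _ => List ℕ) (Bool.rec (motive := fun _ => List ℕ) (Bool.rec (motive := fun _ => List ℕ) (Bool.rec (motive := fun _ => List ℕ) (Bool.rec (motive := fun _ => List ℕ) (Bool.rec (motive := fun _ => List ℕ) (rw4416) (rw4417) (Nat.ble 4417 i)) (Bool.rec (motive := fun _ => List ℕ) (rw4418) (rw4419) (Nat.ble 4419 i)) (Nat.ble 4418 i)) (Bool.rec (motive := fun _ => List ℕ) (Bool.rec (motive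 := fun _ => List ℕ) (rw4420) (rw4421) (Nat.ble 4421 i)) (Bool.rec (motive := fun _ => List ℕ) (rw4422) (rw4423) (Nat.ble 4423 i)) (Nat.ble 4422 i)) (Nat.ble 4420 i)) (Bool.rec (motive := fun _ => List ℕ) (Bool.rec (motive := fun _ => List ℕ) (Bool.rec (motive := fun _ => List ℕ) (rw4424) (rw4425) (Nat.ble 4425 i)) (Bool.rec (motive := fun _ => List ℕ) (rw4426) (rw4427) (Nat.ble 4427 i)) (Nat.ble 4426 i)) (Bool.rec (motive := fun _ => List ℕ) (Bool.rec (motive := fun _ => List ℕ) (rw4428) (rw4429) (Nat.ble 4429 i)) (Bool.rec (motive := fun _ => List ℕ) (rw4430) (rw4431) (Nat.ble 4431 i)) (Nat.ble 4430 i)) (Nat.ble 4428 i)) (Nat.ble 4424 i)) (Bool.rec (motive := fun _ => List ℕ) (Bool.rec (motive := fun _ => List ℕ) (Bool.rec (motive := fun _ => List ℕ) (Bool.rec (motive := fun _ => List ℕ) (rw4432) (rw4433)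 (Nat.ble 4433 i)) (Bool.rec (motive := fun _ => List ℕ) (rw4434) (rw4435) (Nat.ble 4435 i)) (Nat.ble 4434 i)) (Bool.rec (motive := fun _ => List ℕ) (Bool.rec (motive := fun _ => List ℕ) (rw4436) (rw4437) (Nat.ble 4437 i)) (Bool.rec (motive := fun _ => List ℕ) (rw4438) (rw4439) (Nat.ble 4439 i)) (Nat.ble 4438 i)) (Nat.ble 4436 i)) (Bool.rec (motive := fun _ => List ℕ) (Bool.rec (motive := fun _ => List ℕ) (Bool.rec (motive := fun _ => List ℕ) (rw4440) (rw4441) (Nat.ble 4441 i)) (Bool.rec (motive := fun _ => List ℕ) (rw4442) (rw4443) (Nat.ble 4443 i)) (Nat.ble 4442 i)) (Bool.rec (motive := fun _ => List ℕ) (Bool.rec (motive := fun _ => List ℕ) (rw4444) (rw4445) (Nat.ble 4445 i)) (Bool.rec (motive := fun _ => List ℕ) (rw4446) (rw4447) (Nat.ble 4447 i)) (Nat.ble 4446 i)) (Nat.ble 4444 i)) (Nat.ble 4440 i))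 (Nat.ble 4432 i)) (Bool.rec (motive := fun _ => List ℕ) (Bool.rec (motive := fun _ => List ℕ) (Bool.rec (motive := fun _ => List ℕ) (Bool.rec (motive := fun _ => List ℕ) (Bool.rec (motive := fun _ => List ℕ) (rw4448) (rw4449) (Nat.ble 4449 i)) (Bool.rec (motive := fun _ => List ℕ) (rw4450) (rw4451) (Nat.ble 4451 i)) (Nat.ble 4450 i)) (Bool.rec (motive := fun _ => List ℕ) (Bool.rec (motive := fun _ => List ℕ) (rw4452) (rw4453) (Nat.ble 4453 i)) (Bool.rec (motive := fun _ => List ℕ) (rw4454) (rw4455) (Nat.ble 4455 i)) (Nat.ble 4454 i)) (Nat.ble 4452 i)) (Bool.rec (motive := fun _ => List ℕ) (Bool.rec (motive := fun _ => List ℕ) (Bool.rec (motive := fun _ => List ℕ) (rw4456) (rw4457) (Nat.ble 4457 i)) (Bool.rec (motive := fun _ => List ℕ) (rw4458) (rw4459) (Nat.ble 4459 i)) (Nat.ble 4458 i)) (Bool.rec (motive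 := fun _ => List ℕ) (Bool.rec (motive := fun _ => List ℕ) (rw4460) (rw4461) (Nat.ble 4461 i)) (Bool.rec (motive := fun _ => List ℕ) (rw4462) (rw4463) (Nat.ble 4463 i)) (Nat.ble 4462 i)) (Nat.ble 4460 i)) (Nat.ble 4456 i)) (Bool.rec (motive := fun _ => List ℕ) (Bool.rec (motive := fun _ => List ℕ) (Bool.rec (motive := fun _ => List ℕ) (Bool.rec (motive := fun _ => List ℕ) (rw4464) (rw4465) (Nat.ble 4465 i)) (Bool.rec (motive := fun _ => List ℕ) (rw4466) (rw4467) (Nat.ble 4467 i)) (Nat.ble 4466 i)) (Bool.rec (motive := fun _ => List ℕ) (Bool.rec (motive := fun _ => List ℕ) (rw4468) (rw4469) (Nat.ble 4469 i)) (Bool.rec (motive := fun _ => List ℕ) (rw4470) (rw4471) (Nat.ble 4471 i)) (Nat.ble 4470 i)) (Nat.ble 4468 i)) (Bool.rec (motive := fun _ => List ℕ) (Bool.rec (motive := fun _ => List ℕ) (Bool.rec (motive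 := fun _ => List ℕ) (rw4472) (rw4473) (Nat.ble 4473 i)) (Bool.rec (motive := fun _ => List ℕ) (rw4474) (rw4475) (Nat.ble 4475 i)) (Nat.ble 4474 i)) (Bool.rec (motive := fun _ => List ℕ) (Bool.rec (motive := fun _ => List ℕ) (rw4476) (rw4477) (Nat.ble 4477 i)) (Bool.rec (motive := fun _ => List ℕ) (rw4478) (rw4479) (Nat.ble 4479 i)) (Nat.ble 4478 i)) (Nat.ble 4476 i)) (Nat.ble 4472 i)) (Nat.ble 4464 i)) (Nat.ble 4448 i)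
noncomputable def rwb70 (i : ℕ) : List ℕ := Bool.rec (motive := fun _ => List ℕ) (Bool.rec (motive := fun _ => List ℕ) (Bool.rec (motive := fun _ => List ℕ) (Bool.rec (motive := fun _ => List ℕ) (Bool.rec (motive := fun _ => List ℕ) (Bool.rec (motive := fun _ => List ℕ) (rw4480) (rw4481) (Nat.ble 4481 i)) (Bool.rec (motive := fun _ => List ℕ) (rw4482) (rw4483) (Nat.ble 4483 i)) (Nat.ble 4482 i)) (Bool.rec (motive := fun _ => List ℕ) (Bool.rec (motive := fun _ => List ℕ) (rw4484) (rw4485) (Nat.ble 4485 i)) (Bool.rec (motive := fun _ => List ℕ) (rw4486) (rw4487) (Nat.ble 4487 i)) (Nat.ble 4486 i)) (Nat.ble 4484 i)) (Bool.rec (motive := fun _ => List ℕ) (Bool.rec (motive := fun _ => List ℕ) (Bool.rec (motive := fun _ => List ℕ) (rw4488) (rw4489) (Nat.ble 4489 i)) (Bool.rec (motive := fun _ => List ℕ) (rw4490)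 (rw4491) (Nat.ble 4491 i)) (Nat.ble 4490 i)) (Bool.rec (motive := fun _ => List ℕ) (Bool.rec (motive := fun _ => List ℕ) (rw4492) (rw4493) (Nat.ble 4493 i)) (Bool.rec (motive := fun _ => List ℕ) (rw4494) (rw4495) (Nat.ble 4495 i)) (Nat.ble 4494 i)) (Nat.ble 4492 i)) (Nat.ble 4488 i)) (Bool.rec (motive := fun _ => List ℕ) (Bool.rec (motive := fun _ => List ℕ) (Bool.rec (motive := fun _ => List ℕ) (Bool.rec (motive := fun _ => List ℕ) (rw4496) (rw4497) (Nat.ble 4497 i)) (Bool.rec (motive := fun _ => List ℕ) (rw4498) (rw4499) (Nat.ble 4499 i)) (Nat.ble 4498 i)) (Bool.rec (motive := fun _ => List ℕ) (Bool.rec (motive := fun _ => List ℕ) (rw4500) (rw4501) (Nat.ble 4501 i)) (Bool.rec (motive := fun _ => List ℕ) (rw4502) (rw4503) (Nat.ble 4503 i)) (Nat.ble 4502 i)) (Nat.ble 4500 i)) (Bool.rec (motive := fun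 _ => List ℕ) (Bool.rec (motive := fun _ => List ℕ) (Bool.rec (motive := fun _ => List ℕ) (rw4504) (rw4505) (Nat.ble 4505 i)) (Bool.rec (motive := fun _ => List ℕ) (rw4506) (rw4507) (Nat.ble 4507 i)) (Nat.ble 4506 i)) (Bool.rec (motive := fun _ => List ℕ) (Bool.rec (motive := fun _ => List ℕ) (rw4508) (rw4509) (Nat.ble 4509 i)) (Bool.rec (motive := fun _ => List ℕ) (rw4510) (rw4511) (Nat.ble 4511 i)) (Nat.ble 4510 i)) (Nat.ble 4508 i)) (Nat.ble 4504 i)) (Nat.ble 4496 i)) (Bool.rec (motive := fun _ => List ℕ) (Bool.rec (motive := fun _ => List ℕ) (Bool.rec (motive := fun _ => List ℕ) (Bool.rec (motive := fun _ => List ℕ) (Bool.rec (motive := fun _ => List ℕ) (rw4512) (rw4513) (Nat.ble 4513 i)) (Bool.rec (motive := fun _ => List ℕ) (rw4514) (rw4515) (Nat.ble 4515 i)) (Nat.ble 4514 i)) (Bool.rec (motive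 := fun _ => List ℕ) (Bool.rec (motive := fun _ => List ℕ) (rw4516) (rw4517) (Nat.ble 4517 i)) (Bool.rec (motive := fun _ => List ℕ) (rw4518) (rw4519) (Nat.ble 4519 i)) (Nat.ble 4518 i)) (Nat.ble 4516 i)) (Bool.rec (motive := fun _ => List ℕ) (Bool.rec (motive := fun _ => List ℕ) (Bool.rec (motive := fun _ => List ℕ) (rw4520) (rw4521) (Nat.ble 4521 i)) (Bool.rec (motive := fun _ => List ℕ) (rw4522) (rw4523) (Nat.ble 4523 i)) (Nat.ble 4522 i)) (Bool.rec (motive := fun _ => List ℕ) (Bool.rec (motive := fun _ => List ℕ) (rw4524) (rw4525) (Nat.ble 4525 i)) (Bool.rec (motive := fun _ => List ℕ) (rw4526) (rw4527) (Nat.ble 4527 i)) (Nat.ble 4526 i)) (Nat.ble 4524 i)) (Nat.ble 4520 i)) (Bool.rec (motive := fun _ => List ℕ) (Bool.rec (motive := fun _ => List ℕ) (Bool.rec (motive := fun _ => List ℕ) (Bool.rec (motive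 := fun _ => List ℕ) (rw4528) (rw4529) (Nat.ble 4529 i)) (Bool.rec (motive := fun _ => List ℕ) (rw4530) (rw4531) (Nat.ble 4531 i)) (Nat.ble 4530 i)) (Bool.rec (motive := fun _ => List ℕ) (Bool.rec (motive := fun _ => List ℕ) (rw4532) (rw4533) (Nat.ble 4533 i)) (Bool.rec (motive := fun _ => List ℕ) (rw4534) (rw4535) (Nat.ble 4535 i)) (Nat.ble 4534 i)) (Nat.ble 4532 i)) (Bool.rec (motive := fun _ => List ℕ) (Bool.rec (motive := fun _ => List ℕ) (Bool.rec (motive := fun _ => List ℕ) (rw4536) (rw4537) (Nat.ble 4537 i)) (Bool.rec (motive := fun _ => List ℕ) (rw4538) (rw4539) (Nat.ble 4539 i)) (Nat.ble 4538 i)) (Bool.rec (motive := fun _ => List ℕ) (Bool.rec (motive := fun _ => List ℕ) (rw4540) (rw4541) (Nat.ble 4541 i)) (Bool.rec (motive := fun _ => List ℕ) (rw4542) (rw4543) (Nat.ble 4543 i)) (Nat.ble 4542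 i)) (Nat.ble 4540 i)) (Nat.ble 4536 i)) (Nat.ble 4528 i)) (Nat.ble 4512 i)
noncomputable def rwb71 (i : ℕ) : List ℕ := Bool.rec (motive := fun _ => List ℕ) (Bool.rec (motive := fun _ => List ℕ) (Bool.rec (motive := fun _ => List ℕ) (Bool.rec (motive := fun _ => List ℕ) (Bool.rec (motive := fun _ => List ℕ) (Bool.rec (motive := fun _ => List ℕ) (rw4544) (rw4545) (Nat.ble 4545 i)) (Bool.rec (motive := fun _ => List ℕ) (rw4546) (rw4547) (Nat.ble 4547 i)) (Nat.ble 4546 i)) (Bool.rec (motive := fun _ => List ℕ) (Bool.rec (motive := fun _ => List ℕ) (rw4548) (rw4549) (Nat.ble 4549 i)) (Bool.rec (motive := fun _ => List ℕ) (rw4550) (rw4551) (Nat.ble 4551 i)) (Nat.ble 4550 i)) (Nat.ble 4548 i)) (Bool.rec (motive := fun _ => List ℕ) (Bool.rec (motive := fun _ => List ℕ) (Bool.rec (motive := fun _ => List ℕ) (rw4552)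 (rw4553) (Nat.ble 4553 i)) (Bool.rec (motive := fun _ => List ℕ) (rw4554) (rw4555) (Nat.ble 4555 i)) (Nat.ble 4554 i)) (Bool.rec (motive := fun _ => List ℕ) (Bool.rec (motive := fun _ => List ℕ) (rw4556) (rw4557) (Nat.ble 4557 i)) (Bool.rec (motive := fun _ => List ℕ) (rw4558) (rw4559) (Nat.ble 4559 i)) (Nat.ble 4558 i)) (Nat.ble 4556 i)) (Nat.ble 4552 i)) (Bool.rec (motive := fun _ => List ℕ) (Bool.rec (motive := fun _ => List ℕ) (Bool.rec (motive := fun _ => List ℕ) (Bool.rec (motive := fun _ => List ℕ) (rw4560) (rw4561) (Nat.ble 4561 i)) (Bool.rec (motive := fun _ => List ℕ) (rw4562) (rw4563) (Nat.ble 4563 i)) (Nat.ble 4562 i)) (Bool.rec (motive := fun _ => List ℕ) (Bool.rec (motive := fun _ => List ℕ) (rw4564) (rw4565) (Nat.ble 4565 i)) (Bool.rec (motive := fun _ => List ℕ) (rw4566) (rw4567) (Nat.ble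 4567 i)) (Nat.ble 4566 i)) (Nat.ble 4564 i)) (Bool.rec (motive := fun _ => List ℕ) (Bool.rec (motive := fun _ => List ℕ) (Bool.rec (motive := fun _ => List ℕ) (rw4568) (rw4569) (Nat.ble 4569 i)) (Bool.rec (motive := fun _ => List ℕ) (rw4570) (rw4571) (Nat.ble 4571 i)) (Nat.ble 4570 i)) (Bool.rec (motive := fun _ => List ℕ) (Bool.rec (motive := fun _ => List ℕ) (rw4572) (rw4573) (Nat.ble 4573 i)) (Bool.rec (motive := fun _ => List ℕ) (rw4574) (rw4575) (Nat.ble 4575 i)) (Nat.ble 4574 i)) (Nat.ble 4572 i)) (Nat.ble 4568 i)) (Nat.ble 4560 i)) (Bool.rec (motive := fun _ => List ℕ) (Bool.rec (motive := fun _ => List ℕ) (Bool.rec (motive := fun _ => List ℕ) (Bool.rec (motive := fun _ => List ℕ) (Bool.rec (motive := fun _ => List ℕ) (rw4576) (rw4577) (Nat.ble 4577 i)) (Bool.rec (motive := fun _ => List ℕ) (rw4578)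 (rw4579) (Nat.ble 4579 i)) (Nat.ble 4578 i)) (Bool.rec (motive := fun _ => List ℕ) (Bool.rec (motive := fun _ => List ℕ) (rw4580) (rw4581) (Nat.ble 4581 i)) (Bool.rec (motive := fun _ => List ℕ) (rw4582) (rw4583) (Nat.ble 4583 i)) (Nat.ble 4582 i)) (Nat.ble 4580 i)) (Bool.rec (motive := fun _ => List ℕ) (Bool.rec (motive := fun _ => List ℕ) (Bool.rec (motive := fun _ => List ℕ) (rw4584) (rw4585) (Nat.ble 4585 i)) (Bool.rec (motive := fun _ => List ℕ) (rw4586) (rw4587) (Nat.ble 4587 i)) (Nat.ble 4586 i)) (Bool.rec (motive := fun _ => List ℕ) (Bool.rec (motive := fun _ => List ℕ) (rw4588) (rw4589) (Nat.ble 4589 i)) (Bool.rec (motive := fun _ => List ℕ) (rw4590) (rw4591) (Nat.ble 4591 i)) (Nat.ble 4590 i)) (Nat.ble 4588 i)) (Nat.ble 4584 i)) (Bool.rec (motive := fun _ => List ℕ) (Bool.rec (motive := fun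 _ => List ℕ) (Bool.rec (motive := fun _ => List ℕ) (Bool.rec (motive := fun _ => List ℕ) (rw4592) (rw4593) (Nat.ble 4593 i)) (Bool.rec (motive := fun _ => List ℕ) (rw4594) (rw4595) (Nat.ble 4595 i)) (Nat.ble 4594 i)) (Bool.rec (motive := fun _ => List ℕ) (Bool.rec (motive := fun _ => List ℕ) (rw4596) (rw4597) (Nat.ble 4597 i)) (Bool.rec (motive := fun _ => List ℕ) (rw4598) (rw4599) (Nat.ble 4599 i)) (Nat.ble 4598 i)) (Nat.ble 4596 i)) (Bool.rec (motive := fun _ => List ℕ) (Bool.rec (motive := fun _ => List ℕ) (Bool.rec (motive := fun _ => List ℕ) (rw4600) (rw4601) (Nat.ble 4601 i)) (Bool.rec (motive := fun _ => List ℕ) (rw4602) (rw4603) (Nat.ble 4603 i)) (Nat.ble 4602 i)) (Bool.rec (motive := fun _ => List ℕ) (Bool.rec (motive := fun _ => List ℕ) (rw4604) (rw4605) (Nat.ble 4605 i)) (Bool.rec (motive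 := fun _ => List ℕ) (rw4606) (rw4607) (Nat.ble 4607 i)) (Nat.ble 4606 i)) (Nat.ble 4604 i)) (Nat.ble 4600 i)) (Nat.ble 4592 i)) (Nat.ble 4576 i)
noncomputable def rwb72 (i : ℕ) : List ℕ := Bool.rec (motive := fun _ => List ℕ) (Bool.rec (motive := fun _ => List ℕ) (Bool.rec (motive := fun _ => List ℕ) (Bool.rec (motive := fun _ => List ℕ) (Bool.rec (motive := fun _ => List ℕ) (Bool.rec (motive := fun _ => List ℕ) (rw4608) (rw4609) (Nat.ble 4609 i)) (Bool.rec (motive := fun _ => List ℕ) (rw4610) (rw4611) (Nat.ble 4611 i)) (Nat.ble 4610 i)) (Bool.rec (motive := fun _ => List ℕ) (Bool.rec (motive := fun _ => List ℕ) (rw4612) (rw4613) (Nat.ble 4613 i)) (Bool.rec (motive := fun _ => List ℕ) (rw4614) (rw4615) (Nat.ble 4615 i)) (Nat.ble 4614 i)) (Nat.ble 4612 i)) (Bool.rec (motive := fun _ => List ℕ) (Bool.rec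 (motive := fun _ => List ℕ) (Bool.rec (motive := fun _ => List ℕ) (rw4616) (rw4617) (Nat.ble 4617 i)) (Bool.rec (motive := fun _ => List ℕ) (rw4618) (rw4619) (Nat.ble 4619 i)) (Nat.ble 4618 i)) (Bool.rec (motive := fun _ => List ℕ) (Bool.rec (motive := fun _ => List ℕ) (rw4620) (rw4621) (Nat.ble 4621 i)) (Bool.rec (motive := fun _ => List ℕ) (rw4622) (rw4623) (Nat.ble 4623 i)) (Nat.ble 4622 i)) (Nat.ble 4620 i)) (Nat.ble 4616 i)) (Bool.rec (motive := fun _ => List ℕ) (Bool.rec (motive := fun _ => List ℕ) (Bool.rec (motive := fun _ => List ℕ) (Bool.rec (motive := fun _ => List ℕ) (rw4624) (rw4625) (Nat.ble 4625 i)) (Bool.rec (motive := fun _ => List ℕ) (rw4626) (rw4627) (Nat.ble 4627 i)) (Nat.ble 4626 i)) (Bool.rec (motive := fun _ => List ℕ) (Bool.rec (motive := fun _ => List ℕ) (rw4628) (rw4629) (Nat.ble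 4629 i)) (Bool.rec (motive := fun _ => List ℕ) (rw4630) (rw4631) (Nat.ble 4631 i)) (Nat.ble 4630 i)) (Nat.ble 4628 i)) (Bool.rec (motive := fun _ => List ℕ) (Bool.rec (motive := fun _ => List ℕ) (Bool.rec (motive := fun _ => List ℕ) (rw4632) (rw4633) (Nat.ble 4633 i)) (Bool.rec (motive := fun _ => List ℕ) (rw4634) (rw4635) (Nat.ble 4635 i)) (Nat.ble 4634 i)) (Bool.rec (motive := fun _ => List ℕ) (Bool.rec (motive := fun _ => List ℕ) (rw4636) (rw4637) (Nat.ble 4637 i)) (Bool.rec (motive := fun _ => List ℕ) (rw4638) (rw4639) (Nat.ble 4639 i)) (Nat.ble 4638 i)) (Nat.ble 4636 i)) (Nat.ble 4632 i)) (Nat.ble 4624 i)) (Bool.rec (motive := fun _ => List ℕ) (Bool.rec (motive := fun _ => List ℕ) (Bool.rec (motive := fun _ => List ℕ) (Bool.rec (motive := fun _ => List ℕ) (Bool.rec (motive := fun _ => List ℕ) (rw4640)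 (rw4641) (Nat.ble 4641 i)) (Bool.rec (motive := fun _ => List ℕ) (rw4642) (rw4643) (Nat.ble 4643 i)) (Nat.ble 4642 i)) (Bool.rec (motive := fun _ => List ℕ) (Bool.rec (motive := fun _ => List ℕ) (rw4644) (rw4645) (Nat.ble 4645 i)) (Bool.rec (motive := fun _ => List ℕ) (rw4646) (rw4647) (Nat.ble 4647 i)) (Nat.ble 4646 i)) (Nat.ble 4644 i)) (Bool.rec (motive := fun _ => List ℕ) (Bool.rec (motive := fun _ => List ℕ) (Bool.rec (motive := fun _ => List ℕ) (rw4648) (rw4649) (Nat.ble 4649 i)) (Bool.rec (motive := fun _ => List ℕ) (rw4650) (rw4651) (Nat.ble 4651 i)) (Nat.ble 4650 i)) (Bool.rec (motive := fun _ => List ℕ) (Bool.rec (motive := fun _ => List ℕ) (rw4652) (rw4653) (Nat.ble 4653 i)) (Bool.rec (motive := fun _ => List ℕ) (rw4654) (rw4655) (Nat.ble 4655 i)) (Nat.ble 4654 i)) (Nat.ble 4652 i)) (Nat.ble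 4648 i)) (Bool.rec (motive := fun _ => List ℕ) (Bool.rec (motive := fun _ => List ℕ) (Bool.rec (motive := fun _ => List ℕ) (Bool.rec (motive := fun _ => List ℕ) (rw4656) (rw4657) (Nat.ble 4657 i)) (Bool.rec (motive := fun _ => List ℕ) (rw4658) (rw4659) (Nat.ble 4659 i)) (Nat.ble 4658 i)) (Bool.rec (motive := fun _ => List ℕ) (Bool.rec (motive := fun _ => List ℕ) (rw4660) (rw4661) (Nat.ble 4661 i)) (Bool.rec (motive := fun _ => List ℕ) (rw4662) (rw4663) (Nat.ble 4663 i)) (Nat.ble 4662 i)) (Nat.ble 4660 i)) (Bool.rec (motive := fun _ => List ℕ) (Bool.rec (motive := fun _ => List ℕ) (Bool.rec (motive := fun _ => List ℕ) (rw4664) (rw4665) (Nat.ble 4665 i)) (Bool.rec (motive := fun _ => List ℕ) (rw4666) (rw4667) (Nat.ble 4667 i)) (Nat.ble 4666 i)) (Bool.rec (motive := fun _ => List ℕ) (Bool.rec (motive :=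 fun _ => List ℕ) (rw4668) (rw4669) (Nat.ble 4669 i)) (Bool.rec (motive := fun _ => List ℕ) (rw4670) (rw4671) (Nat.ble 4671 i)) (Nat.ble 4670 i)) (Nat.ble 4668 i)) (Nat.ble 4664 i)) (Nat.ble 4656 i)) (Nat.ble 4640 i)
noncomputable def rwb73 (i : ℕ) : List ℕ := Bool.rec (motive := fun _ => List ℕ) (Bool.rec (motive := fun _ => List ℕ) (Bool.rec (motive := fun _ => List ℕ) (Bool.rec (motive := fun _ => List ℕ) (Bool.rec (motive := fun _ => List ℕ) (Bool.rec (motive := fun _ => List ℕ) (rw4672) (rw4673) (Nat.ble 4673 i)) (Bool.rec (motive := fun _ => List ℕ) (rw4674) (rw4675) (Nat.ble 4675 i)) (Nat.ble 4674 i)) (Bool.rec (motive := fun _ => List ℕ) (Bool.rec (motive := fun _ => List ℕ) (rw4676) (rw4677) (Nat.ble 4677 i)) (Bool.rec (motive := fun _ => List ℕ) (rw4678) (rw4679) (Nat.ble 4679 i)) (Nat.ble 4678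 i)) (Nat.ble 4676 i)) (Bool.rec (motive := fun _ => List ℕ) (Bool.rec (motive := fun _ => List ℕ) (Bool.rec (motive := fun _ => List ℕ) (rw4680) (rw4681) (Nat.ble 4681 i)) (Bool.rec (motive := fun _ => List ℕ) (rw4682) (rw4683) (Nat.ble 4683 i)) (Nat.ble 4682 i)) (Bool.rec (motive := fun _ => List ℕ) (Bool.rec (motive := fun _ => List ℕ) (rw4684) (rw4685) (Nat.ble 4685 i)) (Bool.rec (motive := fun _ => List ℕ) (rw4686) (rw4687) (Nat.ble 4687 i)) (Nat.ble 4686 i)) (Nat.ble 4684 i)) (Nat.ble 4680 i)) (Bool.rec (motive := fun _ => List ℕ) (Bool.rec (motive := fun _ => List ℕ) (Bool.rec (motive := fun _ => List ℕ) (Bool.rec (motive := fun _ => List ℕ) (rw4688) (rw4689) (Nat.ble 4689 i)) (Bool.rec (motive := fun _ => List ℕ) (rw4690) (rw4691) (Nat.ble 4691 i)) (Nat.ble 4690 i)) (Bool.rec (motive := fun _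 => List ℕ) (Bool.rec (motive := fun _ => List ℕ) (rw4692) (rw4693) (Nat.ble 4693 i)) (Bool.rec (motive := fun _ => List ℕ) (rw4694) (rw4695) (Nat.ble 4695 i)) (Nat.ble 4694 i)) (Nat.ble 4692 i)) (Bool.rec (motive := fun _ => List ℕ) (Bool.rec (motive := fun _ => List ℕ) (Bool.rec (motive := fun _ => List ℕ) (rw4696) (rw4697) (Nat.ble 4697 i)) (Bool.rec (motive := fun _ => List ℕ) (rw4698) (rw4699) (Nat.ble 4699 i)) (Nat.ble 4698 i)) (Bool.rec (motive := fun _ => List ℕ) (Bool.rec (motive := fun _ => List ℕ) (rw4700) (rw4701) (Nat.ble 4701 i)) (Bool.rec (motive := fun _ => List ℕ) (rw4702) (rw4703) (Nat.ble 4703 i)) (Nat.ble 4702 i)) (Nat.ble 4700 i)) (Nat.ble 4696 i)) (Nat.ble 4688 i)) (Bool.rec (motive := fun _ => List ℕ) (Bool.rec (motive := fun _ => List ℕ) (Bool.rec (motive := fun _ => List ℕ) (Bool.rec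 (motive := fun _ => List ℕ) (Bool.rec (motive := fun _ => List ℕ) (rw4704) (rw4705) (Nat.ble 4705 i)) (Bool.rec (motive := fun _ => List ℕ) (rw4706) (rw4707) (Nat.ble 4707 i)) (Nat.ble 4706 i)) (Bool.rec (motive := fun _ => List ℕ) (Bool.rec (motive := fun _ => List ℕ) (rw4708) (rw4709) (Nat.ble 4709 i)) (Bool.rec (motive := fun _ => List ℕ) (rw4710) (rw4711) (Nat.ble 4711 i)) (Nat.ble 4710 i)) (Nat.ble 4708 i)) (Bool.rec (motive := fun _ => List ℕ) (Bool.rec (motive := fun _ => List ℕ) (Bool.rec (motive := fun _ => List ℕ) (rw4712) (rw4713) (Nat.ble 4713 i)) (Bool.rec (motive := fun _ => List ℕ) (rw4714) (rw4715) (Nat.ble 4715 i)) (Nat.ble 4714 i)) (Bool.rec (motive := fun _ => List ℕ) (Bool.rec (motive := fun _ => List ℕ) (rw4716) (rw4717) (Nat.ble 4717 i)) (Bool.rec (motive := fun _ => List ℕ) (rw4718)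 (rw4719) (Nat.ble 4719 i)) (Nat.ble 4718 i)) (Nat.ble 4716 i)) (Nat.ble 4712 i)) (Bool.rec (motive := fun _ => List ℕ) (Bool.rec (motive := fun _ => List ℕ) (Bool.rec (motive := fun _ => List ℕ) (Bool.rec (motive := fun _ => List ℕ) (rw4720) (rw4721) (Nat.ble 4721 i)) (Bool.rec (motive := fun _ => List ℕ) (rw4722) (rw4723) (Nat.ble 4723 i)) (Nat.ble 4722 i)) (Bool.rec (motive := fun _ => List ℕ) (Bool.rec (motive := fun _ => List ℕ) (rw4724) (rw4725) (Nat.ble 4725 i)) (Bool.rec (motive := fun _ => List ℕ) (rw4726) (rw4727) (Nat.ble 4727 i)) (Nat.ble 4726 i)) (Nat.ble 4724 i)) (Bool.rec (motive := fun _ => List ℕ) (Bool.rec (motive := fun _ => List ℕ) (Bool.rec (motive := fun _ => List ℕ) (rw4728) (rw4729) (Nat.ble 4729 i)) (Bool.rec (motive := fun _ => List ℕ) (rw4730) (rw4731) (Nat.ble 4731 i)) (Nat.ble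 4730 i)) (Bool.rec (motive := fun _ => List ℕ) (Bool.rec (motive := fun _ => List ℕ) (rw4732) (rw4733) (Nat.ble 4733 i)) (Bool.rec (motive := fun _ => List ℕ) (rw4734) (rw4735) (Nat.ble 4735 i)) (Nat.ble 4734 i)) (Nat.ble 4732 i)) (Nat.ble 4728 i)) (Nat.ble 4720 i)) (Nat.ble 4704 i)
noncomputable def rwb74 (i : ℕ) : List ℕ := Bool.rec (motive := fun _ => List ℕ) (Bool.rec (motive := fun _ => List ℕ) (Bool.rec (motive := fun _ => List ℕ) (Bool.rec (motive := fun _ => List ℕ) (Bool.rec (motive := fun _ => List ℕ) (Bool.rec (motive := fun _ => List ℕ) (rw4736) (rw4737) (Nat.ble 4737 i)) (Bool.rec (motive := fun _ => List ℕ) (rw4738) (rw4739) (Nat.ble 4739 i)) (Nat.ble 4738 i)) (Bool.rec (motive := fun _ => List ℕ) (Bool.rec (motive := fun _ => List ℕ) (rw4740) (rw4741) (Nat.ble 4741 i)) (Bool.rec (motive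 := fun _ => List ℕ) (rw4742) (rw4743) (Nat.ble 4743 i)) (Nat.ble 4742 i)) (Nat.ble 4740 i)) (Bool.rec (motive := fun _ => List ℕ) (Bool.rec (motive := fun _ => List ℕ) (Bool.rec (motive := fun _ => List ℕ) (rw4744) (rw4745) (Nat.ble 4745 i)) (Bool.rec (motive := fun _ => List ℕ) (rw4746) (rw4747) (Nat.ble 4747 i)) (Nat.ble 4746 i)) (Bool.rec (motive := fun _ => List ℕ) (Bool.rec (motive := fun _ => List ℕ) (rw4748) (rw4749) (Nat.ble 4749 i)) (Bool.rec (motive := fun _ => List ℕ) (rw4750) (rw4751) (Nat.ble 4751 i)) (Nat.ble 4750 i)) (Nat.ble 4748 i)) (Nat.ble 4744 i)) (Bool.rec (motive := fun _ => List ℕ) (Bool.rec (motive := fun _ => List ℕ) (Bool.rec (motive := fun _ => List ℕ) (Bool.rec (motive := fun _ => List ℕ) (rw4752) (rw4753) (Nat.ble 4753 i)) (Bool.rec (motive := fun _ => List ℕ) (rw4754) (rw4755)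 (Nat.ble 4755 i)) (Nat.ble 4754 i)) (Bool.rec (motive := fun _ => List ℕ) (Bool.rec (motive := fun _ => List ℕ) (rw4756) (rw4757) (Nat.ble 4757 i)) (Bool.rec (motive := fun _ => List ℕ) (rw4758) (rw4759) (Nat.ble 4759 i)) (Nat.ble 4758 i)) (Nat.ble 4756 i)) (Bool.rec (motive := fun _ => List ℕ) (Bool.rec (motive := fun _ => List ℕ) (Bool.rec (motive := fun _ => List ℕ) (rw4760) (rw4761) (Nat.ble 4761 i)) (Bool.rec (motive := fun _ => List ℕ) (rw4762) (rw4763) (Nat.ble 4763 i)) (Nat.ble 4762 i)) (Bool.rec (motive := fun _ => List ℕ) (Bool.rec (motive := fun _ => List ℕ) (rw4764) (rw4765) (Nat.ble 4765 i)) (Bool.rec (motive := fun _ => List ℕ) (rw4766) (rw4767) (Nat.ble 4767 i)) (Nat.ble 4766 i)) (Nat.ble 4764 i)) (Nat.ble 4760 i)) (Nat.ble 4752 i)) (Bool.rec (motive := fun _ => List ℕ) (Bool.rec (motive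 := fun _ => List ℕ) (Bool.rec (motive := fun _ => List ℕ) (Bool.rec (motive := fun _ => List ℕ) (Bool.rec (motive := fun _ => List ℕ) (rw4768) (rw4769) (Nat.ble 4769 i)) (Bool.rec (motive := fun _ => List ℕ) (rw4770) (rw4771) (Nat.ble 4771 i)) (Nat.ble 4770 i)) (Bool.rec (motive := fun _ => List ℕ) (Bool.rec (motive := fun _ => List ℕ) (rw4772) (rw4773) (Nat.ble 4773 i)) (Bool.rec (motive := fun _ => List ℕ) (rw4774) (rw4775) (Nat.ble 4775 i)) (Nat.ble 4774 i)) (Nat.ble 4772 i)) (Bool.rec (motive := fun _ => List ℕ) (Bool.rec (motive := fun _ => List ℕ) (Bool.rec (motive := fun _ => List ℕ) (rw4776) (rw4777) (Nat.ble 4777 i)) (Bool.rec (motive := fun _ => List ℕ) (rw4778) (rw4779) (Nat.ble 4779 i)) (Nat.ble 4778 i)) (Bool.rec (motive := fun _ => List ℕ) (Bool.rec (motive := fun _ => List ℕ) (rw4780)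 (rw4781) (Nat.ble 4781 i)) (Bool.rec (motive := fun _ => List ℕ) (rw4782) (rw4783) (Nat.ble 4783 i)) (Nat.ble 4782 i)) (Nat.ble 4780 i)) (Nat.ble 4776 i)) (Bool.rec (motive := fun _ => List ℕ) (Bool.rec (motive := fun _ => List ℕ) (Bool.rec (motive := fun _ => List ℕ) (Bool.rec (motive := fun _ => List ℕ) (rw4784) (rw4785) (Nat.ble 4785 i)) (Bool.rec (motive := fun _ => List ℕ) (rw4786) (rw4787) (Nat.ble 4787 i)) (Nat.ble 4786 i)) (Bool.rec (motive := fun _ => List ℕ) (Bool.rec (motive := fun _ => List ℕ) (rw4788) (rw4789) (Nat.ble 4789 i)) (Bool.rec (motive := fun _ => List ℕ) (rw4790) (rw4791) (Nat.ble 4791 i)) (Nat.ble 4790 i)) (Nat.ble 4788 i)) (Bool.rec (motive := fun _ => List ℕ) (Bool.rec (motive := fun _ => List ℕ) (Bool.rec (motive := fun _ => List ℕ) (rw4792) (rw4793) (Nat.ble 4793 i)) (Bool.rec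 (motive := fun _ => List ℕ) (rw4794) (rw4795) (Nat.ble 4795 i)) (Nat.ble 4794 i)) (Bool.rec (motive := fun _ => List ℕ) (Bool.rec (motive := fun _ => List ℕ) (rw4796) (rw4797) (Nat.ble 4797 i)) (Bool.rec (motive := fun _ => List ℕ) (rw4798) (rw4799) (Nat.ble 4799 i)) (Nat.ble 4798 i)) (Nat.ble 4796 i)) (Nat.ble 4792 i)) (Nat.ble 4784 i)) (Nat.ble 4768 i)
noncomputable def rwb75 (i : ℕ) : List ℕ := Bool.rec (motive := fun _ => List ℕ) (Bool.rec (motive := fun _ => List ℕ) (Bool.rec (motive := fun _ => List ℕ) (Bool.rec (motive := fun _ => List ℕ) (Bool.rec (motive := fun _ => List ℕ) (Bool.rec (motive := fun _ => List ℕ) (rw4800) (rw4801) (Nat.ble 4801 i)) (Bool.rec (motive := fun _ => List ℕ) (rw4802) (rw4803) (Nat.ble 4803 i)) (Nat.ble 4802 i)) (Bool.rec (motive := fun _ => List ℕ) (Bool.rec (motive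 := fun _ => List ℕ) (rw4804) (rw4805) (Nat.ble 4805 i)) (Bool.rec (motive := fun _ => List ℕ) (rw4806) (rw4807) (Nat.ble 4807 i)) (Nat.ble 4806 i)) (Nat.ble 4804 i)) (Bool.rec (motive := fun _ => List ℕ) (Bool.rec (motive := fun _ => List ℕ) (Bool.rec (motive := fun _ => List ℕ) (rw4808) (rw4809) (Nat.ble 4809 i)) (Bool.rec (motive := fun _ => List ℕ) (rw4810) (rw4811) (Nat.ble 4811 i)) (Nat.ble 4810 i)) (Bool.rec (motive := fun _ => List ℕ) (Bool.rec (motive := fun _ => List ℕ) (rw4812) (rw4813) (Nat.ble 4813 i)) (Bool.rec (motive := fun _ => List ℕ) (rw4814) (rw4815) (Nat.ble 4815 i)) (Nat.ble 4814 i)) (Nat.ble 4812 i)) (Nat.ble 4808 i)) (Bool.rec (motive := fun _ => List ℕ) (Bool.rec (motive := fun _ => List ℕ) (Bool.rec (motive := fun _ => List ℕ) (Bool.rec (motive := fun _ => List ℕ) (rw4816) (rw4817)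 (Nat.ble 4817 i)) (Bool.rec (motive := fun _ => List ℕ) (rw4818) (rw4819) (Nat.ble 4819 i)) (Nat.ble 4818 i)) (Bool.rec (motive := fun _ => List ℕ) (Bool.rec (motive := fun _ => List ℕ) (rw4820) (rw4821) (Nat.ble 4821 i)) (Bool.rec (motive := fun _ => List ℕ) (rw4822) (rw4823) (Nat.ble 4823 i)) (Nat.ble 4822 i)) (Nat.ble 4820 i)) (Bool.rec (motive := fun _ => List ℕ) (Bool.rec (motive := fun _ => List ℕ) (Bool.rec (motive := fun _ => List ℕ) (rw4824) (rw4825) (Nat.ble 4825 i)) (Bool.rec (motive := fun _ => List ℕ) (rw4826) (rw4827) (Nat.ble 4827 i)) (Nat.ble 4826 i)) (Bool.rec (motive := fun _ => List ℕ) (Bool.rec (motive := fun _ => List ℕ) (rw4828) (rw4829) (Nat.ble 4829 i)) (Bool.rec (motive := fun _ => List ℕ) (rw4830) (rw4831) (Nat.ble 4831 i)) (Nat.ble 4830 i)) (Nat.ble 4828 i)) (Nat.ble 4824 i))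 (Nat.ble 4816 i)) (Bool.rec (motive := fun _ => List ℕ) (Bool.rec (motive := fun _ => List ℕ) (Bool.rec (motive := fun _ => List ℕ) (Bool.rec (motive := fun _ => List ℕ) (Bool.rec (motive := fun _ => List ℕ) (rw4832) (rw4833) (Nat.ble 4833 i)) (Bool.rec (motive := fun _ => List ℕ) (rw4834) (rw4835) (Nat.ble 4835 i)) (Nat.ble 4834 i)) (Bool.rec (motive := fun _ => List ℕ) (Bool.rec (motive := fun _ => List ℕ) (rw4836) (rw4837) (Nat.ble 4837 i)) (Bool.rec (motive := fun _ => List ℕ) (rw4838) (rw4839) (Nat.ble 4839 i)) (Nat.ble 4838 i)) (Nat.ble 4836 i)) (Bool.rec (motive := fun _ => List ℕ) (Bool.rec (motive := fun _ => List ℕ) (Bool.rec (motive := fun _ => List ℕ) (rw4840) (rw4841) (Nat.ble 4841 i)) (Bool.rec (motive := fun _ => List ℕ) (rw4842) (rw4843) (Nat.ble 4843 i)) (Nat.ble 4842 i)) (Bool.rec (motive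 := fun _ => List ℕ) (Bool.rec (motive := fun _ => List ℕ) (rw4844) (rw4845) (Nat.ble 4845 i)) (Bool.rec (motive := fun _ => List ℕ) (rw4846) (rw4847) (Nat.ble 4847 i)) (Nat.ble 4846 i)) (Nat.ble 4844 i)) (Nat.ble 4840 i)) (Bool.rec (motive := fun _ => List ℕ) (Bool.rec (motive := fun _ => List ℕ) (Bool.rec (motive := fun _ => List ℕ) (Bool.rec (motive := fun _ => List ℕ) (rw4848) (rw4849) (Nat.ble 4849 i)) (Bool.rec (motive := fun _ => List ℕ) (rw4850) (rw4851) (Nat.ble 4851 i)) (Nat.ble 4850 i)) (Bool.rec (motive := fun _ => List ℕ) (Bool.rec (motive := fun _ => List ℕ) (rw4852) (rw4853) (Nat.ble 4853 i)) (Bool.rec (motive := fun _ => List ℕ) (rw4854) (rw4855) (Nat.ble 4855 i)) (Nat.ble 4854 i)) (Nat.ble 4852 i)) (Bool.rec (motive := fun _ => List ℕ) (Bool.rec (motive := fun _ => List ℕ) (Bool.rec (motive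 := fun _ => List ℕ) (rw4856) (rw4857) (Nat.ble 4857 i)) (Bool.rec (motive := fun _ => List ℕ) (rw4858) (rw4859) (Nat.ble 4859 i)) (Nat.ble 4858 i)) (Bool.rec (motive := fun _ => List ℕ) (Bool.rec (motive := fun _ => List ℕ) (rw4860) (rw4861) (Nat.ble 4861 i)) (Bool.rec (motive := fun _ => List ℕ) (rw4862) (rw4863) (Nat.ble 4863 i)) (Nat.ble 4862 i)) (Nat.ble 4860 i)) (Nat.ble 4856 i)) (Nat.ble 4848 i)) (Nat.ble 4832 i)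
noncomputable def rwb76 (i : ℕ) : List ℕ := Bool.rec (motive := fun _ => List ℕ) (Bool.rec (motive := fun _ => List ℕ) (Bool.rec (motive := fun _ => List ℕ) (Bool.rec (motive := fun _ => List ℕ) (Bool.rec (motive := fun _ => List ℕ) (Bool.rec (motive := fun _ => List ℕ) (rw4864) (rw4865) (Nat.ble 4865 i)) (Bool.rec (motive := fun _ => List ℕ) (rw4866) (rw4867) (Nat.ble 4867 i)) (Nat.ble 4866 i)) (Bool.rec (motive := fun _ => List ℕ) (Bool.rec (motive := fun _ => List ℕ) (rw4868) (rw4869) (Nat.ble 4869 i)) (Bool.rec (motive := fun _ => List ℕ) (rw4870) (rw4871) (Nat.ble 4871 i)) (Nat.ble 4870 i)) (Nat.ble 4868 i)) (Bool.rec (motive := fun _ => List ℕ) (Bool.rec (motive := fun _ => List ℕ) (Bool.rec (motive := fun _ => List ℕ) (rw4872) (rw4873) (Nat.ble 4873 i)) (Bool.rec (motive := fun _ => List ℕ) (rw4874)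 (rw4875) (Nat.ble 4875 i)) (Nat.ble 4874 i)) (Bool.rec (motive := fun _ => List ℕ) (Bool.rec (motive := fun _ => List ℕ) (rw4876) (rw4877) (Nat.ble 4877 i)) (Bool.rec (motive := fun _ => List ℕ) (rw4878) (rw4879) (Nat.ble 4879 i)) (Nat.ble 4878 i)) (Nat.ble 4876 i)) (Nat.ble 4872 i)) (Bool.rec (motive := fun _ => List ℕ) (Bool.rec (motive := fun _ => List ℕ) (Bool.rec (motive := fun _ => List ℕ) (Bool.rec (motive := fun _ => List ℕ) (rw4880) (rw4881) (Nat.ble 4881 i)) (Bool.rec (motive := fun _ => List ℕ) (rw4882) (rw4883) (Nat.ble 4883 i)) (Nat.ble 4882 i)) (Bool.rec (motive := fun _ => List ℕ) (Bool.rec (motive := fun _ => List ℕ) (rw4884) (rw4885) (Nat.ble 4885 i)) (Bool.rec (motive := fun _ => List ℕ) (rw4886) (rw4887) (Nat.ble 4887 i)) (Nat.ble 4886 i)) (Nat.ble 4884 i)) (Bool.rec (motive := fun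 _ => List ℕ) (Bool.rec (motive := fun _ => List ℕ) (Bool.rec (motive := fun _ => List ℕ) (rw4888) (rw4889) (Nat.ble 4889 i)) (Bool.rec (motive := fun _ => List ℕ) (rw4890) (rw4891) (Nat.ble 4891 i)) (Nat.ble 4890 i)) (Bool.rec (motive := fun _ => List ℕ) (Bool.rec (motive := fun _ => List ℕ) (rw4892) (rw4893) (Nat.ble 4893 i)) (Bool.rec (motive := fun _ => List ℕ) (rw4894) (rw4895) (Nat.ble 4895 i)) (Nat.ble 4894 i)) (Nat.ble 4892 i)) (Nat.ble 4888 i)) (Nat.ble 4880 i)) (Bool.rec (motive := fun _ => List ℕ) (Bool.rec (motive := fun _ => List ℕ) (Bool.rec (motive := fun _ => List ℕ) (Bool.rec (motive := fun _ => List ℕ) (Bool.rec (motive := fun _ => List ℕ) (rw4896) (rw4897) (Nat.ble 4897 i)) (Bool.rec (motive := fun _ => List ℕ) (rw4898) (rw4899) (Nat.ble 4899 i)) (Nat.ble 4898 i)) (Bool.rec (motive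 := fun _ => List ℕ) (Bool.rec (motive := fun _ => List ℕ) (rw4900) (rw4901) (Nat.ble 4901 i)) (Bool.rec (motive := fun _ => List ℕ) (rw4902) (rw4903) (Nat.ble 4903 i)) (Nat.ble 4902 i)) (Nat.ble 4900 i)) (Bool.rec (motive := fun _ => List ℕ) (Bool.rec (motive := fun _ => List ℕ) (Bool.rec (motive := fun _ => List ℕ) (rw4904) (rw4905) (Nat.ble 4905 i)) (Bool.rec (motive := fun _ => List ℕ) (rw4906) (rw4907) (Nat.ble 4907 i)) (Nat.ble 4906 i)) (Bool.rec (motive := fun _ => List ℕ) (Bool.rec (motive := fun _ => List ℕ) (rw4908) (rw4909) (Nat.ble 4909 i)) (Bool.rec (motive := fun _ => List ℕ) (rw4910) (rw4911) (Nat.ble 4911 i)) (Nat.ble 4910 i)) (Nat.ble 4908 i)) (Nat.ble 4904 i)) (Bool.rec (motive := fun _ => List ℕ) (Bool.rec (motive := fun _ => List ℕ) (Bool.rec (motive := fun _ => List ℕ) (Bool.rec (motive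 := fun _ => List ℕ) (rw4912) (rw4913) (Nat.ble 4913 i)) (Bool.rec (motive := fun _ => List ℕ) (rw4914) (rw4915) (Nat.ble 4915 i)) (Nat.ble 4914 i)) (Bool.rec (motive := fun _ => List ℕ) (Bool.rec (motive := fun _ => List ℕ) (rw4916) (rw4917) (Nat.ble 4917 i)) (Bool.rec (motive := fun _ => List ℕ) (rw4918) (rw4919) (Nat.ble 4919 i)) (Nat.ble 4918 i)) (Nat.ble 4916 i)) (Bool.rec (motive := fun _ => List ℕ) (Bool.rec (motive := fun _ => List ℕ) (Bool.rec (motive := fun _ => List ℕ) (rw4920) (rw4921) (Nat.ble 4921 i)) (Bool.rec (motive := fun _ => List ℕ) (rw4922) (rw4923) (Nat.ble 4923 i)) (Nat.ble 4922 i)) (Bool.rec (motive := fun _ => List ℕ) (Bool.rec (motive := fun _ => List ℕ) (rw4924) (rw4925) (Nat.ble 4925 i)) (Bool.rec (motive := fun _ => List ℕ) (rw4926) (rw4927) (Nat.ble 4927 i)) (Nat.ble 4926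 i)) (Nat.ble 4924 i)) (Nat.ble 4920 i)) (Nat.ble 4912 i)) (Nat.ble 4896 i)
noncomputable def rwb77 (i : ℕ) : List ℕ := Bool.rec (motive := fun _ => List ℕ) (Bool.rec (motive := fun _ => List ℕ) (Bool.rec (motive := fun _ => List ℕ) (Bool.rec (motive := fun _ => List ℕ) (Bool.rec (motive := fun _ => List ℕ) (Bool.rec (motive := fun _ => List ℕ) (rw4928) (rw4929) (Nat.ble 4929 i)) (Bool.rec (motive := fun _ => List ℕ) (rw4930) (rw4931) (Nat.ble 4931 i)) (Nat.ble 4930 i)) (Bool.rec (motive := fun _ => List ℕ) (Bool.rec (motive := fun _ => List ℕ) (rw4932) (rw4933) (Nat.ble 4933 i)) (Bool.rec (motive := fun _ => List ℕ) (rw4934) (rw4935) (Nat.ble 4935 i)) (Nat.ble 4934 i)) (Nat.ble 4932 i)) (Bool.rec (motive := fun _ => List ℕ) (Bool.rec (motive := fun _ => List ℕ) (Bool.rec (motive := fun _ => List ℕ) (rw4936)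 (rw4937) (Nat.ble 4937 i)) (Bool.rec (motive := fun _ => List ℕ) (rw4938) (rw4939) (Nat.ble 4939 i)) (Nat.ble 4938 i)) (Bool.rec (motive := fun _ => List ℕ) (Bool.rec (motive := fun _ => List ℕ) (rw4940) (rw4941) (Nat.ble 4941 i)) (Bool.rec (motive := fun _ => List ℕ) (rw4942) (rw4943) (Nat.ble 4943 i)) (Nat.ble 4942 i)) (Nat.ble 4940 i)) (Nat.ble 4936 i)) (Bool.rec (motive := fun _ => List ℕ) (Bool.rec (motive := fun _ => List ℕ) (Bool.rec (motive := fun _ => List ℕ) (Bool.rec (motive := fun _ => List ℕ) (rw4944) (rw4945) (Nat.ble 4945 i)) (Bool.rec (motive := fun _ => List ℕ) (rw4946) (rw4947) (Nat.ble 4947 i)) (Nat.ble 4946 i)) (Bool.rec (motive := fun _ => List ℕ) (Bool.rec (motive := fun _ => List ℕ) (rw4948) (rw4949) (Nat.ble 4949 i)) (Bool.rec (motive := fun _ => List ℕ) (rw4950) (rw4951) (Nat.ble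 4951 i)) (Nat.ble 4950 i)) (Nat.ble 4948 i)) (Bool.rec (motive := fun _ => List ℕ) (Bool.rec (motive := fun _ => List ℕ) (Bool.rec (motive := fun _ => List ℕ) (rw4952) (rw4953) (Nat.ble 4953 i)) (Bool.rec (motive := fun _ => List ℕ) (rw4954) (rw4955) (Nat.ble 4955 i)) (Nat.ble 4954 i)) (Bool.rec (motive := fun _ => List ℕ) (Bool.rec (motive := fun _ => List ℕ) (rw4956) (rw4957) (Nat.ble 4957 i)) (Bool.rec (motive := fun _ => List ℕ) (rw4958) (rw4959) (Nat.ble 4959 i)) (Nat.ble 4958 i)) (Nat.ble 4956 i)) (Nat.ble 4952 i)) (Nat.ble 4944 i)) (Bool.rec (motive := fun _ => List ℕ) (Bool.rec (motive := fun _ => List ℕ) (Bool.rec (motive := fun _ => List ℕ) (Bool.rec (motive := fun _ => List ℕ) (Bool.rec (motive := fun _ => List ℕ) (rw4960) (rw4961) (Nat.ble 4961 i)) (Bool.rec (motive := fun _ => List ℕ) (rw4962)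 (rw4963) (Nat.ble 4963 i)) (Nat.ble 4962 i)) (Bool.rec (motive := fun _ => List ℕ) (Bool.rec (motive := fun _ => List ℕ) (rw4964) (rw4965) (Nat.ble 4965 i)) (Bool.rec (motive := fun _ => List ℕ) (rw4966) (rw4967) (Nat.ble 4967 i)) (Nat.ble 4966 i)) (Nat.ble 4964 i)) (Bool.rec (motive := fun _ => List ℕ) (Bool.rec (motive := fun _ => List ℕ) (Bool.rec (motive := fun _ => List ℕ) (rw4968) (rw4969) (Nat.ble 4969 i)) (Bool.rec (motive := fun _ => List ℕ) (rw4970) (rw4971) (Nat.ble 4971 i)) (Nat.ble 4970 i)) (Bool.rec (motive := fun _ => List ℕ) (Bool.rec (motive := fun _ => List ℕ) (rw4972) (rw4973) (Nat.ble 4973 i)) (Bool.rec (motive := fun _ => List ℕ) (rw4974) (rw4975) (Nat.ble 4975 i)) (Nat.ble 4974 i)) (Nat.ble 4972 i)) (Nat.ble 4968 i)) (Bool.rec (motive := fun _ => List ℕ) (Bool.rec (motive := fun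 _ => List ℕ) (Bool.rec (motive := fun _ => List ℕ) (Bool.rec (motive := fun _ => List ℕ) (rw4976) (rw4977) (Nat.ble 4977 i)) (Bool.rec (motive := fun _ => List ℕ) (rw4978) (rw4979) (Nat.ble 4979 i)) (Nat.ble 4978 i)) (Bool.rec (motive := fun _ => List ℕ) (Bool.rec (motive := fun _ => List ℕ) (rw4980) (rw4981) (Nat.ble 4981 i)) (Bool.rec (motive := fun _ => List ℕ) (rw4982) (rw4983) (Nat.ble 4983 i)) (Nat.ble 4982 i)) (Nat.ble 4980 i)) (Bool.rec (motive := fun _ => List ℕ) (Bool.rec (motive := fun _ => List ℕ) (Bool.rec (motive := fun _ => List ℕ) (rw4984) (rw4985) (Nat.ble 4985 i)) (Bool.rec (motive := fun _ => List ℕ) (rw4986) (rw4987) (Nat.ble 4987 i)) (Nat.ble 4986 i)) (Bool.rec (motive := fun _ => List ℕ) (Bool.rec (motive := fun _ => List ℕ) (rw4988) (rw4989) (Nat.ble 4989 i)) (Bool.rec (motive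 := fun _ => List ℕ) (rw4990) (rw4991) (Nat.ble 4991 i)) (Nat.ble 4990 i)) (Nat.ble 4988 i)) (Nat.ble 4984 i)) (Nat.ble 4976 i)) (Nat.ble 4960 i)
noncomputable def rwb78 (i : ℕ) : List ℕ := Bool.rec (motive := fun _ => List ℕ) (Bool.rec (motive := fun _ => List ℕ) (Bool.rec (motive := fun _ => List ℕ) (Bool.rec (motive := fun _ => List ℕ) (Bool.rec (motive := fun _ => List ℕ) (Bool.rec (motive := fun _ => List ℕ) (rw4992) (rw4993) (Nat.ble 4993 i)) (Bool.rec (motive := fun _ => List ℕ) (rw4994) (rw4995) (Nat.ble 4995 i)) (Nat.ble 4994 i)) (Bool.rec (motive := fun _ => List ℕ) (Bool.rec (motive := fun _ => List ℕ) (rw4996) (rw4997) (Nat.ble 4997 i)) (Bool.rec (motive := fun _ => List ℕ) (rw4998) (rw4999) (Nat.ble 4999 i)) (Nat.ble 4998 i)) (Nat.ble 4996 i)) (Bool.rec (motive := fun _ => List ℕ) (Bool.rec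 (motive := fun _ => List ℕ) (Bool.rec (motive := fun _ => List ℕ) (rw5000) (rw5001) (Nat.ble 5001 i)) (Bool.rec (motive := fun _ => List ℕ) (rw5002) (rw5003) (Nat.ble 5003 i)) (Nat.ble 5002 i)) (Bool.rec (motive := fun _ => List ℕ) (Bool.rec (motive := fun _ => List ℕ) (rw5004) (rw5005) (Nat.ble 5005 i)) (Bool.rec (motive := fun _ => List ℕ) (rw5006) (rw5007) (Nat.ble 5007 i)) (Nat.ble 5006 i)) (Nat.ble 5004 i)) (Nat.ble 5000 i)) (Bool.rec (motive := fun _ => List ℕ) (Bool.rec (motive := fun _ => List ℕ) (Bool.rec (motive := fun _ => List ℕ) (Bool.rec (motive := fun _ => List ℕ) (rw5008) (rw5009) (Nat.ble 5009 i)) (Bool.rec (motive := fun _ => List ℕ) (rw5010) (rw5011) (Nat.ble 5011 i)) (Nat.ble 5010 i)) (Bool.rec (motive := fun _ => List ℕ) (Bool.rec (motive := fun _ => List ℕ) (rw5012) (rw5013) (Nat.ble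 5013 i)) (Bool.rec (motive := fun _ => List ℕ) (rw5014) (rw5015) (Nat.ble 5015 i)) (Nat.ble 5014 i)) (Nat.ble 5012 i)) (Bool.rec (motive := fun _ => List ℕ) (Bool.rec (motive := fun _ => List ℕ) (Bool.rec (motive := fun _ => List ℕ) (rw5016) (rw5017) (Nat.ble 5017 i)) (Bool.rec (motive := fun _ => List ℕ) (rw5018) (rw5019) (Nat.ble 5019 i)) (Nat.ble 5018 i)) (Bool.rec (motive := fun _ => List ℕ) (Bool.rec (motive := fun _ => List ℕ) (rw5020) (rw5021) (Nat.ble 5021 i)) (Bool.rec (motive := fun _ => List ℕ) (rw5022) (rw5023) (Nat.ble 5023 i)) (Nat.ble 5022 i)) (Nat.ble 5020 i)) (Nat.ble 5016 i)) (Nat.ble 5008 i)) (Bool.rec (motive := fun _ => List ℕ) (Bool.rec (motive := fun _ => List ℕ) (Bool.rec (motive := fun _ => List ℕ) (Bool.rec (motive := fun _ => List ℕ) (Bool.rec (motive := fun _ => List ℕ) (rw5024)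 (rw5025) (Nat.ble 5025 i)) (Bool.rec (motive := fun _ => List ℕ) (rw5026) (rw5027) (Nat.ble 5027 i)) (Nat.ble 5026 i)) (Bool.rec (motive := fun _ => List ℕ) (Bool.rec (motive := fun _ => List ℕ) (rw5028) (rw5029) (Nat.ble 5029 i)) (Bool.rec (motive := fun _ => List ℕ) (rw5030) (rw5031) (Nat.ble 5031 i)) (Nat.ble 5030 i)) (Nat.ble 5028 i)) (Bool.rec (motive := fun _ => List ℕ) (Bool.rec (motive := fun _ => List ℕ) (Bool.rec (motive := fun _ => List ℕ) (rw5032) (rw5033) (Nat.ble 5033 i)) (Bool.rec (motive := fun _ => List ℕ) (rw5034) (rw5035) (Nat.ble 5035 i)) (Nat.ble 5034 i)) (Bool.rec (motive := fun _ => List ℕ) (Bool.rec (motive := fun _ => List ℕ) (rw5036) (rw5037) (Nat.ble 5037 i)) (Bool.rec (motive := fun _ => List ℕ) (rw5038) (rw5039) (Nat.ble 5039 i)) (Nat.ble 5038 i)) (Nat.ble 5036 i)) (Nat.ble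 5032 i)) (Bool.rec (motive := fun _ => List ℕ) (Bool.rec (motive := fun _ => List ℕ) (Bool.rec (motive := fun _ => List ℕ) (Bool.rec (motive := fun _ => List ℕ) (rw5040) (rw5041) (Nat.ble 5041 i)) (Bool.rec (motive := fun _ => List ℕ) (rw5042) (rw5043) (Nat.ble 5043 i)) (Nat.ble 5042 i)) (Bool.rec (motive := fun _ => List ℕ) (Bool.rec (motive := fun _ => List ℕ) (rw5044) (rw5045) (Nat.ble 5045 i)) (Bool.rec (motive := fun _ => List ℕ) (rw5046) (rw5047) (Nat.ble 5047 i)) (Nat.ble 5046 i)) (Nat.ble 5044 i)) (Bool.rec (motive := fun _ => List ℕ) (Bool.rec (motive := fun _ => List ℕ) (Bool.rec (motive := fun _ => List ℕ) (rw5048) (rw5049) (Nat.ble 5049 i)) (Bool.rec (motive := fun _ => List ℕ) (rw5050) (rw5051) (Nat.ble 5051 i)) (Nat.ble 5050 i)) (Bool.rec (motive := fun _ => List ℕ) (Bool.rec (motive :=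 fun _ => List ℕ) (rw5052) (rw5053) (Nat.ble 5053 i)) (Bool.rec (motive := fun _ => List ℕ) (rw5054) (rw5055) (Nat.ble 5055 i)) (Nat.ble 5054 i)) (Nat.ble 5052 i)) (Nat.ble 5048 i)) (Nat.ble 5040 i)) (Nat.ble 5024 i)
noncomputable def rwb79 (i : ℕ) : List ℕ := Bool.rec (motive := fun _ => List ℕ) (Bool.rec (motive := fun _ => List ℕ) (Bool.rec (motive := fun _ => List ℕ) (Bool.rec (motive := fun _ => List ℕ) (Bool.rec (motive := fun _ => List ℕ) (Bool.rec (motive := fun _ => List ℕ) (rw5056) (rw5057) (Nat.ble 5057 i)) (Bool.rec (motive := fun _ => List ℕ) (rw5058) (rw5059) (Nat.ble 5059 i)) (Nat.ble 5058 i)) (Bool.rec (motive := fun _ => List ℕ) (Bool.rec (motive := fun _ => List ℕ) (rw5060) (rw5061) (Nat.ble 5061 i)) (Bool.rec (motive := fun _ => List ℕ) (rw5062) (rw5063) (Nat.ble 5063 i)) (Nat.ble 5062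 i)) (Nat.ble 5060 i)) (Bool.rec (motive := fun _ => List ℕ) (Bool.rec (motive := fun _ => List ℕ) (Bool.rec (motive := fun _ => List ℕ) (rw5064) (rw5065) (Nat.ble 5065 i)) (Bool.rec (motive := fun _ => List ℕ) (rw5066) (rw5067) (Nat.ble 5067 i)) (Nat.ble 5066 i)) (Bool.rec (motive := fun _ => List ℕ) (Bool.rec (motive := fun _ => List ℕ) (rw5068) (rw5069) (Nat.ble 5069 i)) (Bool.rec (motive := fun _ => List ℕ) (rw5070) (rw5071) (Nat.ble 5071 i)) (Nat.ble 5070 i)) (Nat.ble 5068 i)) (Nat.ble 5064 i)) (Bool.rec (motive := fun _ => List ℕ) (Bool.rec (motive := fun _ => List ℕ) (Bool.rec (motive := fun _ => List ℕ) (Bool.rec (motive := fun _ => List ℕ) (rw5072) (rw5073) (Nat.ble 5073 i)) (Bool.rec (motive := fun _ => List ℕ) (rw5074) (rw5075) (Nat.ble 5075 i)) (Nat.ble 5074 i)) (Bool.rec (motive := fun _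 => List ℕ) (Bool.rec (motive := fun _ => List ℕ) (rw5076) (rw5077) (Nat.ble 5077 i)) (Bool.rec (motive := fun _ => List ℕ) (rw5078) (rw5079) (Nat.ble 5079 i)) (Nat.ble 5078 i)) (Nat.ble 5076 i)) (Bool.rec (motive := fun _ => List ℕ) (Bool.rec (motive := fun _ => List ℕ) (Bool.rec (motive := fun _ => List ℕ) (rw5080) (rw5081) (Nat.ble 5081 i)) (Bool.rec (motive := fun _ => List ℕ) (rw5082) (rw5083) (Nat.ble 5083 i)) (Nat.ble 5082 i)) (Bool.rec (motive := fun _ => List ℕ) (Bool.rec (motive := fun _ => List ℕ) (rw5084) (rw5085) (Nat.ble 5085 i)) (Bool.rec (motive := fun _ => List ℕ) (rw5086) (rw5087) (Nat.ble 5087 i)) (Nat.ble 5086 i)) (Nat.ble 5084 i)) (Nat.ble 5080 i)) (Nat.ble 5072 i)) (Bool.rec (motive := fun _ => List ℕ) (Bool.rec (motive := fun _ => List ℕ) (Bool.rec (motive := fun _ => List ℕ) (Bool.rec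 (motive := fun _ => List ℕ) (Bool.rec (motive := fun _ => List ℕ) (rw5088) (rw5089) (Nat.ble 5089 i)) (Bool.rec (motive := fun _ => List ℕ) (rw5090) (rw5091) (Nat.ble 5091 i)) (Nat.ble 5090 i)) (Bool.rec (motive := fun _ => List ℕ) (Bool.rec (motive := fun _ => List ℕ) (rw5092) (rw5093) (Nat.ble 5093 i)) (Bool.rec (motive := fun _ => List ℕ) (rw5094) (rw5095) (Nat.ble 5095 i)) (Nat.ble 5094 i)) (Nat.ble 5092 i)) (Bool.rec (motive := fun _ => List ℕ) (Bool.rec (motive := fun _ => List ℕ) (Bool.rec (motive := fun _ => List ℕ) (rw5096) (rw5097) (Nat.ble 5097 i)) (Bool.rec (motive := fun _ => List ℕ) (rw5098) (rw5099) (Nat.ble 5099 i)) (Nat.ble 5098 i)) (Bool.rec (motive := fun _ => List ℕ) (Bool.rec (motive := fun _ => List ℕ) (rw5100) (rw5101) (Nat.ble 5101 i)) (Bool.rec (motive := fun _ => List ℕ) (rw5102)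 (rw5103) (Nat.ble 5103 i)) (Nat.ble 5102 i)) (Nat.ble 5100 i)) (Nat.ble 5096 i)) (Bool.rec (motive := fun _ => List ℕ) (Bool.rec (motive := fun _ => List ℕ) (Bool.rec (motive := fun _ => List ℕ) (Bool.rec (motive := fun _ => List ℕ) (rw5104) (rw5105) (Nat.ble 5105 i)) (Bool.rec (motive := fun _ => List ℕ) (rw5106) (rw5107) (Nat.ble 5107 i)) (Nat.ble 5106 i)) (Bool.rec (motive := fun _ => List ℕ) (Bool.rec (motive := fun _ => List ℕ) (rw5108) (rw5109) (Nat.ble 5109 i)) (Bool.rec (motive := fun _ => List ℕ) (rw5110) (rw5111) (Nat.ble 5111 i)) (Nat.ble 5110 i)) (Nat.ble 5108 i)) (Bool.rec (motive := fun _ => List ℕ) (Bool.rec (motive := fun _ => List ℕ) (Bool.rec (motive := fun _ => List ℕ) (rw5112) (rw5113) (Nat.ble 5113 i)) (Bool.rec (motive := fun _ => List ℕ) (rw5114) (rw5115) (Nat.ble 5115 i)) (Nat.ble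 5114 i)) (Bool.rec (motive := fun _ => List ℕ) (Bool.rec (motive := fun _ => List ℕ) (rw5116) (rw5117) (Nat.ble 5117 i)) (Bool.rec (motive := fun _ => List ℕ) (rw5118) (rw5119) (Nat.ble 5119 i)) (Nat.ble 5118 i)) (Nat.ble 5116 i)) (Nat.ble 5112 i)) (Nat.ble 5104 i)) (Nat.ble 5088 i)
noncomputable def rwb80 (i : ℕ) : List ℕ := Bool.rec (motive := fun _ => List ℕ) (Bool.rec (motive := fun _ => List ℕ) (Bool.rec (motive := fun _ => List ℕ) (Bool.rec (motive := fun _ => List ℕ) (Bool.rec (motive := fun _ => List ℕ) (Bool.rec (motive := fun _ => List ℕ) (rw5120) (rw5121) (Nat.ble 5121 i)) (Bool.rec (motive := fun _ => List ℕ) (rw5122) (rw5123) (Nat.ble 5123 i)) (Nat.ble 5122 i)) (Bool.rec (motive := fun _ => List ℕ) (Bool.rec (motive := fun _ => List ℕ) (rw5124) (rw5125) (Nat.ble 5125 i)) (Bool.rec (motive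 := fun _ => List ℕ) (rw5126) (rw5127) (Nat.ble 5127 i)) (Nat.ble 5126 i)) (Nat.ble 5124 i)) (Bool.rec (motive := fun _ => List ℕ) (Bool.rec (motive := fun _ => List ℕ) (Bool.rec (motive := fun _ => List ℕ) (rw5128) (rw5129) (Nat.ble 5129 i)) (Bool.rec (motive := fun _ => List ℕ) (rw5130) (rw5131) (Nat.ble 5131 i)) (Nat.ble 5130 i)) (Bool.rec (motive := fun _ => List ℕ) (Bool.rec (motive := fun _ => List ℕ) (rw5132) (rw5133) (Nat.ble 5133 i)) (Bool.rec (motive := fun _ => List ℕ) (rw5134) (rw5135) (Nat.ble 5135 i)) (Nat.ble 5134 i)) (Nat.ble 5132 i)) (Nat.ble 5128 i)) (Bool.rec (motive := fun _ => List ℕ) (Bool.rec (motive := fun _ => List ℕ) (Bool.rec (motive := fun _ => List ℕ) (Bool.rec (motive := fun _ => List ℕ) (rw5136) (rw5137) (Nat.ble 5137 i)) (Bool.rec (motive := fun _ => List ℕ) (rw5138) (rw5139)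 (Nat.ble 5139 i)) (Nat.ble 5138 i)) (Bool.rec (motive := fun _ => List ℕ) (Bool.rec (motive := fun _ => List ℕ) (rw5140) (rw5141) (Nat.ble 5141 i)) (Bool.rec (motive := fun _ => List ℕ) (rw5142) (rw5143) (Nat.ble 5143 i)) (Nat.ble 5142 i)) (Nat.ble 5140 i)) (Bool.rec (motive := fun _ => List ℕ) (Bool.rec (motive := fun _ => List ℕ) (Bool.rec (motive := fun _ => List ℕ) (rw5144) (rw5145) (Nat.ble 5145 i)) (Bool.rec (motive := fun _ => List ℕ) (rw5146) (rw5147) (Nat.ble 5147 i)) (Nat.ble 5146 i)) (Bool.rec (motive := fun _ => List ℕ) (Bool.rec (motive := fun _ => List ℕ) (rw5148) (rw5149) (Nat.ble 5149 i)) (Bool.rec (motive := fun _ => List ℕ) (rw5150) (rw5151) (Nat.ble 5151 i)) (Nat.ble 5150 i)) (Nat.ble 5148 i)) (Nat.ble 5144 i)) (Nat.ble 5136 i)) (Bool.rec (motive := fun _ => List ℕ) (Bool.rec (motive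 := fun _ => List ℕ) (Bool.rec (motive := fun _ => List ℕ) (Bool.rec (motive := fun _ => List ℕ) (Bool.rec (motive := fun _ => List ℕ) (rw5152) (rw5153) (Nat.ble 5153 i)) (Bool.rec (motive := fun _ => List ℕ) (rw5154) (rw5155) (Nat.ble 5155 i)) (Nat.ble 5154 i)) (Bool.rec (motive := fun _ => List ℕ) (Bool.rec (motive := fun _ => List ℕ) (rw5156) (rw5157) (Nat.ble 5157 i)) (Bool.rec (motive := fun _ => List ℕ) (rw5158) (rw5159) (Nat.ble 5159 i)) (Nat.ble 5158 i)) (Nat.ble 5156 i)) (Bool.rec (motive := fun _ => List ℕ) (Bool.rec (motive := fun _ => List ℕ) (Bool.rec (motive := fun _ => List ℕ) (rw5160) (rw5161) (Nat.ble 5161 i)) (Bool.rec (motive := fun _ => List ℕ) (rw5162) (rw5163) (Nat.ble 5163 i)) (Nat.ble 5162 i)) (Bool.rec (motive := fun _ => List ℕ) (Bool.rec (motive := fun _ => List ℕ) (rw5164)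 (rw5165) (Nat.ble 5165 i)) (Bool.rec (motive := fun _ => List ℕ) (rw5166) (rw5167) (Nat.ble 5167 i)) (Nat.ble 5166 i)) (Nat.ble 5164 i)) (Nat.ble 5160 i)) (Bool.rec (motive := fun _ => List ℕ) (Bool.rec (motive := fun _ => List ℕ) (Bool.rec (motive := fun _ => List ℕ) (Bool.rec (motive := fun _ => List ℕ) (rw5168) (rw5169) (Nat.ble 5169 i)) (Bool.rec (motive := fun _ => List ℕ) (rw5170) (rw5171) (Nat.ble 5171 i)) (Nat.ble 5170 i)) (Bool.rec (motive := fun _ => List ℕ) (Bool.rec (motive := fun _ => List ℕ) (rw5172) (rw5173) (Nat.ble 5173 i)) (Bool.rec (motive := fun _ => List ℕ) (rw5174) (rw5175) (Nat.ble 5175 i)) (Nat.ble 5174 i)) (Nat.ble 5172 i)) (Bool.rec (motive := fun _ => List ℕ) (Bool.rec (motive := fun _ => List ℕ) (Bool.rec (motive := fun _ => List ℕ) (rw5176) (rw5177) (Nat.ble 5177 i)) (Bool.rec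 (motive := fun _ => List ℕ) (rw5178) (rw5179) (Nat.ble 5179 i)) (Nat.ble 5178 i)) (Bool.rec (motive := fun _ => List ℕ) (Bool.rec (motive := fun _ => List ℕ) (rw5180) (rw5181) (Nat.ble 5181 i)) (Bool.rec (motive := fun _ => List ℕ) (rw5182) (rw5183) (Nat.ble 5183 i)) (Nat.ble 5182 i)) (Nat.ble 5180 i)) (Nat.ble 5176 i)) (Nat.ble 5168 i)) (Nat.ble 5152 i)
noncomputable def rwb81 (i : ℕ) : List ℕ := Bool.rec (motive := fun _ => List ℕ) (Bool.rec (motive := fun _ => List ℕ) (Bool.rec (motive := fun _ => List ℕ) (Bool.rec (motive := fun _ => List ℕ) (Bool.rec (motive := fun _ => List ℕ) (Bool.rec (motive := fun _ => List ℕ) (rw5184) (rw5185) (Nat.ble 5185 i)) (Bool.rec (motive := fun _ => List ℕ) (rw5186) (rw5187) (Nat.ble 5187 i)) (Nat.ble 5186 i)) (Bool.rec (motive := fun _ => List ℕ) (Bool.rec (motive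 := fun _ => List ℕ) (rw5188) (rw5189) (Nat.ble 5189 i)) (Bool.rec (motive := fun _ => List ℕ) (rw5190) (rw5191) (Nat.ble 5191 i)) (Nat.ble 5190 i)) (Nat.ble 5188 i)) (Bool.rec (motive := fun _ => List ℕ) (Bool.rec (motive := fun _ => List ℕ) (Bool.rec (motive := fun _ => List ℕ) (rw5192) (rw5193) (Nat.ble 5193 i)) (Bool.rec (motive := fun _ => List ℕ) (rw5194) (rw5195) (Nat.ble 5195 i)) (Nat.ble 5194 i)) (Bool.rec (motive := fun _ => List ℕ) (Bool.rec (motive := fun _ => List ℕ) (rw5196) (rw5197) (Nat.ble 5197 i)) (Bool.rec (motive := fun _ => List ℕ) (rw5198) (rw5199) (Nat.ble 5199 i)) (Nat.ble 5198 i)) (Nat.ble 5196 i)) (Nat.ble 5192 i)) (Bool.rec (motive := fun _ => List ℕ) (Bool.rec (motive := fun _ => List ℕ) (Bool.rec (motive := fun _ => List ℕ) (Bool.rec (motive := fun _ => List ℕ) (rw5200) (rw5201)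 (Nat.ble 5201 i)) (Bool.rec (motive := fun _ => List ℕ) (rw5202) (rw5203) (Nat.ble 5203 i)) (Nat.ble 5202 i)) (Bool.rec (motive := fun _ => List ℕ) (Bool.rec (motive := fun _ => List ℕ) (rw5204) (rw5205) (Nat.ble 5205 i)) (Bool.rec (motive := fun _ => List ℕ) (rw5206) (rw5207) (Nat.ble 5207 i)) (Nat.ble 5206 i)) (Nat.ble 5204 i)) (Bool.rec (motive := fun _ => List ℕ) (Bool.rec (motive := fun _ => List ℕ) (Bool.rec (motive := fun _ => List ℕ) (rw5208) (rw5209) (Nat.ble 5209 i)) (Bool.rec (motive := fun _ => List ℕ) (rw5210) (rw5211) (Nat.ble 5211 i)) (Nat.ble 5210 i)) (Bool.rec (motive := fun _ => List ℕ) (Bool.rec (motive := fun _ => List ℕ) (rw5212) (rw5213) (Nat.ble 5213 i)) (Bool.rec (motive := fun _ => List ℕ) (rw5214) (rw5215) (Nat.ble 5215 i)) (Nat.ble 5214 i)) (Nat.ble 5212 i)) (Nat.ble 5208 i))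 (Nat.ble 5200 i)) (Bool.rec (motive := fun _ => List ℕ) (Bool.rec (motive := fun _ => List ℕ) (Bool.rec (motive := fun _ => List ℕ) (Bool.rec (motive := fun _ => List ℕ) (Bool.rec (motive := fun _ => List ℕ) (rw5216) (rw5217) (Nat.ble 5217 i)) (Bool.rec (motive := fun _ => List ℕ) (rw5218) (rw5219) (Nat.ble 5219 i)) (Nat.ble 5218 i)) (Bool.rec (motive := fun _ => List ℕ) (Bool.rec (motive := fun _ => List ℕ) (rw5220) (rw5221) (Nat.ble 5221 i)) (Bool.rec (motive := fun _ => List ℕ) (rw5222) (rw5223) (Nat.ble 5223 i)) (Nat.ble 5222 i)) (Nat.ble 5220 i)) (Bool.rec (motive := fun _ => List ℕ) (Bool.rec (motive := fun _ => List ℕ) (Bool.rec (motive := fun _ => List ℕ) (rw5224) (rw5225) (Nat.ble 5225 i)) (Bool.rec (motive := fun _ => List ℕ) (rw5226) (rw5227) (Nat.ble 5227 i)) (Nat.ble 5226 i)) (Bool.rec (motive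 := fun _ => List ℕ) (Bool.rec (motive := fun _ => List ℕ) (rw5228) (rw5229) (Nat.ble 5229 i)) (Bool.rec (motive := fun _ => List ℕ) (rw5230) (rw5231) (Nat.ble 5231 i)) (Nat.ble 5230 i)) (Nat.ble 5228 i)) (Nat.ble 5224 i)) (Bool.rec (motive := fun _ => List ℕ) (Bool.rec (motive := fun _ => List ℕ) (Bool.rec (motive := fun _ => List ℕ) (Bool.rec (motive := fun _ => List ℕ) (rw5232) (rw5233) (Nat.ble 5233 i)) (Bool.rec (motive := fun _ => List ℕ) (rw5234) (rw5235) (Nat.ble 5235 i)) (Nat.ble 5234 i)) (Bool.rec (motive := fun _ => List ℕ) (Bool.rec (motive := fun _ => List ℕ) (rw5236) (rw5237) (Nat.ble 5237 i)) (Bool.rec (motive := fun _ => List ℕ) (rw5238) (rw5239) (Nat.ble 5239 i)) (Nat.ble 5238 i)) (Nat.ble 5236 i)) (Bool.rec (motive := fun _ => List ℕ) (Bool.rec (motive := fun _ => List ℕ) (Bool.rec (motive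 := fun _ => List ℕ) (rw5240) (rw5241) (Nat.ble 5241 i)) (Bool.rec (motive := fun _ => List ℕ) (rw5242) (rw5243) (Nat.ble 5243 i)) (Nat.ble 5242 i)) (Bool.rec (motive := fun _ => List ℕ) (Bool.rec (motive := fun _ => List ℕ) (rw5244) (rw5245) (Nat.ble 5245 i)) (Bool.rec (motive := fun _ => List ℕ) (rw5246) (rw5247) (Nat.ble 5247 i)) (Nat.ble 5246 i)) (Nat.ble 5244 i)) (Nat.ble 5240 i)) (Nat.ble 5232 i)) (Nat.ble 5216 i)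
noncomputable def rwb82 (i : ℕ) : List ℕ := Bool.rec (motive := fun _ => List ℕ) (Bool.rec (motive := fun _ => List ℕ) (Bool.rec (motive := fun _ => List ℕ) (Bool.rec (motive := fun _ => List ℕ) (Bool.rec (motive := fun _ => List ℕ) (Bool.rec (motive := fun _ => List ℕ) (rw5248) (rw5249) (Nat.ble 5249 i)) (Bool.rec (motive := fun _ => List ℕ) (rw5250) (rw5251) (Nat.ble 5251 i)) (Nat.ble 5250 i)) (Bool.rec (motive := fun _ => List ℕ) (Bool.rec (motive := fun _ => List ℕ) (rw5252) (rw5253) (Nat.ble 5253 i)) (Bool.rec (motive := fun _ => List ℕ) (rw5254) (rw5255) (Nat.ble 5255 i)) (Nat.ble 5254 i)) (Nat.ble 5252 i)) (Bool.rec (motive := fun _ => List ℕ) (Bool.rec (motive := fun _ => List ℕ) (Bool.rec (motive := fun _ => List ℕ) (rw5256) (rw5257) (Nat.ble 5257 i)) (Bool.rec (motive := fun _ => List ℕ) (rw5258)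 (rw5259) (Nat.ble 5259 i)) (Nat.ble 5258 i)) (Bool.rec (motive := fun _ => List ℕ) (Bool.rec (motive := fun _ => List ℕ) (rw5260) (rw5261) (Nat.ble 5261 i)) (Bool.rec (motive := fun _ => List ℕ) (rw5262) (rw5263) (Nat.ble 5263 i)) (Nat.ble 5262 i)) (Nat.ble 5260 i)) (Nat.ble 5256 i)) (Bool.rec (motive := fun _ => List ℕ) (Bool.rec (motive := fun _ => List ℕ) (Bool.rec (motive := fun _ => List ℕ) (Bool.rec (motive := fun _ => List ℕ) (rw5264) (rw5265) (Nat.ble 5265 i)) (Bool.rec (motive := fun _ => List ℕ) (rw5266) (rw5267) (Nat.ble 5267 i)) (Nat.ble 5266 i)) (Bool.rec (motive := fun _ => List ℕ) (Bool.rec (motive := fun _ => List ℕ) (rw5268) (rw5269) (Nat.ble 5269 i)) (Bool.rec (motive := fun _ => List ℕ) (rw5270) (rw5271) (Nat.ble 5271 i)) (Nat.ble 5270 i)) (Nat.ble 5268 i)) (Bool.rec (motive := fun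 _ => List ℕ) (Bool.rec (motive := fun _ => List ℕ) (Bool.rec (motive := fun _ => List ℕ) (rw5272) (rw5273) (Nat.ble 5273 i)) (Bool.rec (motive := fun _ => List ℕ) (rw5274) (rw5275) (Nat.ble 5275 i)) (Nat.ble 5274 i)) (Bool.rec (motive := fun _ => List ℕ) (Bool.rec (motive := fun _ => List ℕ) (rw5276) (rw5277) (Nat.ble 5277 i)) (Bool.rec (motive := fun _ => List ℕ) (rw5278) (rw5279) (Nat.ble 5279 i)) (Nat.ble 5278 i)) (Nat.ble 5276 i)) (Nat.ble 5272 i)) (Nat.ble 5264 i)) (Bool.rec (motive := fun _ => List ℕ) (Bool.rec (motive := fun _ => List ℕ) (Bool.rec (motive := fun _ => List ℕ) (Bool.rec (motive := fun _ => List ℕ) (Bool.rec (motive := fun _ => List ℕ) (rw5280) (rw5281) (Nat.ble 5281 i)) (Bool.rec (motive := fun _ => List ℕ) (rw5282) (rw5283) (Nat.ble 5283 i)) (Nat.ble 5282 i)) (Bool.rec (motive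 := fun _ => List ℕ) (Bool.rec (motive := fun _ => List ℕ) (rw5284) (rw5285) (Nat.ble 5285 i)) (Bool.rec (motive := fun _ => List ℕ) (rw5286) (rw5287) (Nat.ble 5287 i)) (Nat.ble 5286 i)) (Nat.ble 5284 i)) (Bool.rec (motive := fun _ => List ℕ) (Bool.rec (motive := fun _ => List ℕ) (Bool.rec (motive := fun _ => List ℕ) (rw5288) (rw5289) (Nat.ble 5289 i)) (Bool.rec (motive := fun _ => List ℕ) (rw5290) (rw5291) (Nat.ble 5291 i)) (Nat.ble 5290 i)) (Bool.rec (motive := fun _ => List ℕ) (Bool.rec (motive := fun _ => List ℕ) (rw5292) (rw5293) (Nat.ble 5293 i)) (Bool.rec (motive := fun _ => List ℕ) (rw5294) (rw5295) (Nat.ble 5295 i)) (Nat.ble 5294 i)) (Nat.ble 5292 i)) (Nat.ble 5288 i)) (Bool.rec (motive := fun _ => List ℕ) (Bool.rec (motive := fun _ => List ℕ) (Bool.rec (motive := fun _ => List ℕ) (Bool.rec (motive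 := fun _ => List ℕ) (rw5296) (rw5297) (Nat.ble 5297 i)) (Bool.rec (motive := fun _ => List ℕ) (rw5298) (rw5299) (Nat.ble 5299 i)) (Nat.ble 5298 i)) (Bool.rec (motive := fun _ => List ℕ) (Bool.rec (motive := fun _ => List ℕ) (rw5300) (rw5301) (Nat.ble 5301 i)) (Bool.rec (motive := fun _ => List ℕ) (rw5302) (rw5303) (Nat.ble 5303 i)) (Nat.ble 5302 i)) (Nat.ble 5300 i)) (Bool.rec (motive := fun _ => List ℕ) (Bool.rec (motive := fun _ => List ℕ) (Bool.rec (motive := fun _ => List ℕ) (rw5304) (rw5305) (Nat.ble 5305 i)) (Bool.rec (motive := fun _ => List ℕ) (rw5306) (rw5307) (Nat.ble 5307 i)) (Nat.ble 5306 i)) (Bool.rec (motive := fun _ => List ℕ) (Bool.rec (motive := fun _ => List ℕ) (rw5308) (rw5309) (Nat.ble 5309 i)) (Bool.rec (motive := fun _ => List ℕ) (rw5310) (rw5311) (Nat.ble 5311 i)) (Nat.ble 5310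 i)) (Nat.ble 5308 i)) (Nat.ble 5304 i)) (Nat.ble 5296 i)) (Nat.ble 5280 i)
noncomputable def rwb83 (i : ℕ) : List ℕ := Bool.rec (motive := fun _ => List ℕ) (Bool.rec (motive := fun _ => List ℕ) (Bool.rec (motive := fun _ => List ℕ) (Bool.rec (motive := fun _ => List ℕ) (Bool.rec (motive := fun _ => List ℕ) (Bool.rec (motive := fun _ => List ℕ) (rw5312) (rw5313) (Nat.ble 5313 i)) (Bool.rec (motive := fun _ => List ℕ) (rw5314) (rw5315) (Nat.ble 5315 i)) (Nat.ble 5314 i)) (Bool.rec (motive := fun _ => List ℕ) (Bool.rec (motive := fun _ => List ℕ) (rw5316) (rw5317) (Nat.ble 5317 i)) (Bool.rec (motive := fun _ => List ℕ) (rw5318) (rw5319) (Nat.ble 5319 i)) (Nat.ble 5318 i)) (Nat.ble 5316 i)) (Bool.rec (motive := fun _ => List ℕ) (Bool.rec (motive := fun _ => List ℕ) (Bool.rec (motive := fun _ => List ℕ) (rw5320)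 (rw5321) (Nat.ble 5321 i)) (Bool.rec (motive := fun _ => List ℕ) (rw5322) (rw5323) (Nat.ble 5323 i)) (Nat.ble 5322 i)) (Bool.rec (motive := fun _ => List ℕ) (Bool.rec (motive := fun _ => List ℕ) (rw5324) (rw5325) (Nat.ble 5325 i)) (Bool.rec (motive := fun _ => List ℕ) (rw5326) (rw5327) (Nat.ble 5327 i)) (Nat.ble 5326 i)) (Nat.ble 5324 i)) (Nat.ble 5320 i)) (Bool.rec (motive := fun _ => List ℕ) (Bool.rec (motive := fun _ => List ℕ) (Bool.rec (motive := fun _ => List ℕ) (Bool.rec (motive := fun _ => List ℕ) (rw5328) (rw5329) (Nat.ble 5329 i)) (Bool.rec (motive := fun _ => List ℕ) (rw5330) (rw5331) (Nat.ble 5331 i)) (Nat.ble 5330 i)) (Bool.rec (motive := fun _ => List ℕ) (Bool.rec (motive := fun _ => List ℕ) (rw5332) (rw5333) (Nat.ble 5333 i)) (Bool.rec (motive := fun _ => List ℕ) (rw5334) (rw5335) (Nat.ble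 5335 i)) (Nat.ble 5334 i)) (Nat.ble 5332 i)) (Bool.rec (motive := fun _ => List ℕ) (Bool.rec (motive := fun _ => List ℕ) (Bool.rec (motive := fun _ => List ℕ) (rw5336) (rw5337) (Nat.ble 5337 i)) (Bool.rec (motive := fun _ => List ℕ) (rw5338) (rw5339) (Nat.ble 5339 i)) (Nat.ble 5338 i)) (Bool.rec (motive := fun _ => List ℕ) (Bool.rec (motive := fun _ => List ℕ) (rw5340) (rw5341) (Nat.ble 5341 i)) (Bool.rec (motive := fun _ => List ℕ) (rw5342) (rw5343) (Nat.ble 5343 i)) (Nat.ble 5342 i)) (Nat.ble 5340 i)) (Nat.ble 5336 i)) (Nat.ble 5328 i)) (Bool.rec (motive := fun _ => List ℕ) (Bool.rec (motive := fun _ => List ℕ) (Bool.rec (motive := fun _ => List ℕ) (Bool.rec (motive := fun _ => List ℕ) (Bool.rec (motive := fun _ => List ℕ) (rw5344) (rw5345) (Nat.ble 5345 i)) (Bool.rec (motive := fun _ => List ℕ) (rw5346)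 (rw5347) (Nat.ble 5347 i)) (Nat.ble 5346 i)) (Bool.rec (motive := fun _ => List ℕ) (Bool.rec (motive := fun _ => List ℕ) (rw5348) (rw5349) (Nat.ble 5349 i)) (Bool.rec (motive := fun _ => List ℕ) (rw5350) (rw5351) (Nat.ble 5351 i)) (Nat.ble 5350 i)) (Nat.ble 5348 i)) (Bool.rec (motive := fun _ => List ℕ) (Bool.rec (motive := fun _ => List ℕ) (Bool.rec (motive := fun _ => List ℕ) (rw5352) (rw5353) (Nat.ble 5353 i)) (Bool.rec (motive := fun _ => List ℕ) (rw5354) (rw5355) (Nat.ble 5355 i)) (Nat.ble 5354 i)) (Bool.rec (motive := fun _ => List ℕ) (Bool.rec (motive := fun _ => List ℕ) (rw5356) (rw5357) (Nat.ble 5357 i)) (Bool.rec (motive := fun _ => List ℕ) (rw5358) (rw5359) (Nat.ble 5359 i)) (Nat.ble 5358 i)) (Nat.ble 5356 i)) (Nat.ble 5352 i)) (Bool.rec (motive := fun _ => List ℕ) (Bool.rec (motive := fun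 _ => List ℕ) (Bool.rec (motive := fun _ => List ℕ) (Bool.rec (motive := fun _ => List ℕ) (rw5360) (rw5361) (Nat.ble 5361 i)) (Bool.rec (motive := fun _ => List ℕ) (rw5362) (rw5363) (Nat.ble 5363 i)) (Nat.ble 5362 i)) (Bool.rec (motive := fun _ => List ℕ) (Bool.rec (motive := fun _ => List ℕ) (rw5364) (rw5365) (Nat.ble 5365 i)) (Bool.rec (motive := fun _ => List ℕ) (rw5366) (rw5367) (Nat.ble 5367 i)) (Nat.ble 5366 i)) (Nat.ble 5364 i)) (Bool.rec (motive := fun _ => List ℕ) (Bool.rec (motive := fun _ => List ℕ) (Bool.rec (motive := fun _ => List ℕ) (rw5368) (rw5369) (Nat.ble 5369 i)) (Bool.rec (motive := fun _ => List ℕ) (rw5370) (rw5371) (Nat.ble 5371 i)) (Nat.ble 5370 i)) (Bool.rec (motive := fun _ => List ℕ) (Bool.rec (motive := fun _ => List ℕ) (rw5372) (rw5373) (Nat.ble 5373 i)) (Bool.rec (motive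 := fun _ => List ℕ) (rw5374) (rw5375) (Nat.ble 5375 i)) (Nat.ble 5374 i)) (Nat.ble 5372 i)) (Nat.ble 5368 i)) (Nat.ble 5360 i)) (Nat.ble 5344 i)
noncomputable def rwb84 (i : ℕ) : List ℕ := Bool.rec (motive := fun _ => List ℕ) (Bool.rec (motive := fun _ => List ℕ) (Bool.rec (motive := fun _ => List ℕ) (Bool.rec (motive := fun _ => List ℕ) (Bool.rec (motive := fun _ => List ℕ) (Bool.rec (motive := fun _ => List ℕ) (rw5376) (rw5377) (Nat.ble 5377 i)) (Bool.rec (motive := fun _ => List ℕ) (rw5378) (rw5379) (Nat.ble 5379 i)) (Nat.ble 5378 i)) (Bool.rec (motive := fun _ => List ℕ) (Bool.rec (motive := fun _ => List ℕ) (rw5380) (rw5381) (Nat.ble 5381 i)) (Bool.rec (motive := fun _ => List ℕ) (rw5382) (rw5383) (Nat.ble 5383 i)) (Nat.ble 5382 i)) (Nat.ble 5380 i)) (Bool.rec (motive := fun _ => List ℕ) (Bool.rec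 (motive := fun _ => List ℕ) (Bool.rec (motive := fun _ => List ℕ) (rw5384) (rw5385) (Nat.ble 5385 i)) (Bool.rec (motive := fun _ => List ℕ) (rw5386) (rw5387) (Nat.ble 5387 i)) (Nat.ble 5386 i)) (Bool.rec (motive := fun _ => List ℕ) (Bool.rec (motive := fun _ => List ℕ) (rw5388) (rw5389) (Nat.ble 5389 i)) (Bool.rec (motive := fun _ => List ℕ) (rw5390) (rw5391) (Nat.ble 5391 i)) (Nat.ble 5390 i)) (Nat.ble 5388 i)) (Nat.ble 5384 i)) (Bool.rec (motive := fun _ => List ℕ) (Bool.rec (motive := fun _ => List ℕ) (Bool.rec (motive := fun _ => List ℕ) (Bool.rec (motive := fun _ => List ℕ) (rw5392) (rw5393) (Nat.ble 5393 i)) (Bool.rec (motive := fun _ => List ℕ) (rw5394) (rw5395) (Nat.ble 5395 i)) (Nat.ble 5394 i)) (Bool.rec (motive := fun _ => List ℕ) (Bool.rec (motive := fun _ => List ℕ) (rw5396) (rw5397) (Nat.ble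 5397 i)) (Bool.rec (motive := fun _ => List ℕ) (rw5398) (rw5399) (Nat.ble 5399 i)) (Nat.ble 5398 i)) (Nat.ble 5396 i)) (Bool.rec (motive := fun _ => List ℕ) (Bool.rec (motive := fun _ => List ℕ) (Bool.rec (motive := fun _ => List ℕ) (rw5400) (rw5401) (Nat.ble 5401 i)) (Bool.rec (motive := fun _ => List ℕ) (rw5402) (rw5403) (Nat.ble 5403 i)) (Nat.ble 5402 i)) (Bool.rec (motive := fun _ => List ℕ) (Bool.rec (motive := fun _ => List ℕ) (rw5404) (rw5405) (Nat.ble 5405 i)) (Bool.rec (motive := fun _ => List ℕ) (rw5406) (rw5407) (Nat.ble 5407 i)) (Nat.ble 5406 i)) (Nat.ble 5404 i)) (Nat.ble 5400 i)) (Nat.ble 5392 i)) (Bool.rec (motive := fun _ => List ℕ) (Bool.rec (motive := fun _ => List ℕ) (Bool.rec (motive := fun _ => List ℕ) (Bool.rec (motive := fun _ => List ℕ) (Bool.rec (motive := fun _ => List ℕ) (rw5408)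 (rw5409) (Nat.ble 5409 i)) (Bool.rec (motive := fun _ => List ℕ) (rw5410) (rw5411) (Nat.ble 5411 i)) (Nat.ble 5410 i)) (Bool.rec (motive := fun _ => List ℕ) (Bool.rec (motive := fun _ => List ℕ) (rw5412) (rw5413) (Nat.ble 5413 i)) (Bool.rec (motive := fun _ => List ℕ) (rw5414) (rw5415) (Nat.ble 5415 i)) (Nat.ble 5414 i)) (Nat.ble 5412 i)) (Bool.rec (motive := fun _ => List ℕ) (Bool.rec (motive := fun _ => List ℕ) (Bool.rec (motive := fun _ => List ℕ) (rw5416) (rw5417) (Nat.ble 5417 i)) (Bool.rec (motive := fun _ => List ℕ) (rw5418) (rw5419) (Nat.ble 5419 i)) (Nat.ble 5418 i)) (Bool.rec (motive := fun _ => List ℕ) (Bool.rec (motive := fun _ => List ℕ) (rw5420) (rw5421) (Nat.ble 5421 i)) (Bool.rec (motive := fun _ => List ℕ) (rw5422) (rw5423) (Nat.ble 5423 i)) (Nat.ble 5422 i)) (Nat.ble 5420 i)) (Nat.ble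 5416 i)) (Bool.rec (motive := fun _ => List ℕ) (Bool.rec (motive := fun _ => List ℕ) (Bool.rec (motive := fun _ => List ℕ) (Bool.rec (motive := fun _ => List ℕ) (rw5424) (rw5425) (Nat.ble 5425 i)) (Bool.rec (motive := fun _ => List ℕ) (rw5426) (rw5427) (Nat.ble 5427 i)) (Nat.ble 5426 i)) (Bool.rec (motive := fun _ => List ℕ) (Bool.rec (motive := fun _ => List ℕ) (rw5428) (rw5429) (Nat.ble 5429 i)) (Bool.rec (motive := fun _ => List ℕ) (rw5430) (rw5431) (Nat.ble 5431 i)) (Nat.ble 5430 i)) (Nat.ble 5428 i)) (Bool.rec (motive := fun _ => List ℕ) (Bool.rec (motive := fun _ => List ℕ) (Bool.rec (motive := fun _ => List ℕ) (rw5432) (rw5433) (Nat.ble 5433 i)) (Bool.rec (motive := fun _ => List ℕ) (rw5434) (rw5435) (Nat.ble 5435 i)) (Nat.ble 5434 i)) (Bool.rec (motive := fun _ => List ℕ) (Bool.rec (motive :=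 fun _ => List ℕ) (rw5436) (rw5437) (Nat.ble 5437 i)) (Bool.rec (motive := fun _ => List ℕ) (rw5438) (rw5439) (Nat.ble 5439 i)) (Nat.ble 5438 i)) (Nat.ble 5436 i)) (Nat.ble 5432 i)) (Nat.ble 5424 i)) (Nat.ble 5408 i)
noncomputable def rwb85 (i : ℕ) : List ℕ := Bool.rec (motive := fun _ => List ℕ) (Bool.rec (motive := fun _ => List ℕ) (Bool.rec (motive := fun _ => List ℕ) (Bool.rec (motive := fun _ => List ℕ) (Bool.rec (motive := fun _ => List ℕ) (Bool.rec (motive := fun _ => List ℕ) (rw5440) (rw5441) (Nat.ble 5441 i)) (Bool.rec (motive := fun _ => List ℕ) (rw5442) (rw5443) (Nat.ble 5443 i)) (Nat.ble 5442 i)) (Bool.rec (motive := fun _ => List ℕ) (Bool.rec (motive := fun _ => List ℕ) (rw5444) (rw5445) (Nat.ble 5445 i)) (Bool.rec (motive := fun _ => List ℕ) (rw5446) (rw5447) (Nat.ble 5447 i)) (Nat.ble 5446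 i)) (Nat.ble 5444 i)) (Bool.rec (motive := fun _ => List ℕ) (Bool.rec (motive := fun _ => List ℕ) (Bool.rec (motive := fun _ => List ℕ) (rw5448) (rw5449) (Nat.ble 5449 i)) (Bool.rec (motive := fun _ => List ℕ) (rw5450) (rw5451) (Nat.ble 5451 i)) (Nat.ble 5450 i)) (Bool.rec (motive := fun _ => List ℕ) (Bool.rec (motive := fun _ => List ℕ) (rw5452) (rw5453) (Nat.ble 5453 i)) (Bool.rec (motive := fun _ => List ℕ) (rw5454) (rw5455) (Nat.ble 5455 i)) (Nat.ble 5454 i)) (Nat.ble 5452 i)) (Nat.ble 5448 i)) (Bool.rec (motive := fun _ => List ℕ) (Bool.rec (motive := fun _ => List ℕ) (Bool.rec (motive := fun _ => List ℕ) (Bool.rec (motive := fun _ => List ℕ) (rw5456) (rw5457) (Nat.ble 5457 i)) (Bool.rec (motive := fun _ => List ℕ) (rw5458) (rw5459) (Nat.ble 5459 i)) (Nat.ble 5458 i)) (Bool.rec (motive := fun _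 => List ℕ) (Bool.rec (motive := fun _ => List ℕ) (rw5460) (rw5461) (Nat.ble 5461 i)) (Bool.rec (motive := fun _ => List ℕ) (rw5462) (rw5463) (Nat.ble 5463 i)) (Nat.ble 5462 i)) (Nat.ble 5460 i)) (Bool.rec (motive := fun _ => List ℕ) (Bool.rec (motive := fun _ => List ℕ) (Bool.rec (motive := fun _ => List ℕ) (rw5464) (rw5465) (Nat.ble 5465 i)) (Bool.rec (motive := fun _ => List ℕ) (rw5466) (rw5467) (Nat.ble 5467 i)) (Nat.ble 5466 i)) (Bool.rec (motive := fun _ => List ℕ) (Bool.rec (motive := fun _ => List ℕ) (rw5468) (rw5469) (Nat.ble 5469 i)) (Bool.rec (motive := fun _ => List ℕ) (rw5470) (rw5471) (Nat.ble 5471 i)) (Nat.ble 5470 i)) (Nat.ble 5468 i)) (Nat.ble 5464 i)) (Nat.ble 5456 i)) (Bool.rec (motive := fun _ => List ℕ) (Bool.rec (motive := fun _ => List ℕ) (Bool.rec (motive := fun _ => List ℕ) (Bool.rec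 (motive := fun _ => List ℕ) (Bool.rec (motive := fun _ => List ℕ) (rw5472) (rw5473) (Nat.ble 5473 i)) (Bool.rec (motive := fun _ => List ℕ) (rw5474) (rw5475) (Nat.ble 5475 i)) (Nat.ble 5474 i)) (Bool.rec (motive := fun _ => List ℕ) (Bool.rec (motive := fun _ => List ℕ) (rw5476) (rw5477) (Nat.ble 5477 i)) (Bool.rec (motive := fun _ => List ℕ) (rw5478) (rw5479) (Nat.ble 5479 i)) (Nat.ble 5478 i)) (Nat.ble 5476 i)) (Bool.rec (motive := fun _ => List ℕ) (Bool.rec (motive := fun _ => List ℕ) (Bool.rec (motive := fun _ => List ℕ) (rw5480) (rw5481) (Nat.ble 5481 i)) (Bool.rec (motive := fun _ => List ℕ) (rw5482) (rw5483) (Nat.ble 5483 i)) (Nat.ble 5482 i)) (Bool.rec (motive := fun _ => List ℕ) (Bool.rec (motive := fun _ => List ℕ) (rw5484) (rw5485) (Nat.ble 5485 i)) (Bool.rec (motive := fun _ => List ℕ) (rw5486)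 (rw5487) (Nat.ble 5487 i)) (Nat.ble 5486 i)) (Nat.ble 5484 i)) (Nat.ble 5480 i)) (Bool.rec (motive := fun _ => List ℕ) (Bool.rec (motive := fun _ => List ℕ) (Bool.rec (motive := fun _ => List ℕ) (Bool.rec (motive := fun _ => List ℕ) (rw5488) (rw5489) (Nat.ble 5489 i)) (Bool.rec (motive := fun _ => List ℕ) (rw5490) (rw5491) (Nat.ble 5491 i)) (Nat.ble 5490 i)) (Bool.rec (motive := fun _ => List ℕ) (Bool.rec (motive := fun _ => List ℕ) (rw5492) (rw5493) (Nat.ble 5493 i)) (Bool.rec (motive := fun _ => List ℕ) (rw5494) (rw5495) (Nat.ble 5495 i)) (Nat.ble 5494 i)) (Nat.ble 5492 i)) (Bool.rec (motive := fun _ => List ℕ) (Bool.rec (motive := fun _ => List ℕ) (Bool.rec (motive := fun _ => List ℕ) (rw5496) (rw5497) (Nat.ble 5497 i)) (Bool.rec (motive := fun _ => List ℕ) (rw5498) (rw5499) (Nat.ble 5499 i)) (Nat.ble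 5498 i)) (Bool.rec (motive := fun _ => List ℕ) (Bool.rec (motive := fun _ => List ℕ) (rw5500) (rw5501) (Nat.ble 5501 i)) (Bool.rec (motive := fun _ => List ℕ) (rw5502) (rw5503) (Nat.ble 5503 i)) (Nat.ble 5502 i)) (Nat.ble 5500 i)) (Nat.ble 5496 i)) (Nat.ble 5488 i)) (Nat.ble 5472 i)
noncomputable def rwb86 (i : ℕ) : List ℕ := Bool.rec (motive := fun _ => List ℕ) (Bool.rec (motive := fun _ => List ℕ) (Bool.rec (motive := fun _ => List ℕ) (Bool.rec (motive := fun _ => List ℕ) (Bool.rec (motive := fun _ => List ℕ) (Bool.rec (motive := fun _ => List ℕ) (rw5504) (rw5505) (Nat.ble 5505 i)) (Bool.rec (motive := fun _ => List ℕ) (rw5506) (rw5507) (Nat.ble 5507 i)) (Nat.ble 5506 i)) (Bool.rec (motive := fun _ => List ℕ) (Bool.rec (motive := fun _ => List ℕ) (rw5508) (rw5509) (Nat.ble 5509 i)) (Bool.rec (motive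 := fun _ => List ℕ) (rw5510) (rw5511) (Nat.ble 5511 i)) (Nat.ble 5510 i)) (Nat.ble 5508 i)) (Bool.rec (motive := fun _ => List ℕ) (Bool.rec (motive := fun _ => List ℕ) (Bool.rec (motive := fun _ => List ℕ) (rw5512) (rw5513) (Nat.ble 5513 i)) (Bool.rec (motive := fun _ => List ℕ) (rw5514) (rw5515) (Nat.ble 5515 i)) (Nat.ble 5514 i)) (Bool.rec (motive := fun _ => List ℕ) (Bool.rec (motive := fun _ => List ℕ) (rw5516) (rw5517) (Nat.ble 5517 i)) (Bool.rec (motive := fun _ => List ℕ) (rw5518) (rw5519) (Nat.ble 5519 i)) (Nat.ble 5518 i)) (Nat.ble 5516 i)) (Nat.ble 5512 i)) (Bool.rec (motive := fun _ => List ℕ) (Bool.rec (motive := fun _ => List ℕ) (Bool.rec (motive := fun _ => List ℕ) (Bool.rec (motive := fun _ => List ℕ) (rw5520) (rw5521) (Nat.ble 5521 i)) (Bool.rec (motive := fun _ => List ℕ) (rw5522) (rw5523)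 (Nat.ble 5523 i)) (Nat.ble 5522 i)) (Bool.rec (motive := fun _ => List ℕ) (Bool.rec (motive := fun _ => List ℕ) (rw5524) (rw5525) (Nat.ble 5525 i)) (Bool.rec (motive := fun _ => List ℕ) (rw5526) (rw5527) (Nat.ble 5527 i)) (Nat.ble 5526 i)) (Nat.ble 5524 i)) (Bool.rec (motive := fun _ => List ℕ) (Bool.rec (motive := fun _ => List ℕ) (Bool.rec (motive := fun _ => List ℕ) (rw5528) (rw5529) (Nat.ble 5529 i)) (Bool.rec (motive := fun _ => List ℕ) (rw5530) (rw5531) (Nat.ble 5531 i)) (Nat.ble 5530 i)) (Bool.rec (motive := fun _ => List ℕ) (Bool.rec (motive := fun _ => List ℕ) (rw5532) (rw5533) (Nat.ble 5533 i)) (Bool.rec (motive := fun _ => List ℕ) (rw5534) (rw5535) (Nat.ble 5535 i)) (Nat.ble 5534 i)) (Nat.ble 5532 i)) (Nat.ble 5528 i)) (Nat.ble 5520 i)) (Bool.rec (motive := fun _ => List ℕ) (Bool.rec (motive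 := fun _ => List ℕ) (Bool.rec (motive := fun _ => List ℕ) (Bool.rec (motive := fun _ => List ℕ) (Bool.rec (motive := fun _ => List ℕ) (rw5536) (rw5537) (Nat.ble 5537 i)) (Bool.rec (motive := fun _ => List ℕ) (rw5538) (rw5539) (Nat.ble 5539 i)) (Nat.ble 5538 i)) (Bool.rec (motive := fun _ => List ℕ) (Bool.rec (motive := fun _ => List ℕ) (rw5540) (rw5541) (Nat.ble 5541 i)) (Bool.rec (motive := fun _ => List ℕ) (rw5542) (rw5543) (Nat.ble 5543 i)) (Nat.ble 5542 i)) (Nat.ble 5540 i)) (Bool.rec (motive := fun _ => List ℕ) (Bool.rec (motive := fun _ => List ℕ) (Bool.rec (motive := fun _ => List ℕ) (rw5544) (rw5545) (Nat.ble 5545 i)) (Bool.rec (motive := fun _ => List ℕ) (rw5546) (rw5547) (Nat.ble 5547 i)) (Nat.ble 5546 i)) (Bool.rec (motive := fun _ => List ℕ) (Bool.rec (motive := fun _ => List ℕ) (rw5548)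 (rw5549) (Nat.ble 5549 i)) (Bool.rec (motive := fun _ => List ℕ) (rw5550) (rw5551) (Nat.ble 5551 i)) (Nat.ble 5550 i)) (Nat.ble 5548 i)) (Nat.ble 5544 i)) (Bool.rec (motive := fun _ => List ℕ) (Bool.rec (motive := fun _ => List ℕ) (Bool.rec (motive := fun _ => List ℕ) (Bool.rec (motive := fun _ => List ℕ) (rw5552) (rw5553) (Nat.ble 5553 i)) (Bool.rec (motive := fun _ => List ℕ) (rw5554) (rw5555) (Nat.ble 5555 i)) (Nat.ble 5554 i)) (Bool.rec (motive := fun _ => List ℕ) (Bool.rec (motive := fun _ => List ℕ) (rw5556) (rw5557) (Nat.ble 5557 i)) (Bool.rec (motive := fun _ => List ℕ) (rw5558) (rw5559) (Nat.ble 5559 i)) (Nat.ble 5558 i)) (Nat.ble 5556 i)) (Bool.rec (motive := fun _ => List ℕ) (Bool.rec (motive := fun _ => List ℕ) (Bool.rec (motive := fun _ => List ℕ) (rw5560) (rw5561) (Nat.ble 5561 i)) (Bool.rec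 (motive := fun _ => List ℕ) (rw5562) (rw5563) (Nat.ble 5563 i)) (Nat.ble 5562 i)) (Bool.rec (motive := fun _ => List ℕ) (Bool.rec (motive := fun _ => List ℕ) (rw5564) (rw5565) (Nat.ble 5565 i)) (Bool.rec (motive := fun _ => List ℕ) (rw5566) (rw5567) (Nat.ble 5567 i)) (Nat.ble 5566 i)) (Nat.ble 5564 i)) (Nat.ble 5560 i)) (Nat.ble 5552 i)) (Nat.ble 5536 i)
noncomputable def rwb87 (i : ℕ) : List ℕ := Bool.rec (motive := fun _ => List ℕ) (Bool.rec (motive := fun _ => List ℕ) (Bool.rec (motive := fun _ => List ℕ) (Bool.rec (motive := fun _ => List ℕ) (Bool.rec (motive := fun _ => List ℕ) (Bool.rec (motive := fun _ => List ℕ) (rw5568) (rw5569) (Nat.ble 5569 i)) (Bool.rec (motive := fun _ => List ℕ) (rw5570) (rw5571) (Nat.ble 5571 i)) (Nat.ble 5570 i)) (Bool.rec (motive := fun _ => List ℕ) (Bool.rec (motive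 := fun _ => List ℕ) (rw5572) (rw5573) (Nat.ble 5573 i)) (Bool.rec (motive := fun _ => List ℕ) (rw5574) (rw5575) (Nat.ble 5575 i)) (Nat.ble 5574 i)) (Nat.ble 5572 i)) (Bool.rec (motive := fun _ => List ℕ) (Bool.rec (motive := fun _ => List ℕ) (Bool.rec (motive := fun _ => List ℕ) (rw5576) (rw5577) (Nat.ble 5577 i)) (Bool.rec (motive := fun _ => List ℕ) (rw5578) (rw5579) (Nat.ble 5579 i)) (Nat.ble 5578 i)) (Bool.rec (motive := fun _ => List ℕ) (Bool.rec (motive := fun _ => List ℕ) (rw5580) (rw5581) (Nat.ble 5581 i)) (Bool.rec (motive := fun _ => List ℕ) (rw5582) (rw5583) (Nat.ble 5583 i)) (Nat.ble 5582 i)) (Nat.ble 5580 i)) (Nat.ble 5576 i)) (Bool.rec (motive := fun _ => List ℕ) (Bool.rec (motive := fun _ => List ℕ) (Bool.rec (motive := fun _ => List ℕ) (Bool.rec (motive := fun _ => List ℕ) (rw5584) (rw5585)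 (Nat.ble 5585 i)) (Bool.rec (motive := fun _ => List ℕ) (rw5586) (rw5587) (Nat.ble 5587 i)) (Nat.ble 5586 i)) (Bool.rec (motive := fun _ => List ℕ) (Bool.rec (motive := fun _ => List ℕ) (rw5588) (rw5589) (Nat.ble 5589 i)) (Bool.rec (motive := fun _ => List ℕ) (rw5590) (rw5591) (Nat.ble 5591 i)) (Nat.ble 5590 i)) (Nat.ble 5588 i)) (Bool.rec (motive := fun _ => List ℕ) (Bool.rec (motive := fun _ => List ℕ) (Bool.rec (motive := fun _ => List ℕ) (rw5592) (rw5593) (Nat.ble 5593 i)) (Bool.rec (motive := fun _ => List ℕ) (rw5594) (rw5595) (Nat.ble 5595 i)) (Nat.ble 5594 i)) (Bool.rec (motive := fun _ => List ℕ) (Bool.rec (motive := fun _ => List ℕ) (rw5596) (rw5597) (Nat.ble 5597 i)) (Bool.rec (motive := fun _ => List ℕ) (rw5598) (rw5599) (Nat.ble 5599 i)) (Nat.ble 5598 i)) (Nat.ble 5596 i)) (Nat.ble 5592 i))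 (Nat.ble 5584 i)) (Bool.rec (motive := fun _ => List ℕ) (Bool.rec (motive := fun _ => List ℕ) (Bool.rec (motive := fun _ => List ℕ) (Bool.rec (motive := fun _ => List ℕ) (Bool.rec (motive := fun _ => List ℕ) (rw5600) (rw5601) (Nat.ble 5601 i)) (Bool.rec (motive := fun _ => List ℕ) (rw5602) (rw5603) (Nat.ble 5603 i)) (Nat.ble 5602 i)) (Bool.rec (motive := fun _ => List ℕ) (Bool.rec (motive := fun _ => List ℕ) (rw5604) (rw5605) (Nat.ble 5605 i)) (Bool.rec (motive := fun _ => List ℕ) (rw5606) (rw5607) (Nat.ble 5607 i)) (Nat.ble 5606 i)) (Nat.ble 5604 i)) (Bool.rec (motive := fun _ => List ℕ) (Bool.rec (motive := fun _ => List ℕ) (Bool.rec (motive := fun _ => List ℕ) (rw5608) (rw5609) (Nat.ble 5609 i)) (Bool.rec (motive := fun _ => List ℕ) (rw5610) (rw5611) (Nat.ble 5611 i)) (Nat.ble 5610 i)) (Bool.rec (motive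 := fun _ => List ℕ) (Bool.rec (motive := fun _ => List ℕ) (rw5612) (rw5613) (Nat.ble 5613 i)) (Bool.rec (motive := fun _ => List ℕ) (rw5614) (rw5615) (Nat.ble 5615 i)) (Nat.ble 5614 i)) (Nat.ble 5612 i)) (Nat.ble 5608 i)) (Bool.rec (motive := fun _ => List ℕ) (Bool.rec (motive := fun _ => List ℕ) (Bool.rec (motive := fun _ => List ℕ) (Bool.rec (motive := fun _ => List ℕ) (rw5616) (rw5617) (Nat.ble 5617 i)) (Bool.rec (motive := fun _ => List ℕ) (rw5618) (rw5619) (Nat.ble 5619 i)) (Nat.ble 5618 i)) (Bool.rec (motive := fun _ => List ℕ) (Bool.rec (motive := fun _ => List ℕ) (rw5620) (rw5621) (Nat.ble 5621 i)) (Bool.rec (motive := fun _ => List ℕ) (rw5622) (rw5623) (Nat.ble 5623 i)) (Nat.ble 5622 i)) (Nat.ble 5620 i)) (Bool.rec (motive := fun _ => List ℕ) (Bool.rec (motive := fun _ => List ℕ) (Bool.rec (motive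 := fun _ => List ℕ) (rw5624) (rw5625) (Nat.ble 5625 i)) (Bool.rec (motive := fun _ => List ℕ) (rw5626) (rw5627) (Nat.ble 5627 i)) (Nat.ble 5626 i)) (Bool.rec (motive := fun _ => List ℕ) (Bool.rec (motive := fun _ => List ℕ) (rw5628) (rw5629) (Nat.ble 5629 i)) (Bool.rec (motive := fun _ => List ℕ) (rw5630) (rw5631) (Nat.ble 5631 i)) (Nat.ble 5630 i)) (Nat.ble 5628 i)) (Nat.ble 5624 i)) (Nat.ble 5616 i)) (Nat.ble 5600 i)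
noncomputable def rwb88 (i : ℕ) : List ℕ := Bool.rec (motive := fun _ => List ℕ) (Bool.rec (motive := fun _ => List ℕ) (Bool.rec (motive := fun _ => List ℕ) (Bool.rec (motive := fun _ => List ℕ) (Bool.rec (motive := fun _ => List ℕ) (Bool.rec (motive := fun _ => List ℕ) (rw5632) (rw5633) (Nat.ble 5633 i)) (Bool.rec (motive := fun _ => List ℕ) (rw5634) (rw5635) (Nat.ble 5635 i)) (Nat.ble 5634 i)) (Bool.rec (motive := fun _ => List ℕ) (Bool.rec (motive := fun _ => List ℕ) (rw5636) (rw5637) (Nat.ble 5637 i)) (Bool.rec (motive := fun _ => List ℕ) (rw5638) (rw5639) (Nat.ble 5639 i)) (Nat.ble 5638 i)) (Nat.ble 5636 i)) (Bool.rec (motive := fun _ => List ℕ) (Bool.rec (motive := fun _ => List ℕ) (Bool.rec (motive := fun _ => List ℕ) (rw5640) (rw5641) (Nat.ble 5641 i)) (Bool.rec (motive := fun _ => List ℕ) (rw5642)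 (rw5643) (Nat.ble 5643 i)) (Nat.ble 5642 i)) (Bool.rec (motive := fun _ => List ℕ) (Bool.rec (motive := fun _ => List ℕ) (rw5644) (rw5645) (Nat.ble 5645 i)) (Bool.rec (motive := fun _ => List ℕ) (rw5646) (rw5647) (Nat.ble 5647 i)) (Nat.ble 5646 i)) (Nat.ble 5644 i)) (Nat.ble 5640 i)) (Bool.rec (motive := fun _ => List ℕ) (Bool.rec (motive := fun _ => List ℕ) (Bool.rec (motive := fun _ => List ℕ) (Bool.rec (motive := fun _ => List ℕ) (rw5648) (rw5649) (Nat.ble 5649 i)) (Bool.rec (motive := fun _ => List ℕ) (rw5650) (rw5651) (Nat.ble 5651 i)) (Nat.ble 5650 i)) (Bool.rec (motive := fun _ => List ℕ) (Bool.rec (motive := fun _ => List ℕ) (rw5652) (rw5653) (Nat.ble 5653 i)) (Bool.rec (motive := fun _ => List ℕ) (rw5654) (rw5655) (Nat.ble 5655 i)) (Nat.ble 5654 i)) (Nat.ble 5652 i)) (Bool.rec (motive := fun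 _ => List ℕ) (Bool.rec (motive := fun _ => List ℕ) (Bool.rec (motive := fun _ => List ℕ) (rw5656) (rw5657) (Nat.ble 5657 i)) (Bool.rec (motive := fun _ => List ℕ) (rw5658) (rw5659) (Nat.ble 5659 i)) (Nat.ble 5658 i)) (Bool.rec (motive := fun _ => List ℕ) (Bool.rec (motive := fun _ => List ℕ) (rw5660) (rw5661) (Nat.ble 5661 i)) (Bool.rec (motive := fun _ => List ℕ) (rw5662) (rw5663) (Nat.ble 5663 i)) (Nat.ble 5662 i)) (Nat.ble 5660 i)) (Nat.ble 5656 i)) (Nat.ble 5648 i)) (Bool.rec (motive := fun _ => List ℕ) (Bool.rec (motive := fun _ => List ℕ) (Bool.rec (motive := fun _ => List ℕ) (Bool.rec (motive := fun _ => List ℕ) (Bool.rec (motive := fun _ => List ℕ) (rw5664) (rw5665) (Nat.ble 5665 i)) (Bool.rec (motive := fun _ => List ℕ) (rw5666) (rw5667) (Nat.ble 5667 i)) (Nat.ble 5666 i)) (Bool.rec (motive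 := fun _ => List ℕ) (Bool.rec (motive := fun _ => List ℕ) (rw5668) (rw5669) (Nat.ble 5669 i)) (Bool.rec (motive := fun _ => List ℕ) (rw5670) (rw5671) (Nat.ble 5671 i)) (Nat.ble 5670 i)) (Nat.ble 5668 i)) (Bool.rec (motive := fun _ => List ℕ) (Bool.rec (motive := fun _ => List ℕ) (Bool.rec (motive := fun _ => List ℕ) (rw5672) (rw5673) (Nat.ble 5673 i)) (Bool.rec (motive := fun _ => List ℕ) (rw5674) (rw5675) (Nat.ble 5675 i)) (Nat.ble 5674 i)) (Bool.rec (motive := fun _ => List ℕ) (Bool.rec (motive := fun _ => List ℕ) (rw5676) (rw5677) (Nat.ble 5677 i)) (Bool.rec (motive := fun _ => List ℕ) (rw5678) (rw5679) (Nat.ble 5679 i)) (Nat.ble 5678 i)) (Nat.ble 5676 i)) (Nat.ble 5672 i)) (Bool.rec (motive := fun _ => List ℕ) (Bool.rec (motive := fun _ => List ℕ) (Bool.rec (motive := fun _ => List ℕ) (Bool.rec (motive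 := fun _ => List ℕ) (rw5680) (rw5681) (Nat.ble 5681 i)) (Bool.rec (motive := fun _ => List ℕ) (rw5682) (rw5683) (Nat.ble 5683 i)) (Nat.ble 5682 i)) (Bool.rec (motive := fun _ => List ℕ) (Bool.rec (motive := fun _ => List ℕ) (rw5684) (rw5685) (Nat.ble 5685 i)) (Bool.rec (motive := fun _ => List ℕ) (rw5686) (rw5687) (Nat.ble 5687 i)) (Nat.ble 5686 i)) (Nat.ble 5684 i)) (Bool.rec (motive := fun _ => List ℕ) (Bool.rec (motive := fun _ => List ℕ) (Bool.rec (motive := fun _ => List ℕ) (rw5688) (rw5689) (Nat.ble 5689 i)) (Bool.rec (motive := fun _ => List ℕ) (rw5690) (rw5691) (Nat.ble 5691 i)) (Nat.ble 5690 i)) (Bool.rec (motive := fun _ => List ℕ) (Bool.rec (motive := fun _ => List ℕ) (rw5692) (rw5693) (Nat.ble 5693 i)) (Bool.rec (motive := fun _ => List ℕ) (rw5694) (rw5695) (Nat.ble 5695 i)) (Nat.ble 5694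 i)) (Nat.ble 5692 i)) (Nat.ble 5688 i)) (Nat.ble 5680 i)) (Nat.ble 5664 i)
noncomputable def rwb89 (i : ℕ) : List ℕ := Bool.rec (motive := fun _ => List ℕ) (Bool.rec (motive := fun _ => List ℕ) (Bool.rec (motive := fun _ => List ℕ) (Bool.rec (motive := fun _ => List ℕ) (Bool.rec (motive := fun _ => List ℕ) (Bool.rec (motive := fun _ => List ℕ) (rw5696) (rw5697) (Nat.ble 5697 i)) (Bool.rec (motive := fun _ => List ℕ) (rw5698) (rw5699) (Nat.ble 5699 i)) (Nat.ble 5698 i)) (Bool.rec (motive := fun _ => List ℕ) (Bool.rec (motive := fun _ => List ℕ) (rw5700) (rw5701) (Nat.ble 5701 i)) (Bool.rec (motive := fun _ => List ℕ) (rw5702) (rw5703) (Nat.ble 5703 i)) (Nat.ble 5702 i)) (Nat.ble 5700 i)) (Bool.rec (motive := fun _ => List ℕ) (Bool.rec (motive := fun _ => List ℕ) (Bool.rec (motive := fun _ => List ℕ) (rw5704)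 (rw5705) (Nat.ble 5705 i)) (Bool.rec (motive := fun _ => List ℕ) (rw5706) (rw5707) (Nat.ble 5707 i)) (Nat.ble 5706 i)) (Bool.rec (motive := fun _ => List ℕ) (Bool.rec (motive := fun _ => List ℕ) (rw5708) (rw5709) (Nat.ble 5709 i)) (Bool.rec (motive := fun _ => List ℕ) (rw5710) (rw5711) (Nat.ble 5711 i)) (Nat.ble 5710 i)) (Nat.ble 5708 i)) (Nat.ble 5704 i)) (Bool.rec (motive := fun _ => List ℕ) (Bool.rec (motive := fun _ => List ℕ) (Bool.rec (motive := fun _ => List ℕ) (Bool.rec (motive := fun _ => List ℕ) (rw5712) (rw5713) (Nat.ble 5713 i)) (Bool.rec (motive := fun _ => List ℕ) (rw5714) (rw5715) (Nat.ble 5715 i)) (Nat.ble 5714 i)) (Bool.rec (motive := fun _ => List ℕ) (Bool.rec (motive := fun _ => List ℕ) (rw5716) (rw5717) (Nat.ble 5717 i)) (Bool.rec (motive := fun _ => List ℕ) (rw5718) (rw5719) (Nat.ble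 5719 i)) (Nat.ble 5718 i)) (Nat.ble 5716 i)) (Bool.rec (motive := fun _ => List ℕ) (Bool.rec (motive := fun _ => List ℕ) (Bool.rec (motive := fun _ => List ℕ) (rw5720) (rw5721) (Nat.ble 5721 i)) (Bool.rec (motive := fun _ => List ℕ) (rw5722) (rw5723) (Nat.ble 5723 i)) (Nat.ble 5722 i)) (Bool.rec (motive := fun _ => List ℕ) (Bool.rec (motive := fun _ => List ℕ) (rw5724) (rw5725) (Nat.ble 5725 i)) (Bool.rec (motive := fun _ => List ℕ) (rw5726) (rw5727) (Nat.ble 5727 i)) (Nat.ble 5726 i)) (Nat.ble 5724 i)) (Nat.ble 5720 i)) (Nat.ble 5712 i)) (Bool.rec (motive := fun _ => List ℕ) (Bool.rec (motive := fun _ => List ℕ) (Bool.rec (motive := fun _ => List ℕ) (Bool.rec (motive := fun _ => List ℕ) (Bool.rec (motive := fun _ => List ℕ) (rw5728) (rw5729) (Nat.ble 5729 i)) (Bool.rec (motive := fun _ => List ℕ) (rw5730)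 (rw5731) (Nat.ble 5731 i)) (Nat.ble 5730 i)) (Bool.rec (motive := fun _ => List ℕ) (Bool.rec (motive := fun _ => List ℕ) (rw5732) (rw5733) (Nat.ble 5733 i)) (Bool.rec (motive := fun _ => List ℕ) (rw5734) (rw5735) (Nat.ble 5735 i)) (Nat.ble 5734 i)) (Nat.ble 5732 i)) (Bool.rec (motive := fun _ => List ℕ) (Bool.rec (motive := fun _ => List ℕ) (Bool.rec (motive := fun _ => List ℕ) (rw5736) (rw5737) (Nat.ble 5737 i)) (Bool.rec (motive := fun _ => List ℕ) (rw5738) (rw5739) (Nat.ble 5739 i)) (Nat.ble 5738 i)) (Bool.rec (motive := fun _ => List ℕ) (Bool.rec (motive := fun _ => List ℕ) (rw5740) (rw5741) (Nat.ble 5741 i)) (Bool.rec (motive := fun _ => List ℕ) (rw5742) (rw5743) (Nat.ble 5743 i)) (Nat.ble 5742 i)) (Nat.ble 5740 i)) (Nat.ble 5736 i)) (Bool.rec (motive := fun _ => List ℕ) (Bool.rec (motive := fun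 _ => List ℕ) (Bool.rec (motive := fun _ => List ℕ) (Bool.rec (motive := fun _ => List ℕ) (rw5744) (rw5745) (Nat.ble 5745 i)) (Bool.rec (motive := fun _ => List ℕ) (rw5746) (rw5747) (Nat.ble 5747 i)) (Nat.ble 5746 i)) (Bool.rec (motive := fun _ => List ℕ) (Bool.rec (motive := fun _ => List ℕ) (rw5748) (rw5749) (Nat.ble 5749 i)) (Bool.rec (motive := fun _ => List ℕ) (rw5750) (rw5751) (Nat.ble 5751 i)) (Nat.ble 5750 i)) (Nat.ble 5748 i)) (Bool.rec (motive := fun _ => List ℕ) (Bool.rec (motive := fun _ => List ℕ) (Bool.rec (motive := fun _ => List ℕ) (rw5752) (rw5753) (Nat.ble 5753 i)) (Bool.rec (motive := fun _ => List ℕ) (rw5754) (rw5755) (Nat.ble 5755 i)) (Nat.ble 5754 i)) (Bool.rec (motive := fun _ => List ℕ) (Bool.rec (motive := fun _ => List ℕ) (rw5756) (rw5757) (Nat.ble 5757 i)) (Bool.rec (motive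 := fun _ => List ℕ) (rw5758) (rw5759) (Nat.ble 5759 i)) (Nat.ble 5758 i)) (Nat.ble 5756 i)) (Nat.ble 5752 i)) (Nat.ble 5744 i)) (Nat.ble 5728 i)
noncomputable def rwb90 (i : ℕ) : List ℕ := Bool.rec (motive := fun _ => List ℕ) (Bool.rec (motive := fun _ => List ℕ) (Bool.rec (motive := fun _ => List ℕ) (Bool.rec (motive := fun _ => List ℕ) (Bool.rec (motive := fun _ => List ℕ) (Bool.rec (motive := fun _ => List ℕ) (rw5760) (rw5761) (Nat.ble 5761 i)) (Bool.rec (motive := fun _ => List ℕ) (rw5762) (rw5763) (Nat.ble 5763 i)) (Nat.ble 5762 i)) (Bool.rec (motive := fun _ => List ℕ) (Bool.rec (motive := fun _ => List ℕ) (rw5764) (rw5765) (Nat.ble 5765 i)) (Bool.rec (motive := fun _ => List ℕ) (rw5766) (rw5767) (Nat.ble 5767 i)) (Nat.ble 5766 i)) (Nat.ble 5764 i)) (Bool.rec (motive := fun _ => List ℕ) (Bool.rec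 (motive := fun _ => List ℕ) (Bool.rec (motive := fun _ => List ℕ) (rw5768) (rw5769) (Nat.ble 5769 i)) (Bool.rec (motive := fun _ => List ℕ) (rw5770) (rw5771) (Nat.ble 5771 i)) (Nat.ble 5770 i)) (Bool.rec (motive := fun _ => List ℕ) (Bool.rec (motive := fun _ => List ℕ) (rw5772) (rw5773) (Nat.ble 5773 i)) (Bool.rec (motive := fun _ => List ℕ) (rw5774) (rw5775) (Nat.ble 5775 i)) (Nat.ble 5774 i)) (Nat.ble 5772 i)) (Nat.ble 5768 i)) (Bool.rec (motive := fun _ => List ℕ) (Bool.rec (motive := fun _ => List ℕ) (Bool.rec (motive := fun _ => List ℕ) (Bool.rec (motive := fun _ => List ℕ) (rw5776) (rw5777) (Nat.ble 5777 i)) (Bool.rec (motive := fun _ => List ℕ) (rw5778) (rw5779) (Nat.ble 5779 i)) (Nat.ble 5778 i)) (Bool.rec (motive := fun _ => List ℕ) (Bool.rec (motive := fun _ => List ℕ) (rw5780) (rw5781) (Nat.ble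 5781 i)) (Bool.rec (motive := fun _ => List ℕ) (rw5782) (rw5783) (Nat.ble 5783 i)) (Nat.ble 5782 i)) (Nat.ble 5780 i)) (Bool.rec (motive := fun _ => List ℕ) (Bool.rec (motive := fun _ => List ℕ) (Bool.rec (motive := fun _ => List ℕ) (rw5784) (rw5785) (Nat.ble 5785 i)) (Bool.rec (motive := fun _ => List ℕ) (rw5786) (rw5787) (Nat.ble 5787 i)) (Nat.ble 5786 i)) (Bool.rec (motive := fun _ => List ℕ) (Bool.rec (motive := fun _ => List ℕ) (rw5788) (rw5789) (Nat.ble 5789 i)) (Bool.rec (motive := fun _ => List ℕ) (rw5790) (rw5791) (Nat.ble 5791 i)) (Nat.ble 5790 i)) (Nat.ble 5788 i)) (Nat.ble 5784 i)) (Nat.ble 5776 i)) (Bool.rec (motive := fun _ => List ℕ) (Bool.rec (motive := fun _ => List ℕ) (Bool.rec (motive := fun _ => List ℕ) (Bool.rec (motive := fun _ => List ℕ) (Bool.rec (motive := fun _ => List ℕ) (rw5792)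 (rw5793) (Nat.ble 5793 i)) (Bool.rec (motive := fun _ => List ℕ) (rw5794) (rw5795) (Nat.ble 5795 i)) (Nat.ble 5794 i)) (Bool.rec (motive := fun _ => List ℕ) (Bool.rec (motive := fun _ => List ℕ) (rw5796) (rw5797) (Nat.ble 5797 i)) (Bool.rec (motive := fun _ => List ℕ) (rw5798) (rw5799) (Nat.ble 5799 i)) (Nat.ble 5798 i)) (Nat.ble 5796 i)) (Bool.rec (motive := fun _ => List ℕ) (Bool.rec (motive := fun _ => List ℕ) (Bool.rec (motive := fun _ => List ℕ) (rw5800) (rw5801) (Nat.ble 5801 i)) (Bool.rec (motive := fun _ => List ℕ) (rw5802) (rw5803) (Nat.ble 5803 i)) (Nat.ble 5802 i)) (Bool.rec (motive := fun _ => List ℕ) (Bool.rec (motive := fun _ => List ℕ) (rw5804) (rw5805) (Nat.ble 5805 i)) (Bool.rec (motive := fun _ => List ℕ) (rw5806) (rw5807) (Nat.ble 5807 i)) (Nat.ble 5806 i)) (Nat.ble 5804 i)) (Nat.ble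 5800 i)) (Bool.rec (motive := fun _ => List ℕ) (Bool.rec (motive := fun _ => List ℕ) (Bool.rec (motive := fun _ => List ℕ) (Bool.rec (motive := fun _ => List ℕ) (rw5808) (rw5809) (Nat.ble 5809 i)) (Bool.rec (motive := fun _ => List ℕ) (rw5810) (rw5811) (Nat.ble 5811 i)) (Nat.ble 5810 i)) (Bool.rec (motive := fun _ => List ℕ) (Bool.rec (motive := fun _ => List ℕ) (rw5812) (rw5813) (Nat.ble 5813 i)) (Bool.rec (motive := fun _ => List ℕ) (rw5814) (rw5815) (Nat.ble 5815 i)) (Nat.ble 5814 i)) (Nat.ble 5812 i)) (Bool.rec (motive := fun _ => List ℕ) (Bool.rec (motive := fun _ => List ℕ) (Bool.rec (motive := fun _ => List ℕ) (rw5816) (rw5817) (Nat.ble 5817 i)) (Bool.rec (motive := fun _ => List ℕ) (rw5818) (rw5819) (Nat.ble 5819 i)) (Nat.ble 5818 i)) (Bool.rec (motive := fun _ => List ℕ) (Bool.rec (motive :=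 fun _ => List ℕ) (rw5820) (rw5821) (Nat.ble 5821 i)) (Bool.rec (motive := fun _ => List ℕ) (rw5822) (rw5823) (Nat.ble 5823 i)) (Nat.ble 5822 i)) (Nat.ble 5820 i)) (Nat.ble 5816 i)) (Nat.ble 5808 i)) (Nat.ble 5792 i)
noncomputable def rwb91 (i : ℕ) : List ℕ := Bool.rec (motive := fun _ => List ℕ) (Bool.rec (motive := fun _ => List ℕ) (Bool.rec (motive := fun _ => List ℕ) (Bool.rec (motive := fun _ => List ℕ) (Bool.rec (motive := fun _ => List ℕ) (Bool.rec (motive := fun _ => List ℕ) (rw5824) (rw5825) (Nat.ble 5825 i)) (Bool.rec (motive := fun _ => List ℕ) (rw5826) (rw5827) (Nat.ble 5827 i)) (Nat.ble 5826 i)) (Bool.rec (motive := fun _ => List ℕ) (Bool.rec (motive := fun _ => List ℕ) (rw5828) (rw5829) (Nat.ble 5829 i)) (Bool.rec (motive := fun _ => List ℕ) (rw5830) (rw5831) (Nat.ble 5831 i)) (Nat.ble 5830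 i)) (Nat.ble 5828 i)) (Bool.rec (motive := fun _ => List ℕ) (Bool.rec (motive := fun _ => List ℕ) (Bool.rec (motive := fun _ => List ℕ) (rw5832) (rw5833) (Nat.ble 5833 i)) (Bool.rec (motive := fun _ => List ℕ) (rw5834) (rw5835) (Nat.ble 5835 i)) (Nat.ble 5834 i)) (Bool.rec (motive := fun _ => List ℕ) (Bool.rec (motive := fun _ => List ℕ) (rw5836) (rw5837) (Nat.ble 5837 i)) (Bool.rec (motive := fun _ => List ℕ) (rw5838) (rw5839) (Nat.ble 5839 i)) (Nat.ble 5838 i)) (Nat.ble 5836 i)) (Nat.ble 5832 i)) (Bool.rec (motive := fun _ => List ℕ) (Bool.rec (motive := fun _ => List ℕ) (Bool.rec (motive := fun _ => List ℕ) (Bool.rec (motive := fun _ => List ℕ) (rw5840) (rw5841) (Nat.ble 5841 i)) (Bool.rec (motive := fun _ => List ℕ) (rw5842) (rw5843) (Nat.ble 5843 i)) (Nat.ble 5842 i)) (Bool.rec (motive := fun _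 => List ℕ) (Bool.rec (motive := fun _ => List ℕ) (rw5844) (rw5845) (Nat.ble 5845 i)) (Bool.rec (motive := fun _ => List ℕ) (rw5846) (rw5847) (Nat.ble 5847 i)) (Nat.ble 5846 i)) (Nat.ble 5844 i)) (Bool.rec (motive := fun _ => List ℕ) (Bool.rec (motive := fun _ => List ℕ) (Bool.rec (motive := fun _ => List ℕ) (rw5848) (rw5849) (Nat.ble 5849 i)) (Bool.rec (motive := fun _ => List ℕ) (rw5850) (rw5851) (Nat.ble 5851 i)) (Nat.ble 5850 i)) (Bool.rec (motive := fun _ => List ℕ) (Bool.rec (motive := fun _ => List ℕ) (rw5852) (rw5853) (Nat.ble 5853 i)) (Bool.rec (motive := fun _ => List ℕ) (rw5854) (rw5855) (Nat.ble 5855 i)) (Nat.ble 5854 i)) (Nat.ble 5852 i)) (Nat.ble 5848 i)) (Nat.ble 5840 i)) (Bool.rec (motive := fun _ => List ℕ) (Bool.rec (motive := fun _ => List ℕ) (Bool.rec (motive := fun _ => List ℕ) (Bool.rec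 (motive := fun _ => List ℕ) (Bool.rec (motive := fun _ => List ℕ) (rw5856) (rw5857) (Nat.ble 5857 i)) (Bool.rec (motive := fun _ => List ℕ) (rw5858) (rw5859) (Nat.ble 5859 i)) (Nat.ble 5858 i)) (Bool.rec (motive := fun _ => List ℕ) (Bool.rec (motive := fun _ => List ℕ) (rw5860) (rw5861) (Nat.ble 5861 i)) (Bool.rec (motive := fun _ => List ℕ) (rw5862) (rw5863) (Nat.ble 5863 i)) (Nat.ble 5862 i)) (Nat.ble 5860 i)) (Bool.rec (motive := fun _ => List ℕ) (Bool.rec (motive := fun _ => List ℕ) (Bool.rec (motive := fun _ => List ℕ) (rw5864) (rw5865) (Nat.ble 5865 i)) (Bool.rec (motive := fun _ => List ℕ) (rw5866) (rw5867) (Nat.ble 5867 i)) (Nat.ble 5866 i)) (Bool.rec (motive := fun _ => List ℕ) (Bool.rec (motive := fun _ => List ℕ) (rw5868) (rw5869) (Nat.ble 5869 i)) (Bool.rec (motive := fun _ => List ℕ) (rw5870)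 (rw5871) (Nat.ble 5871 i)) (Nat.ble 5870 i)) (Nat.ble 5868 i)) (Nat.ble 5864 i)) (Bool.rec (motive := fun _ => List ℕ) (Bool.rec (motive := fun _ => List ℕ) (Bool.rec (motive := fun _ => List ℕ) (Bool.rec (motive := fun _ => List ℕ) (rw5872) (rw5873) (Nat.ble 5873 i)) (Bool.rec (motive := fun _ => List ℕ) (rw5874) (rw5875) (Nat.ble 5875 i)) (Nat.ble 5874 i)) (Bool.rec (motive := fun _ => List ℕ) (Bool.rec (motive := fun _ => List ℕ) (rw5876) (rw5877) (Nat.ble 5877 i)) (Bool.rec (motive := fun _ => List ℕ) (rw5878) (rw5879) (Nat.ble 5879 i)) (Nat.ble 5878 i)) (Nat.ble 5876 i)) (Bool.rec (motive := fun _ => List ℕ) (Bool.rec (motive := fun _ => List ℕ) (Bool.rec (motive := fun _ => List ℕ) (rw5880) (rw5881) (Nat.ble 5881 i)) (Bool.rec (motive := fun _ => List ℕ) (rw5882) (rw5883) (Nat.ble 5883 i)) (Nat.ble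 5882 i)) (Bool.rec (motive := fun _ => List ℕ) (Bool.rec (motive := fun _ => List ℕ) (rw5884) (rw5885) (Nat.ble 5885 i)) (Bool.rec (motive := fun _ => List ℕ) (rw5886) (rw5887) (Nat.ble 5887 i)) (Nat.ble 5886 i)) (Nat.ble 5884 i)) (Nat.ble 5880 i)) (Nat.ble 5872 i)) (Nat.ble 5856 i)
noncomputable def rwb92 (i : ℕ) : List ℕ := Bool.rec (motive := fun _ => List ℕ) (Bool.rec (motive := fun _ => List ℕ) (Bool.rec (motive := fun _ => List ℕ) (Bool.rec (motive := fun _ => List ℕ) (Bool.rec (motive := fun _ => List ℕ) (Bool.rec (motive := fun _ => List ℕ) (rw5888) (rw5889) (Nat.ble 5889 i)) (Bool.rec (motive := fun _ => List ℕ) (rw5890) (rw5891) (Nat.ble 5891 i)) (Nat.ble 5890 i)) (Bool.rec (motive := fun _ => List ℕ) (Bool.rec (motive := fun _ => List ℕ) (rw5892) (rw5893) (Nat.ble 5893 i)) (Bool.rec (motive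 := fun _ => List ℕ) (rw5894) (rw5895) (Nat.ble 5895 i)) (Nat.ble 5894 i)) (Nat.ble 5892 i)) (Bool.rec (motive := fun _ => List ℕ) (Bool.rec (motive := fun _ => List ℕ) (Bool.rec (motive := fun _ => List ℕ) (rw5896) (rw5897) (Nat.ble 5897 i)) (Bool.rec (motive := fun _ => List ℕ) (rw5898) (rw5899) (Nat.ble 5899 i)) (Nat.ble 5898 i)) (Bool.rec (motive := fun _ => List ℕ) (Bool.rec (motive := fun _ => List ℕ) (rw5900) (rw5901) (Nat.ble 5901 i)) (Bool.rec (motive := fun _ => List ℕ) (rw5902) (rw5903) (Nat.ble 5903 i)) (Nat.ble 5902 i)) (Nat.ble 5900 i)) (Nat.ble 5896 i)) (Bool.rec (motive := fun _ => List ℕ) (Bool.rec (motive := fun _ => List ℕ) (Bool.rec (motive := fun _ => List ℕ) (Bool.rec (motive := fun _ => List ℕ) (rw5904) (rw5905) (Nat.ble 5905 i)) (Bool.rec (motive := fun _ => List ℕ) (rw5906) (rw5907)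 (Nat.ble 5907 i)) (Nat.ble 5906 i)) (Bool.rec (motive := fun _ => List ℕ) (Bool.rec (motive := fun _ => List ℕ) (rw5908) (rw5909) (Nat.ble 5909 i)) (Bool.rec (motive := fun _ => List ℕ) (rw5910) (rw5911) (Nat.ble 5911 i)) (Nat.ble 5910 i)) (Nat.ble 5908 i)) (Bool.rec (motive := fun _ => List ℕ) (Bool.rec (motive := fun _ => List ℕ) (Bool.rec (motive := fun _ => List ℕ) (rw5912) (rw5913) (Nat.ble 5913 i)) (Bool.rec (motive := fun _ => List ℕ) (rw5914) (rw5915) (Nat.ble 5915 i)) (Nat.ble 5914 i)) (Bool.rec (motive := fun _ => List ℕ) (Bool.rec (motive := fun _ => List ℕ) (rw5916) (rw5917) (Nat.ble 5917 i)) (Bool.rec (motive := fun _ => List ℕ) (rw5918) (rw5919) (Nat.ble 5919 i)) (Nat.ble 5918 i)) (Nat.ble 5916 i)) (Nat.ble 5912 i)) (Nat.ble 5904 i)) (Bool.rec (motive := fun _ => List ℕ) (Bool.rec (motive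 := fun _ => List ℕ) (Bool.rec (motive := fun _ => List ℕ) (Bool.rec (motive := fun _ => List ℕ) (Bool.rec (motive := fun _ => List ℕ) (rw5920) (rw5921) (Nat.ble 5921 i)) (Bool.rec (motive := fun _ => List ℕ) (rw5922) (rw5923) (Nat.ble 5923 i)) (Nat.ble 5922 i)) (Bool.rec (motive := fun _ => List ℕ) (Bool.rec (motive := fun _ => List ℕ) (rw5924) (rw5925) (Nat.ble 5925 i)) (Bool.rec (motive := fun _ => List ℕ) (rw5926) (rw5927) (Nat.ble 5927 i)) (Nat.ble 5926 i)) (Nat.ble 5924 i)) (Bool.rec (motive := fun _ => List ℕ) (Bool.rec (motive := fun _ => List ℕ) (Bool.rec (motive := fun _ => List ℕ) (rw5928) (rw5929) (Nat.ble 5929 i)) (Bool.rec (motive := fun _ => List ℕ) (rw5930) (rw5931) (Nat.ble 5931 i)) (Nat.ble 5930 i)) (Bool.rec (motive := fun _ => List ℕ) (Bool.rec (motive := fun _ => List ℕ) (rw5932)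 (rw5933) (Nat.ble 5933 i)) (Bool.rec (motive := fun _ => List ℕ) (rw5934) (rw5935) (Nat.ble 5935 i)) (Nat.ble 5934 i)) (Nat.ble 5932 i)) (Nat.ble 5928 i)) (Bool.rec (motive := fun _ => List ℕ) (Bool.rec (motive := fun _ => List ℕ) (Bool.rec (motive := fun _ => List ℕ) (Bool.rec (motive := fun _ => List ℕ) (rw5936) (rw5937) (Nat.ble 5937 i)) (Bool.rec (motive := fun _ => List ℕ) (rw5938) (rw5939) (Nat.ble 5939 i)) (Nat.ble 5938 i)) (Bool.rec (motive := fun _ => List ℕ) (Bool.rec (motive := fun _ => List ℕ) (rw5940) (rw5941) (Nat.ble 5941 i)) (Bool.rec (motive := fun _ => List ℕ) (rw5942) (rw5943) (Nat.ble 5943 i)) (Nat.ble 5942 i)) (Nat.ble 5940 i)) (Bool.rec (motive := fun _ => List ℕ) (Bool.rec (motive := fun _ => List ℕ) (Bool.rec (motive := fun _ => List ℕ) (rw5944) (rw5945) (Nat.ble 5945 i)) (Bool.rec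 (motive := fun _ => List ℕ) (rw5946) (rw5947) (Nat.ble 5947 i)) (Nat.ble 5946 i)) (Bool.rec (motive := fun _ => List ℕ) (Bool.rec (motive := fun _ => List ℕ) (rw5948) (rw5949) (Nat.ble 5949 i)) (Bool.rec (motive := fun _ => List ℕ) (rw5950) (rw5951) (Nat.ble 5951 i)) (Nat.ble 5950 i)) (Nat.ble 5948 i)) (Nat.ble 5944 i)) (Nat.ble 5936 i)) (Nat.ble 5920 i)
noncomputable def rwb93 (i : ℕ) : List ℕ := Bool.rec (motive := fun _ => List ℕ) (Bool.rec (motive := fun _ => List ℕ) (Bool.rec (motive := fun _ => List ℕ) (Bool.rec (motive := fun _ => List ℕ) (Bool.rec (motive := fun _ => List ℕ) (Bool.rec (motive := fun _ => List ℕ) (rw5952) (rw5953) (Nat.ble 5953 i)) (Bool.rec (motive := fun _ => List ℕ) (rw5954) (rw5955) (Nat.ble 5955 i)) (Nat.ble 5954 i)) (Bool.rec (motive := fun _ => List ℕ) (Bool.rec (motive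 := fun _ => List ℕ) (rw5956) (rw5957) (Nat.ble 5957 i)) (Bool.rec (motive := fun _ => List ℕ) (rw5958) (rw5959) (Nat.ble 5959 i)) (Nat.ble 5958 i)) (Nat.ble 5956 i)) (Bool.rec (motive := fun _ => List ℕ) (Bool.rec (motive := fun _ => List ℕ) (Bool.rec (motive := fun _ => List ℕ) (rw5960) (rw5961) (Nat.ble 5961 i)) (Bool.rec (motive := fun _ => List ℕ) (rw5962) (rw5963) (Nat.ble 5963 i)) (Nat.ble 5962 i)) (Bool.rec (motive := fun _ => List ℕ) (Bool.rec (motive := fun _ => List ℕ) (rw5964) (rw5965) (Nat.ble 5965 i)) (Bool.rec (motive := fun _ => List ℕ) (rw5966) (rw5967) (Nat.ble 5967 i)) (Nat.ble 5966 i)) (Nat.ble 5964 i)) (Nat.ble 5960 i)) (Bool.rec (motive := fun _ => List ℕ) (Bool.rec (motive := fun _ => List ℕ) (Bool.rec (motive := fun _ => List ℕ) (Bool.rec (motive := fun _ => List ℕ) (rw5968) (rw5969)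 (Nat.ble 5969 i)) (Bool.rec (motive := fun _ => List ℕ) (rw5970) (rw5971) (Nat.ble 5971 i)) (Nat.ble 5970 i)) (Bool.rec (motive := fun _ => List ℕ) (Bool.rec (motive := fun _ => List ℕ) (rw5972) (rw5973) (Nat.ble 5973 i)) (Bool.rec (motive := fun _ => List ℕ) (rw5974) (rw5975) (Nat.ble 5975 i)) (Nat.ble 5974 i)) (Nat.ble 5972 i)) (Bool.rec (motive := fun _ => List ℕ) (Bool.rec (motive := fun _ => List ℕ) (Bool.rec (motive := fun _ => List ℕ) (rw5976) (rw5977) (Nat.ble 5977 i)) (Bool.rec (motive := fun _ => List ℕ) (rw5978) (rw5979) (Nat.ble 5979 i)) (Nat.ble 5978 i)) (Bool.rec (motive := fun _ => List ℕ) (Bool.rec (motive := fun _ => List ℕ) (rw5980) (rw5981) (Nat.ble 5981 i)) (Bool.rec (motive := fun _ => List ℕ) (rw5982) (rw5983) (Nat.ble 5983 i)) (Nat.ble 5982 i)) (Nat.ble 5980 i)) (Nat.ble 5976 i))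 (Nat.ble 5968 i)) (Bool.rec (motive := fun _ => List ℕ) (Bool.rec (motive := fun _ => List ℕ) (Bool.rec (motive := fun _ => List ℕ) (Bool.rec (motive := fun _ => List ℕ) (Bool.rec (motive := fun _ => List ℕ) (rw5984) (rw5985) (Nat.ble 5985 i)) (Bool.rec (motive := fun _ => List ℕ) (rw5986) (rw5987) (Nat.ble 5987 i)) (Nat.ble 5986 i)) (Bool.rec (motive := fun _ => List ℕ) (Bool.rec (motive := fun _ => List ℕ) (rw5988) (rw5989) (Nat.ble 5989 i)) (Bool.rec (motive := fun _ => List ℕ) (rw5990) (rw5991) (Nat.ble 5991 i)) (Nat.ble 5990 i)) (Nat.ble 5988 i)) (Bool.rec (motive := fun _ => List ℕ) (Bool.rec (motive := fun _ => List ℕ) (Bool.rec (motive := fun _ => List ℕ) (rw5992) (rw5993) (Nat.ble 5993 i)) (Bool.rec (motive := fun _ => List ℕ) (rw5994) (rw5995) (Nat.ble 5995 i)) (Nat.ble 5994 i)) (Bool.rec (motive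 := fun _ => List ℕ) (Bool.rec (motive := fun _ => List ℕ) (rw5996) (rw5997) (Nat.ble 5997 i)) (Bool.rec (motive := fun _ => List ℕ) (rw5998) (rw5999) (Nat.ble 5999 i)) (Nat.ble 5998 i)) (Nat.ble 5996 i)) (Nat.ble 5992 i)) (Bool.rec (motive := fun _ => List ℕ) (Bool.rec (motive := fun _ => List ℕ) (Bool.rec (motive := fun _ => List ℕ) (Bool.rec (motive := fun _ => List ℕ) (rw6000) (rw6001) (Nat.ble 6001 i)) (Bool.rec (motive := fun _ => List ℕ) (rw6002) (rw6003) (Nat.ble 6003 i)) (Nat.ble 6002 i)) (Bool.rec (motive := fun _ => List ℕ) (Bool.rec (motive := fun _ => List ℕ) (rw6004) (rw6005) (Nat.ble 6005 i)) (Bool.rec (motive := fun _ => List ℕ) (rw6006) (rw6007) (Nat.ble 6007 i)) (Nat.ble 6006 i)) (Nat.ble 6004 i)) (Bool.rec (motive := fun _ => List ℕ) (Bool.rec (motive := fun _ => List ℕ) (Bool.rec (motive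 := fun _ => List ℕ) (rw6008) (rw6009) (Nat.ble 6009 i)) (Bool.rec (motive := fun _ => List ℕ) (rw6010) (rw6011) (Nat.ble 6011 i)) (Nat.ble 6010 i)) (Bool.rec (motive := fun _ => List ℕ) (Bool.rec (motive := fun _ => List ℕ) (rw6012) (rw6013) (Nat.ble 6013 i)) (Bool.rec (motive := fun _ => List ℕ) (rw6014) (rw6015) (Nat.ble 6015 i)) (Nat.ble 6014 i)) (Nat.ble 6012 i)) (Nat.ble 6008 i)) (Nat.ble 6000 i)) (Nat.ble 5984 i)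
noncomputable def rwb94 (i : ℕ) : List ℕ := Bool.rec (motive := fun _ => List ℕ) (Bool.rec (motive := fun _ => List ℕ) (Bool.rec (motive := fun _ => List ℕ) (Bool.rec (motive := fun _ => List ℕ) (Bool.rec (motive := fun _ => List ℕ) (Bool.rec (motive := fun _ => List ℕ) (rw6016) (rw6017) (Nat.ble 6017 i)) (Bool.rec (motive := fun _ => List ℕ) (rw6018) (rw6019) (Nat.ble 6019 i)) (Nat.ble 6018 i)) (Bool.rec (motive := fun _ => List ℕ) (Bool.rec (motive := fun _ => List ℕ) (rw6020) (rw6021) (Nat.ble 6021 i)) (Bool.rec (motive := fun _ => List ℕ) (rw6022) (rw6023) (Nat.ble 6023 i)) (Nat.ble 6022 i)) (Nat.ble 6020 i)) (Bool.rec (motive := fun _ => List ℕ) (Bool.rec (motive := fun _ => List ℕ) (Bool.rec (motive := fun _ => List ℕ) (rw6024) (rw6025) (Nat.ble 6025 i)) (Bool.rec (motive := fun _ => List ℕ) (rw6026)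 (rw6027) (Nat.ble 6027 i)) (Nat.ble 6026 i)) (Bool.rec (motive := fun _ => List ℕ) (Bool.rec (motive := fun _ => List ℕ) (rw6028) (rw6029) (Nat.ble 6029 i)) (Bool.rec (motive := fun _ => List ℕ) (rw6030) (rw6031) (Nat.ble 6031 i)) (Nat.ble 6030 i)) (Nat.ble 6028 i)) (Nat.ble 6024 i)) (Bool.rec (motive := fun _ => List ℕ) (Bool.rec (motive := fun _ => List ℕ) (Bool.rec (motive := fun _ => List ℕ) (Bool.rec (motive := fun _ => List ℕ) (rw6032) (rw6033) (Nat.ble 6033 i)) (Bool.rec (motive := fun _ => List ℕ) (rw6034) (rw6035) (Nat.ble 6035 i)) (Nat.ble 6034 i)) (Bool.rec (motive := fun _ => List ℕ) (Bool.rec (motive := fun _ => List ℕ) (rw6036) (rw6037) (Nat.ble 6037 i)) (Bool.rec (motive := fun _ => List ℕ) (rw6038) (rw6039) (Nat.ble 6039 i)) (Nat.ble 6038 i)) (Nat.ble 6036 i)) (Bool.rec (motive := fun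 _ => List ℕ) (Bool.rec (motive := fun _ => List ℕ) (Bool.rec (motive := fun _ => List ℕ) (rw6040) (rw6041) (Nat.ble 6041 i)) (Bool.rec (motive := fun _ => List ℕ) (rw6042) (rw6043) (Nat.ble 6043 i)) (Nat.ble 6042 i)) (Bool.rec (motive := fun _ => List ℕ) (Bool.rec (motive := fun _ => List ℕ) (rw6044) (rw6045) (Nat.ble 6045 i)) (Bool.rec (motive := fun _ => List ℕ) (rw6046) (rw6047) (Nat.ble 6047 i)) (Nat.ble 6046 i)) (Nat.ble 6044 i)) (Nat.ble 6040 i)) (Nat.ble 6032 i)) (Bool.rec (motive := fun _ => List ℕ) (Bool.rec (motive := fun _ => List ℕ) (Bool.rec (motive := fun _ => List ℕ) (Bool.rec (motive := fun _ => List ℕ) (Bool.rec (motive := fun _ => List ℕ) (rw6048) (rw6049) (Nat.ble 6049 i)) (Bool.rec (motive := fun _ => List ℕ) (rw6050) (rw6051) (Nat.ble 6051 i)) (Nat.ble 6050 i)) (Bool.rec (motive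 := fun _ => List ℕ) (Bool.rec (motive := fun _ => List ℕ) (rw6052) (rw6053) (Nat.ble 6053 i)) (Bool.rec (motive := fun _ => List ℕ) (rw6054) (rw6055) (Nat.ble 6055 i)) (Nat.ble 6054 i)) (Nat.ble 6052 i)) (Bool.rec (motive := fun _ => List ℕ) (Bool.rec (motive := fun _ => List ℕ) (Bool.rec (motive := fun _ => List ℕ) (rw6056) (rw6057) (Nat.ble 6057 i)) (Bool.rec (motive := fun _ => List ℕ) (rw6058) (rw6059) (Nat.ble 6059 i)) (Nat.ble 6058 i)) (Bool.rec (motive := fun _ => List ℕ) (Bool.rec (motive := fun _ => List ℕ) (rw6060) (rw6061) (Nat.ble 6061 i)) (Bool.rec (motive := fun _ => List ℕ) (rw6062) (rw6063) (Nat.ble 6063 i)) (Nat.ble 6062 i)) (Nat.ble 6060 i)) (Nat.ble 6056 i)) (Bool.rec (motive := fun _ => List ℕ) (Bool.rec (motive := fun _ => List ℕ) (Bool.rec (motive := fun _ => List ℕ) (Bool.rec (motive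 := fun _ => List ℕ) (rw6064) (rw6065) (Nat.ble 6065 i)) (Bool.rec (motive := fun _ => List ℕ) (rw6066) (rw6067) (Nat.ble 6067 i)) (Nat.ble 6066 i)) (Bool.rec (motive := fun _ => List ℕ) (Bool.rec (motive := fun _ => List ℕ) (rw6068) (rw6069) (Nat.ble 6069 i)) (Bool.rec (motive := fun _ => List ℕ) (rw6070) (rw6071) (Nat.ble 6071 i)) (Nat.ble 6070 i)) (Nat.ble 6068 i)) (Bool.rec (motive := fun _ => List ℕ) (Bool.rec (motive := fun _ => List ℕ) (Bool.rec (motive := fun _ => List ℕ) (rw6072) (rw6073) (Nat.ble 6073 i)) (Bool.rec (motive := fun _ => List ℕ) (rw6074) (rw6075) (Nat.ble 6075 i)) (Nat.ble 6074 i)) (Bool.rec (motive := fun _ => List ℕ) (Bool.rec (motive := fun _ => List ℕ) (rw6076) (rw6077) (Nat.ble 6077 i)) (Bool.rec (motive := fun _ => List ℕ) (rw6078) (rw6079) (Nat.ble 6079 i)) (Nat.ble 6078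 i)) (Nat.ble 6076 i)) (Nat.ble 6072 i)) (Nat.ble 6064 i)) (Nat.ble 6048 i)
noncomputable def rwb95 (i : ℕ) : List ℕ := Bool.rec (motive := fun _ => List ℕ) (Bool.rec (motive := fun _ => List ℕ) (Bool.rec (motive := fun _ => List ℕ) (Bool.rec (motive := fun _ => List ℕ) (Bool.rec (motive := fun _ => List ℕ) (Bool.rec (motive := fun _ => List ℕ) (rw6080) (rw6081) (Nat.ble 6081 i)) (Bool.rec (motive := fun _ => List ℕ) (rw6082) (rw6083) (Nat.ble 6083 i)) (Nat.ble 6082 i)) (Bool.rec (motive := fun _ => List ℕ) (Bool.rec (motive := fun _ => List ℕ) (rw6084) (rw6085) (Nat.ble 6085 i)) (Bool.rec (motive := fun _ => List ℕ) (rw6086) (rw6087) (Nat.ble 6087 i)) (Nat.ble 6086 i)) (Nat.ble 6084 i)) (Bool.rec (motive := fun _ => List ℕ) (Bool.rec (motive := fun _ => List ℕ) (Bool.rec (motive := fun _ => List ℕ) (rw6088)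 (rw6089) (Nat.ble 6089 i)) (Bool.rec (motive := fun _ => List ℕ) (rw6090) (rw6091) (Nat.ble 6091 i)) (Nat.ble 6090 i)) (Bool.rec (motive := fun _ => List ℕ) (Bool.rec (motive := fun _ => List ℕ) (rw6092) (rw6093) (Nat.ble 6093 i)) (Bool.rec (motive := fun _ => List ℕ) (rw6094) (rw6095) (Nat.ble 6095 i)) (Nat.ble 6094 i)) (Nat.ble 6092 i)) (Nat.ble 6088 i)) (Bool.rec (motive := fun _ => List ℕ) (Bool.rec (motive := fun _ => List ℕ) (Bool.rec (motive := fun _ => List ℕ) (Bool.rec (motive := fun _ => List ℕ) (rw6096) (rw6097) (Nat.ble 6097 i)) (Bool.rec (motive := fun _ => List ℕ) (rw6098) (rw6099) (Nat.ble 6099 i)) (Nat.ble 6098 i)) (Bool.rec (motive := fun _ => List ℕ) (Bool.rec (motive := fun _ => List ℕ) (rw6100) (rw6101) (Nat.ble 6101 i)) (Bool.rec (motive := fun _ => List ℕ) (rw6102) (rw6103) (Nat.ble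 6103 i)) (Nat.ble 6102 i)) (Nat.ble 6100 i)) (Bool.rec (motive := fun _ => List ℕ) (Bool.rec (motive := fun _ => List ℕ) (Bool.rec (motive := fun _ => List ℕ) (rw6104) (rw6105) (Nat.ble 6105 i)) (Bool.rec (motive := fun _ => List ℕ) (rw6106) (rw6107) (Nat.ble 6107 i)) (Nat.ble 6106 i)) (Bool.rec (motive := fun _ => List ℕ) (Bool.rec (motive := fun _ => List ℕ) (rw6108) (rw6109) (Nat.ble 6109 i)) (Bool.rec (motive := fun _ => List ℕ) (rw6110) (rw6111) (Nat.ble 6111 i)) (Nat.ble 6110 i)) (Nat.ble 6108 i)) (Nat.ble 6104 i)) (Nat.ble 6096 i)) (Bool.rec (motive := fun _ => List ℕ) (Bool.rec (motive := fun _ => List ℕ) (Bool.rec (motive := fun _ => List ℕ) (Bool.rec (motive := fun _ => List ℕ) (Bool.rec (motive := fun _ => List ℕ) (rw6112) (rw6113) (Nat.ble 6113 i)) (Bool.rec (motive := fun _ => List ℕ) (rw6114)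 (rw6115) (Nat.ble 6115 i)) (Nat.ble 6114 i)) (Bool.rec (motive := fun _ => List ℕ) (Bool.rec (motive := fun _ => List ℕ) (rw6116) (rw6117) (Nat.ble 6117 i)) (Bool.rec (motive := fun _ => List ℕ) (rw6118) (rw6119) (Nat.ble 6119 i)) (Nat.ble 6118 i)) (Nat.ble 6116 i)) (Bool.rec (motive := fun _ => List ℕ) (Bool.rec (motive := fun _ => List ℕ) (Bool.rec (motive := fun _ => List ℕ) (rw6120) (rw6121) (Nat.ble 6121 i)) (Bool.rec (motive := fun _ => List ℕ) (rw6122) (rw6123) (Nat.ble 6123 i)) (Nat.ble 6122 i)) (Bool.rec (motive := fun _ => List ℕ) (Bool.rec (motive := fun _ => List ℕ) (rw6124) (rw6125) (Nat.ble 6125 i)) (Bool.rec (motive := fun _ => List ℕ) (rw6126) (rw6127) (Nat.ble 6127 i)) (Nat.ble 6126 i)) (Nat.ble 6124 i)) (Nat.ble 6120 i)) (Bool.rec (motive := fun _ => List ℕ) (Bool.rec (motive := fun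 _ => List ℕ) (Bool.rec (motive := fun _ => List ℕ) (Bool.rec (motive := fun _ => List ℕ) (rw6128) (rw6129) (Nat.ble 6129 i)) (Bool.rec (motive := fun _ => List ℕ) (rw6130) (rw6131) (Nat.ble 6131 i)) (Nat.ble 6130 i)) (Bool.rec (motive := fun _ => List ℕ) (Bool.rec (motive := fun _ => List ℕ) (rw6132) (rw6133) (Nat.ble 6133 i)) (Bool.rec (motive := fun _ => List ℕ) (rw6134) (rw6135) (Nat.ble 6135 i)) (Nat.ble 6134 i)) (Nat.ble 6132 i)) (Bool.rec (motive := fun _ => List ℕ) (Bool.rec (motive := fun _ => List ℕ) (Bool.rec (motive := fun _ => List ℕ) (rw6136) (rw6137) (Nat.ble 6137 i)) (Bool.rec (motive := fun _ => List ℕ) (rw6138) (rw6139) (Nat.ble 6139 i)) (Nat.ble 6138 i)) (Bool.rec (motive := fun _ => List ℕ) (Bool.rec (motive := fun _ => List ℕ) (rw6140) (rw6141) (Nat.ble 6141 i)) (Bool.rec (motive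 := fun _ => List ℕ) (rw6142) (rw6143) (Nat.ble 6143 i)) (Nat.ble 6142 i)) (Nat.ble 6140 i)) (Nat.ble 6136 i)) (Nat.ble 6128 i)) (Nat.ble 6112 i)
noncomputable def rwb96 (i : ℕ) : List ℕ := Bool.rec (motive := fun _ => List ℕ) (Bool.rec (motive := fun _ => List ℕ) (Bool.rec (motive := fun _ => List ℕ) (Bool.rec (motive := fun _ => List ℕ) (Bool.rec (motive := fun _ => List ℕ) (Bool.rec (motive := fun _ => List ℕ) (rw6144) (rw6145) (Nat.ble 6145 i)) (Bool.rec (motive := fun _ => List ℕ) (rw6146) (rw6147) (Nat.ble 6147 i)) (Nat.ble 6146 i)) (Bool.rec (motive := fun _ => List ℕ) (Bool.rec (motive := fun _ => List ℕ) (rw6148) (rw6149) (Nat.ble 6149 i)) (Bool.rec (motive := fun _ => List ℕ) (rw6150) (rw6151) (Nat.ble 6151 i)) (Nat.ble 6150 i)) (Nat.ble 6148 i)) (Bool.rec (motive := fun _ => List ℕ) (Bool.rec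 (motive := fun _ => List ℕ) (Bool.rec (motive := fun _ => List ℕ) (rw6152) (rw6153) (Nat.ble 6153 i)) (Bool.rec (motive := fun _ => List ℕ) (rw6154) (rw6155) (Nat.ble 6155 i)) (Nat.ble 6154 i)) (Bool.rec (motive := fun _ => List ℕ) (Bool.rec (motive := fun _ => List ℕ) (rw6156) (rw6157) (Nat.ble 6157 i)) (Bool.rec (motive := fun _ => List ℕ) (rw6158) (rw6159) (Nat.ble 6159 i)) (Nat.ble 6158 i)) (Nat.ble 6156 i)) (Nat.ble 6152 i)) (Bool.rec (motive := fun _ => List ℕ) (Bool.rec (motive := fun _ => List ℕ) (Bool.rec (motive := fun _ => List ℕ) (Bool.rec (motive := fun _ => List ℕ) (rw6160) (rw6161) (Nat.ble 6161 i)) (Bool.rec (motive := fun _ => List ℕ) (rw6162) (rw6163) (Nat.ble 6163 i)) (Nat.ble 6162 i)) (Bool.rec (motive := fun _ => List ℕ) (Bool.rec (motive := fun _ => List ℕ) (rw6164) (rw6165) (Nat.ble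 6165 i)) (Bool.rec (motive := fun _ => List ℕ) (rw6166) (rw6167) (Nat.ble 6167 i)) (Nat.ble 6166 i)) (Nat.ble 6164 i)) (Bool.rec (motive := fun _ => List ℕ) (Bool.rec (motive := fun _ => List ℕ) (Bool.rec (motive := fun _ => List ℕ) (rw6168) (rw6169) (Nat.ble 6169 i)) (Bool.rec (motive := fun _ => List ℕ) (rw6170) (rw6171) (Nat.ble 6171 i)) (Nat.ble 6170 i)) (Bool.rec (motive := fun _ => List ℕ) (Bool.rec (motive := fun _ => List ℕ) (rw6172) (rw6173) (Nat.ble 6173 i)) (Bool.rec (motive := fun _ => List ℕ) (rw6174) (rw6175) (Nat.ble 6175 i)) (Nat.ble 6174 i)) (Nat.ble 6172 i)) (Nat.ble 6168 i)) (Nat.ble 6160 i)) (Bool.rec (motive := fun _ => List ℕ) (Bool.rec (motive := fun _ => List ℕ) (Bool.rec (motive := fun _ => List ℕ) (Bool.rec (motive := fun _ => List ℕ) (Bool.rec (motive := fun _ => List ℕ) (rw6176)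 (rw6177) (Nat.ble 6177 i)) (Bool.rec (motive := fun _ => List ℕ) (rw6178) (rw6179) (Nat.ble 6179 i)) (Nat.ble 6178 i)) (Bool.rec (motive := fun _ => List ℕ) (Bool.rec (motive := fun _ => List ℕ) (rw6180) (rw6181) (Nat.ble 6181 i)) (Bool.rec (motive := fun _ => List ℕ) (rw6182) (rw6183) (Nat.ble 6183 i)) (Nat.ble 6182 i)) (Nat.ble 6180 i)) (Bool.rec (motive := fun _ => List ℕ) (Bool.rec (motive := fun _ => List ℕ) (Bool.rec (motive := fun _ => List ℕ) (rw6184) (rw6185) (Nat.ble 6185 i)) (Bool.rec (motive := fun _ => List ℕ) (rw6186) (rw6187) (Nat.ble 6187 i)) (Nat.ble 6186 i)) (Bool.rec (motive := fun _ => List ℕ) (Bool.rec (motive := fun _ => List ℕ) (rw6188) (rw6189) (Nat.ble 6189 i)) (Bool.rec (motive := fun _ => List ℕ) (rw6190) (rw6191) (Nat.ble 6191 i)) (Nat.ble 6190 i)) (Nat.ble 6188 i)) (Nat.ble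 6184 i)) (Bool.rec (motive := fun _ => List ℕ) (Bool.rec (motive := fun _ => List ℕ) (Bool.rec (motive := fun _ => List ℕ) (Bool.rec (motive := fun _ => List ℕ) (rw6192) (rw6193) (Nat.ble 6193 i)) (Bool.rec (motive := fun _ => List ℕ) (rw6194) (rw6195) (Nat.ble 6195 i)) (Nat.ble 6194 i)) (Bool.rec (motive := fun _ => List ℕ) (Bool.rec (motive := fun _ => List ℕ) (rw6196) (rw6197) (Nat.ble 6197 i)) (Bool.rec (motive := fun _ => List ℕ) (rw6198) (rw6199) (Nat.ble 6199 i)) (Nat.ble 6198 i)) (Nat.ble 6196 i)) (Bool.rec (motive := fun _ => List ℕ) (Bool.rec (motive := fun _ => List ℕ) (Bool.rec (motive := fun _ => List ℕ) (rw6200) (rw6201) (Nat.ble 6201 i)) (Bool.rec (motive := fun _ => List ℕ) (rw6202) (rw6203) (Nat.ble 6203 i)) (Nat.ble 6202 i)) (Bool.rec (motive := fun _ => List ℕ) (Bool.rec (motive :=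 fun _ => List ℕ) (rw6204) (rw6205) (Nat.ble 6205 i)) (Bool.rec (motive := fun _ => List ℕ) (rw6206) (rw6207) (Nat.ble 6207 i)) (Nat.ble 6206 i)) (Nat.ble 6204 i)) (Nat.ble 6200 i)) (Nat.ble 6192 i)) (Nat.ble 6176 i)
noncomputable def rwb97 (i : ℕ) : List ℕ := Bool.rec (motive := fun _ => List ℕ) (Bool.rec (motive := fun _ => List ℕ) (Bool.rec (motive := fun _ => List ℕ) (Bool.rec (motive := fun _ => List ℕ) (Bool.rec (motive := fun _ => List ℕ) (Bool.rec (motive := fun _ => List ℕ) (rw6208) (rw6209) (Nat.ble 6209 i)) (Bool.rec (motive := fun _ => List ℕ) (rw6210) (rw6211) (Nat.ble 6211 i)) (Nat.ble 6210 i)) (Bool.rec (motive := fun _ => List ℕ) (Bool.rec (motive := fun _ => List ℕ) (rw6212) (rw6213) (Nat.ble 6213 i)) (Bool.rec (motive := fun _ => List ℕ) (rw6214) (rw6215) (Nat.ble 6215 i)) (Nat.ble 6214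 i)) (Nat.ble 6212 i)) (Bool.rec (motive := fun _ => List ℕ) (Bool.rec (motive := fun _ => List ℕ) (Bool.rec (motive := fun _ => List ℕ) (rw6216) (rw6217) (Nat.ble 6217 i)) (Bool.rec (motive := fun _ => List ℕ) (rw6218) (rw6219) (Nat.ble 6219 i)) (Nat.ble 6218 i)) (Bool.rec (motive := fun _ => List ℕ) (Bool.rec (motive := fun _ => List ℕ) (rw6220) (rw6221) (Nat.ble 6221 i)) (Bool.rec (motive := fun _ => List ℕ) (rw6222) (rw6223) (Nat.ble 6223 i)) (Nat.ble 6222 i)) (Nat.ble 6220 i)) (Nat.ble 6216 i)) (Bool.rec (motive := fun _ => List ℕ) (Bool.rec (motive := fun _ => List ℕ) (Bool.rec (motive := fun _ => List ℕ) (Bool.rec (motive := fun _ => List ℕ) (rw6224) (rw6225) (Nat.ble 6225 i)) (Bool.rec (motive := fun _ => List ℕ) (rw6226) (rw6227) (Nat.ble 6227 i)) (Nat.ble 6226 i)) (Bool.rec (motive := fun _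 => List ℕ) (Bool.rec (motive := fun _ => List ℕ) (rw6228) (rw6229) (Nat.ble 6229 i)) (Bool.rec (motive := fun _ => List ℕ) (rw6230) (rw6231) (Nat.ble 6231 i)) (Nat.ble 6230 i)) (Nat.ble 6228 i)) (Bool.rec (motive := fun _ => List ℕ) (Bool.rec (motive := fun _ => List ℕ) (Bool.rec (motive := fun _ => List ℕ) (rw6232) (rw6233) (Nat.ble 6233 i)) (Bool.rec (motive := fun _ => List ℕ) (rw6234) (rw6235) (Nat.ble 6235 i)) (Nat.ble 6234 i)) (Bool.rec (motive := fun _ => List ℕ) (Bool.rec (motive := fun _ => List ℕ) (rw6236) (rw6237) (Nat.ble 6237 i)) (Bool.rec (motive := fun _ => List ℕ) (rw6238) (rw6239) (Nat.ble 6239 i)) (Nat.ble 6238 i)) (Nat.ble 6236 i)) (Nat.ble 6232 i)) (Nat.ble 6224 i)) (Bool.rec (motive := fun _ => List ℕ) (Bool.rec (motive := fun _ => List ℕ) (Bool.rec (motive := fun _ => List ℕ) (Bool.rec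 (motive := fun _ => List ℕ) (Bool.rec (motive := fun _ => List ℕ) (rw6240) (rw6241) (Nat.ble 6241 i)) (Bool.rec (motive := fun _ => List ℕ) (rw6242) (rw6243) (Nat.ble 6243 i)) (Nat.ble 6242 i)) (Bool.rec (motive := fun _ => List ℕ) (Bool.rec (motive := fun _ => List ℕ) (rw6244) (rw6245) (Nat.ble 6245 i)) (Bool.rec (motive := fun _ => List ℕ) (rw6246) (rw6247) (Nat.ble 6247 i)) (Nat.ble 6246 i)) (Nat.ble 6244 i)) (Bool.rec (motive := fun _ => List ℕ) (Bool.rec (motive := fun _ => List ℕ) (Bool.rec (motive := fun _ => List ℕ) (rw6248) (rw6249) (Nat.ble 6249 i)) (Bool.rec (motive := fun _ => List ℕ) (rw6250) (rw6251) (Nat.ble 6251 i)) (Nat.ble 6250 i)) (Bool.rec (motive := fun _ => List ℕ) (Bool.rec (motive := fun _ => List ℕ) (rw6252) (rw6253) (Nat.ble 6253 i)) (Bool.rec (motive := fun _ => List ℕ) (rw6254)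 (rw6255) (Nat.ble 6255 i)) (Nat.ble 6254 i)) (Nat.ble 6252 i)) (Nat.ble 6248 i)) (Bool.rec (motive := fun _ => List ℕ) (Bool.rec (motive := fun _ => List ℕ) (Bool.rec (motive := fun _ => List ℕ) (Bool.rec (motive := fun _ => List ℕ) (rw6256) (rw6257) (Nat.ble 6257 i)) (Bool.rec (motive := fun _ => List ℕ) (rw6258) (rw6259) (Nat.ble 6259 i)) (Nat.ble 6258 i)) (Bool.rec (motive := fun _ => List ℕ) (Bool.rec (motive := fun _ => List ℕ) (rw6260) (rw6261) (Nat.ble 6261 i)) (Bool.rec (motive := fun _ => List ℕ) (rw6262) (rw6263) (Nat.ble 6263 i)) (Nat.ble 6262 i)) (Nat.ble 6260 i)) (Bool.rec (motive := fun _ => List ℕ) (Bool.rec (motive := fun _ => List ℕ) (Bool.rec (motive := fun _ => List ℕ) (rw6264) (rw6265) (Nat.ble 6265 i)) (Bool.rec (motive := fun _ => List ℕ) (rw6266) (rw6267) (Nat.ble 6267 i)) (Nat.ble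 6266 i)) (Bool.rec (motive := fun _ => List ℕ) (Bool.rec (motive := fun _ => List ℕ) (rw6268) (rw6269) (Nat.ble 6269 i)) (Bool.rec (motive := fun _ => List ℕ) (rw6270) (rw6271) (Nat.ble 6271 i)) (Nat.ble 6270 i)) (Nat.ble 6268 i)) (Nat.ble 6264 i)) (Nat.ble 6256 i)) (Nat.ble 6240 i)
noncomputable def rwb98 (i : ℕ) : List ℕ := Bool.rec (motive := fun _ => List ℕ) (Bool.rec (motive := fun _ => List ℕ) (Bool.rec (motive := fun _ => List ℕ) (Bool.rec (motive := fun _ => List ℕ) (Bool.rec (motive := fun _ => List ℕ) (Bool.rec (motive := fun _ => List ℕ) (rw6272) (rw6273) (Nat.ble 6273 i)) (Bool.rec (motive := fun _ => List ℕ) (rw6274) (rw6275) (Nat.ble 6275 i)) (Nat.ble 6274 i)) (Bool.rec (motive := fun _ => List ℕ) (Bool.rec (motive := fun _ => List ℕ) (rw6276) (rw6277) (Nat.ble 6277 i)) (Bool.rec (motive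 := fun _ => List ℕ) (rw6278) (rw6279) (Nat.ble 6279 i)) (Nat.ble 6278 i)) (Nat.ble 6276 i)) (Bool.rec (motive := fun _ => List ℕ) (Bool.rec (motive := fun _ => List ℕ) (Bool.rec (motive := fun _ => List ℕ) (rw6280) (rw6281) (Nat.ble 6281 i)) (Bool.rec (motive := fun _ => List ℕ) (rw6282) (rw6283) (Nat.ble 6283 i)) (Nat.ble 6282 i)) (Bool.rec (motive := fun _ => List ℕ) (Bool.rec (motive := fun _ => List ℕ) (rw6284) (rw6285) (Nat.ble 6285 i)) (Bool.rec (motive := fun _ => List ℕ) (rw6286) (rw6287) (Nat.ble 6287 i)) (Nat.ble 6286 i)) (Nat.ble 6284 i)) (Nat.ble 6280 i)) (Bool.rec (motive := fun _ => List ℕ) (Bool.rec (motive := fun _ => List ℕ) (Bool.rec (motive := fun _ => List ℕ) (Bool.rec (motive := fun _ => List ℕ) (rw6288) (rw6289) (Nat.ble 6289 i)) (Bool.rec (motive := fun _ => List ℕ) (rw6290) (rw6291)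 (Nat.ble 6291 i)) (Nat.ble 6290 i)) (Bool.rec (motive := fun _ => List ℕ) (Bool.rec (motive := fun _ => List ℕ) (rw6292) (rw6293) (Nat.ble 6293 i)) (Bool.rec (motive := fun _ => List ℕ) (rw6294) (rw6295) (Nat.ble 6295 i)) (Nat.ble 6294 i)) (Nat.ble 6292 i)) (Bool.rec (motive := fun _ => List ℕ) (Bool.rec (motive := fun _ => List ℕ) (Bool.rec (motive := fun _ => List ℕ) (rw6296) (rw6297) (Nat.ble 6297 i)) (Bool.rec (motive := fun _ => List ℕ) (rw6298) (rw6299) (Nat.ble 6299 i)) (Nat.ble 6298 i)) (Bool.rec (motive := fun _ => List ℕ) (Bool.rec (motive := fun _ => List ℕ) (rw6300) (rw6301) (Nat.ble 6301 i)) (Bool.rec (motive := fun _ => List ℕ) (rw6302) (rw6303) (Nat.ble 6303 i)) (Nat.ble 6302 i)) (Nat.ble 6300 i)) (Nat.ble 6296 i)) (Nat.ble 6288 i)) (Bool.rec (motive := fun _ => List ℕ) (Bool.rec (motive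 := fun _ => List ℕ) (Bool.rec (motive := fun _ => List ℕ) (Bool.rec (motive := fun _ => List ℕ) (Bool.rec (motive := fun _ => List ℕ) (rw6304) (rw6305) (Nat.ble 6305 i)) (Bool.rec (motive := fun _ => List ℕ) (rw6306) (rw6307) (Nat.ble 6307 i)) (Nat.ble 6306 i)) (Bool.rec (motive := fun _ => List ℕ) (Bool.rec (motive := fun _ => List ℕ) (rw6308) (rw6309) (Nat.ble 6309 i)) (Bool.rec (motive := fun _ => List ℕ) (rw6310) (rw6311) (Nat.ble 6311 i)) (Nat.ble 6310 i)) (Nat.ble 6308 i)) (Bool.rec (motive := fun _ => List ℕ) (Bool.rec (motive := fun _ => List ℕ) (Bool.rec (motive := fun _ => List ℕ) (rw6312) (rw6313) (Nat.ble 6313 i)) (Bool.rec (motive := fun _ => List ℕ) (rw6314) (rw6315) (Nat.ble 6315 i)) (Nat.ble 6314 i)) (Bool.rec (motive := fun _ => List ℕ) (Bool.rec (motive := fun _ => List ℕ) (rw6316)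 (rw6317) (Nat.ble 6317 i)) (Bool.rec (motive := fun _ => List ℕ) (rw6318) (rw6319) (Nat.ble 6319 i)) (Nat.ble 6318 i)) (Nat.ble 6316 i)) (Nat.ble 6312 i)) (Bool.rec (motive := fun _ => List ℕ) (Bool.rec (motive := fun _ => List ℕ) (Bool.rec (motive := fun _ => List ℕ) (Bool.rec (motive := fun _ => List ℕ) (rw6320) (rw6321) (Nat.ble 6321 i)) (Bool.rec (motive := fun _ => List ℕ) (rw6322) (rw6323) (Nat.ble 6323 i)) (Nat.ble 6322 i)) (Bool.rec (motive := fun _ => List ℕ) (Bool.rec (motive := fun _ => List ℕ) (rw6324) (rw6325) (Nat.ble 6325 i)) (Bool.rec (motive := fun _ => List ℕ) (rw6326) (rw6327) (Nat.ble 6327 i)) (Nat.ble 6326 i)) (Nat.ble 6324 i)) (Bool.rec (motive := fun _ => List ℕ) (Bool.rec (motive := fun _ => List ℕ) (Bool.rec (motive := fun _ => List ℕ) (rw6328) (rw6329) (Nat.ble 6329 i)) (Bool.rec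 (motive := fun _ => List ℕ) (rw6330) (rw6331) (Nat.ble 6331 i)) (Nat.ble 6330 i)) (Bool.rec (motive := fun _ => List ℕ) (Bool.rec (motive := fun _ => List ℕ) (rw6332) (rw6333) (Nat.ble 6333 i)) (Bool.rec (motive := fun _ => List ℕ) (rw6334) (rw6335) (Nat.ble 6335 i)) (Nat.ble 6334 i)) (Nat.ble 6332 i)) (Nat.ble 6328 i)) (Nat.ble 6320 i)) (Nat.ble 6304 i)
noncomputable def rwb99 (i : ℕ) : List ℕ := Bool.rec (motive := fun _ => List ℕ) (Bool.rec (motive := fun _ => List ℕ) (Bool.rec (motive := fun _ => List ℕ) (Bool.rec (motive := fun _ => List ℕ) (Bool.rec (motive := fun _ => List ℕ) (Bool.rec (motive := fun _ => List ℕ) (rw6336) (rw6337) (Nat.ble 6337 i)) (Bool.rec (motive := fun _ => List ℕ) (rw6338) (rw6339) (Nat.ble 6339 i)) (Nat.ble 6338 i)) (Bool.rec (motive := fun _ => List ℕ) (Bool.rec (motive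 := fun _ => List ℕ) (rw6340) (rw6341) (Nat.ble 6341 i)) (Bool.rec (motive := fun _ => List ℕ) (rw6342) (rw6343) (Nat.ble 6343 i)) (Nat.ble 6342 i)) (Nat.ble 6340 i)) (Bool.rec (motive := fun _ => List ℕ) (Bool.rec (motive := fun _ => List ℕ) (Bool.rec (motive := fun _ => List ℕ) (rw6344) (rw6345) (Nat.ble 6345 i)) (Bool.rec (motive := fun _ => List ℕ) (rw6346) (rw6347) (Nat.ble 6347 i)) (Nat.ble 6346 i)) (Bool.rec (motive := fun _ => List ℕ) (Bool.rec (motive := fun _ => List ℕ) (rw6348) (rw6349) (Nat.ble 6349 i)) (Bool.rec (motive := fun _ => List ℕ) (rw6350) (rw6351) (Nat.ble 6351 i)) (Nat.ble 6350 i)) (Nat.ble 6348 i)) (Nat.ble 6344 i)) (Bool.rec (motive := fun _ => List ℕ) (Bool.rec (motive := fun _ => List ℕ) (Bool.rec (motive := fun _ => List ℕ) (Bool.rec (motive := fun _ => List ℕ) (rw6352) (rw6353)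 (Nat.ble 6353 i)) (Bool.rec (motive := fun _ => List ℕ) (rw6354) (rw6355) (Nat.ble 6355 i)) (Nat.ble 6354 i)) (Bool.rec (motive := fun _ => List ℕ) (Bool.rec (motive := fun _ => List ℕ) (rw6356) (rw6357) (Nat.ble 6357 i)) (Bool.rec (motive := fun _ => List ℕ) (rw6358) (rw6359) (Nat.ble 6359 i)) (Nat.ble 6358 i)) (Nat.ble 6356 i)) (Bool.rec (motive := fun _ => List ℕ) (Bool.rec (motive := fun _ => List ℕ) (Bool.rec (motive := fun _ => List ℕ) (rw6360) (rw6361) (Nat.ble 6361 i)) (Bool.rec (motive := fun _ => List ℕ) (rw6362) (rw6363) (Nat.ble 6363 i)) (Nat.ble 6362 i)) (Bool.rec (motive := fun _ => List ℕ) (Bool.rec (motive := fun _ => List ℕ) (rw6364) (rw6365) (Nat.ble 6365 i)) (Bool.rec (motive := fun _ => List ℕ) (rw6366) (rw6367) (Nat.ble 6367 i)) (Nat.ble 6366 i)) (Nat.ble 6364 i)) (Nat.ble 6360 i))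 (Nat.ble 6352 i)) (Bool.rec (motive := fun _ => List ℕ) (Bool.rec (motive := fun _ => List ℕ) (Bool.rec (motive := fun _ => List ℕ) (Bool.rec (motive := fun _ => List ℕ) (Bool.rec (motive := fun _ => List ℕ) (rw6368) (rw6369) (Nat.ble 6369 i)) (Bool.rec (motive := fun _ => List ℕ) (rw6370) (rw6371) (Nat.ble 6371 i)) (Nat.ble 6370 i)) (Bool.rec (motive := fun _ => List ℕ) (Bool.rec (motive := fun _ => List ℕ) (rw6372) (rw6373) (Nat.ble 6373 i)) (Bool.rec (motive := fun _ => List ℕ) (rw6374) (rw6375) (Nat.ble 6375 i)) (Nat.ble 6374 i)) (Nat.ble 6372 i)) (Bool.rec (motive := fun _ => List ℕ) (Bool.rec (motive := fun _ => List ℕ) (Bool.rec (motive := fun _ => List ℕ) (rw6376) (rw6377) (Nat.ble 6377 i)) (Bool.rec (motive := fun _ => List ℕ) (rw6378) (rw6379) (Nat.ble 6379 i)) (Nat.ble 6378 i)) (Bool.rec (motive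 := fun _ => List ℕ) (Bool.rec (motive := fun _ => List ℕ) (rw6380) (rw6381) (Nat.ble 6381 i)) (Bool.rec (motive := fun _ => List ℕ) (rw6382) (rw6383) (Nat.ble 6383 i)) (Nat.ble 6382 i)) (Nat.ble 6380 i)) (Nat.ble 6376 i)) (Bool.rec (motive := fun _ => List ℕ) (Bool.rec (motive := fun _ => List ℕ) (Bool.rec (motive := fun _ => List ℕ) (Bool.rec (motive := fun _ => List ℕ) (rw6384) (rw6385) (Nat.ble 6385 i)) (Bool.rec (motive := fun _ => List ℕ) (rw6386) (rw6387) (Nat.ble 6387 i)) (Nat.ble 6386 i)) (Bool.rec (motive := fun _ => List ℕ) (Bool.rec (motive := fun _ => List ℕ) (rw6388) (rw6389) (Nat.ble 6389 i)) (Bool.rec (motive := fun _ => List ℕ) (rw6390) (rw6391) (Nat.ble 6391 i)) (Nat.ble 6390 i)) (Nat.ble 6388 i)) (Bool.rec (motive := fun _ => List ℕ) (Bool.rec (motive := fun _ => List ℕ) (Bool.rec (motive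 := fun _ => List ℕ) (rw6392) (rw6393) (Nat.ble 6393 i)) (Bool.rec (motive := fun _ => List ℕ) (rw6394) (rw6395) (Nat.ble 6395 i)) (Nat.ble 6394 i)) (Bool.rec (motive := fun _ => List ℕ) (Bool.rec (motive := fun _ => List ℕ) (rw6396) (rw6397) (Nat.ble 6397 i)) (Bool.rec (motive := fun _ => List ℕ) (rw6398) (rw6399) (Nat.ble 6399 i)) (Nat.ble 6398 i)) (Nat.ble 6396 i)) (Nat.ble 6392 i)) (Nat.ble 6384 i)) (Nat.ble 6368 i)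
noncomputable def rwb100 (i : ℕ) : List ℕ := Bool.rec (motive := fun _ => List ℕ) (Bool.rec (motive := fun _ => List ℕ) (Bool.rec (motive := fun _ => List ℕ) (Bool.rec (motive := fun _ => List ℕ) (Bool.rec (motive := fun _ => List ℕ) (Bool.rec (motive := fun _ => List ℕ) (rw6400) (rw6401) (Nat.ble 6401 i)) (Bool.rec (motive := fun _ => List ℕ) (rw6402) (rw6403) (Nat.ble 6403 i)) (Nat.ble 6402 i)) (Bool.rec (motive := fun _ => List ℕ) (Bool.rec (motive := fun _ => List ℕ) (rw6404) (rw6405) (Nat.ble 6405 i)) (Bool.rec (motive := fun _ => List ℕ) (rw6406) (rw6407) (Nat.ble 6407 i)) (Nat.ble 6406 i)) (Nat.ble 6404 i)) (Bool.rec (motive := fun _ => List ℕ) (Bool.rec (motive := fun _ => List ℕ) (Bool.rec (motive := fun _ => List ℕ) (rw6408) (rw6409) (Nat.ble 6409 i)) (Bool.rec (motive := fun _ => List ℕ) (rw6410)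 (rw6411) (Nat.ble 6411 i)) (Nat.ble 6410 i)) (Bool.rec (motive := fun _ => List ℕ) (Bool.rec (motive := fun _ => List ℕ) (rw6412) (rw6413) (Nat.ble 6413 i)) (Bool.rec (motive := fun _ => List ℕ) (rw6414) (rw6415) (Nat.ble 6415 i)) (Nat.ble 6414 i)) (Nat.ble 6412 i)) (Nat.ble 6408 i)) (Bool.rec (motive := fun _ => List ℕ) (Bool.rec (motive := fun _ => List ℕ) (Bool.rec (motive := fun _ => List ℕ) (Bool.rec (motive := fun _ => List ℕ) (rw6416) (rw6417) (Nat.ble 6417 i)) (Bool.rec (motive := fun _ => List ℕ) (rw6418) (rw6419) (Nat.ble 6419 i)) (Nat.ble 6418 i)) (Bool.rec (motive := fun _ => List ℕ) (Bool.rec (motive := fun _ => List ℕ) (rw6420) (rw6421) (Nat.ble 6421 i)) (Bool.rec (motive := fun _ => List ℕ) (rw6422) (rw6423) (Nat.ble 6423 i)) (Nat.ble 6422 i)) (Nat.ble 6420 i)) (Bool.rec (motive := fun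 _ => List ℕ) (Bool.rec (motive := fun _ => List ℕ) (Bool.rec (motive := fun _ => List ℕ) (rw6424) (rw6425) (Nat.ble 6425 i)) (Bool.rec (motive := fun _ => List ℕ) (rw6426) (rw6427) (Nat.ble 6427 i)) (Nat.ble 6426 i)) (Bool.rec (motive := fun _ => List ℕ) (Bool.rec (motive := fun _ => List ℕ) (rw6428) (rw6429) (Nat.ble 6429 i)) (Bool.rec (motive := fun _ => List ℕ) (rw6430) (rw6431) (Nat.ble 6431 i)) (Nat.ble 6430 i)) (Nat.ble 6428 i)) (Nat.ble 6424 i)) (Nat.ble 6416 i)) (Bool.rec (motive := fun _ => List ℕ) (Bool.rec (motive := fun _ => List ℕ) (Bool.rec (motive := fun _ => List ℕ) (Bool.rec (motive := fun _ => List ℕ) (Bool.rec (motive := fun _ => List ℕ) (rw6432) (rw6433) (Nat.ble 6433 i)) (Bool.rec (motive := fun _ => List ℕ) (rw6434) (rw6435) (Nat.ble 6435 i)) (Nat.ble 6434 i)) (Bool.rec (motive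 := fun _ => List ℕ) (Bool.rec (motive := fun _ => List ℕ) (rw6436) (rw6437) (Nat.ble 6437 i)) (Bool.rec (motive := fun _ => List ℕ) (rw6438) (rw6439) (Nat.ble 6439 i)) (Nat.ble 6438 i)) (Nat.ble 6436 i)) (Bool.rec (motive := fun _ => List ℕ) (Bool.rec (motive := fun _ => List ℕ) (Bool.rec (motive := fun _ => List ℕ) (rw6440) (rw6441) (Nat.ble 6441 i)) (Bool.rec (motive := fun _ => List ℕ) (rw6442) (rw6443) (Nat.ble 6443 i)) (Nat.ble 6442 i)) (Bool.rec (motive := fun _ => List ℕ) (Bool.rec (motive := fun _ => List ℕ) (rw6444) (rw6445) (Nat.ble 6445 i)) (Bool.rec (motive := fun _ => List ℕ) (rw6446) (rw6447) (Nat.ble 6447 i)) (Nat.ble 6446 i)) (Nat.ble 6444 i)) (Nat.ble 6440 i)) (Bool.rec (motive := fun _ => List ℕ) (Bool.rec (motive := fun _ => List ℕ) (Bool.rec (motive := fun _ => List ℕ) (Bool.rec (motive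 := fun _ => List ℕ) (rw6448) (rw6449) (Nat.ble 6449 i)) (Bool.rec (motive := fun _ => List ℕ) (rw6450) (rw6451) (Nat.ble 6451 i)) (Nat.ble 6450 i)) (Bool.rec (motive := fun _ => List ℕ) (Bool.rec (motive := fun _ => List ℕ) (rw6452) (rw6453) (Nat.ble 6453 i)) (Bool.rec (motive := fun _ => List ℕ) (rw6454) (rw6455) (Nat.ble 6455 i)) (Nat.ble 6454 i)) (Nat.ble 6452 i)) (Bool.rec (motive := fun _ => List ℕ) (Bool.rec (motive := fun _ => List ℕ) (Bool.rec (motive := fun _ => List ℕ) (rw6456) (rw6457) (Nat.ble 6457 i)) (Bool.rec (motive := fun _ => List ℕ) (rw6458) (rw6459) (Nat.ble 6459 i)) (Nat.ble 6458 i)) (Bool.rec (motive := fun _ => List ℕ) (Bool.rec (motive := fun _ => List ℕ) (rw6460) (rw6461) (Nat.ble 6461 i)) (Bool.rec (motive := fun _ => List ℕ) (rw6462) (rw6463) (Nat.ble 6463 i)) (Nat.ble 6462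 i)) (Nat.ble 6460 i)) (Nat.ble 6456 i)) (Nat.ble 6448 i)) (Nat.ble 6432 i)
noncomputable def rwb101 (i : ℕ) : List ℕ := Bool.rec (motive := fun _ => List ℕ) (Bool.rec (motive := fun _ => List ℕ) (Bool.rec (motive := fun _ => List ℕ) (Bool.rec (motive := fun _ => List ℕ) (Bool.rec (motive := fun _ => List ℕ) (Bool.rec (motive := fun _ => List ℕ) (rw6464) (rw6465) (Nat.ble 6465 i)) (Bool.rec (motive := fun _ => List ℕ) (rw6466) (rw6467) (Nat.ble 6467 i)) (Nat.ble 6466 i)) (Bool.rec (motive := fun _ => List ℕ) (Bool.rec (motive := fun _ => List ℕ) (rw6468) (rw6469) (Nat.ble 6469 i)) (Bool.rec (motive := fun _ => List ℕ) (rw6470) (rw6471) (Nat.ble 6471 i)) (Nat.ble 6470 i)) (Nat.ble 6468 i)) (Bool.rec (motive := fun _ => List ℕ) (Bool.rec (motive := fun _ => List ℕ) (Bool.rec (motive := fun _ => List ℕ)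 (rw6472) (rw6473) (Nat.ble 6473 i)) (Bool.rec (motive := fun _ => List ℕ) (rw6474) (rw6475) (Nat.ble 6475 i)) (Nat.ble 6474 i)) (Bool.rec (motive := fun _ => List ℕ) (Bool.rec (motive := fun _ => List ℕ) (rw6476) (rw6477) (Nat.ble 6477 i)) (Bool.rec (motive := fun _ => List ℕ) (rw6478) (rw6479) (Nat.ble 6479 i)) (Nat.ble 6478 i)) (Nat.ble 6476 i)) (Nat.ble 6472 i)) (Bool.rec (motive := fun _ => List ℕ) (Bool.rec (motive := fun _ => List ℕ) (Bool.rec (motive := fun _ => List ℕ) (Bool.rec (motive := fun _ => List ℕ) (rw6480) (rw6481) (Nat.ble 6481 i)) (Bool.rec (motive := fun _ => List ℕ) (rw6482) (rw6483) (Nat.ble 6483 i)) (Nat.ble 6482 i)) (Bool.rec (motive := fun _ => List ℕ) (Bool.rec (motive := fun _ => List ℕ) (rw6484) (rw6485) (Nat.ble 6485 i)) (Bool.rec (motive := fun _ => List ℕ) (rw6486) (rw6487)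 (Nat.ble 6487 i)) (Nat.ble 6486 i)) (Nat.ble 6484 i)) (Bool.rec (motive := fun _ => List ℕ) (Bool.rec (motive := fun _ => List ℕ) (Bool.rec (motive := fun _ => List ℕ) (rw6488) (rw6489) (Nat.ble 6489 i)) (Bool.rec (motive := fun _ => List ℕ) (rw6490) (rw6491) (Nat.ble 6491 i)) (Nat.ble 6490 i)) (Bool.rec (motive := fun _ => List ℕ) (Bool.rec (motive := fun _ => List ℕ) (rw6492) (rw6493) (Nat.ble 6493 i)) (Bool.rec (motive := fun _ => List ℕ) (rw6494) (rw6495) (Nat.ble 6495 i)) (Nat.ble 6494 i)) (Nat.ble 6492 i)) (Nat.ble 6488 i)) (Nat.ble 6480 i)) (Bool.rec (motive := fun _ => List ℕ) (Bool.rec (motive := fun _ => List ℕ) (Bool.rec (motive := fun _ => List ℕ) (Bool.rec (motive := fun _ => List ℕ) (Bool.rec (motive := fun _ => List ℕ) (rw6496) (rw6497) (Nat.ble 6497 i)) (Bool.rec (motive := fun _ => List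 ℕ) (rw6498) (rw6499) (Nat.ble 6499 i)) (Nat.ble 6498 i)) (Bool.rec (motive := fun _ => List ℕ) (Bool.rec (motive := fun _ => List ℕ) (rw6500) (rw6501) (Nat.ble 6501 i)) (Bool.rec (motive := fun _ => List ℕ) (rw6502) (rw6503) (Nat.ble 6503 i)) (Nat.ble 6502 i)) (Nat.ble 6500 i)) (Bool.rec (motive := fun _ => List ℕ) (Bool.rec (motive := fun _ => List ℕ) (Bool.rec (motive := fun _ => List ℕ) (rw6504) (rw6505) (Nat.ble 6505 i)) (Bool.rec (motive := fun _ => List ℕ) (rw6506) (rw6507) (Nat.ble 6507 i)) (Nat.ble 6506 i)) (Bool.rec (motive := fun _ => List ℕ) (Bool.rec (motive := fun _ => List ℕ) (rw6508) (rw6509) (Nat.ble 6509 i)) (Bool.rec (motive := fun _ => List ℕ) (rw6510) (rw6511) (Nat.ble 6511 i)) (Nat.ble 6510 i)) (Nat.ble 6508 i)) (Nat.ble 6504 i)) (Bool.rec (motive := fun _ => List ℕ) (Bool.rec (motive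 := fun _ => List ℕ) (Bool.rec (motive := fun _ => List ℕ) (Bool.rec (motive := fun _ => List ℕ) (rw6512) (rw6513) (Nat.ble 6513 i)) (Bool.rec (motive := fun _ => List ℕ) (rw6514) (rw6515) (Nat.ble 6515 i)) (Nat.ble 6514 i)) (Bool.rec (motive := fun _ => List ℕ) (Bool.rec (motive := fun _ => List ℕ) (rw6516) (rw6517) (Nat.ble 6517 i)) (Bool.rec (motive := fun _ => List ℕ) (rw6518) (rw6519) (Nat.ble 6519 i)) (Nat.ble 6518 i)) (Nat.ble 6516 i)) (Bool.rec (motive := fun _ => List ℕ) (Bool.rec (motive := fun _ => List ℕ) (Bool.rec (motive := fun _ => List ℕ) (rw6520) (rw6521) (Nat.ble 6521 i)) (Bool.rec (motive := fun _ => List ℕ) (rw6522) (rw6523) (Nat.ble 6523 i)) (Nat.ble 6522 i)) (Bool.rec (motive := fun _ => List ℕ) (Bool.rec (motive := fun _ => List ℕ) (rw6524) (rw6525) (Nat.ble 6525 i)) (Bool.rec (motive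 := fun _ => List ℕ) (rw6526) (rw6527) (Nat.ble 6527 i)) (Nat.ble 6526 i)) (Nat.ble 6524 i)) (Nat.ble 6520 i)) (Nat.ble 6512 i)) (Nat.ble 6496 i)
noncomputable def rwb102 (i : ℕ) : List ℕ := Bool.rec (motive := fun _ => List ℕ) (Bool.rec (motive := fun _ => List ℕ) (Bool.rec (motive := fun _ => List ℕ) (Bool.rec (motive := fun _ => List ℕ) (Bool.rec (motive := fun _ => List ℕ) (Bool.rec (motive := fun _ => List ℕ) (rw6528) (rw6529) (Nat.ble 6529 i)) (Bool.rec (motive := fun _ => List ℕ) (rw6530) (rw6531) (Nat.ble 6531 i)) (Nat.ble 6530 i)) (Bool.rec (motive := fun _ => List ℕ) (Bool.rec (motive := fun _ => List ℕ) (rw6532) (rw6533) (Nat.ble 6533 i)) (Bool.rec (motive := fun _ => List ℕ) (rw6534) (rw6535) (Nat.ble 6535 i)) (Nat.ble 6534 i)) (Nat.ble 6532 i)) (Bool.rec (motive := fun _ => List ℕ) (Bool.rec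 (motive := fun _ => List ℕ) (Bool.rec (motive := fun _ => List ℕ) (rw6536) (rw6537) (Nat.ble 6537 i)) (Bool.rec (motive := fun _ => List ℕ) (rw6538) (rw6539) (Nat.ble 6539 i)) (Nat.ble 6538 i)) (Bool.rec (motive := fun _ => List ℕ) (Bool.rec (motive := fun _ => List ℕ) (rw6540) (rw6541) (Nat.ble 6541 i)) (Bool.rec (motive := fun _ => List ℕ) (rw6542) (rw6543) (Nat.ble 6543 i)) (Nat.ble 6542 i)) (Nat.ble 6540 i)) (Nat.ble 6536 i)) (Bool.rec (motive := fun _ => List ℕ) (Bool.rec (motive := fun _ => List ℕ) (Bool.rec (motive := fun _ => List ℕ) (Bool.rec (motive := fun _ => List ℕ) (rw6544) (rw6545) (Nat.ble 6545 i)) (Bool.rec (motive := fun _ => List ℕ) (rw6546) (rw6547) (Nat.ble 6547 i)) (Nat.ble 6546 i)) (Bool.rec (motive := fun _ => List ℕ) (Bool.rec (motive := fun _ => List ℕ) (rw6548) (rw6549) (Nat.ble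 6549 i)) (Bool.rec (motive := fun _ => List ℕ) (rw6550) (rw6551) (Nat.ble 6551 i)) (Nat.ble 6550 i)) (Nat.ble 6548 i)) (Bool.rec (motive := fun _ => List ℕ) (Bool.rec (motive := fun _ => List ℕ) (Bool.rec (motive := fun _ => List ℕ) (rw6552) (rw6553) (Nat.ble 6553 i)) (Bool.rec (motive := fun _ => List ℕ) (rw6554) (rw6555) (Nat.ble 6555 i)) (Nat.ble 6554 i)) (Bool.rec (motive := fun _ => List ℕ) (Bool.rec (motive := fun _ => List ℕ) (rw6556) (rw6557) (Nat.ble 6557 i)) (Bool.rec (motive := fun _ => List ℕ) (rw6558) (rw6559) (Nat.ble 6559 i)) (Nat.ble 6558 i)) (Nat.ble 6556 i)) (Nat.ble 6552 i)) (Nat.ble 6544 i)) (Bool.rec (motive := fun _ => List ℕ) (Bool.rec (motive := fun _ => List ℕ) (Bool.rec (motive := fun _ => List ℕ) (Bool.rec (motive := fun _ => List ℕ) (Bool.rec (motive := fun _ => List ℕ) (rw6560)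 (rw6561) (Nat.ble 6561 i)) (Bool.rec (motive := fun _ => List ℕ) (rw6562) (rw6563) (Nat.ble 6563 i)) (Nat.ble 6562 i)) (Bool.rec (motive := fun _ => List ℕ) (Bool.rec (motive := fun _ => List ℕ) (rw6564) (rw6565) (Nat.ble 6565 i)) (Bool.rec (motive := fun _ => List ℕ) (rw6566) (rw6567) (Nat.ble 6567 i)) (Nat.ble 6566 i)) (Nat.ble 6564 i)) (Bool.rec (motive := fun _ => List ℕ) (Bool.rec (motive := fun _ => List ℕ) (Bool.rec (motive := fun _ => List ℕ) (rw6568) (rw6569) (Nat.ble 6569 i)) (Bool.rec (motive := fun _ => List ℕ) (rw6570) (rw6571) (Nat.ble 6571 i)) (Nat.ble 6570 i)) (Bool.rec (motive := fun _ => List ℕ) (Bool.rec (motive := fun _ => List ℕ) (rw6572) (rw6573) (Nat.ble 6573 i)) (Bool.rec (motive := fun _ => List ℕ) (rw6574) (rw6575) (Nat.ble 6575 i)) (Nat.ble 6574 i)) (Nat.ble 6572 i)) (Nat.ble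 6568 i)) (Bool.rec (motive := fun _ => List ℕ) (Bool.rec (motive := fun _ => List ℕ) (Bool.rec (motive := fun _ => List ℕ) (Bool.rec (motive := fun _ => List ℕ) (rw6576) (rw6577) (Nat.ble 6577 i)) (Bool.rec (motive := fun _ => List ℕ) (rw6578) (rw6579) (Nat.ble 6579 i)) (Nat.ble 6578 i)) (Bool.rec (motive := fun _ => List ℕ) (Bool.rec (motive := fun _ => List ℕ) (rw6580) (rw6581) (Nat.ble 6581 i)) (Bool.rec (motive := fun _ => List ℕ) (rw6582) (rw6583) (Nat.ble 6583 i)) (Nat.ble 6582 i)) (Nat.ble 6580 i)) (Bool.rec (motive := fun _ => List ℕ) (Bool.rec (motive := fun _ => List ℕ) (Bool.rec (motive := fun _ => List ℕ) (rw6584) (rw6585) (Nat.ble 6585 i)) (Bool.rec (motive := fun _ => List ℕ) (rw6586) (rw6587) (Nat.ble 6587 i)) (Nat.ble 6586 i)) (Bool.rec (motive := fun _ => List ℕ) (Bool.rec (motive :=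 fun _ => List ℕ) (rw6588) (rw6589) (Nat.ble 6589 i)) (Bool.rec (motive := fun _ => List ℕ) (rw6590) (rw6591) (Nat.ble 6591 i)) (Nat.ble 6590 i)) (Nat.ble 6588 i)) (Nat.ble 6584 i)) (Nat.ble 6576 i)) (Nat.ble 6560 i)
noncomputable def rwb103 (i : ℕ) : List ℕ := Bool.rec (motive := fun _ => List ℕ) (Bool.rec (motive := fun _ => List ℕ) (Bool.rec (motive := fun _ => List ℕ) (Bool.rec (motive := fun _ => List ℕ) (Bool.rec (motive := fun _ => List ℕ) (Bool.rec (motive := fun _ => List ℕ) (rw6592) (rw6593) (Nat.ble 6593 i)) (Bool.rec (motive := fun _ => List ℕ) (rw6594) (rw6595) (Nat.ble 6595 i)) (Nat.ble 6594 i)) (Bool.rec (motive := fun _ => List ℕ) (Bool.rec (motive := fun _ => List ℕ) (rw6596) (rw6597) (Nat.ble 6597 i)) (Bool.rec (motive := fun _ => List ℕ) (rw6598) (rw6599) (Nat.ble 6599 i)) (Nat.ble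 6598 i)) (Nat.ble 6596 i)) (Bool.rec (motive := fun _ => List ℕ) (Bool.rec (motive := fun _ => List ℕ) (Bool.rec (motive := fun _ => List ℕ) (rw6600) (rw6601) (Nat.ble 6601 i)) (Bool.rec (motive := fun _ => List ℕ) (rw6602) (rw6603) (Nat.ble 6603 i)) (Nat.ble 6602 i)) (Bool.rec (motive := fun _ => List ℕ) (Bool.rec (motive := fun _ => List ℕ) (rw6604) (rw6605) (Nat.ble 6605 i)) (Bool.rec (motive := fun _ => List ℕ) (rw6606) (rw6607) (Nat.ble 6607 i)) (Nat.ble 6606 i)) (Nat.ble 6604 i)) (Nat.ble 6600 i)) (Bool.rec (motive := fun _ => List ℕ) (Bool.rec (motive := fun _ => List ℕ) (Bool.rec (motive := fun _ => List ℕ) (Bool.rec (motive := fun _ => List ℕ) (rw6608) (rw6609) (Nat.ble 6609 i)) (Bool.rec (motive := fun _ => List ℕ) (rw6610) (rw6611) (Nat.ble 6611 i)) (Nat.ble 6610 i)) (Bool.rec (motive := fun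 _ => List ℕ) (Bool.rec (motive := fun _ => List ℕ) (rw6612) (rw6613) (Nat.ble 6613 i)) (Bool.rec (motive := fun _ => List ℕ) (rw6614) (rw6615) (Nat.ble 6615 i)) (Nat.ble 6614 i)) (Nat.ble 6612 i)) (Bool.rec (motive := fun _ => List ℕ) (Bool.rec (motive := fun _ => List ℕ) (Bool.rec (motive := fun _ => List ℕ) (rw6616) (rw6617) (Nat.ble 6617 i)) (Bool.rec (motive := fun _ => List ℕ) (rw6618) (rw6619) (Nat.ble 6619 i)) (Nat.ble 6618 i)) (Bool.rec (motive := fun _ => List ℕ) (Bool.rec (motive := fun _ => List ℕ) (rw6620) (rw6621) (Nat.ble 6621 i)) (Bool.rec (motive := fun _ => List ℕ) (rw6622) (rw6623) (Nat.ble 6623 i)) (Nat.ble 6622 i)) (Nat.ble 6620 i)) (Nat.ble 6616 i)) (Nat.ble 6608 i)) (Bool.rec (motive := fun _ => List ℕ) (Bool.rec (motive := fun _ => List ℕ) (Bool.rec (motive := fun _ => List ℕ)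 (Bool.rec (motive := fun _ => List ℕ) (Bool.rec (motive := fun _ => List ℕ) (rw6624) (rw6625) (Nat.ble 6625 i)) (Bool.rec (motive := fun _ => List ℕ) (rw6626) (rw6627) (Nat.ble 6627 i)) (Nat.ble 6626 i)) (Bool.rec (motive := fun _ => List ℕ) (Bool.rec (motive := fun _ => List ℕ) (rw6628) (rw6629) (Nat.ble 6629 i)) (Bool.rec (motive := fun _ => List ℕ) (rw6630) (rw6631) (Nat.ble 6631 i)) (Nat.ble 6630 i)) (Nat.ble 6628 i)) (Bool.rec (motive := fun _ => List ℕ) (Bool.rec (motive := fun _ => List ℕ) (Bool.rec (motive := fun _ => List ℕ) (rw6632) (rw6633) (Nat.ble 6633 i)) (Bool.rec (motive := fun _ => List ℕ) (rw6634) (rw6635) (Nat.ble 6635 i)) (Nat.ble 6634 i)) (Bool.rec (motive := fun _ => List ℕ) (Bool.rec (motive := fun _ => List ℕ) (rw6636) (rw6637) (Nat.ble 6637 i)) (Bool.rec (motive := fun _ => List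 ℕ) (rw6638) (rw6639) (Nat.ble 6639 i)) (Nat.ble 6638 i)) (Nat.ble 6636 i)) (Nat.ble 6632 i)) (Bool.rec (motive := fun _ => List ℕ) (Bool.rec (motive := fun _ => List ℕ) (Bool.rec (motive := fun _ => List ℕ) (Bool.rec (motive := fun _ => List ℕ) (rw6640) (rw6641) (Nat.ble 6641 i)) (Bool.rec (motive := fun _ => List ℕ) (rw6642) (rw6643) (Nat.ble 6643 i)) (Nat.ble 6642 i)) (Bool.rec (motive := fun _ => List ℕ) (Bool.rec (motive := fun _ => List ℕ) (rw6644) (rw6645) (Nat.ble 6645 i)) (Bool.rec (motive := fun _ => List ℕ) (rw6646) (rw6647) (Nat.ble 6647 i)) (Nat.ble 6646 i)) (Nat.ble 6644 i)) (Bool.rec (motive := fun _ => List ℕ) (Bool.rec (motive := fun _ => List ℕ) (Bool.rec (motive := fun _ => List ℕ) (rw6648) (rw6649) (Nat.ble 6649 i)) (Bool.rec (motive := fun _ => List ℕ) (rw6650) (rw6651) (Nat.ble 6651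 i)) (Nat.ble 6650 i)) (Bool.rec (motive := fun _ => List ℕ) (Bool.rec (motive := fun _ => List ℕ) (rw6652) (rw6653) (Nat.ble 6653 i)) (Bool.rec (motive := fun _ => List ℕ) (rw6654) (rw6655) (Nat.ble 6655 i)) (Nat.ble 6654 i)) (Nat.ble 6652 i)) (Nat.ble 6648 i)) (Nat.ble 6640 i)) (Nat.ble 6624 i)
noncomputable def rwb104 (i : ℕ) : List ℕ := Bool.rec (motive := fun _ => List ℕ) (Bool.rec (motive := fun _ => List ℕ) (Bool.rec (motive := fun _ => List ℕ) (Bool.rec (motive := fun _ => List ℕ) (Bool.rec (motive := fun _ => List ℕ) (Bool.rec (motive := fun _ => List ℕ) (rw6656) (rw6657) (Nat.ble 6657 i)) (Bool.rec (motive := fun _ => List ℕ) (rw6658) (rw6659) (Nat.ble 6659 i)) (Nat.ble 6658 i)) (Bool.rec (motive := fun _ => List ℕ) (Bool.rec (motive := fun _ => List ℕ) (rw6660) (rw6661) (Nat.ble 6661 i)) (Bool.rec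 (motive := fun _ => List ℕ) (rw6662) (rw6663) (Nat.ble 6663 i)) (Nat.ble 6662 i)) (Nat.ble 6660 i)) (Bool.rec (motive := fun _ => List ℕ) (Bool.rec (motive := fun _ => List ℕ) (Bool.rec (motive := fun _ => List ℕ) (rw6664) (rw6665) (Nat.ble 6665 i)) (Bool.rec (motive := fun _ => List ℕ) (rw6666) (rw6667) (Nat.ble 6667 i)) (Nat.ble 6666 i)) (Bool.rec (motive := fun _ => List ℕ) (Bool.rec (motive := fun _ => List ℕ) (rw6668) (rw6669) (Nat.ble 6669 i)) (Bool.rec (motive := fun _ => List ℕ) (rw6670) (rw6671) (Nat.ble 6671 i)) (Nat.ble 6670 i)) (Nat.ble 6668 i)) (Nat.ble 6664 i)) (Bool.rec (motive := fun _ => List ℕ) (Bool.rec (motive := fun _ => List ℕ) (Bool.rec (motive := fun _ => List ℕ) (Bool.rec (motive := fun _ => List ℕ) (rw6672) (rw6673) (Nat.ble 6673 i)) (Bool.rec (motive := fun _ => List ℕ) (rw6674)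 (rw6675) (Nat.ble 6675 i)) (Nat.ble 6674 i)) (Bool.rec (motive := fun _ => List ℕ) (Bool.rec (motive := fun _ => List ℕ) (rw6676) (rw6677) (Nat.ble 6677 i)) (Bool.rec (motive := fun _ => List ℕ) (rw6678) (rw6679) (Nat.ble 6679 i)) (Nat.ble 6678 i)) (Nat.ble 6676 i)) (Bool.rec (motive := fun _ => List ℕ) (Bool.rec (motive := fun _ => List ℕ) (Bool.rec (motive := fun _ => List ℕ) (rw6680) (rw6681) (Nat.ble 6681 i)) (Bool.rec (motive := fun _ => List ℕ) (rw6682) (rw6683) (Nat.ble 6683 i)) (Nat.ble 6682 i)) (Bool.rec (motive := fun _ => List ℕ) (Bool.rec (motive := fun _ => List ℕ) (rw6684) (rw6685) (Nat.ble 6685 i)) (Bool.rec (motive := fun _ => List ℕ) (rw6686) (rw6687) (Nat.ble 6687 i)) (Nat.ble 6686 i)) (Nat.ble 6684 i)) (Nat.ble 6680 i)) (Nat.ble 6672 i)) (Bool.rec (motive := fun _ => List ℕ) (Bool.rec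 (motive := fun _ => List ℕ) (Bool.rec (motive := fun _ => List ℕ) (Bool.rec (motive := fun _ => List ℕ) (Bool.rec (motive := fun _ => List ℕ) (rw6688) (rw6689) (Nat.ble 6689 i)) (Bool.rec (motive := fun _ => List ℕ) (rw6690) (rw6691) (Nat.ble 6691 i)) (Nat.ble 6690 i)) (Bool.rec (motive := fun _ => List ℕ) (Bool.rec (motive := fun _ => List ℕ) (rw6692) (rw6693) (Nat.ble 6693 i)) (Bool.rec (motive := fun _ => List ℕ) (rw6694) (rw6695) (Nat.ble 6695 i)) (Nat.ble 6694 i)) (Nat.ble 6692 i)) (Bool.rec (motive := fun _ => List ℕ) (Bool.rec (motive := fun _ => List ℕ) (Bool.rec (motive := fun _ => List ℕ) (rw6696) (rw6697) (Nat.ble 6697 i)) (Bool.rec (motive := fun _ => List ℕ) (rw6698) (rw6699) (Nat.ble 6699 i)) (Nat.ble 6698 i)) (Bool.rec (motive := fun _ => List ℕ) (Bool.rec (motive := fun _ => List ℕ) (rw6700)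 (rw6701) (Nat.ble 6701 i)) (Bool.rec (motive := fun _ => List ℕ) (rw6702) (rw6703) (Nat.ble 6703 i)) (Nat.ble 6702 i)) (Nat.ble 6700 i)) (Nat.ble 6696 i)) (Bool.rec (motive := fun _ => List ℕ) (Bool.rec (motive := fun _ => List ℕ) (Bool.rec (motive := fun _ => List ℕ) (Bool.rec (motive := fun _ => List ℕ) (rw6704) (rw6705) (Nat.ble 6705 i)) (Bool.rec (motive := fun _ => List ℕ) (rw6706) (rw6707) (Nat.ble 6707 i)) (Nat.ble 6706 i)) (Bool.rec (motive := fun _ => List ℕ) (Bool.rec (motive := fun _ => List ℕ) (rw6708) (rw6709) (Nat.ble 6709 i)) (Bool.rec (motive := fun _ => List ℕ) (rw6710) (rw6711) (Nat.ble 6711 i)) (Nat.ble 6710 i)) (Nat.ble 6708 i)) (Bool.rec (motive := fun _ => List ℕ) (Bool.rec (motive := fun _ => List ℕ) (Bool.rec (motive := fun _ => List ℕ) (rw6712) (rw6713) (Nat.ble 6713 i)) (Bool.rec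 (motive := fun _ => List ℕ) (rw6714) (rw6715) (Nat.ble 6715 i)) (Nat.ble 6714 i)) (Bool.rec (motive := fun _ => List ℕ) (Bool.rec (motive := fun _ => List ℕ) (rw6716) (rw6717) (Nat.ble 6717 i)) (Bool.rec (motive := fun _ => List ℕ) (rw6718) (rw6719) (Nat.ble 6719 i)) (Nat.ble 6718 i)) (Nat.ble 6716 i)) (Nat.ble 6712 i)) (Nat.ble 6704 i)) (Nat.ble 6688 i)
noncomputable def rwb105 (i : ℕ) : List ℕ := Bool.rec (motive := fun _ => List ℕ) (Bool.rec (motive := fun _ => List ℕ) (Bool.rec (motive := fun _ => List ℕ) (Bool.rec (motive := fun _ => List ℕ) (Bool.rec (motive := fun _ => List ℕ) (Bool.rec (motive := fun _ => List ℕ) (rw6720) (rw6721) (Nat.ble 6721 i)) (Bool.rec (motive := fun _ => List ℕ) (rw6722) (rw6723) (Nat.ble 6723 i)) (Nat.ble 6722 i)) (Bool.rec (motive := fun _ => List ℕ) (Bool.rec (motive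 := fun _ => List ℕ) (rw6724) (rw6725) (Nat.ble 6725 i)) (Bool.rec (motive := fun _ => List ℕ) (rw6726) (rw6727) (Nat.ble 6727 i)) (Nat.ble 6726 i)) (Nat.ble 6724 i)) (Bool.rec (motive := fun _ => List ℕ) (Bool.rec (motive := fun _ => List ℕ) (Bool.rec (motive := fun _ => List ℕ) (rw6728) (rw6729) (Nat.ble 6729 i)) (Bool.rec (motive := fun _ => List ℕ) (rw6730) (rw6731) (Nat.ble 6731 i)) (Nat.ble 6730 i)) (Bool.rec (motive := fun _ => List ℕ) (Bool.rec (motive := fun _ => List ℕ) (rw6732) (rw6733) (Nat.ble 6733 i)) (Bool.rec (motive := fun _ => List ℕ) (rw6734) (rw6735) (Nat.ble 6735 i)) (Nat.ble 6734 i)) (Nat.ble 6732 i)) (Nat.ble 6728 i)) (Bool.rec (motive := fun _ => List ℕ) (Bool.rec (motive := fun _ => List ℕ) (Bool.rec (motive := fun _ => List ℕ) (Bool.rec (motive := fun _ => List ℕ) (rw6736) (rw6737)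 (Nat.ble 6737 i)) (Bool.rec (motive := fun _ => List ℕ) (rw6738) (rw6739) (Nat.ble 6739 i)) (Nat.ble 6738 i)) (Bool.rec (motive := fun _ => List ℕ) (Bool.rec (motive := fun _ => List ℕ) (rw6740) (rw6741) (Nat.ble 6741 i)) (Bool.rec (motive := fun _ => List ℕ) (rw6742) (rw6743) (Nat.ble 6743 i)) (Nat.ble 6742 i)) (Nat.ble 6740 i)) (Bool.rec (motive := fun _ => List ℕ) (Bool.rec (motive := fun _ => List ℕ) (Bool.rec (motive := fun _ => List ℕ) (rw6744) (rw6745) (Nat.ble 6745 i)) (Bool.rec (motive := fun _ => List ℕ) (rw6746) (rw6747) (Nat.ble 6747 i)) (Nat.ble 6746 i)) (Bool.rec (motive := fun _ => List ℕ) (Bool.rec (motive := fun _ => List ℕ) (rw6748) (rw6749) (Nat.ble 6749 i)) (Bool.rec (motive := fun _ => List ℕ) (rw6750) (rw6751) (Nat.ble 6751 i)) (Nat.ble 6750 i)) (Nat.ble 6748 i)) (Nat.ble 6744 i))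 (Nat.ble 6736 i)) (Bool.rec (motive := fun _ => List ℕ) (Bool.rec (motive := fun _ => List ℕ) (Bool.rec (motive := fun _ => List ℕ) (Bool.rec (motive := fun _ => List ℕ) (Bool.rec (motive := fun _ => List ℕ) (rw6752) (rw6753) (Nat.ble 6753 i)) (Bool.rec (motive := fun _ => List ℕ) (rw6754) (rw6755) (Nat.ble 6755 i)) (Nat.ble 6754 i)) (Bool.rec (motive := fun _ => List ℕ) (Bool.rec (motive := fun _ => List ℕ) (rw6756) (rw6757) (Nat.ble 6757 i)) (Bool.rec (motive := fun _ => List ℕ) (rw6758) (rw6759) (Nat.ble 6759 i)) (Nat.ble 6758 i)) (Nat.ble 6756 i)) (Bool.rec (motive := fun _ => List ℕ) (Bool.rec (motive := fun _ => List ℕ) (Bool.rec (motive := fun _ => List ℕ) (rw6760) (rw6761) (Nat.ble 6761 i)) (Bool.rec (motive := fun _ => List ℕ) (rw6762) (rw6763) (Nat.ble 6763 i)) (Nat.ble 6762 i)) (Bool.rec (motive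 := fun _ => List ℕ) (Bool.rec (motive := fun _ => List ℕ) (rw6764) (rw6765) (Nat.ble 6765 i)) (Bool.rec (motive := fun _ => List ℕ) (rw6766) (rw6767) (Nat.ble 6767 i)) (Nat.ble 6766 i)) (Nat.ble 6764 i)) (Nat.ble 6760 i)) (Bool.rec (motive := fun _ => List ℕ) (Bool.rec (motive := fun _ => List ℕ) (Bool.rec (motive := fun _ => List ℕ) (Bool.rec (motive := fun _ => List ℕ) (rw6768) (rw6769) (Nat.ble 6769 i)) (Bool.rec (motive := fun _ => List ℕ) (rw6770) (rw6771) (Nat.ble 6771 i)) (Nat.ble 6770 i)) (Bool.rec (motive := fun _ => List ℕ) (Bool.rec (motive := fun _ => List ℕ) (rw6772) (rw6773) (Nat.ble 6773 i)) (Bool.rec (motive := fun _ => List ℕ) (rw6774) (rw6775) (Nat.ble 6775 i)) (Nat.ble 6774 i)) (Nat.ble 6772 i)) (Bool.rec (motive := fun _ => List ℕ) (Bool.rec (motive := fun _ => List ℕ) (Bool.rec (motive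 := fun _ => List ℕ) (rw6776) (rw6777) (Nat.ble 6777 i)) (Bool.rec (motive := fun _ => List ℕ) (rw6778) (rw6779) (Nat.ble 6779 i)) (Nat.ble 6778 i)) (Bool.rec (motive := fun _ => List ℕ) (Bool.rec (motive := fun _ => List ℕ) (rw6780) (rw6781) (Nat.ble 6781 i)) (Bool.rec (motive := fun _ => List ℕ) (rw6782) (rw6783) (Nat.ble 6783 i)) (Nat.ble 6782 i)) (Nat.ble 6780 i)) (Nat.ble 6776 i)) (Nat.ble 6768 i)) (Nat.ble 6752 i)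
noncomputable def rwb106 (i : ℕ) : List ℕ := Bool.rec (motive := fun _ => List ℕ) (Bool.rec (motive := fun _ => List ℕ) (Bool.rec (motive := fun _ => List ℕ) (Bool.rec (motive := fun _ => List ℕ) (Bool.rec (motive := fun _ => List ℕ) (Bool.rec (motive := fun _ => List ℕ) (rw6784) (rw6785) (Nat.ble 6785 i)) (Bool.rec (motive := fun _ => List ℕ) (rw6786) (rw6787) (Nat.ble 6787 i)) (Nat.ble 6786 i)) (Bool.rec (motive := fun _ => List ℕ) (Bool.rec (motive := fun _ => List ℕ) (rw6788) (rw6789) (Nat.ble 6789 i)) (Bool.rec (motive := fun _ => List ℕ) (rw6790) (rw6791) (Nat.ble 6791 i)) (Nat.ble 6790 i)) (Nat.ble 6788 i)) (Bool.rec (motive := fun _ => List ℕ) (Bool.rec (motive := fun _ => List ℕ) (Bool.rec (motive := fun _ => List ℕ) (rw6792) (rw6793) (Nat.ble 6793 i)) (Bool.rec (motive := fun _ => List ℕ) (rw6794)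 (rw6795) (Nat.ble 6795 i)) (Nat.ble 6794 i)) (Bool.rec (motive := fun _ => List ℕ) (Bool.rec (motive := fun _ => List ℕ) (rw6796) (rw6797) (Nat.ble 6797 i)) (Bool.rec (motive := fun _ => List ℕ) (rw6798) (rw6799) (Nat.ble 6799 i)) (Nat.ble 6798 i)) (Nat.ble 6796 i)) (Nat.ble 6792 i)) (Bool.rec (motive := fun _ => List ℕ) (Bool.rec (motive := fun _ => List ℕ) (Bool.rec (motive := fun _ => List ℕ) (Bool.rec (motive := fun _ => List ℕ) (rw6800) (rw6801) (Nat.ble 6801 i)) (Bool.rec (motive := fun _ => List ℕ) (rw6802) (rw6803) (Nat.ble 6803 i)) (Nat.ble 6802 i)) (Bool.rec (motive := fun _ => List ℕ) (Bool.rec (motive := fun _ => List ℕ) (rw6804) (rw6805) (Nat.ble 6805 i)) (Bool.rec (motive := fun _ => List ℕ) (rw6806) (rw6807) (Nat.ble 6807 i)) (Nat.ble 6806 i)) (Nat.ble 6804 i)) (Bool.rec (motive := fun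 _ => List ℕ) (Bool.rec (motive := fun _ => List ℕ) (Bool.rec (motive := fun _ => List ℕ) (rw6808) (rw6809) (Nat.ble 6809 i)) (Bool.rec (motive := fun _ => List ℕ) (rw6810) (rw6811) (Nat.ble 6811 i)) (Nat.ble 6810 i)) (Bool.rec (motive := fun _ => List ℕ) (Bool.rec (motive := fun _ => List ℕ) (rw6812) (rw6813) (Nat.ble 6813 i)) (Bool.rec (motive := fun _ => List ℕ) (rw6814) (rw6815) (Nat.ble 6815 i)) (Nat.ble 6814 i)) (Nat.ble 6812 i)) (Nat.ble 6808 i)) (Nat.ble 6800 i)) (Bool.rec (motive := fun _ => List ℕ) (Bool.rec (motive := fun _ => List ℕ) (Bool.rec (motive := fun _ => List ℕ) (Bool.rec (motive := fun _ => List ℕ) (Bool.rec (motive := fun _ => List ℕ) (rw6816) (rw6817) (Nat.ble 6817 i)) (Bool.rec (motive := fun _ => List ℕ) (rw6818) (rw6819) (Nat.ble 6819 i)) (Nat.ble 6818 i)) (Bool.rec (motive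 := fun _ => List ℕ) (Bool.rec (motive := fun _ => List ℕ) (rw6820) (rw6821) (Nat.ble 6821 i)) (Bool.rec (motive := fun _ => List ℕ) (rw6822) (rw6823) (Nat.ble 6823 i)) (Nat.ble 6822 i)) (Nat.ble 6820 i)) (Bool.rec (motive := fun _ => List ℕ) (Bool.rec (motive := fun _ => List ℕ) (Bool.rec (motive := fun _ => List ℕ) (rw6824) (rw6825) (Nat.ble 6825 i)) (Bool.rec (motive := fun _ => List ℕ) (rw6826) (rw6827) (Nat.ble 6827 i)) (Nat.ble 6826 i)) (Bool.rec (motive := fun _ => List ℕ) (Bool.rec (motive := fun _ => List ℕ) (rw6828) (rw6829) (Nat.ble 6829 i)) (Bool.rec (motive := fun _ => List ℕ) (rw6830) (rw6831) (Nat.ble 6831 i)) (Nat.ble 6830 i)) (Nat.ble 6828 i)) (Nat.ble 6824 i)) (Bool.rec (motive := fun _ => List ℕ) (Bool.rec (motive := fun _ => List ℕ) (Bool.rec (motive := fun _ => List ℕ) (Bool.rec (motive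 := fun _ => List ℕ) (rw6832) (rw6833) (Nat.ble 6833 i)) (Bool.rec (motive := fun _ => List ℕ) (rw6834) (rw6835) (Nat.ble 6835 i)) (Nat.ble 6834 i)) (Bool.rec (motive := fun _ => List ℕ) (Bool.rec (motive := fun _ => List ℕ) (rw6836) (rw6837) (Nat.ble 6837 i)) (Bool.rec (motive := fun _ => List ℕ) (rw6838) (rw6839) (Nat.ble 6839 i)) (Nat.ble 6838 i)) (Nat.ble 6836 i)) (Bool.rec (motive := fun _ => List ℕ) (Bool.rec (motive := fun _ => List ℕ) (Bool.rec (motive := fun _ => List ℕ) (rw6840) (rw6841) (Nat.ble 6841 i)) (Bool.rec (motive := fun _ => List ℕ) (rw6842) (rw6843) (Nat.ble 6843 i)) (Nat.ble 6842 i)) (Bool.rec (motive := fun _ => List ℕ) (Bool.rec (motive := fun _ => List ℕ) (rw6844) (rw6845) (Nat.ble 6845 i)) (Bool.rec (motive := fun _ => List ℕ) (rw6846) (rw6847) (Nat.ble 6847 i)) (Nat.ble 6846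 i)) (Nat.ble 6844 i)) (Nat.ble 6840 i)) (Nat.ble 6832 i)) (Nat.ble 6816 i)
noncomputable def rwb107 (i : ℕ) : List ℕ := Bool.rec (motive := fun _ => List ℕ) (Bool.rec (motive := fun _ => List ℕ) (Bool.rec (motive := fun _ => List ℕ) (Bool.rec (motive := fun _ => List ℕ) (Bool.rec (motive := fun _ => List ℕ) (Bool.rec (motive := fun _ => List ℕ) (rw6848) (rw6849) (Nat.ble 6849 i)) (Bool.rec (motive := fun _ => List ℕ) (rw6850) (rw6851) (Nat.ble 6851 i)) (Nat.ble 6850 i)) (Bool.rec (motive := fun _ => List ℕ) (Bool.rec (motive := fun _ => List ℕ) (rw6852) (rw6853) (Nat.ble 6853 i)) (Bool.rec (motive := fun _ => List ℕ) (rw6854) (rw6855) (Nat.ble 6855 i)) (Nat.ble 6854 i)) (Nat.ble 6852 i)) (Bool.rec (motive := fun _ => List ℕ) (Bool.rec (motive := fun _ => List ℕ) (Bool.rec (motive := fun _ => List ℕ)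 (rw6856) (rw6857) (Nat.ble 6857 i)) (Bool.rec (motive := fun _ => List ℕ) (rw6858) (rw6859) (Nat.ble 6859 i)) (Nat.ble 6858 i)) (Bool.rec (motive := fun _ => List ℕ) (Bool.rec (motive := fun _ => List ℕ) (rw6860) (rw6861) (Nat.ble 6861 i)) (Bool.rec (motive := fun _ => List ℕ) (rw6862) (rw6863) (Nat.ble 6863 i)) (Nat.ble 6862 i)) (Nat.ble 6860 i)) (Nat.ble 6856 i)) (Bool.rec (motive := fun _ => List ℕ) (Bool.rec (motive := fun _ => List ℕ) (Bool.rec (motive := fun _ => List ℕ) (Bool.rec (motive := fun _ => List ℕ) (rw6864) (rw6865) (Nat.ble 6865 i)) (Bool.rec (motive := fun _ => List ℕ) (rw6866) (rw6867) (Nat.ble 6867 i)) (Nat.ble 6866 i)) (Bool.rec (motive := fun _ => List ℕ) (Bool.rec (motive := fun _ => List ℕ) (rw6868) (rw6869) (Nat.ble 6869 i)) (Bool.rec (motive := fun _ => List ℕ) (rw6870) (rw6871)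 (Nat.ble 6871 i)) (Nat.ble 6870 i)) (Nat.ble 6868 i)) (Bool.rec (motive := fun _ => List ℕ) (Bool.rec (motive := fun _ => List ℕ) (Bool.rec (motive := fun _ => List ℕ) (rw6872) (rw6873) (Nat.ble 6873 i)) (Bool.rec (motive := fun _ => List ℕ) (rw6874) (rw6875) (Nat.ble 6875 i)) (Nat.ble 6874 i)) (Bool.rec (motive := fun _ => List ℕ) (Bool.rec (motive := fun _ => List ℕ) (rw6876) (rw6877) (Nat.ble 6877 i)) (Bool.rec (motive := fun _ => List ℕ) (rw6878) (rw6879) (Nat.ble 6879 i)) (Nat.ble 6878 i)) (Nat.ble 6876 i)) (Nat.ble 6872 i)) (Nat.ble 6864 i)) (Bool.rec (motive := fun _ => List ℕ) (Bool.rec (motive := fun _ => List ℕ) (Bool.rec (motive := fun _ => List ℕ) (Bool.rec (motive := fun _ => List ℕ) (Bool.rec (motive := fun _ => List ℕ) (rw6880) (rw6881) (Nat.ble 6881 i)) (Bool.rec (motive := fun _ => List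 ℕ) (rw6882) (rw6883) (Nat.ble 6883 i)) (Nat.ble 6882 i)) (Bool.rec (motive := fun _ => List ℕ) (Bool.rec (motive := fun _ => List ℕ) (rw6884) (rw6885) (Nat.ble 6885 i)) (Bool.rec (motive := fun _ => List ℕ) (rw6886) (rw6887) (Nat.ble 6887 i)) (Nat.ble 6886 i)) (Nat.ble 6884 i)) (Bool.rec (motive := fun _ => List ℕ) (Bool.rec (motive := fun _ => List ℕ) (Bool.rec (motive := fun _ => List ℕ) (rw6888) (rw6889) (Nat.ble 6889 i)) (Bool.rec (motive := fun _ => List ℕ) (rw6890) (rw6891) (Nat.ble 6891 i)) (Nat.ble 6890 i)) (Bool.rec (motive := fun _ => List ℕ) (Bool.rec (motive := fun _ => List ℕ) (rw6892) (rw6893) (Nat.ble 6893 i)) (Bool.rec (motive := fun _ => List ℕ) (rw6894) (rw6895) (Nat.ble 6895 i)) (Nat.ble 6894 i)) (Nat.ble 6892 i)) (Nat.ble 6888 i)) (Bool.rec (motive := fun _ => List ℕ) (Bool.rec (motive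 := fun _ => List ℕ) (Bool.rec (motive := fun _ => List ℕ) (Bool.rec (motive := fun _ => List ℕ) (rw6896) (rw6897) (Nat.ble 6897 i)) (Bool.rec (motive := fun _ => List ℕ) (rw6898) (rw6899) (Nat.ble 6899 i)) (Nat.ble 6898 i)) (Bool.rec (motive := fun _ => List ℕ) (Bool.rec (motive := fun _ => List ℕ) (rw6900) (rw6901) (Nat.ble 6901 i)) (Bool.rec (motive := fun _ => List ℕ) (rw6902) (rw6903) (Nat.ble 6903 i)) (Nat.ble 6902 i)) (Nat.ble 6900 i)) (Bool.rec (motive := fun _ => List ℕ) (Bool.rec (motive := fun _ => List ℕ) (Bool.rec (motive := fun _ => List ℕ) (rw6904) (rw6905) (Nat.ble 6905 i)) (Bool.rec (motive := fun _ => List ℕ) (rw6906) (rw6907) (Nat.ble 6907 i)) (Nat.ble 6906 i)) (Bool.rec (motive := fun _ => List ℕ) (Bool.rec (motive := fun _ => List ℕ) (rw6908) (rw6909) (Nat.ble 6909 i)) (Bool.rec (motive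 := fun _ => List ℕ) (rw6910) (rw6911) (Nat.ble 6911 i)) (Nat.ble 6910 i)) (Nat.ble 6908 i)) (Nat.ble 6904 i)) (Nat.ble 6896 i)) (Nat.ble 6880 i)
noncomputable def rwb108 (i : ℕ) : List ℕ := Bool.rec (motive := fun _ => List ℕ) (Bool.rec (motive := fun _ => List ℕ) (Bool.rec (motive := fun _ => List ℕ) (Bool.rec (motive := fun _ => List ℕ) (Bool.rec (motive := fun _ => List ℕ) (Bool.rec (motive := fun _ => List ℕ) (rw6912) (rw6913) (Nat.ble 6913 i)) (Bool.rec (motive := fun _ => List ℕ) (rw6914) (rw6915) (Nat.ble 6915 i)) (Nat.ble 6914 i)) (Bool.rec (motive := fun _ => List ℕ) (Bool.rec (motive := fun _ => List ℕ) (rw6916) (rw6917) (Nat.ble 6917 i)) (Bool.rec (motive := fun _ => List ℕ) (rw6918) (rw6919) (Nat.ble 6919 i)) (Nat.ble 6918 i)) (Nat.ble 6916 i)) (Bool.rec (motive := fun _ => List ℕ) (Bool.rec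 (motive := fun _ => List ℕ) (Bool.rec (motive := fun _ => List ℕ) (rw6920) (rw6921) (Nat.ble 6921 i)) (Bool.rec (motive := fun _ => List ℕ) (rw6922) (rw6923) (Nat.ble 6923 i)) (Nat.ble 6922 i)) (Bool.rec (motive := fun _ => List ℕ) (Bool.rec (motive := fun _ => List ℕ) (rw6924) (rw6925) (Nat.ble 6925 i)) (Bool.rec (motive := fun _ => List ℕ) (rw6926) (rw6927) (Nat.ble 6927 i)) (Nat.ble 6926 i)) (Nat.ble 6924 i)) (Nat.ble 6920 i)) (Bool.rec (motive := fun _ => List ℕ) (Bool.rec (motive := fun _ => List ℕ) (Bool.rec (motive := fun _ => List ℕ) (Bool.rec (motive := fun _ => List ℕ) (rw6928) (rw6929) (Nat.ble 6929 i)) (Bool.rec (motive := fun _ => List ℕ) (rw6930) (rw6931) (Nat.ble 6931 i)) (Nat.ble 6930 i)) (Bool.rec (motive := fun _ => List ℕ) (Bool.rec (motive := fun _ => List ℕ) (rw6932) (rw6933) (Nat.ble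 6933 i)) (Bool.rec (motive := fun _ => List ℕ) (rw6934) (rw6935) (Nat.ble 6935 i)) (Nat.ble 6934 i)) (Nat.ble 6932 i)) (Bool.rec (motive := fun _ => List ℕ) (Bool.rec (motive := fun _ => List ℕ) (Bool.rec (motive := fun _ => List ℕ) (rw6936) (rw6937) (Nat.ble 6937 i)) (Bool.rec (motive := fun _ => List ℕ) (rw6938) (rw6939) (Nat.ble 6939 i)) (Nat.ble 6938 i)) (Bool.rec (motive := fun _ => List ℕ) (Bool.rec (motive := fun _ => List ℕ) (rw6940) (rw6941) (Nat.ble 6941 i)) (Bool.rec (motive := fun _ => List ℕ) (rw6942) (rw6943) (Nat.ble 6943 i)) (Nat.ble 6942 i)) (Nat.ble 6940 i)) (Nat.ble 6936 i)) (Nat.ble 6928 i)) (Bool.rec (motive := fun _ => List ℕ) (Bool.rec (motive := fun _ => List ℕ) (Bool.rec (motive := fun _ => List ℕ) (Bool.rec (motive := fun _ => List ℕ) (Bool.rec (motive := fun _ => List ℕ) (rw6944)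 (rw6945) (Nat.ble 6945 i)) (Bool.rec (motive := fun _ => List ℕ) (rw6946) (rw6947) (Nat.ble 6947 i)) (Nat.ble 6946 i)) (Bool.rec (motive := fun _ => List ℕ) (Bool.rec (motive := fun _ => List ℕ) (rw6948) (rw6949) (Nat.ble 6949 i)) (Bool.rec (motive := fun _ => List ℕ) (rw6950) (rw6951) (Nat.ble 6951 i)) (Nat.ble 6950 i)) (Nat.ble 6948 i)) (Bool.rec (motive := fun _ => List ℕ) (Bool.rec (motive := fun _ => List ℕ) (Bool.rec (motive := fun _ => List ℕ) (rw6952) (rw6953) (Nat.ble 6953 i)) (Bool.rec (motive := fun _ => List ℕ) (rw6954) (rw6955) (Nat.ble 6955 i)) (Nat.ble 6954 i)) (Bool.rec (motive := fun _ => List ℕ) (Bool.rec (motive := fun _ => List ℕ) (rw6956) (rw6957) (Nat.ble 6957 i)) (Bool.rec (motive := fun _ => List ℕ) (rw6958) (rw6959) (Nat.ble 6959 i)) (Nat.ble 6958 i)) (Nat.ble 6956 i)) (Nat.ble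 6952 i)) (Bool.rec (motive := fun _ => List ℕ) (Bool.rec (motive := fun _ => List ℕ) (Bool.rec (motive := fun _ => List ℕ) (Bool.rec (motive := fun _ => List ℕ) (rw6960) (rw6961) (Nat.ble 6961 i)) (Bool.rec (motive := fun _ => List ℕ) (rw6962) (rw6963) (Nat.ble 6963 i)) (Nat.ble 6962 i)) (Bool.rec (motive := fun _ => List ℕ) (Bool.rec (motive := fun _ => List ℕ) (rw6964) (rw6965) (Nat.ble 6965 i)) (Bool.rec (motive := fun _ => List ℕ) (rw6966) (rw6967) (Nat.ble 6967 i)) (Nat.ble 6966 i)) (Nat.ble 6964 i)) (Bool.rec (motive := fun _ => List ℕ) (Bool.rec (motive := fun _ => List ℕ) (Bool.rec (motive := fun _ => List ℕ) (rw6968) (rw6969) (Nat.ble 6969 i)) (Bool.rec (motive := fun _ => List ℕ) (rw6970) (rw6971) (Nat.ble 6971 i)) (Nat.ble 6970 i)) (Bool.rec (motive := fun _ => List ℕ) (Bool.rec (motive :=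 fun _ => List ℕ) (rw6972) (rw6973) (Nat.ble 6973 i)) (Bool.rec (motive := fun _ => List ℕ) (rw6974) (rw6975) (Nat.ble 6975 i)) (Nat.ble 6974 i)) (Nat.ble 6972 i)) (Nat.ble 6968 i)) (Nat.ble 6960 i)) (Nat.ble 6944 i)
noncomputable def rwb109 (i : ℕ) : List ℕ := Bool.rec (motive := fun _ => List ℕ) (Bool.rec (motive := fun _ => List ℕ) (Bool.rec (motive := fun _ => List ℕ) (Bool.rec (motive := fun _ => List ℕ) (Bool.rec (motive := fun _ => List ℕ) (Bool.rec (motive := fun _ => List ℕ) (rw6976) (rw6977) (Nat.ble 6977 i)) (Bool.rec (motive := fun _ => List ℕ) (rw6978) (rw6979) (Nat.ble 6979 i)) (Nat.ble 6978 i)) (Bool.rec (motive := fun _ => List ℕ) (Bool.rec (motive := fun _ => List ℕ) (rw6980) (rw6981) (Nat.ble 6981 i)) (Bool.rec (motive := fun _ => List ℕ) (rw6982) (rw6983) (Nat.ble 6983 i)) (Nat.ble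 6982 i)) (Nat.ble 6980 i)) (Bool.rec (motive := fun _ => List ℕ) (Bool.rec (motive := fun _ => List ℕ) (Bool.rec (motive := fun _ => List ℕ) (rw6984) (rw6985) (Nat.ble 6985 i)) (Bool.rec (motive := fun _ => List ℕ) (rw6986) (rw6987) (Nat.ble 6987 i)) (Nat.ble 6986 i)) (Bool.rec (motive := fun _ => List ℕ) (Bool.rec (motive := fun _ => List ℕ) (rw6988) (rw6989) (Nat.ble 6989 i)) (Bool.rec (motive := fun _ => List ℕ) (rw6990) (rw6991) (Nat.ble 6991 i)) (Nat.ble 6990 i)) (Nat.ble 6988 i)) (Nat.ble 6984 i)) (Bool.rec (motive := fun _ => List ℕ) (Bool.rec (motive := fun _ => List ℕ) (Bool.rec (motive := fun _ => List ℕ) (Bool.rec (motive := fun _ => List ℕ) (rw6992) (rw6993) (Nat.ble 6993 i)) (Bool.rec (motive := fun _ => List ℕ) (rw6994) (rw6995) (Nat.ble 6995 i)) (Nat.ble 6994 i)) (Bool.rec (motive := fun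 _ => List ℕ) (Bool.rec (motive := fun _ => List ℕ) (rw6996) (rw6997) (Nat.ble 6997 i)) (Bool.rec (motive := fun _ => List ℕ) (rw6998) (rw6999) (Nat.ble 6999 i)) (Nat.ble 6998 i)) (Nat.ble 6996 i)) (Bool.rec (motive := fun _ => List ℕ) (Bool.rec (motive := fun _ => List ℕ) (Bool.rec (motive := fun _ => List ℕ) (rw7000) (rw7001) (Nat.ble 7001 i)) (Bool.rec (motive := fun _ => List ℕ) (rw7002) (rw7003) (Nat.ble 7003 i)) (Nat.ble 7002 i)) (Bool.rec (motive := fun _ => List ℕ) (Bool.rec (motive := fun _ => List ℕ) (rw7004) (rw7005) (Nat.ble 7005 i)) (Bool.rec (motive := fun _ => List ℕ) (rw7006) (rw7007) (Nat.ble 7007 i)) (Nat.ble 7006 i)) (Nat.ble 7004 i)) (Nat.ble 7000 i)) (Nat.ble 6992 i)) (Bool.rec (motive := fun _ => List ℕ) (Bool.rec (motive := fun _ => List ℕ) (Bool.rec (motive := fun _ => List ℕ)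 (Bool.rec (motive := fun _ => List ℕ) (Bool.rec (motive := fun _ => List ℕ) (rw7008) (rw7009) (Nat.ble 7009 i)) (Bool.rec (motive := fun _ => List ℕ) (rw7010) (rw7011) (Nat.ble 7011 i)) (Nat.ble 7010 i)) (Bool.rec (motive := fun _ => List ℕ) (Bool.rec (motive := fun _ => List ℕ) (rw7012) (rw7013) (Nat.ble 7013 i)) (Bool.rec (motive := fun _ => List ℕ) (rw7014) (rw7015) (Nat.ble 7015 i)) (Nat.ble 7014 i)) (Nat.ble 7012 i)) (Bool.rec (motive := fun _ => List ℕ) (Bool.rec (motive := fun _ => List ℕ) (Bool.rec (motive := fun _ => List ℕ) (rw7016) (rw7017) (Nat.ble 7017 i)) (Bool.rec (motive := fun _ => List ℕ) (rw7018) (rw7019) (Nat.ble 7019 i)) (Nat.ble 7018 i)) (Bool.rec (motive := fun _ => List ℕ) (Bool.rec (motive := fun _ => List ℕ) (rw7020) (rw7021) (Nat.ble 7021 i)) (Bool.rec (motive := fun _ => List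 ℕ) (rw7022) (rw7023) (Nat.ble 7023 i)) (Nat.ble 7022 i)) (Nat.ble 7020 i)) (Nat.ble 7016 i)) (Bool.rec (motive := fun _ => List ℕ) (Bool.rec (motive := fun _ => List ℕ) (Bool.rec (motive := fun _ => List ℕ) (Bool.rec (motive := fun _ => List ℕ) (rw7024) (rw7025) (Nat.ble 7025 i)) (Bool.rec (motive := fun _ => List ℕ) (rw7026) (rw7027) (Nat.ble 7027 i)) (Nat.ble 7026 i)) (Bool.rec (motive := fun _ => List ℕ) (Bool.rec (motive := fun _ => List ℕ) (rw7028) (rw7029) (Nat.ble 7029 i)) (Bool.rec (motive := fun _ => List ℕ) (rw7030) (rw7031) (Nat.ble 7031 i)) (Nat.ble 7030 i)) (Nat.ble 7028 i)) (Bool.rec (motive := fun _ => List ℕ) (Bool.rec (motive := fun _ => List ℕ) (Bool.rec (motive := fun _ => List ℕ) (rw7032) (rw7033) (Nat.ble 7033 i)) (Bool.rec (motive := fun _ => List ℕ) (rw7034) (rw7035) (Nat.ble 7035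 i)) (Nat.ble 7034 i)) (Bool.rec (motive := fun _ => List ℕ) (Bool.rec (motive := fun _ => List ℕ) (rw7036) (rw7037) (Nat.ble 7037 i)) (Bool.rec (motive := fun _ => List ℕ) (rw7038) (rw7039) (Nat.ble 7039 i)) (Nat.ble 7038 i)) (Nat.ble 7036 i)) (Nat.ble 7032 i)) (Nat.ble 7024 i)) (Nat.ble 7008 i)
noncomputable def rwb110 (i : ℕ) : List ℕ := Bool.rec (motive := fun _ => List ℕ) (Bool.rec (motive := fun _ => List ℕ) (Bool.rec (motive := fun _ => List ℕ) (Bool.rec (motive := fun _ => List ℕ) (Bool.rec (motive := fun _ => List ℕ) (Bool.rec (motive := fun _ => List ℕ) (rw7040) (rw7041) (Nat.ble 7041 i)) (Bool.rec (motive := fun _ => List ℕ) (rw7042) (rw7043) (Nat.ble 7043 i)) (Nat.ble 7042 i)) (Bool.rec (motive := fun _ => List ℕ) (Bool.rec (motive := fun _ => List ℕ) (rw7044) (rw7045) (Nat.ble 7045 i)) (Bool.rec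 (motive := fun _ => List ℕ) (rw7046) (rw7047) (Nat.ble 7047 i)) (Nat.ble 7046 i)) (Nat.ble 7044 i)) (Bool.rec (motive := fun _ => List ℕ) (Bool.rec (motive := fun _ => List ℕ) (Bool.rec (motive := fun _ => List ℕ) (rw7048) (rw7049) (Nat.ble 7049 i)) (Bool.rec (motive := fun _ => List ℕ) (rw7050) (rw7051) (Nat.ble 7051 i)) (Nat.ble 7050 i)) (Bool.rec (motive := fun _ => List ℕ) (Bool.rec (motive := fun _ => List ℕ) (rw7052) (rw7053) (Nat.ble 7053 i)) (Bool.rec (motive := fun _ => List ℕ) (rw7054) (rw7055) (Nat.ble 7055 i)) (Nat.ble 7054 i)) (Nat.ble 7052 i)) (Nat.ble 7048 i)) (Bool.rec (motive := fun _ => List ℕ) (Bool.rec (motive := fun _ => List ℕ) (Bool.rec (motive := fun _ => List ℕ) (Bool.rec (motive := fun _ => List ℕ) (rw7056) (rw7057) (Nat.ble 7057 i)) (Bool.rec (motive := fun _ => List ℕ) (rw7058)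 (rw7059) (Nat.ble 7059 i)) (Nat.ble 7058 i)) (Bool.rec (motive := fun _ => List ℕ) (Bool.rec (motive := fun _ => List ℕ) (rw7060) (rw7061) (Nat.ble 7061 i)) (Bool.rec (motive := fun _ => List ℕ) (rw7062) (rw7063) (Nat.ble 7063 i)) (Nat.ble 7062 i)) (Nat.ble 7060 i)) (Bool.rec (motive := fun _ => List ℕ) (Bool.rec (motive := fun _ => List ℕ) (Bool.rec (motive := fun _ => List ℕ) (rw7064) (rw7065) (Nat.ble 7065 i)) (Bool.rec (motive := fun _ => List ℕ) (rw7066) (rw7067) (Nat.ble 7067 i)) (Nat.ble 7066 i)) (Bool.rec (motive := fun _ => List ℕ) (Bool.rec (motive := fun _ => List ℕ) (rw7068) (rw7069) (Nat.ble 7069 i)) (Bool.rec (motive := fun _ => List ℕ) (rw7070) (rw7071) (Nat.ble 7071 i)) (Nat.ble 7070 i)) (Nat.ble 7068 i)) (Nat.ble 7064 i)) (Nat.ble 7056 i)) (Bool.rec (motive := fun _ => List ℕ) (Bool.rec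 (motive := fun _ => List ℕ) (Bool.rec (motive := fun _ => List ℕ) (Bool.rec (motive := fun _ => List ℕ) (Bool.rec (motive := fun _ => List ℕ) (rw7072) (rw7073) (Nat.ble 7073 i)) (Bool.rec (motive := fun _ => List ℕ) (rw7074) (rw7075) (Nat.ble 7075 i)) (Nat.ble 7074 i)) (Bool.rec (motive := fun _ => List ℕ) (Bool.rec (motive := fun _ => List ℕ) (rw7076) (rw7077) (Nat.ble 7077 i)) (Bool.rec (motive := fun _ => List ℕ) (rw7078) (rw7079) (Nat.ble 7079 i)) (Nat.ble 7078 i)) (Nat.ble 7076 i)) (Bool.rec (motive := fun _ => List ℕ) (Bool.rec (motive := fun _ => List ℕ) (Bool.rec (motive := fun _ => List ℕ) (rw7080) (rw7081) (Nat.ble 7081 i)) (Bool.rec (motive := fun _ => List ℕ) (rw7082) (rw7083) (Nat.ble 7083 i)) (Nat.ble 7082 i)) (Bool.rec (motive := fun _ => List ℕ) (Bool.rec (motive := fun _ => List ℕ) (rw7084)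 (rw7085) (Nat.ble 7085 i)) (Bool.rec (motive := fun _ => List ℕ) (rw7086) (rw7087) (Nat.ble 7087 i)) (Nat.ble 7086 i)) (Nat.ble 7084 i)) (Nat.ble 7080 i)) (Bool.rec (motive := fun _ => List ℕ) (Bool.rec (motive := fun _ => List ℕ) (Bool.rec (motive := fun _ => List ℕ) (Bool.rec (motive := fun _ => List ℕ) (rw7088) (rw7089) (Nat.ble 7089 i)) (Bool.rec (motive := fun _ => List ℕ) (rw7090) (rw7091) (Nat.ble 7091 i)) (Nat.ble 7090 i)) (Bool.rec (motive := fun _ => List ℕ) (Bool.rec (motive := fun _ => List ℕ) (rw7092) (rw7093) (Nat.ble 7093 i)) (Bool.rec (motive := fun _ => List ℕ) (rw7094) (rw7095) (Nat.ble 7095 i)) (Nat.ble 7094 i)) (Nat.ble 7092 i)) (Bool.rec (motive := fun _ => List ℕ) (Bool.rec (motive := fun _ => List ℕ) (Bool.rec (motive := fun _ => List ℕ) (rw7096) (rw7097) (Nat.ble 7097 i)) (Bool.rec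 (motive := fun _ => List ℕ) (rw7098) (rw7099) (Nat.ble 7099 i)) (Nat.ble 7098 i)) (Bool.rec (motive := fun _ => List ℕ) (Bool.rec (motive := fun _ => List ℕ) (rw7100) (rw7101) (Nat.ble 7101 i)) (Bool.rec (motive := fun _ => List ℕ) (rw7102) (rw7103) (Nat.ble 7103 i)) (Nat.ble 7102 i)) (Nat.ble 7100 i)) (Nat.ble 7096 i)) (Nat.ble 7088 i)) (Nat.ble 7072 i)
noncomputable def rwb111 (i : ℕ) : List ℕ := Bool.rec (motive := fun _ => List ℕ) (Bool.rec (motive := fun _ => List ℕ) (Bool.rec (motive := fun _ => List ℕ) (Bool.rec (motive := fun _ => List ℕ) (Bool.rec (motive := fun _ => List ℕ) (Bool.rec (motive := fun _ => List ℕ) (rw7104) (rw7105) (Nat.ble 7105 i)) (Bool.rec (motive := fun _ => List ℕ) (rw7106) (rw7107) (Nat.ble 7107 i)) (Nat.ble 7106 i)) (Bool.rec (motive := fun _ => List ℕ) (Bool.rec (motive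 := fun _ => List ℕ) (rw7108) (rw7109) (Nat.ble 7109 i)) (Bool.rec (motive := fun _ => List ℕ) (rw7110) (rw7111) (Nat.ble 7111 i)) (Nat.ble 7110 i)) (Nat.ble 7108 i)) (Bool.rec (motive := fun _ => List ℕ) (Bool.rec (motive := fun _ => List ℕ) (Bool.rec (motive := fun _ => List ℕ) (rw7112) (rw7113) (Nat.ble 7113 i)) (Bool.rec (motive := fun _ => List ℕ) (rw7114) (rw7115) (Nat.ble 7115 i)) (Nat.ble 7114 i)) (Bool.rec (motive := fun _ => List ℕ) (Bool.rec (motive := fun _ => List ℕ) (rw7116) (rw7117) (Nat.ble 7117 i)) (Bool.rec (motive := fun _ => List ℕ) (rw7118) (rw7119) (Nat.ble 7119 i)) (Nat.ble 7118 i)) (Nat.ble 7116 i)) (Nat.ble 7112 i)) (Bool.rec (motive := fun _ => List ℕ) (Bool.rec (motive := fun _ => List ℕ) (Bool.rec (motive := fun _ => List ℕ) (Bool.rec (motive := fun _ => List ℕ) (rw7120) (rw7121)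 (Nat.ble 7121 i)) (Bool.rec (motive := fun _ => List ℕ) (rw7122) (rw7123) (Nat.ble 7123 i)) (Nat.ble 7122 i)) (Bool.rec (motive := fun _ => List ℕ) (Bool.rec (motive := fun _ => List ℕ) (rw7124) (rw7125) (Nat.ble 7125 i)) (Bool.rec (motive := fun _ => List ℕ) (rw7126) (rw7127) (Nat.ble 7127 i)) (Nat.ble 7126 i)) (Nat.ble 7124 i)) (Bool.rec (motive := fun _ => List ℕ) (Bool.rec (motive := fun _ => List ℕ) (Bool.rec (motive := fun _ => List ℕ) (rw7128) (rw7129) (Nat.ble 7129 i)) (Bool.rec (motive := fun _ => List ℕ) (rw7130) (rw7131) (Nat.ble 7131 i)) (Nat.ble 7130 i)) (Bool.rec (motive := fun _ => List ℕ) (Bool.rec (motive := fun _ => List ℕ) (rw7132) (rw7133) (Nat.ble 7133 i)) (Bool.rec (motive := fun _ => List ℕ) (rw7134) (rw7135) (Nat.ble 7135 i)) (Nat.ble 7134 i)) (Nat.ble 7132 i)) (Nat.ble 7128 i))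 (Nat.ble 7120 i)) (Bool.rec (motive := fun _ => List ℕ) (Bool.rec (motive := fun _ => List ℕ) (Bool.rec (motive := fun _ => List ℕ) (Bool.rec (motive := fun _ => List ℕ) (Bool.rec (motive := fun _ => List ℕ) (rw7136) (rw7137) (Nat.ble 7137 i)) (Bool.rec (motive := fun _ => List ℕ) (rw7138) (rw7139) (Nat.ble 7139 i)) (Nat.ble 7138 i)) (Bool.rec (motive := fun _ => List ℕ) (Bool.rec (motive := fun _ => List ℕ) (rw7140) (rw7141) (Nat.ble 7141 i)) (Bool.rec (motive := fun _ => List ℕ) (rw7142) (rw7143) (Nat.ble 7143 i)) (Nat.ble 7142 i)) (Nat.ble 7140 i)) (Bool.rec (motive := fun _ => List ℕ) (Bool.rec (motive := fun _ => List ℕ) (Bool.rec (motive := fun _ => List ℕ) (rw7144) (rw7145) (Nat.ble 7145 i)) (Bool.rec (motive := fun _ => List ℕ) (rw7146) (rw7147) (Nat.ble 7147 i)) (Nat.ble 7146 i)) (Bool.rec (motive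 := fun _ => List ℕ) (Bool.rec (motive := fun _ => List ℕ) (rw7148) (rw7149) (Nat.ble 7149 i)) (Bool.rec (motive := fun _ => List ℕ) (rw7150) (rw7151) (Nat.ble 7151 i)) (Nat.ble 7150 i)) (Nat.ble 7148 i)) (Nat.ble 7144 i)) (Bool.rec (motive := fun _ => List ℕ) (Bool.rec (motive := fun _ => List ℕ) (Bool.rec (motive := fun _ => List ℕ) (Bool.rec (motive := fun _ => List ℕ) (rw7152) (rw7153) (Nat.ble 7153 i)) (Bool.rec (motive := fun _ => List ℕ) (rw7154) (rw7155) (Nat.ble 7155 i)) (Nat.ble 7154 i)) (Bool.rec (motive := fun _ => List ℕ) (Bool.rec (motive := fun _ => List ℕ) (rw7156) (rw7157) (Nat.ble 7157 i)) (Bool.rec (motive := fun _ => List ℕ) (rw7158) (rw7159) (Nat.ble 7159 i)) (Nat.ble 7158 i)) (Nat.ble 7156 i)) (Bool.rec (motive := fun _ => List ℕ) (Bool.rec (motive := fun _ => List ℕ) (Bool.rec (motive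 := fun _ => List ℕ) (rw7160) (rw7161) (Nat.ble 7161 i)) (Bool.rec (motive := fun _ => List ℕ) (rw7162) (rw7163) (Nat.ble 7163 i)) (Nat.ble 7162 i)) (Bool.rec (motive := fun _ => List ℕ) (Bool.rec (motive := fun _ => List ℕ) (rw7164) (rw7165) (Nat.ble 7165 i)) (Bool.rec (motive := fun _ => List ℕ) (rw7166) (rw7167) (Nat.ble 7167 i)) (Nat.ble 7166 i)) (Nat.ble 7164 i)) (Nat.ble 7160 i)) (Nat.ble 7152 i)) (Nat.ble 7136 i)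
noncomputable def rwb112 (i : ℕ) : List ℕ := Bool.rec (motive := fun _ => List ℕ) (Bool.rec (motive := fun _ => List ℕ) (Bool.rec (motive := fun _ => List ℕ) (Bool.rec (motive := fun _ => List ℕ) (Bool.rec (motive := fun _ => List ℕ) (Bool.rec (motive := fun _ => List ℕ) (rw7168) (rw7169) (Nat.ble 7169 i)) (Bool.rec (motive := fun _ => List ℕ) (rw7170) (rw7171) (Nat.ble 7171 i)) (Nat.ble 7170 i)) (Bool.rec (motive := fun _ => List ℕ) (Bool.rec (motive := fun _ => List ℕ) (rw7172) (rw7173) (Nat.ble 7173 i)) (Bool.rec (motive := fun _ => List ℕ) (rw7174) (rw7175) (Nat.ble 7175 i)) (Nat.ble 7174 i)) (Nat.ble 7172 i)) (Bool.rec (motive := fun _ => List ℕ) (Bool.rec (motive := fun _ => List ℕ) (Bool.rec (motive := fun _ => List ℕ) (rw7176) (rw7177) (Nat.ble 7177 i)) (Bool.rec (motive := fun _ => List ℕ) (rw7178)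 (rw7179) (Nat.ble 7179 i)) (Nat.ble 7178 i)) (Bool.rec (motive := fun _ => List ℕ) (Bool.rec (motive := fun _ => List ℕ) (rw7180) (rw7181) (Nat.ble 7181 i)) (Bool.rec (motive := fun _ => List ℕ) (rw7182) (rw7183) (Nat.ble 7183 i)) (Nat.ble 7182 i)) (Nat.ble 7180 i)) (Nat.ble 7176 i)) (Bool.rec (motive := fun _ => List ℕ) (Bool.rec (motive := fun _ => List ℕ) (Bool.rec (motive := fun _ => List ℕ) (Bool.rec (motive := fun _ => List ℕ) (rw7184) (rw7185) (Nat.ble 7185 i)) (Bool.rec (motive := fun _ => List ℕ) (rw7186) (rw7187) (Nat.ble 7187 i)) (Nat.ble 7186 i)) (Bool.rec (motive := fun _ => List ℕ) (Bool.rec (motive := fun _ => List ℕ) (rw7188) (rw7189) (Nat.ble 7189 i)) (Bool.rec (motive := fun _ => List ℕ) (rw7190) (rw7191) (Nat.ble 7191 i)) (Nat.ble 7190 i)) (Nat.ble 7188 i)) (Bool.rec (motive := fun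 _ => List ℕ) (Bool.rec (motive := fun _ => List ℕ) (Bool.rec (motive := fun _ => List ℕ) (rw7192) (rw7193) (Nat.ble 7193 i)) (Bool.rec (motive := fun _ => List ℕ) (rw7194) (rw7195) (Nat.ble 7195 i)) (Nat.ble 7194 i)) (Bool.rec (motive := fun _ => List ℕ) (Bool.rec (motive := fun _ => List ℕ) (rw7196) (rw7197) (Nat.ble 7197 i)) (Bool.rec (motive := fun _ => List ℕ) (rw7198) (rw7199) (Nat.ble 7199 i)) (Nat.ble 7198 i)) (Nat.ble 7196 i)) (Nat.ble 7192 i)) (Nat.ble 7184 i)) (Bool.rec (motive := fun _ => List ℕ) (Bool.rec (motive := fun _ => List ℕ) (Bool.rec (motive := fun _ => List ℕ) (Bool.rec (motive := fun _ => List ℕ) (Bool.rec (motive := fun _ => List ℕ) (rw7200) (rw7201) (Nat.ble 7201 i)) (Bool.rec (motive := fun _ => List ℕ) (rw7202) (rw7203) (Nat.ble 7203 i)) (Nat.ble 7202 i)) (Bool.rec (motive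 := fun _ => List ℕ) (Bool.rec (motive := fun _ => List ℕ) (rw7204) (rw7205) (Nat.ble 7205 i)) (Bool.rec (motive := fun _ => List ℕ) (rw7206) (rw7207) (Nat.ble 7207 i)) (Nat.ble 7206 i)) (Nat.ble 7204 i)) (Bool.rec (motive := fun _ => List ℕ) (Bool.rec (motive := fun _ => List ℕ) (Bool.rec (motive := fun _ => List ℕ) (rw7208) (rw7209) (Nat.ble 7209 i)) (Bool.rec (motive := fun _ => List ℕ) (rw7210) (rw7211) (Nat.ble 7211 i)) (Nat.ble 7210 i)) (Bool.rec (motive := fun _ => List ℕ) (Bool.rec (motive := fun _ => List ℕ) (rw7212) (rw7213) (Nat.ble 7213 i)) (Bool.rec (motive := fun _ => List ℕ) (rw7214) (rw7215) (Nat.ble 7215 i)) (Nat.ble 7214 i)) (Nat.ble 7212 i)) (Nat.ble 7208 i)) (Bool.rec (motive := fun _ => List ℕ) (Bool.rec (motive := fun _ => List ℕ) (Bool.rec (motive := fun _ => List ℕ) (Bool.rec (motive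 := fun _ => List ℕ) (rw7216) (rw7217) (Nat.ble 7217 i)) (Bool.rec (motive := fun _ => List ℕ) (rw7218) (rw7219) (Nat.ble 7219 i)) (Nat.ble 7218 i)) (Bool.rec (motive := fun _ => List ℕ) (Bool.rec (motive := fun _ => List ℕ) (rw7220) (rw7221) (Nat.ble 7221 i)) (Bool.rec (motive := fun _ => List ℕ) (rw7222) (rw7223) (Nat.ble 7223 i)) (Nat.ble 7222 i)) (Nat.ble 7220 i)) (Bool.rec (motive := fun _ => List ℕ) (Bool.rec (motive := fun _ => List ℕ) (Bool.rec (motive := fun _ => List ℕ) (rw7224) (rw7225) (Nat.ble 7225 i)) (Bool.rec (motive := fun _ => List ℕ) (rw7226) (rw7227) (Nat.ble 7227 i)) (Nat.ble 7226 i)) (Bool.rec (motive := fun _ => List ℕ) (Bool.rec (motive := fun _ => List ℕ) (rw7228) (rw7229) (Nat.ble 7229 i)) (Bool.rec (motive := fun _ => List ℕ) (rw7230) (rw7231) (Nat.ble 7231 i)) (Nat.ble 7230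 i)) (Nat.ble 7228 i)) (Nat.ble 7224 i)) (Nat.ble 7216 i)) (Nat.ble 7200 i)
noncomputable def rwb113 (i : ℕ) : List ℕ := Bool.rec (motive := fun _ => List ℕ) (Bool.rec (motive := fun _ => List ℕ) (Bool.rec (motive := fun _ => List ℕ) (Bool.rec (motive := fun _ => List ℕ) (Bool.rec (motive := fun _ => List ℕ) (Bool.rec (motive := fun _ => List ℕ) (rw7232) (rw7233) (Nat.ble 7233 i)) (Bool.rec (motive := fun _ => List ℕ) (rw7234) (rw7235) (Nat.ble 7235 i)) (Nat.ble 7234 i)) (Bool.rec (motive := fun _ => List ℕ) (Bool.rec (motive := fun _ => List ℕ) (rw7236) (rw7237) (Nat.ble 7237 i)) (Bool.rec (motive := fun _ => List ℕ) (rw7238) (rw7239) (Nat.ble 7239 i)) (Nat.ble 7238 i)) (Nat.ble 7236 i)) (Bool.rec (motive := fun _ => List ℕ) (Bool.rec (motive := fun _ => List ℕ) (Bool.rec (motive := fun _ => List ℕ)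 (rw7240) (rw7241) (Nat.ble 7241 i)) (Bool.rec (motive := fun _ => List ℕ) (rw7242) (rw7243) (Nat.ble 7243 i)) (Nat.ble 7242 i)) (Bool.rec (motive := fun _ => List ℕ) (Bool.rec (motive := fun _ => List ℕ) (rw7244) (rw7245) (Nat.ble 7245 i)) (Bool.rec (motive := fun _ => List ℕ) (rw7246) (rw7247) (Nat.ble 7247 i)) (Nat.ble 7246 i)) (Nat.ble 7244 i)) (Nat.ble 7240 i)) (Bool.rec (motive := fun _ => List ℕ) (Bool.rec (motive := fun _ => List ℕ) (Bool.rec (motive := fun _ => List ℕ) (Bool.rec (motive := fun _ => List ℕ) (rw7248) (rw7249) (Nat.ble 7249 i)) (Bool.rec (motive := fun _ => List ℕ) (rw7250) (rw7251) (Nat.ble 7251 i)) (Nat.ble 7250 i)) (Bool.rec (motive := fun _ => List ℕ) (Bool.rec (motive := fun _ => List ℕ) (rw7252) (rw7253) (Nat.ble 7253 i)) (Bool.rec (motive := fun _ => List ℕ) (rw7254) (rw7255)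 (Nat.ble 7255 i)) (Nat.ble 7254 i)) (Nat.ble 7252 i)) (Bool.rec (motive := fun _ => List ℕ) (Bool.rec (motive := fun _ => List ℕ) (Bool.rec (motive := fun _ => List ℕ) (rw7256) (rw7257) (Nat.ble 7257 i)) (Bool.rec (motive := fun _ => List ℕ) (rw7258) (rw7259) (Nat.ble 7259 i)) (Nat.ble 7258 i)) (Bool.rec (motive := fun _ => List ℕ) (Bool.rec (motive := fun _ => List ℕ) (rw7260) (rw7261) (Nat.ble 7261 i)) (Bool.rec (motive := fun _ => List ℕ) (rw7262) (rw7263) (Nat.ble 7263 i)) (Nat.ble 7262 i)) (Nat.ble 7260 i)) (Nat.ble 7256 i)) (Nat.ble 7248 i)) (Bool.rec (motive := fun _ => List ℕ) (Bool.rec (motive := fun _ => List ℕ) (Bool.rec (motive := fun _ => List ℕ) (Bool.rec (motive := fun _ => List ℕ) (Bool.rec (motive := fun _ => List ℕ) (rw7264) (rw7265) (Nat.ble 7265 i)) (Bool.rec (motive := fun _ => List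 ℕ) (rw7266) (rw7267) (Nat.ble 7267 i)) (Nat.ble 7266 i)) (Bool.rec (motive := fun _ => List ℕ) (Bool.rec (motive := fun _ => List ℕ) (rw7268) (rw7269) (Nat.ble 7269 i)) (Bool.rec (motive := fun _ => List ℕ) (rw7270) (rw7271) (Nat.ble 7271 i)) (Nat.ble 7270 i)) (Nat.ble 7268 i)) (Bool.rec (motive := fun _ => List ℕ) (Bool.rec (motive := fun _ => List ℕ) (Bool.rec (motive := fun _ => List ℕ) (rw7272) (rw7273) (Nat.ble 7273 i)) (Bool.rec (motive := fun _ => List ℕ) (rw7274) (rw7275) (Nat.ble 7275 i)) (Nat.ble 7274 i)) (Bool.rec (motive := fun _ => List ℕ) (Bool.rec (motive := fun _ => List ℕ) (rw7276) (rw7277) (Nat.ble 7277 i)) (Bool.rec (motive := fun _ => List ℕ) (rw7278) (rw7279) (Nat.ble 7279 i)) (Nat.ble 7278 i)) (Nat.ble 7276 i)) (Nat.ble 7272 i)) (Bool.rec (motive := fun _ => List ℕ) (Bool.rec (motive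 := fun _ => List ℕ) (Bool.rec (motive := fun _ => List ℕ) (Bool.rec (motive := fun _ => List ℕ) (rw7280) (rw7281) (Nat.ble 7281 i)) (Bool.rec (motive := fun _ => List ℕ) (rw7282) (rw7283) (Nat.ble 7283 i)) (Nat.ble 7282 i)) (Bool.rec (motive := fun _ => List ℕ) (Bool.rec (motive := fun _ => List ℕ) (rw7284) (rw7285) (Nat.ble 7285 i)) (Bool.rec (motive := fun _ => List ℕ) (rw7286) (rw7287) (Nat.ble 7287 i)) (Nat.ble 7286 i)) (Nat.ble 7284 i)) (Bool.rec (motive := fun _ => List ℕ) (Bool.rec (motive := fun _ => List ℕ) (Bool.rec (motive := fun _ => List ℕ) (rw7288) (rw7289) (Nat.ble 7289 i)) (Bool.rec (motive := fun _ => List ℕ) (rw7290) (rw7291) (Nat.ble 7291 i)) (Nat.ble 7290 i)) (Bool.rec (motive := fun _ => List ℕ) (Bool.rec (motive := fun _ => List ℕ) (rw7292) (rw7293) (Nat.ble 7293 i)) (Bool.rec (motive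 := fun _ => List ℕ) (rw7294) (rw7295) (Nat.ble 7295 i)) (Nat.ble 7294 i)) (Nat.ble 7292 i)) (Nat.ble 7288 i)) (Nat.ble 7280 i)) (Nat.ble 7264 i)
noncomputable def rwb114 (i : ℕ) : List ℕ := Bool.rec (motive := fun _ => List ℕ) (Bool.rec (motive := fun _ => List ℕ) (Bool.rec (motive := fun _ => List ℕ) (Bool.rec (motive := fun _ => List ℕ) (Bool.rec (motive := fun _ => List ℕ) (Bool.rec (motive := fun _ => List ℕ) (rw7296) (rw7297) (Nat.ble 7297 i)) (Bool.rec (motive := fun _ => List ℕ) (rw7298) (rw7299) (Nat.ble 7299 i)) (Nat.ble 7298 i)) (Bool.rec (motive := fun _ => List ℕ) (Bool.rec (motive := fun _ => List ℕ) (rw7300) (rw7301) (Nat.ble 7301 i)) (Bool.rec (motive := fun _ => List ℕ) (rw7302) (rw7303) (Nat.ble 7303 i)) (Nat.ble 7302 i)) (Nat.ble 7300 i)) (Bool.rec (motive := fun _ => List ℕ) (Bool.rec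 (motive := fun _ => List ℕ) (Bool.rec (motive := fun _ => List ℕ) (rw7304) (rw7305) (Nat.ble 7305 i)) (Bool.rec (motive := fun _ => List ℕ) (rw7306) (rw7307) (Nat.ble 7307 i)) (Nat.ble 7306 i)) (Bool.rec (motive := fun _ => List ℕ) (Bool.rec (motive := fun _ => List ℕ) (rw7308) (rw7309) (Nat.ble 7309 i)) (Bool.rec (motive := fun _ => List ℕ) (rw7310) (rw7311) (Nat.ble 7311 i)) (Nat.ble 7310 i)) (Nat.ble 7308 i)) (Nat.ble 7304 i)) (Bool.rec (motive := fun _ => List ℕ) (Bool.rec (motive := fun _ => List ℕ) (Bool.rec (motive := fun _ => List ℕ) (Bool.rec (motive := fun _ => List ℕ) (rw7312) (rw7313) (Nat.ble 7313 i)) (Bool.rec (motive := fun _ => List ℕ) (rw7314) (rw7315) (Nat.ble 7315 i)) (Nat.ble 7314 i)) (Bool.rec (motive := fun _ => List ℕ) (Bool.rec (motive := fun _ => List ℕ) (rw7316) (rw7317) (Nat.ble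 7317 i)) (Bool.rec (motive := fun _ => List ℕ) (rw7318) (rw7319) (Nat.ble 7319 i)) (Nat.ble 7318 i)) (Nat.ble 7316 i)) (Bool.rec (motive := fun _ => List ℕ) (Bool.rec (motive := fun _ => List ℕ) (Bool.rec (motive := fun _ => List ℕ) (rw7320) (rw7321) (Nat.ble 7321 i)) (Bool.rec (motive := fun _ => List ℕ) (rw7322) (rw7323) (Nat.ble 7323 i)) (Nat.ble 7322 i)) (Bool.rec (motive := fun _ => List ℕ) (Bool.rec (motive := fun _ => List ℕ) (rw7324) (rw7325) (Nat.ble 7325 i)) (Bool.rec (motive := fun _ => List ℕ) (rw7326) (rw7327) (Nat.ble 7327 i)) (Nat.ble 7326 i)) (Nat.ble 7324 i)) (Nat.ble 7320 i)) (Nat.ble 7312 i)) (Bool.rec (motive := fun _ => List ℕ) (Bool.rec (motive := fun _ => List ℕ) (Bool.rec (motive := fun _ => List ℕ) (Bool.rec (motive := fun _ => List ℕ) (Bool.rec (motive := fun _ => List ℕ) (rw7328)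 (rw7329) (Nat.ble 7329 i)) (Bool.rec (motive := fun _ => List ℕ) (rw7330) (rw7331) (Nat.ble 7331 i)) (Nat.ble 7330 i)) (Bool.rec (motive := fun _ => List ℕ) (Bool.rec (motive := fun _ => List ℕ) (rw7332) (rw7333) (Nat.ble 7333 i)) (Bool.rec (motive := fun _ => List ℕ) (rw7334) (rw7335) (Nat.ble 7335 i)) (Nat.ble 7334 i)) (Nat.ble 7332 i)) (Bool.rec (motive := fun _ => List ℕ) (Bool.rec (motive := fun _ => List ℕ) (Bool.rec (motive := fun _ => List ℕ) (rw7336) (rw7337) (Nat.ble 7337 i)) (Bool.rec (motive := fun _ => List ℕ) (rw7338) (rw7339) (Nat.ble 7339 i)) (Nat.ble 7338 i)) (Bool.rec (motive := fun _ => List ℕ) (Bool.rec (motive := fun _ => List ℕ) (rw7340) (rw7341) (Nat.ble 7341 i)) (Bool.rec (motive := fun _ => List ℕ) (rw7342) (rw7343) (Nat.ble 7343 i)) (Nat.ble 7342 i)) (Nat.ble 7340 i)) (Nat.ble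 7336 i)) (Bool.rec (motive := fun _ => List ℕ) (Bool.rec (motive := fun _ => List ℕ) (Bool.rec (motive := fun _ => List ℕ) (Bool.rec (motive := fun _ => List ℕ) (rw7344) (rw7345) (Nat.ble 7345 i)) (Bool.rec (motive := fun _ => List ℕ) (rw7346) (rw7347) (Nat.ble 7347 i)) (Nat.ble 7346 i)) (Bool.rec (motive := fun _ => List ℕ) (Bool.rec (motive := fun _ => List ℕ) (rw7348) (rw7349) (Nat.ble 7349 i)) (Bool.rec (motive := fun _ => List ℕ) (rw7350) (rw7351) (Nat.ble 7351 i)) (Nat.ble 7350 i)) (Nat.ble 7348 i)) (Bool.rec (motive := fun _ => List ℕ) (Bool.rec (motive := fun _ => List ℕ) (Bool.rec (motive := fun _ => List ℕ) (rw7352) (rw7353) (Nat.ble 7353 i)) (Bool.rec (motive := fun _ => List ℕ) (rw7354) (rw7355) (Nat.ble 7355 i)) (Nat.ble 7354 i)) (Bool.rec (motive := fun _ => List ℕ) (Bool.rec (motive :=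 fun _ => List ℕ) (rw7356) (rw7357) (Nat.ble 7357 i)) (Bool.rec (motive := fun _ => List ℕ) (rw7358) (rw7359) (Nat.ble 7359 i)) (Nat.ble 7358 i)) (Nat.ble 7356 i)) (Nat.ble 7352 i)) (Nat.ble 7344 i)) (Nat.ble 7328 i)
noncomputable def rwb115 (i : ℕ) : List ℕ := Bool.rec (motive := fun _ => List ℕ) (Bool.rec (motive := fun _ => List ℕ) (Bool.rec (motive := fun _ => List ℕ) (Bool.rec (motive := fun _ => List ℕ) (Bool.rec (motive := fun _ => List ℕ) (Bool.rec (motive := fun _ => List ℕ) (rw7360) (rw7361) (Nat.ble 7361 i)) (Bool.rec (motive := fun _ => List ℕ) (rw7362) (rw7363) (Nat.ble 7363 i)) (Nat.ble 7362 i)) (Bool.rec (motive := fun _ => List ℕ) (Bool.rec (motive := fun _ => List ℕ) (rw7364) (rw7365) (Nat.ble 7365 i)) (Bool.rec (motive := fun _ => List ℕ) (rw7366) (rw7367) (Nat.ble 7367 i)) (Nat.ble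 7366 i)) (Nat.ble 7364 i)) (Bool.rec (motive := fun _ => List ℕ) (Bool.rec (motive := fun _ => List ℕ) (Bool.rec (motive := fun _ => List ℕ) (rw7368) (rw7369) (Nat.ble 7369 i)) (Bool.rec (motive := fun _ => List ℕ) (rw7370) (rw7371) (Nat.ble 7371 i)) (Nat.ble 7370 i)) (Bool.rec (motive := fun _ => List ℕ) (Bool.rec (motive := fun _ => List ℕ) (rw7372) (rw7373) (Nat.ble 7373 i)) (Bool.rec (motive := fun _ => List ℕ) (rw7374) (rw7375) (Nat.ble 7375 i)) (Nat.ble 7374 i)) (Nat.ble 7372 i)) (Nat.ble 7368 i)) (Bool.rec (motive := fun _ => List ℕ) (Bool.rec (motive := fun _ => List ℕ) (Bool.rec (motive := fun _ => List ℕ) (Bool.rec (motive := fun _ => List ℕ) (rw7376) (rw7377) (Nat.ble 7377 i)) (Bool.rec (motive := fun _ => List ℕ) (rw7378) (rw7379) (Nat.ble 7379 i)) (Nat.ble 7378 i)) (Bool.rec (motive := fun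 _ => List ℕ) (Bool.rec (motive := fun _ => List ℕ) (rw7380) (rw7381) (Nat.ble 7381 i)) (Bool.rec (motive := fun _ => List ℕ) (rw7382) (rw7383) (Nat.ble 7383 i)) (Nat.ble 7382 i)) (Nat.ble 7380 i)) (Bool.rec (motive := fun _ => List ℕ) (Bool.rec (motive := fun _ => List ℕ) (Bool.rec (motive := fun _ => List ℕ) (rw7384) (rw7385) (Nat.ble 7385 i)) (Bool.rec (motive := fun _ => List ℕ) (rw7386) (rw7387) (Nat.ble 7387 i)) (Nat.ble 7386 i)) (Bool.rec (motive := fun _ => List ℕ) (Bool.rec (motive := fun _ => List ℕ) (rw7388) (rw7389) (Nat.ble 7389 i)) (Bool.rec (motive := fun _ => List ℕ) (rw7390) (rw7391) (Nat.ble 7391 i)) (Nat.ble 7390 i)) (Nat.ble 7388 i)) (Nat.ble 7384 i)) (Nat.ble 7376 i)) (Bool.rec (motive := fun _ => List ℕ) (Bool.rec (motive := fun _ => List ℕ) (Bool.rec (motive := fun _ => List ℕ)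 (Bool.rec (motive := fun _ => List ℕ) (Bool.rec (motive := fun _ => List ℕ) (rw7392) (rw7393) (Nat.ble 7393 i)) (Bool.rec (motive := fun _ => List ℕ) (rw7394) (rw7395) (Nat.ble 7395 i)) (Nat.ble 7394 i)) (Bool.rec (motive := fun _ => List ℕ) (Bool.rec (motive := fun _ => List ℕ) (rw7396) (rw7397) (Nat.ble 7397 i)) (Bool.rec (motive := fun _ => List ℕ) (rw7398) (rw7399) (Nat.ble 7399 i)) (Nat.ble 7398 i)) (Nat.ble 7396 i)) (Bool.rec (motive := fun _ => List ℕ) (Bool.rec (motive := fun _ => List ℕ) (Bool.rec (motive := fun _ => List ℕ) (rw7400) (rw7401) (Nat.ble 7401 i)) (Bool.rec (motive := fun _ => List ℕ) (rw7402) (rw7403) (Nat.ble 7403 i)) (Nat.ble 7402 i)) (Bool.rec (motive := fun _ => List ℕ) (Bool.rec (motive := fun _ => List ℕ) (rw7404) (rw7405) (Nat.ble 7405 i)) (Bool.rec (motive := fun _ => List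 ℕ) (rw7406) (rw7407) (Nat.ble 7407 i)) (Nat.ble 7406 i)) (Nat.ble 7404 i)) (Nat.ble 7400 i)) (Bool.rec (motive := fun _ => List ℕ) (Bool.rec (motive := fun _ => List ℕ) (Bool.rec (motive := fun _ => List ℕ) (Bool.rec (motive := fun _ => List ℕ) (rw7408) (rw7409) (Nat.ble 7409 i)) (Bool.rec (motive := fun _ => List ℕ) (rw7410) (rw7411) (Nat.ble 7411 i)) (Nat.ble 7410 i)) (Bool.rec (motive := fun _ => List ℕ) (Bool.rec (motive := fun _ => List ℕ) (rw7412) (rw7413) (Nat.ble 7413 i)) (Bool.rec (motive := fun _ => List ℕ) (rw7414) (rw7415) (Nat.ble 7415 i)) (Nat.ble 7414 i)) (Nat.ble 7412 i)) (Bool.rec (motive := fun _ => List ℕ) (Bool.rec (motive := fun _ => List ℕ) (Bool.rec (motive := fun _ => List ℕ) (rw7416) (rw7417) (Nat.ble 7417 i)) (Bool.rec (motive := fun _ => List ℕ) (rw7418) (rw7419) (Nat.ble 7419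 i)) (Nat.ble 7418 i)) (Bool.rec (motive := fun _ => List ℕ) (Bool.rec (motive := fun _ => List ℕ) (rw7420) (rw7421) (Nat.ble 7421 i)) (Bool.rec (motive := fun _ => List ℕ) (rw7422) (rw7423) (Nat.ble 7423 i)) (Nat.ble 7422 i)) (Nat.ble 7420 i)) (Nat.ble 7416 i)) (Nat.ble 7408 i)) (Nat.ble 7392 i)
noncomputable def rwb116 (i : ℕ) : List ℕ := Bool.rec (motive := fun _ => List ℕ) (Bool.rec (motive := fun _ => List ℕ) (Bool.rec (motive := fun _ => List ℕ) (Bool.rec (motive := fun _ => List ℕ) (Bool.rec (motive := fun _ => List ℕ) (Bool.rec (motive := fun _ => List ℕ) (rw7424) (rw7425) (Nat.ble 7425 i)) (Bool.rec (motive := fun _ => List ℕ) (rw7426) (rw7427) (Nat.ble 7427 i)) (Nat.ble 7426 i)) (Bool.rec (motive := fun _ => List ℕ) (Bool.rec (motive := fun _ => List ℕ) (rw7428) (rw7429) (Nat.ble 7429 i)) (Bool.rec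 (motive := fun _ => List ℕ) (rw7430) (rw7431) (Nat.ble 7431 i)) (Nat.ble 7430 i)) (Nat.ble 7428 i)) (Bool.rec (motive := fun _ => List ℕ) (Bool.rec (motive := fun _ => List ℕ) (Bool.rec (motive := fun _ => List ℕ) (rw7432) (rw7433) (Nat.ble 7433 i)) (Bool.rec (motive := fun _ => List ℕ) (rw7434) (rw7435) (Nat.ble 7435 i)) (Nat.ble 7434 i)) (Bool.rec (motive := fun _ => List ℕ) (Bool.rec (motive := fun _ => List ℕ) (rw7436) (rw7437) (Nat.ble 7437 i)) (Bool.rec (motive := fun _ => List ℕ) (rw7438) (rw7439) (Nat.ble 7439 i)) (Nat.ble 7438 i)) (Nat.ble 7436 i)) (Nat.ble 7432 i)) (Bool.rec (motive := fun _ => List ℕ) (Bool.rec (motive := fun _ => List ℕ) (Bool.rec (motive := fun _ => List ℕ) (Bool.rec (motive := fun _ => List ℕ) (rw7440) (rw7441) (Nat.ble 7441 i)) (Bool.rec (motive := fun _ => List ℕ) (rw7442)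 (rw7443) (Nat.ble 7443 i)) (Nat.ble 7442 i)) (Bool.rec (motive := fun _ => List ℕ) (Bool.rec (motive := fun _ => List ℕ) (rw7444) (rw7445) (Nat.ble 7445 i)) (Bool.rec (motive := fun _ => List ℕ) (rw7446) (rw7447) (Nat.ble 7447 i)) (Nat.ble 7446 i)) (Nat.ble 7444 i)) (Bool.rec (motive := fun _ => List ℕ) (Bool.rec (motive := fun _ => List ℕ) (Bool.rec (motive := fun _ => List ℕ) (rw7448) (rw7449) (Nat.ble 7449 i)) (Bool.rec (motive := fun _ => List ℕ) (rw7450) (rw7451) (Nat.ble 7451 i)) (Nat.ble 7450 i)) (Bool.rec (motive := fun _ => List ℕ) (Bool.rec (motive := fun _ => List ℕ) (rw7452) (rw7453) (Nat.ble 7453 i)) (Bool.rec (motive := fun _ => List ℕ) (rw7454) (rw7455) (Nat.ble 7455 i)) (Nat.ble 7454 i)) (Nat.ble 7452 i)) (Nat.ble 7448 i)) (Nat.ble 7440 i)) (Bool.rec (motive := fun _ => List ℕ) (Bool.rec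 (motive := fun _ => List ℕ) (Bool.rec (motive := fun _ => List ℕ) (Bool.rec (motive := fun _ => List ℕ) (Bool.rec (motive := fun _ => List ℕ) (rw7456) (rw7457) (Nat.ble 7457 i)) (Bool.rec (motive := fun _ => List ℕ) (rw7458) (rw7459) (Nat.ble 7459 i)) (Nat.ble 7458 i)) (Bool.rec (motive := fun _ => List ℕ) (Bool.rec (motive := fun _ => List ℕ) (rw7460) (rw7461) (Nat.ble 7461 i)) (Bool.rec (motive := fun _ => List ℕ) (rw7462) (rw7463) (Nat.ble 7463 i)) (Nat.ble 7462 i)) (Nat.ble 7460 i)) (Bool.rec (motive := fun _ => List ℕ) (Bool.rec (motive := fun _ => List ℕ) (Bool.rec (motive := fun _ => List ℕ) (rw7464) (rw7465) (Nat.ble 7465 i)) (Bool.rec (motive := fun _ => List ℕ) (rw7466) (rw7467) (Nat.ble 7467 i)) (Nat.ble 7466 i)) (Bool.rec (motive := fun _ => List ℕ) (Bool.rec (motive := fun _ => List ℕ) (rw7468)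 (rw7469) (Nat.ble 7469 i)) (Bool.rec (motive := fun _ => List ℕ) (rw7470) (rw7471) (Nat.ble 7471 i)) (Nat.ble 7470 i)) (Nat.ble 7468 i)) (Nat.ble 7464 i)) (Bool.rec (motive := fun _ => List ℕ) (Bool.rec (motive := fun _ => List ℕ) (Bool.rec (motive := fun _ => List ℕ) (Bool.rec (motive := fun _ => List ℕ) (rw7472) (rw7473) (Nat.ble 7473 i)) (Bool.rec (motive := fun _ => List ℕ) (rw7474) (rw7475) (Nat.ble 7475 i)) (Nat.ble 7474 i)) (Bool.rec (motive := fun _ => List ℕ) (Bool.rec (motive := fun _ => List ℕ) (rw7476) (rw7477) (Nat.ble 7477 i)) (Bool.rec (motive := fun _ => List ℕ) (rw7478) (rw7479) (Nat.ble 7479 i)) (Nat.ble 7478 i)) (Nat.ble 7476 i)) (Bool.rec (motive := fun _ => List ℕ) (Bool.rec (motive := fun _ => List ℕ) (Bool.rec (motive := fun _ => List ℕ) (rw7480) (rw7481) (Nat.ble 7481 i)) (Bool.rec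 (motive := fun _ => List ℕ) (rw7482) (rw7483) (Nat.ble 7483 i)) (Nat.ble 7482 i)) (Bool.rec (motive := fun _ => List ℕ) (Bool.rec (motive := fun _ => List ℕ) (rw7484) (rw7485) (Nat.ble 7485 i)) (Bool.rec (motive := fun _ => List ℕ) (rw7486) (rw7487) (Nat.ble 7487 i)) (Nat.ble 7486 i)) (Nat.ble 7484 i)) (Nat.ble 7480 i)) (Nat.ble 7472 i)) (Nat.ble 7456 i)
noncomputable def rwb117 (i : ℕ) : List ℕ := Bool.rec (motive := fun _ => List ℕ) (Bool.rec (motive := fun _ => List ℕ) (Bool.rec (motive := fun _ => List ℕ) (Bool.rec (motive := fun _ => List ℕ) (Bool.rec (motive := fun _ => List ℕ) (Bool.rec (motive := fun _ => List ℕ) (rw7488) (rw7489) (Nat.ble 7489 i)) (Bool.rec (motive := fun _ => List ℕ) (rw7490) (rw7491) (Nat.ble 7491 i)) (Nat.ble 7490 i)) (Bool.rec (motive := fun _ => List ℕ) (Bool.rec (motive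 := fun _ => List ℕ) (rw7492) (rw7493) (Nat.ble 7493 i)) (Bool.rec (motive := fun _ => List ℕ) (rw7494) (rw7495) (Nat.ble 7495 i)) (Nat.ble 7494 i)) (Nat.ble 7492 i)) (Bool.rec (motive := fun _ => List ℕ) (Bool.rec (motive := fun _ => List ℕ) (Bool.rec (motive := fun _ => List ℕ) (rw7496) (rw7497) (Nat.ble 7497 i)) (Bool.rec (motive := fun _ => List ℕ) (rw7498) (rw7499) (Nat.ble 7499 i)) (Nat.ble 7498 i)) (Bool.rec (motive := fun _ => List ℕ) (Bool.rec (motive := fun _ => List ℕ) (rw7500) (rw7501) (Nat.ble 7501 i)) (Bool.rec (motive := fun _ => List ℕ) (rw7502) (rw7503) (Nat.ble 7503 i)) (Nat.ble 7502 i)) (Nat.ble 7500 i)) (Nat.ble 7496 i)) (Bool.rec (motive := fun _ => List ℕ) (Bool.rec (motive := fun _ => List ℕ) (Bool.rec (motive := fun _ => List ℕ) (Bool.rec (motive := fun _ => List ℕ) (rw7504) (rw7505)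 (Nat.ble 7505 i)) (Bool.rec (motive := fun _ => List ℕ) (rw7506) (rw7507) (Nat.ble 7507 i)) (Nat.ble 7506 i)) (Bool.rec (motive := fun _ => List ℕ) (Bool.rec (motive := fun _ => List ℕ) (rw7508) (rw7509) (Nat.ble 7509 i)) (Bool.rec (motive := fun _ => List ℕ) (rw7510) (rw7511) (Nat.ble 7511 i)) (Nat.ble 7510 i)) (Nat.ble 7508 i)) (Bool.rec (motive := fun _ => List ℕ) (Bool.rec (motive := fun _ => List ℕ) (Bool.rec (motive := fun _ => List ℕ) (rw7512) (rw7513) (Nat.ble 7513 i)) (Bool.rec (motive := fun _ => List ℕ) (rw7514) (rw7515) (Nat.ble 7515 i)) (Nat.ble 7514 i)) (Bool.rec (motive := fun _ => List ℕ) (Bool.rec (motive := fun _ => List ℕ) (rw7516) (rw7517) (Nat.ble 7517 i)) (Bool.rec (motive := fun _ => List ℕ) (rw7518) (rw7519) (Nat.ble 7519 i)) (Nat.ble 7518 i)) (Nat.ble 7516 i)) (Nat.ble 7512 i))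 (Nat.ble 7504 i)) (Bool.rec (motive := fun _ => List ℕ) (Bool.rec (motive := fun _ => List ℕ) (Bool.rec (motive := fun _ => List ℕ) (Bool.rec (motive := fun _ => List ℕ) (Bool.rec (motive := fun _ => List ℕ) (rw7520) (rw7521) (Nat.ble 7521 i)) (Bool.rec (motive := fun _ => List ℕ) (rw7522) (rw7523) (Nat.ble 7523 i)) (Nat.ble 7522 i)) (Bool.rec (motive := fun _ => List ℕ) (Bool.rec (motive := fun _ => List ℕ) (rw7524) (rw7525) (Nat.ble 7525 i)) (Bool.rec (motive := fun _ => List ℕ) (rw7526) (rw7527) (Nat.ble 7527 i)) (Nat.ble 7526 i)) (Nat.ble 7524 i)) (Bool.rec (motive := fun _ => List ℕ) (Bool.rec (motive := fun _ => List ℕ) (Bool.rec (motive := fun _ => List ℕ) (rw7528) (rw7529) (Nat.ble 7529 i)) (Bool.rec (motive := fun _ => List ℕ) (rw7530) (rw7531) (Nat.ble 7531 i)) (Nat.ble 7530 i)) (Bool.rec (motive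 := fun _ => List ℕ) (Bool.rec (motive := fun _ => List ℕ) (rw7532) (rw7533) (Nat.ble 7533 i)) (Bool.rec (motive := fun _ => List ℕ) (rw7534) (rw7535) (Nat.ble 7535 i)) (Nat.ble 7534 i)) (Nat.ble 7532 i)) (Nat.ble 7528 i)) (Bool.rec (motive := fun _ => List ℕ) (Bool.rec (motive := fun _ => List ℕ) (Bool.rec (motive := fun _ => List ℕ) (Bool.rec (motive := fun _ => List ℕ) (rw7536) (rw7537) (Nat.ble 7537 i)) (Bool.rec (motive := fun _ => List ℕ) (rw7538) (rw7539) (Nat.ble 7539 i)) (Nat.ble 7538 i)) (Bool.rec (motive := fun _ => List ℕ) (Bool.rec (motive := fun _ => List ℕ) (rw7540) (rw7541) (Nat.ble 7541 i)) (Bool.rec (motive := fun _ => List ℕ) (rw7542) (rw7543) (Nat.ble 7543 i)) (Nat.ble 7542 i)) (Nat.ble 7540 i)) (Bool.rec (motive := fun _ => List ℕ) (Bool.rec (motive := fun _ => List ℕ) (Bool.rec (motive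 := fun _ => List ℕ) (rw7544) (rw7545) (Nat.ble 7545 i)) (Bool.rec (motive := fun _ => List ℕ) (rw7546) (rw7547) (Nat.ble 7547 i)) (Nat.ble 7546 i)) (Bool.rec (motive := fun _ => List ℕ) (Bool.rec (motive := fun _ => List ℕ) (rw7548) (rw7549) (Nat.ble 7549 i)) (Bool.rec (motive := fun _ => List ℕ) (rw7550) (rw7551) (Nat.ble 7551 i)) (Nat.ble 7550 i)) (Nat.ble 7548 i)) (Nat.ble 7544 i)) (Nat.ble 7536 i)) (Nat.ble 7520 i)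
noncomputable def rwb118 (i : ℕ) : List ℕ := Bool.rec (motive := fun _ => List ℕ) (Bool.rec (motive := fun _ => List ℕ) (Bool.rec (motive := fun _ => List ℕ) (Bool.rec (motive := fun _ => List ℕ) (Bool.rec (motive := fun _ => List ℕ) (Bool.rec (motive := fun _ => List ℕ) (rw7552) (rw7553) (Nat.ble 7553 i)) (Bool.rec (motive := fun _ => List ℕ) (rw7554) (rw7555) (Nat.ble 7555 i)) (Nat.ble 7554 i)) (Bool.rec (motive := fun _ => List ℕ) (Bool.rec (motive := fun _ => List ℕ) (rw7556) (rw7557) (Nat.ble 7557 i)) (Bool.rec (motive := fun _ => List ℕ) (rw7558) (rw7559) (Nat.ble 7559 i)) (Nat.ble 7558 i)) (Nat.ble 7556 i)) (Bool.rec (motive := fun _ => List ℕ) (Bool.rec (motive := fun _ => List ℕ) (Bool.rec (motive := fun _ => List ℕ) (rw7560) (rw7561) (Nat.ble 7561 i)) (Bool.rec (motive := fun _ => List ℕ) (rw7562)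 (rw7563) (Nat.ble 7563 i)) (Nat.ble 7562 i)) (Bool.rec (motive := fun _ => List ℕ) (Bool.rec (motive := fun _ => List ℕ) (rw7564) (rw7565) (Nat.ble 7565 i)) (Bool.rec (motive := fun _ => List ℕ) (rw7566) (rw7567) (Nat.ble 7567 i)) (Nat.ble 7566 i)) (Nat.ble 7564 i)) (Nat.ble 7560 i)) (Bool.rec (motive := fun _ => List ℕ) (Bool.rec (motive := fun _ => List ℕ) (Bool.rec (motive := fun _ => List ℕ) (Bool.rec (motive := fun _ => List ℕ) (rw7568) (rw7569) (Nat.ble 7569 i)) (Bool.rec (motive := fun _ => List ℕ) (rw7570) (rw7571) (Nat.ble 7571 i)) (Nat.ble 7570 i)) (Bool.rec (motive := fun _ => List ℕ) (Bool.rec (motive := fun _ => List ℕ) (rw7572) (rw7573) (Nat.ble 7573 i)) (Bool.rec (motive := fun _ => List ℕ) (rw7574) (rw7575) (Nat.ble 7575 i)) (Nat.ble 7574 i)) (Nat.ble 7572 i)) (Bool.rec (motive := fun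 _ => List ℕ) (Bool.rec (motive := fun _ => List ℕ) (Bool.rec (motive := fun _ => List ℕ) (rw7576) (rw7577) (Nat.ble 7577 i)) (Bool.rec (motive := fun _ => List ℕ) (rw7578) (rw7579) (Nat.ble 7579 i)) (Nat.ble 7578 i)) (Bool.rec (motive := fun _ => List ℕ) (Bool.rec (motive := fun _ => List ℕ) (rw7580) (rw7581) (Nat.ble 7581 i)) (Bool.rec (motive := fun _ => List ℕ) (rw7582) (rw7583) (Nat.ble 7583 i)) (Nat.ble 7582 i)) (Nat.ble 7580 i)) (Nat.ble 7576 i)) (Nat.ble 7568 i)) (Bool.rec (motive := fun _ => List ℕ) (Bool.rec (motive := fun _ => List ℕ) (Bool.rec (motive := fun _ => List ℕ) (Bool.rec (motive := fun _ => List ℕ) (Bool.rec (motive := fun _ => List ℕ) (rw7584) (rw7585) (Nat.ble 7585 i)) (Bool.rec (motive := fun _ => List ℕ) (rw7586) (rw7587) (Nat.ble 7587 i)) (Nat.ble 7586 i)) (Bool.rec (motive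 := fun _ => List ℕ) (Bool.rec (motive := fun _ => List ℕ) (rw7588) (rw7589) (Nat.ble 7589 i)) (Bool.rec (motive := fun _ => List ℕ) (rw7590) (rw7591) (Nat.ble 7591 i)) (Nat.ble 7590 i)) (Nat.ble 7588 i)) (Bool.rec (motive := fun _ => List ℕ) (Bool.rec (motive := fun _ => List ℕ) (Bool.rec (motive := fun _ => List ℕ) (rw7592) (rw7593) (Nat.ble 7593 i)) (Bool.rec (motive := fun _ => List ℕ) (rw7594) (rw7595) (Nat.ble 7595 i)) (Nat.ble 7594 i)) (Bool.rec (motive := fun _ => List ℕ) (Bool.rec (motive := fun _ => List ℕ) (rw7596) (rw7597) (Nat.ble 7597 i)) (Bool.rec (motive := fun _ => List ℕ) (rw7598) (rw7599) (Nat.ble 7599 i)) (Nat.ble 7598 i)) (Nat.ble 7596 i)) (Nat.ble 7592 i)) (Bool.rec (motive := fun _ => List ℕ) (Bool.rec (motive := fun _ => List ℕ) (Bool.rec (motive := fun _ => List ℕ) (Bool.rec (motive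 := fun _ => List ℕ) (rw7600) (rw7601) (Nat.ble 7601 i)) (Bool.rec (motive := fun _ => List ℕ) (rw7602) (rw7603) (Nat.ble 7603 i)) (Nat.ble 7602 i)) (Bool.rec (motive := fun _ => List ℕ) (Bool.rec (motive := fun _ => List ℕ) (rw7604) (rw7605) (Nat.ble 7605 i)) (Bool.rec (motive := fun _ => List ℕ) (rw7606) (rw7607) (Nat.ble 7607 i)) (Nat.ble 7606 i)) (Nat.ble 7604 i)) (Bool.rec (motive := fun _ => List ℕ) (Bool.rec (motive := fun _ => List ℕ) (Bool.rec (motive := fun _ => List ℕ) (rw7608) (rw7609) (Nat.ble 7609 i)) (Bool.rec (motive := fun _ => List ℕ) (rw7610) (rw7611) (Nat.ble 7611 i)) (Nat.ble 7610 i)) (Bool.rec (motive := fun _ => List ℕ) (Bool.rec (motive := fun _ => List ℕ) (rw7612) (rw7613) (Nat.ble 7613 i)) (Bool.rec (motive := fun _ => List ℕ) (rw7614) (rw7615) (Nat.ble 7615 i)) (Nat.ble 7614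 i)) (Nat.ble 7612 i)) (Nat.ble 7608 i)) (Nat.ble 7600 i)) (Nat.ble 7584 i)
noncomputable def rwb119 (i : ℕ) : List ℕ := Bool.rec (motive := fun _ => List ℕ) (Bool.rec (motive := fun _ => List ℕ) (Bool.rec (motive := fun _ => List ℕ) (Bool.rec (motive := fun _ => List ℕ) (Bool.rec (motive := fun _ => List ℕ) (Bool.rec (motive := fun _ => List ℕ) (rw7616) (rw7617) (Nat.ble 7617 i)) (Bool.rec (motive := fun _ => List ℕ) (rw7618) (rw7619) (Nat.ble 7619 i)) (Nat.ble 7618 i)) (Bool.rec (motive := fun _ => List ℕ) (Bool.rec (motive := fun _ => List ℕ) (rw7620) (rw7621) (Nat.ble 7621 i)) (Bool.rec (motive := fun _ => List ℕ) (rw7622) (rw7623) (Nat.ble 7623 i)) (Nat.ble 7622 i)) (Nat.ble 7620 i)) (Bool.rec (motive := fun _ => List ℕ) (Bool.rec (motive := fun _ => List ℕ) (Bool.rec (motive := fun _ => List ℕ)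 (rw7624) (rw7625) (Nat.ble 7625 i)) (Bool.rec (motive := fun _ => List ℕ) (rw7626) (rw7627) (Nat.ble 7627 i)) (Nat.ble 7626 i)) (Bool.rec (motive := fun _ => List ℕ) (Bool.rec (motive := fun _ => List ℕ) (rw7628) (rw7629) (Nat.ble 7629 i)) (Bool.rec (motive := fun _ => List ℕ) (rw7630) (rw7631) (Nat.ble 7631 i)) (Nat.ble 7630 i)) (Nat.ble 7628 i)) (Nat.ble 7624 i)) (Bool.rec (motive := fun _ => List ℕ) (Bool.rec (motive := fun _ => List ℕ) (Bool.rec (motive := fun _ => List ℕ) (Bool.rec (motive := fun _ => List ℕ) (rw7632) (rw7633) (Nat.ble 7633 i)) (Bool.rec (motive := fun _ => List ℕ) (rw7634) (rw7635) (Nat.ble 7635 i)) (Nat.ble 7634 i)) (Bool.rec (motive := fun _ => List ℕ) (Bool.rec (motive := fun _ => List ℕ) (rw7636) (rw7637) (Nat.ble 7637 i)) (Bool.rec (motive := fun _ => List ℕ) (rw7638) (rw7639)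 (Nat.ble 7639 i)) (Nat.ble 7638 i)) (Nat.ble 7636 i)) (Bool.rec (motive := fun _ => List ℕ) (Bool.rec (motive := fun _ => List ℕ) (Bool.rec (motive := fun _ => List ℕ) (rw7640) (rw7641) (Nat.ble 7641 i)) (Bool.rec (motive := fun _ => List ℕ) (rw7642) (rw7643) (Nat.ble 7643 i)) (Nat.ble 7642 i)) (Bool.rec (motive := fun _ => List ℕ) (Bool.rec (motive := fun _ => List ℕ) (rw7644) (rw7645) (Nat.ble 7645 i)) (Bool.rec (motive := fun _ => List ℕ) (rw7646) (rw7647) (Nat.ble 7647 i)) (Nat.ble 7646 i)) (Nat.ble 7644 i)) (Nat.ble 7640 i)) (Nat.ble 7632 i)) (Bool.rec (motive := fun _ => List ℕ) (Bool.rec (motive := fun _ => List ℕ) (Bool.rec (motive := fun _ => List ℕ) (Bool.rec (motive := fun _ => List ℕ) (Bool.rec (motive := fun _ => List ℕ) (rw7648) (rw7649) (Nat.ble 7649 i)) (Bool.rec (motive := fun _ => List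 ℕ) (rw7650) (rw7651) (Nat.ble 7651 i)) (Nat.ble 7650 i)) (Bool.rec (motive := fun _ => List ℕ) (Bool.rec (motive := fun _ => List ℕ) (rw7652) (rw7653) (Nat.ble 7653 i)) (Bool.rec (motive := fun _ => List ℕ) (rw7654) (rw7655) (Nat.ble 7655 i)) (Nat.ble 7654 i)) (Nat.ble 7652 i)) (Bool.rec (motive := fun _ => List ℕ) (Bool.rec (motive := fun _ => List ℕ) (Bool.rec (motive := fun _ => List ℕ) (rw7656) (rw7657) (Nat.ble 7657 i)) (Bool.rec (motive := fun _ => List ℕ) (rw7658) (rw7659) (Nat.ble 7659 i)) (Nat.ble 7658 i)) (Bool.rec (motive := fun _ => List ℕ) (Bool.rec (motive := fun _ => List ℕ) (rw7660) (rw7661) (Nat.ble 7661 i)) (Bool.rec (motive := fun _ => List ℕ) (rw7662) (rw7663) (Nat.ble 7663 i)) (Nat.ble 7662 i)) (Nat.ble 7660 i)) (Nat.ble 7656 i)) (Bool.rec (motive := fun _ => List ℕ) (Bool.rec (motive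 := fun _ => List ℕ) (Bool.rec (motive := fun _ => List ℕ) (Bool.rec (motive := fun _ => List ℕ) (rw7664) (rw7665) (Nat.ble 7665 i)) (Bool.rec (motive := fun _ => List ℕ) (rw7666) (rw7667) (Nat.ble 7667 i)) (Nat.ble 7666 i)) (Bool.rec (motive := fun _ => List ℕ) (Bool.rec (motive := fun _ => List ℕ) (rw7668) (rw7669) (Nat.ble 7669 i)) (Bool.rec (motive := fun _ => List ℕ) (rw7670) (rw7671) (Nat.ble 7671 i)) (Nat.ble 7670 i)) (Nat.ble 7668 i)) (Bool.rec (motive := fun _ => List ℕ) (Bool.rec (motive := fun _ => List ℕ) (Bool.rec (motive := fun _ => List ℕ) (rw7672) (rw7673) (Nat.ble 7673 i)) (Bool.rec (motive := fun _ => List ℕ) (rw7674) (rw7675) (Nat.ble 7675 i)) (Nat.ble 7674 i)) (Bool.rec (motive := fun _ => List ℕ) (Bool.rec (motive := fun _ => List ℕ) (rw7676) (rw7677) (Nat.ble 7677 i)) (Bool.rec (motive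 := fun _ => List ℕ) (rw7678) (rw7679) (Nat.ble 7679 i)) (Nat.ble 7678 i)) (Nat.ble 7676 i)) (Nat.ble 7672 i)) (Nat.ble 7664 i)) (Nat.ble 7648 i)
noncomputable def rwb120 (i : ℕ) : List ℕ := Bool.rec (motive := fun _ => List ℕ) (Bool.rec (motive := fun _ => List ℕ) (Bool.rec (motive := fun _ => List ℕ) (Bool.rec (motive := fun _ => List ℕ) (Bool.rec (motive := fun _ => List ℕ) (Bool.rec (motive := fun _ => List ℕ) (rw7680) (rw7681) (Nat.ble 7681 i)) (Bool.rec (motive := fun _ => List ℕ) (rw7682) (rw7683) (Nat.ble 7683 i)) (Nat.ble 7682 i)) (Bool.rec (motive := fun _ => List ℕ) (Bool.rec (motive := fun _ => List ℕ) (rw7684) (rw7685) (Nat.ble 7685 i)) (Bool.rec (motive := fun _ => List ℕ) (rw7686) (rw7687) (Nat.ble 7687 i)) (Nat.ble 7686 i)) (Nat.ble 7684 i)) (Bool.rec (motive := fun _ => List ℕ) (Bool.rec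 (motive := fun _ => List ℕ) (Bool.rec (motive := fun _ => List ℕ) (rw7688) (rw7689) (Nat.ble 7689 i)) (Bool.rec (motive := fun _ => List ℕ) (rw7690) (rw7691) (Nat.ble 7691 i)) (Nat.ble 7690 i)) (Bool.rec (motive := fun _ => List ℕ) (Bool.rec (motive := fun _ => List ℕ) (rw7692) (rw7693) (Nat.ble 7693 i)) (Bool.rec (motive := fun _ => List ℕ) (rw7694) (rw7695) (Nat.ble 7695 i)) (Nat.ble 7694 i)) (Nat.ble 7692 i)) (Nat.ble 7688 i)) (Bool.rec (motive := fun _ => List ℕ) (Bool.rec (motive := fun _ => List ℕ) (Bool.rec (motive := fun _ => List ℕ) (Bool.rec (motive := fun _ => List ℕ) (rw7696) (rw7697) (Nat.ble 7697 i)) (Bool.rec (motive := fun _ => List ℕ) (rw7698) (rw7699) (Nat.ble 7699 i)) (Nat.ble 7698 i)) (Bool.rec (motive := fun _ => List ℕ) (Bool.rec (motive := fun _ => List ℕ) (rw7700) (rw7701) (Nat.ble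 7701 i)) (Bool.rec (motive := fun _ => List ℕ) (rw7702) (rw7703) (Nat.ble 7703 i)) (Nat.ble 7702 i)) (Nat.ble 7700 i)) (Bool.rec (motive := fun _ => List ℕ) (Bool.rec (motive := fun _ => List ℕ) (Bool.rec (motive := fun _ => List ℕ) (rw7704) (rw7705) (Nat.ble 7705 i)) (Bool.rec (motive := fun _ => List ℕ) (rw7706) (rw7707) (Nat.ble 7707 i)) (Nat.ble 7706 i)) (Bool.rec (motive := fun _ => List ℕ) (Bool.rec (motive := fun _ => List ℕ) (rw7708) (rw7709) (Nat.ble 7709 i)) (Bool.rec (motive := fun _ => List ℕ) (rw7710) (rw7711) (Nat.ble 7711 i)) (Nat.ble 7710 i)) (Nat.ble 7708 i)) (Nat.ble 7704 i)) (Nat.ble 7696 i)) (Bool.rec (motive := fun _ => List ℕ) (Bool.rec (motive := fun _ => List ℕ) (Bool.rec (motive := fun _ => List ℕ) (Bool.rec (motive := fun _ => List ℕ) (Bool.rec (motive := fun _ => List ℕ) (rw7712)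 (rw7713) (Nat.ble 7713 i)) (Bool.rec (motive := fun _ => List ℕ) (rw7714) (rw7715) (Nat.ble 7715 i)) (Nat.ble 7714 i)) (Bool.rec (motive := fun _ => List ℕ) (Bool.rec (motive := fun _ => List ℕ) (rw7716) (rw7717) (Nat.ble 7717 i)) (Bool.rec (motive := fun _ => List ℕ) (rw7718) (rw7719) (Nat.ble 7719 i)) (Nat.ble 7718 i)) (Nat.ble 7716 i)) (Bool.rec (motive := fun _ => List ℕ) (Bool.rec (motive := fun _ => List ℕ) (Bool.rec (motive := fun _ => List ℕ) (rw7720) (rw7721) (Nat.ble 7721 i)) (Bool.rec (motive := fun _ => List ℕ) (rw7722) (rw7723) (Nat.ble 7723 i)) (Nat.ble 7722 i)) (Bool.rec (motive := fun _ => List ℕ) (Bool.rec (motive := fun _ => List ℕ) (rw7724) (rw7725) (Nat.ble 7725 i)) (Bool.rec (motive := fun _ => List ℕ) (rw7726) (rw7727) (Nat.ble 7727 i)) (Nat.ble 7726 i)) (Nat.ble 7724 i)) (Nat.ble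 7720 i)) (Bool.rec (motive := fun _ => List ℕ) (Bool.rec (motive := fun _ => List ℕ) (Bool.rec (motive := fun _ => List ℕ) (Bool.rec (motive := fun _ => List ℕ) (rw7728) (rw7729) (Nat.ble 7729 i)) (Bool.rec (motive := fun _ => List ℕ) (rw7730) (rw7731) (Nat.ble 7731 i)) (Nat.ble 7730 i)) (Bool.rec (motive := fun _ => List ℕ) (Bool.rec (motive := fun _ => List ℕ) (rw7732) (rw7733) (Nat.ble 7733 i)) (Bool.rec (motive := fun _ => List ℕ) (rw7734) (rw7735) (Nat.ble 7735 i)) (Nat.ble 7734 i)) (Nat.ble 7732 i)) (Bool.rec (motive := fun _ => List ℕ) (Bool.rec (motive := fun _ => List ℕ) (Bool.rec (motive := fun _ => List ℕ) (rw7736) (rw7737) (Nat.ble 7737 i)) (Bool.rec (motive := fun _ => List ℕ) (rw7738) (rw7739) (Nat.ble 7739 i)) (Nat.ble 7738 i)) (Bool.rec (motive := fun _ => List ℕ) (Bool.rec (motive :=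 fun _ => List ℕ) (rw7740) (rw7741) (Nat.ble 7741 i)) (Bool.rec (motive := fun _ => List ℕ) (rw7742) (rw7743) (Nat.ble 7743 i)) (Nat.ble 7742 i)) (Nat.ble 7740 i)) (Nat.ble 7736 i)) (Nat.ble 7728 i)) (Nat.ble 7712 i)
noncomputable def rwb121 (i : ℕ) : List ℕ := Bool.rec (motive := fun _ => List ℕ) (Bool.rec (motive := fun _ => List ℕ) (Bool.rec (motive := fun _ => List ℕ) (Bool.rec (motive := fun _ => List ℕ) (Bool.rec (motive := fun _ => List ℕ) (Bool.rec (motive := fun _ => List ℕ) (rw7744) (rw7745) (Nat.ble 7745 i)) (Bool.rec (motive := fun _ => List ℕ) (rw7746) (rw7747) (Nat.ble 7747 i)) (Nat.ble 7746 i)) (Bool.rec (motive := fun _ => List ℕ) (Bool.rec (motive := fun _ => List ℕ) (rw7748) (rw7749) (Nat.ble 7749 i)) (Bool.rec (motive := fun _ => List ℕ) (rw7750) (rw7751) (Nat.ble 7751 i)) (Nat.ble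 7750 i)) (Nat.ble 7748 i)) (Bool.rec (motive := fun _ => List ℕ) (Bool.rec (motive := fun _ => List ℕ) (Bool.rec (motive := fun _ => List ℕ) (rw7752) (rw7753) (Nat.ble 7753 i)) (Bool.rec (motive := fun _ => List ℕ) (rw7754) (rw7755) (Nat.ble 7755 i)) (Nat.ble 7754 i)) (Bool.rec (motive := fun _ => List ℕ) (Bool.rec (motive := fun _ => List ℕ) (rw7756) (rw7757) (Nat.ble 7757 i)) (Bool.rec (motive := fun _ => List ℕ) (rw7758) (rw7759) (Nat.ble 7759 i)) (Nat.ble 7758 i)) (Nat.ble 7756 i)) (Nat.ble 7752 i)) (Bool.rec (motive := fun _ => List ℕ) (Bool.rec (motive := fun _ => List ℕ) (Bool.rec (motive := fun _ => List ℕ) (Bool.rec (motive := fun _ => List ℕ) (rw7760) (rw7761) (Nat.ble 7761 i)) (Bool.rec (motive := fun _ => List ℕ) (rw7762) (rw7763) (Nat.ble 7763 i)) (Nat.ble 7762 i)) (Bool.rec (motive := fun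 _ => List ℕ) (Bool.rec (motive := fun _ => List ℕ) (rw7764) (rw7765) (Nat.ble 7765 i)) (Bool.rec (motive := fun _ => List ℕ) (rw7766) (rw7767) (Nat.ble 7767 i)) (Nat.ble 7766 i)) (Nat.ble 7764 i)) (Bool.rec (motive := fun _ => List ℕ) (Bool.rec (motive := fun _ => List ℕ) (Bool.rec (motive := fun _ => List ℕ) (rw7768) (rw7769) (Nat.ble 7769 i)) (Bool.rec (motive := fun _ => List ℕ) (rw7770) (rw7771) (Nat.ble 7771 i)) (Nat.ble 7770 i)) (Bool.rec (motive := fun _ => List ℕ) (Bool.rec (motive := fun _ => List ℕ) (rw7772) (rw7773) (Nat.ble 7773 i)) (Bool.rec (motive := fun _ => List ℕ) (rw7774) (rw7775) (Nat.ble 7775 i)) (Nat.ble 7774 i)) (Nat.ble 7772 i)) (Nat.ble 7768 i)) (Nat.ble 7760 i)) (Bool.rec (motive := fun _ => List ℕ) (Bool.rec (motive := fun _ => List ℕ) (Bool.rec (motive := fun _ => List ℕ)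 (Bool.rec (motive := fun _ => List ℕ) (Bool.rec (motive := fun _ => List ℕ) (rw7776) (rw7777) (Nat.ble 7777 i)) (Bool.rec (motive := fun _ => List ℕ) (rw7778) (rw7779) (Nat.ble 7779 i)) (Nat.ble 7778 i)) (Bool.rec (motive := fun _ => List ℕ) (Bool.rec (motive := fun _ => List ℕ) (rw7780) (rw7781) (Nat.ble 7781 i)) (Bool.rec (motive := fun _ => List ℕ) (rw7782) (rw7783) (Nat.ble 7783 i)) (Nat.ble 7782 i)) (Nat.ble 7780 i)) (Bool.rec (motive := fun _ => List ℕ) (Bool.rec (motive := fun _ => List ℕ) (Bool.rec (motive := fun _ => List ℕ) (rw7784) (rw7785) (Nat.ble 7785 i)) (Bool.rec (motive := fun _ => List ℕ) (rw7786) (rw7787) (Nat.ble 7787 i)) (Nat.ble 7786 i)) (Bool.rec (motive := fun _ => List ℕ) (Bool.rec (motive := fun _ => List ℕ) (rw7788) (rw7789) (Nat.ble 7789 i)) (Bool.rec (motive := fun _ => List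 ℕ) (rw7790) (rw7791) (Nat.ble 7791 i)) (Nat.ble 7790 i)) (Nat.ble 7788 i)) (Nat.ble 7784 i)) (Bool.rec (motive := fun _ => List ℕ) (Bool.rec (motive := fun _ => List ℕ) (Bool.rec (motive := fun _ => List ℕ) (Bool.rec (motive := fun _ => List ℕ) (rw7792) (rw7793) (Nat.ble 7793 i)) (Bool.rec (motive := fun _ => List ℕ) (rw7794) (rw7795) (Nat.ble 7795 i)) (Nat.ble 7794 i)) (Bool.rec (motive := fun _ => List ℕ) (Bool.rec (motive := fun _ => List ℕ) (rw7796) (rw7797) (Nat.ble 7797 i)) (Bool.rec (motive := fun _ => List ℕ) (rw7798) (rw7799) (Nat.ble 7799 i)) (Nat.ble 7798 i)) (Nat.ble 7796 i)) (Bool.rec (motive := fun _ => List ℕ) (Bool.rec (motive := fun _ => List ℕ) (Bool.rec (motive := fun _ => List ℕ) (rw7800) (rw7801) (Nat.ble 7801 i)) (Bool.rec (motive := fun _ => List ℕ) (rw7802) (rw7803) (Nat.ble 7803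 i)) (Nat.ble 7802 i)) (Bool.rec (motive := fun _ => List ℕ) (Bool.rec (motive := fun _ => List ℕ) (rw7804) (rw7805) (Nat.ble 7805 i)) (Bool.rec (motive := fun _ => List ℕ) (rw7806) (rw7807) (Nat.ble 7807 i)) (Nat.ble 7806 i)) (Nat.ble 7804 i)) (Nat.ble 7800 i)) (Nat.ble 7792 i)) (Nat.ble 7776 i)
noncomputable def rwb122 (i : ℕ) : List ℕ := Bool.rec (motive := fun _ => List ℕ) (Bool.rec (motive := fun _ => List ℕ) (Bool.rec (motive := fun _ => List ℕ) (Bool.rec (motive := fun _ => List ℕ) (Bool.rec (motive := fun _ => List ℕ) (Bool.rec (motive := fun _ => List ℕ) (rw7808) (rw7809) (Nat.ble 7809 i)) (Bool.rec (motive := fun _ => List ℕ) (rw7810) (rw7811) (Nat.ble 7811 i)) (Nat.ble 7810 i)) (Bool.rec (motive := fun _ => List ℕ) (Bool.rec (motive := fun _ => List ℕ) (rw7812) (rw7813) (Nat.ble 7813 i)) (Bool.rec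 (motive := fun _ => List ℕ) (rw7814) (rw7815) (Nat.ble 7815 i)) (Nat.ble 7814 i)) (Nat.ble 7812 i)) (Bool.rec (motive := fun _ => List ℕ) (Bool.rec (motive := fun _ => List ℕ) (Bool.rec (motive := fun _ => List ℕ) (rw7816) (rw7817) (Nat.ble 7817 i)) (Bool.rec (motive := fun _ => List ℕ) (rw7818) (rw7819) (Nat.ble 7819 i)) (Nat.ble 7818 i)) (Bool.rec (motive := fun _ => List ℕ) (Bool.rec (motive := fun _ => List ℕ) (rw7820) (rw7821) (Nat.ble 7821 i)) (Bool.rec (motive := fun _ => List ℕ) (rw7822) (rw7823) (Nat.ble 7823 i)) (Nat.ble 7822 i)) (Nat.ble 7820 i)) (Nat.ble 7816 i)) (Bool.rec (motive := fun _ => List ℕ) (Bool.rec (motive := fun _ => List ℕ) (Bool.rec (motive := fun _ => List ℕ) (Bool.rec (motive := fun _ => List ℕ) (rw7824) (rw7825) (Nat.ble 7825 i)) (Bool.rec (motive := fun _ => List ℕ) (rw7826)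 (rw7827) (Nat.ble 7827 i)) (Nat.ble 7826 i)) (Bool.rec (motive := fun _ => List ℕ) (Bool.rec (motive := fun _ => List ℕ) (rw7828) (rw7829) (Nat.ble 7829 i)) (Bool.rec (motive := fun _ => List ℕ) (rw7830) (rw7831) (Nat.ble 7831 i)) (Nat.ble 7830 i)) (Nat.ble 7828 i)) (Bool.rec (motive := fun _ => List ℕ) (Bool.rec (motive := fun _ => List ℕ) (Bool.rec (motive := fun _ => List ℕ) (rw7832) (rw7833) (Nat.ble 7833 i)) (Bool.rec (motive := fun _ => List ℕ) (rw7834) (rw7835) (Nat.ble 7835 i)) (Nat.ble 7834 i)) (Bool.rec (motive := fun _ => List ℕ) (Bool.rec (motive := fun _ => List ℕ) (rw7836) (rw7837) (Nat.ble 7837 i)) (Bool.rec (motive := fun _ => List ℕ) (rw7838) (rw7839) (Nat.ble 7839 i)) (Nat.ble 7838 i)) (Nat.ble 7836 i)) (Nat.ble 7832 i)) (Nat.ble 7824 i)) (Bool.rec (motive := fun _ => List ℕ) (Bool.rec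 (motive := fun _ => List ℕ) (Bool.rec (motive := fun _ => List ℕ) (Bool.rec (motive := fun _ => List ℕ) (Bool.rec (motive := fun _ => List ℕ) (rw7840) (rw7841) (Nat.ble 7841 i)) (Bool.rec (motive := fun _ => List ℕ) (rw7842) (rw7843) (Nat.ble 7843 i)) (Nat.ble 7842 i)) (Bool.rec (motive := fun _ => List ℕ) (Bool.rec (motive := fun _ => List ℕ) (rw7844) (rw7845) (Nat.ble 7845 i)) (Bool.rec (motive := fun _ => List ℕ) (rw7846) (rw7847) (Nat.ble 7847 i)) (Nat.ble 7846 i)) (Nat.ble 7844 i)) (Bool.rec (motive := fun _ => List ℕ) (Bool.rec (motive := fun _ => List ℕ) (Bool.rec (motive := fun _ => List ℕ) (rw7848) (rw7849) (Nat.ble 7849 i)) (Bool.rec (motive := fun _ => List ℕ) (rw7850) (rw7851) (Nat.ble 7851 i)) (Nat.ble 7850 i)) (Bool.rec (motive := fun _ => List ℕ) (Bool.rec (motive := fun _ => List ℕ) (rw7852)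 (rw7853) (Nat.ble 7853 i)) (Bool.rec (motive := fun _ => List ℕ) (rw7854) (rw7855) (Nat.ble 7855 i)) (Nat.ble 7854 i)) (Nat.ble 7852 i)) (Nat.ble 7848 i)) (Bool.rec (motive := fun _ => List ℕ) (Bool.rec (motive := fun _ => List ℕ) (Bool.rec (motive := fun _ => List ℕ) (Bool.rec (motive := fun _ => List ℕ) (rw7856) (rw7857) (Nat.ble 7857 i)) (Bool.rec (motive := fun _ => List ℕ) (rw7858) (rw7859) (Nat.ble 7859 i)) (Nat.ble 7858 i)) (Bool.rec (motive := fun _ => List ℕ) (Bool.rec (motive := fun _ => List ℕ) (rw7860) (rw7861) (Nat.ble 7861 i)) (Bool.rec (motive := fun _ => List ℕ) (rw7862) (rw7863) (Nat.ble 7863 i)) (Nat.ble 7862 i)) (Nat.ble 7860 i)) (Bool.rec (motive := fun _ => List ℕ) (Bool.rec (motive := fun _ => List ℕ) (Bool.rec (motive := fun _ => List ℕ) (rw7864) (rw7865) (Nat.ble 7865 i)) (Bool.rec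 (motive := fun _ => List ℕ) (rw7866) (rw7867) (Nat.ble 7867 i)) (Nat.ble 7866 i)) (Bool.rec (motive := fun _ => List ℕ) (Bool.rec (motive := fun _ => List ℕ) (rw7868) (rw7869) (Nat.ble 7869 i)) (Bool.rec (motive := fun _ => List ℕ) (rw7870) (rw7871) (Nat.ble 7871 i)) (Nat.ble 7870 i)) (Nat.ble 7868 i)) (Nat.ble 7864 i)) (Nat.ble 7856 i)) (Nat.ble 7840 i)
noncomputable def rwb123 (i : ℕ) : List ℕ := Bool.rec (motive := fun _ => List ℕ) (Bool.rec (motive := fun _ => List ℕ) (Bool.rec (motive := fun _ => List ℕ) (Bool.rec (motive := fun _ => List ℕ) (Bool.rec (motive := fun _ => List ℕ) (Bool.rec (motive := fun _ => List ℕ) (rw7872) (rw7873) (Nat.ble 7873 i)) (Bool.rec (motive := fun _ => List ℕ) (rw7874) (rw7875) (Nat.ble 7875 i)) (Nat.ble 7874 i)) (Bool.rec (motive := fun _ => List ℕ) (Bool.rec (motive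 := fun _ => List ℕ) (rw7876) (rw7877) (Nat.ble 7877 i)) (Bool.rec (motive := fun _ => List ℕ) (rw7878) (rw7879) (Nat.ble 7879 i)) (Nat.ble 7878 i)) (Nat.ble 7876 i)) (Bool.rec (motive := fun _ => List ℕ) (Bool.rec (motive := fun _ => List ℕ) (Bool.rec (motive := fun _ => List ℕ) (rw7880) (rw7881) (Nat.ble 7881 i)) (Bool.rec (motive := fun _ => List ℕ) (rw7882) (rw7883) (Nat.ble 7883 i)) (Nat.ble 7882 i)) (Bool.rec (motive := fun _ => List ℕ) (Bool.rec (motive := fun _ => List ℕ) (rw7884) (rw7885) (Nat.ble 7885 i)) (Bool.rec (motive := fun _ => List ℕ) (rw7886) (rw7887) (Nat.ble 7887 i)) (Nat.ble 7886 i)) (Nat.ble 7884 i)) (Nat.ble 7880 i)) (Bool.rec (motive := fun _ => List ℕ) (Bool.rec (motive := fun _ => List ℕ) (Bool.rec (motive := fun _ => List ℕ) (Bool.rec (motive := fun _ => List ℕ) (rw7888) (rw7889)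 (Nat.ble 7889 i)) (Bool.rec (motive := fun _ => List ℕ) (rw7890) (rw7891) (Nat.ble 7891 i)) (Nat.ble 7890 i)) (Bool.rec (motive := fun _ => List ℕ) (Bool.rec (motive := fun _ => List ℕ) (rw7892) (rw7893) (Nat.ble 7893 i)) (Bool.rec (motive := fun _ => List ℕ) (rw7894) (rw7895) (Nat.ble 7895 i)) (Nat.ble 7894 i)) (Nat.ble 7892 i)) (Bool.rec (motive := fun _ => List ℕ) (Bool.rec (motive := fun _ => List ℕ) (Bool.rec (motive := fun _ => List ℕ) (rw7896) (rw7897) (Nat.ble 7897 i)) (Bool.rec (motive := fun _ => List ℕ) (rw7898) (rw7899) (Nat.ble 7899 i)) (Nat.ble 7898 i)) (Bool.rec (motive := fun _ => List ℕ) (Bool.rec (motive := fun _ => List ℕ) (rw7900) (rw7901) (Nat.ble 7901 i)) (Bool.rec (motive := fun _ => List ℕ) (rw7902) (rw7903) (Nat.ble 7903 i)) (Nat.ble 7902 i)) (Nat.ble 7900 i)) (Nat.ble 7896 i))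 (Nat.ble 7888 i)) (Bool.rec (motive := fun _ => List ℕ) (Bool.rec (motive := fun _ => List ℕ) (Bool.rec (motive := fun _ => List ℕ) (Bool.rec (motive := fun _ => List ℕ) (Bool.rec (motive := fun _ => List ℕ) (rw7904) (rw7905) (Nat.ble 7905 i)) (Bool.rec (motive := fun _ => List ℕ) (rw7906) (rw7907) (Nat.ble 7907 i)) (Nat.ble 7906 i)) (Bool.rec (motive := fun _ => List ℕ) (Bool.rec (motive := fun _ => List ℕ) (rw7908) (rw7909) (Nat.ble 7909 i)) (Bool.rec (motive := fun _ => List ℕ) (rw7910) (rw7911) (Nat.ble 7911 i)) (Nat.ble 7910 i)) (Nat.ble 7908 i)) (Bool.rec (motive := fun _ => List ℕ) (Bool.rec (motive := fun _ => List ℕ) (Bool.rec (motive := fun _ => List ℕ) (rw7912) (rw7913) (Nat.ble 7913 i)) (Bool.rec (motive := fun _ => List ℕ) (rw7914) (rw7915) (Nat.ble 7915 i)) (Nat.ble 7914 i)) (Bool.rec (motive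 := fun _ => List ℕ) (Bool.rec (motive := fun _ => List ℕ) (rw7916) (rw7917) (Nat.ble 7917 i)) (Bool.rec (motive := fun _ => List ℕ) (rw7918) (rw7919) (Nat.ble 7919 i)) (Nat.ble 7918 i)) (Nat.ble 7916 i)) (Nat.ble 7912 i)) (Bool.rec (motive := fun _ => List ℕ) (Bool.rec (motive := fun _ => List ℕ) (Bool.rec (motive := fun _ => List ℕ) (Bool.rec (motive := fun _ => List ℕ) (rw7920) (rw7921) (Nat.ble 7921 i)) (Bool.rec (motive := fun _ => List ℕ) (rw7922) (rw7923) (Nat.ble 7923 i)) (Nat.ble 7922 i)) (Bool.rec (motive := fun _ => List ℕ) (Bool.rec (motive := fun _ => List ℕ) (rw7924) (rw7925) (Nat.ble 7925 i)) (Bool.rec (motive := fun _ => List ℕ) (rw7926) (rw7927) (Nat.ble 7927 i)) (Nat.ble 7926 i)) (Nat.ble 7924 i)) (Bool.rec (motive := fun _ => List ℕ) (Bool.rec (motive := fun _ => List ℕ) (Bool.rec (motive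 := fun _ => List ℕ) (rw7928) (rw7929) (Nat.ble 7929 i)) (Bool.rec (motive := fun _ => List ℕ) (rw7930) (rw7931) (Nat.ble 7931 i)) (Nat.ble 7930 i)) (Bool.rec (motive := fun _ => List ℕ) (Bool.rec (motive := fun _ => List ℕ) (rw7932) (rw7933) (Nat.ble 7933 i)) (Bool.rec (motive := fun _ => List ℕ) (rw7934) (rw7935) (Nat.ble 7935 i)) (Nat.ble 7934 i)) (Nat.ble 7932 i)) (Nat.ble 7928 i)) (Nat.ble 7920 i)) (Nat.ble 7904 i)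
noncomputable def rwb124 (i : ℕ) : List ℕ := Bool.rec (motive := fun _ => List ℕ) (Bool.rec (motive := fun _ => List ℕ) (Bool.rec (motive := fun _ => List ℕ) (Bool.rec (motive := fun _ => List ℕ) (Bool.rec (motive := fun _ => List ℕ) (Bool.rec (motive := fun _ => List ℕ) (rw7936) (rw7937) (Nat.ble 7937 i)) (Bool.rec (motive := fun _ => List ℕ) (rw7938) (rw7939) (Nat.ble 7939 i)) (Nat.ble 7938 i)) (Bool.rec (motive := fun _ => List ℕ) (Bool.rec (motive := fun _ => List ℕ) (rw7940) (rw7941) (Nat.ble 7941 i)) (Bool.rec (motive := fun _ => List ℕ) (rw7942) (rw7943) (Nat.ble 7943 i)) (Nat.ble 7942 i)) (Nat.ble 7940 i)) (Bool.rec (motive := fun _ => List ℕ) (Bool.rec (motive := fun _ => List ℕ) (Bool.rec (motive := fun _ => List ℕ) (rw7944) (rw7945) (Nat.ble 7945 i)) (Bool.rec (motive := fun _ => List ℕ) (rw7946)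 (rw7947) (Nat.ble 7947 i)) (Nat.ble 7946 i)) (Bool.rec (motive := fun _ => List ℕ) (Bool.rec (motive := fun _ => List ℕ) (rw7948) (rw7949) (Nat.ble 7949 i)) (Bool.rec (motive := fun _ => List ℕ) (rw7950) (rw7951) (Nat.ble 7951 i)) (Nat.ble 7950 i)) (Nat.ble 7948 i)) (Nat.ble 7944 i)) (Bool.rec (motive := fun _ => List ℕ) (Bool.rec (motive := fun _ => List ℕ) (Bool.rec (motive := fun _ => List ℕ) (Bool.rec (motive := fun _ => List ℕ) (rw7952) (rw7953) (Nat.ble 7953 i)) (Bool.rec (motive := fun _ => List ℕ) (rw7954) (rw7955) (Nat.ble 7955 i)) (Nat.ble 7954 i)) (Bool.rec (motive := fun _ => List ℕ) (Bool.rec (motive := fun _ => List ℕ) (rw7956) (rw7957) (Nat.ble 7957 i)) (Bool.rec (motive := fun _ => List ℕ) (rw7958) (rw7959) (Nat.ble 7959 i)) (Nat.ble 7958 i)) (Nat.ble 7956 i)) (Bool.rec (motive := fun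 _ => List ℕ) (Bool.rec (motive := fun _ => List ℕ) (Bool.rec (motive := fun _ => List ℕ) (rw7960) (rw7961) (Nat.ble 7961 i)) (Bool.rec (motive := fun _ => List ℕ) (rw7962) (rw7963) (Nat.ble 7963 i)) (Nat.ble 7962 i)) (Bool.rec (motive := fun _ => List ℕ) (Bool.rec (motive := fun _ => List ℕ) (rw7964) (rw7965) (Nat.ble 7965 i)) (Bool.rec (motive := fun _ => List ℕ) (rw7966) (rw7967) (Nat.ble 7967 i)) (Nat.ble 7966 i)) (Nat.ble 7964 i)) (Nat.ble 7960 i)) (Nat.ble 7952 i)) (Bool.rec (motive := fun _ => List ℕ) (Bool.rec (motive := fun _ => List ℕ) (Bool.rec (motive := fun _ => List ℕ) (Bool.rec (motive := fun _ => List ℕ) (Bool.rec (motive := fun _ => List ℕ) (rw7968) (rw7969) (Nat.ble 7969 i)) (Bool.rec (motive := fun _ => List ℕ) (rw7970) (rw7971) (Nat.ble 7971 i)) (Nat.ble 7970 i)) (Bool.rec (motive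 := fun _ => List ℕ) (Bool.rec (motive := fun _ => List ℕ) (rw7972) (rw7973) (Nat.ble 7973 i)) (Bool.rec (motive := fun _ => List ℕ) (rw7974) (rw7975) (Nat.ble 7975 i)) (Nat.ble 7974 i)) (Nat.ble 7972 i)) (Bool.rec (motive := fun _ => List ℕ) (Bool.rec (motive := fun _ => List ℕ) (Bool.rec (motive := fun _ => List ℕ) (rw7976) (rw7977) (Nat.ble 7977 i)) (Bool.rec (motive := fun _ => List ℕ) (rw7978) (rw7979) (Nat.ble 7979 i)) (Nat.ble 7978 i)) (Bool.rec (motive := fun _ => List ℕ) (Bool.rec (motive := fun _ => List ℕ) (rw7980) (rw7981) (Nat.ble 7981 i)) (Bool.rec (motive := fun _ => List ℕ) (rw7982) (rw7983) (Nat.ble 7983 i)) (Nat.ble 7982 i)) (Nat.ble 7980 i)) (Nat.ble 7976 i)) (Bool.rec (motive := fun _ => List ℕ) (Bool.rec (motive := fun _ => List ℕ) (Bool.rec (motive := fun _ => List ℕ) (Bool.rec (motive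 := fun _ => List ℕ) (rw7984) (rw7985) (Nat.ble 7985 i)) (Bool.rec (motive := fun _ => List ℕ) (rw7986) (rw7987) (Nat.ble 7987 i)) (Nat.ble 7986 i)) (Bool.rec (motive := fun _ => List ℕ) (Bool.rec (motive := fun _ => List ℕ) (rw7988) (rw7989) (Nat.ble 7989 i)) (Bool.rec (motive := fun _ => List ℕ) (rw7990) (rw7991) (Nat.ble 7991 i)) (Nat.ble 7990 i)) (Nat.ble 7988 i)) (Bool.rec (motive := fun _ => List ℕ) (Bool.rec (motive := fun _ => List ℕ) (Bool.rec (motive := fun _ => List ℕ) (rw7992) (rw7993) (Nat.ble 7993 i)) (Bool.rec (motive := fun _ => List ℕ) (rw7994) (rw7995) (Nat.ble 7995 i)) (Nat.ble 7994 i)) (Bool.rec (motive := fun _ => List ℕ) (Bool.rec (motive := fun _ => List ℕ) (rw7996) (rw7997) (Nat.ble 7997 i)) (Bool.rec (motive := fun _ => List ℕ) (rw7998) (rw7999) (Nat.ble 7999 i)) (Nat.ble 7998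 i)) (Nat.ble 7996 i)) (Nat.ble 7992 i)) (Nat.ble 7984 i)) (Nat.ble 7968 i)
noncomputable def rwb125 (i : ℕ) : List ℕ := Bool.rec (motive := fun _ => List ℕ) (Bool.rec (motive := fun _ => List ℕ) (Bool.rec (motive := fun _ => List ℕ) (Bool.rec (motive := fun _ => List ℕ) (Bool.rec (motive := fun _ => List ℕ) (Bool.rec (motive := fun _ => List ℕ) (rw8000) (rw8001) (Nat.ble 8001 i)) (Bool.rec (motive := fun _ => List ℕ) (rw8002) (rw8003) (Nat.ble 8003 i)) (Nat.ble 8002 i)) (Bool.rec (motive := fun _ => List ℕ) (Bool.rec (motive := fun _ => List ℕ) (rw8004) (rw8005) (Nat.ble 8005 i)) (Bool.rec (motive := fun _ => List ℕ) (rw8006) (rw8007) (Nat.ble 8007 i)) (Nat.ble 8006 i)) (Nat.ble 8004 i)) (Bool.rec (motive := fun _ => List ℕ) (Bool.rec (motive := fun _ => List ℕ) (Bool.rec (motive := fun _ => List ℕ)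 (rw8008) (rw8009) (Nat.ble 8009 i)) (Bool.rec (motive := fun _ => List ℕ) (rw8010) (rw8011) (Nat.ble 8011 i)) (Nat.ble 8010 i)) (Bool.rec (motive := fun _ => List ℕ) (Bool.rec (motive := fun _ => List ℕ) (rw8012) (rw8013) (Nat.ble 8013 i)) (Bool.rec (motive := fun _ => List ℕ) (rw8014) (rw8015) (Nat.ble 8015 i)) (Nat.ble 8014 i)) (Nat.ble 8012 i)) (Nat.ble 8008 i)) (Bool.rec (motive := fun _ => List ℕ) (Bool.rec (motive := fun _ => List ℕ) (Bool.rec (motive := fun _ => List ℕ) (Bool.rec (motive := fun _ => List ℕ) (rw8016) (rw8017) (Nat.ble 8017 i)) (Bool.rec (motive := fun _ => List ℕ) (rw8018) (rw8019) (Nat.ble 8019 i)) (Nat.ble 8018 i)) (Bool.rec (motive := fun _ => List ℕ) (Bool.rec (motive := fun _ => List ℕ) (rw8020) (rw8021) (Nat.ble 8021 i)) (Bool.rec (motive := fun _ => List ℕ) (rw8022) (rw8023)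 (Nat.ble 8023 i)) (Nat.ble 8022 i)) (Nat.ble 8020 i)) (Bool.rec (motive := fun _ => List ℕ) (Bool.rec (motive := fun _ => List ℕ) (Bool.rec (motive := fun _ => List ℕ) (rw8024) (rw8025) (Nat.ble 8025 i)) (Bool.rec (motive := fun _ => List ℕ) (rw8026) (rw8027) (Nat.ble 8027 i)) (Nat.ble 8026 i)) (Bool.rec (motive := fun _ => List ℕ) (Bool.rec (motive := fun _ => List ℕ) (rw8028) (rw8029) (Nat.ble 8029 i)) (Bool.rec (motive := fun _ => List ℕ) (rw8030) (rw8031) (Nat.ble 8031 i)) (Nat.ble 8030 i)) (Nat.ble 8028 i)) (Nat.ble 8024 i)) (Nat.ble 8016 i)) (Bool.rec (motive := fun _ => List ℕ) (Bool.rec (motive := fun _ => List ℕ) (Bool.rec (motive := fun _ => List ℕ) (Bool.rec (motive := fun _ => List ℕ) (Bool.rec (motive := fun _ => List ℕ) (rw8032) (rw8033) (Nat.ble 8033 i)) (Bool.rec (motive := fun _ => List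 ℕ) (rw8034) (rw8035) (Nat.ble 8035 i)) (Nat.ble 8034 i)) (Bool.rec (motive := fun _ => List ℕ) (Bool.rec (motive := fun _ => List ℕ) (rw8036) (rw8037) (Nat.ble 8037 i)) (Bool.rec (motive := fun _ => List ℕ) (rw8038) (rw8039) (Nat.ble 8039 i)) (Nat.ble 8038 i)) (Nat.ble 8036 i)) (Bool.rec (motive := fun _ => List ℕ) (Bool.rec (motive := fun _ => List ℕ) (Bool.rec (motive := fun _ => List ℕ) (rw8040) (rw8041) (Nat.ble 8041 i)) (Bool.rec (motive := fun _ => List ℕ) (rw8042) (rw8043) (Nat.ble 8043 i)) (Nat.ble 8042 i)) (Bool.rec (motive := fun _ => List ℕ) (Bool.rec (motive := fun _ => List ℕ) (rw8044) (rw8045) (Nat.ble 8045 i)) (Bool.rec (motive := fun _ => List ℕ) (rw8046) (rw8047) (Nat.ble 8047 i)) (Nat.ble 8046 i)) (Nat.ble 8044 i)) (Nat.ble 8040 i)) (Bool.rec (motive := fun _ => List ℕ) (Bool.rec (motive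 := fun _ => List ℕ) (Bool.rec (motive := fun _ => List ℕ) (Bool.rec (motive := fun _ => List ℕ) (rw8048) (rw8049) (Nat.ble 8049 i)) (Bool.rec (motive := fun _ => List ℕ) (rw8050) (rw8051) (Nat.ble 8051 i)) (Nat.ble 8050 i)) (Bool.rec (motive := fun _ => List ℕ) (Bool.rec (motive := fun _ => List ℕ) (rw8052) (rw8053) (Nat.ble 8053 i)) (Bool.rec (motive := fun _ => List ℕ) (rw8054) (rw8055) (Nat.ble 8055 i)) (Nat.ble 8054 i)) (Nat.ble 8052 i)) (Bool.rec (motive := fun _ => List ℕ) (Bool.rec (motive := fun _ => List ℕ) (Bool.rec (motive := fun _ => List ℕ) (rw8056) (rw8057) (Nat.ble 8057 i)) (Bool.rec (motive := fun _ => List ℕ) (rw8058) (rw8059) (Nat.ble 8059 i)) (Nat.ble 8058 i)) (Bool.rec (motive := fun _ => List ℕ) (Bool.rec (motive := fun _ => List ℕ) (rw8060) (rw8061) (Nat.ble 8061 i)) (Bool.rec (motive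 := fun _ => List ℕ) (rw8062) (rw8063) (Nat.ble 8063 i)) (Nat.ble 8062 i)) (Nat.ble 8060 i)) (Nat.ble 8056 i)) (Nat.ble 8048 i)) (Nat.ble 8032 i)
noncomputable def rwb126 (i : ℕ) : List ℕ := Bool.rec (motive := fun _ => List ℕ) (Bool.rec (motive := fun _ => List ℕ) (Bool.rec (motive := fun _ => List ℕ) (Bool.rec (motive := fun _ => List ℕ) (Bool.rec (motive := fun _ => List ℕ) (Bool.rec (motive := fun _ => List ℕ) (rw8064) (rw8065) (Nat.ble 8065 i)) (Bool.rec (motive := fun _ => List ℕ) (rw8066) (rw8067) (Nat.ble 8067 i)) (Nat.ble 8066 i)) (Bool.rec (motive := fun _ => List ℕ) (Bool.rec (motive := fun _ => List ℕ) (rw8068) (rw8069) (Nat.ble 8069 i)) (Bool.rec (motive := fun _ => List ℕ) (rw8070) (rw8071) (Nat.ble 8071 i)) (Nat.ble 8070 i)) (Nat.ble 8068 i)) (Bool.rec (motive := fun _ => List ℕ) (Bool.rec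 (motive := fun _ => List ℕ) (Bool.rec (motive := fun _ => List ℕ) (rw8072) (rw8073) (Nat.ble 8073 i)) (Bool.rec (motive := fun _ => List ℕ) (rw8074) (rw8075) (Nat.ble 8075 i)) (Nat.ble 8074 i)) (Bool.rec (motive := fun _ => List ℕ) (Bool.rec (motive := fun _ => List ℕ) (rw8076) (rw8077) (Nat.ble 8077 i)) (Bool.rec (motive := fun _ => List ℕ) (rw8078) (rw8079) (Nat.ble 8079 i)) (Nat.ble 8078 i)) (Nat.ble 8076 i)) (Nat.ble 8072 i)) (Bool.rec (motive := fun _ => List ℕ) (Bool.rec (motive := fun _ => List ℕ) (Bool.rec (motive := fun _ => List ℕ) (Bool.rec (motive := fun _ => List ℕ) (rw8080) (rw8081) (Nat.ble 8081 i)) (Bool.rec (motive := fun _ => List ℕ) (rw8082) (rw8083) (Nat.ble 8083 i)) (Nat.ble 8082 i)) (Bool.rec (motive := fun _ => List ℕ) (Bool.rec (motive := fun _ => List ℕ) (rw8084) (rw8085) (Nat.ble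 8085 i)) (Bool.rec (motive := fun _ => List ℕ) (rw8086) (rw8087) (Nat.ble 8087 i)) (Nat.ble 8086 i)) (Nat.ble 8084 i)) (Bool.rec (motive := fun _ => List ℕ) (Bool.rec (motive := fun _ => List ℕ) (Bool.rec (motive := fun _ => List ℕ) (rw8088) (rw8089) (Nat.ble 8089 i)) (Bool.rec (motive := fun _ => List ℕ) (rw8090) (rw8091) (Nat.ble 8091 i)) (Nat.ble 8090 i)) (Bool.rec (motive := fun _ => List ℕ) (Bool.rec (motive := fun _ => List ℕ) (rw8092) (rw8093) (Nat.ble 8093 i)) (Bool.rec (motive := fun _ => List ℕ) (rw8094) (rw8095) (Nat.ble 8095 i)) (Nat.ble 8094 i)) (Nat.ble 8092 i)) (Nat.ble 8088 i)) (Nat.ble 8080 i)) (Bool.rec (motive := fun _ => List ℕ) (Bool.rec (motive := fun _ => List ℕ) (Bool.rec (motive := fun _ => List ℕ) (Bool.rec (motive := fun _ => List ℕ) (Bool.rec (motive := fun _ => List ℕ) (rw8096)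 (rw8097) (Nat.ble 8097 i)) (Bool.rec (motive := fun _ => List ℕ) (rw8098) (rw8099) (Nat.ble 8099 i)) (Nat.ble 8098 i)) (Bool.rec (motive := fun _ => List ℕ) (Bool.rec (motive := fun _ => List ℕ) (rw8100) (rw8101) (Nat.ble 8101 i)) (Bool.rec (motive := fun _ => List ℕ) (rw8102) (rw8103) (Nat.ble 8103 i)) (Nat.ble 8102 i)) (Nat.ble 8100 i)) (Bool.rec (motive := fun _ => List ℕ) (Bool.rec (motive := fun _ => List ℕ) (Bool.rec (motive := fun _ => List ℕ) (rw8104) (rw8105) (Nat.ble 8105 i)) (Bool.rec (motive := fun _ => List ℕ) (rw8106) (rw8107) (Nat.ble 8107 i)) (Nat.ble 8106 i)) (Bool.rec (motive := fun _ => List ℕ) (Bool.rec (motive := fun _ => List ℕ) (rw8108) (rw8109) (Nat.ble 8109 i)) (Bool.rec (motive := fun _ => List ℕ) (rw8110) (rw8111) (Nat.ble 8111 i)) (Nat.ble 8110 i)) (Nat.ble 8108 i)) (Nat.ble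 8104 i)) (Bool.rec (motive := fun _ => List ℕ) (Bool.rec (motive := fun _ => List ℕ) (Bool.rec (motive := fun _ => List ℕ) (Bool.rec (motive := fun _ => List ℕ) (rw8112) (rw8113) (Nat.ble 8113 i)) (Bool.rec (motive := fun _ => List ℕ) (rw8114) (rw8115) (Nat.ble 8115 i)) (Nat.ble 8114 i)) (Bool.rec (motive := fun _ => List ℕ) (Bool.rec (motive := fun _ => List ℕ) (rw8116) (rw8117) (Nat.ble 8117 i)) (Bool.rec (motive := fun _ => List ℕ) (rw8118) (rw8119) (Nat.ble 8119 i)) (Nat.ble 8118 i)) (Nat.ble 8116 i)) (Bool.rec (motive := fun _ => List ℕ) (Bool.rec (motive := fun _ => List ℕ) (Bool.rec (motive := fun _ => List ℕ) (rw8120) (rw8121) (Nat.ble 8121 i)) (Bool.rec (motive := fun _ => List ℕ) (rw8122) (rw8123) (Nat.ble 8123 i)) (Nat.ble 8122 i)) (Bool.rec (motive := fun _ => List ℕ) (Bool.rec (motive :=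 fun _ => List ℕ) (rw8124) (rw8125) (Nat.ble 8125 i)) (Bool.rec (motive := fun _ => List ℕ) (rw8126) (rw8127) (Nat.ble 8127 i)) (Nat.ble 8126 i)) (Nat.ble 8124 i)) (Nat.ble 8120 i)) (Nat.ble 8112 i)) (Nat.ble 8096 i)
noncomputable def rwb127 (i : ℕ) : List ℕ := Bool.rec (motive := fun _ => List ℕ) (Bool.rec (motive := fun _ => List ℕ) (Bool.rec (motive := fun _ => List ℕ) (Bool.rec (motive := fun _ => List ℕ) (Bool.rec (motive := fun _ => List ℕ) (Bool.rec (motive := fun _ => List ℕ) (rw8128) (rw8129) (Nat.ble 8129 i)) (Bool.rec (motive := fun _ => List ℕ) (rw8130) (rw8131) (Nat.ble 8131 i)) (Nat.ble 8130 i)) (Bool.rec (motive := fun _ => List ℕ) (Bool.rec (motive := fun _ => List ℕ) (rw8132) (rw8133) (Nat.ble 8133 i)) (Bool.rec (motive := fun _ => List ℕ) (rw8134) (rw8135) (Nat.ble 8135 i)) (Nat.ble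 8134 i)) (Nat.ble 8132 i)) (Bool.rec (motive := fun _ => List ℕ) (Bool.rec (motive := fun _ => List ℕ) (Bool.rec (motive := fun _ => List ℕ) (rw8136) (rw8137) (Nat.ble 8137 i)) (Bool.rec (motive := fun _ => List ℕ) (rw8138) (rw8139) (Nat.ble 8139 i)) (Nat.ble 8138 i)) (Bool.rec (motive := fun _ => List ℕ) (Bool.rec (motive := fun _ => List ℕ) (rw8140) (rw8141) (Nat.ble 8141 i)) (Bool.rec (motive := fun _ => List ℕ) (rw8142) (rw8143) (Nat.ble 8143 i)) (Nat.ble 8142 i)) (Nat.ble 8140 i)) (Nat.ble 8136 i)) (Bool.rec (motive := fun _ => List ℕ) (Bool.rec (motive := fun _ => List ℕ) (Bool.rec (motive := fun _ => List ℕ) (Bool.rec (motive := fun _ => List ℕ) (rw8144) (rw8145) (Nat.ble 8145 i)) (Bool.rec (motive := fun _ => List ℕ) (rw8146) (rw8147) (Nat.ble 8147 i)) (Nat.ble 8146 i)) (Bool.rec (motive := fun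 _ => List ℕ) (Bool.rec (motive := fun _ => List ℕ) (rw8148) (rw8149) (Nat.ble 8149 i)) (Bool.rec (motive := fun _ => List ℕ) (rw8150) (rw8151) (Nat.ble 8151 i)) (Nat.ble 8150 i)) (Nat.ble 8148 i)) (Bool.rec (motive := fun _ => List ℕ) (Bool.rec (motive := fun _ => List ℕ) (Bool.rec (motive := fun _ => List ℕ) (rw8152) (rw8153) (Nat.ble 8153 i)) (Bool.rec (motive := fun _ => List ℕ) (rw8154) (rw8155) (Nat.ble 8155 i)) (Nat.ble 8154 i)) (Bool.rec (motive := fun _ => List ℕ) (Bool.rec (motive := fun _ => List ℕ) (rw8156) (rw8157) (Nat.ble 8157 i)) (Bool.rec (motive := fun _ => List ℕ) (rw8158) (rw8159) (Nat.ble 8159 i)) (Nat.ble 8158 i)) (Nat.ble 8156 i)) (Nat.ble 8152 i)) (Nat.ble 8144 i)) (Bool.rec (motive := fun _ => List ℕ) (Bool.rec (motive := fun _ => List ℕ) (Bool.rec (motive := fun _ => List ℕ)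 (Bool.rec (motive := fun _ => List ℕ) (Bool.rec (motive := fun _ => List ℕ) (rw8160) (rw8161) (Nat.ble 8161 i)) (Bool.rec (motive := fun _ => List ℕ) (rw8162) (rw8163) (Nat.ble 8163 i)) (Nat.ble 8162 i)) (Bool.rec (motive := fun _ => List ℕ) (Bool.rec (motive := fun _ => List ℕ) (rw8164) (rw8165) (Nat.ble 8165 i)) (Bool.rec (motive := fun _ => List ℕ) (rw8166) (rw8167) (Nat.ble 8167 i)) (Nat.ble 8166 i)) (Nat.ble 8164 i)) (Bool.rec (motive := fun _ => List ℕ) (Bool.rec (motive := fun _ => List ℕ) (Bool.rec (motive := fun _ => List ℕ) (rw8168) (rw8169) (Nat.ble 8169 i)) (Bool.rec (motive := fun _ => List ℕ) (rw8170) (rw8171) (Nat.ble 8171 i)) (Nat.ble 8170 i)) (Bool.rec (motive := fun _ => List ℕ) (Bool.rec (motive := fun _ => List ℕ) (rw8172) (rw8173) (Nat.ble 8173 i)) (Bool.rec (motive := fun _ => List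 ℕ) (rw8174) (rw8175) (Nat.ble 8175 i)) (Nat.ble 8174 i)) (Nat.ble 8172 i)) (Nat.ble 8168 i)) (Bool.rec (motive := fun _ => List ℕ) (Bool.rec (motive := fun _ => List ℕ) (Bool.rec (motive := fun _ => List ℕ) (Bool.rec (motive := fun _ => List ℕ) (rw8176) (rw8177) (Nat.ble 8177 i)) (Bool.rec (motive := fun _ => List ℕ) (rw8178) (rw8179) (Nat.ble 8179 i)) (Nat.ble 8178 i)) (Bool.rec (motive := fun _ => List ℕ) (Bool.rec (motive := fun _ => List ℕ) (rw8180) (rw8181) (Nat.ble 8181 i)) (Bool.rec (motive := fun _ => List ℕ) (rw8182) (rw8183) (Nat.ble 8183 i)) (Nat.ble 8182 i)) (Nat.ble 8180 i)) (Bool.rec (motive := fun _ => List ℕ) (Bool.rec (motive := fun _ => List ℕ) (Bool.rec (motive := fun _ => List ℕ) (rw8184) (rw8185) (Nat.ble 8185 i)) (Bool.rec (motive := fun _ => List ℕ) (rw8186) (rw8187) (Nat.ble 8187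 i)) (Nat.ble 8186 i)) (Bool.rec (motive := fun _ => List ℕ) (Bool.rec (motive := fun _ => List ℕ) (rw8188) (rw8189) (Nat.ble 8189 i)) (Bool.rec (motive := fun _ => List ℕ) (rw8190) (rw8191) (Nat.ble 8191 i)) (Nat.ble 8190 i)) (Nat.ble 8188 i)) (Nat.ble 8184 i)) (Nat.ble 8176 i)) (Nat.ble 8160 i)
noncomputable def rwb128 (i : ℕ) : List ℕ := Bool.rec (motive := fun _ => List ℕ) (Bool.rec (motive := fun _ => List ℕ) (Bool.rec (motive := fun _ => List ℕ) (Bool.rec (motive := fun _ => List ℕ) (Bool.rec (motive := fun _ => List ℕ) (Bool.rec (motive := fun _ => List ℕ) (rw8192) (rw8193) (Nat.ble 8193 i)) (Bool.rec (motive := fun _ => List ℕ) (rw8194) (rw8195) (Nat.ble 8195 i)) (Nat.ble 8194 i)) (Bool.rec (motive := fun _ => List ℕ) (Bool.rec (motive := fun _ => List ℕ) (rw8196) (rw8197) (Nat.ble 8197 i)) (Bool.rec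 (motive := fun _ => List ℕ) (rw8198) (rw8199) (Nat.ble 8199 i)) (Nat.ble 8198 i)) (Nat.ble 8196 i)) (Bool.rec (motive := fun _ => List ℕ) (Bool.rec (motive := fun _ => List ℕ) (Bool.rec (motive := fun _ => List ℕ) (rw8200) (rw8201) (Nat.ble 8201 i)) (Bool.rec (motive := fun _ => List ℕ) (rw8202) (rw8203) (Nat.ble 8203 i)) (Nat.ble 8202 i)) (Bool.rec (motive := fun _ => List ℕ) (Bool.rec (motive := fun _ => List ℕ) (rw8204) (rw8205) (Nat.ble 8205 i)) (Bool.rec (motive := fun _ => List ℕ) (rw8206) (rw8207) (Nat.ble 8207 i)) (Nat.ble 8206 i)) (Nat.ble 8204 i)) (Nat.ble 8200 i)) (Bool.rec (motive := fun _ => List ℕ) (Bool.rec (motive := fun _ => List ℕ) (Bool.rec (motive := fun _ => List ℕ) (Bool.rec (motive := fun _ => List ℕ) (rw8208) (rw8209) (Nat.ble 8209 i)) (Bool.rec (motive := fun _ => List ℕ) (rw8210)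 (rw8211) (Nat.ble 8211 i)) (Nat.ble 8210 i)) (Bool.rec (motive := fun _ => List ℕ) (Bool.rec (motive := fun _ => List ℕ) (rw8212) (rw8213) (Nat.ble 8213 i)) (Bool.rec (motive := fun _ => List ℕ) (rw8214) (rw8215) (Nat.ble 8215 i)) (Nat.ble 8214 i)) (Nat.ble 8212 i)) (Bool.rec (motive := fun _ => List ℕ) (Bool.rec (motive := fun _ => List ℕ) (Bool.rec (motive := fun _ => List ℕ) (rw8216) (rw8217) (Nat.ble 8217 i)) (Bool.rec (motive := fun _ => List ℕ) (rw8218) (rw8219) (Nat.ble 8219 i)) (Nat.ble 8218 i)) (Bool.rec (motive := fun _ => List ℕ) (Bool.rec (motive := fun _ => List ℕ) (rw8220) (rw8221) (Nat.ble 8221 i)) (Bool.rec (motive := fun _ => List ℕ) (rw8222) (rw8223) (Nat.ble 8223 i)) (Nat.ble 8222 i)) (Nat.ble 8220 i)) (Nat.ble 8216 i)) (Nat.ble 8208 i)) (Bool.rec (motive := fun _ => List ℕ) (Bool.rec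 (motive := fun _ => List ℕ) (Bool.rec (motive := fun _ => List ℕ) (Bool.rec (motive := fun _ => List ℕ) (Bool.rec (motive := fun _ => List ℕ) (rw8224) (rw8225) (Nat.ble 8225 i)) (Bool.rec (motive := fun _ => List ℕ) (rw8226) (rw8227) (Nat.ble 8227 i)) (Nat.ble 8226 i)) (Bool.rec (motive := fun _ => List ℕ) (Bool.rec (motive := fun _ => List ℕ) (rw8228) (rw8229) (Nat.ble 8229 i)) (Bool.rec (motive := fun _ => List ℕ) (rw8230) (rw8231) (Nat.ble 8231 i)) (Nat.ble 8230 i)) (Nat.ble 8228 i)) (Bool.rec (motive := fun _ => List ℕ) (Bool.rec (motive := fun _ => List ℕ) (Bool.rec (motive := fun _ => List ℕ) (rw8232) (rw8233) (Nat.ble 8233 i)) (Bool.rec (motive := fun _ => List ℕ) (rw8234) (rw8235) (Nat.ble 8235 i)) (Nat.ble 8234 i)) (Bool.rec (motive := fun _ => List ℕ) (Bool.rec (motive := fun _ => List ℕ) (rw8236)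 (rw8237) (Nat.ble 8237 i)) (Bool.rec (motive := fun _ => List ℕ) (rw8238) (rw8239) (Nat.ble 8239 i)) (Nat.ble 8238 i)) (Nat.ble 8236 i)) (Nat.ble 8232 i)) (Bool.rec (motive := fun _ => List ℕ) (Bool.rec (motive := fun _ => List ℕ) (Bool.rec (motive := fun _ => List ℕ) (Bool.rec (motive := fun _ => List ℕ) (rw8240) (rw8241) (Nat.ble 8241 i)) (Bool.rec (motive := fun _ => List ℕ) (rw8242) (rw8243) (Nat.ble 8243 i)) (Nat.ble 8242 i)) (Bool.rec (motive := fun _ => List ℕ) (Bool.rec (motive := fun _ => List ℕ) (rw8244) (rw8245) (Nat.ble 8245 i)) (Bool.rec (motive := fun _ => List ℕ) (rw8246) (rw8247) (Nat.ble 8247 i)) (Nat.ble 8246 i)) (Nat.ble 8244 i)) (Bool.rec (motive := fun _ => List ℕ) (Bool.rec (motive := fun _ => List ℕ) (Bool.rec (motive := fun _ => List ℕ) (rw8248) (rw8249) (Nat.ble 8249 i)) (Bool.rec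 (motive := fun _ => List ℕ) (rw8250) (rw8251) (Nat.ble 8251 i)) (Nat.ble 8250 i)) (Bool.rec (motive := fun _ => List ℕ) (Bool.rec (motive := fun _ => List ℕ) (rw8252) (rw8253) (Nat.ble 8253 i)) (Bool.rec (motive := fun _ => List ℕ) (rw8254) (rw8255) (Nat.ble 8255 i)) (Nat.ble 8254 i)) (Nat.ble 8252 i)) (Nat.ble 8248 i)) (Nat.ble 8240 i)) (Nat.ble 8224 i)
noncomputable def rwb129 (i : ℕ) : List ℕ := Bool.rec (motive := fun _ => List ℕ) (Bool.rec (motive := fun _ => List ℕ) (Bool.rec (motive := fun _ => List ℕ) (Bool.rec (motive := fun _ => List ℕ) (Bool.rec (motive := fun _ => List ℕ) (Bool.rec (motive := fun _ => List ℕ) (rw8256) (rw8257) (Nat.ble 8257 i)) (Bool.rec (motive := fun _ => List ℕ) (rw8258) (rw8259) (Nat.ble 8259 i)) (Nat.ble 8258 i)) (Bool.rec (motive := fun _ => List ℕ) (Bool.rec (motive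 := fun _ => List ℕ) (rw8260) (rw8261) (Nat.ble 8261 i)) (Bool.rec (motive := fun _ => List ℕ) (rw8262) (rw8263) (Nat.ble 8263 i)) (Nat.ble 8262 i)) (Nat.ble 8260 i)) (Bool.rec (motive := fun _ => List ℕ) (Bool.rec (motive := fun _ => List ℕ) (Bool.rec (motive := fun _ => List ℕ) (rw8264) (rw8265) (Nat.ble 8265 i)) (Bool.rec (motive := fun _ => List ℕ) (rw8266) (rw8267) (Nat.ble 8267 i)) (Nat.ble 8266 i)) (Bool.rec (motive := fun _ => List ℕ) (Bool.rec (motive := fun _ => List ℕ) (rw8268) (rw8269) (Nat.ble 8269 i)) (Bool.rec (motive := fun _ => List ℕ) (rw8270) (rw8271) (Nat.ble 8271 i)) (Nat.ble 8270 i)) (Nat.ble 8268 i)) (Nat.ble 8264 i)) (Bool.rec (motive := fun _ => List ℕ) (Bool.rec (motive := fun _ => List ℕ) (Bool.rec (motive := fun _ => List ℕ) (Bool.rec (motive := fun _ => List ℕ) (rw8272) (rw8273)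 (Nat.ble 8273 i)) (Bool.rec (motive := fun _ => List ℕ) (rw8274) (rw8275) (Nat.ble 8275 i)) (Nat.ble 8274 i)) (Bool.rec (motive := fun _ => List ℕ) (Bool.rec (motive := fun _ => List ℕ) (rw8276) (rw8277) (Nat.ble 8277 i)) (Bool.rec (motive := fun _ => List ℕ) (rw8278) (rw8279) (Nat.ble 8279 i)) (Nat.ble 8278 i)) (Nat.ble 8276 i)) (Bool.rec (motive := fun _ => List ℕ) (Bool.rec (motive := fun _ => List ℕ) (Bool.rec (motive := fun _ => List ℕ) (rw8280) (rw8281) (Nat.ble 8281 i)) (Bool.rec (motive := fun _ => List ℕ) (rw8282) (rw8283) (Nat.ble 8283 i)) (Nat.ble 8282 i)) (Bool.rec (motive := fun _ => List ℕ) (Bool.rec (motive := fun _ => List ℕ) (rw8284) (rw8285) (Nat.ble 8285 i)) (Bool.rec (motive := fun _ => List ℕ) (rw8286) (rw8287) (Nat.ble 8287 i)) (Nat.ble 8286 i)) (Nat.ble 8284 i)) (Nat.ble 8280 i))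 (Nat.ble 8272 i)) (Bool.rec (motive := fun _ => List ℕ) (Bool.rec (motive := fun _ => List ℕ) (Bool.rec (motive := fun _ => List ℕ) (Bool.rec (motive := fun _ => List ℕ) (Bool.rec (motive := fun _ => List ℕ) (rw8288) (rw8289) (Nat.ble 8289 i)) (Bool.rec (motive := fun _ => List ℕ) (rw8290) (rw8291) (Nat.ble 8291 i)) (Nat.ble 8290 i)) (Bool.rec (motive := fun _ => List ℕ) (Bool.rec (motive := fun _ => List ℕ) (rw8292) (rw8293) (Nat.ble 8293 i)) (Bool.rec (motive := fun _ => List ℕ) (rw8294) (rw8295) (Nat.ble 8295 i)) (Nat.ble 8294 i)) (Nat.ble 8292 i)) (Bool.rec (motive := fun _ => List ℕ) (Bool.rec (motive := fun _ => List ℕ) (Bool.rec (motive := fun _ => List ℕ) (rw8296) (rw8297) (Nat.ble 8297 i)) (Bool.rec (motive := fun _ => List ℕ) (rw8298) (rw8299) (Nat.ble 8299 i)) (Nat.ble 8298 i)) (Bool.rec (motive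 := fun _ => List ℕ) (Bool.rec (motive := fun _ => List ℕ) (rw8300) (rw8301) (Nat.ble 8301 i)) (Bool.rec (motive := fun _ => List ℕ) (rw8302) (rw8303) (Nat.ble 8303 i)) (Nat.ble 8302 i)) (Nat.ble 8300 i)) (Nat.ble 8296 i)) (Bool.rec (motive := fun _ => List ℕ) (Bool.rec (motive := fun _ => List ℕ) (Bool.rec (motive := fun _ => List ℕ) (Bool.rec (motive := fun _ => List ℕ) (rw8304) (rw8305) (Nat.ble 8305 i)) (Bool.rec (motive := fun _ => List ℕ) (rw8306) (rw8307) (Nat.ble 8307 i)) (Nat.ble 8306 i)) (Bool.rec (motive := fun _ => List ℕ) (Bool.rec (motive := fun _ => List ℕ) (rw8308) (rw8309) (Nat.ble 8309 i)) (Bool.rec (motive := fun _ => List ℕ) (rw8310) (rw8311) (Nat.ble 8311 i)) (Nat.ble 8310 i)) (Nat.ble 8308 i)) (Bool.rec (motive := fun _ => List ℕ) (Bool.rec (motive := fun _ => List ℕ) (Bool.rec (motive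 := fun _ => List ℕ) (rw8312) (rw8313) (Nat.ble 8313 i)) (Bool.rec (motive := fun _ => List ℕ) (rw8314) (rw8315) (Nat.ble 8315 i)) (Nat.ble 8314 i)) (Bool.rec (motive := fun _ => List ℕ) (Bool.rec (motive := fun _ => List ℕ) (rw8316) (rw8317) (Nat.ble 8317 i)) (Bool.rec (motive := fun _ => List ℕ) (rw8318) (rw8319) (Nat.ble 8319 i)) (Nat.ble 8318 i)) (Nat.ble 8316 i)) (Nat.ble 8312 i)) (Nat.ble 8304 i)) (Nat.ble 8288 i)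
noncomputable def rwb130 (i : ℕ) : List ℕ := Bool.rec (motive := fun _ => List ℕ) (Bool.rec (motive := fun _ => List ℕ) (Bool.rec (motive := fun _ => List ℕ) (Bool.rec (motive := fun _ => List ℕ) (Bool.rec (motive := fun _ => List ℕ) (Bool.rec (motive := fun _ => List ℕ) (rw8320) (rw8321) (Nat.ble 8321 i)) (Bool.rec (motive := fun _ => List ℕ) (rw8322) (rw8323) (Nat.ble 8323 i)) (Nat.ble 8322 i)) (Bool.rec (motive := fun _ => List ℕ) (Bool.rec (motive := fun _ => List ℕ) (rw8324) (rw8325) (Nat.ble 8325 i)) (Bool.rec (motive := fun _ => List ℕ) (rw8326) (rw8327) (Nat.ble 8327 i)) (Nat.ble 8326 i)) (Nat.ble 8324 i)) (Bool.rec (motive := fun _ => List ℕ) (Bool.rec (motive := fun _ => List ℕ) (Bool.rec (motive := fun _ => List ℕ) (rw8328) (rw8329) (Nat.ble 8329 i)) (Bool.rec (motive := fun _ => List ℕ) (rw8330)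 (rw8331) (Nat.ble 8331 i)) (Nat.ble 8330 i)) (Bool.rec (motive := fun _ => List ℕ) (Bool.rec (motive := fun _ => List ℕ) (rw8332) (rw8333) (Nat.ble 8333 i)) (Bool.rec (motive := fun _ => List ℕ) (rw8334) (rw8335) (Nat.ble 8335 i)) (Nat.ble 8334 i)) (Nat.ble 8332 i)) (Nat.ble 8328 i)) (Bool.rec (motive := fun _ => List ℕ) (Bool.rec (motive := fun _ => List ℕ) (Bool.rec (motive := fun _ => List ℕ) (Bool.rec (motive := fun _ => List ℕ) (rw8336) (rw8337) (Nat.ble 8337 i)) (Bool.rec (motive := fun _ => List ℕ) (rw8338) (rw8339) (Nat.ble 8339 i)) (Nat.ble 8338 i)) (Bool.rec (motive := fun _ => List ℕ) (Bool.rec (motive := fun _ => List ℕ) (rw8340) (rw8341) (Nat.ble 8341 i)) (Bool.rec (motive := fun _ => List ℕ) (rw8342) (rw8343) (Nat.ble 8343 i)) (Nat.ble 8342 i)) (Nat.ble 8340 i)) (Bool.rec (motive := fun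 _ => List ℕ) (Bool.rec (motive := fun _ => List ℕ) (Bool.rec (motive := fun _ => List ℕ) (rw8344) (rw8345) (Nat.ble 8345 i)) (Bool.rec (motive := fun _ => List ℕ) (rw8346) (rw8347) (Nat.ble 8347 i)) (Nat.ble 8346 i)) (Bool.rec (motive := fun _ => List ℕ) (Bool.rec (motive := fun _ => List ℕ) (rw8348) (rw8349) (Nat.ble 8349 i)) (Bool.rec (motive := fun _ => List ℕ) (rw8350) (rw8351) (Nat.ble 8351 i)) (Nat.ble 8350 i)) (Nat.ble 8348 i)) (Nat.ble 8344 i)) (Nat.ble 8336 i)) (Bool.rec (motive := fun _ => List ℕ) (Bool.rec (motive := fun _ => List ℕ) (Bool.rec (motive := fun _ => List ℕ) (Bool.rec (motive := fun _ => List ℕ) (Bool.rec (motive := fun _ => List ℕ) (rw8352) (rw8353) (Nat.ble 8353 i)) (Bool.rec (motive := fun _ => List ℕ) (rw8354) (rw8355) (Nat.ble 8355 i)) (Nat.ble 8354 i)) (Bool.rec (motive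 := fun _ => List ℕ) (Bool.rec (motive := fun _ => List ℕ) (rw8356) (rw8357) (Nat.ble 8357 i)) (Bool.rec (motive := fun _ => List ℕ) (rw8358) (rw8359) (Nat.ble 8359 i)) (Nat.ble 8358 i)) (Nat.ble 8356 i)) (Bool.rec (motive := fun _ => List ℕ) (Bool.rec (motive := fun _ => List ℕ) (Bool.rec (motive := fun _ => List ℕ) (rw8360) (rw8361) (Nat.ble 8361 i)) (Bool.rec (motive := fun _ => List ℕ) (rw8362) (rw8363) (Nat.ble 8363 i)) (Nat.ble 8362 i)) (Bool.rec (motive := fun _ => List ℕ) (Bool.rec (motive := fun _ => List ℕ) (rw8364) (rw8365) (Nat.ble 8365 i)) (Bool.rec (motive := fun _ => List ℕ) (rw8366) (rw8367) (Nat.ble 8367 i)) (Nat.ble 8366 i)) (Nat.ble 8364 i)) (Nat.ble 8360 i)) (Bool.rec (motive := fun _ => List ℕ) (Bool.rec (motive := fun _ => List ℕ) (Bool.rec (motive := fun _ => List ℕ) (Bool.rec (motive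 := fun _ => List ℕ) (rw8368) (rw8369) (Nat.ble 8369 i)) (Bool.rec (motive := fun _ => List ℕ) (rw8370) (rw8371) (Nat.ble 8371 i)) (Nat.ble 8370 i)) (Bool.rec (motive := fun _ => List ℕ) (Bool.rec (motive := fun _ => List ℕ) (rw8372) (rw8373) (Nat.ble 8373 i)) (Bool.rec (motive := fun _ => List ℕ) (rw8374) (rw8375) (Nat.ble 8375 i)) (Nat.ble 8374 i)) (Nat.ble 8372 i)) (Bool.rec (motive := fun _ => List ℕ) (Bool.rec (motive := fun _ => List ℕ) (Bool.rec (motive := fun _ => List ℕ) (rw8376) (rw8377) (Nat.ble 8377 i)) (Bool.rec (motive := fun _ => List ℕ) (rw8378) (rw8379) (Nat.ble 8379 i)) (Nat.ble 8378 i)) (Bool.rec (motive := fun _ => List ℕ) (Bool.rec (motive := fun _ => List ℕ) (rw8380) (rw8381) (Nat.ble 8381 i)) (Bool.rec (motive := fun _ => List ℕ) (rw8382) (rw8383) (Nat.ble 8383 i)) (Nat.ble 8382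 i)) (Nat.ble 8380 i)) (Nat.ble 8376 i)) (Nat.ble 8368 i)) (Nat.ble 8352 i)
noncomputable def rwb131 (i : ℕ) : List ℕ := Bool.rec (motive := fun _ => List ℕ) (Bool.rec (motive := fun _ => List ℕ) (Bool.rec (motive := fun _ => List ℕ) (Bool.rec (motive := fun _ => List ℕ) (Bool.rec (motive := fun _ => List ℕ) (Bool.rec (motive := fun _ => List ℕ) (rw8384) (rw8385) (Nat.ble 8385 i)) (Bool.rec (motive := fun _ => List ℕ) (rw8386) (rw8387) (Nat.ble 8387 i)) (Nat.ble 8386 i)) (Bool.rec (motive := fun _ => List ℕ) (Bool.rec (motive := fun _ => List ℕ) (rw8388) (rw8389) (Nat.ble 8389 i)) (Bool.rec (motive := fun _ => List ℕ) (rw8390) (rw8391) (Nat.ble 8391 i)) (Nat.ble 8390 i)) (Nat.ble 8388 i)) (Bool.rec (motive := fun _ => List ℕ) (Bool.rec (motive := fun _ => List ℕ) (Bool.rec (motive := fun _ => List ℕ)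 (rw8392) (rw8393) (Nat.ble 8393 i)) (Bool.rec (motive := fun _ => List ℕ) (rw8394) (rw8395) (Nat.ble 8395 i)) (Nat.ble 8394 i)) (Bool.rec (motive := fun _ => List ℕ) (Bool.rec (motive := fun _ => List ℕ) (rw8396) (rw8397) (Nat.ble 8397 i)) (Bool.rec (motive := fun _ => List ℕ) (rw8398) (rw8399) (Nat.ble 8399 i)) (Nat.ble 8398 i)) (Nat.ble 8396 i)) (Nat.ble 8392 i)) (Bool.rec (motive := fun _ => List ℕ) (Bool.rec (motive := fun _ => List ℕ) (Bool.rec (motive := fun _ => List ℕ) (Bool.rec (motive := fun _ => List ℕ) (rw8400) (rw8401) (Nat.ble 8401 i)) (Bool.rec (motive := fun _ => List ℕ) (rw8402) (rw8403) (Nat.ble 8403 i)) (Nat.ble 8402 i)) (Bool.rec (motive := fun _ => List ℕ) (Bool.rec (motive := fun _ => List ℕ) (rw8404) (rw8405) (Nat.ble 8405 i)) (Bool.rec (motive := fun _ => List ℕ) (rw8406) (rw8407)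 (Nat.ble 8407 i)) (Nat.ble 8406 i)) (Nat.ble 8404 i)) (Bool.rec (motive := fun _ => List ℕ) (Bool.rec (motive := fun _ => List ℕ) (Bool.rec (motive := fun _ => List ℕ) (rw8408) (rw8409) (Nat.ble 8409 i)) (Bool.rec (motive := fun _ => List ℕ) (rw8410) (rw8411) (Nat.ble 8411 i)) (Nat.ble 8410 i)) (Bool.rec (motive := fun _ => List ℕ) (Bool.rec (motive := fun _ => List ℕ) (rw8412) (rw8413) (Nat.ble 8413 i)) (Bool.rec (motive := fun _ => List ℕ) (rw8414) (rw8415) (Nat.ble 8415 i)) (Nat.ble 8414 i)) (Nat.ble 8412 i)) (Nat.ble 8408 i)) (Nat.ble 8400 i)) (Bool.rec (motive := fun _ => List ℕ) (Bool.rec (motive := fun _ => List ℕ) (Bool.rec (motive := fun _ => List ℕ) (Bool.rec (motive := fun _ => List ℕ) (Bool.rec (motive := fun _ => List ℕ) (rw8416) (rw8417) (Nat.ble 8417 i)) (Bool.rec (motive := fun _ => List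 ℕ) (rw8418) (rw8419) (Nat.ble 8419 i)) (Nat.ble 8418 i)) (Bool.rec (motive := fun _ => List ℕ) (Bool.rec (motive := fun _ => List ℕ) (rw8420) (rw8421) (Nat.ble 8421 i)) (Bool.rec (motive := fun _ => List ℕ) (rw8422) (rw8423) (Nat.ble 8423 i)) (Nat.ble 8422 i)) (Nat.ble 8420 i)) (Bool.rec (motive := fun _ => List ℕ) (Bool.rec (motive := fun _ => List ℕ) (Bool.rec (motive := fun _ => List ℕ) (rw8424) (rw8425) (Nat.ble 8425 i)) (Bool.rec (motive := fun _ => List ℕ) (rw8426) (rw8427) (Nat.ble 8427 i)) (Nat.ble 8426 i)) (Bool.rec (motive := fun _ => List ℕ) (Bool.rec (motive := fun _ => List ℕ) (rw8428) (rw8429) (Nat.ble 8429 i)) (Bool.rec (motive := fun _ => List ℕ) (rw8430) (rw8431) (Nat.ble 8431 i)) (Nat.ble 8430 i)) (Nat.ble 8428 i)) (Nat.ble 8424 i)) (Bool.rec (motive := fun _ => List ℕ) (Bool.rec (motive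 := fun _ => List ℕ) (Bool.rec (motive := fun _ => List ℕ) (Bool.rec (motive := fun _ => List ℕ) (rw8432) (rw8433) (Nat.ble 8433 i)) (Bool.rec (motive := fun _ => List ℕ) (rw8434) (rw8435) (Nat.ble 8435 i)) (Nat.ble 8434 i)) (Bool.rec (motive := fun _ => List ℕ) (Bool.rec (motive := fun _ => List ℕ) (rw8436) (rw8437) (Nat.ble 8437 i)) (Bool.rec (motive := fun _ => List ℕ) (rw8438) (rw8439) (Nat.ble 8439 i)) (Nat.ble 8438 i)) (Nat.ble 8436 i)) (Bool.rec (motive := fun _ => List ℕ) (Bool.rec (motive := fun _ => List ℕ) (Bool.rec (motive := fun _ => List ℕ) (rw8440) (rw8441) (Nat.ble 8441 i)) (Bool.rec (motive := fun _ => List ℕ) (rw8442) (rw8443) (Nat.ble 8443 i)) (Nat.ble 8442 i)) (Bool.rec (motive := fun _ => List ℕ) (Bool.rec (motive := fun _ => List ℕ) (rw8444) (rw8445) (Nat.ble 8445 i)) (Bool.rec (motive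 := fun _ => List ℕ) (rw8446) (rw8447) (Nat.ble 8447 i)) (Nat.ble 8446 i)) (Nat.ble 8444 i)) (Nat.ble 8440 i)) (Nat.ble 8432 i)) (Nat.ble 8416 i)
noncomputable def rwb132 (i : ℕ) : List ℕ := Bool.rec (motive := fun _ => List ℕ) (Bool.rec (motive := fun _ => List ℕ) (Bool.rec (motive := fun _ => List ℕ) (Bool.rec (motive := fun _ => List ℕ) (Bool.rec (motive := fun _ => List ℕ) (Bool.rec (motive := fun _ => List ℕ) (rw8448) (rw8449) (Nat.ble 8449 i)) (Bool.rec (motive := fun _ => List ℕ) (rw8450) (rw8451) (Nat.ble 8451 i)) (Nat.ble 8450 i)) (Bool.rec (motive := fun _ => List ℕ) (Bool.rec (motive := fun _ => List ℕ) (rw8452) (rw8453) (Nat.ble 8453 i)) (Bool.rec (motive := fun _ => List ℕ) (rw8454) (rw8455) (Nat.ble 8455 i)) (Nat.ble 8454 i)) (Nat.ble 8452 i)) (Bool.rec (motive := fun _ => List ℕ) (Bool.rec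 (motive := fun _ => List ℕ) (Bool.rec (motive := fun _ => List ℕ) (rw8456) (rw8457) (Nat.ble 8457 i)) (Bool.rec (motive := fun _ => List ℕ) (rw8458) (rw8459) (Nat.ble 8459 i)) (Nat.ble 8458 i)) (Bool.rec (motive := fun _ => List ℕ) (Bool.rec (motive := fun _ => List ℕ) (rw8460) (rw8461) (Nat.ble 8461 i)) (Bool.rec (motive := fun _ => List ℕ) (rw8462) (rw8463) (Nat.ble 8463 i)) (Nat.ble 8462 i)) (Nat.ble 8460 i)) (Nat.ble 8456 i)) (Bool.rec (motive := fun _ => List ℕ) (Bool.rec (motive := fun _ => List ℕ) (Bool.rec (motive := fun _ => List ℕ) (Bool.rec (motive := fun _ => List ℕ) (rw8464) (rw8465) (Nat.ble 8465 i)) (Bool.rec (motive := fun _ => List ℕ) (rw8466) (rw8467) (Nat.ble 8467 i)) (Nat.ble 8466 i)) (Bool.rec (motive := fun _ => List ℕ) (Bool.rec (motive := fun _ => List ℕ) (rw8468) (rw8469) (Nat.ble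 8469 i)) (Bool.rec (motive := fun _ => List ℕ) (rw8470) (rw8471) (Nat.ble 8471 i)) (Nat.ble 8470 i)) (Nat.ble 8468 i)) (Bool.rec (motive := fun _ => List ℕ) (Bool.rec (motive := fun _ => List ℕ) (Bool.rec (motive := fun _ => List ℕ) (rw8472) (rw8473) (Nat.ble 8473 i)) (Bool.rec (motive := fun _ => List ℕ) (rw8474) (rw8475) (Nat.ble 8475 i)) (Nat.ble 8474 i)) (Bool.rec (motive := fun _ => List ℕ) (Bool.rec (motive := fun _ => List ℕ) (rw8476) (rw8477) (Nat.ble 8477 i)) (Bool.rec (motive := fun _ => List ℕ) (rw8478) (rw8479) (Nat.ble 8479 i)) (Nat.ble 8478 i)) (Nat.ble 8476 i)) (Nat.ble 8472 i)) (Nat.ble 8464 i)) (Bool.rec (motive := fun _ => List ℕ) (Bool.rec (motive := fun _ => List ℕ) (Bool.rec (motive := fun _ => List ℕ) (Bool.rec (motive := fun _ => List ℕ) (Bool.rec (motive := fun _ => List ℕ) (rw8480)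 (rw8481) (Nat.ble 8481 i)) (Bool.rec (motive := fun _ => List ℕ) (rw8482) (rw8483) (Nat.ble 8483 i)) (Nat.ble 8482 i)) (Bool.rec (motive := fun _ => List ℕ) (Bool.rec (motive := fun _ => List ℕ) (rw8484) (rw8485) (Nat.ble 8485 i)) (Bool.rec (motive := fun _ => List ℕ) (rw8486) (rw8487) (Nat.ble 8487 i)) (Nat.ble 8486 i)) (Nat.ble 8484 i)) (Bool.rec (motive := fun _ => List ℕ) (Bool.rec (motive := fun _ => List ℕ) (Bool.rec (motive := fun _ => List ℕ) (rw8488) (rw8489) (Nat.ble 8489 i)) (Bool.rec (motive := fun _ => List ℕ) (rw8490) (rw8491) (Nat.ble 8491 i)) (Nat.ble 8490 i)) (Bool.rec (motive := fun _ => List ℕ) (Bool.rec (motive := fun _ => List ℕ) (rw8492) (rw8493) (Nat.ble 8493 i)) (Bool.rec (motive := fun _ => List ℕ) (rw8494) (rw8495) (Nat.ble 8495 i)) (Nat.ble 8494 i)) (Nat.ble 8492 i)) (Nat.ble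 8488 i)) (Bool.rec (motive := fun _ => List ℕ) (Bool.rec (motive := fun _ => List ℕ) (Bool.rec (motive := fun _ => List ℕ) (Bool.rec (motive := fun _ => List ℕ) (rw8496) (rw8497) (Nat.ble 8497 i)) (Bool.rec (motive := fun _ => List ℕ) (rw8498) (rw8499) (Nat.ble 8499 i)) (Nat.ble 8498 i)) (Bool.rec (motive := fun _ => List ℕ) (Bool.rec (motive := fun _ => List ℕ) (rw8500) (rw8501) (Nat.ble 8501 i)) (Bool.rec (motive := fun _ => List ℕ) (rw8502) (rw8503) (Nat.ble 8503 i)) (Nat.ble 8502 i)) (Nat.ble 8500 i)) (Bool.rec (motive := fun _ => List ℕ) (Bool.rec (motive := fun _ => List ℕ) (Bool.rec (motive := fun _ => List ℕ) (rw8504) (rw8505) (Nat.ble 8505 i)) (Bool.rec (motive := fun _ => List ℕ) (rw8506) (rw8507) (Nat.ble 8507 i)) (Nat.ble 8506 i)) (Bool.rec (motive := fun _ => List ℕ) (Bool.rec (motive :=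 fun _ => List ℕ) (rw8508) (rw8509) (Nat.ble 8509 i)) (Bool.rec (motive := fun _ => List ℕ) (rw8510) (rw8511) (Nat.ble 8511 i)) (Nat.ble 8510 i)) (Nat.ble 8508 i)) (Nat.ble 8504 i)) (Nat.ble 8496 i)) (Nat.ble 8480 i)
noncomputable def rwb133 (i : ℕ) : List ℕ := Bool.rec (motive := fun _ => List ℕ) (Bool.rec (motive := fun _ => List ℕ) (Bool.rec (motive := fun _ => List ℕ) (Bool.rec (motive := fun _ => List ℕ) (Bool.rec (motive := fun _ => List ℕ) (Bool.rec (motive := fun _ => List ℕ) (rw8512) (rw8513) (Nat.ble 8513 i)) (Bool.rec (motive := fun _ => List ℕ) (rw8514) (rw8515) (Nat.ble 8515 i)) (Nat.ble 8514 i)) (Bool.rec (motive := fun _ => List ℕ) (Bool.rec (motive := fun _ => List ℕ) (rw8516) (rw8517) (Nat.ble 8517 i)) (Bool.rec (motive := fun _ => List ℕ) (rw8518) (rw8519) (Nat.ble 8519 i)) (Nat.ble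 8518 i)) (Nat.ble 8516 i)) (Bool.rec (motive := fun _ => List ℕ) (Bool.rec (motive := fun _ => List ℕ) (Bool.rec (motive := fun _ => List ℕ) (rw8520) (rw8521) (Nat.ble 8521 i)) (Bool.rec (motive := fun _ => List ℕ) (rw8522) (rw8523) (Nat.ble 8523 i)) (Nat.ble 8522 i)) (Bool.rec (motive := fun _ => List ℕ) (Bool.rec (motive := fun _ => List ℕ) (rw8524) (rw8525) (Nat.ble 8525 i)) (Bool.rec (motive := fun _ => List ℕ) (rw8526) (rw8527) (Nat.ble 8527 i)) (Nat.ble 8526 i)) (Nat.ble 8524 i)) (Nat.ble 8520 i)) (Bool.rec (motive := fun _ => List ℕ) (Bool.rec (motive := fun _ => List ℕ) (Bool.rec (motive := fun _ => List ℕ) (Bool.rec (motive := fun _ => List ℕ) (rw8528) (rw8529) (Nat.ble 8529 i)) (Bool.rec (motive := fun _ => List ℕ) (rw8530) (rw8531) (Nat.ble 8531 i)) (Nat.ble 8530 i)) (Bool.rec (motive := fun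 _ => List ℕ) (Bool.rec (motive := fun _ => List ℕ) (rw8532) (rw8533) (Nat.ble 8533 i)) (Bool.rec (motive := fun _ => List ℕ) (rw8534) (rw8535) (Nat.ble 8535 i)) (Nat.ble 8534 i)) (Nat.ble 8532 i)) (Bool.rec (motive := fun _ => List ℕ) (Bool.rec (motive := fun _ => List ℕ) (Bool.rec (motive := fun _ => List ℕ) (rw8536) (rw8537) (Nat.ble 8537 i)) (Bool.rec (motive := fun _ => List ℕ) (rw8538) (rw8539) (Nat.ble 8539 i)) (Nat.ble 8538 i)) (Bool.rec (motive := fun _ => List ℕ) (Bool.rec (motive := fun _ => List ℕ) (rw8540) (rw8541) (Nat.ble 8541 i)) (Bool.rec (motive := fun _ => List ℕ) (rw8542) (rw8543) (Nat.ble 8543 i)) (Nat.ble 8542 i)) (Nat.ble 8540 i)) (Nat.ble 8536 i)) (Nat.ble 8528 i)) (Bool.rec (motive := fun _ => List ℕ) (Bool.rec (motive := fun _ => List ℕ) (Bool.rec (motive := fun _ => List ℕ)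 (Bool.rec (motive := fun _ => List ℕ) (Bool.rec (motive := fun _ => List ℕ) (rw8544) (rw8545) (Nat.ble 8545 i)) (Bool.rec (motive := fun _ => List ℕ) (rw8546) (rw8547) (Nat.ble 8547 i)) (Nat.ble 8546 i)) (Bool.rec (motive := fun _ => List ℕ) (Bool.rec (motive := fun _ => List ℕ) (rw8548) (rw8549) (Nat.ble 8549 i)) (Bool.rec (motive := fun _ => List ℕ) (rw8550) (rw8551) (Nat.ble 8551 i)) (Nat.ble 8550 i)) (Nat.ble 8548 i)) (Bool.rec (motive := fun _ => List ℕ) (Bool.rec (motive := fun _ => List ℕ) (Bool.rec (motive := fun _ => List ℕ) (rw8552) (rw8553) (Nat.ble 8553 i)) (Bool.rec (motive := fun _ => List ℕ) (rw8554) (rw8555) (Nat.ble 8555 i)) (Nat.ble 8554 i)) (Bool.rec (motive := fun _ => List ℕ) (Bool.rec (motive := fun _ => List ℕ) (rw8556) (rw8557) (Nat.ble 8557 i)) (Bool.rec (motive := fun _ => List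 ℕ) (rw8558) (rw8559) (Nat.ble 8559 i)) (Nat.ble 8558 i)) (Nat.ble 8556 i)) (Nat.ble 8552 i)) (Bool.rec (motive := fun _ => List ℕ) (Bool.rec (motive := fun _ => List ℕ) (Bool.rec (motive := fun _ => List ℕ) (Bool.rec (motive := fun _ => List ℕ) (rw8560) (rw8561) (Nat.ble 8561 i)) (Bool.rec (motive := fun _ => List ℕ) (rw8562) (rw8563) (Nat.ble 8563 i)) (Nat.ble 8562 i)) (Bool.rec (motive := fun _ => List ℕ) (Bool.rec (motive := fun _ => List ℕ) (rw8564) (rw8565) (Nat.ble 8565 i)) (Bool.rec (motive := fun _ => List ℕ) (rw8566) (rw8567) (Nat.ble 8567 i)) (Nat.ble 8566 i)) (Nat.ble 8564 i)) (Bool.rec (motive := fun _ => List ℕ) (Bool.rec (motive := fun _ => List ℕ) (Bool.rec (motive := fun _ => List ℕ) (rw8568) (rw8569) (Nat.ble 8569 i)) (Bool.rec (motive := fun _ => List ℕ) (rw8570) (rw8571) (Nat.ble 8571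 i)) (Nat.ble 8570 i)) (Bool.rec (motive := fun _ => List ℕ) (Bool.rec (motive := fun _ => List ℕ) (rw8572) (rw8573) (Nat.ble 8573 i)) (Bool.rec (motive := fun _ => List ℕ) (rw8574) (rw8575) (Nat.ble 8575 i)) (Nat.ble 8574 i)) (Nat.ble 8572 i)) (Nat.ble 8568 i)) (Nat.ble 8560 i)) (Nat.ble 8544 i)
noncomputable def rwb134 (i : ℕ) : List ℕ := Bool.rec (motive := fun _ => List ℕ) (Bool.rec (motive := fun _ => List ℕ) (Bool.rec (motive := fun _ => List ℕ) (Bool.rec (motive := fun _ => List ℕ) (Bool.rec (motive := fun _ => List ℕ) (Bool.rec (motive := fun _ => List ℕ) (rw8576) (rw8577) (Nat.ble 8577 i)) (Bool.rec (motive := fun _ => List ℕ) (rw8578) (rw8579) (Nat.ble 8579 i)) (Nat.ble 8578 i)) (Bool.rec (motive := fun _ => List ℕ) (Bool.rec (motive := fun _ => List ℕ) (rw8580) (rw8581) (Nat.ble 8581 i)) (Bool.rec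 (motive := fun _ => List ℕ) (rw8582) (rw8583) (Nat.ble 8583 i)) (Nat.ble 8582 i)) (Nat.ble 8580 i)) (Bool.rec (motive := fun _ => List ℕ) (Bool.rec (motive := fun _ => List ℕ) (Bool.rec (motive := fun _ => List ℕ) (rw8584) (rw8585) (Nat.ble 8585 i)) (Bool.rec (motive := fun _ => List ℕ) (rw8586) (rw8587) (Nat.ble 8587 i)) (Nat.ble 8586 i)) (Bool.rec (motive := fun _ => List ℕ) (Bool.rec (motive := fun _ => List ℕ) (rw8588) (rw8589) (Nat.ble 8589 i)) (Bool.rec (motive := fun _ => List ℕ) (rw8590) (rw8591) (Nat.ble 8591 i)) (Nat.ble 8590 i)) (Nat.ble 8588 i)) (Nat.ble 8584 i)) (Bool.rec (motive := fun _ => List ℕ) (Bool.rec (motive := fun _ => List ℕ) (Bool.rec (motive := fun _ => List ℕ) (Bool.rec (motive := fun _ => List ℕ) (rw8592) (rw8593) (Nat.ble 8593 i)) (Bool.rec (motive := fun _ => List ℕ) (rw8594)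 (rw8595) (Nat.ble 8595 i)) (Nat.ble 8594 i)) (Bool.rec (motive := fun _ => List ℕ) (Bool.rec (motive := fun _ => List ℕ) (rw8596) (rw8597) (Nat.ble 8597 i)) (Bool.rec (motive := fun _ => List ℕ) (rw8598) (rw8599) (Nat.ble 8599 i)) (Nat.ble 8598 i)) (Nat.ble 8596 i)) (Bool.rec (motive := fun _ => List ℕ) (Bool.rec (motive := fun _ => List ℕ) (Bool.rec (motive := fun _ => List ℕ) (rw8600) (rw8601) (Nat.ble 8601 i)) (Bool.rec (motive := fun _ => List ℕ) (rw8602) (rw8603) (Nat.ble 8603 i)) (Nat.ble 8602 i)) (Bool.rec (motive := fun _ => List ℕ) (Bool.rec (motive := fun _ => List ℕ) (rw8604) (rw8605) (Nat.ble 8605 i)) (Bool.rec (motive := fun _ => List ℕ) (rw8606) (rw8607) (Nat.ble 8607 i)) (Nat.ble 8606 i)) (Nat.ble 8604 i)) (Nat.ble 8600 i)) (Nat.ble 8592 i)) (Bool.rec (motive := fun _ => List ℕ) (Bool.rec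 (motive := fun _ => List ℕ) (Bool.rec (motive := fun _ => List ℕ) (Bool.rec (motive := fun _ => List ℕ) (Bool.rec (motive := fun _ => List ℕ) (rw8608) (rw8609) (Nat.ble 8609 i)) (Bool.rec (motive := fun _ => List ℕ) (rw8610) (rw8611) (Nat.ble 8611 i)) (Nat.ble 8610 i)) (Bool.rec (motive := fun _ => List ℕ) (Bool.rec (motive := fun _ => List ℕ) (rw8612) (rw8613) (Nat.ble 8613 i)) (Bool.rec (motive := fun _ => List ℕ) (rw8614) (rw8615) (Nat.ble 8615 i)) (Nat.ble 8614 i)) (Nat.ble 8612 i)) (Bool.rec (motive := fun _ => List ℕ) (Bool.rec (motive := fun _ => List ℕ) (Bool.rec (motive := fun _ => List ℕ) (rw8616) (rw8617) (Nat.ble 8617 i)) (Bool.rec (motive := fun _ => List ℕ) (rw8618) (rw8619) (Nat.ble 8619 i)) (Nat.ble 8618 i)) (Bool.rec (motive := fun _ => List ℕ) (Bool.rec (motive := fun _ => List ℕ) (rw8620)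 (rw8621) (Nat.ble 8621 i)) (Bool.rec (motive := fun _ => List ℕ) (rw8622) (rw8623) (Nat.ble 8623 i)) (Nat.ble 8622 i)) (Nat.ble 8620 i)) (Nat.ble 8616 i)) (Bool.rec (motive := fun _ => List ℕ) (Bool.rec (motive := fun _ => List ℕ) (Bool.rec (motive := fun _ => List ℕ) (Bool.rec (motive := fun _ => List ℕ) (rw8624) (rw8625) (Nat.ble 8625 i)) (Bool.rec (motive := fun _ => List ℕ) (rw8626) (rw8627) (Nat.ble 8627 i)) (Nat.ble 8626 i)) (Bool.rec (motive := fun _ => List ℕ) (Bool.rec (motive := fun _ => List ℕ) (rw8628) (rw8629) (Nat.ble 8629 i)) (Bool.rec (motive := fun _ => List ℕ) (rw8630) (rw8631) (Nat.ble 8631 i)) (Nat.ble 8630 i)) (Nat.ble 8628 i)) (Bool.rec (motive := fun _ => List ℕ) (Bool.rec (motive := fun _ => List ℕ) (Bool.rec (motive := fun _ => List ℕ) (rw8632) (rw8633) (Nat.ble 8633 i)) (Bool.rec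 (motive := fun _ => List ℕ) (rw8634) (rw8635) (Nat.ble 8635 i)) (Nat.ble 8634 i)) (Bool.rec (motive := fun _ => List ℕ) (Bool.rec (motive := fun _ => List ℕ) (rw8636) (rw8637) (Nat.ble 8637 i)) (Bool.rec (motive := fun _ => List ℕ) (rw8638) (rw8639) (Nat.ble 8639 i)) (Nat.ble 8638 i)) (Nat.ble 8636 i)) (Nat.ble 8632 i)) (Nat.ble 8624 i)) (Nat.ble 8608 i)
noncomputable def rwb135 (i : ℕ) : List ℕ := Bool.rec (motive := fun _ => List ℕ) (Bool.rec (motive := fun _ => List ℕ) (Bool.rec (motive := fun _ => List ℕ) (Bool.rec (motive := fun _ => List ℕ) (Bool.rec (motive := fun _ => List ℕ) (Bool.rec (motive := fun _ => List ℕ) (rw8640) (rw8641) (Nat.ble 8641 i)) (Bool.rec (motive := fun _ => List ℕ) (rw8642) (rw8643) (Nat.ble 8643 i)) (Nat.ble 8642 i)) (Bool.rec (motive := fun _ => List ℕ) (Bool.rec (motive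 := fun _ => List ℕ) (rw8644) (rw8645) (Nat.ble 8645 i)) (Bool.rec (motive := fun _ => List ℕ) (rw8646) (rw8647) (Nat.ble 8647 i)) (Nat.ble 8646 i)) (Nat.ble 8644 i)) (Bool.rec (motive := fun _ => List ℕ) (Bool.rec (motive := fun _ => List ℕ) (Bool.rec (motive := fun _ => List ℕ) (rw8648) (rw8649) (Nat.ble 8649 i)) (Bool.rec (motive := fun _ => List ℕ) (rw8650) (rw8651) (Nat.ble 8651 i)) (Nat.ble 8650 i)) (Bool.rec (motive := fun _ => List ℕ) (Bool.rec (motive := fun _ => List ℕ) (rw8652) (rw8653) (Nat.ble 8653 i)) (Bool.rec (motive := fun _ => List ℕ) (rw8654) (rw8655) (Nat.ble 8655 i)) (Nat.ble 8654 i)) (Nat.ble 8652 i)) (Nat.ble 8648 i)) (Bool.rec (motive := fun _ => List ℕ) (Bool.rec (motive := fun _ => List ℕ) (Bool.rec (motive := fun _ => List ℕ) (Bool.rec (motive := fun _ => List ℕ) (rw8656) (rw8657)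 (Nat.ble 8657 i)) (Bool.rec (motive := fun _ => List ℕ) (rw8658) (rw8659) (Nat.ble 8659 i)) (Nat.ble 8658 i)) (Bool.rec (motive := fun _ => List ℕ) (Bool.rec (motive := fun _ => List ℕ) (rw8660) (rw8661) (Nat.ble 8661 i)) (Bool.rec (motive := fun _ => List ℕ) (rw8662) (rw8663) (Nat.ble 8663 i)) (Nat.ble 8662 i)) (Nat.ble 8660 i)) (Bool.rec (motive := fun _ => List ℕ) (Bool.rec (motive := fun _ => List ℕ) (Bool.rec (motive := fun _ => List ℕ) (rw8664) (rw8665) (Nat.ble 8665 i)) (Bool.rec (motive := fun _ => List ℕ) (rw8666) (rw8667) (Nat.ble 8667 i)) (Nat.ble 8666 i)) (Bool.rec (motive := fun _ => List ℕ) (Bool.rec (motive := fun _ => List ℕ) (rw8668) (rw8669) (Nat.ble 8669 i)) (Bool.rec (motive := fun _ => List ℕ) (rw8670) (rw8671) (Nat.ble 8671 i)) (Nat.ble 8670 i)) (Nat.ble 8668 i)) (Nat.ble 8664 i))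 (Nat.ble 8656 i)) (Bool.rec (motive := fun _ => List ℕ) (Bool.rec (motive := fun _ => List ℕ) (Bool.rec (motive := fun _ => List ℕ) (Bool.rec (motive := fun _ => List ℕ) (Bool.rec (motive := fun _ => List ℕ) (rw8672) (rw8673) (Nat.ble 8673 i)) (Bool.rec (motive := fun _ => List ℕ) (rw8674) (rw8675) (Nat.ble 8675 i)) (Nat.ble 8674 i)) (Bool.rec (motive := fun _ => List ℕ) (Bool.rec (motive := fun _ => List ℕ) (rw8676) (rw8677) (Nat.ble 8677 i)) (Bool.rec (motive := fun _ => List ℕ) (rw8678) (rw8679) (Nat.ble 8679 i)) (Nat.ble 8678 i)) (Nat.ble 8676 i)) (Bool.rec (motive := fun _ => List ℕ) (Bool.rec (motive := fun _ => List ℕ) (Bool.rec (motive := fun _ => List ℕ) (rw8680) (rw8681) (Nat.ble 8681 i)) (Bool.rec (motive := fun _ => List ℕ) (rw8682) (rw8683) (Nat.ble 8683 i)) (Nat.ble 8682 i)) (Bool.rec (motive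 := fun _ => List ℕ) (Bool.rec (motive := fun _ => List ℕ) (rw8684) (rw8685) (Nat.ble 8685 i)) (Bool.rec (motive := fun _ => List ℕ) (rw8686) (rw8687) (Nat.ble 8687 i)) (Nat.ble 8686 i)) (Nat.ble 8684 i)) (Nat.ble 8680 i)) (Bool.rec (motive := fun _ => List ℕ) (Bool.rec (motive := fun _ => List ℕ) (Bool.rec (motive := fun _ => List ℕ) (Bool.rec (motive := fun _ => List ℕ) (rw8688) (rw8689) (Nat.ble 8689 i)) (Bool.rec (motive := fun _ => List ℕ) (rw8690) (rw8691) (Nat.ble 8691 i)) (Nat.ble 8690 i)) (Bool.rec (motive := fun _ => List ℕ) (Bool.rec (motive := fun _ => List ℕ) (rw8692) (rw8693) (Nat.ble 8693 i)) (Bool.rec (motive := fun _ => List ℕ) (rw8694) (rw8695) (Nat.ble 8695 i)) (Nat.ble 8694 i)) (Nat.ble 8692 i)) (Bool.rec (motive := fun _ => List ℕ) (Bool.rec (motive := fun _ => List ℕ) (Bool.rec (motive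 := fun _ => List ℕ) (rw8696) (rw8697) (Nat.ble 8697 i)) (Bool.rec (motive := fun _ => List ℕ) (rw8698) (rw8699) (Nat.ble 8699 i)) (Nat.ble 8698 i)) (Bool.rec (motive := fun _ => List ℕ) (Bool.rec (motive := fun _ => List ℕ) (rw8700) (rw8701) (Nat.ble 8701 i)) (Bool.rec (motive := fun _ => List ℕ) (rw8702) (rw8703) (Nat.ble 8703 i)) (Nat.ble 8702 i)) (Nat.ble 8700 i)) (Nat.ble 8696 i)) (Nat.ble 8688 i)) (Nat.ble 8672 i)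
noncomputable def rwb136 (i : ℕ) : List ℕ := Bool.rec (motive := fun _ => List ℕ) (Bool.rec (motive := fun _ => List ℕ) (Bool.rec (motive := fun _ => List ℕ) (Bool.rec (motive := fun _ => List ℕ) (Bool.rec (motive := fun _ => List ℕ) (Bool.rec (motive := fun _ => List ℕ) (rw8704) (rw8705) (Nat.ble 8705 i)) (Bool.rec (motive := fun _ => List ℕ) (rw8706) (rw8707) (Nat.ble 8707 i)) (Nat.ble 8706 i)) (Bool.rec (motive := fun _ => List ℕ) (Bool.rec (motive := fun _ => List ℕ) (rw8708) (rw8709) (Nat.ble 8709 i)) (Bool.rec (motive := fun _ => List ℕ) (rw8710) (rw8711) (Nat.ble 8711 i)) (Nat.ble 8710 i)) (Nat.ble 8708 i)) (Bool.rec (motive := fun _ => List ℕ) (Bool.rec (motive := fun _ => List ℕ) (Bool.rec (motive := fun _ => List ℕ) (rw8712) (rw8713) (Nat.ble 8713 i)) (Bool.rec (motive := fun _ => List ℕ) (rw8714)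 (rw8715) (Nat.ble 8715 i)) (Nat.ble 8714 i)) (Bool.rec (motive := fun _ => List ℕ) (Bool.rec (motive := fun _ => List ℕ) (rw8716) (rw8717) (Nat.ble 8717 i)) (Bool.rec (motive := fun _ => List ℕ) (rw8718) (rw8719) (Nat.ble 8719 i)) (Nat.ble 8718 i)) (Nat.ble 8716 i)) (Nat.ble 8712 i)) (Bool.rec (motive := fun _ => List ℕ) (Bool.rec (motive := fun _ => List ℕ) (Bool.rec (motive := fun _ => List ℕ) (Bool.rec (motive := fun _ => List ℕ) (rw8720) (rw8721) (Nat.ble 8721 i)) (Bool.rec (motive := fun _ => List ℕ) (rw8722) (rw8723) (Nat.ble 8723 i)) (Nat.ble 8722 i)) (Bool.rec (motive := fun _ => List ℕ) (Bool.rec (motive := fun _ => List ℕ) (rw8724) (rw8725) (Nat.ble 8725 i)) (Bool.rec (motive := fun _ => List ℕ) (rw8726) (rw8727) (Nat.ble 8727 i)) (Nat.ble 8726 i)) (Nat.ble 8724 i)) (Bool.rec (motive := fun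 _ => List ℕ) (Bool.rec (motive := fun _ => List ℕ) (Bool.rec (motive := fun _ => List ℕ) (rw8728) (rw8729) (Nat.ble 8729 i)) (Bool.rec (motive := fun _ => List ℕ) (rw8730) (rw8731) (Nat.ble 8731 i)) (Nat.ble 8730 i)) (Bool.rec (motive := fun _ => List ℕ) (Bool.rec (motive := fun _ => List ℕ) (rw8732) (rw8733) (Nat.ble 8733 i)) (Bool.rec (motive := fun _ => List ℕ) (rw8734) (rw8735) (Nat.ble 8735 i)) (Nat.ble 8734 i)) (Nat.ble 8732 i)) (Nat.ble 8728 i)) (Nat.ble 8720 i)) (Bool.rec (motive := fun _ => List ℕ) (Bool.rec (motive := fun _ => List ℕ) (Bool.rec (motive := fun _ => List ℕ) (Bool.rec (motive := fun _ => List ℕ) (Bool.rec (motive := fun _ => List ℕ) (rw8736) (rw8737) (Nat.ble 8737 i)) (Bool.rec (motive := fun _ => List ℕ) (rw8738) (rw8739) (Nat.ble 8739 i)) (Nat.ble 8738 i)) (Bool.rec (motive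 := fun _ => List ℕ) (Bool.rec (motive := fun _ => List ℕ) (rw8740) (rw8741) (Nat.ble 8741 i)) (Bool.rec (motive := fun _ => List ℕ) (rw8742) (rw8743) (Nat.ble 8743 i)) (Nat.ble 8742 i)) (Nat.ble 8740 i)) (Bool.rec (motive := fun _ => List ℕ) (Bool.rec (motive := fun _ => List ℕ) (Bool.rec (motive := fun _ => List ℕ) (rw8744) (rw8745) (Nat.ble 8745 i)) (Bool.rec (motive := fun _ => List ℕ) (rw8746) (rw8747) (Nat.ble 8747 i)) (Nat.ble 8746 i)) (Bool.rec (motive := fun _ => List ℕ) (Bool.rec (motive := fun _ => List ℕ) (rw8748) (rw8749) (Nat.ble 8749 i)) (Bool.rec (motive := fun _ => List ℕ) (rw8750) (rw8751) (Nat.ble 8751 i)) (Nat.ble 8750 i)) (Nat.ble 8748 i)) (Nat.ble 8744 i)) (Bool.rec (motive := fun _ => List ℕ) (Bool.rec (motive := fun _ => List ℕ) (Bool.rec (motive := fun _ => List ℕ) (Bool.rec (motive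 := fun _ => List ℕ) (rw8752) (rw8753) (Nat.ble 8753 i)) (Bool.rec (motive := fun _ => List ℕ) (rw8754) (rw8755) (Nat.ble 8755 i)) (Nat.ble 8754 i)) (Bool.rec (motive := fun _ => List ℕ) (Bool.rec (motive := fun _ => List ℕ) (rw8756) (rw8757) (Nat.ble 8757 i)) (Bool.rec (motive := fun _ => List ℕ) (rw8758) (rw8759) (Nat.ble 8759 i)) (Nat.ble 8758 i)) (Nat.ble 8756 i)) (Bool.rec (motive := fun _ => List ℕ) (Bool.rec (motive := fun _ => List ℕ) (Bool.rec (motive := fun _ => List ℕ) (rw8760) (rw8761) (Nat.ble 8761 i)) (Bool.rec (motive := fun _ => List ℕ) (rw8762) (rw8763) (Nat.ble 8763 i)) (Nat.ble 8762 i)) (Bool.rec (motive := fun _ => List ℕ) (Bool.rec (motive := fun _ => List ℕ) (rw8764) (rw8765) (Nat.ble 8765 i)) (Bool.rec (motive := fun _ => List ℕ) (rw8766) (rw8767) (Nat.ble 8767 i)) (Nat.ble 8766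 i)) (Nat.ble 8764 i)) (Nat.ble 8760 i)) (Nat.ble 8752 i)) (Nat.ble 8736 i)
noncomputable def rwb137 (i : ℕ) : List ℕ := Bool.rec (motive := fun _ => List ℕ) (Bool.rec (motive := fun _ => List ℕ) (Bool.rec (motive := fun _ => List ℕ) (Bool.rec (motive := fun _ => List ℕ) (Bool.rec (motive := fun _ => List ℕ) (Bool.rec (motive := fun _ => List ℕ) (rw8768) (rw8769) (Nat.ble 8769 i)) (Bool.rec (motive := fun _ => List ℕ) (rw8770) (rw8771) (Nat.ble 8771 i)) (Nat.ble 8770 i)) (Bool.rec (motive := fun _ => List ℕ) (Bool.rec (motive := fun _ => List ℕ) (rw8772) (rw8773) (Nat.ble 8773 i)) (Bool.rec (motive := fun _ => List ℕ) (rw8774) (rw8775) (Nat.ble 8775 i)) (Nat.ble 8774 i)) (Nat.ble 8772 i)) (Bool.rec (motive := fun _ => List ℕ) (Bool.rec (motive := fun _ => List ℕ) (Bool.rec (motive := fun _ => List ℕ)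 (rw8776) (rw8777) (Nat.ble 8777 i)) (Bool.rec (motive := fun _ => List ℕ) (rw8778) (rw8779) (Nat.ble 8779 i)) (Nat.ble 8778 i)) (Bool.rec (motive := fun _ => List ℕ) (Bool.rec (motive := fun _ => List ℕ) (rw8780) (rw8781) (Nat.ble 8781 i)) (Bool.rec (motive := fun _ => List ℕ) (rw8782) (rw8783) (Nat.ble 8783 i)) (Nat.ble 8782 i)) (Nat.ble 8780 i)) (Nat.ble 8776 i)) (Bool.rec (motive := fun _ => List ℕ) (Bool.rec (motive := fun _ => List ℕ) (Bool.rec (motive := fun _ => List ℕ) (Bool.rec (motive := fun _ => List ℕ) (rw8784) (rw8785) (Nat.ble 8785 i)) (Bool.rec (motive := fun _ => List ℕ) (rw8786) (rw8787) (Nat.ble 8787 i)) (Nat.ble 8786 i)) (Bool.rec (motive := fun _ => List ℕ) (Bool.rec (motive := fun _ => List ℕ) (rw8788) (rw8789) (Nat.ble 8789 i)) (Bool.rec (motive := fun _ => List ℕ) (rw8790) (rw8791)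 (Nat.ble 8791 i)) (Nat.ble 8790 i)) (Nat.ble 8788 i)) (Bool.rec (motive := fun _ => List ℕ) (Bool.rec (motive := fun _ => List ℕ) (Bool.rec (motive := fun _ => List ℕ) (rw8792) (rw8793) (Nat.ble 8793 i)) (Bool.rec (motive := fun _ => List ℕ) (rw8794) (rw8795) (Nat.ble 8795 i)) (Nat.ble 8794 i)) (Bool.rec (motive := fun _ => List ℕ) (Bool.rec (motive := fun _ => List ℕ) (rw8796) (rw8797) (Nat.ble 8797 i)) (Bool.rec (motive := fun _ => List ℕ) (rw8798) (rw8799) (Nat.ble 8799 i)) (Nat.ble 8798 i)) (Nat.ble 8796 i)) (Nat.ble 8792 i)) (Nat.ble 8784 i)) (Bool.rec (motive := fun _ => List ℕ) (Bool.rec (motive := fun _ => List ℕ) (Bool.rec (motive := fun _ => List ℕ) (Bool.rec (motive := fun _ => List ℕ) (Bool.rec (motive := fun _ => List ℕ) (rw8800) (rw8801) (Nat.ble 8801 i)) (Bool.rec (motive := fun _ => List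 ℕ) (rw8802) (rw8803) (Nat.ble 8803 i)) (Nat.ble 8802 i)) (Bool.rec (motive := fun _ => List ℕ) (Bool.rec (motive := fun _ => List ℕ) (rw8804) (rw8805) (Nat.ble 8805 i)) (Bool.rec (motive := fun _ => List ℕ) (rw8806) (rw8807) (Nat.ble 8807 i)) (Nat.ble 8806 i)) (Nat.ble 8804 i)) (Bool.rec (motive := fun _ => List ℕ) (Bool.rec (motive := fun _ => List ℕ) (Bool.rec (motive := fun _ => List ℕ) (rw8808) (rw8809) (Nat.ble 8809 i)) (Bool.rec (motive := fun _ => List ℕ) (rw8810) (rw8811) (Nat.ble 8811 i)) (Nat.ble 8810 i)) (Bool.rec (motive := fun _ => List ℕ) (Bool.rec (motive := fun _ => List ℕ) (rw8812) (rw8813) (Nat.ble 8813 i)) (Bool.rec (motive := fun _ => List ℕ) (rw8814) (rw8815) (Nat.ble 8815 i)) (Nat.ble 8814 i)) (Nat.ble 8812 i)) (Nat.ble 8808 i)) (Bool.rec (motive := fun _ => List ℕ) (Bool.rec (motive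 := fun _ => List ℕ) (Bool.rec (motive := fun _ => List ℕ) (Bool.rec (motive := fun _ => List ℕ) (rw8816) (rw8817) (Nat.ble 8817 i)) (Bool.rec (motive := fun _ => List ℕ) (rw8818) (rw8819) (Nat.ble 8819 i)) (Nat.ble 8818 i)) (Bool.rec (motive := fun _ => List ℕ) (Bool.rec (motive := fun _ => List ℕ) (rw8820) (rw8821) (Nat.ble 8821 i)) (Bool.rec (motive := fun _ => List ℕ) (rw8822) (rw8823) (Nat.ble 8823 i)) (Nat.ble 8822 i)) (Nat.ble 8820 i)) (Bool.rec (motive := fun _ => List ℕ) (Bool.rec (motive := fun _ => List ℕ) (Bool.rec (motive := fun _ => List ℕ) (rw8824) (rw8825) (Nat.ble 8825 i)) (Bool.rec (motive := fun _ => List ℕ) (rw8826) (rw8827) (Nat.ble 8827 i)) (Nat.ble 8826 i)) (Bool.rec (motive := fun _ => List ℕ) (Bool.rec (motive := fun _ => List ℕ) (rw8828) (rw8829) (Nat.ble 8829 i)) (Bool.rec (motive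 := fun _ => List ℕ) (rw8830) (rw8831) (Nat.ble 8831 i)) (Nat.ble 8830 i)) (Nat.ble 8828 i)) (Nat.ble 8824 i)) (Nat.ble 8816 i)) (Nat.ble 8800 i)
noncomputable def rwb138 (i : ℕ) : List ℕ := Bool.rec (motive := fun _ => List ℕ) (Bool.rec (motive := fun _ => List ℕ) (Bool.rec (motive := fun _ => List ℕ) (Bool.rec (motive := fun _ => List ℕ) (Bool.rec (motive := fun _ => List ℕ) (Bool.rec (motive := fun _ => List ℕ) (rw8832) (rw8833) (Nat.ble 8833 i)) (Bool.rec (motive := fun _ => List ℕ) (rw8834) (rw8835) (Nat.ble 8835 i)) (Nat.ble 8834 i)) (Bool.rec (motive := fun _ => List ℕ) (Bool.rec (motive := fun _ => List ℕ) (rw8836) (rw8837) (Nat.ble 8837 i)) (Bool.rec (motive := fun _ => List ℕ) (rw8838) (rw8839) (Nat.ble 8839 i)) (Nat.ble 8838 i)) (Nat.ble 8836 i)) (Bool.rec (motive := fun _ => List ℕ) (Bool.rec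 (motive := fun _ => List ℕ) (Bool.rec (motive := fun _ => List ℕ) (rw8840) (rw8841) (Nat.ble 8841 i)) (Bool.rec (motive := fun _ => List ℕ) (rw8842) (rw8843) (Nat.ble 8843 i)) (Nat.ble 8842 i)) (Bool.rec (motive := fun _ => List ℕ) (Bool.rec (motive := fun _ => List ℕ) (rw8844) (rw8845) (Nat.ble 8845 i)) (Bool.rec (motive := fun _ => List ℕ) (rw8846) (rw8847) (Nat.ble 8847 i)) (Nat.ble 8846 i)) (Nat.ble 8844 i)) (Nat.ble 8840 i)) (Bool.rec (motive := fun _ => List ℕ) (Bool.rec (motive := fun _ => List ℕ) (Bool.rec (motive := fun _ => List ℕ) (Bool.rec (motive := fun _ => List ℕ) (rw8848) (rw8849) (Nat.ble 8849 i)) (Bool.rec (motive := fun _ => List ℕ) (rw8850) (rw8851) (Nat.ble 8851 i)) (Nat.ble 8850 i)) (Bool.rec (motive := fun _ => List ℕ) (Bool.rec (motive := fun _ => List ℕ) (rw8852) (rw8853) (Nat.ble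 8853 i)) (Bool.rec (motive := fun _ => List ℕ) (rw8854) (rw8855) (Nat.ble 8855 i)) (Nat.ble 8854 i)) (Nat.ble 8852 i)) (Bool.rec (motive := fun _ => List ℕ) (Bool.rec (motive := fun _ => List ℕ) (Bool.rec (motive := fun _ => List ℕ) (rw8856) (rw8857) (Nat.ble 8857 i)) (Bool.rec (motive := fun _ => List ℕ) (rw8858) (rw8859) (Nat.ble 8859 i)) (Nat.ble 8858 i)) (Bool.rec (motive := fun _ => List ℕ) (Bool.rec (motive := fun _ => List ℕ) (rw8860) (rw8861) (Nat.ble 8861 i)) (Bool.rec (motive := fun _ => List ℕ) (rw8862) (rw8863) (Nat.ble 8863 i)) (Nat.ble 8862 i)) (Nat.ble 8860 i)) (Nat.ble 8856 i)) (Nat.ble 8848 i)) (Bool.rec (motive := fun _ => List ℕ) (Bool.rec (motive := fun _ => List ℕ) (Bool.rec (motive := fun _ => List ℕ) (Bool.rec (motive := fun _ => List ℕ) (Bool.rec (motive := fun _ => List ℕ) (rw8864)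 (rw8865) (Nat.ble 8865 i)) (Bool.rec (motive := fun _ => List ℕ) (rw8866) (rw8867) (Nat.ble 8867 i)) (Nat.ble 8866 i)) (Bool.rec (motive := fun _ => List ℕ) (Bool.rec (motive := fun _ => List ℕ) (rw8868) (rw8869) (Nat.ble 8869 i)) (Bool.rec (motive := fun _ => List ℕ) (rw8870) (rw8871) (Nat.ble 8871 i)) (Nat.ble 8870 i)) (Nat.ble 8868 i)) (Bool.rec (motive := fun _ => List ℕ) (Bool.rec (motive := fun _ => List ℕ) (Bool.rec (motive := fun _ => List ℕ) (rw8872) (rw8873) (Nat.ble 8873 i)) (Bool.rec (motive := fun _ => List ℕ) (rw8874) (rw8875) (Nat.ble 8875 i)) (Nat.ble 8874 i)) (Bool.rec (motive := fun _ => List ℕ) (Bool.rec (motive := fun _ => List ℕ) (rw8876) (rw8877) (Nat.ble 8877 i)) (Bool.rec (motive := fun _ => List ℕ) (rw8878) (rw8879) (Nat.ble 8879 i)) (Nat.ble 8878 i)) (Nat.ble 8876 i)) (Nat.ble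 8872 i)) (Bool.rec (motive := fun _ => List ℕ) (Bool.rec (motive := fun _ => List ℕ) (Bool.rec (motive := fun _ => List ℕ) (Bool.rec (motive := fun _ => List ℕ) (rw8880) (rw8881) (Nat.ble 8881 i)) (Bool.rec (motive := fun _ => List ℕ) (rw8882) (rw8883) (Nat.ble 8883 i)) (Nat.ble 8882 i)) (Bool.rec (motive := fun _ => List ℕ) (Bool.rec (motive := fun _ => List ℕ) (rw8884) (rw8885) (Nat.ble 8885 i)) (Bool.rec (motive := fun _ => List ℕ) (rw8886) (rw8887) (Nat.ble 8887 i)) (Nat.ble 8886 i)) (Nat.ble 8884 i)) (Bool.rec (motive := fun _ => List ℕ) (Bool.rec (motive := fun _ => List ℕ) (Bool.rec (motive := fun _ => List ℕ) (rw8888) (rw8889) (Nat.ble 8889 i)) (Bool.rec (motive := fun _ => List ℕ) (rw8890) (rw8891) (Nat.ble 8891 i)) (Nat.ble 8890 i)) (Bool.rec (motive := fun _ => List ℕ) (Bool.rec (motive :=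 fun _ => List ℕ) (rw8892) (rw8893) (Nat.ble 8893 i)) (Bool.rec (motive := fun _ => List ℕ) (rw8894) (rw8895) (Nat.ble 8895 i)) (Nat.ble 8894 i)) (Nat.ble 8892 i)) (Nat.ble 8888 i)) (Nat.ble 8880 i)) (Nat.ble 8864 i)
noncomputable def rwb139 (i : ℕ) : List ℕ := Bool.rec (motive := fun _ => List ℕ) (Bool.rec (motive := fun _ => List ℕ) (Bool.rec (motive := fun _ => List ℕ) (Bool.rec (motive := fun _ => List ℕ) (Bool.rec (motive := fun _ => List ℕ) (Bool.rec (motive := fun _ => List ℕ) (rw8896) (rw8897) (Nat.ble 8897 i)) (Bool.rec (motive := fun _ => List ℕ) (rw8898) (rw8899) (Nat.ble 8899 i)) (Nat.ble 8898 i)) (Bool.rec (motive := fun _ => List ℕ) (Bool.rec (motive := fun _ => List ℕ) (rw8900) (rw8901) (Nat.ble 8901 i)) (Bool.rec (motive := fun _ => List ℕ) (rw8902) (rw8903) (Nat.ble 8903 i)) (Nat.ble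 8902 i)) (Nat.ble 8900 i)) (Bool.rec (motive := fun _ => List ℕ) (Bool.rec (motive := fun _ => List ℕ) (Bool.rec (motive := fun _ => List ℕ) (rw8904) (rw8905) (Nat.ble 8905 i)) (Bool.rec (motive := fun _ => List ℕ) (rw8906) (rw8907) (Nat.ble 8907 i)) (Nat.ble 8906 i)) (Bool.rec (motive := fun _ => List ℕ) (Bool.rec (motive := fun _ => List ℕ) (rw8908) (rw8909) (Nat.ble 8909 i)) (Bool.rec (motive := fun _ => List ℕ) (rw8910) (rw8911) (Nat.ble 8911 i)) (Nat.ble 8910 i)) (Nat.ble 8908 i)) (Nat.ble 8904 i)) (Bool.rec (motive := fun _ => List ℕ) (Bool.rec (motive := fun _ => List ℕ) (Bool.rec (motive := fun _ => List ℕ) (Bool.rec (motive := fun _ => List ℕ) (rw8912) (rw8913) (Nat.ble 8913 i)) (Bool.rec (motive := fun _ => List ℕ) (rw8914) (rw8915) (Nat.ble 8915 i)) (Nat.ble 8914 i)) (Bool.rec (motive := fun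 _ => List ℕ) (Bool.rec (motive := fun _ => List ℕ) (rw8916) (rw8917) (Nat.ble 8917 i)) (Bool.rec (motive := fun _ => List ℕ) (rw8918) (rw8919) (Nat.ble 8919 i)) (Nat.ble 8918 i)) (Nat.ble 8916 i)) (Bool.rec (motive := fun _ => List ℕ) (Bool.rec (motive := fun _ => List ℕ) (Bool.rec (motive := fun _ => List ℕ) (rw8920) (rw8921) (Nat.ble 8921 i)) (Bool.rec (motive := fun _ => List ℕ) (rw8922) (rw8923) (Nat.ble 8923 i)) (Nat.ble 8922 i)) (Bool.rec (motive := fun _ => List ℕ) (Bool.rec (motive := fun _ => List ℕ) (rw8924) (rw8925) (Nat.ble 8925 i)) (Bool.rec (motive := fun _ => List ℕ) (rw8926) (rw8927) (Nat.ble 8927 i)) (Nat.ble 8926 i)) (Nat.ble 8924 i)) (Nat.ble 8920 i)) (Nat.ble 8912 i)) (Bool.rec (motive := fun _ => List ℕ) (Bool.rec (motive := fun _ => List ℕ) (Bool.rec (motive := fun _ => List ℕ)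 (Bool.rec (motive := fun _ => List ℕ) (Bool.rec (motive := fun _ => List ℕ) (rw8928) (rw8929) (Nat.ble 8929 i)) (Bool.rec (motive := fun _ => List ℕ) (rw8930) (rw8931) (Nat.ble 8931 i)) (Nat.ble 8930 i)) (Bool.rec (motive := fun _ => List ℕ) (Bool.rec (motive := fun _ => List ℕ) (rw8932) (rw8933) (Nat.ble 8933 i)) (Bool.rec (motive := fun _ => List ℕ) (rw8934) (rw8935) (Nat.ble 8935 i)) (Nat.ble 8934 i)) (Nat.ble 8932 i)) (Bool.rec (motive := fun _ => List ℕ) (Bool.rec (motive := fun _ => List ℕ) (Bool.rec (motive := fun _ => List ℕ) (rw8936) (rw8937) (Nat.ble 8937 i)) (Bool.rec (motive := fun _ => List ℕ) (rw8938) (rw8939) (Nat.ble 8939 i)) (Nat.ble 8938 i)) (Bool.rec (motive := fun _ => List ℕ) (Bool.rec (motive := fun _ => List ℕ) (rw8940) (rw8941) (Nat.ble 8941 i)) (Bool.rec (motive := fun _ => List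 ℕ) (rw8942) (rw8943) (Nat.ble 8943 i)) (Nat.ble 8942 i)) (Nat.ble 8940 i)) (Nat.ble 8936 i)) (Bool.rec (motive := fun _ => List ℕ) (Bool.rec (motive := fun _ => List ℕ) (Bool.rec (motive := fun _ => List ℕ) (Bool.rec (motive := fun _ => List ℕ) (rw8944) (rw8945) (Nat.ble 8945 i)) (Bool.rec (motive := fun _ => List ℕ) (rw8946) (rw8947) (Nat.ble 8947 i)) (Nat.ble 8946 i)) (Bool.rec (motive := fun _ => List ℕ) (Bool.rec (motive := fun _ => List ℕ) (rw8948) (rw8949) (Nat.ble 8949 i)) (Bool.rec (motive := fun _ => List ℕ) (rw8950) (rw8951) (Nat.ble 8951 i)) (Nat.ble 8950 i)) (Nat.ble 8948 i)) (Bool.rec (motive := fun _ => List ℕ) (Bool.rec (motive := fun _ => List ℕ) (Bool.rec (motive := fun _ => List ℕ) (rw8952) (rw8953) (Nat.ble 8953 i)) (Bool.rec (motive := fun _ => List ℕ) (rw8954) (rw8955) (Nat.ble 8955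 i)) (Nat.ble 8954 i)) (Bool.rec (motive := fun _ => List ℕ) (Bool.rec (motive := fun _ => List ℕ) (rw8956) (rw8957) (Nat.ble 8957 i)) (Bool.rec (motive := fun _ => List ℕ) (rw8958) (rw8959) (Nat.ble 8959 i)) (Nat.ble 8958 i)) (Nat.ble 8956 i)) (Nat.ble 8952 i)) (Nat.ble 8944 i)) (Nat.ble 8928 i)
noncomputable def rwb140 (i : ℕ) : List ℕ := Bool.rec (motive := fun _ => List ℕ) (Bool.rec (motive := fun _ => List ℕ) (Bool.rec (motive := fun _ => List ℕ) (Bool.rec (motive := fun _ => List ℕ) (Bool.rec (motive := fun _ => List ℕ) (Bool.rec (motive := fun _ => List ℕ) (rw8960) (rw8961) (Nat.ble 8961 i)) (Bool.rec (motive := fun _ => List ℕ) (rw8962) (rw8963) (Nat.ble 8963 i)) (Nat.ble 8962 i)) (Bool.rec (motive := fun _ => List ℕ) (Bool.rec (motive := fun _ => List ℕ) (rw8964) (rw8965) (Nat.ble 8965 i)) (Bool.rec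 (motive := fun _ => List ℕ) (rw8966) (rw8967) (Nat.ble 8967 i)) (Nat.ble 8966 i)) (Nat.ble 8964 i)) (Bool.rec (motive := fun _ => List ℕ) (Bool.rec (motive := fun _ => List ℕ) (Bool.rec (motive := fun _ => List ℕ) (rw8968) (rw8969) (Nat.ble 8969 i)) (Bool.rec (motive := fun _ => List ℕ) (rw8970) (rw8971) (Nat.ble 8971 i)) (Nat.ble 8970 i)) (Bool.rec (motive := fun _ => List ℕ) (Bool.rec (motive := fun _ => List ℕ) (rw8972) (rw8973) (Nat.ble 8973 i)) (Bool.rec (motive := fun _ => List ℕ) (rw8974) (rw8975) (Nat.ble 8975 i)) (Nat.ble 8974 i)) (Nat.ble 8972 i)) (Nat.ble 8968 i)) (Bool.rec (motive := fun _ => List ℕ) (Bool.rec (motive := fun _ => List ℕ) (Bool.rec (motive := fun _ => List ℕ) (Bool.rec (motive := fun _ => List ℕ) (rw8976) (rw8977) (Nat.ble 8977 i)) (Bool.rec (motive := fun _ => List ℕ) (rw8978)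 (rw8979) (Nat.ble 8979 i)) (Nat.ble 8978 i)) (Bool.rec (motive := fun _ => List ℕ) (Bool.rec (motive := fun _ => List ℕ) (rw8980) (rw8981) (Nat.ble 8981 i)) (Bool.rec (motive := fun _ => List ℕ) (rw8982) (rw8983) (Nat.ble 8983 i)) (Nat.ble 8982 i)) (Nat.ble 8980 i)) (Bool.rec (motive := fun _ => List ℕ) (Bool.rec (motive := fun _ => List ℕ) (Bool.rec (motive := fun _ => List ℕ) (rw8984) (rw8985) (Nat.ble 8985 i)) (Bool.rec (motive := fun _ => List ℕ) (rw8986) (rw8987) (Nat.ble 8987 i)) (Nat.ble 8986 i)) (Bool.rec (motive := fun _ => List ℕ) (Bool.rec (motive := fun _ => List ℕ) (rw8988) (rw8989) (Nat.ble 8989 i)) (Bool.rec (motive := fun _ => List ℕ) (rw8990) (rw8991) (Nat.ble 8991 i)) (Nat.ble 8990 i)) (Nat.ble 8988 i)) (Nat.ble 8984 i)) (Nat.ble 8976 i)) (Bool.rec (motive := fun _ => List ℕ) (Bool.rec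 (motive := fun _ => List ℕ) (Bool.rec (motive := fun _ => List ℕ) (Bool.rec (motive := fun _ => List ℕ) (Bool.rec (motive := fun _ => List ℕ) (rw8992) (rw8993) (Nat.ble 8993 i)) (Bool.rec (motive := fun _ => List ℕ) (rw8994) (rw8995) (Nat.ble 8995 i)) (Nat.ble 8994 i)) (Bool.rec (motive := fun _ => List ℕ) (Bool.rec (motive := fun _ => List ℕ) (rw8996) (rw8997) (Nat.ble 8997 i)) (Bool.rec (motive := fun _ => List ℕ) (rw8998) (rw8999) (Nat.ble 8999 i)) (Nat.ble 8998 i)) (Nat.ble 8996 i)) (Bool.rec (motive := fun _ => List ℕ) (Bool.rec (motive := fun _ => List ℕ) (Bool.rec (motive := fun _ => List ℕ) (rw9000) (rw9001) (Nat.ble 9001 i)) (Bool.rec (motive := fun _ => List ℕ) (rw9002) (rw9003) (Nat.ble 9003 i)) (Nat.ble 9002 i)) (Bool.rec (motive := fun _ => List ℕ) (Bool.rec (motive := fun _ => List ℕ) (rw9004)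 (rw9005) (Nat.ble 9005 i)) (Bool.rec (motive := fun _ => List ℕ) (rw9006) (rw9007) (Nat.ble 9007 i)) (Nat.ble 9006 i)) (Nat.ble 9004 i)) (Nat.ble 9000 i)) (Bool.rec (motive := fun _ => List ℕ) (Bool.rec (motive := fun _ => List ℕ) (Bool.rec (motive := fun _ => List ℕ) (Bool.rec (motive := fun _ => List ℕ) (rw9008) (rw9009) (Nat.ble 9009 i)) (Bool.rec (motive := fun _ => List ℕ) (rw9010) (rw9011) (Nat.ble 9011 i)) (Nat.ble 9010 i)) (Bool.rec (motive := fun _ => List ℕ) (Bool.rec (motive := fun _ => List ℕ) (rw9012) (rw9013) (Nat.ble 9013 i)) (Bool.rec (motive := fun _ => List ℕ) (rw9014) (rw9015) (Nat.ble 9015 i)) (Nat.ble 9014 i)) (Nat.ble 9012 i)) (Bool.rec (motive := fun _ => List ℕ) (Bool.rec (motive := fun _ => List ℕ) (Bool.rec (motive := fun _ => List ℕ) (rw9016) (rw9017) (Nat.ble 9017 i)) (Bool.rec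 (motive := fun _ => List ℕ) (rw9018) (rw9019) (Nat.ble 9019 i)) (Nat.ble 9018 i)) (Bool.rec (motive := fun _ => List ℕ) (Bool.rec (motive := fun _ => List ℕ) (rw9020) (rw9021) (Nat.ble 9021 i)) (Bool.rec (motive := fun _ => List ℕ) (rw9022) (rw9023) (Nat.ble 9023 i)) (Nat.ble 9022 i)) (Nat.ble 9020 i)) (Nat.ble 9016 i)) (Nat.ble 9008 i)) (Nat.ble 8992 i)
noncomputable def rwb141 (i : ℕ) : List ℕ := Bool.rec (motive := fun _ => List ℕ) (Bool.rec (motive := fun _ => List ℕ) (Bool.rec (motive := fun _ => List ℕ) (Bool.rec (motive := fun _ => List ℕ) (Bool.rec (motive := fun _ => List ℕ) (Bool.rec (motive := fun _ => List ℕ) (rw9024) (rw9025) (Nat.ble 9025 i)) (Bool.rec (motive := fun _ => List ℕ) (rw9026) (rw9027) (Nat.ble 9027 i)) (Nat.ble 9026 i)) (Bool.rec (motive := fun _ => List ℕ) (Bool.rec (motive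 := fun _ => List ℕ) (rw9028) (rw9029) (Nat.ble 9029 i)) (Bool.rec (motive := fun _ => List ℕ) (rw9030) (rw9031) (Nat.ble 9031 i)) (Nat.ble 9030 i)) (Nat.ble 9028 i)) (Bool.rec (motive := fun _ => List ℕ) (Bool.rec (motive := fun _ => List ℕ) (Bool.rec (motive := fun _ => List ℕ) (rw9032) (rw9033) (Nat.ble 9033 i)) (Bool.rec (motive := fun _ => List ℕ) (rw9034) (rw9035) (Nat.ble 9035 i)) (Nat.ble 9034 i)) (Bool.rec (motive := fun _ => List ℕ) (Bool.rec (motive := fun _ => List ℕ) (rw9036) (rw9037) (Nat.ble 9037 i)) (Bool.rec (motive := fun _ => List ℕ) (rw9038) (rw9039) (Nat.ble 9039 i)) (Nat.ble 9038 i)) (Nat.ble 9036 i)) (Nat.ble 9032 i)) (Bool.rec (motive := fun _ => List ℕ) (Bool.rec (motive := fun _ => List ℕ) (Bool.rec (motive := fun _ => List ℕ) (Bool.rec (motive := fun _ => List ℕ) (rw9040) (rw9041)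 (Nat.ble 9041 i)) (Bool.rec (motive := fun _ => List ℕ) (rw9042) (rw9043) (Nat.ble 9043 i)) (Nat.ble 9042 i)) (Bool.rec (motive := fun _ => List ℕ) (Bool.rec (motive := fun _ => List ℕ) (rw9044) (rw9045) (Nat.ble 9045 i)) (Bool.rec (motive := fun _ => List ℕ) (rw9046) (rw9047) (Nat.ble 9047 i)) (Nat.ble 9046 i)) (Nat.ble 9044 i)) (Bool.rec (motive := fun _ => List ℕ) (Bool.rec (motive := fun _ => List ℕ) (Bool.rec (motive := fun _ => List ℕ) (rw9048) (rw9049) (Nat.ble 9049 i)) (Bool.rec (motive := fun _ => List ℕ) (rw9050) (rw9051) (Nat.ble 9051 i)) (Nat.ble 9050 i)) (Bool.rec (motive := fun _ => List ℕ) (Bool.rec (motive := fun _ => List ℕ) (rw9052) (rw9053) (Nat.ble 9053 i)) (Bool.rec (motive := fun _ => List ℕ) (rw9054) (rw9055) (Nat.ble 9055 i)) (Nat.ble 9054 i)) (Nat.ble 9052 i)) (Nat.ble 9048 i))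 (Nat.ble 9040 i)) (Bool.rec (motive := fun _ => List ℕ) (Bool.rec (motive := fun _ => List ℕ) (Bool.rec (motive := fun _ => List ℕ) (Bool.rec (motive := fun _ => List ℕ) (Bool.rec (motive := fun _ => List ℕ) (rw9056) (rw9057) (Nat.ble 9057 i)) (Bool.rec (motive := fun _ => List ℕ) (rw9058) (rw9059) (Nat.ble 9059 i)) (Nat.ble 9058 i)) (Bool.rec (motive := fun _ => List ℕ) (Bool.rec (motive := fun _ => List ℕ) (rw9060) (rw9061) (Nat.ble 9061 i)) (Bool.rec (motive := fun _ => List ℕ) (rw9062) (rw9063) (Nat.ble 9063 i)) (Nat.ble 9062 i)) (Nat.ble 9060 i)) (Bool.rec (motive := fun _ => List ℕ) (Bool.rec (motive := fun _ => List ℕ) (Bool.rec (motive := fun _ => List ℕ) (rw9064) (rw9065) (Nat.ble 9065 i)) (Bool.rec (motive := fun _ => List ℕ) (rw9066) (rw9067) (Nat.ble 9067 i)) (Nat.ble 9066 i)) (Bool.rec (motive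 := fun _ => List ℕ) (Bool.rec (motive := fun _ => List ℕ) (rw9068) (rw9069) (Nat.ble 9069 i)) (Bool.rec (motive := fun _ => List ℕ) (rw9070) (rw9071) (Nat.ble 9071 i)) (Nat.ble 9070 i)) (Nat.ble 9068 i)) (Nat.ble 9064 i)) (Bool.rec (motive := fun _ => List ℕ) (Bool.rec (motive := fun _ => List ℕ) (Bool.rec (motive := fun _ => List ℕ) (Bool.rec (motive := fun _ => List ℕ) (rw9072) (rw9073) (Nat.ble 9073 i)) (Bool.rec (motive := fun _ => List ℕ) (rw9074) (rw9075) (Nat.ble 9075 i)) (Nat.ble 9074 i)) (Bool.rec (motive := fun _ => List ℕ) (Bool.rec (motive := fun _ => List ℕ) (rw9076) (rw9077) (Nat.ble 9077 i)) (Bool.rec (motive := fun _ => List ℕ) (rw9078) (rw9079) (Nat.ble 9079 i)) (Nat.ble 9078 i)) (Nat.ble 9076 i)) (Bool.rec (motive := fun _ => List ℕ) (Bool.rec (motive := fun _ => List ℕ) (Bool.rec (motive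 := fun _ => List ℕ) (rw9080) (rw9081) (Nat.ble 9081 i)) (Bool.rec (motive := fun _ => List ℕ) (rw9082) (rw9083) (Nat.ble 9083 i)) (Nat.ble 9082 i)) (Bool.rec (motive := fun _ => List ℕ) (Bool.rec (motive := fun _ => List ℕ) (rw9084) (rw9085) (Nat.ble 9085 i)) (Bool.rec (motive := fun _ => List ℕ) (rw9086) (rw9087) (Nat.ble 9087 i)) (Nat.ble 9086 i)) (Nat.ble 9084 i)) (Nat.ble 9080 i)) (Nat.ble 9072 i)) (Nat.ble 9056 i)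
noncomputable def rwb142 (i : ℕ) : List ℕ := Bool.rec (motive := fun _ => List ℕ) (Bool.rec (motive := fun _ => List ℕ) (Bool.rec (motive := fun _ => List ℕ) (Bool.rec (motive := fun _ => List ℕ) (Bool.rec (motive := fun _ => List ℕ) (Bool.rec (motive := fun _ => List ℕ) (rw9088) (rw9089) (Nat.ble 9089 i)) (Bool.rec (motive := fun _ => List ℕ) (rw9090) (rw9091) (Nat.ble 9091 i)) (Nat.ble 9090 i)) (Bool.rec (motive := fun _ => List ℕ) (Bool.rec (motive := fun _ => List ℕ) (rw9092) (rw9093) (Nat.ble 9093 i)) (Bool.rec (motive := fun _ => List ℕ) (rw9094) (rw9095) (Nat.ble 9095 i)) (Nat.ble 9094 i)) (Nat.ble 9092 i)) (Bool.rec (motive := fun _ => List ℕ) (Bool.rec (motive := fun _ => List ℕ) (Bool.rec (motive := fun _ => List ℕ) (rw9096) (rw9097) (Nat.ble 9097 i)) (Bool.rec (motive := fun _ => List ℕ) (rw9098)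 (rw9099) (Nat.ble 9099 i)) (Nat.ble 9098 i)) (Bool.rec (motive := fun _ => List ℕ) (Bool.rec (motive := fun _ => List ℕ) (rw9100) (rw9101) (Nat.ble 9101 i)) (Bool.rec (motive := fun _ => List ℕ) (rw9102) (rw9103) (Nat.ble 9103 i)) (Nat.ble 9102 i)) (Nat.ble 9100 i)) (Nat.ble 9096 i)) (Bool.rec (motive := fun _ => List ℕ) (Bool.rec (motive := fun _ => List ℕ) (Bool.rec (motive := fun _ => List ℕ) (Bool.rec (motive := fun _ => List ℕ) (rw9104) (rw9105) (Nat.ble 9105 i)) (Bool.rec (motive := fun _ => List ℕ) (rw9106) (rw9107) (Nat.ble 9107 i)) (Nat.ble 9106 i)) (Bool.rec (motive := fun _ => List ℕ) (Bool.rec (motive := fun _ => List ℕ) (rw9108) (rw9109) (Nat.ble 9109 i)) (Bool.rec (motive := fun _ => List ℕ) (rw9110) (rw9111) (Nat.ble 9111 i)) (Nat.ble 9110 i)) (Nat.ble 9108 i)) (Bool.rec (motive := fun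 _ => List ℕ) (Bool.rec (motive := fun _ => List ℕ) (Bool.rec (motive := fun _ => List ℕ) (rw9112) (rw9113) (Nat.ble 9113 i)) (Bool.rec (motive := fun _ => List ℕ) (rw9114) (rw9115) (Nat.ble 9115 i)) (Nat.ble 9114 i)) (Bool.rec (motive := fun _ => List ℕ) (Bool.rec (motive := fun _ => List ℕ) (rw9116) (rw9117) (Nat.ble 9117 i)) (Bool.rec (motive := fun _ => List ℕ) (rw9118) (rw9119) (Nat.ble 9119 i)) (Nat.ble 9118 i)) (Nat.ble 9116 i)) (Nat.ble 9112 i)) (Nat.ble 9104 i)) (Bool.rec (motive := fun _ => List ℕ) (Bool.rec (motive := fun _ => List ℕ) (Bool.rec (motive := fun _ => List ℕ) (Bool.rec (motive := fun _ => List ℕ) (Bool.rec (motive := fun _ => List ℕ) (rw9120) (rw9121) (Nat.ble 9121 i)) (Bool.rec (motive := fun _ => List ℕ) (rw9122) (rw9123) (Nat.ble 9123 i)) (Nat.ble 9122 i)) (Bool.rec (motive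 := fun _ => List ℕ) (Bool.rec (motive := fun _ => List ℕ) (rw9124) (rw9125) (Nat.ble 9125 i)) (Bool.rec (motive := fun _ => List ℕ) (rw9126) (rw9127) (Nat.ble 9127 i)) (Nat.ble 9126 i)) (Nat.ble 9124 i)) (Bool.rec (motive := fun _ => List ℕ) (Bool.rec (motive := fun _ => List ℕ) (Bool.rec (motive := fun _ => List ℕ) (rw9128) (rw9129) (Nat.ble 9129 i)) (Bool.rec (motive := fun _ => List ℕ) (rw9130) (rw9131) (Nat.ble 9131 i)) (Nat.ble 9130 i)) (Bool.rec (motive := fun _ => List ℕ) (Bool.rec (motive := fun _ => List ℕ) (rw9132) (rw9133) (Nat.ble 9133 i)) (Bool.rec (motive := fun _ => List ℕ) (rw9134) (rw9135) (Nat.ble 9135 i)) (Nat.ble 9134 i)) (Nat.ble 9132 i)) (Nat.ble 9128 i)) (Bool.rec (motive := fun _ => List ℕ) (Bool.rec (motive := fun _ => List ℕ) (Bool.rec (motive := fun _ => List ℕ) (Bool.rec (motive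 := fun _ => List ℕ) (rw9136) (rw9137) (Nat.ble 9137 i)) (Bool.rec (motive := fun _ => List ℕ) (rw9138) (rw9139) (Nat.ble 9139 i)) (Nat.ble 9138 i)) (Bool.rec (motive := fun _ => List ℕ) (Bool.rec (motive := fun _ => List ℕ) (rw9140) (rw9141) (Nat.ble 9141 i)) (Bool.rec (motive := fun _ => List ℕ) (rw9142) (rw9143) (Nat.ble 9143 i)) (Nat.ble 9142 i)) (Nat.ble 9140 i)) (Bool.rec (motive := fun _ => List ℕ) (Bool.rec (motive := fun _ => List ℕ) (Bool.rec (motive := fun _ => List ℕ) (rw9144) (rw9145) (Nat.ble 9145 i)) (Bool.rec (motive := fun _ => List ℕ) (rw9146) (rw9147) (Nat.ble 9147 i)) (Nat.ble 9146 i)) (Bool.rec (motive := fun _ => List ℕ) (Bool.rec (motive := fun _ => List ℕ) (rw9148) (rw9149) (Nat.ble 9149 i)) (Bool.rec (motive := fun _ => List ℕ) (rw9150) (rw9151) (Nat.ble 9151 i)) (Nat.ble 9150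 i)) (Nat.ble 9148 i)) (Nat.ble 9144 i)) (Nat.ble 9136 i)) (Nat.ble 9120 i)
noncomputable def rwb143 (i : ℕ) : List ℕ := Bool.rec (motive := fun _ => List ℕ) (Bool.rec (motive := fun _ => List ℕ) (Bool.rec (motive := fun _ => List ℕ) (Bool.rec (motive := fun _ => List ℕ) (Bool.rec (motive := fun _ => List ℕ) (Bool.rec (motive := fun _ => List ℕ) (rw9152) (rw9153) (Nat.ble 9153 i)) (Bool.rec (motive := fun _ => List ℕ) (rw9154) (rw9155) (Nat.ble 9155 i)) (Nat.ble 9154 i)) (Bool.rec (motive := fun _ => List ℕ) (Bool.rec (motive := fun _ => List ℕ) (rw9156) (rw9157) (Nat.ble 9157 i)) (Bool.rec (motive := fun _ => List ℕ) (rw9158) (rw9159) (Nat.ble 9159 i)) (Nat.ble 9158 i)) (Nat.ble 9156 i)) (Bool.rec (motive := fun _ => List ℕ) (Bool.rec (motive := fun _ => List ℕ) (Bool.rec (motive := fun _ => List ℕ)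 (rw9160) (rw9161) (Nat.ble 9161 i)) (Bool.rec (motive := fun _ => List ℕ) (rw9162) (rw9163) (Nat.ble 9163 i)) (Nat.ble 9162 i)) (Bool.rec (motive := fun _ => List ℕ) (Bool.rec (motive := fun _ => List ℕ) (rw9164) (rw9165) (Nat.ble 9165 i)) (Bool.rec (motive := fun _ => List ℕ) (rw9166) (rw9167) (Nat.ble 9167 i)) (Nat.ble 9166 i)) (Nat.ble 9164 i)) (Nat.ble 9160 i)) (Bool.rec (motive := fun _ => List ℕ) (Bool.rec (motive := fun _ => List ℕ) (Bool.rec (motive := fun _ => List ℕ) (Bool.rec (motive := fun _ => List ℕ) (rw9168) (rw9169) (Nat.ble 9169 i)) (Bool.rec (motive := fun _ => List ℕ) (rw9170) (rw9171) (Nat.ble 9171 i)) (Nat.ble 9170 i)) (Bool.rec (motive := fun _ => List ℕ) (Bool.rec (motive := fun _ => List ℕ) (rw9172) (rw9173) (Nat.ble 9173 i)) (Bool.rec (motive := fun _ => List ℕ) (rw9174) (rw9175)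 (Nat.ble 9175 i)) (Nat.ble 9174 i)) (Nat.ble 9172 i)) (Bool.rec (motive := fun _ => List ℕ) (Bool.rec (motive := fun _ => List ℕ) (Bool.rec (motive := fun _ => List ℕ) (rw9176) (rw9177) (Nat.ble 9177 i)) (Bool.rec (motive := fun _ => List ℕ) (rw9178) (rw9179) (Nat.ble 9179 i)) (Nat.ble 9178 i)) (Bool.rec (motive := fun _ => List ℕ) (Bool.rec (motive := fun _ => List ℕ) (rw9180) (rw9181) (Nat.ble 9181 i)) (Bool.rec (motive := fun _ => List ℕ) (rw9182) (rw9183) (Nat.ble 9183 i)) (Nat.ble 9182 i)) (Nat.ble 9180 i)) (Nat.ble 9176 i)) (Nat.ble 9168 i)) (Bool.rec (motive := fun _ => List ℕ) (Bool.rec (motive := fun _ => List ℕ) (Bool.rec (motive := fun _ => List ℕ) (Bool.rec (motive := fun _ => List ℕ) (Bool.rec (motive := fun _ => List ℕ) (rw9184) (rw9185) (Nat.ble 9185 i)) (Bool.rec (motive := fun _ => List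 ℕ) (rw9186) (rw9187) (Nat.ble 9187 i)) (Nat.ble 9186 i)) (Bool.rec (motive := fun _ => List ℕ) (Bool.rec (motive := fun _ => List ℕ) (rw9188) (rw9189) (Nat.ble 9189 i)) (Bool.rec (motive := fun _ => List ℕ) (rw9190) (rw9191) (Nat.ble 9191 i)) (Nat.ble 9190 i)) (Nat.ble 9188 i)) (Bool.rec (motive := fun _ => List ℕ) (Bool.rec (motive := fun _ => List ℕ) (Bool.rec (motive := fun _ => List ℕ) (rw9192) (rw9193) (Nat.ble 9193 i)) (Bool.rec (motive := fun _ => List ℕ) (rw9194) (rw9195) (Nat.ble 9195 i)) (Nat.ble 9194 i)) (Bool.rec (motive := fun _ => List ℕ) (Bool.rec (motive := fun _ => List ℕ) (rw9196) (rw9197) (Nat.ble 9197 i)) (Bool.rec (motive := fun _ => List ℕ) (rw9198) (rw9199) (Nat.ble 9199 i)) (Nat.ble 9198 i)) (Nat.ble 9196 i)) (Nat.ble 9192 i)) (Bool.rec (motive := fun _ => List ℕ) (Bool.rec (motive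 := fun _ => List ℕ) (Bool.rec (motive := fun _ => List ℕ) (Bool.rec (motive := fun _ => List ℕ) (rw9200) (rw9201) (Nat.ble 9201 i)) (Bool.rec (motive := fun _ => List ℕ) (rw9202) (rw9203) (Nat.ble 9203 i)) (Nat.ble 9202 i)) (Bool.rec (motive := fun _ => List ℕ) (Bool.rec (motive := fun _ => List ℕ) (rw9204) (rw9205) (Nat.ble 9205 i)) (Bool.rec (motive := fun _ => List ℕ) (rw9206) (rw9207) (Nat.ble 9207 i)) (Nat.ble 9206 i)) (Nat.ble 9204 i)) (Bool.rec (motive := fun _ => List ℕ) (Bool.rec (motive := fun _ => List ℕ) (Bool.rec (motive := fun _ => List ℕ) (rw9208) (rw9209) (Nat.ble 9209 i)) (Bool.rec (motive := fun _ => List ℕ) (rw9210) (rw9211) (Nat.ble 9211 i)) (Nat.ble 9210 i)) (Bool.rec (motive := fun _ => List ℕ) (Bool.rec (motive := fun _ => List ℕ) (rw9212) (rw9213) (Nat.ble 9213 i)) (Bool.rec (motive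 := fun _ => List ℕ) (rw9214) (rw9215) (Nat.ble 9215 i)) (Nat.ble 9214 i)) (Nat.ble 9212 i)) (Nat.ble 9208 i)) (Nat.ble 9200 i)) (Nat.ble 9184 i)
noncomputable def rwb144 (i : ℕ) : List ℕ := Bool.rec (motive := fun _ => List ℕ) (Bool.rec (motive := fun _ => List ℕ) (Bool.rec (motive := fun _ => List ℕ) (rw9216) (Bool.rec (motive := fun _ => List ℕ) (rw9217) (rw9218) (Nat.ble 9218 i)) (Nat.ble 9217 i)) (Bool.rec (motive := fun _ => List ℕ) (rw9219) (Bool.rec (motive := fun _ => List ℕ) (rw9220) (rw9221) (Nat.ble 9221 i)) (Nat.ble 9220 i)) (Nat.ble 9219 i)) (Bool.rec (motive := fun _ => List ℕ) (Bool.rec (motive := fun _ => List ℕ) (rw9222) (Bool.rec (motive := fun _ => List ℕ) (rw9223) (rw9224) (Nat.ble 9224 i)) (Nat.ble 9223 i)) (Bool.rec (motive := fun _ => List ℕ) (rw9225) (Bool.rec (motive := fun _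 => List ℕ) (rw9226) (rw9227) (Nat.ble 9227 i)) (Nat.ble 9226 i)) (Nat.ble 9225 i)) (Nat.ble 9222 i)
noncomputable def relW (i : ℕ) : List ℕ := Bool.rec (motive := fun _ => List ℕ) (Bool.rec (motive := fun _ => List ℕ) (Bool.rec (motive := fun _ => List ℕ) (Bool.rec (motive := fun _ => List ℕ) (Bool.rec (motive := fun _ => List ℕ) (Bool.rec (motive := fun _ => List ℕ) (Bool.rec (motive := fun _ => List ℕ) (rwb0 i) (rwb1 i) (Nat.ble 64 i)) (Bool.rec (motive := fun _ => List ℕ) (rwb2 i) (rwb3 i) (Nat.ble 192 i)) (Nat.ble 128 i)) (Bool.rec (motive := fun _ => List ℕ) (Bool.rec (motive := fun _ => List ℕ) (rwb4 i) (rwb5 i) (Nat.ble 320 i)) (Bool.rec (motive := fun _ => List ℕ) (rwb6 i) (Bool.rec (motive := fun _ => List ℕ) (rwb7 i) (rwb8 i) (Nat.ble 512 i)) (Nat.ble 448 i)) (Nat.ble 384 i)) (Nat.ble 256 i))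 (Bool.rec (motive := fun _ => List ℕ) (Bool.rec (motive := fun _ => List ℕ) (Bool.rec (motive := fun _ => List ℕ) (rwb9 i) (rwb10 i) (Nat.ble 640 i)) (Bool.rec (motive := fun _ => List ℕ) (rwb11 i) (rwb12 i) (Nat.ble 768 i)) (Nat.ble 704 i)) (Bool.rec (motive := fun _ => List ℕ) (Bool.rec (motive := fun _ => List ℕ) (rwb13 i) (rwb14 i) (Nat.ble 896 i)) (Bool.rec (motive := fun _ => List ℕ) (rwb15 i) (Bool.rec (motive := fun _ => List ℕ) (rwb16 i) (rwb17 i) (Nat.ble 1088 i)) (Nat.ble 1024 i)) (Nat.ble 960 i)) (Nat.ble 832 i)) (Nat.ble 576 i)) (Bool.rec (motive := fun _ => List ℕ) (Bool.rec (motive := fun _ => List ℕ) (Bool.rec (motive := fun _ => List ℕ) (Bool.rec (motive := fun _ => List ℕ) (rwb18 i) (rwb19 i) (Nat.ble 1216 i)) (Bool.rec (motive := fun _ => List ℕ) (rwb20 i) (rwb21 i) (Nat.ble 1344 i))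 (Nat.ble 1280 i)) (Bool.rec (motive := fun _ => List ℕ) (Bool.rec (motive := fun _ => List ℕ) (rwb22 i) (rwb23 i) (Nat.ble 1472 i)) (Bool.rec (motive := fun _ => List ℕ) (rwb24 i) (Bool.rec (motive := fun _ => List ℕ) (rwb25 i) (rwb26 i) (Nat.ble 1664 i)) (Nat.ble 1600 i)) (Nat.ble 1536 i)) (Nat.ble 1408 i)) (Bool.rec (motive := fun _ => List ℕ) (Bool.rec (motive := fun _ => List ℕ) (Bool.rec (motive := fun _ => List ℕ) (rwb27 i) (rwb28 i) (Nat.ble 1792 i)) (Bool.rec (motive := fun _ => List ℕ) (rwb29 i) (rwb30 i) (Nat.ble 1920 i)) (Nat.ble 1856 i)) (Bool.rec (motive := fun _ => List ℕ) (Bool.rec (motive := fun _ => List ℕ) (rwb31 i) (rwb32 i) (Nat.ble 2048 i)) (Bool.rec (motive := fun _ => List ℕ) (rwb33 i) (Bool.rec (motive := fun _ => List ℕ) (rwb34 i) (rwb35 i) (Nat.ble 2240 i)) (Nat.ble 2176 i))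 (Nat.ble 2112 i)) (Nat.ble 1984 i)) (Nat.ble 1728 i)) (Nat.ble 1152 i)) (Bool.rec (motive := fun _ => List ℕ) (Bool.rec (motive := fun _ => List ℕ) (Bool.rec (motive := fun _ => List ℕ) (Bool.rec (motive := fun _ => List ℕ) (Bool.rec (motive := fun _ => List ℕ) (rwb36 i) (rwb37 i) (Nat.ble 2368 i)) (Bool.rec (motive := fun _ => List ℕ) (rwb38 i) (rwb39 i) (Nat.ble 2496 i)) (Nat.ble 2432 i)) (Bool.rec (motive := fun _ => List ℕ) (Bool.rec (motive := fun _ => List ℕ) (rwb40 i) (rwb41 i) (Nat.ble 2624 i)) (Bool.rec (motive := fun _ => List ℕ) (rwb42 i) (Bool.rec (motive := fun _ => List ℕ) (rwb43 i) (rwb44 i) (Nat.ble 2816 i)) (Nat.ble 2752 i)) (Nat.ble 2688 i)) (Nat.ble 2560 i)) (Bool.rec (motive := fun _ => List ℕ) (Bool.rec (motive := fun _ => List ℕ) (Bool.rec (motive := fun _ => List ℕ) (rwb45 i) (rwb46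 i) (Nat.ble 2944 i)) (Bool.rec (motive := fun _ => List ℕ) (rwb47 i) (rwb48 i) (Nat.ble 3072 i)) (Nat.ble 3008 i)) (Bool.rec (motive := fun _ => List ℕ) (Bool.rec (motive := fun _ => List ℕ) (rwb49 i) (rwb50 i) (Nat.ble 3200 i)) (Bool.rec (motive := fun _ => List ℕ) (rwb51 i) (Bool.rec (motive := fun _ => List ℕ) (rwb52 i) (rwb53 i) (Nat.ble 3392 i)) (Nat.ble 3328 i)) (Nat.ble 3264 i)) (Nat.ble 3136 i)) (Nat.ble 2880 i)) (Bool.rec (motive := fun _ => List ℕ) (Bool.rec (motive := fun _ => List ℕ) (Bool.rec (motive := fun _ => List ℕ) (Bool.rec (motive := fun _ => List ℕ) (rwb54 i) (rwb55 i) (Nat.ble 3520 i)) (Bool.rec (motive := fun _ => List ℕ) (rwb56 i) (rwb57 i) (Nat.ble 3648 i)) (Nat.ble 3584 i)) (Bool.rec (motive := fun _ => List ℕ) (Bool.rec (motive := fun _ => List ℕ) (rwb58 i) (rwb59 i) (Nat.ble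 3776 i)) (Bool.rec (motive := fun _ => List ℕ) (rwb60 i) (Bool.rec (motive := fun _ => List ℕ) (rwb61 i) (rwb62 i) (Nat.ble 3968 i)) (Nat.ble 3904 i)) (Nat.ble 3840 i)) (Nat.ble 3712 i)) (Bool.rec (motive := fun _ => List ℕ) (Bool.rec (motive := fun _ => List ℕ) (Bool.rec (motive := fun _ => List ℕ) (rwb63 i) (rwb64 i) (Nat.ble 4096 i)) (Bool.rec (motive := fun _ => List ℕ) (rwb65 i) (rwb66 i) (Nat.ble 4224 i)) (Nat.ble 4160 i)) (Bool.rec (motive := fun _ => List ℕ) (Bool.rec (motive := fun _ => List ℕ) (rwb67 i) (rwb68 i) (Nat.ble 4352 i)) (Bool.rec (motive := fun _ => List ℕ) (rwb69 i) (Bool.rec (motive := fun _ => List ℕ) (rwb70 i) (rwb71 i) (Nat.ble 4544 i)) (Nat.ble 4480 i)) (Nat.ble 4416 i)) (Nat.ble 4288 i)) (Nat.ble 4032 i)) (Nat.ble 3456 i)) (Nat.ble 2304 i)) (Bool.rec (motive := fun _ => List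 ℕ) (Bool.rec (motive := fun _ => List ℕ) (Bool.rec (motive := fun _ => List ℕ) (Bool.rec (motive := fun _ => List ℕ) (Bool.rec (motive := fun _ => List ℕ) (Bool.rec (motive := fun _ => List ℕ) (rwb72 i) (rwb73 i) (Nat.ble 4672 i)) (Bool.rec (motive := fun _ => List ℕ) (rwb74 i) (rwb75 i) (Nat.ble 4800 i)) (Nat.ble 4736 i)) (Bool.rec (motive := fun _ => List ℕ) (Bool.rec (motive := fun _ => List ℕ) (rwb76 i) (rwb77 i) (Nat.ble 4928 i)) (Bool.rec (motive := fun _ => List ℕ) (rwb78 i) (Bool.rec (motive := fun _ => List ℕ) (rwb79 i) (rwb80 i) (Nat.ble 5120 i)) (Nat.ble 5056 i)) (Nat.ble 4992 i)) (Nat.ble 4864 i)) (Bool.rec (motive := fun _ => List ℕ) (Bool.rec (motive := fun _ => List ℕ) (Bool.rec (motive := fun _ => List ℕ) (rwb81 i) (rwb82 i) (Nat.ble 5248 i)) (Bool.rec (motive := fun _ => List ℕ) (rwb83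 i) (rwb84 i) (Nat.ble 5376 i)) (Nat.ble 5312 i)) (Bool.rec (motive := fun _ => List ℕ) (Bool.rec (motive := fun _ => List ℕ) (rwb85 i) (rwb86 i) (Nat.ble 5504 i)) (Bool.rec (motive := fun _ => List ℕ) (rwb87 i) (Bool.rec (motive := fun _ => List ℕ) (rwb88 i) (rwb89 i) (Nat.ble 5696 i)) (Nat.ble 5632 i)) (Nat.ble 5568 i)) (Nat.ble 5440 i)) (Nat.ble 5184 i)) (Bool.rec (motive := fun _ => List ℕ) (Bool.rec (motive := fun _ => List ℕ) (Bool.rec (motive := fun _ => List ℕ) (Bool.rec (motive := fun _ => List ℕ) (rwb90 i) (rwb91 i) (Nat.ble 5824 i)) (Bool.rec (motive := fun _ => List ℕ) (rwb92 i) (rwb93 i) (Nat.ble 5952 i)) (Nat.ble 5888 i)) (Bool.rec (motive := fun _ => List ℕ) (Bool.rec (motive := fun _ => List ℕ) (rwb94 i) (rwb95 i) (Nat.ble 6080 i)) (Bool.rec (motive := fun _ => List ℕ) (rwb96 i) (Bool.rec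 (motive := fun _ => List ℕ) (rwb97 i) (rwb98 i) (Nat.ble 6272 i)) (Nat.ble 6208 i)) (Nat.ble 6144 i)) (Nat.ble 6016 i)) (Bool.rec (motive := fun _ => List ℕ) (Bool.rec (motive := fun _ => List ℕ) (Bool.rec (motive := fun _ => List ℕ) (rwb99 i) (rwb100 i) (Nat.ble 6400 i)) (Bool.rec (motive := fun _ => List ℕ) (rwb101 i) (rwb102 i) (Nat.ble 6528 i)) (Nat.ble 6464 i)) (Bool.rec (motive := fun _ => List ℕ) (Bool.rec (motive := fun _ => List ℕ) (rwb103 i) (rwb104 i) (Nat.ble 6656 i)) (Bool.rec (motive := fun _ => List ℕ) (rwb105 i) (Bool.rec (motive := fun _ => List ℕ) (rwb106 i) (rwb107 i) (Nat.ble 6848 i)) (Nat.ble 6784 i)) (Nat.ble 6720 i)) (Nat.ble 6592 i)) (Nat.ble 6336 i)) (Nat.ble 5760 i)) (Bool.rec (motive := fun _ => List ℕ) (Bool.rec (motive := fun _ => List ℕ) (Bool.rec (motive := fun _ => List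 ℕ) (Bool.rec (motive := fun _ => List ℕ) (Bool.rec (motive := fun _ => List ℕ) (rwb108 i) (rwb109 i) (Nat.ble 6976 i)) (Bool.rec (motive := fun _ => List ℕ) (rwb110 i) (rwb111 i) (Nat.ble 7104 i)) (Nat.ble 7040 i)) (Bool.rec (motive := fun _ => List ℕ) (Bool.rec (motive := fun _ => List ℕ) (rwb112 i) (rwb113 i) (Nat.ble 7232 i)) (Bool.rec (motive := fun _ => List ℕ) (rwb114 i) (Bool.rec (motive := fun _ => List ℕ) (rwb115 i) (rwb116 i) (Nat.ble 7424 i)) (Nat.ble 7360 i)) (Nat.ble 7296 i)) (Nat.ble 7168 i)) (Bool.rec (motive := fun _ => List ℕ) (Bool.rec (motive := fun _ => List ℕ) (Bool.rec (motive := fun _ => List ℕ) (rwb117 i) (rwb118 i) (Nat.ble 7552 i)) (Bool.rec (motive := fun _ => List ℕ) (rwb119 i) (rwb120 i) (Nat.ble 7680 i)) (Nat.ble 7616 i)) (Bool.rec (motive := fun _ => List ℕ) (Bool.rec (motive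 := fun _ => List ℕ) (rwb121 i) (rwb122 i) (Nat.ble 7808 i)) (Bool.rec (motive := fun _ => List ℕ) (rwb123 i) (Bool.rec (motive := fun _ => List ℕ) (rwb124 i) (rwb125 i) (Nat.ble 8000 i)) (Nat.ble 7936 i)) (Nat.ble 7872 i)) (Nat.ble 7744 i)) (Nat.ble 7488 i)) (Bool.rec (motive := fun _ => List ℕ) (Bool.rec (motive := fun _ => List ℕ) (Bool.rec (motive := fun _ => List ℕ) (Bool.rec (motive := fun _ => List ℕ) (rwb126 i) (rwb127 i) (Nat.ble 8128 i)) (Bool.rec (motive := fun _ => List ℕ) (rwb128 i) (rwb129 i) (Nat.ble 8256 i)) (Nat.ble 8192 i)) (Bool.rec (motive := fun _ => List ℕ) (Bool.rec (motive := fun _ => List ℕ) (rwb130 i) (rwb131 i) (Nat.ble 8384 i)) (Bool.rec (motive := fun _ => List ℕ) (rwb132 i) (Bool.rec (motive := fun _ => List ℕ) (rwb133 i) (rwb134 i) (Nat.ble 8576 i)) (Nat.ble 8512 i)) (Nat.ble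 8448 i)) (Nat.ble 8320 i)) (Bool.rec (motive := fun _ => List ℕ) (Bool.rec (motive := fun _ => List ℕ) (Bool.rec (motive := fun _ => List ℕ) (rwb135 i) (rwb136 i) (Nat.ble 8704 i)) (Bool.rec (motive := fun _ => List ℕ) (rwb137 i) (Bool.rec (motive := fun _ => List ℕ) (rwb138 i) (rwb139 i) (Nat.ble 8896 i)) (Nat.ble 8832 i)) (Nat.ble 8768 i)) (Bool.rec (motive := fun _ => List ℕ) (Bool.rec (motive := fun _ => List ℕ) (rwb140 i) (rwb141 i) (Nat.ble 9024 i)) (Bool.rec (motive := fun _ => List ℕ) (rwb142 i) (Bool.rec (motive := fun _ => List ℕ) (rwb143 i) (rwb144 i) (Nat.ble 9216 i)) (Nat.ble 9152 i)) (Nat.ble 9088 i)) (Nat.ble 8960 i)) (Nat.ble 8640 i)) (Nat.ble 8064 i)) (Nat.ble 6912 i)) (Nat.ble 4608 i)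
def sw0 : List ℕ := [0]
def sw1 : List ℕ := [2]
def sw2 : List ℕ := [4]
noncomputable def subW (i : ℕ) : List ℕ := Bool.rec (motive := fun _ => List ℕ) (sw0) (Bool.rec (motive := fun _ => List ℕ) (sw1) (sw2) (Nat.ble 2 i)) (Nat.ble 1 i)

noncomputable def data : Data where
  w := 15
  mask := 32767
  tw := 17
  tmask := 131071
  hsh := 32
  lsh := 47
  ew := 49
  emask := 562949953421311
  mw := 55
  mmask := 36028797018963967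
  jw := 32
  jmask := 4294967295
  bsh := 11
  bmask := 2047
  nc := 8
  fuel := 8
  E := eT
  J := jT
  Mg := mgT
  JM := jmT
  relW := relW
  nrot := 9228
  subW := subW
  nsub := 3

def M : ℕ := 21917
def n : ℕ := 4116

def bw0 : List ℕ := [0, 0, 0, 0, 0, 0, 0, 0, 0, 0, 0, 0, 0, 0, 0, 0, 0]
def bw1 : List ℕ := [2, 2, 2, 2, 2, 2, 2, 2, 2, 2, 2, 2, 2, 2, 2, 2, 2]
def bw2 : List ℕ := [4, 4, 4, 4, 4, 4, 4, 4, 4, 4, 4, 4, 4, 4, 4, 4, 4]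
def bw3 : List ℕ := [6, 6, 6, 6, 6, 6, 6, 6, 6, 6, 6, 6, 6, 6, 6, 6, 6]
def bw4 : List ℕ := [3, 3, 3, 3, 3, 0, 0, 0, 0, 3, 0, 2, 1, 1, 1, 1, 2, 2, 2, 2, 2, 0]
def bw5 : List ℕ := [0, 2, 0, 3, 1, 3]
def bw6 : List ℕ := [0, 0, 2, 0, 3, 3, 1, 3]
def bw7 : List ℕ := [0, 0, 3, 1, 3, 3, 0, 2]
def bw8 : List ℕ := [0, 0, 0, 2, 0, 3, 3, 3, 1, 3]
def bw9 : List ℕ := [0, 0, 0, 3, 1, 3, 3, 3, 0, 2]
def bw10 : List ℕ := [0, 0, 0, 0, 2, 0, 3, 3, 3, 3, 1, 3]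
def bw11 : List ℕ := [0, 0, 0, 0, 3, 1, 3, 3, 3, 3, 0, 2]
def bw12 : List ℕ := [0, 0, 0, 0, 0, 2, 0, 3, 3, 3, 3, 3, 1, 3]
def bw13 : List ℕ := [0, 0, 0, 0, 0, 3, 1, 3, 3, 3, 3, 3, 0, 2]
def bw14 : List ℕ := [0, 0, 0, 0, 0, 0, 2, 0, 3, 3, 3, 3, 3, 3, 1, 3]
def bw15 : List ℕ := [0, 0, 0, 0, 0, 0, 3, 1, 3, 3, 3, 3, 3, 3, 0, 2]
def bw16 : List ℕ := [0, 4, 1, 4, 1, 4, 0, 5, 0, 5]
def bw17 : List ℕ := [2, 4, 2, 4, 2, 5, 3, 5, 3, 5]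
def bw18 : List ℕ := [0, 0, 4, 1, 4, 1, 4, 4, 0, 5, 0, 5]
def bw19 : List ℕ := [0, 0, 5, 0, 5, 0, 4, 4, 1, 4, 1, 4]
def bw20 : List ℕ := [2, 2, 4, 2, 4, 2, 5, 5, 3, 5, 3, 5]
def bw21 : List ℕ := [2, 2, 5, 3, 5, 3, 5, 5, 2, 4, 2, 4]
def bw22 : List ℕ := [3, 6, 3, 3, 3, 0, 3, 0, 0, 6, 1, 1, 2, 1, 2, 2, 2, 7, 2, 1, 1, 1, 1, 1, 1, 1, 1, 1, 1, 1, 1, 1]
def bw23 : List ℕ := [1, 3, 1, 1, 3, 1, 1, 0, 0, 0, 2, 0, 0, 2]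
def bw24 : List ℕ := [3, 3, 1, 1, 3, 1, 1, 2, 0, 0, 2, 0, 0, 2]
def bw25 : List ℕ := [5, 3, 1, 1, 3, 1, 1, 4, 0, 0, 2, 0, 0, 2]
def bw26 : List ℕ := [7, 3, 1, 1, 3, 1, 1, 6, 0, 0, 2, 0, 0, 2]
def bw27 : List ℕ := [1, 3, 1, 3, 1, 3, 1, 0, 0, 2, 0, 2, 0, 2]
def bw28 : List ℕ := [3, 3, 1, 3, 1, 3, 1, 2, 0, 2, 0, 2, 0, 2]
def bw29 : List ℕ := [5, 3, 1, 3, 1, 3, 1, 4, 0, 2, 0, 2, 0, 2]
def bw30 : List ℕ := [7, 3, 1, 3, 1, 3, 1, 6, 0, 2, 0, 2, 0, 2]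
def bw31 : List ℕ := [1, 3, 3, 1, 3, 3, 1, 0, 0, 2, 2, 0, 2, 2]
def bw32 : List ℕ := [3, 3, 3, 1, 3, 3, 1, 2, 0, 2, 2, 0, 2, 2]
def bw33 : List ℕ := [5, 3, 3, 1, 3, 3, 1, 4, 0, 2, 2, 0, 2, 2]
def bw34 : List ℕ := [7, 3, 3, 1, 3, 3, 1, 6, 0, 2, 2, 0, 2, 2]
def bw35 : List ℕ := [1, 3, 3, 3, 1, 3, 0, 3, 1, 0, 0, 2, 1, 2, 0, 2, 2, 2]
def bw36 : List ℕ := [3, 3, 3, 3, 1, 3, 0, 3, 1, 2, 0, 2, 1, 2, 0, 2, 2, 2]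
def bw37 : List ℕ := [5, 3, 3, 3, 1, 3, 0, 3, 1, 4, 0, 2, 1, 2, 0, 2, 2, 2]
def bw38 : List ℕ := [7, 3, 3, 3, 1, 3, 0, 3, 1, 6, 0, 2, 1, 2, 0, 2, 2, 2]
def bw39 : List ℕ := [1, 2, 2, 0, 2, 1, 2, 1, 3, 1, 1, 0, 0, 0, 2, 0, 3, 0, 3, 1, 3, 3]
def bw40 : List ℕ := [3, 2, 2, 0, 2, 1, 2, 1, 3, 1, 1, 2, 0, 0, 2, 0, 3, 0, 3, 1, 3, 3]
def bw41 : List ℕ := [5, 2, 2, 0, 2, 1, 2, 1, 3, 1, 1, 4, 0, 0, 2, 0, 3, 0, 3, 1, 3, 3]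
def bw42 : List ℕ := [7, 2, 2, 0, 2, 1, 2, 1, 3, 1, 1, 6, 0, 0, 2, 0, 3, 0, 3, 1, 3, 3]
def bw43 : List ℕ := [1, 2, 0, 2, 2, 2, 2, 0, 2, 1, 1, 0, 0, 0, 3, 1, 3, 3, 3, 3, 1, 3]
def bw44 : List ℕ := [3, 2, 0, 2, 2, 2, 2, 0, 2, 1, 1, 2, 0, 0, 3, 1, 3, 3, 3, 3, 1, 3]
def bw45 : List ℕ := [5, 2, 0, 2, 2, 2, 2, 0, 2, 1, 1, 4, 0, 0, 3, 1, 3, 3, 3, 3, 1, 3]
def bw46 : List ℕ := [7, 2, 0, 2, 2, 2, 2, 0, 2, 1, 1, 6, 0, 0, 3, 1, 3, 3, 3, 3, 1, 3]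
def bw47 : List ℕ := [1, 3, 1, 2, 1, 2, 0, 2, 2, 1, 1, 0, 0, 0, 3, 3, 1, 3, 0, 3, 0, 2]
def bw48 : List ℕ := [3, 3, 1, 2, 1, 2, 0, 2, 2, 1, 1, 2, 0, 0, 3, 3, 1, 3, 0, 3, 0, 2]
def bw49 : List ℕ := [5, 3, 1, 2, 1, 2, 0, 2, 2, 1, 1, 4, 0, 0, 3, 3, 1, 3, 0, 3, 0, 2]
def bw50 : List ℕ := [7, 3, 1, 2, 1, 2, 0, 2, 2, 1, 1, 6, 0, 0, 3, 3, 1, 3, 0, 3, 0, 2]
def bw51 : List ℕ := [1, 3, 3, 0, 3, 1, 3, 3, 0, 3, 1, 0, 0, 2, 1, 2, 2, 0, 2, 1, 2, 2]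
def bw52 : List ℕ := [3, 3, 3, 0, 3, 1, 3, 3, 0, 3, 1, 2, 0, 2, 1, 2, 2, 0, 2, 1, 2, 2]
def bw53 : List ℕ := [5, 3, 3, 0, 3, 1, 3, 3, 0, 3, 1, 4, 0, 2, 1, 2, 2, 0, 2, 1, 2, 2]
def bw54 : List ℕ := [7, 3, 3, 0, 3, 1, 3, 3, 0, 3, 1, 6, 0, 2, 1, 2, 2, 0, 2, 1, 2, 2]
def bw55 : List ℕ := [1, 3, 0, 3, 3, 1, 3, 0, 3, 3, 1, 0, 0, 2, 2, 1, 2, 0, 2, 2, 1, 2]
def bw56 : List ℕ := [3, 3, 0, 3, 3, 1, 3, 0, 3, 3, 1, 2, 0, 2, 2, 1, 2, 0, 2, 2, 1, 2]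
def bw57 : List ℕ := [5, 3, 0, 3, 3, 1, 3, 0, 3, 3, 1, 4, 0, 2, 2, 1, 2, 0, 2, 2, 1, 2]
def bw58 : List ℕ := [7, 3, 0, 3, 3, 1, 3, 0, 3, 3, 1, 6, 0, 2, 2, 1, 2, 0, 2, 2, 1, 2]
def bw59 : List ℕ := [1, 2, 2, 0, 2, 1, 2, 2, 1, 3, 1, 1, 1, 0, 0, 0, 0, 2, 0, 3, 3, 0, 3, 1, 3, 3]
def bw60 : List ℕ := [3, 2, 2, 0, 2, 1, 2, 2, 1, 3, 1, 1, 1, 2, 0, 0, 0, 2, 0, 3, 3, 0, 3, 1, 3, 3]
def bw61 : List ℕ := [5, 2, 2, 0, 2, 1, 2, 2, 1, 3, 1, 1, 1, 4, 0, 0, 0, 2, 0, 3, 3, 0, 3, 1, 3, 3]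
def bw62 : List ℕ := [7, 2, 2, 0, 2, 1, 2, 2, 1, 3, 1, 1, 1, 6, 0, 0, 0, 2, 0, 3, 3, 0, 3, 1, 3, 3]
def bw63 : List ℕ := [1, 2, 0, 2, 2, 2, 2, 2, 0, 2, 1, 1, 1, 0, 0, 0, 0, 3, 1, 3, 3, 3, 3, 3, 1, 3]
def bw64 : List ℕ := [3, 2, 0, 2, 2, 2, 2, 2, 0, 2, 1, 1, 1, 2, 0, 0, 0, 3, 1, 3, 3, 3, 3, 3, 1, 3]
def bw65 : List ℕ := [5, 2, 0, 2, 2, 2, 2, 2, 0, 2, 1, 1, 1, 4, 0, 0, 0, 3, 1, 3, 3, 3, 3, 3, 1, 3]
def bw66 : List ℕ := [7, 2, 0, 2, 2, 2, 2, 2, 0, 2, 1, 1, 1, 6, 0, 0, 0, 3, 1, 3, 3, 3, 3, 3, 1, 3]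
def bw67 : List ℕ := [1, 3, 1, 2, 2, 1, 2, 0, 2, 2, 1, 1, 1, 0, 0, 0, 0, 3, 3, 1, 3, 0, 3, 3, 0, 2]
def bw68 : List ℕ := [3, 3, 1, 2, 2, 1, 2, 0, 2, 2, 1, 1, 1, 2, 0, 0, 0, 3, 3, 1, 3, 0, 3, 3, 0, 2]
def bw69 : List ℕ := [5, 3, 1, 2, 2, 1, 2, 0, 2, 2, 1, 1, 1, 4, 0, 0, 0, 3, 3, 1, 3, 0, 3, 3, 0, 2]
def bw70 : List ℕ := [7, 3, 1, 2, 2, 1, 2, 0, 2, 2, 1, 1, 1, 6, 0, 0, 0, 3, 3, 1, 3, 0, 3, 3, 0, 2]
def bw71 : List ℕ := [1, 2, 2, 2, 0, 2, 1, 1, 2, 1, 3, 1, 1, 0, 0, 0, 2, 0, 3, 0, 0, 3, 1, 3, 3, 3]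
def bw72 : List ℕ := [3, 2, 2, 2, 0, 2, 1, 1, 2, 1, 3, 1, 1, 2, 0, 0, 2, 0, 3, 0, 0, 3, 1, 3, 3, 3]
def bw73 : List ℕ := [5, 2, 2, 2, 0, 2, 1, 1, 2, 1, 3, 1, 1, 4, 0, 0, 2, 0, 3, 0, 0, 3, 1, 3, 3, 3]
def bw74 : List ℕ := [7, 2, 2, 2, 0, 2, 1, 1, 2, 1, 3, 1, 1, 6, 0, 0, 2, 0, 3, 0, 0, 3, 1, 3, 3, 3]
def bw75 : List ℕ := [1, 2, 1, 2, 0, 2, 2, 1, 2, 1, 3, 1, 1, 0, 0, 0, 2, 0, 3, 0, 3, 3, 1, 3, 0, 3]
def bw76 : List ℕ := [3, 2, 1, 2, 0, 2, 2, 1, 2, 1, 3, 1, 1, 2, 0, 0, 2, 0, 3, 0, 3, 3, 1, 3, 0, 3]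
def bw77 : List ℕ := [5, 2, 1, 2, 0, 2, 2, 1, 2, 1, 3, 1, 1, 4, 0, 0, 2, 0, 3, 0, 3, 3, 1, 3, 0, 3]
def bw78 : List ℕ := [7, 2, 1, 2, 0, 2, 2, 1, 2, 1, 3, 1, 1, 6, 0, 0, 2, 0, 3, 0, 3, 3, 1, 3, 0, 3]
def bw79 : List ℕ := [1, 2, 0, 2, 2, 2, 1, 1, 3, 1, 2, 1, 1, 0, 0, 0, 3, 0, 2, 0, 0, 3, 3, 3, 1, 3]
def bw80 : List ℕ := [3, 2, 0, 2, 2, 2, 1, 1, 3, 1, 2, 1, 1, 2, 0, 0, 3, 0, 2, 0, 0, 3, 3, 3, 1, 3]
def bw81 : List ℕ := [5, 2, 0, 2, 2, 2, 1, 1, 3, 1, 2, 1, 1, 4, 0, 0, 3, 0, 2, 0, 0, 3, 3, 3, 1, 3]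
def bw82 : List ℕ := [7, 2, 0, 2, 2, 2, 1, 1, 3, 1, 2, 1, 1, 6, 0, 0, 3, 0, 2, 0, 0, 3, 3, 3, 1, 3]
def bw83 : List ℕ := [1, 3, 1, 2, 1, 2, 2, 0, 2, 1, 2, 1, 1, 0, 0, 0, 3, 0, 3, 1, 3, 3, 0, 3, 0, 2]
def bw84 : List ℕ := [3, 3, 1, 2, 1, 2, 2, 0, 2, 1, 2, 1, 1, 2, 0, 0, 3, 0, 3, 1, 3, 3, 0, 3, 0, 2]
def bw85 : List ℕ := [5, 3, 1, 2, 1, 2, 2, 0, 2, 1, 2, 1, 1, 4, 0, 0, 3, 0, 3, 1, 3, 3, 0, 3, 0, 2]
def bw86 : List ℕ := [7, 3, 1, 2, 1, 2, 2, 0, 2, 1, 2, 1, 1, 6, 0, 0, 3, 0, 3, 1, 3, 3, 0, 3, 0, 2]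
def bw87 : List ℕ := [1, 2, 2, 0, 2, 1, 2, 2, 2, 0, 2, 1, 1, 0, 0, 0, 3, 1, 3, 3, 3, 0, 3, 1, 3, 3]
def bw88 : List ℕ := [3, 2, 2, 0, 2, 1, 2, 2, 2, 0, 2, 1, 1, 2, 0, 0, 3, 1, 3, 3, 3, 0, 3, 1, 3, 3]
def bw89 : List ℕ := [5, 2, 2, 0, 2, 1, 2, 2, 2, 0, 2, 1, 1, 4, 0, 0, 3, 1, 3, 3, 3, 0, 3, 1, 3, 3]
def bw90 : List ℕ := [7, 2, 2, 0, 2, 1, 2, 2, 2, 0, 2, 1, 1, 6, 0, 0, 3, 1, 3, 3, 3, 0, 3, 1, 3, 3]
def bw91 : List ℕ := [1, 2, 0, 2, 2, 2, 1, 2, 0, 2, 2, 1, 1, 0, 0, 0, 3, 3, 1, 3, 0, 3, 3, 3, 1, 3]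
def bw92 : List ℕ := [3, 2, 0, 2, 2, 2, 1, 2, 0, 2, 2, 1, 1, 2, 0, 0, 3, 3, 1, 3, 0, 3, 3, 3, 1, 3]
def bw93 : List ℕ := [5, 2, 0, 2, 2, 2, 1, 2, 0, 2, 2, 1, 1, 4, 0, 0, 3, 3, 1, 3, 0, 3, 3, 3, 1, 3]
def bw94 : List ℕ := [7, 2, 0, 2, 2, 2, 1, 2, 0, 2, 2, 1, 1, 6, 0, 0, 3, 3, 1, 3, 0, 3, 3, 3, 1, 3]
def bw95 : List ℕ := [1, 3, 3, 0, 3, 3, 1, 3, 0, 3, 0, 3, 1, 0, 0, 2, 1, 2, 1, 2, 0, 2, 2, 1, 2, 2]
def bw96 : List ℕ := [3, 3, 3, 0, 3, 3, 1, 3, 0, 3, 0, 3, 1, 2, 0, 2, 1, 2, 1, 2, 0, 2, 2, 1, 2, 2]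
def bw97 : List ℕ := [5, 3, 3, 0, 3, 3, 1, 3, 0, 3, 0, 3, 1, 4, 0, 2, 1, 2, 1, 2, 0, 2, 2, 1, 2, 2]
def bw98 : List ℕ := [7, 3, 3, 0, 3, 3, 1, 3, 0, 3, 0, 3, 1, 6, 0, 2, 1, 2, 1, 2, 0, 2, 2, 1, 2, 2]
def bw99 : List ℕ := [1, 2, 2, 0, 2, 1, 2, 2, 2, 1, 3, 1, 1, 1, 1, 0, 0, 0, 0, 0, 2, 0, 3, 3, 3, 0, 3, 1, 3, 3]
def bw100 : List ℕ := [3, 2, 2, 0, 2, 1, 2, 2, 2, 1, 3, 1, 1, 1, 1, 2, 0, 0, 0, 0, 2, 0, 3, 3, 3, 0, 3, 1, 3, 3]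
def bw101 : List ℕ := [5, 2, 2, 0, 2, 1, 2, 2, 2, 1, 3, 1, 1, 1, 1, 4, 0, 0, 0, 0, 2, 0, 3, 3, 3, 0, 3, 1, 3, 3]
def bw102 : List ℕ := [7, 2, 2, 0, 2, 1, 2, 2, 2, 1, 3, 1, 1, 1, 1, 6, 0, 0, 0, 0, 2, 0, 3, 3, 3, 0, 3, 1, 3, 3]
def bw103 : List ℕ := [1, 4, 2, 4, 1, 4, 2, 4, 1, 0, 0, 5, 3, 5, 0, 5, 3, 5]
def bw104 : List ℕ := [3, 4, 2, 4, 1, 4, 2, 4, 1, 2, 0, 5, 3, 5, 0, 5, 3, 5]
def bw105 : List ℕ := [5, 4, 2, 4, 1, 4, 2, 4, 1, 4, 0, 5, 3, 5, 0, 5, 3, 5]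
def bw106 : List ℕ := [7, 4, 2, 4, 1, 4, 2, 4, 1, 6, 0, 5, 3, 5, 0, 5, 3, 5]
def bw107 : List ℕ := [1, 4, 1, 4, 1, 1, 4, 1, 4, 1, 1, 0, 0, 0, 5, 0, 5, 0, 0, 5, 0, 5]
def bw108 : List ℕ := [3, 4, 1, 4, 1, 1, 4, 1, 4, 1, 1, 2, 0, 0, 5, 0, 5, 0, 0, 5, 0, 5]
def bw109 : List ℕ := [5, 4, 1, 4, 1, 1, 4, 1, 4, 1, 1, 4, 0, 0, 5, 0, 5, 0, 0, 5, 0, 5]
def bw110 : List ℕ := [7, 4, 1, 4, 1, 1, 4, 1, 4, 1, 1, 6, 0, 0, 5, 0, 5, 0, 0, 5, 0, 5]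
def bw111 : List ℕ := [1, 5, 1, 5, 1, 5, 1, 5, 1, 5, 1, 0, 0, 4, 0, 4, 0, 4, 0, 4, 0, 4]
def bw112 : List ℕ := [3, 5, 1, 5, 1, 5, 1, 5, 1, 5, 1, 2, 0, 4, 0, 4, 0, 4, 0, 4, 0, 4]
def bw113 : List ℕ := [5, 5, 1, 5, 1, 5, 1, 5, 1, 5, 1, 4, 0, 4, 0, 4, 0, 4, 0, 4, 0, 4]
def bw114 : List ℕ := [7, 5, 1, 5, 1, 5, 1, 5, 1, 5, 1, 6, 0, 4, 0, 4, 0, 4, 0, 4, 0, 4]
def bw115 : List ℕ := [1, 4, 1, 4, 1, 4, 1, 4, 1, 4, 1, 0, 0, 5, 0, 5, 0, 5, 0, 5, 0, 5]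
def bw116 : List ℕ := [3, 4, 1, 4, 1, 4, 1, 4, 1, 4, 1, 2, 0, 5, 0, 5, 0, 5, 0, 5, 0, 5]
def bw117 : List ℕ := [5, 4, 1, 4, 1, 4, 1, 4, 1, 4, 1, 4, 0, 5, 0, 5, 0, 5, 0, 5, 0, 5]
def bw118 : List ℕ := [7, 4, 1, 4, 1, 4, 1, 4, 1, 4, 1, 6, 0, 5, 0, 5, 0, 5, 0, 5, 0, 5]
def bw119 : List ℕ := [1, 4, 4, 1, 4, 1, 4, 4, 1, 4, 1, 0, 0, 5, 0, 5, 5, 0, 5, 0, 5, 5]
def bw120 : List ℕ := [3, 4, 4, 1, 4, 1, 4, 4, 1, 4, 1, 2, 0, 5, 0, 5, 5, 0, 5, 0, 5, 5]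
def bw121 : List ℕ := [5, 4, 4, 1, 4, 1, 4, 4, 1, 4, 1, 4, 0, 5, 0, 5, 5, 0, 5, 0, 5, 5]
def bw122 : List ℕ := [7, 4, 4, 1, 4, 1, 4, 4, 1, 4, 1, 6, 0, 5, 0, 5, 5, 0, 5, 0, 5, 5]
def bw123 : List ℕ := [1, 5, 3, 5, 3, 3, 5, 3, 5, 3, 3, 0, 2, 2, 4, 2, 4, 2, 2, 4, 2, 4]
def bw124 : List ℕ := [3, 5, 3, 5, 3, 3, 5, 3, 5, 3, 3, 2, 2, 2, 4, 2, 4, 2, 2, 4, 2, 4]
def bw125 : List ℕ := [5, 5, 3, 5, 3, 3, 5, 3, 5, 3, 3, 4, 2, 2, 4, 2, 4, 2, 2, 4, 2, 4]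
def bw126 : List ℕ := [7, 5, 3, 5, 3, 3, 5, 3, 5, 3, 3, 6, 2, 2, 4, 2, 4, 2, 2, 4, 2, 4]
def bw127 : List ℕ := [1, 5, 3, 5, 3, 5, 3, 5, 3, 5, 3, 0, 2, 4, 2, 4, 2, 4, 2, 4, 2, 4]
def bw128 : List ℕ := [3, 5, 3, 5, 3, 5, 3, 5, 3, 5, 3, 2, 2, 4, 2, 4, 2, 4, 2, 4, 2, 4]
def bw129 : List ℕ := [5, 5, 3, 5, 3, 5, 3, 5, 3, 5, 3, 4, 2, 4, 2, 4, 2, 4, 2, 4, 2, 4]
def bw130 : List ℕ := [7, 5, 3, 5, 3, 5, 3, 5, 3, 5, 3, 6, 2, 4, 2, 4, 2, 4, 2, 4, 2, 4]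
def bw131 : List ℕ := [1, 5, 5, 3, 5, 3, 5, 5, 3, 5, 3, 0, 2, 4, 2, 4, 4, 2, 4, 2, 4, 4]
def bw132 : List ℕ := [3, 5, 5, 3, 5, 3, 5, 5, 3, 5, 3, 2, 2, 4, 2, 4, 4, 2, 4, 2, 4, 4]
def bw133 : List ℕ := [5, 5, 5, 3, 5, 3, 5, 5, 3, 5, 3, 4, 2, 4, 2, 4, 4, 2, 4, 2, 4, 4]
def bw134 : List ℕ := [7, 5, 5, 3, 5, 3, 5, 5, 3, 5, 3, 6, 2, 4, 2, 4, 4, 2, 4, 2, 4, 4]
def bw135 : List ℕ := [1, 5, 5, 5, 3, 3, 5, 3, 1, 5, 1, 1, 0, 0, 0, 4, 0, 2, 4, 2, 2, 4, 4, 4]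
def bw136 : List ℕ := [3, 5, 5, 5, 3, 3, 5, 3, 1, 5, 1, 1, 2, 0, 0, 4, 0, 2, 4, 2, 2, 4, 4, 4]
def bw137 : List ℕ := [5, 5, 5, 5, 3, 3, 5, 3, 1, 5, 1, 1, 4, 0, 0, 4, 0, 2, 4, 2, 2, 4, 4, 4]
def bw138 : List ℕ := [7, 5, 5, 5, 3, 3, 5, 3, 1, 5, 1, 1, 6, 0, 0, 4, 0, 2, 4, 2, 2, 4, 4, 4]
def bw139 : List ℕ := [1, 5, 5, 2, 4, 2, 2, 4, 1, 5, 1, 1, 0, 0, 0, 4, 0, 5, 3, 3, 5, 3, 4, 4]
def bw140 : List ℕ := [3, 5, 5, 2, 4, 2, 2, 4, 1, 5, 1, 1, 2, 0, 0, 4, 0, 5, 3, 3, 5, 3, 4, 4]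
def bw141 : List ℕ := [5, 5, 5, 2, 4, 2, 2, 4, 1, 5, 1, 1, 4, 0, 0, 4, 0, 5, 3, 3, 5, 3, 4, 4]
def bw142 : List ℕ := [7, 5, 5, 2, 4, 2, 2, 4, 1, 5, 1, 1, 6, 0, 0, 4, 0, 5, 3, 3, 5, 3, 4, 4]
def bw143 : List ℕ := [1, 5, 1, 4, 2, 2, 4, 2, 5, 5, 1, 1, 0, 0, 0, 4, 4, 3, 5, 3, 3, 5, 0, 4]
def bw144 : List ℕ := [3, 5, 1, 4, 2, 2, 4, 2, 5, 5, 1, 1, 2, 0, 0, 4, 4, 3, 5, 3, 3, 5, 0, 4]
def bw145 : List ℕ := [5, 5, 1, 4, 2, 2, 4, 2, 5, 5, 1, 1, 4, 0, 0, 4, 4, 3, 5, 3, 3, 5, 0, 4]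
def bw146 : List ℕ := [7, 5, 1, 4, 2, 2, 4, 2, 5, 5, 1, 1, 6, 0, 0, 4, 4, 3, 5, 3, 3, 5, 0, 4]
def bw147 : List ℕ := [1, 5, 1, 3, 5, 3, 3, 5, 5, 5, 1, 1, 0, 0, 0, 4, 4, 4, 2, 2, 4, 2, 0, 4]
def bw148 : List ℕ := [3, 5, 1, 3, 5, 3, 3, 5, 5, 5, 1, 1, 2, 0, 0, 4, 4, 4, 2, 2, 4, 2, 0, 4]
def bw149 : List ℕ := [5, 5, 1, 3, 5, 3, 3, 5, 5, 5, 1, 1, 4, 0, 0, 4, 4, 4, 2, 2, 4, 2, 0, 4]
def bw150 : List ℕ := [7, 5, 1, 3, 5, 3, 3, 5, 5, 5, 1, 1, 6, 0, 0, 4, 4, 4, 2, 2, 4, 2, 0, 4]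
def bw151 : List ℕ := [1, 2, 5, 5, 2, 1, 2, 2, 4, 2, 2, 1, 0, 0, 3, 3, 5, 3, 3, 0, 3, 4, 4, 3]
def bw152 : List ℕ := [3, 2, 5, 5, 2, 1, 2, 2, 4, 2, 2, 1, 2, 0, 3, 3, 5, 3, 3, 0, 3, 4, 4, 3]
def bw153 : List ℕ := [5, 2, 5, 5, 2, 1, 2, 2, 4, 2, 2, 1, 4, 0, 3, 3, 5, 3, 3, 0, 3, 4, 4, 3]
def bw154 : List ℕ := [7, 2, 5, 5, 2, 1, 2, 2, 4, 2, 2, 1, 6, 0, 3, 3, 5, 3, 3, 0, 3, 4, 4, 3]
def bw155 : List ℕ := [1, 2, 1, 4, 3, 1, 1, 1, 5, 3, 1, 1, 1, 0, 0, 0, 0, 2, 4, 0, 0, 0, 2, 5, 0, 3]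
def bw156 : List ℕ := [3, 2, 1, 4, 3, 1, 1, 1, 5, 3, 1, 1, 1, 2, 0, 0, 0, 2, 4, 0, 0, 0, 2, 5, 0, 3]
def bw157 : List ℕ := [5, 2, 1, 4, 3, 1, 1, 1, 5, 3, 1, 1, 1, 4, 0, 0, 0, 2, 4, 0, 0, 0, 2, 5, 0, 3]
def bw158 : List ℕ := [7, 2, 1, 4, 3, 1, 1, 1, 5, 3, 1, 1, 1, 6, 0, 0, 0, 2, 4, 0, 0, 0, 2, 5, 0, 3]
def bw159 : List ℕ := [1, 2, 1, 4, 0, 0, 2, 1, 5, 3, 1, 1, 1, 0, 0, 0, 0, 2, 4, 0, 3, 1, 1, 5, 0, 3]
def bw160 : List ℕ := [3, 2, 1, 4, 0, 0, 2, 1, 5, 3, 1, 1, 1, 2, 0, 0, 0, 2, 4, 0, 3, 1, 1, 5, 0, 3]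
def bw161 : List ℕ := [5, 2, 1, 4, 0, 0, 2, 1, 5, 3, 1, 1, 1, 4, 0, 0, 0, 2, 4, 0, 3, 1, 1, 5, 0, 3]
def bw162 : List ℕ := [7, 2, 1, 4, 0, 0, 2, 1, 5, 3, 1, 1, 1, 6, 0, 0, 0, 2, 4, 0, 3, 1, 1, 5, 0, 3]
def bw163 : List ℕ := [1, 2, 1, 4, 0, 3, 0, 2, 5, 3, 1, 1, 1, 0, 0, 0, 0, 2, 4, 3, 1, 2, 1, 5, 0, 3]
def bw164 : List ℕ := [3, 2, 1, 4, 0, 3, 0, 2, 5, 3, 1, 1, 1, 2, 0, 0, 0, 2, 4, 3, 1, 2, 1, 5, 0, 3]
def bw165 : List ℕ := [5, 2, 1, 4, 0, 3, 0, 2, 5, 3, 1, 1, 1, 4, 0, 0, 0, 2, 4, 3, 1, 2, 1, 5, 0, 3]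
def bw166 : List ℕ := [7, 2, 1, 4, 0, 3, 0, 2, 5, 3, 1, 1, 1, 6, 0, 0, 0, 2, 4, 3, 1, 2, 1, 5, 0, 3]
def bw167 : List ℕ := [1, 5, 0, 3, 3, 3, 1, 1, 4, 3, 1, 1, 1, 0, 0, 0, 0, 2, 5, 0, 0, 2, 2, 2, 1, 4]
def bw168 : List ℕ := [3, 5, 0, 3, 3, 3, 1, 1, 4, 3, 1, 1, 1, 2, 0, 0, 0, 2, 5, 0, 0, 2, 2, 2, 1, 4]
def bw169 : List ℕ := [5, 5, 0, 3, 3, 3, 1, 1, 4, 3, 1, 1, 1, 4, 0, 0, 0, 2, 5, 0, 0, 2, 2, 2, 1, 4]
def bw170 : List ℕ := [7, 5, 0, 3, 3, 3, 1, 1, 4, 3, 1, 1, 1, 6, 0, 0, 0, 2, 5, 0, 0, 2, 2, 2, 1, 4]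
def bw171 : List ℕ := [1, 5, 0, 0, 2, 1, 2, 1, 4, 3, 1, 1, 1, 0, 0, 0, 0, 2, 5, 0, 3, 0, 3, 1, 1, 4]
def bw172 : List ℕ := [3, 5, 0, 0, 2, 1, 2, 1, 4, 3, 1, 1, 1, 2, 0, 0, 0, 2, 5, 0, 3, 0, 3, 1, 1, 4]
def bw173 : List ℕ := [5, 5, 0, 0, 2, 1, 2, 1, 4, 3, 1, 1, 1, 4, 0, 0, 0, 2, 5, 0, 3, 0, 3, 1, 1, 4]
def bw174 : List ℕ := [7, 5, 0, 0, 2, 1, 2, 1, 4, 3, 1, 1, 1, 6, 0, 0, 0, 2, 5, 0, 3, 0, 3, 1, 1, 4]
def bw175 : List ℕ := [1, 5, 0, 3, 0, 2, 2, 1, 4, 3, 1, 1, 1, 0, 0, 0, 0, 2, 5, 0, 3, 3, 1, 2, 1, 4]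
def bw176 : List ℕ := [3, 5, 0, 3, 0, 2, 2, 1, 4, 3, 1, 1, 1, 2, 0, 0, 0, 2, 5, 0, 3, 3, 1, 2, 1, 4]
def bw177 : List ℕ := [5, 5, 0, 3, 0, 2, 2, 1, 4, 3, 1, 1, 1, 4, 0, 0, 0, 2, 5, 0, 3, 3, 1, 2, 1, 4]
def bw178 : List ℕ := [7, 5, 0, 3, 0, 2, 2, 1, 4, 3, 1, 1, 1, 6, 0, 0, 0, 2, 5, 0, 3, 3, 1, 2, 1, 4]
def bw179 : List ℕ := [1, 5, 0, 3, 3, 0, 0, 2, 4, 3, 1, 1, 1, 0, 0, 0, 0, 2, 5, 3, 1, 1, 2, 2, 1, 4]
def bw180 : List ℕ := [3, 5, 0, 3, 3, 0, 0, 2, 4, 3, 1, 1, 1, 2, 0, 0, 0, 2, 5, 3, 1, 1, 2, 2, 1, 4]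
def bw181 : List ℕ := [5, 5, 0, 3, 3, 0, 0, 2, 4, 3, 1, 1, 1, 4, 0, 0, 0, 2, 5, 3, 1, 1, 2, 2, 1, 4]
def bw182 : List ℕ := [7, 5, 0, 3, 3, 0, 0, 2, 4, 3, 1, 1, 1, 6, 0, 0, 0, 2, 5, 3, 1, 1, 2, 2, 1, 4]
def bw183 : List ℕ := [1, 3, 5, 1, 2, 0, 0, 4, 1, 2, 1, 1, 1, 0, 0, 0, 0, 3, 0, 5, 1, 1, 3, 0, 4, 2]
def bw184 : List ℕ := [3, 3, 5, 1, 2, 0, 0, 4, 1, 2, 1, 1, 1, 2, 0, 0, 0, 3, 0, 5, 1, 1, 3, 0, 4, 2]
def bw185 : List ℕ := [5, 3, 5, 1, 2, 0, 0, 4, 1, 2, 1, 1, 1, 4, 0, 0, 0, 3, 0, 5, 1, 1, 3, 0, 4, 2]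
def bw186 : List ℕ := [7, 3, 5, 1, 2, 0, 0, 4, 1, 2, 1, 1, 1, 6, 0, 0, 0, 3, 0, 5, 1, 1, 3, 0, 4, 2]
def bw187 : List ℕ := [1, 3, 5, 2, 0, 3, 0, 4, 1, 2, 1, 1, 1, 0, 0, 0, 0, 3, 0, 5, 1, 2, 1, 3, 4, 2]
def bw188 : List ℕ := [3, 3, 5, 2, 0, 3, 0, 4, 1, 2, 1, 1, 1, 2, 0, 0, 0, 3, 0, 5, 1, 2, 1, 3, 4, 2]
def bw189 : List ℕ := [5, 3, 5, 2, 0, 3, 0, 4, 1, 2, 1, 1, 1, 4, 0, 0, 0, 3, 0, 5, 1, 2, 1, 3, 4, 2]
def bw190 : List ℕ := [7, 3, 5, 2, 0, 3, 0, 4, 1, 2, 1, 1, 1, 6, 0, 0, 0, 3, 0, 5, 1, 2, 1, 3, 4, 2]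
def bw191 : List ℕ := [1, 3, 5, 1, 1, 1, 3, 4, 1, 2, 1, 1, 1, 0, 0, 0, 0, 3, 0, 5, 2, 0, 0, 0, 4, 2]
def bw192 : List ℕ := [3, 3, 5, 1, 1, 1, 3, 4, 1, 2, 1, 1, 1, 2, 0, 0, 0, 3, 0, 5, 2, 0, 0, 0, 4, 2]
def bw193 : List ℕ := [5, 3, 5, 1, 1, 1, 3, 4, 1, 2, 1, 1, 1, 4, 0, 0, 0, 3, 0, 5, 2, 0, 0, 0, 4, 2]
def bw194 : List ℕ := [7, 3, 5, 1, 1, 1, 3, 4, 1, 2, 1, 1, 1, 6, 0, 0, 0, 3, 0, 5, 2, 0, 0, 0, 4, 2]
def bw195 : List ℕ := [1, 3, 4, 1, 2, 1, 2, 0, 0, 5, 1, 1, 1, 0, 0, 0, 0, 4, 1, 1, 3, 0, 3, 0, 5, 2]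
def bw196 : List ℕ := [3, 3, 4, 1, 2, 1, 2, 0, 0, 5, 1, 1, 1, 2, 0, 0, 0, 4, 1, 1, 3, 0, 3, 0, 5, 2]
def bw197 : List ℕ := [5, 3, 4, 1, 2, 1, 2, 0, 0, 5, 1, 1, 1, 4, 0, 0, 0, 4, 1, 1, 3, 0, 3, 0, 5, 2]
def bw198 : List ℕ := [7, 3, 4, 1, 2, 1, 2, 0, 0, 5, 1, 1, 1, 6, 0, 0, 0, 4, 1, 1, 3, 0, 3, 0, 5, 2]
def bw199 : List ℕ := [1, 3, 4, 1, 2, 2, 0, 3, 0, 5, 1, 1, 1, 0, 0, 0, 0, 4, 1, 2, 1, 3, 3, 0, 5, 2]
def bw200 : List ℕ := [3, 3, 4, 1, 2, 2, 0, 3, 0, 5, 1, 1, 1, 2, 0, 0, 0, 4, 1, 2, 1, 3, 3, 0, 5, 2]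
def bw201 : List ℕ := [5, 3, 4, 1, 2, 2, 0, 3, 0, 5, 1, 1, 1, 4, 0, 0, 0, 4, 1, 2, 1, 3, 3, 0, 5, 2]
def bw202 : List ℕ := [7, 3, 4, 1, 2, 2, 0, 3, 0, 5, 1, 1, 1, 6, 0, 0, 0, 4, 1, 2, 1, 3, 3, 0, 5, 2]
def bw203 : List ℕ := [1, 3, 4, 2, 0, 0, 3, 3, 0, 5, 1, 1, 1, 0, 0, 0, 0, 4, 1, 2, 2, 1, 1, 3, 5, 2]
def bw204 : List ℕ := [3, 3, 4, 2, 0, 0, 3, 3, 0, 5, 1, 1, 1, 2, 0, 0, 0, 4, 1, 2, 2, 1, 1, 3, 5, 2]
def bw205 : List ℕ := [5, 3, 4, 2, 0, 0, 3, 3, 0, 5, 1, 1, 1, 4, 0, 0, 0, 4, 1, 2, 2, 1, 1, 3, 5, 2]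
def bw206 : List ℕ := [7, 3, 4, 2, 0, 0, 3, 3, 0, 5, 1, 1, 1, 6, 0, 0, 0, 4, 1, 2, 2, 1, 1, 3, 5, 2]
def bw207 : List ℕ := [1, 3, 4, 1, 1, 3, 3, 3, 0, 5, 1, 1, 1, 0, 0, 0, 0, 4, 1, 2, 2, 2, 0, 0, 5, 2]
def bw208 : List ℕ := [3, 3, 4, 1, 1, 3, 3, 3, 0, 5, 1, 1, 1, 2, 0, 0, 0, 4, 1, 2, 2, 2, 0, 0, 5, 2]
def bw209 : List ℕ := [5, 3, 4, 1, 1, 3, 3, 3, 0, 5, 1, 1, 1, 4, 0, 0, 0, 4, 1, 2, 2, 2, 0, 0, 5, 2]
def bw210 : List ℕ := [7, 3, 4, 1, 1, 3, 3, 3, 0, 5, 1, 1, 1, 6, 0, 0, 0, 4, 1, 2, 2, 2, 0, 0, 5, 2]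
def bw211 : List ℕ := [1, 4, 1, 4, 1, 5, 1, 4, 1, 4, 1, 1, 1, 0, 0, 0, 0, 5, 0, 5, 0, 4, 0, 5, 0, 5]
def bw212 : List ℕ := [3, 4, 1, 4, 1, 5, 1, 4, 1, 4, 1, 1, 1, 2, 0, 0, 0, 5, 0, 5, 0, 4, 0, 5, 0, 5]
def bw213 : List ℕ := [5, 4, 1, 4, 1, 5, 1, 4, 1, 4, 1, 1, 1, 4, 0, 0, 0, 5, 0, 5, 0, 4, 0, 5, 0, 5]
def bw214 : List ℕ := [7, 4, 1, 4, 1, 5, 1, 4, 1, 4, 1, 1, 1, 6, 0, 0, 0, 5, 0, 5, 0, 4, 0, 5, 0, 5]
def bw215 : List ℕ := [1, 4, 3, 4, 1, 1, 1, 4, 3, 4, 1, 1, 1, 0, 0, 0, 0, 5, 2, 5, 0, 0, 0, 5, 2, 5]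
def bw216 : List ℕ := [3, 4, 3, 4, 1, 1, 1, 4, 3, 4, 1, 1, 1, 2, 0, 0, 0, 5, 2, 5, 0, 0, 0, 5, 2, 5]
def bw217 : List ℕ := [5, 4, 3, 4, 1, 1, 1, 4, 3, 4, 1, 1, 1, 4, 0, 0, 0, 5, 2, 5, 0, 0, 0, 5, 2, 5]
def bw218 : List ℕ := [7, 4, 3, 4, 1, 1, 1, 4, 3, 4, 1, 1, 1, 6, 0, 0, 0, 5, 2, 5, 0, 0, 0, 5, 2, 5]
def bw219 : List ℕ := [1, 3, 5, 3, 5, 0, 5, 3, 5, 1, 3, 1, 1, 0, 0, 0, 2, 0, 4, 2, 4, 1, 4, 2, 4, 2]
def bw220 : List ℕ := [3, 3, 5, 3, 5, 0, 5, 3, 5, 1, 3, 1, 1, 2, 0, 0, 2, 0, 4, 2, 4, 1, 4, 2, 4, 2]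
def bw221 : List ℕ := [5, 3, 5, 3, 5, 0, 5, 3, 5, 1, 3, 1, 1, 4, 0, 0, 2, 0, 4, 2, 4, 1, 4, 2, 4, 2]
def bw222 : List ℕ := [7, 3, 5, 3, 5, 0, 5, 3, 5, 1, 3, 1, 1, 6, 0, 0, 2, 0, 4, 2, 4, 1, 4, 2, 4, 2]
def bw223 : List ℕ := [1, 4, 0, 3, 1, 1, 5, 0, 3, 0, 3, 1, 1, 0, 0, 0, 2, 1, 2, 1, 4, 0, 0, 2, 1, 5]
def bw224 : List ℕ := [3, 4, 0, 3, 1, 1, 5, 0, 3, 0, 3, 1, 1, 2, 0, 0, 2, 1, 2, 1, 4, 0, 0, 2, 1, 5]
def bw225 : List ℕ := [5, 4, 0, 3, 1, 1, 5, 0, 3, 0, 3, 1, 1, 4, 0, 0, 2, 1, 2, 1, 4, 0, 0, 2, 1, 5]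
def bw226 : List ℕ := [7, 4, 0, 3, 1, 1, 5, 0, 3, 0, 3, 1, 1, 6, 0, 0, 2, 1, 2, 1, 4, 0, 0, 2, 1, 5]
def bw227 : List ℕ := [1, 4, 3, 1, 2, 1, 5, 0, 3, 0, 3, 1, 1, 0, 0, 0, 2, 1, 2, 1, 4, 0, 3, 0, 2, 5]
def bw228 : List ℕ := [3, 4, 3, 1, 2, 1, 5, 0, 3, 0, 3, 1, 1, 2, 0, 0, 2, 1, 2, 1, 4, 0, 3, 0, 2, 5]
def bw229 : List ℕ := [5, 4, 3, 1, 2, 1, 5, 0, 3, 0, 3, 1, 1, 4, 0, 0, 2, 1, 2, 1, 4, 0, 3, 0, 2, 5]
def bw230 : List ℕ := [7, 4, 3, 1, 2, 1, 5, 0, 3, 0, 3, 1, 1, 6, 0, 0, 2, 1, 2, 1, 4, 0, 3, 0, 2, 5]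
def bw231 : List ℕ := [1, 5, 0, 3, 3, 1, 2, 1, 4, 0, 3, 1, 1, 0, 0, 0, 2, 1, 5, 0, 3, 0, 2, 2, 1, 4]
def bw232 : List ℕ := [3, 5, 0, 3, 3, 1, 2, 1, 4, 0, 3, 1, 1, 2, 0, 0, 2, 1, 5, 0, 3, 0, 2, 2, 1, 4]
def bw233 : List ℕ := [5, 5, 0, 3, 3, 1, 2, 1, 4, 0, 3, 1, 1, 4, 0, 0, 2, 1, 5, 0, 3, 0, 2, 2, 1, 4]
def bw234 : List ℕ := [7, 5, 0, 3, 3, 1, 2, 1, 4, 0, 3, 1, 1, 6, 0, 0, 2, 1, 5, 0, 3, 0, 2, 2, 1, 4]
def bw235 : List ℕ := [1, 5, 3, 1, 1, 2, 2, 1, 4, 0, 3, 1, 1, 0, 0, 0, 2, 1, 5, 0, 3, 3, 0, 0, 2, 4]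
def bw236 : List ℕ := [3, 5, 3, 1, 1, 2, 2, 1, 4, 0, 3, 1, 1, 2, 0, 0, 2, 1, 5, 0, 3, 3, 0, 0, 2, 4]
def bw237 : List ℕ := [5, 5, 3, 1, 1, 2, 2, 1, 4, 0, 3, 1, 1, 4, 0, 0, 2, 1, 5, 0, 3, 3, 0, 0, 2, 4]
def bw238 : List ℕ := [7, 5, 3, 1, 1, 2, 2, 1, 4, 0, 3, 1, 1, 6, 0, 0, 2, 1, 5, 0, 3, 3, 0, 0, 2, 4]
def bw239 : List ℕ := [1, 5, 0, 0, 2, 2, 2, 1, 4, 0, 3, 1, 1, 0, 0, 0, 2, 1, 5, 0, 3, 3, 3, 1, 1, 4]
def bw240 : List ℕ := [3, 5, 0, 0, 2, 2, 2, 1, 4, 0, 3, 1, 1, 2, 0, 0, 2, 1, 5, 0, 3, 3, 3, 1, 1, 4]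
def bw241 : List ℕ := [5, 5, 0, 0, 2, 2, 2, 1, 4, 0, 3, 1, 1, 4, 0, 0, 2, 1, 5, 0, 3, 3, 3, 1, 1, 4]
def bw242 : List ℕ := [7, 5, 0, 0, 2, 2, 2, 1, 4, 0, 3, 1, 1, 6, 0, 0, 2, 1, 5, 0, 3, 3, 3, 1, 1, 4]
def bw243 : List ℕ := [1, 4, 0, 3, 0, 2, 5, 0, 3, 3, 3, 1, 1, 0, 0, 0, 2, 2, 2, 1, 4, 3, 1, 2, 1, 5]
def bw244 : List ℕ := [3, 4, 0, 3, 0, 2, 5, 0, 3, 3, 3, 1, 1, 2, 0, 0, 2, 2, 2, 1, 4, 3, 1, 2, 1, 5]
def bw245 : List ℕ := [5, 4, 0, 3, 0, 2, 5, 0, 3, 3, 3, 1, 1, 4, 0, 0, 2, 2, 2, 1, 4, 3, 1, 2, 1, 5]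
def bw246 : List ℕ := [7, 4, 0, 3, 0, 2, 5, 0, 3, 3, 3, 1, 1, 6, 0, 0, 2, 2, 2, 1, 4, 3, 1, 2, 1, 5]
def bw247 : List ℕ := [1, 2, 2, 1, 4, 3, 1, 2, 1, 5, 3, 1, 1, 0, 0, 0, 2, 4, 0, 3, 0, 2, 5, 0, 3, 3]
def bw248 : List ℕ := [3, 2, 2, 1, 4, 3, 1, 2, 1, 5, 3, 1, 1, 2, 0, 0, 2, 4, 0, 3, 0, 2, 5, 0, 3, 3]
def bw249 : List ℕ := [5, 2, 2, 1, 4, 3, 1, 2, 1, 5, 3, 1, 1, 4, 0, 0, 2, 4, 0, 3, 0, 2, 5, 0, 3, 3]
def bw250 : List ℕ := [7, 2, 2, 1, 4, 3, 1, 2, 1, 5, 3, 1, 1, 6, 0, 0, 2, 4, 0, 3, 0, 2, 5, 0, 3, 3]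
def bw251 : List ℕ := [1, 3, 5, 0, 5, 0, 0, 5, 0, 5, 3, 1, 1, 0, 0, 0, 2, 4, 1, 4, 1, 1, 4, 1, 4, 2]
def bw252 : List ℕ := [3, 3, 5, 0, 5, 0, 0, 5, 0, 5, 3, 1, 1, 2, 0, 0, 2, 4, 1, 4, 1, 1, 4, 1, 4, 2]
def bw253 : List ℕ := [5, 3, 5, 0, 5, 0, 0, 5, 0, 5, 3, 1, 1, 4, 0, 0, 2, 4, 1, 4, 1, 1, 4, 1, 4, 2]
def bw254 : List ℕ := [7, 3, 5, 0, 5, 0, 0, 5, 0, 5, 3, 1, 1, 6, 0, 0, 2, 4, 1, 4, 1, 1, 4, 1, 4, 2]
def bw255 : List ℕ := [1, 4, 1, 4, 1, 1, 3, 5, 0, 5, 3, 1, 1, 0, 0, 0, 2, 4, 1, 4, 2, 0, 0, 5, 0, 5]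
def bw256 : List ℕ := [3, 4, 1, 4, 1, 1, 3, 5, 0, 5, 3, 1, 1, 2, 0, 0, 2, 4, 1, 4, 2, 0, 0, 5, 0, 5]
def bw257 : List ℕ := [5, 4, 1, 4, 1, 1, 3, 5, 0, 5, 3, 1, 1, 4, 0, 0, 2, 4, 1, 4, 2, 0, 0, 5, 0, 5]
def bw258 : List ℕ := [7, 4, 1, 4, 1, 1, 3, 5, 0, 5, 3, 1, 1, 6, 0, 0, 2, 4, 1, 4, 2, 0, 0, 5, 0, 5]
def bw259 : List ℕ := [1, 3, 1, 5, 3, 5, 0, 5, 3, 5, 3, 1, 1, 0, 0, 0, 2, 4, 2, 4, 1, 4, 2, 4, 0, 2]
def bw260 : List ℕ := [3, 3, 1, 5, 3, 5, 0, 5, 3, 5, 3, 1, 1, 2, 0, 0, 2, 4, 2, 4, 1, 4, 2, 4, 0, 2]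
def bw261 : List ℕ := [5, 3, 1, 5, 3, 5, 0, 5, 3, 5, 3, 1, 1, 4, 0, 0, 2, 4, 2, 4, 1, 4, 2, 4, 0, 2]
def bw262 : List ℕ := [7, 3, 1, 5, 3, 5, 0, 5, 3, 5, 3, 1, 1, 6, 0, 0, 2, 4, 2, 4, 1, 4, 2, 4, 0, 2]
def bw263 : List ℕ := [1, 3, 5, 1, 1, 3, 0, 4, 1, 2, 2, 1, 1, 0, 0, 0, 3, 3, 0, 5, 1, 2, 0, 0, 4, 2]
def bw264 : List ℕ := [3, 3, 5, 1, 1, 3, 0, 4, 1, 2, 2, 1, 1, 2, 0, 0, 3, 3, 0, 5, 1, 2, 0, 0, 4, 2]
def bw265 : List ℕ := [5, 3, 5, 1, 1, 3, 0, 4, 1, 2, 2, 1, 1, 4, 0, 0, 3, 3, 0, 5, 1, 2, 0, 0, 4, 2]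
def bw266 : List ℕ := [7, 3, 5, 1, 1, 3, 0, 4, 1, 2, 2, 1, 1, 6, 0, 0, 3, 3, 0, 5, 1, 2, 0, 0, 4, 2]
def bw267 : List ℕ := [1, 3, 5, 1, 2, 1, 3, 4, 1, 2, 2, 1, 1, 0, 0, 0, 3, 3, 0, 5, 2, 0, 3, 0, 4, 2]
def bw268 : List ℕ := [3, 3, 5, 1, 2, 1, 3, 4, 1, 2, 2, 1, 1, 2, 0, 0, 3, 3, 0, 5, 2, 0, 3, 0, 4, 2]
def bw269 : List ℕ := [5, 3, 5, 1, 2, 1, 3, 4, 1, 2, 2, 1, 1, 4, 0, 0, 3, 3, 0, 5, 2, 0, 3, 0, 4, 2]
def bw270 : List ℕ := [7, 3, 5, 1, 2, 1, 3, 4, 1, 2, 2, 1, 1, 6, 0, 0, 3, 3, 0, 5, 2, 0, 3, 0, 4, 2]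
def bw271 : List ℕ := [1, 5, 5, 1, 5, 1, 1, 5, 5, 1, 5, 1, 1, 0, 0, 0, 4, 0, 4, 4, 0, 0, 4, 0, 4, 4]
def bw272 : List ℕ := [3, 5, 5, 1, 5, 1, 1, 5, 5, 1, 5, 1, 1, 2, 0, 0, 4, 0, 4, 4, 0, 0, 4, 0, 4, 4]
def bw273 : List ℕ := [5, 5, 5, 1, 5, 1, 1, 5, 5, 1, 5, 1, 1, 4, 0, 0, 4, 0, 4, 4, 0, 0, 4, 0, 4, 4]
def bw274 : List ℕ := [7, 5, 5, 1, 5, 1, 1, 5, 5, 1, 5, 1, 1, 6, 0, 0, 4, 0, 4, 4, 0, 0, 4, 0, 4, 4]
def bw275 : List ℕ := [1, 3, 0, 4, 1, 2, 2, 2, 0, 0, 5, 1, 1, 0, 0, 0, 4, 1, 1, 3, 3, 3, 0, 5, 1, 2]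
def bw276 : List ℕ := [3, 3, 0, 4, 1, 2, 2, 2, 0, 0, 5, 1, 1, 2, 0, 0, 4, 1, 1, 3, 3, 3, 0, 5, 1, 2]
def bw277 : List ℕ := [5, 3, 0, 4, 1, 2, 2, 2, 0, 0, 5, 1, 1, 4, 0, 0, 4, 1, 1, 3, 3, 3, 0, 5, 1, 2]
def bw278 : List ℕ := [7, 3, 0, 4, 1, 2, 2, 2, 0, 0, 5, 1, 1, 6, 0, 0, 4, 1, 1, 3, 3, 3, 0, 5, 1, 2]
def bw279 : List ℕ := [1, 3, 0, 4, 1, 1, 3, 0, 3, 0, 5, 1, 1, 0, 0, 0, 4, 1, 2, 1, 2, 0, 0, 5, 1, 2]
def bw280 : List ℕ := [3, 3, 0, 4, 1, 1, 3, 0, 3, 0, 5, 1, 1, 2, 0, 0, 4, 1, 2, 1, 2, 0, 0, 5, 1, 2]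
def bw281 : List ℕ := [5, 3, 0, 4, 1, 1, 3, 0, 3, 0, 5, 1, 1, 4, 0, 0, 4, 1, 2, 1, 2, 0, 0, 5, 1, 2]
def bw282 : List ℕ := [7, 3, 0, 4, 1, 1, 3, 0, 3, 0, 5, 1, 1, 6, 0, 0, 4, 1, 2, 1, 2, 0, 0, 5, 1, 2]
def bw283 : List ℕ := [1, 3, 0, 4, 1, 2, 1, 3, 3, 0, 5, 1, 1, 0, 0, 0, 4, 1, 2, 2, 0, 3, 0, 5, 1, 2]
def bw284 : List ℕ := [3, 3, 0, 4, 1, 2, 1, 3, 3, 0, 5, 1, 1, 2, 0, 0, 4, 1, 2, 2, 0, 3, 0, 5, 1, 2]
def bw285 : List ℕ := [5, 3, 0, 4, 1, 2, 1, 3, 3, 0, 5, 1, 1, 4, 0, 0, 4, 1, 2, 2, 0, 3, 0, 5, 1, 2]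
def bw286 : List ℕ := [7, 3, 0, 4, 1, 2, 1, 3, 3, 0, 5, 1, 1, 6, 0, 0, 4, 1, 2, 2, 0, 3, 0, 5, 1, 2]
def bw287 : List ℕ := [1, 5, 5, 1, 4, 0, 0, 4, 4, 0, 5, 1, 1, 0, 0, 0, 4, 1, 5, 5, 1, 1, 5, 0, 4, 4]
def bw288 : List ℕ := [3, 5, 5, 1, 4, 0, 0, 4, 4, 0, 5, 1, 1, 2, 0, 0, 4, 1, 5, 5, 1, 1, 5, 0, 4, 4]
def bw289 : List ℕ := [5, 5, 5, 1, 4, 0, 0, 4, 4, 0, 5, 1, 1, 4, 0, 0, 4, 1, 5, 5, 1, 1, 5, 0, 4, 4]
def bw290 : List ℕ := [7, 5, 5, 1, 4, 0, 0, 4, 4, 0, 5, 1, 1, 6, 0, 0, 4, 1, 5, 5, 1, 1, 5, 0, 4, 4]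
def bw291 : List ℕ := [1, 5, 2, 2, 5, 1, 1, 5, 2, 2, 5, 1, 1, 0, 0, 0, 4, 3, 3, 4, 0, 0, 4, 3, 3, 4]
def bw292 : List ℕ := [3, 5, 2, 2, 5, 1, 1, 5, 2, 2, 5, 1, 1, 2, 0, 0, 4, 3, 3, 4, 0, 0, 4, 3, 3, 4]
def bw293 : List ℕ := [5, 5, 2, 2, 5, 1, 1, 5, 2, 2, 5, 1, 1, 4, 0, 0, 4, 3, 3, 4, 0, 0, 4, 3, 3, 4]
def bw294 : List ℕ := [7, 5, 2, 2, 5, 1, 1, 5, 2, 2, 5, 1, 1, 6, 0, 0, 4, 3, 3, 4, 0, 0, 4, 3, 3, 4]
def bw295 : List ℕ := [1, 5, 5, 1, 1, 5, 5, 1, 1, 5, 5, 1, 1, 0, 0, 0, 4, 4, 0, 0, 4, 4, 0, 0, 4, 4]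
def bw296 : List ℕ := [3, 5, 5, 1, 1, 5, 5, 1, 1, 5, 5, 1, 1, 2, 0, 0, 4, 4, 0, 0, 4, 4, 0, 0, 4, 4]
def bw297 : List ℕ := [5, 5, 5, 1, 1, 5, 5, 1, 1, 5, 5, 1, 1, 4, 0, 0, 4, 4, 0, 0, 4, 4, 0, 0, 4, 4]
def bw298 : List ℕ := [7, 5, 5, 1, 1, 5, 5, 1, 1, 5, 5, 1, 1, 6, 0, 0, 4, 4, 0, 0, 4, 4, 0, 0, 4, 4]
def bw299 : List ℕ := [1, 5, 1, 5, 5, 1, 1, 5, 1, 5, 5, 1, 1, 0, 0, 0, 4, 4, 0, 4, 0, 0, 4, 4, 0, 4]
def bw300 : List ℕ := [3, 5, 1, 5, 5, 1, 1, 5, 1, 5, 5, 1, 1, 2, 0, 0, 4, 4, 0, 4, 0, 0, 4, 4, 0, 4]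
def bw301 : List ℕ := [5, 5, 1, 5, 5, 1, 1, 5, 1, 5, 5, 1, 1, 4, 0, 0, 4, 4, 0, 4, 0, 0, 4, 4, 0, 4]
def bw302 : List ℕ := [7, 5, 1, 5, 5, 1, 1, 5, 1, 5, 5, 1, 1, 6, 0, 0, 4, 4, 0, 4, 0, 0, 4, 4, 0, 4]
def bw303 : List ℕ := [1, 3, 3, 3, 0, 5, 2, 0, 3, 0, 4, 1, 1, 0, 0, 0, 5, 1, 2, 1, 3, 4, 1, 2, 2, 2]
def bw304 : List ℕ := [3, 3, 3, 3, 0, 5, 2, 0, 3, 0, 4, 1, 1, 2, 0, 0, 5, 1, 2, 1, 3, 4, 1, 2, 2, 2]
def bw305 : List ℕ := [5, 3, 3, 3, 0, 5, 2, 0, 3, 0, 4, 1, 1, 4, 0, 0, 5, 1, 2, 1, 3, 4, 1, 2, 2, 2]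
def bw306 : List ℕ := [7, 3, 3, 3, 0, 5, 2, 0, 3, 0, 4, 1, 1, 6, 0, 0, 5, 1, 2, 1, 3, 4, 1, 2, 2, 2]
def bw307 : List ℕ := [1, 3, 0, 3, 0, 5, 1, 2, 1, 3, 4, 1, 1, 0, 0, 0, 5, 2, 0, 3, 0, 4, 1, 2, 1, 2]
def bw308 : List ℕ := [3, 3, 0, 3, 0, 5, 1, 2, 1, 3, 4, 1, 1, 2, 0, 0, 5, 2, 0, 3, 0, 4, 1, 2, 1, 2]
def bw309 : List ℕ := [5, 3, 0, 3, 0, 5, 1, 2, 1, 3, 4, 1, 1, 4, 0, 0, 5, 2, 0, 3, 0, 4, 1, 2, 1, 2]
def bw310 : List ℕ := [7, 3, 0, 3, 0, 5, 1, 2, 1, 3, 4, 1, 1, 6, 0, 0, 5, 2, 0, 3, 0, 4, 1, 2, 1, 2]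
def bw311 : List ℕ := [1, 4, 2, 2, 4, 1, 1, 4, 2, 2, 4, 1, 1, 0, 0, 0, 5, 3, 3, 5, 0, 0, 5, 3, 3, 5]
def bw312 : List ℕ := [3, 4, 2, 2, 4, 1, 1, 4, 2, 2, 4, 1, 1, 2, 0, 0, 5, 3, 3, 5, 0, 0, 5, 3, 3, 5]
def bw313 : List ℕ := [5, 4, 2, 2, 4, 1, 1, 4, 2, 2, 4, 1, 1, 4, 0, 0, 5, 3, 3, 5, 0, 0, 5, 3, 3, 5]
def bw314 : List ℕ := [7, 4, 2, 2, 4, 1, 1, 4, 2, 2, 4, 1, 1, 6, 0, 0, 5, 3, 3, 5, 0, 0, 5, 3, 3, 5]
def bw315 : List ℕ := [1, 4, 1, 4, 2, 4, 1, 4, 1, 3, 1, 3, 1, 0, 0, 2, 0, 2, 0, 5, 0, 5, 3, 5, 0, 5]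
def bw316 : List ℕ := [3, 4, 1, 4, 2, 4, 1, 4, 1, 3, 1, 3, 1, 2, 0, 2, 0, 2, 0, 5, 0, 5, 3, 5, 0, 5]
def bw317 : List ℕ := [5, 4, 1, 4, 2, 4, 1, 4, 1, 3, 1, 3, 1, 4, 0, 2, 0, 2, 0, 5, 0, 5, 3, 5, 0, 5]
def bw318 : List ℕ := [7, 4, 1, 4, 2, 4, 1, 4, 1, 3, 1, 3, 1, 6, 0, 2, 0, 2, 0, 5, 0, 5, 3, 5, 0, 5]
def bw319 : List ℕ := [1, 3, 5, 3, 5, 0, 5, 3, 5, 3, 1, 3, 1, 0, 0, 2, 0, 2, 4, 2, 4, 1, 4, 2, 4, 2]
def bw320 : List ℕ := [3, 3, 5, 3, 5, 0, 5, 3, 5, 3, 1, 3, 1, 2, 0, 2, 0, 2, 4, 2, 4, 1, 4, 2, 4, 2]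
def bw321 : List ℕ := [5, 3, 5, 3, 5, 0, 5, 3, 5, 3, 1, 3, 1, 4, 0, 2, 0, 2, 4, 2, 4, 1, 4, 2, 4, 2]
def bw322 : List ℕ := [7, 3, 5, 3, 5, 0, 5, 3, 5, 3, 1, 3, 1, 6, 0, 2, 0, 2, 4, 2, 4, 1, 4, 2, 4, 2]
def bw323 : List ℕ := [1, 5, 0, 5, 3, 5, 0, 5, 0, 2, 1, 3, 1, 0, 0, 2, 0, 3, 1, 4, 1, 4, 2, 4, 1, 4]
def bw324 : List ℕ := [3, 5, 0, 5, 3, 5, 0, 5, 0, 2, 1, 3, 1, 2, 0, 2, 0, 3, 1, 4, 1, 4, 2, 4, 1, 4]
def bw325 : List ℕ := [5, 5, 0, 5, 3, 5, 0, 5, 0, 2, 1, 3, 1, 4, 0, 2, 0, 3, 1, 4, 1, 4, 2, 4, 1, 4]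
def bw326 : List ℕ := [7, 5, 0, 5, 3, 5, 0, 5, 0, 2, 1, 3, 1, 6, 0, 2, 0, 3, 1, 4, 1, 4, 2, 4, 1, 4]
def bw327 : List ℕ := [1, 2, 4, 2, 4, 1, 4, 2, 4, 2, 1, 3, 1, 0, 0, 2, 0, 3, 5, 3, 5, 0, 5, 3, 5, 3]
def bw328 : List ℕ := [3, 2, 4, 2, 4, 1, 4, 2, 4, 2, 1, 3, 1, 2, 0, 2, 0, 3, 5, 3, 5, 0, 5, 3, 5, 3]
def bw329 : List ℕ := [5, 2, 4, 2, 4, 1, 4, 2, 4, 2, 1, 3, 1, 4, 0, 2, 0, 3, 5, 3, 5, 0, 5, 3, 5, 3]
def bw330 : List ℕ := [7, 2, 4, 2, 4, 1, 4, 2, 4, 2, 1, 3, 1, 6, 0, 2, 0, 3, 5, 3, 5, 0, 5, 3, 5, 3]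
def bw331 : List ℕ := [1, 5, 1, 3, 1, 5, 1, 3, 1, 5, 1, 3, 1, 0, 0, 2, 0, 4, 0, 2, 0, 4, 0, 2, 0, 4]
def bw332 : List ℕ := [3, 5, 1, 3, 1, 5, 1, 3, 1, 5, 1, 3, 1, 2, 0, 2, 0, 4, 0, 2, 0, 4, 0, 2, 0, 4]
def bw333 : List ℕ := [5, 5, 1, 3, 1, 5, 1, 3, 1, 5, 1, 3, 1, 4, 0, 2, 0, 4, 0, 2, 0, 4, 0, 2, 0, 4]
def bw334 : List ℕ := [7, 5, 1, 3, 1, 5, 1, 3, 1, 5, 1, 3, 1, 6, 0, 2, 0, 4, 0, 2, 0, 4, 0, 2, 0, 4]
def bw335 : List ℕ := [1, 5, 0, 2, 0, 5, 1, 3, 1, 5, 1, 3, 1, 0, 0, 2, 0, 4, 0, 2, 0, 4, 1, 3, 1, 4]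
def bw336 : List ℕ := [3, 5, 0, 2, 0, 5, 1, 3, 1, 5, 1, 3, 1, 2, 0, 2, 0, 4, 0, 2, 0, 4, 1, 3, 1, 4]
def bw337 : List ℕ := [5, 5, 0, 2, 0, 5, 1, 3, 1, 5, 1, 3, 1, 4, 0, 2, 0, 4, 0, 2, 0, 4, 1, 3, 1, 4]
def bw338 : List ℕ := [7, 5, 0, 2, 0, 5, 1, 3, 1, 5, 1, 3, 1, 6, 0, 2, 0, 4, 0, 2, 0, 4, 1, 3, 1, 4]
def bw339 : List ℕ := [1, 5, 3, 1, 3, 5, 1, 3, 1, 5, 1, 3, 1, 0, 0, 2, 0, 4, 0, 2, 0, 4, 2, 0, 2, 4]
def bw340 : List ℕ := [3, 5, 3, 1, 3, 5, 1, 3, 1, 5, 1, 3, 1, 2, 0, 2, 0, 4, 0, 2, 0, 4, 2, 0, 2, 4]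
def bw341 : List ℕ := [5, 5, 3, 1, 3, 5, 1, 3, 1, 5, 1, 3, 1, 4, 0, 2, 0, 4, 0, 2, 0, 4, 2, 0, 2, 4]
def bw342 : List ℕ := [7, 5, 3, 1, 3, 5, 1, 3, 1, 5, 1, 3, 1, 6, 0, 2, 0, 4, 0, 2, 0, 4, 2, 0, 2, 4]
def bw343 : List ℕ := [1, 5, 2, 0, 2, 5, 1, 3, 1, 5, 1, 3, 1, 0, 0, 2, 0, 4, 0, 2, 0, 4, 3, 1, 3, 4]
def bw344 : List ℕ := [3, 5, 2, 0, 2, 5, 1, 3, 1, 5, 1, 3, 1, 2, 0, 2, 0, 4, 0, 2, 0, 4, 3, 1, 3, 4]
def bw345 : List ℕ := [5, 5, 2, 0, 2, 5, 1, 3, 1, 5, 1, 3, 1, 4, 0, 2, 0, 4, 0, 2, 0, 4, 3, 1, 3, 4]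
def bw346 : List ℕ := [7, 5, 2, 0, 2, 5, 1, 3, 1, 5, 1, 3, 1, 6, 0, 2, 0, 4, 0, 2, 0, 4, 3, 1, 3, 4]
def bw347 : List ℕ := [1, 5, 0, 2, 0, 5, 0, 2, 0, 5, 1, 3, 1, 0, 0, 2, 0, 4, 1, 3, 1, 4, 1, 3, 1, 4]
def bw348 : List ℕ := [3, 5, 0, 2, 0, 5, 0, 2, 0, 5, 1, 3, 1, 2, 0, 2, 0, 4, 1, 3, 1, 4, 1, 3, 1, 4]
def bw349 : List ℕ := [5, 5, 0, 2, 0, 5, 0, 2, 0, 5, 1, 3, 1, 4, 0, 2, 0, 4, 1, 3, 1, 4, 1, 3, 1, 4]
def bw350 : List ℕ := [7, 5, 0, 2, 0, 5, 0, 2, 0, 5, 1, 3, 1, 6, 0, 2, 0, 4, 1, 3, 1, 4, 1, 3, 1, 4]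
def bw351 : List ℕ := [1, 5, 3, 1, 3, 5, 0, 2, 0, 5, 1, 3, 1, 0, 0, 2, 0, 4, 1, 3, 1, 4, 2, 0, 2, 4]
def bw352 : List ℕ := [3, 5, 3, 1, 3, 5, 0, 2, 0, 5, 1, 3, 1, 2, 0, 2, 0, 4, 1, 3, 1, 4, 2, 0, 2, 4]
def bw353 : List ℕ := [5, 5, 3, 1, 3, 5, 0, 2, 0, 5, 1, 3, 1, 4, 0, 2, 0, 4, 1, 3, 1, 4, 2, 0, 2, 4]
def bw354 : List ℕ := [7, 5, 3, 1, 3, 5, 0, 2, 0, 5, 1, 3, 1, 6, 0, 2, 0, 4, 1, 3, 1, 4, 2, 0, 2, 4]
def bw355 : List ℕ := [1, 5, 2, 0, 2, 5, 0, 2, 0, 5, 1, 3, 1, 0, 0, 2, 0, 4, 1, 3, 1, 4, 3, 1, 3, 4]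
def bw356 : List ℕ := [3, 5, 2, 0, 2, 5, 0, 2, 0, 5, 1, 3, 1, 2, 0, 2, 0, 4, 1, 3, 1, 4, 3, 1, 3, 4]
def bw357 : List ℕ := [5, 5, 2, 0, 2, 5, 0, 2, 0, 5, 1, 3, 1, 4, 0, 2, 0, 4, 1, 3, 1, 4, 3, 1, 3, 4]
def bw358 : List ℕ := [7, 5, 2, 0, 2, 5, 0, 2, 0, 5, 1, 3, 1, 6, 0, 2, 0, 4, 1, 3, 1, 4, 3, 1, 3, 4]
def bw359 : List ℕ := [1, 2, 0, 5, 0, 5, 3, 5, 0, 5, 1, 3, 1, 0, 0, 2, 0, 4, 1, 4, 2, 4, 1, 4, 1, 3]
def bw360 : List ℕ := [3, 2, 0, 5, 0, 5, 3, 5, 0, 5, 1, 3, 1, 2, 0, 2, 0, 4, 1, 4, 2, 4, 1, 4, 1, 3]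
def bw361 : List ℕ := [5, 2, 0, 5, 0, 5, 3, 5, 0, 5, 1, 3, 1, 4, 0, 2, 0, 4, 1, 4, 2, 4, 1, 4, 1, 3]
def bw362 : List ℕ := [7, 2, 0, 5, 0, 5, 3, 5, 0, 5, 1, 3, 1, 6, 0, 2, 0, 4, 1, 4, 2, 4, 1, 4, 1, 3]
def bw363 : List ℕ := [1, 5, 0, 2, 0, 5, 3, 1, 3, 5, 1, 3, 1, 0, 0, 2, 0, 4, 2, 0, 2, 4, 1, 3, 1, 4]
def bw364 : List ℕ := [3, 5, 0, 2, 0, 5, 3, 1, 3, 5, 1, 3, 1, 2, 0, 2, 0, 4, 2, 0, 2, 4, 1, 3, 1, 4]
def bw365 : List ℕ := [5, 5, 0, 2, 0, 5, 3, 1, 3, 5, 1, 3, 1, 4, 0, 2, 0, 4, 2, 0, 2, 4, 1, 3, 1, 4]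
def bw366 : List ℕ := [7, 5, 0, 2, 0, 5, 3, 1, 3, 5, 1, 3, 1, 6, 0, 2, 0, 4, 2, 0, 2, 4, 1, 3, 1, 4]
def bw367 : List ℕ := [1, 5, 0, 2, 0, 5, 2, 0, 2, 5, 1, 3, 1, 0, 0, 2, 0, 4, 3, 1, 3, 4, 1, 3, 1, 4]
def bw368 : List ℕ := [3, 5, 0, 2, 0, 5, 2, 0, 2, 5, 1, 3, 1, 2, 0, 2, 0, 4, 3, 1, 3, 4, 1, 3, 1, 4]
def bw369 : List ℕ := [5, 5, 0, 2, 0, 5, 2, 0, 2, 5, 1, 3, 1, 4, 0, 2, 0, 4, 3, 1, 3, 4, 1, 3, 1, 4]
def bw370 : List ℕ := [7, 5, 0, 2, 0, 5, 2, 0, 2, 5, 1, 3, 1, 6, 0, 2, 0, 4, 3, 1, 3, 4, 1, 3, 1, 4]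
def bw371 : List ℕ := [1, 4, 1, 3, 1, 4, 1, 3, 1, 4, 1, 3, 1, 0, 0, 2, 0, 5, 0, 2, 0, 5, 0, 2, 0, 5]
def bw372 : List ℕ := [3, 4, 1, 3, 1, 4, 1, 3, 1, 4, 1, 3, 1, 2, 0, 2, 0, 5, 0, 2, 0, 5, 0, 2, 0, 5]
def bw373 : List ℕ := [5, 4, 1, 3, 1, 4, 1, 3, 1, 4, 1, 3, 1, 4, 0, 2, 0, 5, 0, 2, 0, 5, 0, 2, 0, 5]
def bw374 : List ℕ := [7, 4, 1, 3, 1, 4, 1, 3, 1, 4, 1, 3, 1, 6, 0, 2, 0, 5, 0, 2, 0, 5, 0, 2, 0, 5]
def bw375 : List ℕ := [1, 4, 3, 1, 3, 4, 1, 3, 1, 4, 1, 3, 1, 0, 0, 2, 0, 5, 0, 2, 0, 5, 2, 0, 2, 5]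
def bw376 : List ℕ := [3, 4, 3, 1, 3, 4, 1, 3, 1, 4, 1, 3, 1, 2, 0, 2, 0, 5, 0, 2, 0, 5, 2, 0, 2, 5]
def bw377 : List ℕ := [5, 4, 3, 1, 3, 4, 1, 3, 1, 4, 1, 3, 1, 4, 0, 2, 0, 5, 0, 2, 0, 5, 2, 0, 2, 5]
def bw378 : List ℕ := [7, 4, 3, 1, 3, 4, 1, 3, 1, 4, 1, 3, 1, 6, 0, 2, 0, 5, 0, 2, 0, 5, 2, 0, 2, 5]
def bw379 : List ℕ := [1, 4, 2, 0, 2, 4, 1, 3, 1, 4, 1, 3, 1, 0, 0, 2, 0, 5, 0, 2, 0, 5, 3, 1, 3, 5]
def bw380 : List ℕ := [3, 4, 2, 0, 2, 4, 1, 3, 1, 4, 1, 3, 1, 2, 0, 2, 0, 5, 0, 2, 0, 5, 3, 1, 3, 5]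
def bw381 : List ℕ := [5, 4, 2, 0, 2, 4, 1, 3, 1, 4, 1, 3, 1, 4, 0, 2, 0, 5, 0, 2, 0, 5, 3, 1, 3, 5]
def bw382 : List ℕ := [7, 4, 2, 0, 2, 4, 1, 3, 1, 4, 1, 3, 1, 6, 0, 2, 0, 5, 0, 2, 0, 5, 3, 1, 3, 5]
def bw383 : List ℕ := [1, 3, 4, 2, 4, 1, 4, 2, 4, 2, 0, 3, 1, 0, 0, 2, 1, 3, 5, 3, 5, 0, 5, 3, 5, 2]
def bw384 : List ℕ := [3, 3, 4, 2, 4, 1, 4, 2, 4, 2, 0, 3, 1, 2, 0, 2, 1, 3, 5, 3, 5, 0, 5, 3, 5, 2]
def bw385 : List ℕ := [5, 3, 4, 2, 4, 1, 4, 2, 4, 2, 0, 3, 1, 4, 0, 2, 1, 3, 5, 3, 5, 0, 5, 3, 5, 2]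
def bw386 : List ℕ := [7, 3, 4, 2, 4, 1, 4, 2, 4, 2, 0, 3, 1, 6, 0, 2, 1, 3, 5, 3, 5, 0, 5, 3, 5, 2]
def bw387 : List ℕ := [1, 3, 0, 5, 0, 5, 3, 5, 0, 5, 0, 3, 1, 0, 0, 2, 1, 4, 1, 4, 2, 4, 1, 4, 1, 2]
def bw388 : List ℕ := [3, 3, 0, 5, 0, 5, 3, 5, 0, 5, 0, 3, 1, 2, 0, 2, 1, 4, 1, 4, 2, 4, 1, 4, 1, 2]
def bw389 : List ℕ := [5, 3, 0, 5, 0, 5, 3, 5, 0, 5, 0, 3, 1, 4, 0, 2, 1, 4, 1, 4, 2, 4, 1, 4, 1, 2]
def bw390 : List ℕ := [7, 3, 0, 5, 0, 5, 3, 5, 0, 5, 0, 3, 1, 6, 0, 2, 1, 4, 1, 4, 2, 4, 1, 4, 1, 2]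
def bw391 : List ℕ := [1, 5, 1, 3, 0, 4, 4, 3, 4, 4, 0, 3, 1, 0, 0, 2, 1, 5, 5, 2, 5, 5, 1, 2, 0, 4]
def bw392 : List ℕ := [3, 5, 1, 3, 0, 4, 4, 3, 4, 4, 0, 3, 1, 2, 0, 2, 1, 5, 5, 2, 5, 5, 1, 2, 0, 4]
def bw393 : List ℕ := [5, 5, 1, 3, 0, 4, 4, 3, 4, 4, 0, 3, 1, 4, 0, 2, 1, 5, 5, 2, 5, 5, 1, 2, 0, 4]
def bw394 : List ℕ := [7, 5, 1, 3, 0, 4, 4, 3, 4, 4, 0, 3, 1, 6, 0, 2, 1, 5, 5, 2, 5, 5, 1, 2, 0, 4]
def bw395 : List ℕ := [1, 5, 2, 1, 3, 4, 4, 3, 4, 4, 0, 3, 1, 0, 0, 2, 1, 5, 5, 2, 5, 5, 2, 0, 3, 4]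
def bw396 : List ℕ := [3, 5, 2, 1, 3, 4, 4, 3, 4, 4, 0, 3, 1, 2, 0, 2, 1, 5, 5, 2, 5, 5, 2, 0, 3, 4]
def bw397 : List ℕ := [5, 5, 2, 1, 3, 4, 4, 3, 4, 4, 0, 3, 1, 4, 0, 2, 1, 5, 5, 2, 5, 5, 2, 0, 3, 4]
def bw398 : List ℕ := [7, 5, 2, 1, 3, 4, 4, 3, 4, 4, 0, 3, 1, 6, 0, 2, 1, 5, 5, 2, 5, 5, 2, 0, 3, 4]
def bw399 : List ℕ := [1, 4, 1, 4, 2, 4, 1, 4, 3, 1, 3, 3, 1, 0, 0, 2, 2, 0, 2, 5, 0, 5, 3, 5, 0, 5]
def bw400 : List ℕ := [3, 4, 1, 4, 2, 4, 1, 4, 3, 1, 3, 3, 1, 2, 0, 2, 2, 0, 2, 5, 0, 5, 3, 5, 0, 5]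
def bw401 : List ℕ := [5, 4, 1, 4, 2, 4, 1, 4, 3, 1, 3, 3, 1, 4, 0, 2, 2, 0, 2, 5, 0, 5, 3, 5, 0, 5]
def bw402 : List ℕ := [7, 4, 1, 4, 2, 4, 1, 4, 3, 1, 3, 3, 1, 6, 0, 2, 2, 0, 2, 5, 0, 5, 3, 5, 0, 5]
def bw403 : List ℕ := [1, 3, 4, 1, 4, 2, 4, 1, 4, 1, 3, 3, 1, 0, 0, 2, 2, 0, 5, 0, 5, 3, 5, 0, 5, 2]
def bw404 : List ℕ := [3, 3, 4, 1, 4, 2, 4, 1, 4, 1, 3, 3, 1, 2, 0, 2, 2, 0, 5, 0, 5, 3, 5, 0, 5, 2]
def bw405 : List ℕ := [5, 3, 4, 1, 4, 2, 4, 1, 4, 1, 3, 3, 1, 4, 0, 2, 2, 0, 5, 0, 5, 3, 5, 0, 5, 2]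
def bw406 : List ℕ := [7, 3, 4, 1, 4, 2, 4, 1, 4, 1, 3, 3, 1, 6, 0, 2, 2, 0, 5, 0, 5, 3, 5, 0, 5, 2]
def bw407 : List ℕ := [1, 4, 2, 4, 2, 2, 4, 2, 4, 1, 3, 3, 1, 0, 0, 2, 2, 0, 5, 3, 5, 3, 3, 5, 3, 5]
def bw408 : List ℕ := [3, 4, 2, 4, 2, 2, 4, 2, 4, 1, 3, 3, 1, 2, 0, 2, 2, 0, 5, 3, 5, 3, 3, 5, 3, 5]
def bw409 : List ℕ := [5, 4, 2, 4, 2, 2, 4, 2, 4, 1, 3, 3, 1, 4, 0, 2, 2, 0, 5, 3, 5, 3, 3, 5, 3, 5]
def bw410 : List ℕ := [7, 4, 2, 4, 2, 2, 4, 2, 4, 1, 3, 3, 1, 6, 0, 2, 2, 0, 5, 3, 5, 3, 3, 5, 3, 5]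
def bw411 : List ℕ := [1, 2, 1, 4, 3, 1, 2, 1, 5, 0, 3, 3, 1, 0, 0, 2, 2, 1, 4, 0, 3, 0, 2, 5, 0, 3]
def bw412 : List ℕ := [3, 2, 1, 4, 3, 1, 2, 1, 5, 0, 3, 3, 1, 2, 0, 2, 2, 1, 4, 0, 3, 0, 2, 5, 0, 3]
def bw413 : List ℕ := [5, 2, 1, 4, 3, 1, 2, 1, 5, 0, 3, 3, 1, 4, 0, 2, 2, 1, 4, 0, 3, 0, 2, 5, 0, 3]
def bw414 : List ℕ := [7, 2, 1, 4, 3, 1, 2, 1, 5, 0, 3, 3, 1, 6, 0, 2, 2, 1, 4, 0, 3, 0, 2, 5, 0, 3]
def bw415 : List ℕ := [1, 3, 3, 5, 3, 5, 0, 5, 3, 5, 3, 3, 1, 0, 0, 2, 2, 4, 2, 4, 1, 4, 2, 4, 2, 2]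
def bw416 : List ℕ := [3, 3, 3, 5, 3, 5, 0, 5, 3, 5, 3, 3, 1, 2, 0, 2, 2, 4, 2, 4, 1, 4, 2, 4, 2, 2]
def bw417 : List ℕ := [5, 3, 3, 5, 3, 5, 0, 5, 3, 5, 3, 3, 1, 4, 0, 2, 2, 4, 2, 4, 1, 4, 2, 4, 2, 2]
def bw418 : List ℕ := [7, 3, 3, 5, 3, 5, 0, 5, 3, 5, 3, 3, 1, 6, 0, 2, 2, 4, 2, 4, 1, 4, 2, 4, 2, 2]
def bw419 : List ℕ := [1, 4, 2, 4, 1, 3, 3, 5, 3, 5, 3, 3, 1, 0, 0, 2, 2, 4, 2, 4, 2, 2, 0, 5, 3, 5]
def bw420 : List ℕ := [3, 4, 2, 4, 1, 3, 3, 5, 3, 5, 3, 3, 1, 2, 0, 2, 2, 4, 2, 4, 2, 2, 0, 5, 3, 5]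
def bw421 : List ℕ := [5, 4, 2, 4, 1, 3, 3, 5, 3, 5, 3, 3, 1, 4, 0, 2, 2, 4, 2, 4, 2, 2, 0, 5, 3, 5]
def bw422 : List ℕ := [7, 4, 2, 4, 1, 3, 3, 5, 3, 5, 3, 3, 1, 6, 0, 2, 2, 4, 2, 4, 2, 2, 0, 5, 3, 5]
def bw423 : List ℕ := [1, 5, 0, 5, 0, 5, 1, 3, 5, 0, 5, 3, 1, 0, 0, 2, 4, 1, 4, 2, 0, 4, 1, 4, 1, 4]
def bw424 : List ℕ := [3, 5, 0, 5, 0, 5, 1, 3, 5, 0, 5, 3, 1, 2, 0, 2, 4, 1, 4, 2, 0, 4, 1, 4, 1, 4]
def bw425 : List ℕ := [5, 5, 0, 5, 0, 5, 1, 3, 5, 0, 5, 3, 1, 4, 0, 2, 4, 1, 4, 2, 0, 4, 1, 4, 1, 4]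
def bw426 : List ℕ := [7, 5, 0, 5, 0, 5, 1, 3, 5, 0, 5, 3, 1, 6, 0, 2, 4, 1, 4, 2, 0, 4, 1, 4, 1, 4]
def bw427 : List ℕ := [1, 4, 1, 4, 1, 4, 1, 3, 5, 0, 5, 3, 1, 0, 0, 2, 4, 1, 4, 2, 0, 5, 0, 5, 0, 5]
def bw428 : List ℕ := [3, 4, 1, 4, 1, 4, 1, 3, 5, 0, 5, 3, 1, 2, 0, 2, 4, 1, 4, 2, 0, 5, 0, 5, 0, 5]
def bw429 : List ℕ := [5, 4, 1, 4, 1, 4, 1, 3, 5, 0, 5, 3, 1, 4, 0, 2, 4, 1, 4, 2, 0, 5, 0, 5, 0, 5]
def bw430 : List ℕ := [7, 4, 1, 4, 1, 4, 1, 3, 5, 0, 5, 3, 1, 6, 0, 2, 4, 1, 4, 2, 0, 5, 0, 5, 0, 5]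
def bw431 : List ℕ := [1, 4, 0, 5, 0, 5, 0, 3, 5, 0, 5, 3, 1, 0, 0, 2, 4, 1, 4, 2, 1, 4, 1, 4, 1, 5]
def bw432 : List ℕ := [3, 4, 0, 5, 0, 5, 0, 3, 5, 0, 5, 3, 1, 2, 0, 2, 4, 1, 4, 2, 1, 4, 1, 4, 1, 5]
def bw433 : List ℕ := [5, 4, 0, 5, 0, 5, 0, 3, 5, 0, 5, 3, 1, 4, 0, 2, 4, 1, 4, 2, 1, 4, 1, 4, 1, 5]
def bw434 : List ℕ := [7, 4, 0, 5, 0, 5, 0, 3, 5, 0, 5, 3, 1, 6, 0, 2, 4, 1, 4, 2, 1, 4, 1, 4, 1, 5]
def bw435 : List ℕ := [1, 4, 4, 1, 4, 1, 4, 3, 5, 0, 5, 3, 1, 0, 0, 2, 4, 1, 4, 2, 5, 0, 5, 0, 5, 5]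
def bw436 : List ℕ := [3, 4, 4, 1, 4, 1, 4, 3, 5, 0, 5, 3, 1, 2, 0, 2, 4, 1, 4, 2, 5, 0, 5, 0, 5, 5]
def bw437 : List ℕ := [5, 4, 4, 1, 4, 1, 4, 3, 5, 0, 5, 3, 1, 4, 0, 2, 4, 1, 4, 2, 5, 0, 5, 0, 5, 5]
def bw438 : List ℕ := [7, 4, 4, 1, 4, 1, 4, 3, 5, 0, 5, 3, 1, 6, 0, 2, 4, 1, 4, 2, 5, 0, 5, 0, 5, 5]
def bw439 : List ℕ := [1, 4, 1, 3, 5, 3, 1, 4, 1, 3, 5, 3, 1, 0, 0, 2, 4, 2, 0, 5, 0, 2, 4, 2, 0, 5]
def bw440 : List ℕ := [3, 4, 1, 3, 5, 3, 1, 4, 1, 3, 5, 3, 1, 2, 0, 2, 4, 2, 0, 5, 0, 2, 4, 2, 0, 5]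
def bw441 : List ℕ := [5, 4, 1, 3, 5, 3, 1, 4, 1, 3, 5, 3, 1, 4, 0, 2, 4, 2, 0, 5, 0, 2, 4, 2, 0, 5]
def bw442 : List ℕ := [7, 4, 1, 3, 5, 3, 1, 4, 1, 3, 5, 3, 1, 6, 0, 2, 4, 2, 0, 5, 0, 2, 4, 2, 0, 5]
def bw443 : List ℕ := [1, 2, 0, 2, 5, 3, 5, 0, 5, 3, 5, 3, 1, 0, 0, 2, 4, 2, 4, 1, 4, 2, 4, 3, 1, 3]
def bw444 : List ℕ := [3, 2, 0, 2, 5, 3, 5, 0, 5, 3, 5, 3, 1, 2, 0, 2, 4, 2, 4, 1, 4, 2, 4, 3, 1, 3]
def bw445 : List ℕ := [5, 2, 0, 2, 5, 3, 5, 0, 5, 3, 5, 3, 1, 4, 0, 2, 4, 2, 4, 1, 4, 2, 4, 3, 1, 3]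
def bw446 : List ℕ := [7, 2, 0, 2, 5, 3, 5, 0, 5, 3, 5, 3, 1, 6, 0, 2, 4, 2, 4, 1, 4, 2, 4, 3, 1, 3]
def bw447 : List ℕ := [1, 4, 2, 4, 1, 3, 5, 3, 5, 3, 5, 3, 1, 0, 0, 2, 4, 2, 4, 2, 4, 2, 0, 5, 3, 5]
def bw448 : List ℕ := [3, 4, 2, 4, 1, 3, 5, 3, 5, 3, 5, 3, 1, 2, 0, 2, 4, 2, 4, 2, 4, 2, 0, 5, 3, 5]
def bw449 : List ℕ := [5, 4, 2, 4, 1, 3, 5, 3, 5, 3, 5, 3, 1, 4, 0, 2, 4, 2, 4, 2, 4, 2, 0, 5, 3, 5]
def bw450 : List ℕ := [7, 4, 2, 4, 1, 3, 5, 3, 5, 3, 5, 3, 1, 6, 0, 2, 4, 2, 4, 2, 4, 2, 0, 5, 3, 5]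
def bw451 : List ℕ := [1, 4, 2, 4, 1, 2, 4, 2, 4, 2, 5, 3, 1, 0, 0, 2, 4, 3, 5, 3, 5, 3, 0, 5, 3, 5]
def bw452 : List ℕ := [3, 4, 2, 4, 1, 2, 4, 2, 4, 2, 5, 3, 1, 2, 0, 2, 4, 3, 5, 3, 5, 3, 0, 5, 3, 5]
def bw453 : List ℕ := [5, 4, 2, 4, 1, 2, 4, 2, 4, 2, 5, 3, 1, 4, 0, 2, 4, 3, 5, 3, 5, 3, 0, 5, 3, 5]
def bw454 : List ℕ := [7, 4, 2, 4, 1, 2, 4, 2, 4, 2, 5, 3, 1, 6, 0, 2, 4, 3, 5, 3, 5, 3, 0, 5, 3, 5]
def bw455 : List ℕ := [1, 4, 2, 4, 1, 5, 3, 5, 3, 5, 5, 3, 1, 0, 0, 2, 4, 4, 2, 4, 2, 4, 0, 5, 3, 5]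
def bw456 : List ℕ := [3, 4, 2, 4, 1, 5, 3, 5, 3, 5, 5, 3, 1, 2, 0, 2, 4, 4, 2, 4, 2, 4, 0, 5, 3, 5]
def bw457 : List ℕ := [5, 4, 2, 4, 1, 5, 3, 5, 3, 5, 5, 3, 1, 4, 0, 2, 4, 4, 2, 4, 2, 4, 0, 5, 3, 5]
def bw458 : List ℕ := [7, 4, 2, 4, 1, 5, 3, 5, 3, 5, 5, 3, 1, 6, 0, 2, 4, 4, 2, 4, 2, 4, 0, 5, 3, 5]
def bw459 : List ℕ := [1, 4, 3, 1, 4, 3, 1, 4, 3, 1, 4, 3, 1, 0, 0, 2, 5, 0, 2, 5, 0, 2, 5, 0, 2, 5]
def bw460 : List ℕ := [3, 4, 3, 1, 4, 3, 1, 4, 3, 1, 4, 3, 1, 2, 0, 2, 5, 0, 2, 5, 0, 2, 5, 0, 2, 5]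
def bw461 : List ℕ := [5, 4, 3, 1, 4, 3, 1, 4, 3, 1, 4, 3, 1, 4, 0, 2, 5, 0, 2, 5, 0, 2, 5, 0, 2, 5]
def bw462 : List ℕ := [7, 4, 3, 1, 4, 3, 1, 4, 3, 1, 4, 3, 1, 6, 0, 2, 5, 0, 2, 5, 0, 2, 5, 0, 2, 5]
def bw463 : List ℕ := [1, 4, 4, 3, 3, 3, 0, 3, 0, 3, 4, 3, 1, 0, 0, 2, 5, 2, 1, 2, 1, 2, 2, 2, 5, 5]
def bw464 : List ℕ := [3, 4, 4, 3, 3, 3, 0, 3, 0, 3, 4, 3, 1, 2, 0, 2, 5, 2, 1, 2, 1, 2, 2, 2, 5, 5]
def bw465 : List ℕ := [5, 4, 4, 3, 3, 3, 0, 3, 0, 3, 4, 3, 1, 4, 0, 2, 5, 2, 1, 2, 1, 2, 2, 2, 5, 5]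
def bw466 : List ℕ := [7, 4, 4, 3, 3, 3, 0, 3, 0, 3, 4, 3, 1, 6, 0, 2, 5, 2, 1, 2, 1, 2, 2, 2, 5, 5]
def bw467 : List ℕ := [1, 5, 2, 5, 1, 3, 4, 3, 4, 3, 4, 3, 1, 0, 0, 2, 5, 2, 5, 2, 5, 2, 0, 4, 3, 4]
def bw468 : List ℕ := [3, 5, 2, 5, 1, 3, 4, 3, 4, 3, 4, 3, 1, 2, 0, 2, 5, 2, 5, 2, 5, 2, 0, 4, 3, 4]
def bw469 : List ℕ := [5, 5, 2, 5, 1, 3, 4, 3, 4, 3, 4, 3, 1, 4, 0, 2, 5, 2, 5, 2, 5, 2, 0, 4, 3, 4]
def bw470 : List ℕ := [7, 5, 2, 5, 1, 3, 4, 3, 4, 3, 4, 3, 1, 6, 0, 2, 5, 2, 5, 2, 5, 2, 0, 4, 3, 4]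
def bw471 : List ℕ := [1, 4, 2, 4, 1, 3, 4, 2, 4, 2, 4, 3, 1, 0, 0, 2, 5, 3, 5, 3, 5, 2, 0, 5, 3, 5]
def bw472 : List ℕ := [3, 4, 2, 4, 1, 3, 4, 2, 4, 2, 4, 3, 1, 2, 0, 2, 5, 3, 5, 3, 5, 2, 0, 5, 3, 5]
def bw473 : List ℕ := [5, 4, 2, 4, 1, 3, 4, 2, 4, 2, 4, 3, 1, 4, 0, 2, 5, 3, 5, 3, 5, 2, 0, 5, 3, 5]
def bw474 : List ℕ := [7, 4, 2, 4, 1, 3, 4, 2, 4, 2, 4, 3, 1, 6, 0, 2, 5, 3, 5, 3, 5, 2, 0, 5, 3, 5]
def bw475 : List ℕ := [1, 2, 5, 1, 3, 0, 4, 4, 3, 4, 4, 3, 1, 0, 0, 2, 5, 5, 2, 5, 5, 1, 2, 0, 4, 3]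
def bw476 : List ℕ := [3, 2, 5, 1, 3, 0, 4, 4, 3, 4, 4, 3, 1, 2, 0, 2, 5, 5, 2, 5, 5, 1, 2, 0, 4, 3]
def bw477 : List ℕ := [5, 2, 5, 1, 3, 0, 4, 4, 3, 4, 4, 3, 1, 4, 0, 2, 5, 5, 2, 5, 5, 1, 2, 0, 4, 3]
def bw478 : List ℕ := [7, 2, 5, 1, 3, 0, 4, 4, 3, 4, 4, 3, 1, 6, 0, 2, 5, 5, 2, 5, 5, 1, 2, 0, 4, 3]
def bw479 : List ℕ := [1, 2, 5, 2, 0, 5, 5, 2, 2, 2, 1, 2, 1, 0, 0, 3, 0, 3, 3, 3, 4, 4, 1, 3, 4, 3]
def bw480 : List ℕ := [3, 2, 5, 2, 0, 5, 5, 2, 2, 2, 1, 2, 1, 2, 0, 3, 0, 3, 3, 3, 4, 4, 1, 3, 4, 3]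
def bw481 : List ℕ := [5, 2, 5, 2, 0, 5, 5, 2, 2, 2, 1, 2, 1, 4, 0, 3, 0, 3, 3, 3, 4, 4, 1, 3, 4, 3]
def bw482 : List ℕ := [7, 2, 5, 2, 0, 5, 5, 2, 2, 2, 1, 2, 1, 6, 0, 3, 0, 3, 3, 3, 4, 4, 1, 3, 4, 3]
def bw483 : List ℕ := [1, 3, 4, 1, 2, 1, 3, 3, 0, 5, 1, 2, 1, 0, 0, 3, 0, 4, 1, 2, 2, 0, 3, 0, 5, 2]
def bw484 : List ℕ := [3, 3, 4, 1, 2, 1, 3, 3, 0, 5, 1, 2, 1, 2, 0, 3, 0, 4, 1, 2, 2, 0, 3, 0, 5, 2]
def bw485 : List ℕ := [5, 3, 4, 1, 2, 1, 3, 3, 0, 5, 1, 2, 1, 4, 0, 3, 0, 4, 1, 2, 2, 0, 3, 0, 5, 2]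
def bw486 : List ℕ := [7, 3, 4, 1, 2, 1, 3, 3, 0, 5, 1, 2, 1, 6, 0, 3, 0, 4, 1, 2, 2, 0, 3, 0, 5, 2]
def bw487 : List ℕ := [1, 4, 2, 4, 1, 3, 5, 2, 4, 2, 4, 2, 1, 0, 0, 3, 5, 3, 5, 3, 4, 2, 0, 5, 3, 5]
def bw488 : List ℕ := [3, 4, 2, 4, 1, 3, 5, 2, 4, 2, 4, 2, 1, 2, 0, 3, 5, 3, 5, 3, 4, 2, 0, 5, 3, 5]
def bw489 : List ℕ := [5, 4, 2, 4, 1, 3, 5, 2, 4, 2, 4, 2, 1, 4, 0, 3, 5, 3, 5, 3, 4, 2, 0, 5, 3, 5]
def bw490 : List ℕ := [7, 4, 2, 4, 1, 3, 5, 2, 4, 2, 4, 2, 1, 6, 0, 3, 5, 3, 5, 3, 4, 2, 0, 5, 3, 5]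
def bw491 : List ℕ := [1, 4, 1, 4, 1, 2, 4, 1, 4, 2, 0, 5, 1, 0, 0, 4, 1, 3, 5, 0, 5, 3, 0, 5, 0, 5]
def bw492 : List ℕ := [3, 4, 1, 4, 1, 2, 4, 1, 4, 2, 0, 5, 1, 2, 0, 4, 1, 3, 5, 0, 5, 3, 0, 5, 0, 5]
def bw493 : List ℕ := [5, 4, 1, 4, 1, 2, 4, 1, 4, 2, 0, 5, 1, 4, 0, 4, 1, 3, 5, 0, 5, 3, 0, 5, 0, 5]
def bw494 : List ℕ := [7, 4, 1, 4, 1, 2, 4, 1, 4, 2, 0, 5, 1, 6, 0, 4, 1, 3, 5, 0, 5, 3, 0, 5, 0, 5]
def bw495 : List ℕ := [1, 5, 0, 5, 0, 5, 5, 5, 0, 5, 0, 5, 1, 0, 0, 4, 1, 4, 1, 4, 4, 4, 1, 4, 1, 4]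
def bw496 : List ℕ := [3, 5, 0, 5, 0, 5, 5, 5, 0, 5, 0, 5, 1, 2, 0, 4, 1, 4, 1, 4, 4, 4, 1, 4, 1, 4]
def bw497 : List ℕ := [5, 5, 0, 5, 0, 5, 5, 5, 0, 5, 0, 5, 1, 4, 0, 4, 1, 4, 1, 4, 4, 4, 1, 4, 1, 4]
def bw498 : List ℕ := [7, 5, 0, 5, 0, 5, 5, 5, 0, 5, 0, 5, 1, 6, 0, 4, 1, 4, 1, 4, 4, 4, 1, 4, 1, 4]
def bw499 : List ℕ := [1, 4, 2, 4, 1, 3, 5, 5, 3, 5, 3, 5, 1, 0, 0, 4, 2, 4, 2, 4, 4, 2, 0, 5, 3, 5]
def bw500 : List ℕ := [3, 4, 2, 4, 1, 3, 5, 5, 3, 5, 3, 5, 1, 2, 0, 4, 2, 4, 2, 4, 4, 2, 0, 5, 3, 5]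
def bw501 : List ℕ := [5, 4, 2, 4, 1, 3, 5, 5, 3, 5, 3, 5, 1, 4, 0, 4, 2, 4, 2, 4, 4, 2, 0, 5, 3, 5]
def bw502 : List ℕ := [7, 4, 2, 4, 1, 3, 5, 5, 3, 5, 3, 5, 1, 6, 0, 4, 2, 4, 2, 4, 4, 2, 0, 5, 3, 5]
def bw503 : List ℕ := [1, 4, 3, 3, 5, 5, 1, 4, 3, 3, 5, 5, 1, 0, 0, 4, 4, 2, 2, 5, 0, 4, 4, 2, 2, 5]
def bw504 : List ℕ := [3, 4, 3, 3, 5, 5, 1, 4, 3, 3, 5, 5, 1, 2, 0, 4, 4, 2, 2, 5, 0, 4, 4, 2, 2, 5]
def bw505 : List ℕ := [5, 4, 3, 3, 5, 5, 1, 4, 3, 3, 5, 5, 1, 4, 0, 4, 4, 2, 2, 5, 0, 4, 4, 2, 2, 5]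
def bw506 : List ℕ := [7, 4, 3, 3, 5, 5, 1, 4, 3, 3, 5, 5, 1, 6, 0, 4, 4, 2, 2, 5, 0, 4, 4, 2, 2, 5]
def bw507 : List ℕ := [1, 4, 4, 1, 3, 5, 0, 5, 3, 4, 1, 4, 1, 0, 0, 5, 0, 5, 2, 4, 1, 4, 2, 0, 5, 5]
def bw508 : List ℕ := [3, 4, 4, 1, 3, 5, 0, 5, 3, 4, 1, 4, 1, 2, 0, 5, 0, 5, 2, 4, 1, 4, 2, 0, 5, 5]
def bw509 : List ℕ := [5, 4, 4, 1, 3, 5, 0, 5, 3, 4, 1, 4, 1, 4, 0, 5, 0, 5, 2, 4, 1, 4, 2, 0, 5, 5]
def bw510 : List ℕ := [7, 4, 4, 1, 3, 5, 0, 5, 3, 4, 1, 4, 1, 6, 0, 5, 0, 5, 2, 4, 1, 4, 2, 0, 5, 5]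
def bw511 : List ℕ := [1, 3, 4, 1, 3, 4, 1, 3, 4, 1, 3, 4, 1, 0, 0, 5, 2, 0, 5, 2, 0, 5, 2, 0, 5, 2]
def bw512 : List ℕ := [3, 3, 4, 1, 3, 4, 1, 3, 4, 1, 3, 4, 1, 2, 0, 5, 2, 0, 5, 2, 0, 5, 2, 0, 5, 2]
def bw513 : List ℕ := [5, 3, 4, 1, 3, 4, 1, 3, 4, 1, 3, 4, 1, 4, 0, 5, 2, 0, 5, 2, 0, 5, 2, 0, 5, 2]
def bw514 : List ℕ := [7, 3, 4, 1, 3, 4, 1, 3, 4, 1, 3, 4, 1, 6, 0, 5, 2, 0, 5, 2, 0, 5, 2, 0, 5, 2]
def bw515 : List ℕ := [1, 5, 5, 3, 3, 4, 1, 5, 5, 3, 3, 4, 1, 0, 0, 5, 2, 2, 4, 4, 0, 5, 2, 2, 4, 4]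
def bw516 : List ℕ := [3, 5, 5, 3, 3, 4, 1, 5, 5, 3, 3, 4, 1, 2, 0, 5, 2, 2, 4, 4, 0, 5, 2, 2, 4, 4]
def bw517 : List ℕ := [5, 5, 5, 3, 3, 4, 1, 5, 5, 3, 3, 4, 1, 4, 0, 5, 2, 2, 4, 4, 0, 5, 2, 2, 4, 4]
def bw518 : List ℕ := [7, 5, 5, 3, 3, 4, 1, 5, 5, 3, 3, 4, 1, 6, 0, 5, 2, 2, 4, 4, 0, 5, 2, 2, 4, 4]
def bw519 : List ℕ := [1, 5, 3, 5, 3, 4, 3, 5, 3, 5, 3, 3, 3, 0, 2, 2, 2, 4, 2, 4, 2, 5, 2, 4, 2, 4]
def bw520 : List ℕ := [3, 5, 3, 5, 3, 4, 3, 5, 3, 5, 3, 3, 3, 2, 2, 2, 2, 4, 2, 4, 2, 5, 2, 4, 2, 4]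
def bw521 : List ℕ := [5, 5, 3, 5, 3, 4, 3, 5, 3, 5, 3, 3, 3, 4, 2, 2, 2, 4, 2, 4, 2, 5, 2, 4, 2, 4]
def bw522 : List ℕ := [7, 5, 3, 5, 3, 4, 3, 5, 3, 5, 3, 3, 3, 6, 2, 2, 2, 4, 2, 4, 2, 5, 2, 4, 2, 4]
def bw523 : List ℕ := [1, 5, 5, 3, 3, 5, 5, 3, 3, 5, 5, 3, 3, 0, 2, 2, 4, 4, 2, 2, 4, 4, 2, 2, 4, 4]
def bw524 : List ℕ := [3, 5, 5, 3, 3, 5, 5, 3, 3, 5, 5, 3, 3, 2, 2, 2, 4, 4, 2, 2, 4, 4, 2, 2, 4, 4]
def bw525 : List ℕ := [5, 5, 5, 3, 3, 5, 5, 3, 3, 5, 5, 3, 3, 4, 2, 2, 4, 4, 2, 2, 4, 4, 2, 2, 4, 4]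
def bw526 : List ℕ := [7, 5, 5, 3, 3, 5, 5, 3, 3, 5, 5, 3, 3, 6, 2, 2, 4, 4, 2, 2, 4, 4, 2, 2, 4, 4]
def bw527 : List ℕ := [1, 5, 5, 5, 3, 5, 3, 5, 2, 5, 3, 5, 3, 0, 2, 4, 2, 4, 3, 4, 2, 4, 2, 4, 4, 4]
def bw528 : List ℕ := [3, 5, 5, 5, 3, 5, 3, 5, 2, 5, 3, 5, 3, 2, 2, 4, 2, 4, 3, 4, 2, 4, 2, 4, 4, 4]
def bw529 : List ℕ := [5, 5, 5, 5, 3, 5, 3, 5, 2, 5, 3, 5, 3, 4, 2, 4, 2, 4, 3, 4, 2, 4, 2, 4, 4, 4]
def bw530 : List ℕ := [7, 5, 5, 5, 3, 5, 3, 5, 2, 5, 3, 5, 3, 6, 2, 4, 2, 4, 3, 4, 2, 4, 2, 4, 4, 4]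
def bw531 : List ℕ := [1, 4, 3, 5, 2, 5, 3, 4, 3, 5, 2, 5, 3, 0, 2, 4, 3, 4, 2, 5, 2, 4, 3, 4, 2, 5]
def bw532 : List ℕ := [3, 4, 3, 5, 2, 5, 3, 4, 3, 5, 2, 5, 3, 2, 2, 4, 3, 4, 2, 5, 2, 4, 3, 4, 2, 5]
def bw533 : List ℕ := [5, 4, 3, 5, 2, 5, 3, 4, 3, 5, 2, 5, 3, 4, 2, 4, 3, 4, 2, 5, 2, 4, 3, 4, 2, 5]
def bw534 : List ℕ := [7, 4, 3, 5, 2, 5, 3, 4, 3, 5, 2, 5, 3, 6, 2, 4, 3, 4, 2, 5, 2, 4, 3, 4, 2, 5]
def bw535 : List ℕ := [1, 7, 2, 7, 1, 7, 2, 7, 1, 0, 0, 6, 3, 6, 0, 6, 3, 6]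
def bw536 : List ℕ := [3, 7, 2, 7, 1, 7, 2, 7, 1, 2, 0, 6, 3, 6, 0, 6, 3, 6]
def bw537 : List ℕ := [5, 7, 2, 7, 1, 7, 2, 7, 1, 4, 0, 6, 3, 6, 0, 6, 3, 6]
def bw538 : List ℕ := [7, 7, 2, 7, 1, 7, 2, 7, 1, 6, 0, 6, 3, 6, 0, 6, 3, 6]
def bw539 : List ℕ := [1, 6, 5, 6, 5, 6, 5, 6, 5, 0, 4, 7, 4, 7, 4, 7, 4, 7]
def bw540 : List ℕ := [3, 6, 5, 6, 5, 6, 5, 6, 5, 2, 4, 7, 4, 7, 4, 7, 4, 7]
def bw541 : List ℕ := [5, 6, 5, 6, 5, 6, 5, 6, 5, 4, 4, 7, 4, 7, 4, 7, 4, 7]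
def bw542 : List ℕ := [7, 6, 5, 6, 5, 6, 5, 6, 5, 6, 4, 7, 4, 7, 4, 7, 4, 7]
def bw543 : List ℕ := [1, 6, 5, 2, 5, 5, 3, 5, 2, 7, 4, 1, 0, 0, 5, 6, 3, 4, 2, 4, 4, 3, 4, 7]
def bw544 : List ℕ := [3, 6, 5, 2, 5, 5, 3, 5, 2, 7, 4, 1, 2, 0, 5, 6, 3, 4, 2, 4, 4, 3, 4, 7]
def bw545 : List ℕ := [5, 6, 5, 2, 5, 5, 3, 5, 2, 7, 4, 1, 4, 0, 5, 6, 3, 4, 2, 4, 4, 3, 4, 7]
def bw546 : List ℕ := [7, 6, 5, 2, 5, 5, 3, 5, 2, 7, 4, 1, 6, 0, 5, 6, 3, 4, 2, 4, 4, 3, 4, 7]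
def bw547 : List ℕ := [1, 3, 6, 3, 6, 1, 3, 7, 2, 7, 1, 1, 1, 0, 0, 0, 0, 6, 3, 6, 2, 0, 7, 2, 7, 2]
def bw548 : List ℕ := [3, 3, 6, 3, 6, 1, 3, 7, 2, 7, 1, 1, 1, 2, 0, 0, 0, 6, 3, 6, 2, 0, 7, 2, 7, 2]
def bw549 : List ℕ := [5, 3, 6, 3, 6, 1, 3, 7, 2, 7, 1, 1, 1, 4, 0, 0, 0, 6, 3, 6, 2, 0, 7, 2, 7, 2]
def bw550 : List ℕ := [7, 3, 6, 3, 6, 1, 3, 7, 2, 7, 1, 1, 1, 6, 0, 0, 0, 6, 3, 6, 2, 0, 7, 2, 7, 2]
def bw551 : List ℕ := [1, 7, 1, 7, 2, 7, 1, 7, 1, 1, 3, 1, 1, 0, 0, 0, 2, 0, 0, 6, 0, 6, 3, 6, 0, 6]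
def bw552 : List ℕ := [3, 7, 1, 7, 2, 7, 1, 7, 1, 1, 3, 1, 1, 2, 0, 0, 2, 0, 0, 6, 0, 6, 3, 6, 0, 6]
def bw553 : List ℕ := [5, 7, 1, 7, 2, 7, 1, 7, 1, 1, 3, 1, 1, 4, 0, 0, 2, 0, 0, 6, 0, 6, 3, 6, 0, 6]
def bw554 : List ℕ := [7, 7, 1, 7, 2, 7, 1, 7, 1, 1, 3, 1, 1, 6, 0, 0, 2, 0, 0, 6, 0, 6, 3, 6, 0, 6]
def bw555 : List ℕ := [1, 3, 6, 3, 6, 0, 6, 3, 6, 1, 3, 1, 1, 0, 0, 0, 2, 0, 7, 2, 7, 1, 7, 2, 7, 2]
def bw556 : List ℕ := [3, 3, 6, 3, 6, 0, 6, 3, 6, 1, 3, 1, 1, 2, 0, 0, 2, 0, 7, 2, 7, 1, 7, 2, 7, 2]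
def bw557 : List ℕ := [5, 3, 6, 3, 6, 0, 6, 3, 6, 1, 3, 1, 1, 4, 0, 0, 2, 0, 7, 2, 7, 1, 7, 2, 7, 2]
def bw558 : List ℕ := [7, 3, 6, 3, 6, 0, 6, 3, 6, 1, 3, 1, 1, 6, 0, 0, 2, 0, 7, 2, 7, 1, 7, 2, 7, 2]
def bw559 : List ℕ := [1, 3, 1, 6, 3, 6, 0, 6, 3, 6, 3, 1, 1, 0, 0, 0, 2, 7, 2, 7, 1, 7, 2, 7, 0, 2]
def bw560 : List ℕ := [3, 3, 1, 6, 3, 6, 0, 6, 3, 6, 3, 1, 1, 2, 0, 0, 2, 7, 2, 7, 1, 7, 2, 7, 0, 2]
def bw561 : List ℕ := [5, 3, 1, 6, 3, 6, 0, 6, 3, 6, 3, 1, 1, 4, 0, 0, 2, 7, 2, 7, 1, 7, 2, 7, 0, 2]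
def bw562 : List ℕ := [7, 3, 1, 6, 3, 6, 0, 6, 3, 6, 3, 1, 1, 6, 0, 0, 2, 7, 2, 7, 1, 7, 2, 7, 0, 2]
def bw563 : List ℕ := [1, 3, 7, 2, 7, 1, 2, 0, 7, 2, 7, 1, 1, 0, 0, 0, 6, 3, 6, 1, 3, 0, 6, 3, 6, 2]
def bw564 : List ℕ := [3, 3, 7, 2, 7, 1, 2, 0, 7, 2, 7, 1, 1, 2, 0, 0, 6, 3, 6, 1, 3, 0, 6, 3, 6, 2]
def bw565 : List ℕ := [5, 3, 7, 2, 7, 1, 2, 0, 7, 2, 7, 1, 1, 4, 0, 0, 6, 3, 6, 1, 3, 0, 6, 3, 6, 2]
def bw566 : List ℕ := [7, 3, 7, 2, 7, 1, 2, 0, 7, 2, 7, 1, 1, 6, 0, 0, 6, 3, 6, 1, 3, 0, 6, 3, 6, 2]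
def bw567 : List ℕ := [1, 3, 0, 6, 3, 6, 2, 0, 7, 2, 7, 1, 1, 0, 0, 0, 6, 3, 6, 1, 3, 7, 2, 7, 1, 2]
def bw568 : List ℕ := [3, 3, 0, 6, 3, 6, 2, 0, 7, 2, 7, 1, 1, 2, 0, 0, 6, 3, 6, 1, 3, 7, 2, 7, 1, 2]
def bw569 : List ℕ := [5, 3, 0, 6, 3, 6, 2, 0, 7, 2, 7, 1, 1, 4, 0, 0, 6, 3, 6, 1, 3, 7, 2, 7, 1, 2]
def bw570 : List ℕ := [7, 3, 0, 6, 3, 6, 2, 0, 7, 2, 7, 1, 1, 6, 0, 0, 6, 3, 6, 1, 3, 7, 2, 7, 1, 2]
def bw571 : List ℕ := [1, 4, 7, 2, 7, 1, 5, 0, 7, 2, 7, 1, 1, 0, 0, 0, 6, 3, 6, 1, 4, 0, 6, 3, 6, 5]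
def bw572 : List ℕ := [3, 4, 7, 2, 7, 1, 5, 0, 7, 2, 7, 1, 1, 2, 0, 0, 6, 3, 6, 1, 4, 0, 6, 3, 6, 5]
def bw573 : List ℕ := [5, 4, 7, 2, 7, 1, 5, 0, 7, 2, 7, 1, 1, 4, 0, 0, 6, 3, 6, 1, 4, 0, 6, 3, 6, 5]
def bw574 : List ℕ := [7, 4, 7, 2, 7, 1, 5, 0, 7, 2, 7, 1, 1, 6, 0, 0, 6, 3, 6, 1, 4, 0, 6, 3, 6, 5]
def bw575 : List ℕ := [1, 4, 0, 6, 3, 6, 5, 0, 7, 2, 7, 1, 1, 0, 0, 0, 6, 3, 6, 1, 4, 7, 2, 7, 1, 5]
def bw576 : List ℕ := [3, 4, 0, 6, 3, 6, 5, 0, 7, 2, 7, 1, 1, 2, 0, 0, 6, 3, 6, 1, 4, 7, 2, 7, 1, 5]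
def bw577 : List ℕ := [5, 4, 0, 6, 3, 6, 5, 0, 7, 2, 7, 1, 1, 4, 0, 0, 6, 3, 6, 1, 4, 7, 2, 7, 1, 5]
def bw578 : List ℕ := [7, 4, 0, 6, 3, 6, 5, 0, 7, 2, 7, 1, 1, 6, 0, 0, 6, 3, 6, 1, 4, 7, 2, 7, 1, 5]
def bw579 : List ℕ := [1, 3, 7, 2, 7, 2, 0, 3, 7, 2, 7, 1, 1, 0, 0, 0, 6, 3, 6, 2, 1, 3, 6, 3, 6, 2]
def bw580 : List ℕ := [3, 3, 7, 2, 7, 2, 0, 3, 7, 2, 7, 1, 1, 2, 0, 0, 6, 3, 6, 2, 1, 3, 6, 3, 6, 2]
def bw581 : List ℕ := [5, 3, 7, 2, 7, 2, 0, 3, 7, 2, 7, 1, 1, 4, 0, 0, 6, 3, 6, 2, 1, 3, 6, 3, 6, 2]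
def bw582 : List ℕ := [7, 3, 7, 2, 7, 2, 0, 3, 7, 2, 7, 1, 1, 6, 0, 0, 6, 3, 6, 2, 1, 3, 6, 3, 6, 2]
def bw583 : List ℕ := [1, 3, 6, 3, 6, 1, 3, 0, 6, 3, 6, 1, 1, 0, 0, 0, 7, 2, 7, 1, 2, 0, 7, 2, 7, 2]
def bw584 : List ℕ := [3, 3, 6, 3, 6, 1, 3, 0, 6, 3, 6, 1, 1, 2, 0, 0, 7, 2, 7, 1, 2, 0, 7, 2, 7, 2]
def bw585 : List ℕ := [5, 3, 6, 3, 6, 1, 3, 0, 6, 3, 6, 1, 1, 4, 0, 0, 7, 2, 7, 1, 2, 0, 7, 2, 7, 2]
def bw586 : List ℕ := [7, 3, 6, 3, 6, 1, 3, 0, 6, 3, 6, 1, 1, 6, 0, 0, 7, 2, 7, 1, 2, 0, 7, 2, 7, 2]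
def bw587 : List ℕ := [1, 3, 6, 3, 6, 2, 1, 3, 6, 3, 6, 1, 1, 0, 0, 0, 7, 2, 7, 2, 0, 3, 7, 2, 7, 2]
def bw588 : List ℕ := [3, 3, 6, 3, 6, 2, 1, 3, 6, 3, 6, 1, 1, 2, 0, 0, 7, 2, 7, 2, 0, 3, 7, 2, 7, 2]
def bw589 : List ℕ := [5, 3, 6, 3, 6, 2, 1, 3, 6, 3, 6, 1, 1, 4, 0, 0, 7, 2, 7, 2, 0, 3, 7, 2, 7, 2]
def bw590 : List ℕ := [7, 3, 6, 3, 6, 2, 1, 3, 6, 3, 6, 1, 1, 6, 0, 0, 7, 2, 7, 2, 0, 3, 7, 2, 7, 2]
def bw591 : List ℕ := [1, 7, 1, 7, 2, 7, 1, 7, 1, 3, 1, 3, 1, 0, 0, 2, 0, 2, 0, 6, 0, 6, 3, 6, 0, 6]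
def bw592 : List ℕ := [3, 7, 1, 7, 2, 7, 1, 7, 1, 3, 1, 3, 1, 2, 0, 2, 0, 2, 0, 6, 0, 6, 3, 6, 0, 6]
def bw593 : List ℕ := [5, 7, 1, 7, 2, 7, 1, 7, 1, 3, 1, 3, 1, 4, 0, 2, 0, 2, 0, 6, 0, 6, 3, 6, 0, 6]
def bw594 : List ℕ := [7, 7, 1, 7, 2, 7, 1, 7, 1, 3, 1, 3, 1, 6, 0, 2, 0, 2, 0, 6, 0, 6, 3, 6, 0, 6]
def bw595 : List ℕ := [1, 3, 6, 3, 6, 0, 6, 3, 6, 3, 1, 3, 1, 0, 0, 2, 0, 2, 7, 2, 7, 1, 7, 2, 7, 2]
def bw596 : List ℕ := [3, 3, 6, 3, 6, 0, 6, 3, 6, 3, 1, 3, 1, 2, 0, 2, 0, 2, 7, 2, 7, 1, 7, 2, 7, 2]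
def bw597 : List ℕ := [5, 3, 6, 3, 6, 0, 6, 3, 6, 3, 1, 3, 1, 4, 0, 2, 0, 2, 7, 2, 7, 1, 7, 2, 7, 2]
def bw598 : List ℕ := [7, 3, 6, 3, 6, 0, 6, 3, 6, 3, 1, 3, 1, 6, 0, 2, 0, 2, 7, 2, 7, 1, 7, 2, 7, 2]
def bw599 : List ℕ := [1, 6, 0, 6, 3, 6, 0, 6, 0, 2, 1, 3, 1, 0, 0, 2, 0, 3, 1, 7, 1, 7, 2, 7, 1, 7]
def bw600 : List ℕ := [3, 6, 0, 6, 3, 6, 0, 6, 0, 2, 1, 3, 1, 2, 0, 2, 0, 3, 1, 7, 1, 7, 2, 7, 1, 7]
def bw601 : List ℕ := [5, 6, 0, 6, 3, 6, 0, 6, 0, 2, 1, 3, 1, 4, 0, 2, 0, 3, 1, 7, 1, 7, 2, 7, 1, 7]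
def bw602 : List ℕ := [7, 6, 0, 6, 3, 6, 0, 6, 0, 2, 1, 3, 1, 6, 0, 2, 0, 3, 1, 7, 1, 7, 2, 7, 1, 7]
def bw603 : List ℕ := [1, 2, 7, 2, 7, 1, 7, 2, 7, 2, 1, 3, 1, 0, 0, 2, 0, 3, 6, 3, 6, 0, 6, 3, 6, 3]
def bw604 : List ℕ := [3, 2, 7, 2, 7, 1, 7, 2, 7, 2, 1, 3, 1, 2, 0, 2, 0, 3, 6, 3, 6, 0, 6, 3, 6, 3]
def bw605 : List ℕ := [5, 2, 7, 2, 7, 1, 7, 2, 7, 2, 1, 3, 1, 4, 0, 2, 0, 3, 6, 3, 6, 0, 6, 3, 6, 3]
def bw606 : List ℕ := [7, 2, 7, 2, 7, 1, 7, 2, 7, 2, 1, 3, 1, 6, 0, 2, 0, 3, 6, 3, 6, 0, 6, 3, 6, 3]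
def bw607 : List ℕ := [1, 7, 4, 3, 1, 7, 4, 7, 2, 7, 1, 3, 1, 0, 0, 2, 0, 6, 3, 6, 5, 6, 0, 2, 5, 6]
def bw608 : List ℕ := [3, 7, 4, 3, 1, 7, 4, 7, 2, 7, 1, 3, 1, 2, 0, 2, 0, 6, 3, 6, 5, 6, 0, 2, 5, 6]
def bw609 : List ℕ := [5, 7, 4, 3, 1, 7, 4, 7, 2, 7, 1, 3, 1, 4, 0, 2, 0, 6, 3, 6, 5, 6, 0, 2, 5, 6]
def bw610 : List ℕ := [7, 7, 4, 3, 1, 7, 4, 7, 2, 7, 1, 3, 1, 6, 0, 2, 0, 6, 3, 6, 5, 6, 0, 2, 5, 6]
def bw611 : List ℕ := [1, 2, 0, 6, 0, 6, 3, 6, 0, 6, 1, 3, 1, 0, 0, 2, 0, 7, 1, 7, 2, 7, 1, 7, 1, 3]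
def bw612 : List ℕ := [3, 2, 0, 6, 0, 6, 3, 6, 0, 6, 1, 3, 1, 2, 0, 2, 0, 7, 1, 7, 2, 7, 1, 7, 1, 3]
def bw613 : List ℕ := [5, 2, 0, 6, 0, 6, 3, 6, 0, 6, 1, 3, 1, 4, 0, 2, 0, 7, 1, 7, 2, 7, 1, 7, 1, 3]
def bw614 : List ℕ := [7, 2, 0, 6, 0, 6, 3, 6, 0, 6, 1, 3, 1, 6, 0, 2, 0, 7, 1, 7, 2, 7, 1, 7, 1, 3]
def bw615 : List ℕ := [1, 6, 3, 6, 5, 6, 0, 2, 5, 6, 1, 3, 1, 0, 0, 2, 0, 7, 4, 3, 1, 7, 4, 7, 2, 7]
def bw616 : List ℕ := [3, 6, 3, 6, 5, 6, 0, 2, 5, 6, 1, 3, 1, 2, 0, 2, 0, 7, 4, 3, 1, 7, 4, 7, 2, 7]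
def bw617 : List ℕ := [5, 6, 3, 6, 5, 6, 0, 2, 5, 6, 1, 3, 1, 4, 0, 2, 0, 7, 4, 3, 1, 7, 4, 7, 2, 7]
def bw618 : List ℕ := [7, 6, 3, 6, 5, 6, 0, 2, 5, 6, 1, 3, 1, 6, 0, 2, 0, 7, 4, 3, 1, 7, 4, 7, 2, 7]
def bw619 : List ℕ := [1, 7, 0, 2, 4, 1, 3, 5, 6, 3, 0, 3, 1, 0, 0, 2, 1, 2, 7, 4, 2, 0, 5, 3, 1, 6]
def bw620 : List ℕ := [3, 7, 0, 2, 4, 1, 3, 5, 6, 3, 0, 3, 1, 2, 0, 2, 1, 2, 7, 4, 2, 0, 5, 3, 1, 6]
def bw621 : List ℕ := [5, 7, 0, 2, 4, 1, 3, 5, 6, 3, 0, 3, 1, 4, 0, 2, 1, 2, 7, 4, 2, 0, 5, 3, 1, 6]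
def bw622 : List ℕ := [7, 7, 0, 2, 4, 1, 3, 5, 6, 3, 0, 3, 1, 6, 0, 2, 1, 2, 7, 4, 2, 0, 5, 3, 1, 6]
def bw623 : List ℕ := [1, 3, 7, 2, 7, 1, 7, 2, 7, 2, 0, 3, 1, 0, 0, 2, 1, 3, 6, 3, 6, 0, 6, 3, 6, 2]
def bw624 : List ℕ := [3, 3, 7, 2, 7, 1, 7, 2, 7, 2, 0, 3, 1, 2, 0, 2, 1, 3, 6, 3, 6, 0, 6, 3, 6, 2]
def bw625 : List ℕ := [5, 3, 7, 2, 7, 1, 7, 2, 7, 2, 0, 3, 1, 4, 0, 2, 1, 3, 6, 3, 6, 0, 6, 3, 6, 2]
def bw626 : List ℕ := [7, 3, 7, 2, 7, 1, 7, 2, 7, 2, 0, 3, 1, 6, 0, 2, 1, 3, 6, 3, 6, 0, 6, 3, 6, 2]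
def bw627 : List ℕ := [1, 3, 0, 6, 0, 6, 3, 6, 0, 6, 0, 3, 1, 0, 0, 2, 1, 7, 1, 7, 2, 7, 1, 7, 1, 2]
def bw628 : List ℕ := [3, 3, 0, 6, 0, 6, 3, 6, 0, 6, 0, 3, 1, 2, 0, 2, 1, 7, 1, 7, 2, 7, 1, 7, 1, 2]
def bw629 : List ℕ := [5, 3, 0, 6, 0, 6, 3, 6, 0, 6, 0, 3, 1, 4, 0, 2, 1, 7, 1, 7, 2, 7, 1, 7, 1, 2]
def bw630 : List ℕ := [7, 3, 0, 6, 0, 6, 3, 6, 0, 6, 0, 3, 1, 6, 0, 2, 1, 7, 1, 7, 2, 7, 1, 7, 1, 2]
def bw631 : List ℕ := [1, 7, 1, 7, 2, 7, 1, 7, 3, 1, 3, 3, 1, 0, 0, 2, 2, 0, 2, 6, 0, 6, 3, 6, 0, 6]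
def bw632 : List ℕ := [3, 7, 1, 7, 2, 7, 1, 7, 3, 1, 3, 3, 1, 2, 0, 2, 2, 0, 2, 6, 0, 6, 3, 6, 0, 6]
def bw633 : List ℕ := [5, 7, 1, 7, 2, 7, 1, 7, 3, 1, 3, 3, 1, 4, 0, 2, 2, 0, 2, 6, 0, 6, 3, 6, 0, 6]
def bw634 : List ℕ := [7, 7, 1, 7, 2, 7, 1, 7, 3, 1, 3, 3, 1, 6, 0, 2, 2, 0, 2, 6, 0, 6, 3, 6, 0, 6]
def bw635 : List ℕ := [1, 3, 7, 1, 7, 2, 7, 1, 7, 1, 3, 3, 1, 0, 0, 2, 2, 0, 6, 0, 6, 3, 6, 0, 6, 2]
def bw636 : List ℕ := [3, 3, 7, 1, 7, 2, 7, 1, 7, 1, 3, 3, 1, 2, 0, 2, 2, 0, 6, 0, 6, 3, 6, 0, 6, 2]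
def bw637 : List ℕ := [5, 3, 7, 1, 7, 2, 7, 1, 7, 1, 3, 3, 1, 4, 0, 2, 2, 0, 6, 0, 6, 3, 6, 0, 6, 2]
def bw638 : List ℕ := [7, 3, 7, 1, 7, 2, 7, 1, 7, 1, 3, 3, 1, 6, 0, 2, 2, 0, 6, 0, 6, 3, 6, 0, 6, 2]
def bw639 : List ℕ := [1, 7, 4, 2, 0, 5, 3, 1, 6, 3, 3, 3, 1, 0, 0, 2, 2, 2, 7, 0, 2, 4, 1, 3, 5, 6]
def bw640 : List ℕ := [3, 7, 4, 2, 0, 5, 3, 1, 6, 3, 3, 3, 1, 2, 0, 2, 2, 2, 7, 0, 2, 4, 1, 3, 5, 6]
def bw641 : List ℕ := [5, 7, 4, 2, 0, 5, 3, 1, 6, 3, 3, 3, 1, 4, 0, 2, 2, 2, 7, 0, 2, 4, 1, 3, 5, 6]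
def bw642 : List ℕ := [7, 7, 4, 2, 0, 5, 3, 1, 6, 3, 3, 3, 1, 6, 0, 2, 2, 2, 7, 0, 2, 4, 1, 3, 5, 6]
def bw643 : List ℕ := [1, 3, 3, 6, 3, 6, 0, 6, 3, 6, 3, 3, 1, 0, 0, 2, 2, 7, 2, 7, 1, 7, 2, 7, 2, 2]
def bw644 : List ℕ := [3, 3, 3, 6, 3, 6, 0, 6, 3, 6, 3, 3, 1, 2, 0, 2, 2, 7, 2, 7, 1, 7, 2, 7, 2, 2]
def bw645 : List ℕ := [5, 3, 3, 6, 3, 6, 0, 6, 3, 6, 3, 3, 1, 4, 0, 2, 2, 7, 2, 7, 1, 7, 2, 7, 2, 2]
def bw646 : List ℕ := [7, 3, 3, 6, 3, 6, 0, 6, 3, 6, 3, 3, 1, 6, 0, 2, 2, 7, 2, 7, 1, 7, 2, 7, 2, 2]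
def bw647 : List ℕ := [1, 2, 7, 0, 2, 4, 1, 3, 5, 6, 3, 3, 1, 0, 0, 2, 2, 7, 4, 2, 0, 5, 3, 1, 6, 3]
def bw648 : List ℕ := [3, 2, 7, 0, 2, 4, 1, 3, 5, 6, 3, 3, 1, 2, 0, 2, 2, 7, 4, 2, 0, 5, 3, 1, 6, 3]
def bw649 : List ℕ := [5, 2, 7, 0, 2, 4, 1, 3, 5, 6, 3, 3, 1, 4, 0, 2, 2, 7, 4, 2, 0, 5, 3, 1, 6, 3]
def bw650 : List ℕ := [7, 2, 7, 0, 2, 4, 1, 3, 5, 6, 3, 3, 1, 6, 0, 2, 2, 7, 4, 2, 0, 5, 3, 1, 6, 3]
def bw651 : List ℕ := [1, 4, 2, 2, 7, 0, 2, 6, 3, 3, 5, 3, 1, 0, 0, 2, 4, 2, 2, 7, 3, 1, 6, 3, 3, 5]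
def bw652 : List ℕ := [3, 4, 2, 2, 7, 0, 2, 6, 3, 3, 5, 3, 1, 2, 0, 2, 4, 2, 2, 7, 3, 1, 6, 3, 3, 5]
def bw653 : List ℕ := [5, 4, 2, 2, 7, 0, 2, 6, 3, 3, 5, 3, 1, 4, 0, 2, 4, 2, 2, 7, 3, 1, 6, 3, 3, 5]
def bw654 : List ℕ := [7, 4, 2, 2, 7, 0, 2, 6, 3, 3, 5, 3, 1, 6, 0, 2, 4, 2, 2, 7, 3, 1, 6, 3, 3, 5]
def bw655 : List ℕ := [1, 4, 1, 2, 7, 3, 1, 6, 0, 2, 5, 3, 1, 0, 0, 2, 4, 3, 1, 7, 0, 2, 6, 3, 0, 5]
def bw656 : List ℕ := [3, 4, 1, 2, 7, 3, 1, 6, 0, 2, 5, 3, 1, 2, 0, 2, 4, 3, 1, 7, 0, 2, 6, 3, 0, 5]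
def bw657 : List ℕ := [5, 4, 1, 2, 7, 3, 1, 6, 0, 2, 5, 3, 1, 4, 0, 2, 4, 3, 1, 7, 0, 2, 6, 3, 0, 5]
def bw658 : List ℕ := [7, 4, 1, 2, 7, 3, 1, 6, 0, 2, 5, 3, 1, 6, 0, 2, 4, 3, 1, 7, 0, 2, 6, 3, 0, 5]
def bw659 : List ℕ := [1, 7, 4, 0, 6, 3, 6, 3, 1, 7, 4, 3, 1, 0, 0, 2, 5, 6, 0, 2, 7, 2, 7, 1, 5, 6]
def bw660 : List ℕ := [3, 7, 4, 0, 6, 3, 6, 3, 1, 7, 4, 3, 1, 2, 0, 2, 5, 6, 0, 2, 7, 2, 7, 1, 5, 6]
def bw661 : List ℕ := [5, 7, 4, 0, 6, 3, 6, 3, 1, 7, 4, 3, 1, 4, 0, 2, 5, 6, 0, 2, 7, 2, 7, 1, 5, 6]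
def bw662 : List ℕ := [7, 7, 4, 0, 6, 3, 6, 3, 1, 7, 4, 3, 1, 6, 0, 2, 5, 6, 0, 2, 7, 2, 7, 1, 5, 6]
def bw663 : List ℕ := [1, 7, 4, 7, 2, 7, 3, 1, 3, 7, 4, 3, 1, 0, 0, 2, 5, 6, 2, 0, 2, 6, 3, 6, 5, 6]
def bw664 : List ℕ := [3, 7, 4, 7, 2, 7, 3, 1, 3, 7, 4, 3, 1, 2, 0, 2, 5, 6, 2, 0, 2, 6, 3, 6, 5, 6]
def bw665 : List ℕ := [5, 7, 4, 7, 2, 7, 3, 1, 3, 7, 4, 3, 1, 4, 0, 2, 5, 6, 2, 0, 2, 6, 3, 6, 5, 6]
def bw666 : List ℕ := [7, 7, 4, 7, 2, 7, 3, 1, 3, 7, 4, 3, 1, 6, 0, 2, 5, 6, 2, 0, 2, 6, 3, 6, 5, 6]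
def bw667 : List ℕ := [1, 7, 4, 7, 2, 7, 2, 0, 2, 7, 4, 3, 1, 0, 0, 2, 5, 6, 3, 1, 3, 6, 3, 6, 5, 6]
def bw668 : List ℕ := [3, 7, 4, 7, 2, 7, 2, 0, 2, 7, 4, 3, 1, 2, 0, 2, 5, 6, 3, 1, 3, 6, 3, 6, 5, 6]
def bw669 : List ℕ := [5, 7, 4, 7, 2, 7, 2, 0, 2, 7, 4, 3, 1, 4, 0, 2, 5, 6, 3, 1, 3, 6, 3, 6, 5, 6]
def bw670 : List ℕ := [7, 7, 4, 7, 2, 7, 2, 0, 2, 7, 4, 3, 1, 6, 0, 2, 5, 6, 3, 1, 3, 6, 3, 6, 5, 6]
def bw671 : List ℕ := [1, 7, 5, 3, 6, 0, 2, 6, 4, 1, 7, 3, 1, 0, 0, 2, 6, 0, 5, 7, 3, 1, 7, 2, 4, 6]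
def bw672 : List ℕ := [3, 7, 5, 3, 6, 0, 2, 6, 4, 1, 7, 3, 1, 2, 0, 2, 6, 0, 5, 7, 3, 1, 7, 2, 4, 6]
def bw673 : List ℕ := [5, 7, 5, 3, 6, 0, 2, 6, 4, 1, 7, 3, 1, 4, 0, 2, 6, 0, 5, 7, 3, 1, 7, 2, 4, 6]
def bw674 : List ℕ := [7, 7, 5, 3, 6, 0, 2, 6, 4, 1, 7, 3, 1, 6, 0, 2, 6, 0, 5, 7, 3, 1, 7, 2, 4, 6]
def bw675 : List ℕ := [1, 6, 1, 3, 7, 0, 2, 6, 2, 0, 7, 3, 1, 0, 0, 2, 6, 1, 3, 7, 3, 1, 6, 2, 0, 7]
def bw676 : List ℕ := [3, 6, 1, 3, 7, 0, 2, 6, 2, 0, 7, 3, 1, 2, 0, 2, 6, 1, 3, 7, 3, 1, 6, 2, 0, 7]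
def bw677 : List ℕ := [5, 6, 1, 3, 7, 0, 2, 6, 2, 0, 7, 3, 1, 4, 0, 2, 6, 1, 3, 7, 3, 1, 6, 2, 0, 7]
def bw678 : List ℕ := [7, 6, 1, 3, 7, 0, 2, 6, 2, 0, 7, 3, 1, 6, 0, 2, 6, 1, 3, 7, 3, 1, 6, 2, 0, 7]
def bw679 : List ℕ := [1, 6, 3, 4, 1, 3, 5, 3, 5, 2, 7, 3, 1, 0, 0, 2, 6, 3, 4, 2, 4, 2, 0, 5, 2, 7]
def bw680 : List ℕ := [3, 6, 3, 4, 1, 3, 5, 3, 5, 2, 7, 3, 1, 2, 0, 2, 6, 3, 4, 2, 4, 2, 0, 5, 2, 7]
def bw681 : List ℕ := [5, 6, 3, 4, 1, 3, 5, 3, 5, 2, 7, 3, 1, 4, 0, 2, 6, 3, 4, 2, 4, 2, 0, 5, 2, 7]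
def bw682 : List ℕ := [7, 6, 3, 4, 1, 3, 5, 3, 5, 2, 7, 3, 1, 6, 0, 2, 6, 3, 4, 2, 4, 2, 0, 5, 2, 7]
def bw683 : List ℕ := [1, 3, 0, 2, 7, 2, 7, 1, 7, 2, 7, 3, 1, 0, 0, 2, 6, 3, 6, 0, 6, 3, 6, 3, 1, 2]
def bw684 : List ℕ := [3, 3, 0, 2, 7, 2, 7, 1, 7, 2, 7, 3, 1, 2, 0, 2, 6, 3, 6, 0, 6, 3, 6, 3, 1, 2]
def bw685 : List ℕ := [5, 3, 0, 2, 7, 2, 7, 1, 7, 2, 7, 3, 1, 4, 0, 2, 6, 3, 6, 0, 6, 3, 6, 3, 1, 2]
def bw686 : List ℕ := [7, 3, 0, 2, 7, 2, 7, 1, 7, 2, 7, 3, 1, 6, 0, 2, 6, 3, 6, 0, 6, 3, 6, 3, 1, 2]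
def bw687 : List ℕ := [1, 6, 3, 4, 1, 4, 3, 5, 3, 5, 7, 3, 1, 0, 0, 2, 6, 4, 2, 4, 2, 5, 0, 5, 2, 7]
def bw688 : List ℕ := [3, 6, 3, 4, 1, 4, 3, 5, 3, 5, 7, 3, 1, 2, 0, 2, 6, 4, 2, 4, 2, 5, 0, 5, 2, 7]
def bw689 : List ℕ := [5, 6, 3, 4, 1, 4, 3, 5, 3, 5, 7, 3, 1, 4, 0, 2, 6, 4, 2, 4, 2, 5, 0, 5, 2, 7]
def bw690 : List ℕ := [7, 6, 3, 4, 1, 4, 3, 5, 3, 5, 7, 3, 1, 6, 0, 2, 6, 4, 2, 4, 2, 5, 0, 5, 2, 7]
def bw691 : List ℕ := [1, 5, 6, 3, 6, 3, 4, 3, 6, 3, 6, 3, 1, 0, 0, 2, 7, 2, 7, 2, 5, 2, 7, 2, 7, 4]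
def bw692 : List ℕ := [3, 5, 6, 3, 6, 3, 4, 3, 6, 3, 6, 3, 1, 2, 0, 2, 7, 2, 7, 2, 5, 2, 7, 2, 7, 4]
def bw693 : List ℕ := [5, 5, 6, 3, 6, 3, 4, 3, 6, 3, 6, 3, 1, 4, 0, 2, 7, 2, 7, 2, 5, 2, 7, 2, 7, 4]
def bw694 : List ℕ := [7, 5, 6, 3, 6, 3, 4, 3, 6, 3, 6, 3, 1, 6, 0, 2, 7, 2, 7, 2, 5, 2, 7, 2, 7, 4]
def bw695 : List ℕ := [1, 3, 6, 3, 6, 2, 0, 7, 2, 7, 1, 2, 1, 0, 0, 3, 0, 6, 3, 6, 1, 3, 7, 2, 7, 2]
def bw696 : List ℕ := [3, 3, 6, 3, 6, 2, 0, 7, 2, 7, 1, 2, 1, 2, 0, 3, 0, 6, 3, 6, 1, 3, 7, 2, 7, 2]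
def bw697 : List ℕ := [5, 3, 6, 3, 6, 2, 0, 7, 2, 7, 1, 2, 1, 4, 0, 3, 0, 6, 3, 6, 1, 3, 7, 2, 7, 2]
def bw698 : List ℕ := [7, 3, 6, 3, 6, 2, 0, 7, 2, 7, 1, 2, 1, 6, 0, 3, 0, 6, 3, 6, 1, 3, 7, 2, 7, 2]
def bw699 : List ℕ := [1, 6, 6, 2, 1, 6, 6, 2, 1, 6, 6, 2, 1, 0, 0, 3, 7, 7, 0, 3, 7, 7, 0, 3, 7, 7]
def bw700 : List ℕ := [3, 6, 6, 2, 1, 6, 6, 2, 1, 6, 6, 2, 1, 2, 0, 3, 7, 7, 0, 3, 7, 7, 0, 3, 7, 7]
def bw701 : List ℕ := [5, 6, 6, 2, 1, 6, 6, 2, 1, 6, 6, 2, 1, 4, 0, 3, 7, 7, 0, 3, 7, 7, 0, 3, 7, 7]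
def bw702 : List ℕ := [7, 6, 6, 2, 1, 6, 6, 2, 1, 6, 6, 2, 1, 6, 0, 3, 7, 7, 0, 3, 7, 7, 0, 3, 7, 7]
def bw703 : List ℕ := [1, 7, 2, 5, 1, 7, 2, 5, 1, 7, 2, 5, 1, 0, 0, 4, 3, 6, 0, 4, 3, 6, 0, 4, 3, 6]
def bw704 : List ℕ := [3, 7, 2, 5, 1, 7, 2, 5, 1, 7, 2, 5, 1, 2, 0, 4, 3, 6, 0, 4, 3, 6, 0, 4, 3, 6]
def bw705 : List ℕ := [5, 7, 2, 5, 1, 7, 2, 5, 1, 7, 2, 5, 1, 4, 0, 4, 3, 6, 0, 4, 3, 6, 0, 4, 3, 6]
def bw706 : List ℕ := [7, 7, 2, 5, 1, 7, 2, 5, 1, 7, 2, 5, 1, 6, 0, 4, 3, 6, 0, 4, 3, 6, 0, 4, 3, 6]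
def bw707 : List ℕ := [1, 7, 4, 6, 2, 5, 1, 7, 4, 6, 2, 5, 1, 0, 0, 4, 3, 7, 5, 6, 0, 4, 3, 7, 5, 6]
def bw708 : List ℕ := [3, 7, 4, 6, 2, 5, 1, 7, 4, 6, 2, 5, 1, 2, 0, 4, 3, 7, 5, 6, 0, 4, 3, 7, 5, 6]
def bw709 : List ℕ := [5, 7, 4, 6, 2, 5, 1, 7, 4, 6, 2, 5, 1, 4, 0, 4, 3, 7, 5, 6, 0, 4, 3, 7, 5, 6]
def bw710 : List ℕ := [7, 7, 4, 6, 2, 5, 1, 7, 4, 6, 2, 5, 1, 6, 0, 4, 3, 7, 5, 6, 0, 4, 3, 7, 5, 6]
def bw711 : List ℕ := [1, 3, 6, 5, 1, 3, 6, 5, 1, 3, 6, 5, 1, 0, 0, 4, 7, 2, 0, 4, 7, 2, 0, 4, 7, 2]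
def bw712 : List ℕ := [3, 3, 6, 5, 1, 3, 6, 5, 1, 3, 6, 5, 1, 2, 0, 4, 7, 2, 0, 4, 7, 2, 0, 4, 7, 2]
def bw713 : List ℕ := [5, 3, 6, 5, 1, 3, 6, 5, 1, 3, 6, 5, 1, 4, 0, 4, 7, 2, 0, 4, 7, 2, 0, 4, 7, 2]
def bw714 : List ℕ := [7, 3, 6, 5, 1, 3, 6, 5, 1, 3, 6, 5, 1, 6, 0, 4, 7, 2, 0, 4, 7, 2, 0, 4, 7, 2]
def bw715 : List ℕ := [1, 6, 2, 2, 7, 4, 1, 6, 2, 2, 7, 4, 1, 0, 0, 5, 6, 3, 3, 7, 0, 5, 6, 3, 3, 7]
def bw716 : List ℕ := [3, 6, 2, 2, 7, 4, 1, 6, 2, 2, 7, 4, 1, 2, 0, 5, 6, 3, 3, 7, 0, 5, 6, 3, 3, 7]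
def bw717 : List ℕ := [5, 6, 2, 2, 7, 4, 1, 6, 2, 2, 7, 4, 1, 4, 0, 5, 6, 3, 3, 7, 0, 5, 6, 3, 3, 7]
def bw718 : List ℕ := [7, 6, 2, 2, 7, 4, 1, 6, 2, 2, 7, 4, 1, 6, 0, 5, 6, 3, 3, 7, 0, 5, 6, 3, 3, 7]
def bw719 : List ℕ := [1, 2, 7, 2, 7, 4, 1, 2, 7, 2, 7, 4, 1, 0, 0, 5, 6, 3, 6, 3, 0, 5, 6, 3, 6, 3]
def bw720 : List ℕ := [3, 2, 7, 2, 7, 4, 1, 2, 7, 2, 7, 4, 1, 2, 0, 5, 6, 3, 6, 3, 0, 5, 6, 3, 6, 3]
def bw721 : List ℕ := [5, 2, 7, 2, 7, 4, 1, 2, 7, 2, 7, 4, 1, 4, 0, 5, 6, 3, 6, 3, 0, 5, 6, 3, 6, 3]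
def bw722 : List ℕ := [7, 2, 7, 2, 7, 4, 1, 2, 7, 2, 7, 4, 1, 6, 0, 5, 6, 3, 6, 3, 0, 5, 6, 3, 6, 3]
def bw723 : List ℕ := [1, 7, 1, 7, 1, 7, 1, 7, 1, 7, 1, 7, 1, 0, 0, 6, 0, 6, 0, 6, 0, 6, 0, 6, 0, 6]
def bw724 : List ℕ := [3, 7, 1, 7, 1, 7, 1, 7, 1, 7, 1, 7, 1, 2, 0, 6, 0, 6, 0, 6, 0, 6, 0, 6, 0, 6]
def bw725 : List ℕ := [5, 7, 1, 7, 1, 7, 1, 7, 1, 7, 1, 7, 1, 4, 0, 6, 0, 6, 0, 6, 0, 6, 0, 6, 0, 6]
def bw726 : List ℕ := [7, 7, 1, 7, 1, 7, 1, 7, 1, 7, 1, 7, 1, 6, 0, 6, 0, 6, 0, 6, 0, 6, 0, 6, 0, 6]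
def bw727 : List ℕ := [1, 2, 4, 7, 2, 7, 1, 5, 3, 7, 2, 7, 1, 0, 0, 6, 3, 6, 2, 4, 0, 6, 3, 6, 5, 3]
def bw728 : List ℕ := [3, 2, 4, 7, 2, 7, 1, 5, 3, 7, 2, 7, 1, 2, 0, 6, 3, 6, 2, 4, 0, 6, 3, 6, 5, 3]
def bw729 : List ℕ := [5, 2, 4, 7, 2, 7, 1, 5, 3, 7, 2, 7, 1, 4, 0, 6, 3, 6, 2, 4, 0, 6, 3, 6, 5, 3]
def bw730 : List ℕ := [7, 2, 4, 7, 2, 7, 1, 5, 3, 7, 2, 7, 1, 6, 0, 6, 3, 6, 2, 4, 0, 6, 3, 6, 5, 3]
def bw731 : List ℕ := [1, 2, 4, 0, 6, 3, 6, 5, 3, 7, 2, 7, 1, 0, 0, 6, 3, 6, 2, 4, 7, 2, 7, 1, 5, 3]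
def bw732 : List ℕ := [3, 2, 4, 0, 6, 3, 6, 5, 3, 7, 2, 7, 1, 2, 0, 6, 3, 6, 2, 4, 7, 2, 7, 1, 5, 3]
def bw733 : List ℕ := [5, 2, 4, 0, 6, 3, 6, 5, 3, 7, 2, 7, 1, 4, 0, 6, 3, 6, 2, 4, 7, 2, 7, 1, 5, 3]
def bw734 : List ℕ := [7, 2, 4, 0, 6, 3, 6, 5, 3, 7, 2, 7, 1, 6, 0, 6, 3, 6, 2, 4, 7, 2, 7, 1, 5, 3]
def bw735 : List ℕ := [1, 6, 1, 6, 1, 6, 1, 6, 1, 6, 1, 6, 1, 0, 0, 7, 0, 7, 0, 7, 0, 7, 0, 7, 0, 7]
def bw736 : List ℕ := [3, 6, 1, 6, 1, 6, 1, 6, 1, 6, 1, 6, 1, 2, 0, 7, 0, 7, 0, 7, 0, 7, 0, 7, 0, 7]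
def bw737 : List ℕ := [5, 6, 1, 6, 1, 6, 1, 6, 1, 6, 1, 6, 1, 4, 0, 7, 0, 7, 0, 7, 0, 7, 0, 7, 0, 7]
def bw738 : List ℕ := [7, 6, 1, 6, 1, 6, 1, 6, 1, 6, 1, 6, 1, 6, 0, 7, 0, 7, 0, 7, 0, 7, 0, 7, 0, 7]
def bw739 : List ℕ := [1, 7, 3, 7, 3, 7, 3, 7, 3, 7, 3, 7, 3, 0, 2, 6, 2, 6, 2, 6, 2, 6, 2, 6, 2, 6]
def bw740 : List ℕ := [3, 7, 3, 7, 3, 7, 3, 7, 3, 7, 3, 7, 3, 2, 2, 6, 2, 6, 2, 6, 2, 6, 2, 6, 2, 6]
def bw741 : List ℕ := [5, 7, 3, 7, 3, 7, 3, 7, 3, 7, 3, 7, 3, 4, 2, 6, 2, 6, 2, 6, 2, 6, 2, 6, 2, 6]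
def bw742 : List ℕ := [7, 7, 3, 7, 3, 7, 3, 7, 3, 7, 3, 7, 3, 6, 2, 6, 2, 6, 2, 6, 2, 6, 2, 6, 2, 6]
def bw743 : List ℕ := [1, 6, 6, 3, 4, 6, 3, 6, 6, 3, 4, 6, 3, 0, 2, 7, 5, 2, 7, 7, 2, 7, 5, 2, 7, 7]
def bw744 : List ℕ := [3, 6, 6, 3, 4, 6, 3, 6, 6, 3, 4, 6, 3, 2, 2, 7, 5, 2, 7, 7, 2, 7, 5, 2, 7, 7]
def bw745 : List ℕ := [5, 6, 6, 3, 4, 6, 3, 6, 6, 3, 4, 6, 3, 4, 2, 7, 5, 2, 7, 7, 2, 7, 5, 2, 7, 7]
def bw746 : List ℕ := [7, 6, 6, 3, 4, 6, 3, 6, 6, 3, 4, 6, 3, 6, 2, 7, 5, 2, 7, 7, 2, 7, 5, 2, 7, 7]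
def bw747 : List ℕ := [1, 2, 2, 7, 0, 2, 6, 4, 1, 1, 5, 5, 1, 1, 0, 0, 0, 4, 4, 0, 0, 5, 7, 3, 1, 6, 3, 3]
def bw748 : List ℕ := [3, 2, 2, 7, 0, 2, 6, 4, 1, 1, 5, 5, 1, 1, 2, 0, 0, 4, 4, 0, 0, 5, 7, 3, 1, 6, 3, 3]
def bw749 : List ℕ := [5, 2, 2, 7, 0, 2, 6, 4, 1, 1, 5, 5, 1, 1, 4, 0, 0, 4, 4, 0, 0, 5, 7, 3, 1, 6, 3, 3]
def bw750 : List ℕ := [7, 2, 2, 7, 0, 2, 6, 4, 1, 1, 5, 5, 1, 1, 6, 0, 0, 4, 4, 0, 0, 5, 7, 3, 1, 6, 3, 3]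
def bw751 : List ℕ := [1, 5, 5, 5, 7, 3, 1, 6, 3, 3, 5, 5, 1, 1, 0, 0, 0, 4, 4, 2, 2, 7, 0, 2, 6, 4, 4, 4]
def bw752 : List ℕ := [3, 5, 5, 5, 7, 3, 1, 6, 3, 3, 5, 5, 1, 1, 2, 0, 0, 4, 4, 2, 2, 7, 0, 2, 6, 4, 4, 4]
def bw753 : List ℕ := [5, 5, 5, 5, 7, 3, 1, 6, 3, 3, 5, 5, 1, 1, 4, 0, 0, 4, 4, 2, 2, 7, 0, 2, 6, 4, 4, 4]
def bw754 : List ℕ := [7, 5, 5, 5, 7, 3, 1, 6, 3, 3, 5, 5, 1, 1, 6, 0, 0, 4, 4, 2, 2, 7, 0, 2, 6, 4, 4, 4]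
def bw755 : List ℕ := [1, 4, 1, 4, 4, 7, 7, 2, 7, 1, 6, 5, 1, 1, 0, 0, 0, 4, 7, 0, 6, 3, 6, 6, 5, 5, 0, 5]
def bw756 : List ℕ := [3, 4, 1, 4, 4, 7, 7, 2, 7, 1, 6, 5, 1, 1, 2, 0, 0, 4, 7, 0, 6, 3, 6, 6, 5, 5, 0, 5]
def bw757 : List ℕ := [5, 4, 1, 4, 4, 7, 7, 2, 7, 1, 6, 5, 1, 1, 4, 0, 0, 4, 7, 0, 6, 3, 6, 6, 5, 5, 0, 5]
def bw758 : List ℕ := [7, 4, 1, 4, 4, 7, 7, 2, 7, 1, 6, 5, 1, 1, 6, 0, 0, 4, 7, 0, 6, 3, 6, 6, 5, 5, 0, 5]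
def bw759 : List ℕ := [1, 4, 1, 4, 4, 7, 0, 6, 3, 6, 6, 5, 1, 1, 0, 0, 0, 4, 7, 7, 2, 7, 1, 6, 5, 5, 0, 5]
def bw760 : List ℕ := [3, 4, 1, 4, 4, 7, 0, 6, 3, 6, 6, 5, 1, 1, 2, 0, 0, 4, 7, 7, 2, 7, 1, 6, 5, 5, 0, 5]
def bw761 : List ℕ := [5, 4, 1, 4, 4, 7, 0, 6, 3, 6, 6, 5, 1, 1, 4, 0, 0, 4, 7, 7, 2, 7, 1, 6, 5, 5, 0, 5]
def bw762 : List ℕ := [7, 4, 1, 4, 4, 7, 0, 6, 3, 6, 6, 5, 1, 1, 6, 0, 0, 4, 7, 7, 2, 7, 1, 6, 5, 5, 0, 5]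
def bw763 : List ℕ := [1, 4, 2, 7, 7, 1, 7, 2, 6, 3, 1, 4, 1, 1, 0, 0, 0, 5, 0, 2, 7, 3, 6, 0, 6, 6, 3, 5]
def bw764 : List ℕ := [3, 4, 2, 7, 7, 1, 7, 2, 6, 3, 1, 4, 1, 1, 2, 0, 0, 5, 0, 2, 7, 3, 6, 0, 6, 6, 3, 5]
def bw765 : List ℕ := [5, 4, 2, 7, 7, 1, 7, 2, 6, 3, 1, 4, 1, 1, 4, 0, 0, 5, 0, 2, 7, 3, 6, 0, 6, 6, 3, 5]
def bw766 : List ℕ := [7, 4, 2, 7, 7, 1, 7, 2, 6, 3, 1, 4, 1, 1, 6, 0, 0, 5, 0, 2, 7, 3, 6, 0, 6, 6, 3, 5]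
def bw767 : List ℕ := [1, 4, 2, 7, 3, 6, 0, 6, 6, 3, 1, 4, 1, 1, 0, 0, 0, 5, 0, 2, 7, 7, 1, 7, 2, 6, 3, 5]
def bw768 : List ℕ := [3, 4, 2, 7, 3, 6, 0, 6, 6, 3, 1, 4, 1, 1, 2, 0, 0, 5, 0, 2, 7, 7, 1, 7, 2, 6, 3, 5]
def bw769 : List ℕ := [5, 4, 2, 7, 3, 6, 0, 6, 6, 3, 1, 4, 1, 1, 4, 0, 0, 5, 0, 2, 7, 7, 1, 7, 2, 6, 3, 5]
def bw770 : List ℕ := [7, 4, 2, 7, 3, 6, 0, 6, 6, 3, 1, 4, 1, 1, 6, 0, 0, 5, 0, 2, 7, 7, 1, 7, 2, 6, 3, 5]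
def bw771 : List ℕ := [1, 4, 1, 3, 7, 7, 1, 7, 2, 6, 2, 4, 1, 1, 0, 0, 0, 5, 3, 7, 3, 6, 0, 6, 6, 2, 0, 5]
def bw772 : List ℕ := [3, 4, 1, 3, 7, 7, 1, 7, 2, 6, 2, 4, 1, 1, 2, 0, 0, 5, 3, 7, 3, 6, 0, 6, 6, 2, 0, 5]
def bw773 : List ℕ := [5, 4, 1, 3, 7, 7, 1, 7, 2, 6, 2, 4, 1, 1, 4, 0, 0, 5, 3, 7, 3, 6, 0, 6, 6, 2, 0, 5]
def bw774 : List ℕ := [7, 4, 1, 3, 7, 7, 1, 7, 2, 6, 2, 4, 1, 1, 6, 0, 0, 5, 3, 7, 3, 6, 0, 6, 6, 2, 0, 5]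
def bw775 : List ℕ := [1, 4, 1, 3, 7, 3, 6, 0, 6, 6, 2, 4, 1, 1, 0, 0, 0, 5, 3, 7, 7, 1, 7, 2, 6, 2, 0, 5]
def bw776 : List ℕ := [3, 4, 1, 3, 7, 3, 6, 0, 6, 6, 2, 4, 1, 1, 2, 0, 0, 5, 3, 7, 7, 1, 7, 2, 6, 2, 0, 5]
def bw777 : List ℕ := [5, 4, 1, 3, 7, 3, 6, 0, 6, 6, 2, 4, 1, 1, 4, 0, 0, 5, 3, 7, 7, 1, 7, 2, 6, 2, 0, 5]
def bw778 : List ℕ := [7, 4, 1, 3, 7, 3, 6, 0, 6, 6, 2, 4, 1, 1, 6, 0, 0, 5, 3, 7, 7, 1, 7, 2, 6, 2, 0, 5]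
def bw779 : List ℕ := [1, 5, 5, 2, 0, 7, 4, 2, 0, 5, 6, 4, 1, 1, 0, 0, 0, 5, 7, 4, 1, 3, 5, 6, 1, 3, 4, 4]
def bw780 : List ℕ := [3, 5, 5, 2, 0, 7, 4, 2, 0, 5, 6, 4, 1, 1, 2, 0, 0, 5, 7, 4, 1, 3, 5, 6, 1, 3, 4, 4]
def bw781 : List ℕ := [5, 5, 5, 2, 0, 7, 4, 2, 0, 5, 6, 4, 1, 1, 4, 0, 0, 5, 7, 4, 1, 3, 5, 6, 1, 3, 4, 4]
def bw782 : List ℕ := [7, 5, 5, 2, 0, 7, 4, 2, 0, 5, 6, 4, 1, 1, 6, 0, 0, 5, 7, 4, 1, 3, 5, 6, 1, 3, 4, 4]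
def bw783 : List ℕ := [1, 6, 5, 2, 1, 4, 1, 4, 2, 7, 4, 1, 3, 1, 0, 0, 2, 0, 5, 6, 3, 5, 0, 5, 0, 3, 4, 7]
def bw784 : List ℕ := [3, 6, 5, 2, 1, 4, 1, 4, 2, 7, 4, 1, 3, 1, 2, 0, 2, 0, 5, 6, 3, 5, 0, 5, 0, 3, 4, 7]
def bw785 : List ℕ := [5, 6, 5, 2, 1, 4, 1, 4, 2, 7, 4, 1, 3, 1, 4, 0, 2, 0, 5, 6, 3, 5, 0, 5, 0, 3, 4, 7]
def bw786 : List ℕ := [7, 6, 5, 2, 1, 4, 1, 4, 2, 7, 4, 1, 3, 1, 6, 0, 2, 0, 5, 6, 3, 5, 0, 5, 0, 3, 4, 7]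
def bw787 : List ℕ := [1, 7, 7, 2, 7, 2, 0, 6, 2, 7, 4, 1, 3, 1, 0, 0, 2, 0, 5, 6, 3, 7, 1, 3, 6, 3, 6, 6]
def bw788 : List ℕ := [3, 7, 7, 2, 7, 2, 0, 6, 2, 7, 4, 1, 3, 1, 2, 0, 2, 0, 5, 6, 3, 7, 1, 3, 6, 3, 6, 6]
def bw789 : List ℕ := [5, 7, 7, 2, 7, 2, 0, 6, 2, 7, 4, 1, 3, 1, 4, 0, 2, 0, 5, 6, 3, 7, 1, 3, 6, 3, 6, 6]
def bw790 : List ℕ := [7, 7, 7, 2, 7, 2, 0, 6, 2, 7, 4, 1, 3, 1, 6, 0, 2, 0, 5, 6, 3, 7, 1, 3, 6, 3, 6, 6]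
def bw791 : List ℕ := [1, 6, 5, 1, 3, 0, 5, 0, 5, 7, 4, 1, 3, 1, 0, 0, 2, 0, 5, 6, 4, 1, 4, 1, 2, 0, 4, 7]
def bw792 : List ℕ := [3, 6, 5, 1, 3, 0, 5, 0, 5, 7, 4, 1, 3, 1, 2, 0, 2, 0, 5, 6, 4, 1, 4, 1, 2, 0, 4, 7]
def bw793 : List ℕ := [5, 6, 5, 1, 3, 0, 5, 0, 5, 7, 4, 1, 3, 1, 4, 0, 2, 0, 5, 6, 4, 1, 4, 1, 2, 0, 4, 7]
def bw794 : List ℕ := [7, 6, 5, 1, 3, 0, 5, 0, 5, 7, 4, 1, 3, 1, 6, 0, 2, 0, 5, 6, 4, 1, 4, 1, 2, 0, 4, 7]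
def bw795 : List ℕ := [1, 6, 5, 2, 1, 3, 5, 0, 5, 7, 4, 1, 3, 1, 0, 0, 2, 0, 5, 6, 4, 1, 4, 2, 0, 3, 4, 7]
def bw796 : List ℕ := [3, 6, 5, 2, 1, 3, 5, 0, 5, 7, 4, 1, 3, 1, 2, 0, 2, 0, 5, 6, 4, 1, 4, 2, 0, 3, 4, 7]
def bw797 : List ℕ := [5, 6, 5, 2, 1, 3, 5, 0, 5, 7, 4, 1, 3, 1, 4, 0, 2, 0, 5, 6, 4, 1, 4, 2, 0, 3, 4, 7]
def bw798 : List ℕ := [7, 6, 5, 2, 1, 3, 5, 0, 5, 7, 4, 1, 3, 1, 6, 0, 2, 0, 5, 6, 4, 1, 4, 2, 0, 3, 4, 7]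
def bw799 : List ℕ := [1, 6, 6, 3, 3, 6, 3, 6, 4, 2, 7, 1, 3, 1, 0, 0, 2, 0, 6, 3, 5, 7, 2, 7, 2, 2, 7, 7]
def bw800 : List ℕ := [3, 6, 6, 3, 3, 6, 3, 6, 4, 2, 7, 1, 3, 1, 2, 0, 2, 0, 6, 3, 5, 7, 2, 7, 2, 2, 7, 7]
def bw801 : List ℕ := [5, 6, 6, 3, 3, 6, 3, 6, 4, 2, 7, 1, 3, 1, 4, 0, 2, 0, 6, 3, 5, 7, 2, 7, 2, 2, 7, 7]
def bw802 : List ℕ := [7, 6, 6, 3, 3, 6, 3, 6, 4, 2, 7, 1, 3, 1, 6, 0, 2, 0, 6, 3, 5, 7, 2, 7, 2, 2, 7, 7]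
def bw803 : List ℕ := [1, 5, 6, 4, 1, 4, 1, 2, 0, 4, 7, 1, 3, 1, 0, 0, 2, 0, 6, 5, 1, 3, 0, 5, 0, 5, 7, 4]
def bw804 : List ℕ := [3, 5, 6, 4, 1, 4, 1, 2, 0, 4, 7, 1, 3, 1, 2, 0, 2, 0, 6, 5, 1, 3, 0, 5, 0, 5, 7, 4]
def bw805 : List ℕ := [5, 5, 6, 4, 1, 4, 1, 2, 0, 4, 7, 1, 3, 1, 4, 0, 2, 0, 6, 5, 1, 3, 0, 5, 0, 5, 7, 4]
def bw806 : List ℕ := [7, 5, 6, 4, 1, 4, 1, 2, 0, 4, 7, 1, 3, 1, 6, 0, 2, 0, 6, 5, 1, 3, 0, 5, 0, 5, 7, 4]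
def bw807 : List ℕ := [1, 5, 6, 4, 1, 4, 2, 0, 3, 4, 7, 1, 3, 1, 0, 0, 2, 0, 6, 5, 2, 1, 3, 5, 0, 5, 7, 4]
def bw808 : List ℕ := [3, 5, 6, 4, 1, 4, 2, 0, 3, 4, 7, 1, 3, 1, 2, 0, 2, 0, 6, 5, 2, 1, 3, 5, 0, 5, 7, 4]
def bw809 : List ℕ := [5, 5, 6, 4, 1, 4, 2, 0, 3, 4, 7, 1, 3, 1, 4, 0, 2, 0, 6, 5, 2, 1, 3, 5, 0, 5, 7, 4]
def bw810 : List ℕ := [7, 5, 6, 4, 1, 4, 2, 0, 3, 4, 7, 1, 3, 1, 6, 0, 2, 0, 6, 5, 2, 1, 3, 5, 0, 5, 7, 4]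
def bw811 : List ℕ := [1, 5, 6, 3, 5, 0, 5, 0, 3, 4, 7, 1, 3, 1, 0, 0, 2, 0, 6, 5, 2, 1, 4, 1, 4, 2, 7, 4]
def bw812 : List ℕ := [3, 5, 6, 3, 5, 0, 5, 0, 3, 4, 7, 1, 3, 1, 2, 0, 2, 0, 6, 5, 2, 1, 4, 1, 4, 2, 7, 4]
def bw813 : List ℕ := [5, 5, 6, 3, 5, 0, 5, 0, 3, 4, 7, 1, 3, 1, 4, 0, 2, 0, 6, 5, 2, 1, 4, 1, 4, 2, 7, 4]
def bw814 : List ℕ := [7, 5, 6, 3, 5, 0, 5, 0, 3, 4, 7, 1, 3, 1, 6, 0, 2, 0, 6, 5, 2, 1, 4, 1, 4, 2, 7, 4]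
def bw815 : List ℕ := [1, 6, 3, 5, 7, 2, 7, 2, 2, 7, 7, 1, 3, 1, 0, 0, 2, 0, 6, 6, 3, 3, 6, 3, 6, 4, 2, 7]
def bw816 : List ℕ := [3, 6, 3, 5, 7, 2, 7, 2, 2, 7, 7, 1, 3, 1, 2, 0, 2, 0, 6, 6, 3, 3, 6, 3, 6, 4, 2, 7]
def bw817 : List ℕ := [5, 6, 3, 5, 7, 2, 7, 2, 2, 7, 7, 1, 3, 1, 4, 0, 2, 0, 6, 6, 3, 3, 6, 3, 6, 4, 2, 7]
def bw818 : List ℕ := [7, 6, 3, 5, 7, 2, 7, 2, 2, 7, 7, 1, 3, 1, 6, 0, 2, 0, 6, 6, 3, 3, 6, 3, 6, 4, 2, 7]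
def bw819 : List ℕ := [1, 5, 6, 3, 7, 1, 3, 6, 3, 6, 6, 1, 3, 1, 0, 0, 2, 0, 7, 7, 2, 7, 2, 0, 6, 2, 7, 4]
def bw820 : List ℕ := [3, 5, 6, 3, 7, 1, 3, 6, 3, 6, 6, 1, 3, 1, 2, 0, 2, 0, 7, 7, 2, 7, 2, 0, 6, 2, 7, 4]
def bw821 : List ℕ := [5, 5, 6, 3, 7, 1, 3, 6, 3, 6, 6, 1, 3, 1, 4, 0, 2, 0, 7, 7, 2, 7, 2, 0, 6, 2, 7, 4]
def bw822 : List ℕ := [7, 5, 6, 3, 7, 1, 3, 6, 3, 6, 6, 1, 3, 1, 6, 0, 2, 0, 7, 7, 2, 7, 2, 0, 6, 2, 7, 4]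
def bw823 : List ℕ := [1, 7, 5, 2, 0, 4, 4, 0, 7, 0, 6, 0, 3, 1, 0, 0, 2, 1, 7, 1, 6, 1, 5, 5, 1, 3, 4, 6]
def bw824 : List ℕ := [3, 7, 5, 2, 0, 4, 4, 0, 7, 0, 6, 0, 3, 1, 2, 0, 2, 1, 7, 1, 6, 1, 5, 5, 1, 3, 4, 6]
def bw825 : List ℕ := [5, 7, 5, 2, 0, 4, 4, 0, 7, 0, 6, 0, 3, 1, 4, 0, 2, 1, 7, 1, 6, 1, 5, 5, 1, 3, 4, 6]
def bw826 : List ℕ := [7, 7, 5, 2, 0, 4, 4, 0, 7, 0, 6, 0, 3, 1, 6, 0, 2, 1, 7, 1, 6, 1, 5, 5, 1, 3, 4, 6]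
def bw827 : List ℕ := [1, 7, 4, 2, 6, 5, 2, 5, 2, 0, 5, 3, 3, 1, 0, 0, 2, 2, 4, 1, 3, 4, 3, 4, 7, 3, 5, 6]
def bw828 : List ℕ := [3, 7, 4, 2, 6, 5, 2, 5, 2, 0, 5, 3, 3, 1, 2, 0, 2, 2, 4, 1, 3, 4, 3, 4, 7, 3, 5, 6]
def bw829 : List ℕ := [5, 7, 4, 2, 6, 5, 2, 5, 2, 0, 5, 3, 3, 1, 4, 0, 2, 2, 4, 1, 3, 4, 3, 4, 7, 3, 5, 6]
def bw830 : List ℕ := [7, 7, 4, 2, 6, 5, 2, 5, 2, 0, 5, 3, 3, 1, 6, 0, 2, 2, 4, 1, 3, 4, 3, 4, 7, 3, 5, 6]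
def bw831 : List ℕ := [1, 4, 1, 3, 4, 3, 4, 7, 3, 5, 6, 3, 3, 1, 0, 0, 2, 2, 7, 4, 2, 6, 5, 2, 5, 2, 0, 5]
def bw832 : List ℕ := [3, 4, 1, 3, 4, 3, 4, 7, 3, 5, 6, 3, 3, 1, 2, 0, 2, 2, 7, 4, 2, 6, 5, 2, 5, 2, 0, 5]
def bw833 : List ℕ := [5, 4, 1, 3, 4, 3, 4, 7, 3, 5, 6, 3, 3, 1, 4, 0, 2, 2, 7, 4, 2, 6, 5, 2, 5, 2, 0, 5]
def bw834 : List ℕ := [7, 4, 1, 3, 4, 3, 4, 7, 3, 5, 6, 3, 3, 1, 6, 0, 2, 2, 7, 4, 2, 6, 5, 2, 5, 2, 0, 5]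
def bw835 : List ℕ := [1, 6, 3, 4, 1, 3, 4, 3, 4, 7, 0, 5, 3, 1, 0, 0, 2, 4, 1, 6, 5, 2, 5, 2, 0, 5, 2, 7]
def bw836 : List ℕ := [3, 6, 3, 4, 1, 3, 4, 3, 4, 7, 0, 5, 3, 1, 2, 0, 2, 4, 1, 6, 5, 2, 5, 2, 0, 5, 2, 7]
def bw837 : List ℕ := [5, 6, 3, 4, 1, 3, 4, 3, 4, 7, 0, 5, 3, 1, 4, 0, 2, 4, 1, 6, 5, 2, 5, 2, 0, 5, 2, 7]
def bw838 : List ℕ := [7, 6, 3, 4, 1, 3, 4, 3, 4, 7, 0, 5, 3, 1, 6, 0, 2, 4, 1, 6, 5, 2, 5, 2, 0, 5, 2, 7]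
def bw839 : List ℕ := [1, 5, 3, 0, 7, 4, 1, 6, 1, 2, 2, 5, 3, 1, 0, 0, 2, 4, 3, 3, 0, 7, 0, 5, 6, 1, 2, 4]
def bw840 : List ℕ := [3, 5, 3, 0, 7, 4, 1, 6, 1, 2, 2, 5, 3, 1, 2, 0, 2, 4, 3, 3, 0, 7, 0, 5, 6, 1, 2, 4]
def bw841 : List ℕ := [5, 5, 3, 0, 7, 4, 1, 6, 1, 2, 2, 5, 3, 1, 4, 0, 2, 4, 3, 3, 0, 7, 0, 5, 6, 1, 2, 4]
def bw842 : List ℕ := [7, 5, 3, 0, 7, 4, 1, 6, 1, 2, 2, 5, 3, 1, 6, 0, 2, 4, 3, 3, 0, 7, 0, 5, 6, 1, 2, 4]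
def bw843 : List ℕ := [1, 5, 2, 5, 6, 0, 2, 6, 6, 5, 2, 5, 3, 1, 0, 0, 2, 4, 3, 4, 7, 7, 3, 1, 7, 4, 3, 4]
def bw844 : List ℕ := [3, 5, 2, 5, 6, 0, 2, 6, 6, 5, 2, 5, 3, 1, 2, 0, 2, 4, 3, 4, 7, 7, 3, 1, 7, 4, 3, 4]
def bw845 : List ℕ := [5, 5, 2, 5, 6, 0, 2, 6, 6, 5, 2, 5, 3, 1, 4, 0, 2, 4, 3, 4, 7, 7, 3, 1, 7, 4, 3, 4]
def bw846 : List ℕ := [7, 5, 2, 5, 6, 0, 2, 6, 6, 5, 2, 5, 3, 1, 6, 0, 2, 4, 3, 4, 7, 7, 3, 1, 7, 4, 3, 4]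
def bw847 : List ℕ := [1, 7, 0, 4, 3, 1, 7, 4, 2, 7, 1, 4, 3, 1, 0, 0, 2, 5, 0, 6, 3, 5, 6, 0, 2, 5, 1, 6]
def bw848 : List ℕ := [3, 7, 0, 4, 3, 1, 7, 4, 2, 7, 1, 4, 3, 1, 2, 0, 2, 5, 0, 6, 3, 5, 6, 0, 2, 5, 1, 6]
def bw849 : List ℕ := [5, 7, 0, 4, 3, 1, 7, 4, 2, 7, 1, 4, 3, 1, 4, 0, 2, 5, 0, 6, 3, 5, 6, 0, 2, 5, 1, 6]
def bw850 : List ℕ := [7, 7, 0, 4, 3, 1, 7, 4, 2, 7, 1, 4, 3, 1, 6, 0, 2, 5, 0, 6, 3, 5, 6, 0, 2, 5, 1, 6]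
def bw851 : List ℕ := [1, 6, 2, 7, 4, 1, 5, 6, 5, 2, 0, 4, 3, 1, 0, 0, 2, 5, 1, 3, 4, 7, 4, 0, 5, 6, 3, 7]
def bw852 : List ℕ := [3, 6, 2, 7, 4, 1, 5, 6, 5, 2, 0, 4, 3, 1, 2, 0, 2, 5, 1, 3, 4, 7, 4, 0, 5, 6, 3, 7]
def bw853 : List ℕ := [5, 6, 2, 7, 4, 1, 5, 6, 5, 2, 0, 4, 3, 1, 4, 0, 2, 5, 1, 3, 4, 7, 4, 0, 5, 6, 3, 7]
def bw854 : List ℕ := [7, 6, 2, 7, 4, 1, 5, 6, 5, 2, 0, 4, 3, 1, 6, 0, 2, 5, 1, 3, 4, 7, 4, 0, 5, 6, 3, 7]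
def bw855 : List ℕ := [1, 4, 3, 3, 5, 7, 0, 6, 2, 7, 3, 4, 3, 1, 0, 0, 2, 5, 2, 6, 3, 7, 1, 6, 4, 2, 2, 5]
def bw856 : List ℕ := [3, 4, 3, 3, 5, 7, 0, 6, 2, 7, 3, 4, 3, 1, 2, 0, 2, 5, 2, 6, 3, 7, 1, 6, 4, 2, 2, 5]
def bw857 : List ℕ := [5, 4, 3, 3, 5, 7, 0, 6, 2, 7, 3, 4, 3, 1, 4, 0, 2, 5, 2, 6, 3, 7, 1, 6, 4, 2, 2, 5]
def bw858 : List ℕ := [7, 4, 3, 3, 5, 7, 0, 6, 2, 7, 3, 4, 3, 1, 6, 0, 2, 5, 2, 6, 3, 7, 1, 6, 4, 2, 2, 5]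
def bw859 : List ℕ := [1, 7, 2, 5, 2, 1, 4, 1, 4, 6, 3, 4, 3, 1, 0, 0, 2, 5, 2, 7, 5, 0, 5, 0, 3, 4, 3, 6]
def bw860 : List ℕ := [3, 7, 2, 5, 2, 1, 4, 1, 4, 6, 3, 4, 3, 1, 2, 0, 2, 5, 2, 7, 5, 0, 5, 0, 3, 4, 3, 6]
def bw861 : List ℕ := [5, 7, 2, 5, 2, 1, 4, 1, 4, 6, 3, 4, 3, 1, 4, 0, 2, 5, 2, 7, 5, 0, 5, 0, 3, 4, 3, 6]
def bw862 : List ℕ := [7, 7, 2, 5, 2, 1, 4, 1, 4, 6, 3, 4, 3, 1, 6, 0, 2, 5, 2, 7, 5, 0, 5, 0, 3, 4, 3, 6]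
def bw863 : List ℕ := [1, 3, 6, 5, 2, 1, 4, 1, 4, 2, 7, 4, 3, 1, 0, 0, 2, 5, 6, 3, 5, 0, 5, 0, 3, 4, 7, 2]
def bw864 : List ℕ := [3, 3, 6, 5, 2, 1, 4, 1, 4, 2, 7, 4, 3, 1, 2, 0, 2, 5, 6, 3, 5, 0, 5, 0, 3, 4, 7, 2]
def bw865 : List ℕ := [5, 3, 6, 5, 2, 1, 4, 1, 4, 2, 7, 4, 3, 1, 4, 0, 2, 5, 6, 3, 5, 0, 5, 0, 3, 4, 7, 2]
def bw866 : List ℕ := [7, 3, 6, 5, 2, 1, 4, 1, 4, 2, 7, 4, 3, 1, 6, 0, 2, 5, 6, 3, 5, 0, 5, 0, 3, 4, 7, 2]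
def bw867 : List ℕ := [1, 3, 7, 7, 2, 7, 2, 0, 6, 2, 7, 4, 3, 1, 0, 0, 2, 5, 6, 3, 7, 1, 3, 6, 3, 6, 6, 2]
def bw868 : List ℕ := [3, 3, 7, 7, 2, 7, 2, 0, 6, 2, 7, 4, 3, 1, 2, 0, 2, 5, 6, 3, 7, 1, 3, 6, 3, 6, 6, 2]
def bw869 : List ℕ := [5, 3, 7, 7, 2, 7, 2, 0, 6, 2, 7, 4, 3, 1, 4, 0, 2, 5, 6, 3, 7, 1, 3, 6, 3, 6, 6, 2]
def bw870 : List ℕ := [7, 3, 7, 7, 2, 7, 2, 0, 6, 2, 7, 4, 3, 1, 6, 0, 2, 5, 6, 3, 7, 1, 3, 6, 3, 6, 6, 2]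
def bw871 : List ℕ := [1, 3, 6, 5, 1, 3, 0, 5, 0, 5, 7, 4, 3, 1, 0, 0, 2, 5, 6, 4, 1, 4, 1, 2, 0, 4, 7, 2]
def bw872 : List ℕ := [3, 3, 6, 5, 1, 3, 0, 5, 0, 5, 7, 4, 3, 1, 2, 0, 2, 5, 6, 4, 1, 4, 1, 2, 0, 4, 7, 2]
def bw873 : List ℕ := [5, 3, 6, 5, 1, 3, 0, 5, 0, 5, 7, 4, 3, 1, 4, 0, 2, 5, 6, 4, 1, 4, 1, 2, 0, 4, 7, 2]
def bw874 : List ℕ := [7, 3, 6, 5, 1, 3, 0, 5, 0, 5, 7, 4, 3, 1, 6, 0, 2, 5, 6, 4, 1, 4, 1, 2, 0, 4, 7, 2]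
def bw875 : List ℕ := [1, 3, 6, 5, 2, 1, 3, 5, 0, 5, 7, 4, 3, 1, 0, 0, 2, 5, 6, 4, 1, 4, 2, 0, 3, 4, 7, 2]
def bw876 : List ℕ := [3, 3, 6, 5, 2, 1, 3, 5, 0, 5, 7, 4, 3, 1, 2, 0, 2, 5, 6, 4, 1, 4, 2, 0, 3, 4, 7, 2]
def bw877 : List ℕ := [5, 3, 6, 5, 2, 1, 3, 5, 0, 5, 7, 4, 3, 1, 4, 0, 2, 5, 6, 4, 1, 4, 2, 0, 3, 4, 7, 2]
def bw878 : List ℕ := [7, 3, 6, 5, 2, 1, 3, 5, 0, 5, 7, 4, 3, 1, 6, 0, 2, 5, 6, 4, 1, 4, 2, 0, 3, 4, 7, 2]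
def bw879 : List ℕ := [1, 3, 6, 6, 3, 3, 6, 3, 6, 4, 2, 7, 3, 1, 0, 0, 2, 6, 3, 5, 7, 2, 7, 2, 2, 7, 7, 2]
def bw880 : List ℕ := [3, 3, 6, 6, 3, 3, 6, 3, 6, 4, 2, 7, 3, 1, 2, 0, 2, 6, 3, 5, 7, 2, 7, 2, 2, 7, 7, 2]
def bw881 : List ℕ := [5, 3, 6, 6, 3, 3, 6, 3, 6, 4, 2, 7, 3, 1, 4, 0, 2, 6, 3, 5, 7, 2, 7, 2, 2, 7, 7, 2]
def bw882 : List ℕ := [7, 3, 6, 6, 3, 3, 6, 3, 6, 4, 2, 7, 3, 1, 6, 0, 2, 6, 3, 5, 7, 2, 7, 2, 2, 7, 7, 2]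
def bw883 : List ℕ := [1, 3, 5, 6, 4, 1, 4, 1, 2, 0, 4, 7, 3, 1, 0, 0, 2, 6, 5, 1, 3, 0, 5, 0, 5, 7, 4, 2]
def bw884 : List ℕ := [3, 3, 5, 6, 4, 1, 4, 1, 2, 0, 4, 7, 3, 1, 2, 0, 2, 6, 5, 1, 3, 0, 5, 0, 5, 7, 4, 2]
def bw885 : List ℕ := [5, 3, 5, 6, 4, 1, 4, 1, 2, 0, 4, 7, 3, 1, 4, 0, 2, 6, 5, 1, 3, 0, 5, 0, 5, 7, 4, 2]
def bw886 : List ℕ := [7, 3, 5, 6, 4, 1, 4, 1, 2, 0, 4, 7, 3, 1, 6, 0, 2, 6, 5, 1, 3, 0, 5, 0, 5, 7, 4, 2]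
def bw887 : List ℕ := [1, 3, 5, 6, 4, 1, 4, 2, 0, 3, 4, 7, 3, 1, 0, 0, 2, 6, 5, 2, 1, 3, 5, 0, 5, 7, 4, 2]
def bw888 : List ℕ := [3, 3, 5, 6, 4, 1, 4, 2, 0, 3, 4, 7, 3, 1, 2, 0, 2, 6, 5, 2, 1, 3, 5, 0, 5, 7, 4, 2]
def bw889 : List ℕ := [5, 3, 5, 6, 4, 1, 4, 2, 0, 3, 4, 7, 3, 1, 4, 0, 2, 6, 5, 2, 1, 3, 5, 0, 5, 7, 4, 2]
def bw890 : List ℕ := [7, 3, 5, 6, 4, 1, 4, 2, 0, 3, 4, 7, 3, 1, 6, 0, 2, 6, 5, 2, 1, 3, 5, 0, 5, 7, 4, 2]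
def bw891 : List ℕ := [1, 3, 5, 6, 3, 5, 0, 5, 0, 3, 4, 7, 3, 1, 0, 0, 2, 6, 5, 2, 1, 4, 1, 4, 2, 7, 4, 2]
def bw892 : List ℕ := [3, 3, 5, 6, 3, 5, 0, 5, 0, 3, 4, 7, 3, 1, 2, 0, 2, 6, 5, 2, 1, 4, 1, 4, 2, 7, 4, 2]
def bw893 : List ℕ := [5, 3, 5, 6, 3, 5, 0, 5, 0, 3, 4, 7, 3, 1, 4, 0, 2, 6, 5, 2, 1, 4, 1, 4, 2, 7, 4, 2]
def bw894 : List ℕ := [7, 3, 5, 6, 3, 5, 0, 5, 0, 3, 4, 7, 3, 1, 6, 0, 2, 6, 5, 2, 1, 4, 1, 4, 2, 7, 4, 2]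
def bw895 : List ℕ := [1, 3, 6, 3, 5, 7, 2, 7, 2, 2, 7, 7, 3, 1, 0, 0, 2, 6, 6, 3, 3, 6, 3, 6, 4, 2, 7, 2]
def bw896 : List ℕ := [3, 3, 6, 3, 5, 7, 2, 7, 2, 2, 7, 7, 3, 1, 2, 0, 2, 6, 6, 3, 3, 6, 3, 6, 4, 2, 7, 2]
def bw897 : List ℕ := [5, 3, 6, 3, 5, 7, 2, 7, 2, 2, 7, 7, 3, 1, 4, 0, 2, 6, 6, 3, 3, 6, 3, 6, 4, 2, 7, 2]
def bw898 : List ℕ := [7, 3, 6, 3, 5, 7, 2, 7, 2, 2, 7, 7, 3, 1, 6, 0, 2, 6, 6, 3, 3, 6, 3, 6, 4, 2, 7, 2]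
def bw899 : List ℕ := [1, 7, 5, 6, 3, 4, 2, 2, 7, 2, 7, 7, 3, 1, 0, 0, 2, 6, 6, 3, 6, 3, 3, 5, 2, 7, 4, 6]
def bw900 : List ℕ := [3, 7, 5, 6, 3, 4, 2, 2, 7, 2, 7, 7, 3, 1, 2, 0, 2, 6, 6, 3, 6, 3, 3, 5, 2, 7, 4, 6]
def bw901 : List ℕ := [5, 7, 5, 6, 3, 4, 2, 2, 7, 2, 7, 7, 3, 1, 4, 0, 2, 6, 6, 3, 6, 3, 3, 5, 2, 7, 4, 6]
def bw902 : List ℕ := [7, 7, 5, 6, 3, 4, 2, 2, 7, 2, 7, 7, 3, 1, 6, 0, 2, 6, 6, 3, 6, 3, 3, 5, 2, 7, 4, 6]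
def bw903 : List ℕ := [1, 2, 7, 5, 2, 0, 4, 4, 0, 7, 0, 6, 3, 1, 0, 0, 2, 7, 1, 6, 1, 5, 5, 1, 3, 4, 6, 3]
def bw904 : List ℕ := [3, 2, 7, 5, 2, 0, 4, 4, 0, 7, 0, 6, 3, 1, 2, 0, 2, 7, 1, 6, 1, 5, 5, 1, 3, 4, 6, 3]
def bw905 : List ℕ := [5, 2, 7, 5, 2, 0, 4, 4, 0, 7, 0, 6, 3, 1, 4, 0, 2, 7, 1, 6, 1, 5, 5, 1, 3, 4, 6, 3]
def bw906 : List ℕ := [7, 2, 7, 5, 2, 0, 4, 4, 0, 7, 0, 6, 3, 1, 6, 0, 2, 7, 1, 6, 1, 5, 5, 1, 3, 4, 6, 3]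
def bw907 : List ℕ := [1, 3, 5, 6, 3, 7, 1, 3, 6, 3, 6, 6, 3, 1, 0, 0, 2, 7, 7, 2, 7, 2, 0, 6, 2, 7, 4, 2]
def bw908 : List ℕ := [3, 3, 5, 6, 3, 7, 1, 3, 6, 3, 6, 6, 3, 1, 2, 0, 2, 7, 7, 2, 7, 2, 0, 6, 2, 7, 4, 2]
def bw909 : List ℕ := [5, 3, 5, 6, 3, 7, 1, 3, 6, 3, 6, 6, 3, 1, 4, 0, 2, 7, 7, 2, 7, 2, 0, 6, 2, 7, 4, 2]
def bw910 : List ℕ := [7, 3, 5, 6, 3, 7, 1, 3, 6, 3, 6, 6, 3, 1, 6, 0, 2, 7, 7, 2, 7, 2, 0, 6, 2, 7, 4, 2]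
def bw911 : List ℕ := [1, 5, 5, 6, 3, 7, 5, 6, 5, 2, 5, 2, 5, 1, 0, 0, 4, 3, 4, 3, 4, 7, 4, 6, 2, 7, 4, 4]
def bw912 : List ℕ := [3, 5, 5, 6, 3, 7, 5, 6, 5, 2, 5, 2, 5, 1, 2, 0, 4, 3, 4, 3, 4, 7, 4, 6, 2, 7, 4, 4]
def bw913 : List ℕ := [5, 5, 5, 6, 3, 7, 5, 6, 5, 2, 5, 2, 5, 1, 4, 0, 4, 3, 4, 3, 4, 7, 4, 6, 2, 7, 4, 4]
def bw914 : List ℕ := [7, 5, 5, 6, 3, 7, 5, 6, 5, 2, 5, 2, 5, 1, 6, 0, 4, 3, 4, 3, 4, 7, 4, 6, 2, 7, 4, 4]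
def bw915 : List ℕ := [1, 6, 5, 1, 3, 6, 3, 4, 6, 2, 5, 2, 5, 1, 0, 0, 4, 3, 4, 3, 7, 5, 2, 7, 2, 0, 4, 7]
def bw916 : List ℕ := [3, 6, 5, 1, 3, 6, 3, 4, 6, 2, 5, 2, 5, 1, 2, 0, 4, 3, 4, 3, 7, 5, 2, 7, 2, 0, 4, 7]
def bw917 : List ℕ := [5, 6, 5, 1, 3, 6, 3, 4, 6, 2, 5, 2, 5, 1, 4, 0, 4, 3, 4, 3, 7, 5, 2, 7, 2, 0, 4, 7]
def bw918 : List ℕ := [7, 6, 5, 1, 3, 6, 3, 4, 6, 2, 5, 2, 5, 1, 6, 0, 4, 3, 4, 3, 7, 5, 2, 7, 2, 0, 4, 7]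
def bw919 : List ℕ := [1, 4, 2, 4, 1, 2, 7, 4, 1, 6, 5, 2, 5, 1, 0, 0, 4, 3, 4, 7, 0, 5, 6, 3, 0, 5, 3, 5]
def bw920 : List ℕ := [3, 4, 2, 4, 1, 2, 7, 4, 1, 6, 5, 2, 5, 1, 2, 0, 4, 3, 4, 7, 0, 5, 6, 3, 0, 5, 3, 5]
def bw921 : List ℕ := [5, 4, 2, 4, 1, 2, 7, 4, 1, 6, 5, 2, 5, 1, 4, 0, 4, 3, 4, 7, 0, 5, 6, 3, 0, 5, 3, 5]
def bw922 : List ℕ := [7, 4, 2, 4, 1, 2, 7, 4, 1, 6, 5, 2, 5, 1, 6, 0, 4, 3, 4, 7, 0, 5, 6, 3, 0, 5, 3, 5]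
def bw923 : List ℕ := [1, 2, 7, 3, 6, 6, 1, 7, 0, 5, 2, 7, 5, 1, 0, 0, 4, 6, 3, 4, 1, 6, 0, 7, 7, 2, 6, 3]
def bw924 : List ℕ := [3, 2, 7, 3, 6, 6, 1, 7, 0, 5, 2, 7, 5, 1, 2, 0, 4, 6, 3, 4, 1, 6, 0, 7, 7, 2, 6, 3]
def bw925 : List ℕ := [5, 2, 7, 3, 6, 6, 1, 7, 0, 5, 2, 7, 5, 1, 4, 0, 4, 6, 3, 4, 1, 6, 0, 7, 7, 2, 6, 3]
def bw926 : List ℕ := [7, 2, 7, 3, 6, 6, 1, 7, 0, 5, 2, 7, 5, 1, 6, 0, 4, 6, 3, 4, 1, 6, 0, 7, 7, 2, 6, 3]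
def bw927 : List ℕ := [1, 3, 6, 5, 2, 5, 6, 4, 1, 4, 1, 6, 5, 1, 0, 0, 4, 7, 0, 5, 0, 5, 7, 4, 3, 4, 7, 2]
def bw928 : List ℕ := [3, 3, 6, 5, 2, 5, 6, 4, 1, 4, 1, 6, 5, 1, 2, 0, 4, 7, 0, 5, 0, 5, 7, 4, 3, 4, 7, 2]
def bw929 : List ℕ := [5, 3, 6, 5, 2, 5, 6, 4, 1, 4, 1, 6, 5, 1, 4, 0, 4, 7, 0, 5, 0, 5, 7, 4, 3, 4, 7, 2]
def bw930 : List ℕ := [7, 3, 6, 5, 2, 5, 6, 4, 1, 4, 1, 6, 5, 1, 6, 0, 4, 7, 0, 5, 0, 5, 7, 4, 3, 4, 7, 2]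
def bw931 : List ℕ := [1, 5, 5, 0, 5, 0, 7, 7, 2, 7, 1, 6, 5, 1, 0, 0, 4, 7, 0, 6, 3, 6, 6, 1, 4, 1, 4, 4]
def bw932 : List ℕ := [3, 5, 5, 0, 5, 0, 7, 7, 2, 7, 1, 6, 5, 1, 2, 0, 4, 7, 0, 6, 3, 6, 6, 1, 4, 1, 4, 4]
def bw933 : List ℕ := [5, 5, 5, 0, 5, 0, 7, 7, 2, 7, 1, 6, 5, 1, 4, 0, 4, 7, 0, 6, 3, 6, 6, 1, 4, 1, 4, 4]
def bw934 : List ℕ := [7, 5, 5, 0, 5, 0, 7, 7, 2, 7, 1, 6, 5, 1, 6, 0, 4, 7, 0, 6, 3, 6, 6, 1, 4, 1, 4, 4]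
def bw935 : List ℕ := [1, 5, 5, 0, 5, 0, 7, 0, 6, 3, 6, 6, 5, 1, 0, 0, 4, 7, 7, 2, 7, 1, 6, 1, 4, 1, 4, 4]
def bw936 : List ℕ := [3, 5, 5, 0, 5, 0, 7, 0, 6, 3, 6, 6, 5, 1, 2, 0, 4, 7, 7, 2, 7, 1, 6, 1, 4, 1, 4, 4]
def bw937 : List ℕ := [5, 5, 5, 0, 5, 0, 7, 0, 6, 3, 6, 6, 5, 1, 4, 0, 4, 7, 7, 2, 7, 1, 6, 1, 4, 1, 4, 4]
def bw938 : List ℕ := [7, 5, 5, 0, 5, 0, 7, 0, 6, 3, 6, 6, 5, 1, 6, 0, 4, 7, 7, 2, 7, 1, 6, 1, 4, 1, 4, 4]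
def bw939 : List ℕ := [1, 4, 6, 2, 7, 4, 1, 6, 3, 6, 6, 3, 4, 1, 0, 0, 5, 2, 7, 7, 2, 7, 0, 5, 6, 3, 7, 5]
def bw940 : List ℕ := [3, 4, 6, 2, 7, 4, 1, 6, 3, 6, 6, 3, 4, 1, 2, 0, 5, 2, 7, 7, 2, 7, 0, 5, 6, 3, 7, 5]
def bw941 : List ℕ := [5, 4, 6, 2, 7, 4, 1, 6, 3, 6, 6, 3, 4, 1, 4, 0, 5, 2, 7, 7, 2, 7, 0, 5, 6, 3, 7, 5]
def bw942 : List ℕ := [7, 4, 6, 2, 7, 4, 1, 6, 3, 6, 6, 3, 4, 1, 6, 0, 5, 2, 7, 7, 2, 7, 0, 5, 6, 3, 7, 5]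
def bw943 : List ℕ := [1, 6, 5, 5, 3, 5, 3, 3, 4, 2, 2, 7, 4, 1, 0, 0, 5, 6, 3, 3, 5, 2, 2, 4, 2, 4, 4, 7]
def bw944 : List ℕ := [3, 6, 5, 5, 3, 5, 3, 3, 4, 2, 2, 7, 4, 1, 2, 0, 5, 6, 3, 3, 5, 2, 2, 4, 2, 4, 4, 7]
def bw945 : List ℕ := [5, 6, 5, 5, 3, 5, 3, 3, 4, 2, 2, 7, 4, 1, 4, 0, 5, 6, 3, 3, 5, 2, 2, 4, 2, 4, 4, 7]
def bw946 : List ℕ := [7, 6, 5, 5, 3, 5, 3, 3, 4, 2, 2, 7, 4, 1, 6, 0, 5, 6, 3, 3, 5, 2, 2, 4, 2, 4, 4, 7]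
def bw947 : List ℕ := [1, 6, 2, 4, 2, 4, 4, 3, 4, 2, 2, 7, 4, 1, 0, 0, 5, 6, 3, 3, 5, 2, 5, 5, 3, 5, 3, 7]
def bw948 : List ℕ := [3, 6, 2, 4, 2, 4, 4, 3, 4, 2, 2, 7, 4, 1, 2, 0, 5, 6, 3, 3, 5, 2, 5, 5, 3, 5, 3, 7]
def bw949 : List ℕ := [5, 6, 2, 4, 2, 4, 4, 3, 4, 2, 2, 7, 4, 1, 4, 0, 5, 6, 3, 3, 5, 2, 5, 5, 3, 5, 3, 7]
def bw950 : List ℕ := [7, 6, 2, 4, 2, 4, 4, 3, 4, 2, 2, 7, 4, 1, 6, 0, 5, 6, 3, 3, 5, 2, 5, 5, 3, 5, 3, 7]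
def bw951 : List ℕ := [1, 6, 5, 2, 2, 4, 2, 4, 4, 2, 2, 7, 4, 1, 0, 0, 5, 6, 3, 3, 5, 5, 3, 5, 3, 3, 4, 7]
def bw952 : List ℕ := [3, 6, 5, 2, 2, 4, 2, 4, 4, 2, 2, 7, 4, 1, 2, 0, 5, 6, 3, 3, 5, 5, 3, 5, 3, 3, 4, 7]
def bw953 : List ℕ := [5, 6, 5, 2, 2, 4, 2, 4, 4, 2, 2, 7, 4, 1, 4, 0, 5, 6, 3, 3, 5, 5, 3, 5, 3, 3, 4, 7]
def bw954 : List ℕ := [7, 6, 5, 2, 2, 4, 2, 4, 4, 2, 2, 7, 4, 1, 6, 0, 5, 6, 3, 3, 5, 5, 3, 5, 3, 3, 4, 7]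
def bw955 : List ℕ := [1, 5, 2, 7, 7, 2, 7, 1, 4, 6, 2, 7, 4, 1, 0, 0, 5, 6, 3, 7, 5, 0, 6, 3, 6, 6, 3, 4]
def bw956 : List ℕ := [3, 5, 2, 7, 7, 2, 7, 1, 4, 6, 2, 7, 4, 1, 2, 0, 5, 6, 3, 7, 5, 0, 6, 3, 6, 6, 3, 4]
def bw957 : List ℕ := [5, 5, 2, 7, 7, 2, 7, 1, 4, 6, 2, 7, 4, 1, 4, 0, 5, 6, 3, 7, 5, 0, 6, 3, 6, 6, 3, 4]
def bw958 : List ℕ := [7, 5, 2, 7, 7, 2, 7, 1, 4, 6, 2, 7, 4, 1, 6, 0, 5, 6, 3, 7, 5, 0, 6, 3, 6, 6, 3, 4]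
def bw959 : List ℕ := [1, 5, 2, 7, 0, 6, 3, 6, 4, 6, 2, 7, 4, 1, 0, 0, 5, 6, 3, 7, 5, 7, 2, 7, 1, 6, 3, 4]
def bw960 : List ℕ := [3, 5, 2, 7, 0, 6, 3, 6, 4, 6, 2, 7, 4, 1, 2, 0, 5, 6, 3, 7, 5, 7, 2, 7, 1, 6, 3, 4]
def bw961 : List ℕ := [5, 5, 2, 7, 0, 6, 3, 6, 4, 6, 2, 7, 4, 1, 4, 0, 5, 6, 3, 7, 5, 7, 2, 7, 1, 6, 3, 4]
def bw962 : List ℕ := [7, 5, 2, 7, 0, 6, 3, 6, 4, 6, 2, 7, 4, 1, 6, 0, 5, 6, 3, 7, 5, 7, 2, 7, 1, 6, 3, 4]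
def bw963 : List ℕ := [1, 6, 5, 2, 5, 2, 4, 3, 5, 3, 5, 7, 4, 1, 0, 0, 5, 6, 4, 2, 4, 2, 5, 3, 4, 3, 4, 7]
def bw964 : List ℕ := [3, 6, 5, 2, 5, 2, 4, 3, 5, 3, 5, 7, 4, 1, 2, 0, 5, 6, 4, 2, 4, 2, 5, 3, 4, 3, 4, 7]
def bw965 : List ℕ := [5, 6, 5, 2, 5, 2, 4, 3, 5, 3, 5, 7, 4, 1, 4, 0, 5, 6, 4, 2, 4, 2, 5, 3, 4, 3, 4, 7]
def bw966 : List ℕ := [7, 6, 5, 2, 5, 2, 4, 3, 5, 3, 5, 7, 4, 1, 6, 0, 5, 6, 4, 2, 4, 2, 5, 3, 4, 3, 4, 7]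
def bw967 : List ℕ := [1, 5, 7, 3, 5, 6, 6, 3, 3, 6, 6, 3, 3, 3, 0, 2, 2, 2, 7, 7, 2, 2, 7, 7, 4, 2, 6, 4]
def bw968 : List ℕ := [3, 5, 7, 3, 5, 6, 6, 3, 3, 6, 6, 3, 3, 3, 2, 2, 2, 2, 7, 7, 2, 2, 7, 7, 4, 2, 6, 4]
def bw969 : List ℕ := [5, 5, 7, 3, 5, 6, 6, 3, 3, 6, 6, 3, 3, 3, 4, 2, 2, 2, 7, 7, 2, 2, 7, 7, 4, 2, 6, 4]
def bw970 : List ℕ := [7, 5, 7, 3, 5, 6, 6, 3, 3, 6, 6, 3, 3, 3, 6, 2, 2, 2, 7, 7, 2, 2, 7, 7, 4, 2, 6, 4]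
def bw971 : List ℕ := [1, 3, 7, 2, 7, 0, 2, 0, 3, 3, 7, 2, 7, 1, 1, 0, 0, 0, 6, 3, 6, 2, 2, 1, 3, 1, 6, 3, 6, 2]
def bw972 : List ℕ := [3, 3, 7, 2, 7, 0, 2, 0, 3, 3, 7, 2, 7, 1, 1, 2, 0, 0, 6, 3, 6, 2, 2, 1, 3, 1, 6, 3, 6, 2]
def bw973 : List ℕ := [5, 3, 7, 2, 7, 0, 2, 0, 3, 3, 7, 2, 7, 1, 1, 4, 0, 0, 6, 3, 6, 2, 2, 1, 3, 1, 6, 3, 6, 2]
def bw974 : List ℕ := [7, 3, 7, 2, 7, 0, 2, 0, 3, 3, 7, 2, 7, 1, 1, 6, 0, 0, 6, 3, 6, 2, 2, 1, 3, 1, 6, 3, 6, 2]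
def bw975 : List ℕ := [1, 3, 4, 2, 4, 1, 2, 7, 3, 1, 6, 3, 4, 3, 1, 0, 0, 2, 5, 2, 7, 0, 2, 6, 3, 0, 5, 3, 5, 2]
def bw976 : List ℕ := [3, 3, 4, 2, 4, 1, 2, 7, 3, 1, 6, 3, 4, 3, 1, 2, 0, 2, 5, 2, 7, 0, 2, 6, 3, 0, 5, 3, 5, 2]
def bw977 : List ℕ := [5, 3, 4, 2, 4, 1, 2, 7, 3, 1, 6, 3, 4, 3, 1, 4, 0, 2, 5, 2, 7, 0, 2, 6, 3, 0, 5, 3, 5, 2]
def bw978 : List ℕ := [7, 3, 4, 2, 4, 1, 2, 7, 3, 1, 6, 3, 4, 3, 1, 6, 0, 2, 5, 2, 7, 0, 2, 6, 3, 0, 5, 3, 5, 2]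
def bw979 : List ℕ := [1, 4, 6, 0, 6, 3, 6, 0, 6, 4, 1, 4, 2, 4, 1, 0, 0, 5, 3, 5, 0, 5, 7, 1, 7, 2, 7, 1, 7, 5]
def bw980 : List ℕ := [3, 4, 6, 0, 6, 3, 6, 0, 6, 4, 1, 4, 2, 4, 1, 2, 0, 5, 3, 5, 0, 5, 7, 1, 7, 2, 7, 1, 7, 5]
def bw981 : List ℕ := [5, 4, 6, 0, 6, 3, 6, 0, 6, 4, 1, 4, 2, 4, 1, 4, 0, 5, 3, 5, 0, 5, 7, 1, 7, 2, 7, 1, 7, 5]
def bw982 : List ℕ := [7, 4, 6, 0, 6, 3, 6, 0, 6, 4, 1, 4, 2, 4, 1, 6, 0, 5, 3, 5, 0, 5, 7, 1, 7, 2, 7, 1, 7, 5]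
def bw983 : List ℕ := [1, 3, 4, 3, 7, 2, 7, 1, 4, 3, 6, 3, 6, 5, 1, 0, 0, 4, 7, 2, 7, 2, 5, 0, 6, 3, 6, 2, 5, 2]
def bw984 : List ℕ := [3, 3, 4, 3, 7, 2, 7, 1, 4, 3, 6, 3, 6, 5, 1, 2, 0, 4, 7, 2, 7, 2, 5, 0, 6, 3, 6, 2, 5, 2]
def bw985 : List ℕ := [5, 3, 4, 3, 7, 2, 7, 1, 4, 3, 6, 3, 6, 5, 1, 4, 0, 4, 7, 2, 7, 2, 5, 0, 6, 3, 6, 2, 5, 2]
def bw986 : List ℕ := [7, 3, 4, 3, 7, 2, 7, 1, 4, 3, 6, 3, 6, 5, 1, 6, 0, 4, 7, 2, 7, 2, 5, 0, 6, 3, 6, 2, 5, 2]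
def bw987 : List ℕ := [1, 5, 3, 3, 3, 7, 4, 2, 6, 4, 0, 5, 3, 5, 1, 0, 0, 4, 2, 4, 1, 5, 7, 3, 5, 6, 2, 2, 2, 4]
def bw988 : List ℕ := [3, 5, 3, 3, 3, 7, 4, 2, 6, 4, 0, 5, 3, 5, 1, 2, 0, 4, 2, 4, 1, 5, 7, 3, 5, 6, 2, 2, 2, 4]
def bw989 : List ℕ := [5, 5, 3, 3, 3, 7, 4, 2, 6, 4, 0, 5, 3, 5, 1, 4, 0, 4, 2, 4, 1, 5, 7, 3, 5, 6, 2, 2, 2, 4]
def bw990 : List ℕ := [7, 5, 3, 3, 3, 7, 4, 2, 6, 4, 0, 5, 3, 5, 1, 6, 0, 4, 2, 4, 1, 5, 7, 3, 5, 6, 2, 2, 2, 4]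
def bw991 : List ℕ := [1, 5, 5, 2, 5, 7, 7, 1, 3, 6, 6, 3, 3, 1, 1, 0, 0, 0, 2, 2, 7, 7, 2, 0, 6, 6, 4, 3, 4, 4]
def bw992 : List ℕ := [3, 5, 5, 2, 5, 7, 7, 1, 3, 6, 6, 3, 3, 1, 1, 2, 0, 0, 2, 2, 7, 7, 2, 0, 6, 6, 4, 3, 4, 4]
def bw993 : List ℕ := [5, 5, 5, 2, 5, 7, 7, 1, 3, 6, 6, 3, 3, 1, 1, 4, 0, 0, 2, 2, 7, 7, 2, 0, 6, 6, 4, 3, 4, 4]
def bw994 : List ℕ := [7, 5, 5, 2, 5, 7, 7, 1, 3, 6, 6, 3, 3, 1, 1, 6, 0, 0, 2, 2, 7, 7, 2, 0, 6, 6, 4, 3, 4, 4]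
def bw995 : List ℕ := [1, 2, 7, 4, 7, 2, 7, 0, 2, 0, 7, 4, 1, 3, 1, 0, 0, 2, 0, 5, 6, 1, 3, 1, 6, 3, 6, 5, 6, 3]
def bw996 : List ℕ := [3, 2, 7, 4, 7, 2, 7, 0, 2, 0, 7, 4, 1, 3, 1, 2, 0, 2, 0, 5, 6, 1, 3, 1, 6, 3, 6, 5, 6, 3]
def bw997 : List ℕ := [5, 2, 7, 4, 7, 2, 7, 0, 2, 0, 7, 4, 1, 3, 1, 4, 0, 2, 0, 5, 6, 1, 3, 1, 6, 3, 6, 5, 6, 3]
def bw998 : List ℕ := [7, 2, 7, 4, 7, 2, 7, 0, 2, 0, 7, 4, 1, 3, 1, 6, 0, 2, 0, 5, 6, 1, 3, 1, 6, 3, 6, 5, 6, 3]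
def bw999 : List ℕ := [1, 2, 5, 6, 3, 6, 3, 4, 0, 0, 7, 2, 7, 1, 1, 0, 0, 0, 6, 3, 6, 1, 1, 5, 2, 7, 2, 7, 4, 3]
def bw1000 : List ℕ := [3, 2, 5, 6, 3, 6, 3, 4, 0, 0, 7, 2, 7, 1, 1, 2, 0, 0, 6, 3, 6, 1, 1, 5, 2, 7, 2, 7, 4, 3]
def bw1001 : List ℕ := [5, 2, 5, 6, 3, 6, 3, 4, 0, 0, 7, 2, 7, 1, 1, 4, 0, 0, 6, 3, 6, 1, 1, 5, 2, 7, 2, 7, 4, 3]
def bw1002 : List ℕ := [7, 2, 5, 6, 3, 6, 3, 4, 0, 0, 7, 2, 7, 1, 1, 6, 0, 0, 6, 3, 6, 1, 1, 5, 2, 7, 2, 7, 4, 3]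
def bw1003 : List ℕ := [1, 2, 7, 3, 5, 3, 1, 3, 5, 0, 5, 6, 3, 3, 1, 0, 0, 2, 2, 7, 4, 1, 4, 2, 0, 2, 4, 2, 6, 3]
def bw1004 : List ℕ := [3, 2, 7, 3, 5, 3, 1, 3, 5, 0, 5, 6, 3, 3, 1, 2, 0, 2, 2, 7, 4, 1, 4, 2, 0, 2, 4, 2, 6, 3]
def bw1005 : List ℕ := [5, 2, 7, 3, 5, 3, 1, 3, 5, 0, 5, 6, 3, 3, 1, 4, 0, 2, 2, 7, 4, 1, 4, 2, 0, 2, 4, 2, 6, 3]
def bw1006 : List ℕ := [7, 2, 7, 3, 5, 3, 1, 3, 5, 0, 5, 6, 3, 3, 1, 6, 0, 2, 2, 7, 4, 1, 4, 2, 0, 2, 4, 2, 6, 3]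
def bw1007 : List ℕ := [1, 3, 5, 6, 3, 5, 2, 5, 2, 6, 6, 3, 0, 5, 1, 0, 0, 4, 1, 2, 7, 7, 3, 4, 3, 4, 2, 7, 4, 2]
def bw1008 : List ℕ := [3, 3, 5, 6, 3, 5, 2, 5, 2, 6, 6, 3, 0, 5, 1, 2, 0, 4, 1, 2, 7, 7, 3, 4, 3, 4, 2, 7, 4, 2]
def bw1009 : List ℕ := [5, 3, 5, 6, 3, 5, 2, 5, 2, 6, 6, 3, 0, 5, 1, 4, 0, 4, 1, 2, 7, 7, 3, 4, 3, 4, 2, 7, 4, 2]
def bw1010 : List ℕ := [7, 3, 5, 6, 3, 5, 2, 5, 2, 6, 6, 3, 0, 5, 1, 6, 0, 4, 1, 2, 7, 7, 3, 4, 3, 4, 2, 7, 4, 2]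
def bw1011 : List ℕ := [1, 7, 2, 5, 2, 5, 2, 6, 0, 4, 3, 4, 3, 3, 1, 0, 0, 2, 2, 5, 2, 5, 1, 7, 3, 4, 3, 4, 3, 6]
def bw1012 : List ℕ := [3, 7, 2, 5, 2, 5, 2, 6, 0, 4, 3, 4, 3, 3, 1, 2, 0, 2, 2, 5, 2, 5, 1, 7, 3, 4, 3, 4, 3, 6]
def bw1013 : List ℕ := [5, 7, 2, 5, 2, 5, 2, 6, 0, 4, 3, 4, 3, 3, 1, 4, 0, 2, 2, 5, 2, 5, 1, 7, 3, 4, 3, 4, 3, 6]
def bw1014 : List ℕ := [7, 7, 2, 5, 2, 5, 2, 6, 0, 4, 3, 4, 3, 3, 1, 6, 0, 2, 2, 5, 2, 5, 1, 7, 3, 4, 3, 4, 3, 6]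
def bw1015 : List ℕ := [1, 3, 0, 7, 4, 3, 1, 7, 4, 7, 2, 7, 3, 3, 1, 0, 0, 2, 2, 6, 3, 6, 5, 6, 0, 2, 5, 6, 1, 2]
def bw1016 : List ℕ := [3, 3, 0, 7, 4, 3, 1, 7, 4, 7, 2, 7, 3, 3, 1, 2, 0, 2, 2, 6, 3, 6, 5, 6, 0, 2, 5, 6, 1, 2]
def bw1017 : List ℕ := [5, 3, 0, 7, 4, 3, 1, 7, 4, 7, 2, 7, 3, 3, 1, 4, 0, 2, 2, 6, 3, 6, 5, 6, 0, 2, 5, 6, 1, 2]
def bw1018 : List ℕ := [7, 3, 0, 7, 4, 3, 1, 7, 4, 7, 2, 7, 3, 3, 1, 6, 0, 2, 2, 6, 3, 6, 5, 6, 0, 2, 5, 6, 1, 2]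
def bw1019 : List ℕ := [1, 3, 3, 0, 7, 2, 7, 2, 0, 3, 7, 2, 7, 3, 1, 0, 0, 2, 6, 3, 6, 2, 1, 3, 6, 3, 6, 1, 2, 2]
def bw1020 : List ℕ := [3, 3, 3, 0, 7, 2, 7, 2, 0, 3, 7, 2, 7, 3, 1, 2, 0, 2, 6, 3, 6, 2, 1, 3, 6, 3, 6, 1, 2, 2]
def bw1021 : List ℕ := [5, 3, 3, 0, 7, 2, 7, 2, 0, 3, 7, 2, 7, 3, 1, 4, 0, 2, 6, 3, 6, 2, 1, 3, 6, 3, 6, 1, 2, 2]
def bw1022 : List ℕ := [7, 3, 3, 0, 7, 2, 7, 2, 0, 3, 7, 2, 7, 3, 1, 6, 0, 2, 6, 3, 6, 2, 1, 3, 6, 3, 6, 1, 2, 2]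
def bw1023 : List ℕ := [1, 3, 7, 4, 0, 6, 3, 6, 3, 1, 7, 4, 0, 3, 1, 0, 0, 2, 1, 5, 6, 0, 2, 7, 2, 7, 1, 5, 6, 2]
def bw1024 : List ℕ := [3, 3, 7, 4, 0, 6, 3, 6, 3, 1, 7, 4, 0, 3, 1, 2, 0, 2, 1, 5, 6, 0, 2, 7, 2, 7, 1, 5, 6, 2]
def bw1025 : List ℕ := [5, 3, 7, 4, 0, 6, 3, 6, 3, 1, 7, 4, 0, 3, 1, 4, 0, 2, 1, 5, 6, 0, 2, 7, 2, 7, 1, 5, 6, 2]
def bw1026 : List ℕ := [7, 3, 7, 4, 0, 6, 3, 6, 3, 1, 7, 4, 0, 3, 1, 6, 0, 2, 1, 5, 6, 0, 2, 7, 2, 7, 1, 5, 6, 2]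
def bw1027 : List ℕ := [1, 4, 6, 5, 1, 7, 4, 6, 2, 4, 4, 1, 5, 5, 1, 0, 0, 4, 4, 0, 5, 5, 3, 7, 5, 6, 0, 4, 7, 5]
def bw1028 : List ℕ := [3, 4, 6, 5, 1, 7, 4, 6, 2, 4, 4, 1, 5, 5, 1, 2, 0, 4, 4, 0, 5, 5, 3, 7, 5, 6, 0, 4, 7, 5]
def bw1029 : List ℕ := [5, 4, 6, 5, 1, 7, 4, 6, 2, 4, 4, 1, 5, 5, 1, 4, 0, 4, 4, 0, 5, 5, 3, 7, 5, 6, 0, 4, 7, 5]
def bw1030 : List ℕ := [7, 4, 6, 5, 1, 7, 4, 6, 2, 4, 4, 1, 5, 5, 1, 6, 0, 4, 4, 0, 5, 5, 3, 7, 5, 6, 0, 4, 7, 5]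
def bw1031 : List ℕ := [1, 5, 6, 0, 2, 2, 2, 7, 0, 2, 4, 2, 1, 3, 1, 0, 0, 2, 0, 3, 5, 3, 1, 6, 3, 3, 3, 1, 7, 4]
def bw1032 : List ℕ := [3, 5, 6, 0, 2, 2, 2, 7, 0, 2, 4, 2, 1, 3, 1, 2, 0, 2, 0, 3, 5, 3, 1, 6, 3, 3, 3, 1, 7, 4]
def bw1033 : List ℕ := [5, 5, 6, 0, 2, 2, 2, 7, 0, 2, 4, 2, 1, 3, 1, 4, 0, 2, 0, 3, 5, 3, 1, 6, 3, 3, 3, 1, 7, 4]
def bw1034 : List ℕ := [7, 5, 6, 0, 2, 2, 2, 7, 0, 2, 4, 2, 1, 3, 1, 6, 0, 2, 0, 3, 5, 3, 1, 6, 3, 3, 3, 1, 7, 4]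
def bw1035 : List ℕ := [1, 3, 3, 7, 3, 1, 6, 2, 1, 5, 3, 1, 4, 1, 1, 0, 0, 0, 5, 0, 2, 4, 0, 3, 7, 0, 2, 6, 2, 2]
def bw1036 : List ℕ := [3, 3, 3, 7, 3, 1, 6, 2, 1, 5, 3, 1, 4, 1, 1, 2, 0, 0, 5, 0, 2, 4, 0, 3, 7, 0, 2, 6, 2, 2]
def bw1037 : List ℕ := [5, 3, 3, 7, 3, 1, 6, 2, 1, 5, 3, 1, 4, 1, 1, 4, 0, 0, 5, 0, 2, 4, 0, 3, 7, 0, 2, 6, 2, 2]
def bw1038 : List ℕ := [7, 3, 3, 7, 3, 1, 6, 2, 1, 5, 3, 1, 4, 1, 1, 6, 0, 0, 5, 0, 2, 4, 0, 3, 7, 0, 2, 6, 2, 2]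
def bw1039 : List ℕ := [1, 2, 7, 3, 5, 3, 1, 4, 1, 4, 2, 6, 3, 3, 1, 0, 0, 2, 2, 7, 3, 5, 0, 5, 0, 2, 4, 2, 6, 3]
def bw1040 : List ℕ := [3, 2, 7, 3, 5, 3, 1, 4, 1, 4, 2, 6, 3, 3, 1, 2, 0, 2, 2, 7, 3, 5, 0, 5, 0, 2, 4, 2, 6, 3]
def bw1041 : List ℕ := [5, 2, 7, 3, 5, 3, 1, 4, 1, 4, 2, 6, 3, 3, 1, 4, 0, 2, 2, 7, 3, 5, 0, 5, 0, 2, 4, 2, 6, 3]
def bw1042 : List ℕ := [7, 2, 7, 3, 5, 3, 1, 4, 1, 4, 2, 6, 3, 3, 1, 6, 0, 2, 2, 7, 3, 5, 0, 5, 0, 2, 4, 2, 6, 3]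
def bw1043 : List ℕ := [1, 4, 2, 2, 7, 3, 1, 6, 3, 3, 5, 1, 3, 1, 1, 0, 0, 0, 2, 0, 4, 2, 2, 7, 0, 2, 6, 3, 3, 5]
def bw1044 : List ℕ := [3, 4, 2, 2, 7, 3, 1, 6, 3, 3, 5, 1, 3, 1, 1, 2, 0, 0, 2, 0, 4, 2, 2, 7, 0, 2, 6, 3, 3, 5]
def bw1045 : List ℕ := [5, 4, 2, 2, 7, 3, 1, 6, 3, 3, 5, 1, 3, 1, 1, 4, 0, 0, 2, 0, 4, 2, 2, 7, 0, 2, 6, 3, 3, 5]
def bw1046 : List ℕ := [7, 4, 2, 2, 7, 3, 1, 6, 3, 3, 5, 1, 3, 1, 1, 6, 0, 0, 2, 0, 4, 2, 2, 7, 0, 2, 6, 3, 3, 5]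
def bw1047 : List ℕ := [1, 6, 3, 0, 5, 3, 5, 6, 3, 6, 3, 6, 3, 4, 1, 0, 0, 5, 2, 7, 2, 7, 2, 7, 4, 2, 4, 1, 2, 7]
def bw1048 : List ℕ := [3, 6, 3, 0, 5, 3, 5, 6, 3, 6, 3, 6, 3, 4, 1, 2, 0, 5, 2, 7, 2, 7, 2, 7, 4, 2, 4, 1, 2, 7]
def bw1049 : List ℕ := [5, 6, 3, 0, 5, 3, 5, 6, 3, 6, 3, 6, 3, 4, 1, 4, 0, 5, 2, 7, 2, 7, 2, 7, 4, 2, 4, 1, 2, 7]
def bw1050 : List ℕ := [7, 6, 3, 0, 5, 3, 5, 6, 3, 6, 3, 6, 3, 4, 1, 6, 0, 5, 2, 7, 2, 7, 2, 7, 4, 2, 4, 1, 2, 7]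
def bw1051 : List ℕ := [1, 3, 6, 1, 3, 7, 0, 2, 6, 2, 0, 7, 0, 3, 1, 0, 0, 2, 1, 6, 1, 3, 7, 3, 1, 6, 2, 0, 7, 2]
def bw1052 : List ℕ := [3, 3, 6, 1, 3, 7, 0, 2, 6, 2, 0, 7, 0, 3, 1, 2, 0, 2, 1, 6, 1, 3, 7, 3, 1, 6, 2, 0, 7, 2]
def bw1053 : List ℕ := [5, 3, 6, 1, 3, 7, 0, 2, 6, 2, 0, 7, 0, 3, 1, 4, 0, 2, 1, 6, 1, 3, 7, 3, 1, 6, 2, 0, 7, 2]
def bw1054 : List ℕ := [7, 3, 6, 1, 3, 7, 0, 2, 6, 2, 0, 7, 0, 3, 1, 6, 0, 2, 1, 6, 1, 3, 7, 3, 1, 6, 2, 0, 7, 2]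
def bw1055 : List ℕ := [1, 7, 3, 1, 4, 1, 3, 5, 0, 2, 6, 3, 3, 3, 1, 0, 0, 2, 2, 2, 7, 3, 1, 4, 2, 0, 5, 0, 2, 6]
def bw1056 : List ℕ := [3, 7, 3, 1, 4, 1, 3, 5, 0, 2, 6, 3, 3, 3, 1, 2, 0, 2, 2, 2, 7, 3, 1, 4, 2, 0, 5, 0, 2, 6]
def bw1057 : List ℕ := [5, 7, 3, 1, 4, 1, 3, 5, 0, 2, 6, 3, 3, 3, 1, 4, 0, 2, 2, 2, 7, 3, 1, 4, 2, 0, 5, 0, 2, 6]
def bw1058 : List ℕ := [7, 7, 3, 1, 4, 1, 3, 5, 0, 2, 6, 3, 3, 3, 1, 6, 0, 2, 2, 2, 7, 3, 1, 4, 2, 0, 5, 0, 2, 6]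
def bw1059 : List ℕ := [1, 7, 0, 3, 4, 0, 5, 2, 5, 7, 3, 6, 4, 3, 1, 0, 0, 2, 5, 7, 2, 6, 4, 3, 4, 1, 5, 2, 1, 6]
def bw1060 : List ℕ := [3, 7, 0, 3, 4, 0, 5, 2, 5, 7, 3, 6, 4, 3, 1, 2, 0, 2, 5, 7, 2, 6, 4, 3, 4, 1, 5, 2, 1, 6]
def bw1061 : List ℕ := [5, 7, 0, 3, 4, 0, 5, 2, 5, 7, 3, 6, 4, 3, 1, 4, 0, 2, 5, 7, 2, 6, 4, 3, 4, 1, 5, 2, 1, 6]
def bw1062 : List ℕ := [7, 7, 0, 3, 4, 0, 5, 2, 5, 7, 3, 6, 4, 3, 1, 6, 0, 2, 5, 7, 2, 6, 4, 3, 4, 1, 5, 2, 1, 6]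
def bw1063 : List ℕ := [1, 3, 6, 3, 6, 2, 6, 3, 3, 5, 6, 3, 3, 5, 1, 0, 0, 4, 2, 2, 7, 4, 2, 2, 7, 3, 7, 2, 7, 2]
def bw1064 : List ℕ := [3, 3, 6, 3, 6, 2, 6, 3, 3, 5, 6, 3, 3, 5, 1, 2, 0, 4, 2, 2, 7, 4, 2, 2, 7, 3, 7, 2, 7, 2]
def bw1065 : List ℕ := [5, 3, 6, 3, 6, 2, 6, 3, 3, 5, 6, 3, 3, 5, 1, 4, 0, 4, 2, 2, 7, 4, 2, 2, 7, 3, 7, 2, 7, 2]
def bw1066 : List ℕ := [7, 3, 6, 3, 6, 2, 6, 3, 3, 5, 6, 3, 3, 5, 1, 6, 0, 4, 2, 2, 7, 4, 2, 2, 7, 3, 7, 2, 7, 2]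
def bw1067 : List ℕ := [1, 5, 6, 3, 6, 3, 6, 3, 6, 5, 1, 5, 2, 5, 1, 0, 0, 4, 3, 4, 0, 4, 7, 2, 7, 2, 7, 2, 7, 4]
def bw1068 : List ℕ := [3, 5, 6, 3, 6, 3, 6, 3, 6, 5, 1, 5, 2, 5, 1, 2, 0, 4, 3, 4, 0, 4, 7, 2, 7, 2, 7, 2, 7, 4]
def bw1069 : List ℕ := [5, 5, 6, 3, 6, 3, 6, 3, 6, 5, 1, 5, 2, 5, 1, 4, 0, 4, 3, 4, 0, 4, 7, 2, 7, 2, 7, 2, 7, 4]
def bw1070 : List ℕ := [7, 5, 6, 3, 6, 3, 6, 3, 6, 5, 1, 5, 2, 5, 1, 6, 0, 4, 3, 4, 0, 4, 7, 2, 7, 2, 7, 2, 7, 4]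
def bw1071 : List ℕ := [1, 2, 7, 4, 2, 0, 5, 3, 1, 6, 1, 3, 1, 1, 1, 0, 0, 0, 0, 2, 0, 7, 0, 2, 4, 1, 3, 5, 6, 3]
def bw1072 : List ℕ := [3, 2, 7, 4, 2, 0, 5, 3, 1, 6, 1, 3, 1, 1, 1, 2, 0, 0, 0, 2, 0, 7, 0, 2, 4, 1, 3, 5, 6, 3]
def bw1073 : List ℕ := [5, 2, 7, 4, 2, 0, 5, 3, 1, 6, 1, 3, 1, 1, 1, 4, 0, 0, 0, 2, 0, 7, 0, 2, 4, 1, 3, 5, 6, 3]
def bw1074 : List ℕ := [7, 2, 7, 4, 2, 0, 5, 3, 1, 6, 1, 3, 1, 1, 1, 6, 0, 0, 0, 2, 0, 7, 0, 2, 4, 1, 3, 5, 6, 3]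
def bw1075 : List ℕ := [1, 4, 6, 3, 6, 4, 2, 0, 5, 0, 6, 3, 6, 3, 1, 0, 0, 2, 7, 2, 7, 1, 4, 1, 3, 5, 7, 2, 7, 5]
def bw1076 : List ℕ := [3, 4, 6, 3, 6, 4, 2, 0, 5, 0, 6, 3, 6, 3, 1, 2, 0, 2, 7, 2, 7, 1, 4, 1, 3, 5, 7, 2, 7, 5]
def bw1077 : List ℕ := [5, 4, 6, 3, 6, 4, 2, 0, 5, 0, 6, 3, 6, 3, 1, 4, 0, 2, 7, 2, 7, 1, 4, 1, 3, 5, 7, 2, 7, 5]
def bw1078 : List ℕ := [7, 4, 6, 3, 6, 4, 2, 0, 5, 0, 6, 3, 6, 3, 1, 6, 0, 2, 7, 2, 7, 1, 4, 1, 3, 5, 7, 2, 7, 5]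
def bw1079 : List ℕ := [1, 3, 4, 3, 1, 7, 0, 2, 6, 3, 0, 5, 3, 3, 1, 0, 0, 2, 2, 4, 1, 2, 7, 3, 1, 6, 0, 2, 5, 2]
def bw1080 : List ℕ := [3, 3, 4, 3, 1, 7, 0, 2, 6, 3, 0, 5, 3, 3, 1, 2, 0, 2, 2, 4, 1, 2, 7, 3, 1, 6, 0, 2, 5, 2]
def bw1081 : List ℕ := [5, 3, 4, 3, 1, 7, 0, 2, 6, 3, 0, 5, 3, 3, 1, 4, 0, 2, 2, 4, 1, 2, 7, 3, 1, 6, 0, 2, 5, 2]
def bw1082 : List ℕ := [7, 3, 4, 3, 1, 7, 0, 2, 6, 3, 0, 5, 3, 3, 1, 6, 0, 2, 2, 4, 1, 2, 7, 3, 1, 6, 0, 2, 5, 2]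
def bw1083 : List ℕ := [1, 6, 0, 4, 0, 2, 5, 2, 0, 4, 7, 4, 1, 3, 1, 0, 0, 2, 0, 5, 6, 5, 1, 3, 4, 3, 1, 5, 1, 7]
def bw1084 : List ℕ := [3, 6, 0, 4, 0, 2, 5, 2, 0, 4, 7, 4, 1, 3, 1, 2, 0, 2, 0, 5, 6, 5, 1, 3, 4, 3, 1, 5, 1, 7]
def bw1085 : List ℕ := [5, 6, 0, 4, 0, 2, 5, 2, 0, 4, 7, 4, 1, 3, 1, 4, 0, 2, 0, 5, 6, 5, 1, 3, 4, 3, 1, 5, 1, 7]
def bw1086 : List ℕ := [7, 6, 0, 4, 0, 2, 5, 2, 0, 4, 7, 4, 1, 3, 1, 6, 0, 2, 0, 5, 6, 5, 1, 3, 4, 3, 1, 5, 1, 7]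
def bw1087 : List ℕ := [1, 4, 3, 5, 2, 5, 2, 4, 7, 0, 5, 6, 1, 2, 1, 0, 0, 3, 0, 7, 4, 1, 6, 5, 3, 4, 3, 4, 2, 5]
def bw1088 : List ℕ := [3, 4, 3, 5, 2, 5, 2, 4, 7, 0, 5, 6, 1, 2, 1, 2, 0, 3, 0, 7, 4, 1, 6, 5, 3, 4, 3, 4, 2, 5]
def bw1089 : List ℕ := [5, 4, 3, 5, 2, 5, 2, 4, 7, 0, 5, 6, 1, 2, 1, 4, 0, 3, 0, 7, 4, 1, 6, 5, 3, 4, 3, 4, 2, 5]
def bw1090 : List ℕ := [7, 4, 3, 5, 2, 5, 2, 4, 7, 0, 5, 6, 1, 2, 1, 6, 0, 3, 0, 7, 4, 1, 6, 5, 3, 4, 3, 4, 2, 5]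
def bw1091 : List ℕ := [1, 5, 2, 6, 2, 7, 7, 7, 3, 5, 5, 6, 6, 3, 3, 0, 2, 2, 7, 7, 4, 4, 2, 6, 6, 6, 3, 7, 3, 4]
def bw1092 : List ℕ := [3, 5, 2, 6, 2, 7, 7, 7, 3, 5, 5, 6, 6, 3, 3, 2, 2, 2, 7, 7, 4, 4, 2, 6, 6, 6, 3, 7, 3, 4]
def bw1093 : List ℕ := [5, 5, 2, 6, 2, 7, 7, 7, 3, 5, 5, 6, 6, 3, 3, 4, 2, 2, 7, 7, 4, 4, 2, 6, 6, 6, 3, 7, 3, 4]
def bw1094 : List ℕ := [7, 5, 2, 6, 2, 7, 7, 7, 3, 5, 5, 6, 6, 3, 3, 6, 2, 2, 7, 7, 4, 4, 2, 6, 6, 6, 3, 7, 3, 4]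
def bw1095 : List ℕ := [1, 5, 0, 5, 6, 3, 3, 1, 2, 7, 3, 5, 1, 3, 1, 0, 0, 2, 0, 4, 2, 6, 3, 0, 2, 2, 7, 4, 1, 4]
def bw1096 : List ℕ := [3, 5, 0, 5, 6, 3, 3, 1, 2, 7, 3, 5, 1, 3, 1, 2, 0, 2, 0, 4, 2, 6, 3, 0, 2, 2, 7, 4, 1, 4]
def bw1097 : List ℕ := [5, 5, 0, 5, 6, 3, 3, 1, 2, 7, 3, 5, 1, 3, 1, 4, 0, 2, 0, 4, 2, 6, 3, 0, 2, 2, 7, 4, 1, 4]
def bw1098 : List ℕ := [7, 5, 0, 5, 6, 3, 3, 1, 2, 7, 3, 5, 1, 3, 1, 6, 0, 2, 0, 4, 2, 6, 3, 0, 2, 2, 7, 4, 1, 4]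
def bw1099 : List ℕ := [1, 7, 4, 1, 3, 0, 6, 3, 6, 1, 2, 7, 4, 3, 1, 0, 0, 2, 5, 6, 3, 0, 7, 2, 7, 1, 2, 0, 5, 6]
def bw1100 : List ℕ := [3, 7, 4, 1, 3, 0, 6, 3, 6, 1, 2, 7, 4, 3, 1, 2, 0, 2, 5, 6, 3, 0, 7, 2, 7, 1, 2, 0, 5, 6]
def bw1101 : List ℕ := [5, 7, 4, 1, 3, 0, 6, 3, 6, 1, 2, 7, 4, 3, 1, 4, 0, 2, 5, 6, 3, 0, 7, 2, 7, 1, 2, 0, 5, 6]
def bw1102 : List ℕ := [7, 7, 4, 1, 3, 0, 6, 3, 6, 1, 2, 7, 4, 3, 1, 6, 0, 2, 5, 6, 3, 0, 7, 2, 7, 1, 2, 0, 5, 6]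
def bw1103 : List ℕ := [1, 3, 1, 5, 3, 1, 6, 3, 3, 3, 1, 7, 4, 1, 1, 0, 0, 0, 5, 6, 0, 2, 2, 2, 7, 0, 2, 4, 0, 2]
def bw1104 : List ℕ := [3, 3, 1, 5, 3, 1, 6, 3, 3, 3, 1, 7, 4, 1, 1, 2, 0, 0, 5, 6, 0, 2, 2, 2, 7, 0, 2, 4, 0, 2]
def bw1105 : List ℕ := [5, 3, 1, 5, 3, 1, 6, 3, 3, 3, 1, 7, 4, 1, 1, 4, 0, 0, 5, 6, 0, 2, 2, 2, 7, 0, 2, 4, 0, 2]
def bw1106 : List ℕ := [7, 3, 1, 5, 3, 1, 6, 3, 3, 3, 1, 7, 4, 1, 1, 6, 0, 0, 5, 6, 0, 2, 2, 2, 7, 0, 2, 4, 0, 2]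
def bw1107 : List ℕ := [1, 6, 3, 4, 7, 4, 7, 4, 0, 2, 5, 6, 1, 3, 1, 0, 0, 2, 0, 7, 4, 3, 1, 5, 6, 5, 6, 5, 2, 7]
def bw1108 : List ℕ := [3, 6, 3, 4, 7, 4, 7, 4, 0, 2, 5, 6, 1, 3, 1, 2, 0, 2, 0, 7, 4, 3, 1, 5, 6, 5, 6, 5, 2, 7]
def bw1109 : List ℕ := [5, 6, 3, 4, 7, 4, 7, 4, 0, 2, 5, 6, 1, 3, 1, 4, 0, 2, 0, 7, 4, 3, 1, 5, 6, 5, 6, 5, 2, 7]
def bw1110 : List ℕ := [7, 6, 3, 4, 7, 4, 7, 4, 0, 2, 5, 6, 1, 3, 1, 6, 0, 2, 0, 7, 4, 3, 1, 5, 6, 5, 6, 5, 2, 7]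
def bw1111 : List ℕ := [1, 7, 2, 7, 2, 5, 2, 7, 2, 7, 4, 1, 3, 1, 1, 0, 0, 0, 2, 0, 5, 6, 3, 6, 3, 4, 3, 6, 3, 6]
def bw1112 : List ℕ := [3, 7, 2, 7, 2, 5, 2, 7, 2, 7, 4, 1, 3, 1, 1, 2, 0, 0, 2, 0, 5, 6, 3, 6, 3, 4, 3, 6, 3, 6]
def bw1113 : List ℕ := [5, 7, 2, 7, 2, 5, 2, 7, 2, 7, 4, 1, 3, 1, 1, 4, 0, 0, 2, 0, 5, 6, 3, 6, 3, 4, 3, 6, 3, 6]
def bw1114 : List ℕ := [7, 7, 2, 7, 2, 5, 2, 7, 2, 7, 4, 1, 3, 1, 1, 6, 0, 0, 2, 0, 5, 6, 3, 6, 3, 4, 3, 6, 3, 6]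
def bw1115 : List ℕ := [1, 2, 7, 4, 2, 0, 5, 3, 1, 6, 3, 1, 3, 1, 1, 0, 0, 0, 2, 0, 2, 7, 0, 2, 4, 1, 3, 5, 6, 3]
def bw1116 : List ℕ := [3, 2, 7, 4, 2, 0, 5, 3, 1, 6, 3, 1, 3, 1, 1, 2, 0, 0, 2, 0, 2, 7, 0, 2, 4, 1, 3, 5, 6, 3]
def bw1117 : List ℕ := [5, 2, 7, 4, 2, 0, 5, 3, 1, 6, 3, 1, 3, 1, 1, 4, 0, 0, 2, 0, 2, 7, 0, 2, 4, 1, 3, 5, 6, 3]
def bw1118 : List ℕ := [7, 2, 7, 4, 2, 0, 5, 3, 1, 6, 3, 1, 3, 1, 1, 6, 0, 0, 2, 0, 2, 7, 0, 2, 4, 1, 3, 5, 6, 3]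
def bw1119 : List ℕ := [1, 4, 3, 1, 7, 0, 2, 6, 3, 0, 5, 1, 3, 1, 1, 0, 0, 0, 2, 0, 4, 1, 2, 7, 3, 1, 6, 0, 2, 5]
def bw1120 : List ℕ := [3, 4, 3, 1, 7, 0, 2, 6, 3, 0, 5, 1, 3, 1, 1, 2, 0, 0, 2, 0, 4, 1, 2, 7, 3, 1, 6, 0, 2, 5]
def bw1121 : List ℕ := [5, 4, 3, 1, 7, 0, 2, 6, 3, 0, 5, 1, 3, 1, 1, 4, 0, 0, 2, 0, 4, 1, 2, 7, 3, 1, 6, 0, 2, 5]
def bw1122 : List ℕ := [7, 4, 3, 1, 7, 0, 2, 6, 3, 0, 5, 1, 3, 1, 1, 6, 0, 0, 2, 0, 4, 1, 2, 7, 3, 1, 6, 0, 2, 5]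
def bw1123 : List ℕ := [1, 3, 3, 3, 0, 6, 3, 6, 1, 3, 7, 2, 7, 3, 1, 0, 0, 2, 6, 3, 6, 2, 0, 7, 2, 7, 1, 2, 2, 2]
def bw1124 : List ℕ := [3, 3, 3, 3, 0, 6, 3, 6, 1, 3, 7, 2, 7, 3, 1, 2, 0, 2, 6, 3, 6, 2, 0, 7, 2, 7, 1, 2, 2, 2]
def bw1125 : List ℕ := [5, 3, 3, 3, 0, 6, 3, 6, 1, 3, 7, 2, 7, 3, 1, 4, 0, 2, 6, 3, 6, 2, 0, 7, 2, 7, 1, 2, 2, 2]
def bw1126 : List ℕ := [7, 3, 3, 3, 0, 6, 3, 6, 1, 3, 7, 2, 7, 3, 1, 6, 0, 2, 6, 3, 6, 2, 0, 7, 2, 7, 1, 2, 2, 2]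
def bw1127 : List ℕ := [1, 3, 6, 3, 6, 4, 1, 3, 5, 7, 2, 7, 5, 3, 1, 0, 0, 2, 4, 6, 3, 6, 4, 2, 0, 5, 7, 2, 7, 2]
def bw1128 : List ℕ := [3, 3, 6, 3, 6, 4, 1, 3, 5, 7, 2, 7, 5, 3, 1, 2, 0, 2, 4, 6, 3, 6, 4, 2, 0, 5, 7, 2, 7, 2]
def bw1129 : List ℕ := [5, 3, 6, 3, 6, 4, 1, 3, 5, 7, 2, 7, 5, 3, 1, 4, 0, 2, 4, 6, 3, 6, 4, 2, 0, 5, 7, 2, 7, 2]
def bw1130 : List ℕ := [7, 3, 6, 3, 6, 4, 1, 3, 5, 7, 2, 7, 5, 3, 1, 6, 0, 2, 4, 6, 3, 6, 4, 2, 0, 5, 7, 2, 7, 2]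
def bw1131 : List ℕ := [1, 5, 7, 3, 1, 6, 4, 4, 0, 3, 4, 4, 1, 1, 1, 0, 0, 0, 0, 5, 5, 2, 1, 5, 5, 7, 0, 2, 6, 4]
def bw1132 : List ℕ := [3, 5, 7, 3, 1, 6, 4, 4, 0, 3, 4, 4, 1, 1, 1, 2, 0, 0, 0, 5, 5, 2, 1, 5, 5, 7, 0, 2, 6, 4]
def bw1133 : List ℕ := [5, 5, 7, 3, 1, 6, 4, 4, 0, 3, 4, 4, 1, 1, 1, 4, 0, 0, 0, 5, 5, 2, 1, 5, 5, 7, 0, 2, 6, 4]
def bw1134 : List ℕ := [7, 5, 7, 3, 1, 6, 4, 4, 0, 3, 4, 4, 1, 1, 1, 6, 0, 0, 0, 5, 5, 2, 1, 5, 5, 7, 0, 2, 6, 4]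
def bw1135 : List ℕ := [1, 3, 7, 4, 7, 2, 7, 3, 1, 3, 7, 4, 0, 3, 1, 0, 0, 2, 1, 5, 6, 2, 0, 2, 6, 3, 6, 5, 6, 2]
def bw1136 : List ℕ := [3, 3, 7, 4, 7, 2, 7, 3, 1, 3, 7, 4, 0, 3, 1, 2, 0, 2, 1, 5, 6, 2, 0, 2, 6, 3, 6, 5, 6, 2]
def bw1137 : List ℕ := [5, 3, 7, 4, 7, 2, 7, 3, 1, 3, 7, 4, 0, 3, 1, 4, 0, 2, 1, 5, 6, 2, 0, 2, 6, 3, 6, 5, 6, 2]
def bw1138 : List ℕ := [7, 3, 7, 4, 7, 2, 7, 3, 1, 3, 7, 4, 0, 3, 1, 6, 0, 2, 1, 5, 6, 2, 0, 2, 6, 3, 6, 5, 6, 2]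
def bw1139 : List ℕ := [1, 7, 1, 3, 4, 7, 1, 3, 6, 5, 2, 0, 6, 3, 1, 0, 0, 2, 7, 1, 3, 4, 7, 2, 0, 6, 5, 2, 0, 6]
def bw1140 : List ℕ := [3, 7, 1, 3, 4, 7, 1, 3, 6, 5, 2, 0, 6, 3, 1, 2, 0, 2, 7, 1, 3, 4, 7, 2, 0, 6, 5, 2, 0, 6]
def bw1141 : List ℕ := [5, 7, 1, 3, 4, 7, 1, 3, 6, 5, 2, 0, 6, 3, 1, 4, 0, 2, 7, 1, 3, 4, 7, 2, 0, 6, 5, 2, 0, 6]
def bw1142 : List ℕ := [7, 7, 1, 3, 4, 7, 1, 3, 6, 5, 2, 0, 6, 3, 1, 6, 0, 2, 7, 1, 3, 4, 7, 2, 0, 6, 5, 2, 0, 6]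
def bw1143 : List ℕ := [1, 7, 2, 5, 1, 3, 6, 5, 1, 7, 1, 5, 1, 3, 1, 0, 0, 2, 0, 4, 0, 6, 0, 4, 7, 2, 0, 4, 3, 6]
def bw1144 : List ℕ := [3, 7, 2, 5, 1, 3, 6, 5, 1, 7, 1, 5, 1, 3, 1, 2, 0, 2, 0, 4, 0, 6, 0, 4, 7, 2, 0, 4, 3, 6]
def bw1145 : List ℕ := [5, 7, 2, 5, 1, 3, 6, 5, 1, 7, 1, 5, 1, 3, 1, 4, 0, 2, 0, 4, 0, 6, 0, 4, 7, 2, 0, 4, 3, 6]
def bw1146 : List ℕ := [7, 7, 2, 5, 1, 3, 6, 5, 1, 7, 1, 5, 1, 3, 1, 6, 0, 2, 0, 4, 0, 6, 0, 4, 7, 2, 0, 4, 3, 6]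
def bw1147 : List ℕ := [1, 7, 3, 5, 3, 5, 3, 1, 4, 1, 6, 3, 3, 3, 1, 0, 0, 2, 2, 2, 7, 0, 5, 0, 2, 4, 2, 4, 2, 6]
def bw1148 : List ℕ := [3, 7, 3, 5, 3, 5, 3, 1, 4, 1, 6, 3, 3, 3, 1, 2, 0, 2, 2, 2, 7, 0, 5, 0, 2, 4, 2, 4, 2, 6]
def bw1149 : List ℕ := [5, 7, 3, 5, 3, 5, 3, 1, 4, 1, 6, 3, 3, 3, 1, 4, 0, 2, 2, 2, 7, 0, 5, 0, 2, 4, 2, 4, 2, 6]
def bw1150 : List ℕ := [7, 7, 3, 5, 3, 5, 3, 1, 4, 1, 6, 3, 3, 3, 1, 6, 0, 2, 2, 2, 7, 0, 5, 0, 2, 4, 2, 4, 2, 6]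
def bw1151 : List ℕ := [1, 4, 2, 4, 6, 3, 3, 6, 6, 5, 2, 0, 5, 2, 1, 0, 0, 3, 4, 1, 3, 4, 7, 7, 2, 2, 7, 5, 3, 5]
def bw1152 : List ℕ := [3, 4, 2, 4, 6, 3, 3, 6, 6, 5, 2, 0, 5, 2, 1, 2, 0, 3, 4, 1, 3, 4, 7, 7, 2, 2, 7, 5, 3, 5]
def bw1153 : List ℕ := [5, 4, 2, 4, 6, 3, 3, 6, 6, 5, 2, 0, 5, 2, 1, 4, 0, 3, 4, 1, 3, 4, 7, 7, 2, 2, 7, 5, 3, 5]
def bw1154 : List ℕ := [7, 4, 2, 4, 6, 3, 3, 6, 6, 5, 2, 0, 5, 2, 1, 6, 0, 3, 4, 1, 3, 4, 7, 7, 2, 2, 7, 5, 3, 5]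
def bw1155 : List ℕ := [1, 2, 7, 7, 5, 3, 0, 5, 6, 3, 3, 6, 4, 4, 1, 0, 0, 5, 5, 7, 2, 2, 7, 4, 1, 2, 4, 6, 6, 3]
def bw1156 : List ℕ := [3, 2, 7, 7, 5, 3, 0, 5, 6, 3, 3, 6, 4, 4, 1, 2, 0, 5, 5, 7, 2, 2, 7, 4, 1, 2, 4, 6, 6, 3]
def bw1157 : List ℕ := [5, 2, 7, 7, 5, 3, 0, 5, 6, 3, 3, 6, 4, 4, 1, 4, 0, 5, 5, 7, 2, 2, 7, 4, 1, 2, 4, 6, 6, 3]
def bw1158 : List ℕ := [7, 2, 7, 7, 5, 3, 0, 5, 6, 3, 3, 6, 4, 4, 1, 6, 0, 5, 5, 7, 2, 2, 7, 4, 1, 2, 4, 6, 6, 3]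
def bw1159 : List ℕ := [1, 7, 2, 7, 5, 7, 4, 1, 2, 7, 3, 3, 5, 3, 1, 0, 0, 2, 4, 2, 2, 6, 3, 0, 5, 6, 4, 6, 3, 6]
def bw1160 : List ℕ := [3, 7, 2, 7, 5, 7, 4, 1, 2, 7, 3, 3, 5, 3, 1, 2, 0, 2, 4, 2, 2, 6, 3, 0, 5, 6, 4, 6, 3, 6]
def bw1161 : List ℕ := [5, 7, 2, 7, 5, 7, 4, 1, 2, 7, 3, 3, 5, 3, 1, 4, 0, 2, 4, 2, 2, 6, 3, 0, 5, 6, 4, 6, 3, 6]
def bw1162 : List ℕ := [7, 7, 2, 7, 5, 7, 4, 1, 2, 7, 3, 3, 5, 3, 1, 6, 0, 2, 4, 2, 2, 6, 3, 0, 5, 6, 4, 6, 3, 6]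
def bw1163 : List ℕ := [1, 2, 6, 0, 2, 1, 2, 7, 4, 2, 0, 5, 1, 3, 1, 0, 0, 2, 0, 4, 1, 3, 5, 6, 3, 0, 3, 1, 7, 3]
def bw1164 : List ℕ := [3, 2, 6, 0, 2, 1, 2, 7, 4, 2, 0, 5, 1, 3, 1, 2, 0, 2, 0, 4, 1, 3, 5, 6, 3, 0, 3, 1, 7, 3]
def bw1165 : List ℕ := [5, 2, 6, 0, 2, 1, 2, 7, 4, 2, 0, 5, 1, 3, 1, 4, 0, 2, 0, 4, 1, 3, 5, 6, 3, 0, 3, 1, 7, 3]
def bw1166 : List ℕ := [7, 2, 6, 0, 2, 1, 2, 7, 4, 2, 0, 5, 1, 3, 1, 6, 0, 2, 0, 4, 1, 3, 5, 6, 3, 0, 3, 1, 7, 3]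
def bw1167 : List ℕ := [1, 6, 4, 2, 4, 2, 6, 4, 3, 4, 3, 4, 6, 3, 3, 0, 2, 2, 7, 5, 2, 5, 2, 5, 7, 3, 5, 3, 5, 7]
def bw1168 : List ℕ := [3, 6, 4, 2, 4, 2, 6, 4, 3, 4, 3, 4, 6, 3, 3, 2, 2, 2, 7, 5, 2, 5, 2, 5, 7, 3, 5, 3, 5, 7]
def bw1169 : List ℕ := [5, 6, 4, 2, 4, 2, 6, 4, 3, 4, 3, 4, 6, 3, 3, 4, 2, 2, 7, 5, 2, 5, 2, 5, 7, 3, 5, 3, 5, 7]
def bw1170 : List ℕ := [7, 6, 4, 2, 4, 2, 6, 4, 3, 4, 3, 4, 6, 3, 3, 6, 2, 2, 7, 5, 2, 5, 2, 5, 7, 3, 5, 3, 5, 7]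
def bw1171 : List ℕ := [1, 7, 4, 1, 4, 2, 0, 2, 4, 2, 6, 3, 3, 3, 1, 0, 0, 2, 2, 2, 7, 3, 5, 3, 1, 3, 5, 0, 5, 6]
def bw1172 : List ℕ := [3, 7, 4, 1, 4, 2, 0, 2, 4, 2, 6, 3, 3, 3, 1, 2, 0, 2, 2, 2, 7, 3, 5, 3, 1, 3, 5, 0, 5, 6]
def bw1173 : List ℕ := [5, 7, 4, 1, 4, 2, 0, 2, 4, 2, 6, 3, 3, 3, 1, 4, 0, 2, 2, 2, 7, 3, 5, 3, 1, 3, 5, 0, 5, 6]
def bw1174 : List ℕ := [7, 7, 4, 1, 4, 2, 0, 2, 4, 2, 6, 3, 3, 3, 1, 6, 0, 2, 2, 2, 7, 3, 5, 3, 1, 3, 5, 0, 5, 6]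
def bw1175 : List ℕ := [1, 2, 4, 2, 2, 7, 4, 2, 2, 7, 0, 7, 2, 7, 1, 0, 0, 6, 3, 6, 1, 6, 3, 3, 5, 6, 3, 3, 5, 3]
def bw1176 : List ℕ := [3, 2, 4, 2, 2, 7, 4, 2, 2, 7, 0, 7, 2, 7, 1, 2, 0, 6, 3, 6, 1, 6, 3, 3, 5, 6, 3, 3, 5, 3]
def bw1177 : List ℕ := [5, 2, 4, 2, 2, 7, 4, 2, 2, 7, 0, 7, 2, 7, 1, 4, 0, 6, 3, 6, 1, 6, 3, 3, 5, 6, 3, 3, 5, 3]
def bw1178 : List ℕ := [7, 2, 4, 2, 2, 7, 4, 2, 2, 7, 0, 7, 2, 7, 1, 6, 0, 6, 3, 6, 1, 6, 3, 3, 5, 6, 3, 3, 5, 3]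
def bw1179 : List ℕ := [1, 7, 2, 7, 3, 3, 6, 3, 6, 0, 4, 1, 4, 3, 1, 0, 0, 2, 5, 0, 5, 1, 7, 2, 7, 2, 2, 6, 3, 6]
def bw1180 : List ℕ := [3, 7, 2, 7, 3, 3, 6, 3, 6, 0, 4, 1, 4, 3, 1, 2, 0, 2, 5, 0, 5, 1, 7, 2, 7, 2, 2, 6, 3, 6]
def bw1181 : List ℕ := [5, 7, 2, 7, 3, 3, 6, 3, 6, 0, 4, 1, 4, 3, 1, 4, 0, 2, 5, 0, 5, 1, 7, 2, 7, 2, 2, 6, 3, 6]
def bw1182 : List ℕ := [7, 7, 2, 7, 3, 3, 6, 3, 6, 0, 4, 1, 4, 3, 1, 6, 0, 2, 5, 0, 5, 1, 7, 2, 7, 2, 2, 6, 3, 6]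
def bw1183 : List ℕ := [1, 2, 4, 1, 2, 7, 3, 1, 6, 0, 2, 5, 1, 3, 1, 0, 0, 2, 0, 4, 3, 1, 7, 0, 2, 6, 3, 0, 5, 3]
def bw1184 : List ℕ := [3, 2, 4, 1, 2, 7, 3, 1, 6, 0, 2, 5, 1, 3, 1, 2, 0, 2, 0, 4, 3, 1, 7, 0, 2, 6, 3, 0, 5, 3]
def bw1185 : List ℕ := [5, 2, 4, 1, 2, 7, 3, 1, 6, 0, 2, 5, 1, 3, 1, 4, 0, 2, 0, 4, 3, 1, 7, 0, 2, 6, 3, 0, 5, 3]
def bw1186 : List ℕ := [7, 2, 4, 1, 2, 7, 3, 1, 6, 0, 2, 5, 1, 3, 1, 6, 0, 2, 0, 4, 3, 1, 7, 0, 2, 6, 3, 0, 5, 3]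
def bw1187 : List ℕ := [1, 7, 0, 5, 0, 4, 2, 4, 2, 4, 6, 3, 0, 3, 1, 0, 0, 2, 1, 2, 7, 5, 3, 5, 3, 5, 1, 4, 1, 6]
def bw1188 : List ℕ := [3, 7, 0, 5, 0, 4, 2, 4, 2, 4, 6, 3, 0, 3, 1, 2, 0, 2, 1, 2, 7, 5, 3, 5, 3, 5, 1, 4, 1, 6]
def bw1189 : List ℕ := [5, 7, 0, 5, 0, 4, 2, 4, 2, 4, 6, 3, 0, 3, 1, 4, 0, 2, 1, 2, 7, 5, 3, 5, 3, 5, 1, 4, 1, 6]
def bw1190 : List ℕ := [7, 7, 0, 5, 0, 4, 2, 4, 2, 4, 6, 3, 0, 3, 1, 6, 0, 2, 1, 2, 7, 5, 3, 5, 3, 5, 1, 4, 1, 6]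
def bw1191 : List ℕ := [1, 5, 0, 5, 6, 0, 2, 2, 2, 7, 3, 5, 1, 3, 1, 0, 0, 2, 0, 4, 2, 6, 3, 3, 3, 1, 7, 4, 1, 4]
def bw1192 : List ℕ := [3, 5, 0, 5, 6, 0, 2, 2, 2, 7, 3, 5, 1, 3, 1, 2, 0, 2, 0, 4, 2, 6, 3, 3, 3, 1, 7, 4, 1, 4]
def bw1193 : List ℕ := [5, 5, 0, 5, 6, 0, 2, 2, 2, 7, 3, 5, 1, 3, 1, 4, 0, 2, 0, 4, 2, 6, 3, 3, 3, 1, 7, 4, 1, 4]
def bw1194 : List ℕ := [7, 5, 0, 5, 6, 0, 2, 2, 2, 7, 3, 5, 1, 3, 1, 6, 0, 2, 0, 4, 2, 6, 3, 3, 3, 1, 7, 4, 1, 4]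
def bw1195 : List ℕ := [1, 2, 0, 7, 7, 0, 3, 7, 7, 0, 3, 7, 7, 3, 1, 0, 0, 2, 6, 6, 2, 1, 6, 6, 2, 1, 6, 6, 1, 3]
def bw1196 : List ℕ := [3, 2, 0, 7, 7, 0, 3, 7, 7, 0, 3, 7, 7, 3, 1, 2, 0, 2, 6, 6, 2, 1, 6, 6, 2, 1, 6, 6, 1, 3]
def bw1197 : List ℕ := [5, 2, 0, 7, 7, 0, 3, 7, 7, 0, 3, 7, 7, 3, 1, 4, 0, 2, 6, 6, 2, 1, 6, 6, 2, 1, 6, 6, 1, 3]
def bw1198 : List ℕ := [7, 2, 0, 7, 7, 0, 3, 7, 7, 0, 3, 7, 7, 3, 1, 6, 0, 2, 6, 6, 2, 1, 6, 6, 2, 1, 6, 6, 1, 3]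
def bw1199 : List ℕ := [1, 2, 6, 3, 3, 3, 1, 7, 4, 2, 0, 5, 1, 3, 1, 0, 0, 2, 0, 4, 1, 3, 5, 6, 0, 2, 2, 2, 7, 3]
def bw1200 : List ℕ := [3, 2, 6, 3, 3, 3, 1, 7, 4, 2, 0, 5, 1, 3, 1, 2, 0, 2, 0, 4, 1, 3, 5, 6, 0, 2, 2, 2, 7, 3]
def bw1201 : List ℕ := [5, 2, 6, 3, 3, 3, 1, 7, 4, 2, 0, 5, 1, 3, 1, 4, 0, 2, 0, 4, 1, 3, 5, 6, 0, 2, 2, 2, 7, 3]
def bw1202 : List ℕ := [7, 2, 6, 3, 3, 3, 1, 7, 4, 2, 0, 5, 1, 3, 1, 6, 0, 2, 0, 4, 1, 3, 5, 6, 0, 2, 2, 2, 7, 3]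
def bw1203 : List ℕ := [1, 3, 6, 3, 6, 1, 4, 2, 2, 7, 4, 2, 2, 7, 1, 0, 0, 6, 3, 3, 5, 6, 3, 3, 5, 0, 7, 2, 7, 2]
def bw1204 : List ℕ := [3, 3, 6, 3, 6, 1, 4, 2, 2, 7, 4, 2, 2, 7, 1, 2, 0, 6, 3, 3, 5, 6, 3, 3, 5, 0, 7, 2, 7, 2]
def bw1205 : List ℕ := [5, 3, 6, 3, 6, 1, 4, 2, 2, 7, 4, 2, 2, 7, 1, 4, 0, 6, 3, 3, 5, 6, 3, 3, 5, 0, 7, 2, 7, 2]
def bw1206 : List ℕ := [7, 3, 6, 3, 6, 1, 4, 2, 2, 7, 4, 2, 2, 7, 1, 6, 0, 6, 3, 3, 5, 6, 3, 3, 5, 0, 7, 2, 7, 2]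
def bw1207 : List ℕ := [1, 3, 6, 2, 0, 7, 3, 1, 6, 1, 3, 7, 3, 3, 1, 0, 0, 2, 2, 6, 2, 0, 7, 0, 2, 6, 1, 3, 7, 2]
def bw1208 : List ℕ := [3, 3, 6, 2, 0, 7, 3, 1, 6, 1, 3, 7, 3, 3, 1, 2, 0, 2, 2, 6, 2, 0, 7, 0, 2, 6, 1, 3, 7, 2]
def bw1209 : List ℕ := [5, 3, 6, 2, 0, 7, 3, 1, 6, 1, 3, 7, 3, 3, 1, 4, 0, 2, 2, 6, 2, 0, 7, 0, 2, 6, 1, 3, 7, 2]
def bw1210 : List ℕ := [7, 3, 6, 2, 0, 7, 3, 1, 6, 1, 3, 7, 3, 3, 1, 6, 0, 2, 2, 6, 2, 0, 7, 0, 2, 6, 1, 3, 7, 2]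
def bw1211 : List ℕ := [1, 4, 6, 3, 6, 4, 2, 0, 5, 7, 2, 7, 1, 3, 1, 0, 0, 2, 0, 6, 3, 6, 4, 1, 3, 5, 7, 2, 7, 5]
def bw1212 : List ℕ := [3, 4, 6, 3, 6, 4, 2, 0, 5, 7, 2, 7, 1, 3, 1, 2, 0, 2, 0, 6, 3, 6, 4, 1, 3, 5, 7, 2, 7, 5]
def bw1213 : List ℕ := [5, 4, 6, 3, 6, 4, 2, 0, 5, 7, 2, 7, 1, 3, 1, 4, 0, 2, 0, 6, 3, 6, 4, 1, 3, 5, 7, 2, 7, 5]
def bw1214 : List ℕ := [7, 4, 6, 3, 6, 4, 2, 0, 5, 7, 2, 7, 1, 3, 1, 6, 0, 2, 0, 6, 3, 6, 4, 1, 3, 5, 7, 2, 7, 5]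
def bw1215 : List ℕ := [1, 3, 4, 7, 7, 2, 2, 7, 1, 4, 2, 4, 3, 4, 1, 0, 0, 5, 2, 5, 3, 5, 0, 6, 3, 3, 6, 6, 5, 2]
def bw1216 : List ℕ := [3, 3, 4, 7, 7, 2, 2, 7, 1, 4, 2, 4, 3, 4, 1, 2, 0, 5, 2, 5, 3, 5, 0, 6, 3, 3, 6, 6, 5, 2]
def bw1217 : List ℕ := [5, 3, 4, 7, 7, 2, 2, 7, 1, 4, 2, 4, 3, 4, 1, 4, 0, 5, 2, 5, 3, 5, 0, 6, 3, 3, 6, 6, 5, 2]
def bw1218 : List ℕ := [7, 3, 4, 7, 7, 2, 2, 7, 1, 4, 2, 4, 3, 4, 1, 6, 0, 5, 2, 5, 3, 5, 0, 6, 3, 3, 6, 6, 5, 2]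
def bw1219 : List ℕ := [1, 7, 2, 7, 4, 1, 4, 3, 6, 3, 6, 0, 3, 3, 1, 0, 0, 2, 2, 1, 7, 2, 7, 2, 5, 0, 5, 6, 3, 6]
def bw1220 : List ℕ := [3, 7, 2, 7, 4, 1, 4, 3, 6, 3, 6, 0, 3, 3, 1, 2, 0, 2, 2, 1, 7, 2, 7, 2, 5, 0, 5, 6, 3, 6]
def bw1221 : List ℕ := [5, 7, 2, 7, 4, 1, 4, 3, 6, 3, 6, 0, 3, 3, 1, 4, 0, 2, 2, 1, 7, 2, 7, 2, 5, 0, 5, 6, 3, 6]
def bw1222 : List ℕ := [7, 7, 2, 7, 4, 1, 4, 3, 6, 3, 6, 0, 3, 3, 1, 6, 0, 2, 2, 1, 7, 2, 7, 2, 5, 0, 5, 6, 3, 6]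
def bw1223 : List ℕ := [1, 4, 2, 4, 1, 7, 3, 1, 6, 3, 4, 1, 4, 3, 1, 0, 0, 2, 5, 0, 5, 2, 7, 0, 2, 6, 0, 5, 3, 5]
def bw1224 : List ℕ := [3, 4, 2, 4, 1, 7, 3, 1, 6, 3, 4, 1, 4, 3, 1, 2, 0, 2, 5, 0, 5, 2, 7, 0, 2, 6, 0, 5, 3, 5]
def bw1225 : List ℕ := [5, 4, 2, 4, 1, 7, 3, 1, 6, 3, 4, 1, 4, 3, 1, 4, 0, 2, 5, 0, 5, 2, 7, 0, 2, 6, 0, 5, 3, 5]
def bw1226 : List ℕ := [7, 4, 2, 4, 1, 7, 3, 1, 6, 3, 4, 1, 4, 3, 1, 6, 0, 2, 5, 0, 5, 2, 7, 0, 2, 6, 0, 5, 3, 5]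
def bw1227 : List ℕ := [1, 6, 4, 2, 2, 4, 1, 4, 4, 2, 5, 2, 7, 3, 1, 0, 0, 2, 6, 3, 4, 3, 5, 5, 0, 5, 3, 3, 5, 7]
def bw1228 : List ℕ := [3, 6, 4, 2, 2, 4, 1, 4, 4, 2, 5, 2, 7, 3, 1, 2, 0, 2, 6, 3, 4, 3, 5, 5, 0, 5, 3, 3, 5, 7]
def bw1229 : List ℕ := [5, 6, 4, 2, 2, 4, 1, 4, 4, 2, 5, 2, 7, 3, 1, 4, 0, 2, 6, 3, 4, 3, 5, 5, 0, 5, 3, 3, 5, 7]
def bw1230 : List ℕ := [7, 6, 4, 2, 2, 4, 1, 4, 4, 2, 5, 2, 7, 3, 1, 6, 0, 2, 6, 3, 4, 3, 5, 5, 0, 5, 3, 3, 5, 7]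
def bw1231 : List ℕ := [1, 7, 4, 1, 2, 7, 3, 7, 0, 3, 1, 7, 4, 1, 1, 0, 0, 0, 5, 6, 0, 2, 1, 6, 2, 6, 3, 0, 5, 6]
def bw1232 : List ℕ := [3, 7, 4, 1, 2, 7, 3, 7, 0, 3, 1, 7, 4, 1, 1, 2, 0, 0, 5, 6, 0, 2, 1, 6, 2, 6, 3, 0, 5, 6]
def bw1233 : List ℕ := [5, 7, 4, 1, 2, 7, 3, 7, 0, 3, 1, 7, 4, 1, 1, 4, 0, 0, 5, 6, 0, 2, 1, 6, 2, 6, 3, 0, 5, 6]
def bw1234 : List ℕ := [7, 7, 4, 1, 2, 7, 3, 7, 0, 3, 1, 7, 4, 1, 1, 6, 0, 0, 5, 6, 0, 2, 1, 6, 2, 6, 3, 0, 5, 6]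
def bw1235 : List ℕ := [1, 5, 6, 1, 3, 1, 6, 3, 6, 5, 6, 3, 1, 3, 1, 0, 0, 2, 0, 2, 7, 4, 7, 2, 7, 0, 2, 0, 7, 4]
def bw1236 : List ℕ := [3, 5, 6, 1, 3, 1, 6, 3, 6, 5, 6, 3, 1, 3, 1, 2, 0, 2, 0, 2, 7, 4, 7, 2, 7, 0, 2, 0, 7, 4]
def bw1237 : List ℕ := [5, 5, 6, 1, 3, 1, 6, 3, 6, 5, 6, 3, 1, 3, 1, 4, 0, 2, 0, 2, 7, 4, 7, 2, 7, 0, 2, 0, 7, 4]
def bw1238 : List ℕ := [7, 5, 6, 1, 3, 1, 6, 3, 6, 5, 6, 3, 1, 3, 1, 6, 0, 2, 0, 2, 7, 4, 7, 2, 7, 0, 2, 0, 7, 4]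
def bw1239 : List ℕ := [1, 7, 1, 7, 5, 6, 1, 4, 1, 4, 4, 3, 7, 3, 1, 0, 0, 2, 6, 2, 5, 5, 0, 5, 0, 7, 4, 6, 0, 6]
def bw1240 : List ℕ := [3, 7, 1, 7, 5, 6, 1, 4, 1, 4, 4, 3, 7, 3, 1, 2, 0, 2, 6, 2, 5, 5, 0, 5, 0, 7, 4, 6, 0, 6]
def bw1241 : List ℕ := [5, 7, 1, 7, 5, 6, 1, 4, 1, 4, 4, 3, 7, 3, 1, 4, 0, 2, 6, 2, 5, 5, 0, 5, 0, 7, 4, 6, 0, 6]
def bw1242 : List ℕ := [7, 7, 1, 7, 5, 6, 1, 4, 1, 4, 4, 3, 7, 3, 1, 6, 0, 2, 6, 2, 5, 5, 0, 5, 0, 7, 4, 6, 0, 6]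
def bw1243 : List ℕ := [1, 7, 2, 7, 2, 5, 0, 5, 1, 7, 2, 7, 2, 2, 1, 0, 0, 3, 3, 6, 3, 6, 0, 4, 1, 4, 3, 6, 3, 6]
def bw1244 : List ℕ := [3, 7, 2, 7, 2, 5, 0, 5, 1, 7, 2, 7, 2, 2, 1, 2, 0, 3, 3, 6, 3, 6, 0, 4, 1, 4, 3, 6, 3, 6]
def bw1245 : List ℕ := [5, 7, 2, 7, 2, 5, 0, 5, 1, 7, 2, 7, 2, 2, 1, 4, 0, 3, 3, 6, 3, 6, 0, 4, 1, 4, 3, 6, 3, 6]
def bw1246 : List ℕ := [7, 7, 2, 7, 2, 5, 0, 5, 1, 7, 2, 7, 2, 2, 1, 6, 0, 3, 3, 6, 3, 6, 0, 4, 1, 4, 3, 6, 3, 6]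
def bw1247 : List ℕ := [1, 2, 7, 2, 4, 6, 0, 2, 6, 0, 5, 7, 1, 3, 1, 0, 0, 2, 0, 6, 4, 1, 7, 3, 1, 7, 5, 3, 6, 3]
def bw1248 : List ℕ := [3, 2, 7, 2, 4, 6, 0, 2, 6, 0, 5, 7, 1, 3, 1, 2, 0, 2, 0, 6, 4, 1, 7, 3, 1, 7, 5, 3, 6, 3]
def bw1249 : List ℕ := [5, 2, 7, 2, 4, 6, 0, 2, 6, 0, 5, 7, 1, 3, 1, 4, 0, 2, 0, 6, 4, 1, 7, 3, 1, 7, 5, 3, 6, 3]
def bw1250 : List ℕ := [7, 2, 7, 2, 4, 6, 0, 2, 6, 0, 5, 7, 1, 3, 1, 6, 0, 2, 0, 6, 4, 1, 7, 3, 1, 7, 5, 3, 6, 3]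
def bw1251 : List ℕ := [1, 6, 0, 2, 5, 6, 0, 2, 5, 0, 7, 2, 7, 1, 1, 0, 0, 0, 6, 3, 6, 1, 4, 3, 1, 7, 4, 3, 1, 7]
def bw1252 : List ℕ := [3, 6, 0, 2, 5, 6, 0, 2, 5, 0, 7, 2, 7, 1, 1, 2, 0, 0, 6, 3, 6, 1, 4, 3, 1, 7, 4, 3, 1, 7]
def bw1253 : List ℕ := [5, 6, 0, 2, 5, 6, 0, 2, 5, 0, 7, 2, 7, 1, 1, 4, 0, 0, 6, 3, 6, 1, 4, 3, 1, 7, 4, 3, 1, 7]
def bw1254 : List ℕ := [7, 6, 0, 2, 5, 6, 0, 2, 5, 0, 7, 2, 7, 1, 1, 6, 0, 0, 6, 3, 6, 1, 4, 3, 1, 7, 4, 3, 1, 7]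
def bw1255 : List ℕ := [1, 2, 7, 1, 5, 1, 5, 1, 2, 7, 1, 5, 1, 5, 1, 0, 0, 4, 0, 4, 0, 6, 3, 0, 4, 0, 4, 0, 6, 3]
def bw1256 : List ℕ := [3, 2, 7, 1, 5, 1, 5, 1, 2, 7, 1, 5, 1, 5, 1, 2, 0, 4, 0, 4, 0, 6, 3, 0, 4, 0, 4, 0, 6, 3]
def bw1257 : List ℕ := [5, 2, 7, 1, 5, 1, 5, 1, 2, 7, 1, 5, 1, 5, 1, 4, 0, 4, 0, 4, 0, 6, 3, 0, 4, 0, 4, 0, 6, 3]
def bw1258 : List ℕ := [7, 2, 7, 1, 5, 1, 5, 1, 2, 7, 1, 5, 1, 5, 1, 6, 0, 4, 0, 4, 0, 6, 3, 0, 4, 0, 4, 0, 6, 3]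
def bw1259 : List ℕ := [1, 7, 3, 5, 3, 1, 3, 5, 0, 5, 6, 3, 0, 3, 1, 0, 0, 2, 1, 2, 7, 4, 1, 4, 2, 0, 2, 4, 2, 6]
def bw1260 : List ℕ := [3, 7, 3, 5, 3, 1, 3, 5, 0, 5, 6, 3, 0, 3, 1, 2, 0, 2, 1, 2, 7, 4, 1, 4, 2, 0, 2, 4, 2, 6]
def bw1261 : List ℕ := [5, 7, 3, 5, 3, 1, 3, 5, 0, 5, 6, 3, 0, 3, 1, 4, 0, 2, 1, 2, 7, 4, 1, 4, 2, 0, 2, 4, 2, 6]
def bw1262 : List ℕ := [7, 7, 3, 5, 3, 1, 3, 5, 0, 5, 6, 3, 0, 3, 1, 6, 0, 2, 1, 2, 7, 4, 1, 4, 2, 0, 2, 4, 2, 6]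
def bw1263 : List ℕ := [1, 7, 4, 2, 0, 5, 6, 4, 4, 1, 4, 2, 2, 4, 1, 0, 0, 5, 3, 3, 5, 0, 5, 5, 7, 4, 1, 3, 5, 6]
def bw1264 : List ℕ := [3, 7, 4, 2, 0, 5, 6, 4, 4, 1, 4, 2, 2, 4, 1, 2, 0, 5, 3, 3, 5, 0, 5, 5, 7, 4, 1, 3, 5, 6]
def bw1265 : List ℕ := [5, 7, 4, 2, 0, 5, 6, 4, 4, 1, 4, 2, 2, 4, 1, 4, 0, 5, 3, 3, 5, 0, 5, 5, 7, 4, 1, 3, 5, 6]
def bw1266 : List ℕ := [7, 7, 4, 2, 0, 5, 6, 4, 4, 1, 4, 2, 2, 4, 1, 6, 0, 5, 3, 3, 5, 0, 5, 5, 7, 4, 1, 3, 5, 6]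
def bw1267 : List ℕ := [1, 5, 2, 7, 1, 5, 2, 7, 1, 5, 6, 5, 6, 3, 1, 0, 0, 2, 7, 4, 7, 4, 0, 6, 3, 4, 0, 6, 3, 4]
def bw1268 : List ℕ := [3, 5, 2, 7, 1, 5, 2, 7, 1, 5, 6, 5, 6, 3, 1, 2, 0, 2, 7, 4, 7, 4, 0, 6, 3, 4, 0, 6, 3, 4]
def bw1269 : List ℕ := [5, 5, 2, 7, 1, 5, 2, 7, 1, 5, 6, 5, 6, 3, 1, 4, 0, 2, 7, 4, 7, 4, 0, 6, 3, 4, 0, 6, 3, 4]
def bw1270 : List ℕ := [7, 5, 2, 7, 1, 5, 2, 7, 1, 5, 6, 5, 6, 3, 1, 6, 0, 2, 7, 4, 7, 4, 0, 6, 3, 4, 0, 6, 3, 4]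
def bw1271 : List ℕ := [1, 2, 7, 0, 2, 4, 2, 2, 0, 2, 5, 6, 3, 3, 1, 0, 0, 2, 2, 7, 4, 3, 1, 3, 3, 5, 3, 1, 6, 3]
def bw1272 : List ℕ := [3, 2, 7, 0, 2, 4, 2, 2, 0, 2, 5, 6, 3, 3, 1, 2, 0, 2, 2, 7, 4, 3, 1, 3, 3, 5, 3, 1, 6, 3]
def bw1273 : List ℕ := [5, 2, 7, 0, 2, 4, 2, 2, 0, 2, 5, 6, 3, 3, 1, 4, 0, 2, 2, 7, 4, 3, 1, 3, 3, 5, 3, 1, 6, 3]
def bw1274 : List ℕ := [7, 2, 7, 0, 2, 4, 2, 2, 0, 2, 5, 6, 3, 3, 1, 6, 0, 2, 2, 7, 4, 3, 1, 3, 3, 5, 3, 1, 6, 3]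
def bw1275 : List ℕ := [1, 5, 6, 3, 4, 7, 2, 0, 6, 0, 6, 5, 6, 5, 1, 0, 0, 4, 7, 4, 7, 1, 7, 1, 3, 6, 5, 2, 7, 4]
def bw1276 : List ℕ := [3, 5, 6, 3, 4, 7, 2, 0, 6, 0, 6, 5, 6, 5, 1, 2, 0, 4, 7, 4, 7, 1, 7, 1, 3, 6, 5, 2, 7, 4]
def bw1277 : List ℕ := [5, 5, 6, 3, 4, 7, 2, 0, 6, 0, 6, 5, 6, 5, 1, 4, 0, 4, 7, 4, 7, 1, 7, 1, 3, 6, 5, 2, 7, 4]
def bw1278 : List ℕ := [7, 5, 6, 3, 4, 7, 2, 0, 6, 0, 6, 5, 6, 5, 1, 6, 0, 4, 7, 4, 7, 1, 7, 1, 3, 6, 5, 2, 7, 4]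
def bw1279 : List ℕ := [1, 3, 6, 0, 5, 7, 3, 1, 7, 2, 4, 6, 3, 3, 1, 0, 0, 2, 2, 7, 5, 3, 6, 0, 2, 6, 4, 1, 7, 2]
def bw1280 : List ℕ := [3, 3, 6, 0, 5, 7, 3, 1, 7, 2, 4, 6, 3, 3, 1, 2, 0, 2, 2, 7, 5, 3, 6, 0, 2, 6, 4, 1, 7, 2]
def bw1281 : List ℕ := [5, 3, 6, 0, 5, 7, 3, 1, 7, 2, 4, 6, 3, 3, 1, 4, 0, 2, 2, 7, 5, 3, 6, 0, 2, 6, 4, 1, 7, 2]
def bw1282 : List ℕ := [7, 3, 6, 0, 5, 7, 3, 1, 7, 2, 4, 6, 3, 3, 1, 6, 0, 2, 2, 7, 5, 3, 6, 0, 2, 6, 4, 1, 7, 2]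
def bw1283 : List ℕ := [1, 3, 3, 4, 7, 2, 0, 4, 7, 2, 0, 4, 7, 3, 1, 0, 0, 2, 6, 5, 1, 3, 6, 5, 1, 3, 6, 5, 2, 2]
def bw1284 : List ℕ := [3, 3, 3, 4, 7, 2, 0, 4, 7, 2, 0, 4, 7, 3, 1, 2, 0, 2, 6, 5, 1, 3, 6, 5, 1, 3, 6, 5, 2, 2]
def bw1285 : List ℕ := [5, 3, 3, 4, 7, 2, 0, 4, 7, 2, 0, 4, 7, 3, 1, 4, 0, 2, 6, 5, 1, 3, 6, 5, 1, 3, 6, 5, 2, 2]
def bw1286 : List ℕ := [7, 3, 3, 4, 7, 2, 0, 4, 7, 2, 0, 4, 7, 3, 1, 6, 0, 2, 6, 5, 1, 3, 6, 5, 1, 3, 6, 5, 2, 2]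
def bw1287 : List ℕ := [1, 5, 6, 3, 1, 3, 6, 3, 6, 5, 6, 3, 1, 3, 1, 0, 0, 2, 0, 2, 7, 4, 7, 2, 7, 2, 0, 2, 7, 4]
def bw1288 : List ℕ := [3, 5, 6, 3, 1, 3, 6, 3, 6, 5, 6, 3, 1, 3, 1, 2, 0, 2, 0, 2, 7, 4, 7, 2, 7, 2, 0, 2, 7, 4]
def bw1289 : List ℕ := [5, 5, 6, 3, 1, 3, 6, 3, 6, 5, 6, 3, 1, 3, 1, 4, 0, 2, 0, 2, 7, 4, 7, 2, 7, 2, 0, 2, 7, 4]
def bw1290 : List ℕ := [7, 5, 6, 3, 1, 3, 6, 3, 6, 5, 6, 3, 1, 3, 1, 6, 0, 2, 0, 2, 7, 4, 7, 2, 7, 2, 0, 2, 7, 4]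
def bw1291 : List ℕ := [1, 4, 0, 6, 0, 4, 7, 2, 0, 4, 3, 6, 1, 3, 1, 0, 0, 2, 0, 7, 2, 5, 1, 3, 6, 5, 1, 7, 1, 5]
def bw1292 : List ℕ := [3, 4, 0, 6, 0, 4, 7, 2, 0, 4, 3, 6, 1, 3, 1, 2, 0, 2, 0, 7, 2, 5, 1, 3, 6, 5, 1, 7, 1, 5]
def bw1293 : List ℕ := [5, 4, 0, 6, 0, 4, 7, 2, 0, 4, 3, 6, 1, 3, 1, 4, 0, 2, 0, 7, 2, 5, 1, 3, 6, 5, 1, 7, 1, 5]
def bw1294 : List ℕ := [7, 4, 0, 6, 0, 4, 7, 2, 0, 4, 3, 6, 1, 3, 1, 6, 0, 2, 0, 7, 2, 5, 1, 3, 6, 5, 1, 7, 1, 5]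
def bw1295 : List ℕ := [1, 5, 6, 3, 6, 3, 4, 3, 1, 7, 2, 7, 1, 3, 1, 0, 0, 2, 0, 6, 3, 6, 0, 2, 5, 2, 7, 2, 7, 4]
def bw1296 : List ℕ := [3, 5, 6, 3, 6, 3, 4, 3, 1, 7, 2, 7, 1, 3, 1, 2, 0, 2, 0, 6, 3, 6, 0, 2, 5, 2, 7, 2, 7, 4]
def bw1297 : List ℕ := [5, 5, 6, 3, 6, 3, 4, 3, 1, 7, 2, 7, 1, 3, 1, 4, 0, 2, 0, 6, 3, 6, 0, 2, 5, 2, 7, 2, 7, 4]
def bw1298 : List ℕ := [7, 5, 6, 3, 6, 3, 4, 3, 1, 7, 2, 7, 1, 3, 1, 6, 0, 2, 0, 6, 3, 6, 0, 2, 5, 2, 7, 2, 7, 4]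
def bw1299 : List ℕ := [1, 5, 5, 1, 5, 7, 0, 2, 6, 4, 0, 4, 4, 3, 1, 0, 0, 2, 5, 5, 1, 5, 7, 3, 1, 6, 4, 0, 4, 4]
def bw1300 : List ℕ := [3, 5, 5, 1, 5, 7, 0, 2, 6, 4, 0, 4, 4, 3, 1, 2, 0, 2, 5, 5, 1, 5, 7, 3, 1, 6, 4, 0, 4, 4]
def bw1301 : List ℕ := [5, 5, 5, 1, 5, 7, 0, 2, 6, 4, 0, 4, 4, 3, 1, 4, 0, 2, 5, 5, 1, 5, 7, 3, 1, 6, 4, 0, 4, 4]
def bw1302 : List ℕ := [7, 5, 5, 1, 5, 7, 0, 2, 6, 4, 0, 4, 4, 3, 1, 6, 0, 2, 5, 5, 1, 5, 7, 3, 1, 6, 4, 0, 4, 4]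
def bw1303 : List ℕ := [1, 2, 7, 0, 5, 0, 5, 3, 5, 3, 5, 6, 3, 3, 1, 0, 0, 2, 2, 7, 4, 2, 4, 2, 4, 1, 4, 1, 6, 3]
def bw1304 : List ℕ := [3, 2, 7, 0, 5, 0, 5, 3, 5, 3, 5, 6, 3, 3, 1, 2, 0, 2, 2, 7, 4, 2, 4, 2, 4, 1, 4, 1, 6, 3]
def bw1305 : List ℕ := [5, 2, 7, 0, 5, 0, 5, 3, 5, 3, 5, 6, 3, 3, 1, 4, 0, 2, 2, 7, 4, 2, 4, 2, 4, 1, 4, 1, 6, 3]
def bw1306 : List ℕ := [7, 2, 7, 0, 5, 0, 5, 3, 5, 3, 5, 6, 3, 3, 1, 6, 0, 2, 2, 7, 4, 2, 4, 2, 4, 1, 4, 1, 6, 3]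
def bw1307 : List ℕ := [1, 2, 7, 0, 5, 0, 4, 2, 4, 2, 4, 6, 3, 3, 1, 0, 0, 2, 2, 7, 5, 3, 5, 3, 5, 1, 4, 1, 6, 3]
def bw1308 : List ℕ := [3, 2, 7, 0, 5, 0, 4, 2, 4, 2, 4, 6, 3, 3, 1, 2, 0, 2, 2, 7, 5, 3, 5, 3, 5, 1, 4, 1, 6, 3]
def bw1309 : List ℕ := [5, 2, 7, 0, 5, 0, 4, 2, 4, 2, 4, 6, 3, 3, 1, 4, 0, 2, 2, 7, 5, 3, 5, 3, 5, 1, 4, 1, 6, 3]
def bw1310 : List ℕ := [7, 2, 7, 0, 5, 0, 4, 2, 4, 2, 4, 6, 3, 3, 1, 6, 0, 2, 2, 7, 5, 3, 5, 3, 5, 1, 4, 1, 6, 3]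
def bw1311 : List ℕ := [1, 3, 6, 0, 2, 5, 3, 1, 4, 1, 2, 7, 0, 3, 1, 0, 0, 2, 1, 6, 3, 0, 5, 0, 2, 4, 3, 1, 7, 2]
def bw1312 : List ℕ := [3, 3, 6, 0, 2, 5, 3, 1, 4, 1, 2, 7, 0, 3, 1, 2, 0, 2, 1, 6, 3, 0, 5, 0, 2, 4, 3, 1, 7, 2]
def bw1313 : List ℕ := [5, 3, 6, 0, 2, 5, 3, 1, 4, 1, 2, 7, 0, 3, 1, 4, 0, 2, 1, 6, 3, 0, 5, 0, 2, 4, 3, 1, 7, 2]
def bw1314 : List ℕ := [7, 3, 6, 0, 2, 5, 3, 1, 4, 1, 2, 7, 0, 3, 1, 6, 0, 2, 1, 6, 3, 0, 5, 0, 2, 4, 3, 1, 7, 2]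
def bw1315 : List ℕ := [1, 5, 6, 5, 6, 5, 2, 7, 3, 1, 3, 7, 4, 3, 1, 0, 0, 2, 5, 6, 2, 0, 2, 6, 3, 4, 7, 4, 7, 4]
def bw1316 : List ℕ := [3, 5, 6, 5, 6, 5, 2, 7, 3, 1, 3, 7, 4, 3, 1, 2, 0, 2, 5, 6, 2, 0, 2, 6, 3, 4, 7, 4, 7, 4]
def bw1317 : List ℕ := [5, 5, 6, 5, 6, 5, 2, 7, 3, 1, 3, 7, 4, 3, 1, 4, 0, 2, 5, 6, 2, 0, 2, 6, 3, 4, 7, 4, 7, 4]
def bw1318 : List ℕ := [7, 5, 6, 5, 6, 5, 2, 7, 3, 1, 3, 7, 4, 3, 1, 6, 0, 2, 5, 6, 2, 0, 2, 6, 3, 4, 7, 4, 7, 4]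
def bw1319 : List ℕ := [1, 6, 3, 0, 5, 0, 2, 4, 3, 1, 7, 1, 3, 1, 1, 0, 0, 0, 2, 0, 6, 0, 2, 5, 3, 1, 4, 1, 2, 7]
def bw1320 : List ℕ := [3, 6, 3, 0, 5, 0, 2, 4, 3, 1, 7, 1, 3, 1, 1, 2, 0, 0, 2, 0, 6, 0, 2, 5, 3, 1, 4, 1, 2, 7]
def bw1321 : List ℕ := [5, 6, 3, 0, 5, 0, 2, 4, 3, 1, 7, 1, 3, 1, 1, 4, 0, 0, 2, 0, 6, 0, 2, 5, 3, 1, 4, 1, 2, 7]
def bw1322 : List ℕ := [7, 6, 3, 0, 5, 0, 2, 4, 3, 1, 7, 1, 3, 1, 1, 6, 0, 0, 2, 0, 6, 0, 2, 5, 3, 1, 4, 1, 2, 7]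
def bw1323 : List ℕ := [1, 6, 3, 6, 0, 2, 5, 0, 5, 6, 3, 6, 3, 3, 1, 0, 0, 2, 2, 7, 2, 7, 4, 1, 4, 3, 1, 7, 2, 7]
def bw1324 : List ℕ := [3, 6, 3, 6, 0, 2, 5, 0, 5, 6, 3, 6, 3, 3, 1, 2, 0, 2, 2, 7, 2, 7, 4, 1, 4, 3, 1, 7, 2, 7]
def bw1325 : List ℕ := [5, 6, 3, 6, 0, 2, 5, 0, 5, 6, 3, 6, 3, 3, 1, 4, 0, 2, 2, 7, 2, 7, 4, 1, 4, 3, 1, 7, 2, 7]
def bw1326 : List ℕ := [7, 6, 3, 6, 0, 2, 5, 0, 5, 6, 3, 6, 3, 3, 1, 6, 0, 2, 2, 7, 2, 7, 4, 1, 4, 3, 1, 7, 2, 7]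
def bw1327 : List ℕ := [1, 4, 2, 6, 3, 0, 2, 2, 7, 4, 1, 4, 1, 3, 1, 0, 0, 2, 0, 5, 0, 5, 6, 3, 3, 1, 2, 7, 3, 5]
def bw1328 : List ℕ := [3, 4, 2, 6, 3, 0, 2, 2, 7, 4, 1, 4, 1, 3, 1, 2, 0, 2, 0, 5, 0, 5, 6, 3, 3, 1, 2, 7, 3, 5]
def bw1329 : List ℕ := [5, 4, 2, 6, 3, 0, 2, 2, 7, 4, 1, 4, 1, 3, 1, 4, 0, 2, 0, 5, 0, 5, 6, 3, 3, 1, 2, 7, 3, 5]
def bw1330 : List ℕ := [7, 4, 2, 6, 3, 0, 2, 2, 7, 4, 1, 4, 1, 3, 1, 6, 0, 2, 0, 5, 0, 5, 6, 3, 3, 1, 2, 7, 3, 5]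
def bw1331 : List ℕ := [1, 3, 7, 2, 4, 6, 0, 2, 6, 0, 5, 7, 0, 3, 1, 0, 0, 2, 1, 6, 4, 1, 7, 3, 1, 7, 5, 3, 6, 2]
def bw1332 : List ℕ := [3, 3, 7, 2, 4, 6, 0, 2, 6, 0, 5, 7, 0, 3, 1, 2, 0, 2, 1, 6, 4, 1, 7, 3, 1, 7, 5, 3, 6, 2]
def bw1333 : List ℕ := [5, 3, 7, 2, 4, 6, 0, 2, 6, 0, 5, 7, 0, 3, 1, 4, 0, 2, 1, 6, 4, 1, 7, 3, 1, 7, 5, 3, 6, 2]
def bw1334 : List ℕ := [7, 3, 7, 2, 4, 6, 0, 2, 6, 0, 5, 7, 0, 3, 1, 6, 0, 2, 1, 6, 4, 1, 7, 3, 1, 7, 5, 3, 6, 2]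
def bw1335 : List ℕ := [1, 7, 7, 2, 0, 6, 6, 4, 3, 4, 4, 0, 3, 3, 1, 0, 0, 2, 2, 1, 5, 5, 2, 5, 7, 7, 1, 3, 6, 6]
def bw1336 : List ℕ := [3, 7, 7, 2, 0, 6, 6, 4, 3, 4, 4, 0, 3, 3, 1, 2, 0, 2, 2, 1, 5, 5, 2, 5, 7, 7, 1, 3, 6, 6]
def bw1337 : List ℕ := [5, 7, 7, 2, 0, 6, 6, 4, 3, 4, 4, 0, 3, 3, 1, 4, 0, 2, 2, 1, 5, 5, 2, 5, 7, 7, 1, 3, 6, 6]
def bw1338 : List ℕ := [7, 7, 7, 2, 0, 6, 6, 4, 3, 4, 4, 0, 3, 3, 1, 6, 0, 2, 2, 1, 5, 5, 2, 5, 7, 7, 1, 3, 6, 6]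
def bw1339 : List ℕ := [1, 6, 3, 3, 4, 2, 2, 4, 2, 0, 5, 5, 7, 3, 1, 0, 0, 2, 6, 4, 4, 1, 3, 5, 3, 3, 5, 2, 2, 7]
def bw1340 : List ℕ := [3, 6, 3, 3, 4, 2, 2, 4, 2, 0, 5, 5, 7, 3, 1, 2, 0, 2, 6, 4, 4, 1, 3, 5, 3, 3, 5, 2, 2, 7]
def bw1341 : List ℕ := [5, 6, 3, 3, 4, 2, 2, 4, 2, 0, 5, 5, 7, 3, 1, 4, 0, 2, 6, 4, 4, 1, 3, 5, 3, 3, 5, 2, 2, 7]
def bw1342 : List ℕ := [7, 6, 3, 3, 4, 2, 2, 4, 2, 0, 5, 5, 7, 3, 1, 6, 0, 2, 6, 4, 4, 1, 3, 5, 3, 3, 5, 2, 2, 7]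
def bw1343 : List ℕ := [1, 4, 1, 3, 5, 6, 0, 2, 2, 2, 7, 3, 1, 3, 1, 0, 0, 2, 0, 2, 6, 3, 3, 3, 1, 7, 4, 2, 0, 5]
def bw1344 : List ℕ := [3, 4, 1, 3, 5, 6, 0, 2, 2, 2, 7, 3, 1, 3, 1, 2, 0, 2, 0, 2, 6, 3, 3, 3, 1, 7, 4, 2, 0, 5]
def bw1345 : List ℕ := [5, 4, 1, 3, 5, 6, 0, 2, 2, 2, 7, 3, 1, 3, 1, 4, 0, 2, 0, 2, 6, 3, 3, 3, 1, 7, 4, 2, 0, 5]
def bw1346 : List ℕ := [7, 4, 1, 3, 5, 6, 0, 2, 2, 2, 7, 3, 1, 3, 1, 6, 0, 2, 0, 2, 6, 3, 3, 3, 1, 7, 4, 2, 0, 5]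
def bw1347 : List ℕ := [1, 3, 4, 2, 2, 7, 0, 2, 6, 3, 3, 5, 0, 3, 1, 0, 0, 2, 1, 4, 2, 2, 7, 3, 1, 6, 3, 3, 5, 2]
def bw1348 : List ℕ := [3, 3, 4, 2, 2, 7, 0, 2, 6, 3, 3, 5, 0, 3, 1, 2, 0, 2, 1, 4, 2, 2, 7, 3, 1, 6, 3, 3, 5, 2]
def bw1349 : List ℕ := [5, 3, 4, 2, 2, 7, 0, 2, 6, 3, 3, 5, 0, 3, 1, 4, 0, 2, 1, 4, 2, 2, 7, 3, 1, 6, 3, 3, 5, 2]
def bw1350 : List ℕ := [7, 3, 4, 2, 2, 7, 0, 2, 6, 3, 3, 5, 0, 3, 1, 6, 0, 2, 1, 4, 2, 2, 7, 3, 1, 6, 3, 3, 5, 2]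
def bw1351 : List ℕ := [1, 3, 7, 2, 7, 2, 0, 4, 0, 6, 3, 6, 5, 3, 1, 0, 0, 2, 4, 7, 2, 7, 1, 5, 1, 3, 6, 3, 6, 2]
def bw1352 : List ℕ := [3, 3, 7, 2, 7, 2, 0, 4, 0, 6, 3, 6, 5, 3, 1, 2, 0, 2, 4, 7, 2, 7, 1, 5, 1, 3, 6, 3, 6, 2]
def bw1353 : List ℕ := [5, 3, 7, 2, 7, 2, 0, 4, 0, 6, 3, 6, 5, 3, 1, 4, 0, 2, 4, 7, 2, 7, 1, 5, 1, 3, 6, 3, 6, 2]
def bw1354 : List ℕ := [7, 3, 7, 2, 7, 2, 0, 4, 0, 6, 3, 6, 5, 3, 1, 6, 0, 2, 4, 7, 2, 7, 1, 5, 1, 3, 6, 3, 6, 2]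
def bw1355 : List ℕ := [1, 3, 4, 0, 6, 3, 6, 5, 1, 3, 6, 3, 6, 3, 1, 0, 0, 2, 7, 2, 7, 2, 0, 4, 7, 2, 7, 1, 5, 2]
def bw1356 : List ℕ := [3, 3, 4, 0, 6, 3, 6, 5, 1, 3, 6, 3, 6, 3, 1, 2, 0, 2, 7, 2, 7, 2, 0, 4, 7, 2, 7, 1, 5, 2]
def bw1357 : List ℕ := [5, 3, 4, 0, 6, 3, 6, 5, 1, 3, 6, 3, 6, 3, 1, 4, 0, 2, 7, 2, 7, 2, 0, 4, 7, 2, 7, 1, 5, 2]
def bw1358 : List ℕ := [7, 3, 4, 0, 6, 3, 6, 5, 1, 3, 6, 3, 6, 3, 1, 6, 0, 2, 7, 2, 7, 2, 0, 4, 7, 2, 7, 1, 5, 2]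
def bw1359 : List ℕ := [1, 6, 2, 4, 0, 5, 2, 1, 4, 4, 4, 4, 7, 3, 1, 0, 0, 2, 6, 5, 5, 5, 5, 0, 3, 4, 1, 5, 3, 7]
def bw1360 : List ℕ := [3, 6, 2, 4, 0, 5, 2, 1, 4, 4, 4, 4, 7, 3, 1, 2, 0, 2, 6, 5, 5, 5, 5, 0, 3, 4, 1, 5, 3, 7]
def bw1361 : List ℕ := [5, 6, 2, 4, 0, 5, 2, 1, 4, 4, 4, 4, 7, 3, 1, 4, 0, 2, 6, 5, 5, 5, 5, 0, 3, 4, 1, 5, 3, 7]
def bw1362 : List ℕ := [7, 6, 2, 4, 0, 5, 2, 1, 4, 4, 4, 4, 7, 3, 1, 6, 0, 2, 6, 5, 5, 5, 5, 0, 3, 4, 1, 5, 3, 7]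
def bw1363 : List ℕ := [1, 7, 7, 2, 0, 6, 6, 5, 1, 2, 0, 4, 0, 3, 1, 0, 0, 2, 1, 5, 1, 3, 0, 4, 7, 7, 1, 3, 6, 6]
def bw1364 : List ℕ := [3, 7, 7, 2, 0, 6, 6, 5, 1, 2, 0, 4, 0, 3, 1, 2, 0, 2, 1, 5, 1, 3, 0, 4, 7, 7, 1, 3, 6, 6]
def bw1365 : List ℕ := [5, 7, 7, 2, 0, 6, 6, 5, 1, 2, 0, 4, 0, 3, 1, 4, 0, 2, 1, 5, 1, 3, 0, 4, 7, 7, 1, 3, 6, 6]
def bw1366 : List ℕ := [7, 7, 7, 2, 0, 6, 6, 5, 1, 2, 0, 4, 0, 3, 1, 6, 0, 2, 1, 5, 1, 3, 0, 4, 7, 7, 1, 3, 6, 6]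
def bw1367 : List ℕ := [1, 3, 5, 0, 2, 4, 0, 3, 7, 0, 2, 6, 2, 1, 1, 0, 0, 0, 3, 7, 3, 1, 6, 2, 1, 5, 3, 1, 4, 2]
def bw1368 : List ℕ := [3, 3, 5, 0, 2, 4, 0, 3, 7, 0, 2, 6, 2, 1, 1, 2, 0, 0, 3, 7, 3, 1, 6, 2, 1, 5, 3, 1, 4, 2]
def bw1369 : List ℕ := [5, 3, 5, 0, 2, 4, 0, 3, 7, 0, 2, 6, 2, 1, 1, 4, 0, 0, 3, 7, 3, 1, 6, 2, 1, 5, 3, 1, 4, 2]
def bw1370 : List ℕ := [7, 3, 5, 0, 2, 4, 0, 3, 7, 0, 2, 6, 2, 1, 1, 6, 0, 0, 3, 7, 3, 1, 6, 2, 1, 5, 3, 1, 4, 2]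
def bw1371 : List ℕ := [1, 5, 2, 7, 2, 7, 4, 3, 4, 0, 6, 3, 6, 5, 1, 0, 0, 4, 7, 2, 7, 1, 5, 2, 5, 6, 3, 6, 3, 4]
def bw1372 : List ℕ := [3, 5, 2, 7, 2, 7, 4, 3, 4, 0, 6, 3, 6, 5, 1, 2, 0, 4, 7, 2, 7, 1, 5, 2, 5, 6, 3, 6, 3, 4]
def bw1373 : List ℕ := [5, 5, 2, 7, 2, 7, 4, 3, 4, 0, 6, 3, 6, 5, 1, 4, 0, 4, 7, 2, 7, 1, 5, 2, 5, 6, 3, 6, 3, 4]
def bw1374 : List ℕ := [7, 5, 2, 7, 2, 7, 4, 3, 4, 0, 6, 3, 6, 5, 1, 6, 0, 4, 7, 2, 7, 1, 5, 2, 5, 6, 3, 6, 3, 4]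
def bw1375 : List ℕ := [1, 6, 3, 3, 3, 5, 3, 4, 1, 4, 2, 5, 7, 3, 1, 0, 0, 2, 6, 4, 3, 5, 0, 5, 2, 4, 2, 2, 2, 7]
def bw1376 : List ℕ := [3, 6, 3, 3, 3, 5, 3, 4, 1, 4, 2, 5, 7, 3, 1, 2, 0, 2, 6, 4, 3, 5, 0, 5, 2, 4, 2, 2, 2, 7]
def bw1377 : List ℕ := [5, 6, 3, 3, 3, 5, 3, 4, 1, 4, 2, 5, 7, 3, 1, 4, 0, 2, 6, 4, 3, 5, 0, 5, 2, 4, 2, 2, 2, 7]
def bw1378 : List ℕ := [7, 6, 3, 3, 3, 5, 3, 4, 1, 4, 2, 5, 7, 3, 1, 6, 0, 2, 6, 4, 3, 5, 0, 5, 2, 4, 2, 2, 2, 7]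
def bw1379 : List ℕ := [1, 4, 0, 4, 7, 4, 6, 3, 5, 0, 6, 6, 3, 3, 1, 0, 0, 2, 2, 7, 7, 1, 4, 2, 7, 5, 6, 5, 1, 5]
def bw1380 : List ℕ := [3, 4, 0, 4, 7, 4, 6, 3, 5, 0, 6, 6, 3, 3, 1, 2, 0, 2, 2, 7, 7, 1, 4, 2, 7, 5, 6, 5, 1, 5]
def bw1381 : List ℕ := [5, 4, 0, 4, 7, 4, 6, 3, 5, 0, 6, 6, 3, 3, 1, 4, 0, 2, 2, 7, 7, 1, 4, 2, 7, 5, 6, 5, 1, 5]
def bw1382 : List ℕ := [7, 4, 0, 4, 7, 4, 6, 3, 5, 0, 6, 6, 3, 3, 1, 6, 0, 2, 2, 7, 7, 1, 4, 2, 7, 5, 6, 5, 1, 5]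
def bw1383 : List ℕ := [1, 3, 1, 5, 3, 1, 6, 0, 2, 1, 2, 7, 4, 1, 1, 0, 0, 0, 5, 6, 3, 0, 3, 1, 7, 0, 2, 4, 0, 2]
def bw1384 : List ℕ := [3, 3, 1, 5, 3, 1, 6, 0, 2, 1, 2, 7, 4, 1, 1, 2, 0, 0, 5, 6, 3, 0, 3, 1, 7, 0, 2, 4, 0, 2]
def bw1385 : List ℕ := [5, 3, 1, 5, 3, 1, 6, 0, 2, 1, 2, 7, 4, 1, 1, 4, 0, 0, 5, 6, 3, 0, 3, 1, 7, 0, 2, 4, 0, 2]
def bw1386 : List ℕ := [7, 3, 1, 5, 3, 1, 6, 0, 2, 1, 2, 7, 4, 1, 1, 6, 0, 0, 5, 6, 3, 0, 3, 1, 7, 0, 2, 4, 0, 2]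
def bw1387 : List ℕ := [1, 7, 2, 7, 2, 5, 2, 7, 2, 7, 4, 3, 1, 3, 1, 0, 0, 2, 0, 2, 5, 6, 3, 6, 3, 4, 3, 6, 3, 6]
def bw1388 : List ℕ := [3, 7, 2, 7, 2, 5, 2, 7, 2, 7, 4, 3, 1, 3, 1, 2, 0, 2, 0, 2, 5, 6, 3, 6, 3, 4, 3, 6, 3, 6]
def bw1389 : List ℕ := [5, 7, 2, 7, 2, 5, 2, 7, 2, 7, 4, 3, 1, 3, 1, 4, 0, 2, 0, 2, 5, 6, 3, 6, 3, 4, 3, 6, 3, 6]
def bw1390 : List ℕ := [7, 7, 2, 7, 2, 5, 2, 7, 2, 7, 4, 3, 1, 3, 1, 6, 0, 2, 0, 2, 5, 6, 3, 6, 3, 4, 3, 6, 3, 6]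
def bw1391 : List ℕ := [1, 2, 7, 3, 1, 6, 4, 2, 4, 1, 3, 0, 5, 3, 1, 0, 0, 2, 4, 1, 2, 0, 5, 3, 5, 7, 0, 2, 6, 3]
def bw1392 : List ℕ := [3, 2, 7, 3, 1, 6, 4, 2, 4, 1, 3, 0, 5, 3, 1, 2, 0, 2, 4, 1, 2, 0, 5, 3, 5, 7, 0, 2, 6, 3]
def bw1393 : List ℕ := [5, 2, 7, 3, 1, 6, 4, 2, 4, 1, 3, 0, 5, 3, 1, 4, 0, 2, 4, 1, 2, 0, 5, 3, 5, 7, 0, 2, 6, 3]
def bw1394 : List ℕ := [7, 2, 7, 3, 1, 6, 4, 2, 4, 1, 3, 0, 5, 3, 1, 6, 0, 2, 4, 1, 2, 0, 5, 3, 5, 7, 0, 2, 6, 3]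
def bw1395 : List ℕ := [1, 4, 1, 4, 7, 1, 3, 6, 3, 6, 6, 6, 5, 2, 1, 0, 0, 3, 4, 7, 7, 7, 2, 7, 2, 0, 6, 5, 0, 5]
def bw1396 : List ℕ := [3, 4, 1, 4, 7, 1, 3, 6, 3, 6, 6, 6, 5, 2, 1, 2, 0, 3, 4, 7, 7, 7, 2, 7, 2, 0, 6, 5, 0, 5]
def bw1397 : List ℕ := [5, 4, 1, 4, 7, 1, 3, 6, 3, 6, 6, 6, 5, 2, 1, 4, 0, 3, 4, 7, 7, 7, 2, 7, 2, 0, 6, 5, 0, 5]
def bw1398 : List ℕ := [7, 4, 1, 4, 7, 1, 3, 6, 3, 6, 6, 6, 5, 2, 1, 6, 0, 3, 4, 7, 7, 7, 2, 7, 2, 0, 6, 5, 0, 5]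
def bw1399 : List ℕ := [1, 2, 7, 4, 2, 6, 1, 5, 3, 1, 5, 5, 0, 3, 1, 0, 0, 2, 1, 4, 4, 0, 2, 4, 0, 7, 3, 5, 6, 3]
def bw1400 : List ℕ := [3, 2, 7, 4, 2, 6, 1, 5, 3, 1, 5, 5, 0, 3, 1, 2, 0, 2, 1, 4, 4, 0, 2, 4, 0, 7, 3, 5, 6, 3]
def bw1401 : List ℕ := [5, 2, 7, 4, 2, 6, 1, 5, 3, 1, 5, 5, 0, 3, 1, 4, 0, 2, 1, 4, 4, 0, 2, 4, 0, 7, 3, 5, 6, 3]
def bw1402 : List ℕ := [7, 2, 7, 4, 2, 6, 1, 5, 3, 1, 5, 5, 0, 3, 1, 6, 0, 2, 1, 4, 4, 0, 2, 4, 0, 7, 3, 5, 6, 3]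
def bw1403 : List ℕ := [1, 2, 7, 0, 5, 0, 2, 4, 2, 4, 2, 6, 3, 3, 1, 0, 0, 2, 2, 7, 3, 5, 3, 5, 3, 1, 4, 1, 6, 3]
def bw1404 : List ℕ := [3, 2, 7, 0, 5, 0, 2, 4, 2, 4, 2, 6, 3, 3, 1, 2, 0, 2, 2, 7, 3, 5, 3, 5, 3, 1, 4, 1, 6, 3]
def bw1405 : List ℕ := [5, 2, 7, 0, 5, 0, 2, 4, 2, 4, 2, 6, 3, 3, 1, 4, 0, 2, 2, 7, 3, 5, 3, 5, 3, 1, 4, 1, 6, 3]
def bw1406 : List ℕ := [7, 2, 7, 0, 5, 0, 2, 4, 2, 4, 2, 6, 3, 3, 1, 6, 0, 2, 2, 7, 3, 5, 3, 5, 3, 1, 4, 1, 6, 3]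
def bw1407 : List ℕ := [1, 2, 7, 7, 4, 2, 4, 1, 6, 3, 0, 6, 3, 4, 1, 0, 0, 5, 2, 7, 1, 2, 7, 0, 5, 3, 5, 6, 6, 3]
def bw1408 : List ℕ := [3, 2, 7, 7, 4, 2, 4, 1, 6, 3, 0, 6, 3, 4, 1, 2, 0, 5, 2, 7, 1, 2, 7, 0, 5, 3, 5, 6, 6, 3]
def bw1409 : List ℕ := [5, 2, 7, 7, 4, 2, 4, 1, 6, 3, 0, 6, 3, 4, 1, 4, 0, 5, 2, 7, 1, 2, 7, 0, 5, 3, 5, 6, 6, 3]
def bw1410 : List ℕ := [7, 2, 7, 7, 4, 2, 4, 1, 6, 3, 0, 6, 3, 4, 1, 6, 0, 5, 2, 7, 1, 2, 7, 0, 5, 3, 5, 6, 6, 3]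
def bw1411 : List ℕ := [1, 7, 3, 1, 2, 7, 3, 5, 2, 7, 2, 7, 3, 3, 1, 0, 0, 2, 2, 6, 3, 6, 3, 4, 2, 6, 3, 0, 2, 6]
def bw1412 : List ℕ := [3, 7, 3, 1, 2, 7, 3, 5, 2, 7, 2, 7, 3, 3, 1, 2, 0, 2, 2, 6, 3, 6, 3, 4, 2, 6, 3, 0, 2, 6]
def bw1413 : List ℕ := [5, 7, 3, 1, 2, 7, 3, 5, 2, 7, 2, 7, 3, 3, 1, 4, 0, 2, 2, 6, 3, 6, 3, 4, 2, 6, 3, 0, 2, 6]
def bw1414 : List ℕ := [7, 7, 3, 1, 2, 7, 3, 5, 2, 7, 2, 7, 3, 3, 1, 6, 0, 2, 2, 6, 3, 6, 3, 4, 2, 6, 3, 0, 2, 6]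
def bw1415 : List ℕ := [1, 6, 3, 4, 2, 4, 2, 0, 5, 2, 7, 1, 3, 1, 1, 0, 0, 0, 2, 0, 6, 3, 4, 1, 3, 5, 3, 5, 2, 7]
def bw1416 : List ℕ := [3, 6, 3, 4, 2, 4, 2, 0, 5, 2, 7, 1, 3, 1, 1, 2, 0, 0, 2, 0, 6, 3, 4, 1, 3, 5, 3, 5, 2, 7]
def bw1417 : List ℕ := [5, 6, 3, 4, 2, 4, 2, 0, 5, 2, 7, 1, 3, 1, 1, 4, 0, 0, 2, 0, 6, 3, 4, 1, 3, 5, 3, 5, 2, 7]
def bw1418 : List ℕ := [7, 6, 3, 4, 2, 4, 2, 0, 5, 2, 7, 1, 3, 1, 1, 6, 0, 0, 2, 0, 6, 3, 4, 1, 3, 5, 3, 5, 2, 7]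
def bw1419 : List ℕ := [1, 4, 0, 6, 3, 6, 5, 1, 3, 6, 3, 6, 1, 3, 1, 0, 0, 2, 0, 7, 2, 7, 2, 0, 4, 7, 2, 7, 1, 5]
def bw1420 : List ℕ := [3, 4, 0, 6, 3, 6, 5, 1, 3, 6, 3, 6, 1, 3, 1, 2, 0, 2, 0, 7, 2, 7, 2, 0, 4, 7, 2, 7, 1, 5]
def bw1421 : List ℕ := [5, 4, 0, 6, 3, 6, 5, 1, 3, 6, 3, 6, 1, 3, 1, 4, 0, 2, 0, 7, 2, 7, 2, 0, 4, 7, 2, 7, 1, 5]
def bw1422 : List ℕ := [7, 4, 0, 6, 3, 6, 5, 1, 3, 6, 3, 6, 1, 3, 1, 6, 0, 2, 0, 7, 2, 7, 2, 0, 4, 7, 2, 7, 1, 5]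
def bw1423 : List ℕ := [1, 7, 5, 7, 1, 7, 2, 7, 2, 6, 4, 1, 7, 3, 1, 0, 0, 2, 6, 0, 5, 7, 3, 6, 3, 6, 0, 6, 4, 6]
def bw1424 : List ℕ := [3, 7, 5, 7, 1, 7, 2, 7, 2, 6, 4, 1, 7, 3, 1, 2, 0, 2, 6, 0, 5, 7, 3, 6, 3, 6, 0, 6, 4, 6]
def bw1425 : List ℕ := [5, 7, 5, 7, 1, 7, 2, 7, 2, 6, 4, 1, 7, 3, 1, 4, 0, 2, 6, 0, 5, 7, 3, 6, 3, 6, 0, 6, 4, 6]
def bw1426 : List ℕ := [7, 7, 5, 7, 1, 7, 2, 7, 2, 6, 4, 1, 7, 3, 1, 6, 0, 2, 6, 0, 5, 7, 3, 6, 3, 6, 0, 6, 4, 6]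
def bw1427 : List ℕ := [1, 7, 4, 2, 1, 3, 6, 3, 6, 1, 2, 7, 4, 3, 1, 0, 0, 2, 5, 6, 3, 0, 7, 2, 7, 2, 0, 3, 5, 6]
def bw1428 : List ℕ := [3, 7, 4, 2, 1, 3, 6, 3, 6, 1, 2, 7, 4, 3, 1, 2, 0, 2, 5, 6, 3, 0, 7, 2, 7, 2, 0, 3, 5, 6]
def bw1429 : List ℕ := [5, 7, 4, 2, 1, 3, 6, 3, 6, 1, 2, 7, 4, 3, 1, 4, 0, 2, 5, 6, 3, 0, 7, 2, 7, 2, 0, 3, 5, 6]
def bw1430 : List ℕ := [7, 7, 4, 2, 1, 3, 6, 3, 6, 1, 2, 7, 4, 3, 1, 6, 0, 2, 5, 6, 3, 0, 7, 2, 7, 2, 0, 3, 5, 6]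
def bw1431 : List ℕ := [1, 5, 6, 0, 2, 5, 6, 5, 6, 3, 6, 3, 4, 3, 1, 0, 0, 2, 5, 2, 7, 2, 7, 4, 7, 4, 3, 1, 7, 4]
def bw1432 : List ℕ := [3, 5, 6, 0, 2, 5, 6, 5, 6, 3, 6, 3, 4, 3, 1, 2, 0, 2, 5, 2, 7, 2, 7, 4, 7, 4, 3, 1, 7, 4]
def bw1433 : List ℕ := [5, 5, 6, 0, 2, 5, 6, 5, 6, 3, 6, 3, 4, 3, 1, 4, 0, 2, 5, 2, 7, 2, 7, 4, 7, 4, 3, 1, 7, 4]
def bw1434 : List ℕ := [7, 5, 6, 0, 2, 5, 6, 5, 6, 3, 6, 3, 4, 3, 1, 6, 0, 2, 5, 2, 7, 2, 7, 4, 7, 4, 3, 1, 7, 4]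
def bw1435 : List ℕ := [1, 7, 1, 7, 1, 7, 1, 7, 1, 3, 6, 0, 6, 3, 1, 0, 0, 2, 7, 1, 7, 2, 0, 6, 0, 6, 0, 6, 0, 6]
def bw1436 : List ℕ := [3, 7, 1, 7, 1, 7, 1, 7, 1, 3, 6, 0, 6, 3, 1, 2, 0, 2, 7, 1, 7, 2, 0, 6, 0, 6, 0, 6, 0, 6]
def bw1437 : List ℕ := [5, 7, 1, 7, 1, 7, 1, 7, 1, 3, 6, 0, 6, 3, 1, 4, 0, 2, 7, 1, 7, 2, 0, 6, 0, 6, 0, 6, 0, 6]
def bw1438 : List ℕ := [7, 7, 1, 7, 1, 7, 1, 7, 1, 3, 6, 0, 6, 3, 1, 6, 0, 2, 7, 1, 7, 2, 0, 6, 0, 6, 0, 6, 0, 6]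
def bw1439 : List ℕ := [1, 3, 3, 0, 7, 2, 7, 1, 2, 0, 7, 2, 7, 3, 1, 0, 0, 2, 6, 3, 6, 1, 3, 0, 6, 3, 6, 1, 2, 2]
def bw1440 : List ℕ := [3, 3, 3, 0, 7, 2, 7, 1, 2, 0, 7, 2, 7, 3, 1, 2, 0, 2, 6, 3, 6, 1, 3, 0, 6, 3, 6, 1, 2, 2]
def bw1441 : List ℕ := [5, 3, 3, 0, 7, 2, 7, 1, 2, 0, 7, 2, 7, 3, 1, 4, 0, 2, 6, 3, 6, 1, 3, 0, 6, 3, 6, 1, 2, 2]
def bw1442 : List ℕ := [7, 3, 3, 0, 7, 2, 7, 1, 2, 0, 7, 2, 7, 3, 1, 6, 0, 2, 6, 3, 6, 1, 3, 0, 6, 3, 6, 1, 2, 2]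
def bw1443 : List ℕ := [1, 6, 2, 0, 7, 3, 1, 6, 1, 3, 7, 3, 1, 3, 1, 0, 0, 2, 0, 2, 6, 2, 0, 7, 0, 2, 6, 1, 3, 7]
def bw1444 : List ℕ := [3, 6, 2, 0, 7, 3, 1, 6, 1, 3, 7, 3, 1, 3, 1, 2, 0, 2, 0, 2, 6, 2, 0, 7, 0, 2, 6, 1, 3, 7]
def bw1445 : List ℕ := [5, 6, 2, 0, 7, 3, 1, 6, 1, 3, 7, 3, 1, 3, 1, 4, 0, 2, 0, 2, 6, 2, 0, 7, 0, 2, 6, 1, 3, 7]
def bw1446 : List ℕ := [7, 6, 2, 0, 7, 3, 1, 6, 1, 3, 7, 3, 1, 3, 1, 6, 0, 2, 0, 2, 6, 2, 0, 7, 0, 2, 6, 1, 3, 7]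
def bw1447 : List ℕ := [1, 6, 1, 3, 7, 3, 1, 6, 2, 0, 7, 3, 1, 3, 1, 0, 0, 2, 0, 2, 6, 1, 3, 7, 0, 2, 6, 2, 0, 7]
def bw1448 : List ℕ := [3, 6, 1, 3, 7, 3, 1, 6, 2, 0, 7, 3, 1, 3, 1, 2, 0, 2, 0, 2, 6, 1, 3, 7, 0, 2, 6, 2, 0, 7]
def bw1449 : List ℕ := [5, 6, 1, 3, 7, 3, 1, 6, 2, 0, 7, 3, 1, 3, 1, 4, 0, 2, 0, 2, 6, 1, 3, 7, 0, 2, 6, 2, 0, 7]
def bw1450 : List ℕ := [7, 6, 1, 3, 7, 3, 1, 6, 2, 0, 7, 3, 1, 3, 1, 6, 0, 2, 0, 2, 6, 1, 3, 7, 0, 2, 6, 2, 0, 7]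
def bw1451 : List ℕ := [1, 3, 0, 6, 3, 6, 5, 6, 0, 2, 5, 6, 3, 3, 1, 0, 0, 2, 2, 7, 4, 3, 1, 7, 4, 7, 2, 7, 1, 2]
def bw1452 : List ℕ := [3, 3, 0, 6, 3, 6, 5, 6, 0, 2, 5, 6, 3, 3, 1, 2, 0, 2, 2, 7, 4, 3, 1, 7, 4, 7, 2, 7, 1, 2]
def bw1453 : List ℕ := [5, 3, 0, 6, 3, 6, 5, 6, 0, 2, 5, 6, 3, 3, 1, 4, 0, 2, 2, 7, 4, 3, 1, 7, 4, 7, 2, 7, 1, 2]
def bw1454 : List ℕ := [7, 3, 0, 6, 3, 6, 5, 6, 0, 2, 5, 6, 3, 3, 1, 6, 0, 2, 2, 7, 4, 3, 1, 7, 4, 7, 2, 7, 1, 2]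
def bw1455 : List ℕ := [1, 5, 0, 5, 6, 3, 0, 3, 1, 7, 3, 5, 1, 3, 1, 0, 0, 2, 0, 4, 2, 6, 0, 2, 1, 2, 7, 4, 1, 4]
def bw1456 : List ℕ := [3, 5, 0, 5, 6, 3, 0, 3, 1, 7, 3, 5, 1, 3, 1, 2, 0, 2, 0, 4, 2, 6, 0, 2, 1, 2, 7, 4, 1, 4]
def bw1457 : List ℕ := [5, 5, 0, 5, 6, 3, 0, 3, 1, 7, 3, 5, 1, 3, 1, 4, 0, 2, 0, 4, 2, 6, 0, 2, 1, 2, 7, 4, 1, 4]
def bw1458 : List ℕ := [7, 5, 0, 5, 6, 3, 0, 3, 1, 7, 3, 5, 1, 3, 1, 6, 0, 2, 0, 4, 2, 6, 0, 2, 1, 2, 7, 4, 1, 4]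
def bw1459 : List ℕ := [1, 3, 1, 7, 2, 7, 2, 0, 0, 7, 2, 7, 1, 1, 1, 0, 0, 0, 0, 6, 3, 6, 1, 1, 3, 6, 3, 6, 0, 2]
def bw1460 : List ℕ := [3, 3, 1, 7, 2, 7, 2, 0, 0, 7, 2, 7, 1, 1, 1, 2, 0, 0, 0, 6, 3, 6, 1, 1, 3, 6, 3, 6, 0, 2]
def bw1461 : List ℕ := [5, 3, 1, 7, 2, 7, 2, 0, 0, 7, 2, 7, 1, 1, 1, 4, 0, 0, 0, 6, 3, 6, 1, 1, 3, 6, 3, 6, 0, 2]
def bw1462 : List ℕ := [7, 3, 1, 7, 2, 7, 2, 0, 0, 7, 2, 7, 1, 1, 1, 6, 0, 0, 0, 6, 3, 6, 1, 1, 3, 6, 3, 6, 0, 2]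
def bw1463 : List ℕ := [1, 6, 3, 6, 2, 0, 7, 2, 7, 1, 2, 2, 1, 3, 1, 0, 0, 2, 0, 3, 3, 0, 6, 3, 6, 1, 3, 7, 2, 7]
def bw1464 : List ℕ := [3, 6, 3, 6, 2, 0, 7, 2, 7, 1, 2, 2, 1, 3, 1, 2, 0, 2, 0, 3, 3, 0, 6, 3, 6, 1, 3, 7, 2, 7]
def bw1465 : List ℕ := [5, 6, 3, 6, 2, 0, 7, 2, 7, 1, 2, 2, 1, 3, 1, 4, 0, 2, 0, 3, 3, 0, 6, 3, 6, 1, 3, 7, 2, 7]
def bw1466 : List ℕ := [7, 6, 3, 6, 2, 0, 7, 2, 7, 1, 2, 2, 1, 3, 1, 6, 0, 2, 0, 3, 3, 0, 6, 3, 6, 1, 3, 7, 2, 7]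
def bw1467 : List ℕ := [1, 4, 2, 7, 2, 7, 2, 4, 2, 7, 2, 7, 5, 3, 1, 0, 0, 2, 4, 6, 3, 6, 3, 5, 3, 6, 3, 6, 3, 5]
def bw1468 : List ℕ := [3, 4, 2, 7, 2, 7, 2, 4, 2, 7, 2, 7, 5, 3, 1, 2, 0, 2, 4, 6, 3, 6, 3, 5, 3, 6, 3, 6, 3, 5]
def bw1469 : List ℕ := [5, 4, 2, 7, 2, 7, 2, 4, 2, 7, 2, 7, 5, 3, 1, 4, 0, 2, 4, 6, 3, 6, 3, 5, 3, 6, 3, 6, 3, 5]
def bw1470 : List ℕ := [7, 4, 2, 7, 2, 7, 2, 4, 2, 7, 2, 7, 5, 3, 1, 6, 0, 2, 4, 6, 3, 6, 3, 5, 3, 6, 3, 6, 3, 5]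
def bw1471 : List ℕ := [1, 5, 2, 6, 3, 3, 4, 1, 2, 7, 3, 6, 1, 5, 1, 0, 0, 4, 0, 7, 2, 6, 3, 0, 5, 2, 2, 7, 3, 4]
def bw1472 : List ℕ := [3, 5, 2, 6, 3, 3, 4, 1, 2, 7, 3, 6, 1, 5, 1, 2, 0, 4, 0, 7, 2, 6, 3, 0, 5, 2, 2, 7, 3, 4]
def bw1473 : List ℕ := [5, 5, 2, 6, 3, 3, 4, 1, 2, 7, 3, 6, 1, 5, 1, 4, 0, 4, 0, 7, 2, 6, 3, 0, 5, 2, 2, 7, 3, 4]
def bw1474 : List ℕ := [7, 5, 2, 6, 3, 3, 4, 1, 2, 7, 3, 6, 1, 5, 1, 6, 0, 4, 0, 7, 2, 6, 3, 0, 5, 2, 2, 7, 3, 4]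
def bw1475 : List ℕ := [1, 4, 6, 3, 7, 5, 6, 0, 4, 4, 4, 1, 5, 5, 1, 0, 0, 4, 4, 0, 5, 5, 5, 1, 7, 4, 6, 2, 7, 5]
def bw1476 : List ℕ := [3, 4, 6, 3, 7, 5, 6, 0, 4, 4, 4, 1, 5, 5, 1, 2, 0, 4, 4, 0, 5, 5, 5, 1, 7, 4, 6, 2, 7, 5]
def bw1477 : List ℕ := [5, 4, 6, 3, 7, 5, 6, 0, 4, 4, 4, 1, 5, 5, 1, 4, 0, 4, 4, 0, 5, 5, 5, 1, 7, 4, 6, 2, 7, 5]
def bw1478 : List ℕ := [7, 4, 6, 3, 7, 5, 6, 0, 4, 4, 4, 1, 5, 5, 1, 6, 0, 4, 4, 0, 5, 5, 5, 1, 7, 4, 6, 2, 7, 5]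
def bw1479 : List ℕ := [1, 3, 6, 3, 4, 1, 4, 3, 5, 3, 5, 7, 0, 3, 1, 0, 0, 2, 1, 6, 4, 2, 4, 2, 5, 0, 5, 2, 7, 2]
def bw1480 : List ℕ := [3, 3, 6, 3, 4, 1, 4, 3, 5, 3, 5, 7, 0, 3, 1, 2, 0, 2, 1, 6, 4, 2, 4, 2, 5, 0, 5, 2, 7, 2]
def bw1481 : List ℕ := [5, 3, 6, 3, 4, 1, 4, 3, 5, 3, 5, 7, 0, 3, 1, 4, 0, 2, 1, 6, 4, 2, 4, 2, 5, 0, 5, 2, 7, 2]
def bw1482 : List ℕ := [7, 3, 6, 3, 4, 1, 4, 3, 5, 3, 5, 7, 0, 3, 1, 6, 0, 2, 1, 6, 4, 2, 4, 2, 5, 0, 5, 2, 7, 2]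
def bw1483 : List ℕ := [1, 3, 7, 2, 5, 1, 3, 6, 5, 1, 7, 1, 5, 3, 1, 0, 0, 2, 4, 0, 6, 0, 4, 7, 2, 0, 4, 3, 6, 2]
def bw1484 : List ℕ := [3, 3, 7, 2, 5, 1, 3, 6, 5, 1, 7, 1, 5, 3, 1, 2, 0, 2, 4, 0, 6, 0, 4, 7, 2, 0, 4, 3, 6, 2]
def bw1485 : List ℕ := [5, 3, 7, 2, 5, 1, 3, 6, 5, 1, 7, 1, 5, 3, 1, 4, 0, 2, 4, 0, 6, 0, 4, 7, 2, 0, 4, 3, 6, 2]
def bw1486 : List ℕ := [7, 3, 7, 2, 5, 1, 3, 6, 5, 1, 7, 1, 5, 3, 1, 6, 0, 2, 4, 0, 6, 0, 4, 7, 2, 0, 4, 3, 6, 2]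
def bw1487 : List ℕ := [1, 4, 1, 7, 3, 7, 5, 1, 4, 1, 7, 3, 7, 5, 1, 0, 0, 4, 6, 2, 6, 0, 5, 0, 4, 6, 2, 6, 0, 5]
def bw1488 : List ℕ := [3, 4, 1, 7, 3, 7, 5, 1, 4, 1, 7, 3, 7, 5, 1, 2, 0, 4, 6, 2, 6, 0, 5, 0, 4, 6, 2, 6, 0, 5]
def bw1489 : List ℕ := [5, 4, 1, 7, 3, 7, 5, 1, 4, 1, 7, 3, 7, 5, 1, 4, 0, 4, 6, 2, 6, 0, 5, 0, 4, 6, 2, 6, 0, 5]
def bw1490 : List ℕ := [7, 4, 1, 7, 3, 7, 5, 1, 4, 1, 7, 3, 7, 5, 1, 6, 0, 4, 6, 2, 6, 0, 5, 0, 4, 6, 2, 6, 0, 5]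
def bw1491 : List ℕ := [1, 7, 2, 7, 2, 0, 2, 5, 6, 3, 6, 3, 4, 3, 1, 0, 0, 2, 5, 2, 7, 2, 7, 4, 3, 1, 3, 6, 3, 6]
def bw1492 : List ℕ := [3, 7, 2, 7, 2, 0, 2, 5, 6, 3, 6, 3, 4, 3, 1, 2, 0, 2, 5, 2, 7, 2, 7, 4, 3, 1, 3, 6, 3, 6]
def bw1493 : List ℕ := [5, 7, 2, 7, 2, 0, 2, 5, 6, 3, 6, 3, 4, 3, 1, 4, 0, 2, 5, 2, 7, 2, 7, 4, 3, 1, 3, 6, 3, 6]
def bw1494 : List ℕ := [7, 7, 2, 7, 2, 0, 2, 5, 6, 3, 6, 3, 4, 3, 1, 6, 0, 2, 5, 2, 7, 2, 7, 4, 3, 1, 3, 6, 3, 6]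
def bw1495 : List ℕ := [1, 4, 7, 2, 7, 1, 5, 3, 7, 2, 7, 2, 0, 3, 1, 0, 0, 2, 1, 3, 6, 3, 6, 2, 4, 0, 6, 3, 6, 5]
def bw1496 : List ℕ := [3, 4, 7, 2, 7, 1, 5, 3, 7, 2, 7, 2, 0, 3, 1, 2, 0, 2, 1, 3, 6, 3, 6, 2, 4, 0, 6, 3, 6, 5]
def bw1497 : List ℕ := [5, 4, 7, 2, 7, 1, 5, 3, 7, 2, 7, 2, 0, 3, 1, 4, 0, 2, 1, 3, 6, 3, 6, 2, 4, 0, 6, 3, 6, 5]
def bw1498 : List ℕ := [7, 4, 7, 2, 7, 1, 5, 3, 7, 2, 7, 2, 0, 3, 1, 6, 0, 2, 1, 3, 6, 3, 6, 2, 4, 0, 6, 3, 6, 5]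
def bw1499 : List ℕ := [1, 3, 3, 5, 6, 5, 2, 5, 5, 2, 7, 5, 2, 5, 1, 0, 0, 4, 3, 4, 6, 3, 4, 4, 3, 4, 7, 4, 2, 2]
def bw1500 : List ℕ := [3, 3, 3, 5, 6, 5, 2, 5, 5, 2, 7, 5, 2, 5, 1, 2, 0, 4, 3, 4, 6, 3, 4, 4, 3, 4, 7, 4, 2, 2]
def bw1501 : List ℕ := [5, 3, 3, 5, 6, 5, 2, 5, 5, 2, 7, 5, 2, 5, 1, 4, 0, 4, 3, 4, 6, 3, 4, 4, 3, 4, 7, 4, 2, 2]
def bw1502 : List ℕ := [7, 3, 3, 5, 6, 5, 2, 5, 5, 2, 7, 5, 2, 5, 1, 6, 0, 4, 3, 4, 6, 3, 4, 4, 3, 4, 7, 4, 2, 2]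
def bw1503 : List ℕ := [1, 5, 6, 5, 1, 3, 4, 3, 1, 5, 1, 7, 1, 3, 1, 0, 0, 2, 0, 6, 0, 4, 0, 2, 5, 2, 0, 4, 7, 4]
def bw1504 : List ℕ := [3, 5, 6, 5, 1, 3, 4, 3, 1, 5, 1, 7, 1, 3, 1, 2, 0, 2, 0, 6, 0, 4, 0, 2, 5, 2, 0, 4, 7, 4]
def bw1505 : List ℕ := [5, 5, 6, 5, 1, 3, 4, 3, 1, 5, 1, 7, 1, 3, 1, 4, 0, 2, 0, 6, 0, 4, 0, 2, 5, 2, 0, 4, 7, 4]
def bw1506 : List ℕ := [7, 5, 6, 5, 1, 3, 4, 3, 1, 5, 1, 7, 1, 3, 1, 6, 0, 2, 0, 6, 0, 4, 0, 2, 5, 2, 0, 4, 7, 4]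
def bw1507 : List ℕ := [1, 3, 4, 6, 3, 6, 4, 2, 0, 5, 7, 2, 7, 3, 1, 0, 0, 2, 6, 3, 6, 4, 1, 3, 5, 7, 2, 7, 5, 2]
def bw1508 : List ℕ := [3, 3, 4, 6, 3, 6, 4, 2, 0, 5, 7, 2, 7, 3, 1, 2, 0, 2, 6, 3, 6, 4, 1, 3, 5, 7, 2, 7, 5, 2]
def bw1509 : List ℕ := [5, 3, 4, 6, 3, 6, 4, 2, 0, 5, 7, 2, 7, 3, 1, 4, 0, 2, 6, 3, 6, 4, 1, 3, 5, 7, 2, 7, 5, 2]
def bw1510 : List ℕ := [7, 3, 4, 6, 3, 6, 4, 2, 0, 5, 7, 2, 7, 3, 1, 6, 0, 2, 6, 3, 6, 4, 1, 3, 5, 7, 2, 7, 5, 2]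
def bw1511 : List ℕ := [1, 4, 2, 4, 6, 3, 6, 0, 6, 3, 6, 4, 2, 4, 1, 0, 0, 5, 3, 5, 7, 2, 7, 1, 7, 2, 7, 5, 3, 5]
def bw1512 : List ℕ := [3, 4, 2, 4, 6, 3, 6, 0, 6, 3, 6, 4, 2, 4, 1, 2, 0, 5, 3, 5, 7, 2, 7, 1, 7, 2, 7, 5, 3, 5]
def bw1513 : List ℕ := [5, 4, 2, 4, 6, 3, 6, 0, 6, 3, 6, 4, 2, 4, 1, 4, 0, 5, 3, 5, 7, 2, 7, 1, 7, 2, 7, 5, 3, 5]
def bw1514 : List ℕ := [7, 4, 2, 4, 6, 3, 6, 0, 6, 3, 6, 4, 2, 4, 1, 6, 0, 5, 3, 5, 7, 2, 7, 1, 7, 2, 7, 5, 3, 5]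
def bw1515 : List ℕ := [1, 4, 1, 1, 7, 7, 1, 2, 7, 5, 2, 5, 1, 1, 1, 0, 0, 0, 0, 4, 3, 4, 6, 3, 0, 6, 6, 0, 0, 5]
def bw1516 : List ℕ := [3, 4, 1, 1, 7, 7, 1, 2, 7, 5, 2, 5, 1, 1, 1, 2, 0, 0, 0, 4, 3, 4, 6, 3, 0, 6, 6, 0, 0, 5]
def bw1517 : List ℕ := [5, 4, 1, 1, 7, 7, 1, 2, 7, 5, 2, 5, 1, 1, 1, 4, 0, 0, 0, 4, 3, 4, 6, 3, 0, 6, 6, 0, 0, 5]
def bw1518 : List ℕ := [7, 4, 1, 1, 7, 7, 1, 2, 7, 5, 2, 5, 1, 1, 1, 6, 0, 0, 0, 4, 3, 4, 6, 3, 0, 6, 6, 0, 0, 5]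
def bw1519 : List ℕ := [1, 3, 7, 4, 7, 2, 7, 2, 0, 2, 7, 4, 0, 3, 1, 0, 0, 2, 1, 5, 6, 3, 1, 3, 6, 3, 6, 5, 6, 2]
def bw1520 : List ℕ := [3, 3, 7, 4, 7, 2, 7, 2, 0, 2, 7, 4, 0, 3, 1, 2, 0, 2, 1, 5, 6, 3, 1, 3, 6, 3, 6, 5, 6, 2]
def bw1521 : List ℕ := [5, 3, 7, 4, 7, 2, 7, 2, 0, 2, 7, 4, 0, 3, 1, 4, 0, 2, 1, 5, 6, 3, 1, 3, 6, 3, 6, 5, 6, 2]
def bw1522 : List ℕ := [7, 3, 7, 4, 7, 2, 7, 2, 0, 2, 7, 4, 0, 3, 1, 6, 0, 2, 1, 5, 6, 3, 1, 3, 6, 3, 6, 5, 6, 2]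
def bw1523 : List ℕ := [1, 4, 1, 2, 2, 0, 7, 3, 1, 6, 2, 1, 5, 3, 1, 0, 0, 2, 4, 0, 3, 7, 0, 2, 6, 1, 3, 3, 0, 5]
def bw1524 : List ℕ := [3, 4, 1, 2, 2, 0, 7, 3, 1, 6, 2, 1, 5, 3, 1, 2, 0, 2, 4, 0, 3, 7, 0, 2, 6, 1, 3, 3, 0, 5]
def bw1525 : List ℕ := [5, 4, 1, 2, 2, 0, 7, 3, 1, 6, 2, 1, 5, 3, 1, 4, 0, 2, 4, 0, 3, 7, 0, 2, 6, 1, 3, 3, 0, 5]
def bw1526 : List ℕ := [7, 4, 1, 2, 2, 0, 7, 3, 1, 6, 2, 1, 5, 3, 1, 6, 0, 2, 4, 0, 3, 7, 0, 2, 6, 1, 3, 3, 0, 5]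
def bw1527 : List ℕ := [1, 2, 2, 0, 2, 6, 3, 6, 1, 3, 7, 2, 7, 1, 1, 0, 0, 0, 6, 3, 6, 2, 0, 7, 2, 7, 3, 1, 3, 3]
def bw1528 : List ℕ := [3, 2, 2, 0, 2, 6, 3, 6, 1, 3, 7, 2, 7, 1, 1, 2, 0, 0, 6, 3, 6, 2, 0, 7, 2, 7, 3, 1, 3, 3]
def bw1529 : List ℕ := [5, 2, 2, 0, 2, 6, 3, 6, 1, 3, 7, 2, 7, 1, 1, 4, 0, 0, 6, 3, 6, 2, 0, 7, 2, 7, 3, 1, 3, 3]
def bw1530 : List ℕ := [7, 2, 2, 0, 2, 6, 3, 6, 1, 3, 7, 2, 7, 1, 1, 6, 0, 0, 6, 3, 6, 2, 0, 7, 2, 7, 3, 1, 3, 3]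
def bw1531 : List ℕ := [1, 5, 5, 3, 1, 2, 2, 7, 4, 2, 6, 1, 5, 3, 1, 0, 0, 2, 4, 0, 7, 3, 5, 6, 3, 3, 0, 2, 4, 4]
def bw1532 : List ℕ := [3, 5, 5, 3, 1, 2, 2, 7, 4, 2, 6, 1, 5, 3, 1, 2, 0, 2, 4, 0, 7, 3, 5, 6, 3, 3, 0, 2, 4, 4]
def bw1533 : List ℕ := [5, 5, 5, 3, 1, 2, 2, 7, 4, 2, 6, 1, 5, 3, 1, 4, 0, 2, 4, 0, 7, 3, 5, 6, 3, 3, 0, 2, 4, 4]
def bw1534 : List ℕ := [7, 5, 5, 3, 1, 2, 2, 7, 4, 2, 6, 1, 5, 3, 1, 6, 0, 2, 4, 0, 7, 3, 5, 6, 3, 3, 0, 2, 4, 4]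
def bw1535 : List ℕ := [1, 5, 1, 7, 3, 1, 3, 5, 6, 5, 1, 3, 4, 3, 1, 0, 0, 2, 5, 2, 0, 4, 7, 4, 2, 0, 2, 6, 0, 4]
def bw1536 : List ℕ := [3, 5, 1, 7, 3, 1, 3, 5, 6, 5, 1, 3, 4, 3, 1, 2, 0, 2, 5, 2, 0, 4, 7, 4, 2, 0, 2, 6, 0, 4]
def bw1537 : List ℕ := [5, 5, 1, 7, 3, 1, 3, 5, 6, 5, 1, 3, 4, 3, 1, 4, 0, 2, 5, 2, 0, 4, 7, 4, 2, 0, 2, 6, 0, 4]
def bw1538 : List ℕ := [7, 5, 1, 7, 3, 1, 3, 5, 6, 5, 1, 3, 4, 3, 1, 6, 0, 2, 5, 2, 0, 4, 7, 4, 2, 0, 2, 6, 0, 4]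
def bw1539 : List ℕ := [1, 5, 6, 3, 0, 3, 1, 7, 0, 2, 4, 2, 1, 3, 1, 0, 0, 2, 0, 3, 5, 3, 1, 6, 0, 2, 1, 2, 7, 4]
def bw1540 : List ℕ := [3, 5, 6, 3, 0, 3, 1, 7, 0, 2, 4, 2, 1, 3, 1, 2, 0, 2, 0, 3, 5, 3, 1, 6, 0, 2, 1, 2, 7, 4]
def bw1541 : List ℕ := [5, 5, 6, 3, 0, 3, 1, 7, 0, 2, 4, 2, 1, 3, 1, 4, 0, 2, 0, 3, 5, 3, 1, 6, 0, 2, 1, 2, 7, 4]
def bw1542 : List ℕ := [7, 5, 6, 3, 0, 3, 1, 7, 0, 2, 4, 2, 1, 3, 1, 6, 0, 2, 0, 3, 5, 3, 1, 6, 0, 2, 1, 2, 7, 4]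
def bw1543 : List ℕ := [1, 7, 5, 3, 5, 3, 5, 1, 4, 1, 6, 3, 3, 3, 1, 0, 0, 2, 2, 2, 7, 0, 5, 0, 4, 2, 4, 2, 4, 6]
def bw1544 : List ℕ := [3, 7, 5, 3, 5, 3, 5, 1, 4, 1, 6, 3, 3, 3, 1, 2, 0, 2, 2, 2, 7, 0, 5, 0, 4, 2, 4, 2, 4, 6]
def bw1545 : List ℕ := [5, 7, 5, 3, 5, 3, 5, 1, 4, 1, 6, 3, 3, 3, 1, 4, 0, 2, 2, 2, 7, 0, 5, 0, 4, 2, 4, 2, 4, 6]
def bw1546 : List ℕ := [7, 7, 5, 3, 5, 3, 5, 1, 4, 1, 6, 3, 3, 3, 1, 6, 0, 2, 2, 2, 7, 0, 5, 0, 4, 2, 4, 2, 4, 6]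
def bw1547 : List ℕ := [1, 5, 6, 1, 3, 1, 6, 3, 6, 5, 6, 1, 3, 1, 1, 0, 0, 0, 2, 0, 7, 4, 7, 2, 7, 0, 2, 0, 7, 4]
def bw1548 : List ℕ := [3, 5, 6, 1, 3, 1, 6, 3, 6, 5, 6, 1, 3, 1, 1, 2, 0, 0, 2, 0, 7, 4, 7, 2, 7, 0, 2, 0, 7, 4]
def bw1549 : List ℕ := [5, 5, 6, 1, 3, 1, 6, 3, 6, 5, 6, 1, 3, 1, 1, 4, 0, 0, 2, 0, 7, 4, 7, 2, 7, 0, 2, 0, 7, 4]
def bw1550 : List ℕ := [7, 5, 6, 1, 3, 1, 6, 3, 6, 5, 6, 1, 3, 1, 1, 6, 0, 0, 2, 0, 7, 4, 7, 2, 7, 0, 2, 0, 7, 4]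
def bw1551 : List ℕ := [1, 6, 3, 6, 3, 4, 2, 6, 3, 0, 2, 6, 3, 3, 1, 0, 0, 2, 2, 7, 3, 1, 2, 7, 3, 5, 2, 7, 2, 7]
def bw1552 : List ℕ := [3, 6, 3, 6, 3, 4, 2, 6, 3, 0, 2, 6, 3, 3, 1, 2, 0, 2, 2, 7, 3, 1, 2, 7, 3, 5, 2, 7, 2, 7]
def bw1553 : List ℕ := [5, 6, 3, 6, 3, 4, 2, 6, 3, 0, 2, 6, 3, 3, 1, 4, 0, 2, 2, 7, 3, 1, 2, 7, 3, 5, 2, 7, 2, 7]
def bw1554 : List ℕ := [7, 6, 3, 6, 3, 4, 2, 6, 3, 0, 2, 6, 3, 3, 1, 6, 0, 2, 2, 7, 3, 1, 2, 7, 3, 5, 2, 7, 2, 7]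
def bw1555 : List ℕ := [1, 7, 0, 2, 6, 3, 4, 1, 4, 1, 3, 5, 0, 3, 1, 0, 0, 2, 1, 4, 2, 0, 5, 0, 5, 2, 7, 3, 1, 6]
def bw1556 : List ℕ := [3, 7, 0, 2, 6, 3, 4, 1, 4, 1, 3, 5, 0, 3, 1, 2, 0, 2, 1, 4, 2, 0, 5, 0, 5, 2, 7, 3, 1, 6]
def bw1557 : List ℕ := [5, 7, 0, 2, 6, 3, 4, 1, 4, 1, 3, 5, 0, 3, 1, 4, 0, 2, 1, 4, 2, 0, 5, 0, 5, 2, 7, 3, 1, 6]
def bw1558 : List ℕ := [7, 7, 0, 2, 6, 3, 4, 1, 4, 1, 3, 5, 0, 3, 1, 6, 0, 2, 1, 4, 2, 0, 5, 0, 5, 2, 7, 3, 1, 6]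
def bw1559 : List ℕ := [1, 4, 7, 2, 7, 3, 4, 3, 4, 7, 2, 7, 3, 4, 3, 0, 2, 5, 2, 6, 3, 6, 5, 2, 5, 2, 6, 3, 6, 5]
def bw1560 : List ℕ := [3, 4, 7, 2, 7, 3, 4, 3, 4, 7, 2, 7, 3, 4, 3, 2, 2, 5, 2, 6, 3, 6, 5, 2, 5, 2, 6, 3, 6, 5]
def bw1561 : List ℕ := [5, 4, 7, 2, 7, 3, 4, 3, 4, 7, 2, 7, 3, 4, 3, 4, 2, 5, 2, 6, 3, 6, 5, 2, 5, 2, 6, 3, 6, 5]
def bw1562 : List ℕ := [7, 4, 7, 2, 7, 3, 4, 3, 4, 7, 2, 7, 3, 4, 3, 6, 2, 5, 2, 6, 3, 6, 5, 2, 5, 2, 6, 3, 6, 5]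
def bw1563 : List ℕ := [1, 5, 6, 5, 6, 3, 4, 7, 4, 3, 4, 0, 6, 5, 1, 0, 0, 4, 7, 1, 5, 2, 5, 6, 5, 2, 7, 4, 7, 4]
def bw1564 : List ℕ := [3, 5, 6, 5, 6, 3, 4, 7, 4, 3, 4, 0, 6, 5, 1, 2, 0, 4, 7, 1, 5, 2, 5, 6, 5, 2, 7, 4, 7, 4]
def bw1565 : List ℕ := [5, 5, 6, 5, 6, 3, 4, 7, 4, 3, 4, 0, 6, 5, 1, 4, 0, 4, 7, 1, 5, 2, 5, 6, 5, 2, 7, 4, 7, 4]
def bw1566 : List ℕ := [7, 5, 6, 5, 6, 3, 4, 7, 4, 3, 4, 0, 6, 5, 1, 6, 0, 4, 7, 1, 5, 2, 5, 6, 5, 2, 7, 4, 7, 4]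
def bw1567 : List ℕ := [1, 6, 5, 2, 1, 5, 2, 1, 2, 2, 2, 5, 7, 3, 1, 0, 0, 2, 6, 4, 3, 3, 3, 0, 3, 4, 0, 3, 4, 7]
def bw1568 : List ℕ := [3, 6, 5, 2, 1, 5, 2, 1, 2, 2, 2, 5, 7, 3, 1, 2, 0, 2, 6, 4, 3, 3, 3, 0, 3, 4, 0, 3, 4, 7]
def bw1569 : List ℕ := [5, 6, 5, 2, 1, 5, 2, 1, 2, 2, 2, 5, 7, 3, 1, 4, 0, 2, 6, 4, 3, 3, 3, 0, 3, 4, 0, 3, 4, 7]
def bw1570 : List ℕ := [7, 6, 5, 2, 1, 5, 2, 1, 2, 2, 2, 5, 7, 3, 1, 6, 0, 2, 6, 4, 3, 3, 3, 0, 3, 4, 0, 3, 4, 7]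
def bw1571 : List ℕ := [1, 5, 6, 3, 4, 6, 6, 5, 1, 2, 2, 4, 4, 2, 1, 0, 0, 3, 5, 5, 3, 3, 0, 4, 7, 7, 5, 2, 7, 4]
def bw1572 : List ℕ := [3, 5, 6, 3, 4, 6, 6, 5, 1, 2, 2, 4, 4, 2, 1, 2, 0, 3, 5, 5, 3, 3, 0, 4, 7, 7, 5, 2, 7, 4]
def bw1573 : List ℕ := [5, 5, 6, 3, 4, 6, 6, 5, 1, 2, 2, 4, 4, 2, 1, 4, 0, 3, 5, 5, 3, 3, 0, 4, 7, 7, 5, 2, 7, 4]
def bw1574 : List ℕ := [7, 5, 6, 3, 4, 6, 6, 5, 1, 2, 2, 4, 4, 2, 1, 6, 0, 3, 5, 5, 3, 3, 0, 4, 7, 7, 5, 2, 7, 4]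
def bw1575 : List ℕ := [1, 7, 4, 1, 6, 2, 2, 7, 4, 1, 6, 1, 3, 3, 1, 0, 0, 2, 2, 0, 7, 0, 5, 6, 3, 3, 7, 0, 5, 6]
def bw1576 : List ℕ := [3, 7, 4, 1, 6, 2, 2, 7, 4, 1, 6, 1, 3, 3, 1, 2, 0, 2, 2, 0, 7, 0, 5, 6, 3, 3, 7, 0, 5, 6]
def bw1577 : List ℕ := [5, 7, 4, 1, 6, 2, 2, 7, 4, 1, 6, 1, 3, 3, 1, 4, 0, 2, 2, 0, 7, 0, 5, 6, 3, 3, 7, 0, 5, 6]
def bw1578 : List ℕ := [7, 7, 4, 1, 6, 2, 2, 7, 4, 1, 6, 1, 3, 3, 1, 6, 0, 2, 2, 0, 7, 0, 5, 6, 3, 3, 7, 0, 5, 6]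
def bw1579 : List ℕ := [1, 5, 2, 5, 2, 6, 0, 2, 6, 0, 2, 6, 3, 3, 1, 0, 0, 2, 2, 7, 3, 1, 7, 3, 1, 7, 3, 4, 3, 4]
def bw1580 : List ℕ := [3, 5, 2, 5, 2, 6, 0, 2, 6, 0, 2, 6, 3, 3, 1, 2, 0, 2, 2, 7, 3, 1, 7, 3, 1, 7, 3, 4, 3, 4]
def bw1581 : List ℕ := [5, 5, 2, 5, 2, 6, 0, 2, 6, 0, 2, 6, 3, 3, 1, 4, 0, 2, 2, 7, 3, 1, 7, 3, 1, 7, 3, 4, 3, 4]
def bw1582 : List ℕ := [7, 5, 2, 5, 2, 6, 0, 2, 6, 0, 2, 6, 3, 3, 1, 6, 0, 2, 2, 7, 3, 1, 7, 3, 1, 7, 3, 4, 3, 4]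
def bw1583 : List ℕ := [1, 7, 3, 1, 6, 4, 2, 4, 1, 3, 0, 5, 0, 3, 1, 0, 0, 2, 1, 4, 1, 2, 0, 5, 3, 5, 7, 0, 2, 6]
def bw1584 : List ℕ := [3, 7, 3, 1, 6, 4, 2, 4, 1, 3, 0, 5, 0, 3, 1, 2, 0, 2, 1, 4, 1, 2, 0, 5, 3, 5, 7, 0, 2, 6]
def bw1585 : List ℕ := [5, 7, 3, 1, 6, 4, 2, 4, 1, 3, 0, 5, 0, 3, 1, 4, 0, 2, 1, 4, 1, 2, 0, 5, 3, 5, 7, 0, 2, 6]
def bw1586 : List ℕ := [7, 7, 3, 1, 6, 4, 2, 4, 1, 3, 0, 5, 0, 3, 1, 6, 0, 2, 1, 4, 1, 2, 0, 5, 3, 5, 7, 0, 2, 6]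
def bw1587 : List ℕ := [1, 5, 2, 7, 2, 7, 4, 3, 3, 7, 2, 7, 1, 2, 1, 0, 0, 3, 0, 6, 3, 6, 2, 2, 5, 6, 3, 6, 3, 4]
def bw1588 : List ℕ := [3, 5, 2, 7, 2, 7, 4, 3, 3, 7, 2, 7, 1, 2, 1, 2, 0, 3, 0, 6, 3, 6, 2, 2, 5, 6, 3, 6, 3, 4]
def bw1589 : List ℕ := [5, 5, 2, 7, 2, 7, 4, 3, 3, 7, 2, 7, 1, 2, 1, 4, 0, 3, 0, 6, 3, 6, 2, 2, 5, 6, 3, 6, 3, 4]
def bw1590 : List ℕ := [7, 5, 2, 7, 2, 7, 4, 3, 3, 7, 2, 7, 1, 2, 1, 6, 0, 3, 0, 6, 3, 6, 2, 2, 5, 6, 3, 6, 3, 4]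
def bw1591 : List ℕ := [1, 7, 4, 4, 1, 2, 7, 0, 2, 6, 6, 3, 0, 3, 1, 0, 0, 2, 1, 2, 7, 7, 3, 1, 6, 3, 0, 5, 5, 6]
def bw1592 : List ℕ := [3, 7, 4, 4, 1, 2, 7, 0, 2, 6, 6, 3, 0, 3, 1, 2, 0, 2, 1, 2, 7, 7, 3, 1, 6, 3, 0, 5, 5, 6]
def bw1593 : List ℕ := [5, 7, 4, 4, 1, 2, 7, 0, 2, 6, 6, 3, 0, 3, 1, 4, 0, 2, 1, 2, 7, 7, 3, 1, 6, 3, 0, 5, 5, 6]
def bw1594 : List ℕ := [7, 7, 4, 4, 1, 2, 7, 0, 2, 6, 6, 3, 0, 3, 1, 6, 0, 2, 1, 2, 7, 7, 3, 1, 6, 3, 0, 5, 5, 6]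
def bw1595 : List ℕ := [1, 7, 1, 7, 2, 7, 1, 7, 1, 2, 1, 3, 1, 1, 1, 0, 0, 0, 0, 2, 0, 3, 0, 6, 0, 6, 3, 6, 0, 6]
def bw1596 : List ℕ := [3, 7, 1, 7, 2, 7, 1, 7, 1, 2, 1, 3, 1, 1, 1, 2, 0, 0, 0, 2, 0, 3, 0, 6, 0, 6, 3, 6, 0, 6]
def bw1597 : List ℕ := [5, 7, 1, 7, 2, 7, 1, 7, 1, 2, 1, 3, 1, 1, 1, 4, 0, 0, 0, 2, 0, 3, 0, 6, 0, 6, 3, 6, 0, 6]
def bw1598 : List ℕ := [7, 7, 1, 7, 2, 7, 1, 7, 1, 2, 1, 3, 1, 1, 1, 6, 0, 0, 0, 2, 0, 3, 0, 6, 0, 6, 3, 6, 0, 6]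
def bw1599 : List ℕ := [1, 7, 0, 6, 0, 6, 6, 5, 1, 4, 0, 2, 5, 3, 1, 0, 0, 2, 4, 3, 1, 5, 0, 4, 7, 7, 1, 7, 1, 6]
def bw1600 : List ℕ := [3, 7, 0, 6, 0, 6, 6, 5, 1, 4, 0, 2, 5, 3, 1, 2, 0, 2, 4, 3, 1, 5, 0, 4, 7, 7, 1, 7, 1, 6]
def bw1601 : List ℕ := [5, 7, 0, 6, 0, 6, 6, 5, 1, 4, 0, 2, 5, 3, 1, 4, 0, 2, 4, 3, 1, 5, 0, 4, 7, 7, 1, 7, 1, 6]
def bw1602 : List ℕ := [7, 7, 0, 6, 0, 6, 6, 5, 1, 4, 0, 2, 5, 3, 1, 6, 0, 2, 4, 3, 1, 5, 0, 4, 7, 7, 1, 7, 1, 6]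
def bw1603 : List ℕ := [1, 7, 5, 0, 6, 6, 3, 0, 5, 5, 3, 5, 7, 3, 1, 0, 0, 2, 6, 4, 2, 4, 4, 1, 2, 7, 7, 1, 4, 6]
def bw1604 : List ℕ := [3, 7, 5, 0, 6, 6, 3, 0, 5, 5, 3, 5, 7, 3, 1, 2, 0, 2, 6, 4, 2, 4, 4, 1, 2, 7, 7, 1, 4, 6]
def bw1605 : List ℕ := [5, 7, 5, 0, 6, 6, 3, 0, 5, 5, 3, 5, 7, 3, 1, 4, 0, 2, 6, 4, 2, 4, 4, 1, 2, 7, 7, 1, 4, 6]
def bw1606 : List ℕ := [7, 7, 5, 0, 6, 6, 3, 0, 5, 5, 3, 5, 7, 3, 1, 6, 0, 2, 6, 4, 2, 4, 4, 1, 2, 7, 7, 1, 4, 6]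
def bw1607 : List ℕ := [1, 7, 0, 2, 4, 3, 1, 3, 0, 5, 6, 3, 0, 3, 1, 0, 0, 2, 1, 2, 7, 4, 1, 2, 0, 2, 5, 3, 1, 6]
def bw1608 : List ℕ := [3, 7, 0, 2, 4, 3, 1, 3, 0, 5, 6, 3, 0, 3, 1, 2, 0, 2, 1, 2, 7, 4, 1, 2, 0, 2, 5, 3, 1, 6]
def bw1609 : List ℕ := [5, 7, 0, 2, 4, 3, 1, 3, 0, 5, 6, 3, 0, 3, 1, 4, 0, 2, 1, 2, 7, 4, 1, 2, 0, 2, 5, 3, 1, 6]
def bw1610 : List ℕ := [7, 7, 0, 2, 4, 3, 1, 3, 0, 5, 6, 3, 0, 3, 1, 6, 0, 2, 1, 2, 7, 4, 1, 2, 0, 2, 5, 3, 1, 6]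
def bw1611 : List ℕ := [1, 3, 6, 1, 3, 7, 3, 1, 6, 2, 0, 7, 3, 3, 1, 0, 0, 2, 2, 6, 1, 3, 7, 0, 2, 6, 2, 0, 7, 2]
def bw1612 : List ℕ := [3, 3, 6, 1, 3, 7, 3, 1, 6, 2, 0, 7, 3, 3, 1, 2, 0, 2, 2, 6, 1, 3, 7, 0, 2, 6, 2, 0, 7, 2]
def bw1613 : List ℕ := [5, 3, 6, 1, 3, 7, 3, 1, 6, 2, 0, 7, 3, 3, 1, 4, 0, 2, 2, 6, 1, 3, 7, 0, 2, 6, 2, 0, 7, 2]
def bw1614 : List ℕ := [7, 3, 6, 1, 3, 7, 3, 1, 6, 2, 0, 7, 3, 3, 1, 6, 0, 2, 2, 6, 1, 3, 7, 0, 2, 6, 2, 0, 7, 2]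
def bw1615 : List ℕ := [1, 7, 1, 7, 1, 5, 2, 7, 4, 7, 2, 5, 6, 5, 1, 0, 0, 4, 7, 4, 3, 6, 5, 6, 3, 4, 0, 6, 0, 6]
def bw1616 : List ℕ := [3, 7, 1, 7, 1, 5, 2, 7, 4, 7, 2, 5, 6, 5, 1, 2, 0, 4, 7, 4, 3, 6, 5, 6, 3, 4, 0, 6, 0, 6]
def bw1617 : List ℕ := [5, 7, 1, 7, 1, 5, 2, 7, 4, 7, 2, 5, 6, 5, 1, 4, 0, 4, 7, 4, 3, 6, 5, 6, 3, 4, 0, 6, 0, 6]
def bw1618 : List ℕ := [7, 7, 1, 7, 1, 5, 2, 7, 4, 7, 2, 5, 6, 5, 1, 6, 0, 4, 7, 4, 3, 6, 5, 6, 3, 4, 0, 6, 0, 6]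
def bw1619 : List ℕ := [1, 4, 6, 4, 2, 4, 4, 3, 4, 3, 6, 6, 3, 4, 1, 0, 0, 5, 2, 7, 7, 2, 5, 2, 5, 5, 3, 5, 7, 5]
def bw1620 : List ℕ := [3, 4, 6, 4, 2, 4, 4, 3, 4, 3, 6, 6, 3, 4, 1, 2, 0, 5, 2, 7, 7, 2, 5, 2, 5, 5, 3, 5, 7, 5]
def bw1621 : List ℕ := [5, 4, 6, 4, 2, 4, 4, 3, 4, 3, 6, 6, 3, 4, 1, 4, 0, 5, 2, 7, 7, 2, 5, 2, 5, 5, 3, 5, 7, 5]
def bw1622 : List ℕ := [7, 4, 6, 4, 2, 4, 4, 3, 4, 3, 6, 6, 3, 4, 1, 6, 0, 5, 2, 7, 7, 2, 5, 2, 5, 5, 3, 5, 7, 5]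
def bw1623 : List ℕ := [1, 6, 3, 4, 2, 4, 2, 0, 5, 2, 7, 3, 1, 3, 1, 0, 0, 2, 0, 2, 6, 3, 4, 1, 3, 5, 3, 5, 2, 7]
def bw1624 : List ℕ := [3, 6, 3, 4, 2, 4, 2, 0, 5, 2, 7, 3, 1, 3, 1, 2, 0, 2, 0, 2, 6, 3, 4, 1, 3, 5, 3, 5, 2, 7]
def bw1625 : List ℕ := [5, 6, 3, 4, 2, 4, 2, 0, 5, 2, 7, 3, 1, 3, 1, 4, 0, 2, 0, 2, 6, 3, 4, 1, 3, 5, 3, 5, 2, 7]
def bw1626 : List ℕ := [7, 6, 3, 4, 2, 4, 2, 0, 5, 2, 7, 3, 1, 3, 1, 6, 0, 2, 0, 2, 6, 3, 4, 1, 3, 5, 3, 5, 2, 7]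
def bw1627 : List ℕ := [1, 2, 7, 4, 6, 2, 7, 1, 4, 0, 5, 1, 4, 3, 1, 0, 0, 2, 5, 0, 4, 1, 5, 0, 6, 3, 7, 5, 6, 3]
def bw1628 : List ℕ := [3, 2, 7, 4, 6, 2, 7, 1, 4, 0, 5, 1, 4, 3, 1, 2, 0, 2, 5, 0, 4, 1, 5, 0, 6, 3, 7, 5, 6, 3]
def bw1629 : List ℕ := [5, 2, 7, 4, 6, 2, 7, 1, 4, 0, 5, 1, 4, 3, 1, 4, 0, 2, 5, 0, 4, 1, 5, 0, 6, 3, 7, 5, 6, 3]
def bw1630 : List ℕ := [7, 2, 7, 4, 6, 2, 7, 1, 4, 0, 5, 1, 4, 3, 1, 6, 0, 2, 5, 0, 4, 1, 5, 0, 6, 3, 7, 5, 6, 3]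
def bw1631 : List ℕ := [1, 5, 3, 1, 4, 1, 2, 7, 3, 1, 6, 3, 1, 3, 1, 0, 0, 2, 0, 2, 7, 0, 2, 6, 3, 0, 5, 0, 2, 4]
def bw1632 : List ℕ := [3, 5, 3, 1, 4, 1, 2, 7, 3, 1, 6, 3, 1, 3, 1, 2, 0, 2, 0, 2, 7, 0, 2, 6, 3, 0, 5, 0, 2, 4]
def bw1633 : List ℕ := [5, 5, 3, 1, 4, 1, 2, 7, 3, 1, 6, 3, 1, 3, 1, 4, 0, 2, 0, 2, 7, 0, 2, 6, 3, 0, 5, 0, 2, 4]
def bw1634 : List ℕ := [7, 5, 3, 1, 4, 1, 2, 7, 3, 1, 6, 3, 1, 3, 1, 6, 0, 2, 0, 2, 7, 0, 2, 6, 3, 0, 5, 0, 2, 4]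
def bw1635 : List ℕ := [1, 2, 0, 3, 7, 0, 2, 7, 5, 7, 2, 6, 5, 1, 1, 0, 0, 0, 4, 7, 3, 6, 4, 6, 3, 1, 6, 2, 1, 3]
def bw1636 : List ℕ := [3, 2, 0, 3, 7, 0, 2, 7, 5, 7, 2, 6, 5, 1, 1, 2, 0, 0, 4, 7, 3, 6, 4, 6, 3, 1, 6, 2, 1, 3]
def bw1637 : List ℕ := [5, 2, 0, 3, 7, 0, 2, 7, 5, 7, 2, 6, 5, 1, 1, 4, 0, 0, 4, 7, 3, 6, 4, 6, 3, 1, 6, 2, 1, 3]
def bw1638 : List ℕ := [7, 2, 0, 3, 7, 0, 2, 7, 5, 7, 2, 6, 5, 1, 1, 6, 0, 0, 4, 7, 3, 6, 4, 6, 3, 1, 6, 2, 1, 3]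
def bw1639 : List ℕ := [1, 7, 7, 3, 1, 7, 1, 2, 5, 2, 5, 1, 4, 3, 1, 0, 0, 2, 5, 0, 4, 3, 4, 3, 0, 6, 0, 2, 6, 6]
def bw1640 : List ℕ := [3, 7, 7, 3, 1, 7, 1, 2, 5, 2, 5, 1, 4, 3, 1, 2, 0, 2, 5, 0, 4, 3, 4, 3, 0, 6, 0, 2, 6, 6]
def bw1641 : List ℕ := [5, 7, 7, 3, 1, 7, 1, 2, 5, 2, 5, 1, 4, 3, 1, 4, 0, 2, 5, 0, 4, 3, 4, 3, 0, 6, 0, 2, 6, 6]
def bw1642 : List ℕ := [7, 7, 7, 3, 1, 7, 1, 2, 5, 2, 5, 1, 4, 3, 1, 6, 0, 2, 5, 0, 4, 3, 4, 3, 0, 6, 0, 2, 6, 6]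
def bw1643 : List ℕ := [1, 4, 7, 1, 5, 6, 5, 6, 0, 6, 5, 7, 2, 7, 1, 0, 0, 6, 3, 6, 4, 7, 1, 7, 4, 7, 4, 0, 6, 5]
def bw1644 : List ℕ := [3, 4, 7, 1, 5, 6, 5, 6, 0, 6, 5, 7, 2, 7, 1, 2, 0, 6, 3, 6, 4, 7, 1, 7, 4, 7, 4, 0, 6, 5]
def bw1645 : List ℕ := [5, 4, 7, 1, 5, 6, 5, 6, 0, 6, 5, 7, 2, 7, 1, 4, 0, 6, 3, 6, 4, 7, 1, 7, 4, 7, 4, 0, 6, 5]
def bw1646 : List ℕ := [7, 4, 7, 1, 5, 6, 5, 6, 0, 6, 5, 7, 2, 7, 1, 6, 0, 6, 3, 6, 4, 7, 1, 7, 4, 7, 4, 0, 6, 5]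
def bw1647 : List ℕ := [1, 4, 1, 3, 5, 6, 3, 0, 3, 1, 7, 1, 3, 1, 1, 0, 0, 0, 2, 0, 6, 0, 2, 1, 2, 7, 4, 2, 0, 5]
def bw1648 : List ℕ := [3, 4, 1, 3, 5, 6, 3, 0, 3, 1, 7, 1, 3, 1, 1, 2, 0, 0, 2, 0, 6, 0, 2, 1, 2, 7, 4, 2, 0, 5]
def bw1649 : List ℕ := [5, 4, 1, 3, 5, 6, 3, 0, 3, 1, 7, 1, 3, 1, 1, 4, 0, 0, 2, 0, 6, 0, 2, 1, 2, 7, 4, 2, 0, 5]
def bw1650 : List ℕ := [7, 4, 1, 3, 5, 6, 3, 0, 3, 1, 7, 1, 3, 1, 1, 6, 0, 0, 2, 0, 6, 0, 2, 1, 2, 7, 4, 2, 0, 5]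
def bw1651 : List ℕ := [1, 2, 7, 7, 2, 0, 6, 6, 4, 3, 4, 4, 3, 1, 1, 0, 0, 0, 2, 5, 5, 2, 5, 7, 7, 1, 3, 6, 6, 3]
def bw1652 : List ℕ := [3, 2, 7, 7, 2, 0, 6, 6, 4, 3, 4, 4, 3, 1, 1, 2, 0, 0, 2, 5, 5, 2, 5, 7, 7, 1, 3, 6, 6, 3]
def bw1653 : List ℕ := [5, 2, 7, 7, 2, 0, 6, 6, 4, 3, 4, 4, 3, 1, 1, 4, 0, 0, 2, 5, 5, 2, 5, 7, 7, 1, 3, 6, 6, 3]
def bw1654 : List ℕ := [7, 2, 7, 7, 2, 0, 6, 6, 4, 3, 4, 4, 3, 1, 1, 6, 0, 0, 2, 5, 5, 2, 5, 7, 7, 1, 3, 6, 6, 3]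
def bw1655 : List ℕ := [1, 6, 0, 2, 1, 6, 1, 4, 4, 6, 3, 6, 2, 1, 1, 0, 0, 0, 3, 7, 2, 7, 5, 5, 0, 7, 0, 3, 1, 7]
def bw1656 : List ℕ := [3, 6, 0, 2, 1, 6, 1, 4, 4, 6, 3, 6, 2, 1, 1, 2, 0, 0, 3, 7, 2, 7, 5, 5, 0, 7, 0, 3, 1, 7]
def bw1657 : List ℕ := [5, 6, 0, 2, 1, 6, 1, 4, 4, 6, 3, 6, 2, 1, 1, 4, 0, 0, 3, 7, 2, 7, 5, 5, 0, 7, 0, 3, 1, 7]
def bw1658 : List ℕ := [7, 6, 0, 2, 1, 6, 1, 4, 4, 6, 3, 6, 2, 1, 1, 6, 0, 0, 3, 7, 2, 7, 5, 5, 0, 7, 0, 3, 1, 7]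
def bw1659 : List ℕ := [1, 5, 2, 7, 2, 7, 4, 3, 0, 7, 2, 7, 1, 1, 1, 0, 0, 0, 0, 6, 3, 6, 1, 2, 5, 6, 3, 6, 3, 4]
def bw1660 : List ℕ := [3, 5, 2, 7, 2, 7, 4, 3, 0, 7, 2, 7, 1, 1, 1, 2, 0, 0, 0, 6, 3, 6, 1, 2, 5, 6, 3, 6, 3, 4]
def bw1661 : List ℕ := [5, 5, 2, 7, 2, 7, 4, 3, 0, 7, 2, 7, 1, 1, 1, 4, 0, 0, 0, 6, 3, 6, 1, 2, 5, 6, 3, 6, 3, 4]
def bw1662 : List ℕ := [7, 5, 2, 7, 2, 7, 4, 3, 0, 7, 2, 7, 1, 1, 1, 6, 0, 0, 0, 6, 3, 6, 1, 2, 5, 6, 3, 6, 3, 4]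
def bw1663 : List ℕ := [1, 7, 3, 1, 7, 3, 1, 7, 3, 4, 3, 4, 3, 3, 1, 0, 0, 2, 2, 5, 2, 5, 2, 6, 0, 2, 6, 0, 2, 6]
def bw1664 : List ℕ := [3, 7, 3, 1, 7, 3, 1, 7, 3, 4, 3, 4, 3, 3, 1, 2, 0, 2, 2, 5, 2, 5, 2, 6, 0, 2, 6, 0, 2, 6]
def bw1665 : List ℕ := [5, 7, 3, 1, 7, 3, 1, 7, 3, 4, 3, 4, 3, 3, 1, 4, 0, 2, 2, 5, 2, 5, 2, 6, 0, 2, 6, 0, 2, 6]
def bw1666 : List ℕ := [7, 7, 3, 1, 7, 3, 1, 7, 3, 4, 3, 4, 3, 3, 1, 6, 0, 2, 2, 5, 2, 5, 2, 6, 0, 2, 6, 0, 2, 6]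
def bw1667 : List ℕ := [1, 3, 6, 3, 6, 3, 1, 3, 0, 7, 2, 7, 1, 1, 1, 0, 0, 0, 0, 6, 3, 6, 1, 2, 0, 2, 7, 2, 7, 2]
def bw1668 : List ℕ := [3, 3, 6, 3, 6, 3, 1, 3, 0, 7, 2, 7, 1, 1, 1, 2, 0, 0, 0, 6, 3, 6, 1, 2, 0, 2, 7, 2, 7, 2]
def bw1669 : List ℕ := [5, 3, 6, 3, 6, 3, 1, 3, 0, 7, 2, 7, 1, 1, 1, 4, 0, 0, 0, 6, 3, 6, 1, 2, 0, 2, 7, 2, 7, 2]
def bw1670 : List ℕ := [7, 3, 6, 3, 6, 3, 1, 3, 0, 7, 2, 7, 1, 1, 1, 6, 0, 0, 0, 6, 3, 6, 1, 2, 0, 2, 7, 2, 7, 2]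
def bw1671 : List ℕ := [1, 2, 6, 3, 4, 1, 3, 5, 3, 5, 2, 7, 1, 3, 1, 0, 0, 2, 0, 6, 3, 4, 2, 4, 2, 0, 5, 2, 7, 3]
def bw1672 : List ℕ := [3, 2, 6, 3, 4, 1, 3, 5, 3, 5, 2, 7, 1, 3, 1, 2, 0, 2, 0, 6, 3, 4, 2, 4, 2, 0, 5, 2, 7, 3]
def bw1673 : List ℕ := [5, 2, 6, 3, 4, 1, 3, 5, 3, 5, 2, 7, 1, 3, 1, 4, 0, 2, 0, 6, 3, 4, 2, 4, 2, 0, 5, 2, 7, 3]
def bw1674 : List ℕ := [7, 2, 6, 3, 4, 1, 3, 5, 3, 5, 2, 7, 1, 3, 1, 6, 0, 2, 0, 6, 3, 4, 2, 4, 2, 0, 5, 2, 7, 3]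
def bw1675 : List ℕ := [1, 2, 7, 4, 7, 2, 7, 1, 3, 1, 7, 4, 1, 3, 1, 0, 0, 2, 0, 5, 6, 0, 2, 0, 6, 3, 6, 5, 6, 3]
def bw1676 : List ℕ := [3, 2, 7, 4, 7, 2, 7, 1, 3, 1, 7, 4, 1, 3, 1, 2, 0, 2, 0, 5, 6, 0, 2, 0, 6, 3, 6, 5, 6, 3]
def bw1677 : List ℕ := [5, 2, 7, 4, 7, 2, 7, 1, 3, 1, 7, 4, 1, 3, 1, 4, 0, 2, 0, 5, 6, 0, 2, 0, 6, 3, 6, 5, 6, 3]
def bw1678 : List ℕ := [7, 2, 7, 4, 7, 2, 7, 1, 3, 1, 7, 4, 1, 3, 1, 6, 0, 2, 0, 5, 6, 0, 2, 0, 6, 3, 6, 5, 6, 3]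
def bw1679 : List ℕ := [1, 6, 4, 3, 5, 0, 5, 5, 3, 0, 5, 2, 7, 3, 1, 0, 0, 2, 6, 3, 4, 1, 2, 4, 4, 1, 4, 2, 5, 7]
def bw1680 : List ℕ := [3, 6, 4, 3, 5, 0, 5, 5, 3, 0, 5, 2, 7, 3, 1, 2, 0, 2, 6, 3, 4, 1, 2, 4, 4, 1, 4, 2, 5, 7]
def bw1681 : List ℕ := [5, 6, 4, 3, 5, 0, 5, 5, 3, 0, 5, 2, 7, 3, 1, 4, 0, 2, 6, 3, 4, 1, 2, 4, 4, 1, 4, 2, 5, 7]
def bw1682 : List ℕ := [7, 6, 4, 3, 5, 0, 5, 5, 3, 0, 5, 2, 7, 3, 1, 6, 0, 2, 6, 3, 4, 1, 2, 4, 4, 1, 4, 2, 5, 7]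
def bw1683 : List ℕ := [1, 3, 1, 5, 3, 1, 6, 3, 0, 2, 2, 7, 4, 1, 1, 0, 0, 0, 5, 6, 3, 3, 1, 2, 7, 0, 2, 4, 0, 2]
def bw1684 : List ℕ := [3, 3, 1, 5, 3, 1, 6, 3, 0, 2, 2, 7, 4, 1, 1, 2, 0, 0, 5, 6, 3, 3, 1, 2, 7, 0, 2, 4, 0, 2]
def bw1685 : List ℕ := [5, 3, 1, 5, 3, 1, 6, 3, 0, 2, 2, 7, 4, 1, 1, 4, 0, 0, 5, 6, 3, 3, 1, 2, 7, 0, 2, 4, 0, 2]
def bw1686 : List ℕ := [7, 3, 1, 5, 3, 1, 6, 3, 0, 2, 2, 7, 4, 1, 1, 6, 0, 0, 5, 6, 3, 3, 1, 2, 7, 0, 2, 4, 0, 2]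
def bw1687 : List ℕ := [1, 5, 6, 0, 2, 7, 2, 7, 1, 5, 6, 3, 1, 3, 1, 0, 0, 2, 0, 2, 7, 4, 0, 6, 3, 6, 3, 1, 7, 4]
def bw1688 : List ℕ := [3, 5, 6, 0, 2, 7, 2, 7, 1, 5, 6, 3, 1, 3, 1, 2, 0, 2, 0, 2, 7, 4, 0, 6, 3, 6, 3, 1, 7, 4]
def bw1689 : List ℕ := [5, 5, 6, 0, 2, 7, 2, 7, 1, 5, 6, 3, 1, 3, 1, 4, 0, 2, 0, 2, 7, 4, 0, 6, 3, 6, 3, 1, 7, 4]
def bw1690 : List ℕ := [7, 5, 6, 0, 2, 7, 2, 7, 1, 5, 6, 3, 1, 3, 1, 6, 0, 2, 0, 2, 7, 4, 0, 6, 3, 6, 3, 1, 7, 4]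
def bw1691 : List ℕ := [1, 6, 3, 4, 1, 4, 4, 2, 4, 2, 4, 2, 7, 3, 1, 0, 0, 2, 6, 3, 5, 3, 5, 3, 5, 5, 0, 5, 2, 7]
def bw1692 : List ℕ := [3, 6, 3, 4, 1, 4, 4, 2, 4, 2, 4, 2, 7, 3, 1, 2, 0, 2, 6, 3, 5, 3, 5, 3, 5, 5, 0, 5, 2, 7]
def bw1693 : List ℕ := [5, 6, 3, 4, 1, 4, 4, 2, 4, 2, 4, 2, 7, 3, 1, 4, 0, 2, 6, 3, 5, 3, 5, 3, 5, 5, 0, 5, 2, 7]
def bw1694 : List ℕ := [7, 6, 3, 4, 1, 4, 4, 2, 4, 2, 4, 2, 7, 3, 1, 6, 0, 2, 6, 3, 5, 3, 5, 3, 5, 5, 0, 5, 2, 7]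
def bw1695 : List ℕ := [1, 7, 3, 5, 0, 5, 6, 5, 2, 5, 5, 5, 2, 5, 1, 0, 0, 4, 3, 4, 4, 4, 3, 4, 7, 4, 1, 4, 2, 6]
def bw1696 : List ℕ := [3, 7, 3, 5, 0, 5, 6, 5, 2, 5, 5, 5, 2, 5, 1, 2, 0, 4, 3, 4, 4, 4, 3, 4, 7, 4, 1, 4, 2, 6]
def bw1697 : List ℕ := [5, 7, 3, 5, 0, 5, 6, 5, 2, 5, 5, 5, 2, 5, 1, 4, 0, 4, 3, 4, 4, 4, 3, 4, 7, 4, 1, 4, 2, 6]
def bw1698 : List ℕ := [7, 7, 3, 5, 0, 5, 6, 5, 2, 5, 5, 5, 2, 5, 1, 6, 0, 4, 3, 4, 4, 4, 3, 4, 7, 4, 1, 4, 2, 6]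
def bw1699 : List ℕ := [1, 6, 3, 6, 3, 7, 4, 6, 6, 0, 4, 4, 3, 1, 1, 0, 0, 0, 2, 5, 5, 1, 7, 7, 5, 6, 2, 7, 2, 7]
def bw1700 : List ℕ := [3, 6, 3, 6, 3, 7, 4, 6, 6, 0, 4, 4, 3, 1, 1, 2, 0, 0, 2, 5, 5, 1, 7, 7, 5, 6, 2, 7, 2, 7]
def bw1701 : List ℕ := [5, 6, 3, 6, 3, 7, 4, 6, 6, 0, 4, 4, 3, 1, 1, 4, 0, 0, 2, 5, 5, 1, 7, 7, 5, 6, 2, 7, 2, 7]
def bw1702 : List ℕ := [7, 6, 3, 6, 3, 7, 4, 6, 6, 0, 4, 4, 3, 1, 1, 6, 0, 0, 2, 5, 5, 1, 7, 7, 5, 6, 2, 7, 2, 7]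
def bw1703 : List ℕ := [1, 6, 3, 0, 5, 0, 2, 4, 3, 1, 7, 3, 1, 3, 1, 0, 0, 2, 0, 2, 6, 0, 2, 5, 3, 1, 4, 1, 2, 7]
def bw1704 : List ℕ := [3, 6, 3, 0, 5, 0, 2, 4, 3, 1, 7, 3, 1, 3, 1, 2, 0, 2, 0, 2, 6, 0, 2, 5, 3, 1, 4, 1, 2, 7]
def bw1705 : List ℕ := [5, 6, 3, 0, 5, 0, 2, 4, 3, 1, 7, 3, 1, 3, 1, 4, 0, 2, 0, 2, 6, 0, 2, 5, 3, 1, 4, 1, 2, 7]
def bw1706 : List ℕ := [7, 6, 3, 0, 5, 0, 2, 4, 3, 1, 7, 3, 1, 3, 1, 6, 0, 2, 0, 2, 6, 0, 2, 5, 3, 1, 4, 1, 2, 7]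
def bw1707 : List ℕ := [1, 4, 3, 1, 7, 0, 2, 6, 3, 0, 5, 3, 1, 3, 1, 0, 0, 2, 0, 2, 4, 1, 2, 7, 3, 1, 6, 0, 2, 5]
def bw1708 : List ℕ := [3, 4, 3, 1, 7, 0, 2, 6, 3, 0, 5, 3, 1, 3, 1, 2, 0, 2, 0, 2, 4, 1, 2, 7, 3, 1, 6, 0, 2, 5]
def bw1709 : List ℕ := [5, 4, 3, 1, 7, 0, 2, 6, 3, 0, 5, 3, 1, 3, 1, 4, 0, 2, 0, 2, 4, 1, 2, 7, 3, 1, 6, 0, 2, 5]
def bw1710 : List ℕ := [7, 4, 3, 1, 7, 0, 2, 6, 3, 0, 5, 3, 1, 3, 1, 6, 0, 2, 0, 2, 4, 1, 2, 7, 3, 1, 6, 0, 2, 5]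
def bw1711 : List ℕ := [1, 4, 4, 1, 3, 5, 7, 4, 2, 0, 5, 6, 4, 3, 1, 0, 0, 2, 5, 7, 4, 1, 3, 5, 6, 4, 2, 0, 5, 5]
def bw1712 : List ℕ := [3, 4, 4, 1, 3, 5, 7, 4, 2, 0, 5, 6, 4, 3, 1, 2, 0, 2, 5, 7, 4, 1, 3, 5, 6, 4, 2, 0, 5, 5]
def bw1713 : List ℕ := [5, 4, 4, 1, 3, 5, 7, 4, 2, 0, 5, 6, 4, 3, 1, 4, 0, 2, 5, 7, 4, 1, 3, 5, 6, 4, 2, 0, 5, 5]
def bw1714 : List ℕ := [7, 4, 4, 1, 3, 5, 7, 4, 2, 0, 5, 6, 4, 3, 1, 6, 0, 2, 5, 7, 4, 1, 3, 5, 6, 4, 2, 0, 5, 5]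
def bw1715 : List ℕ := [1, 5, 2, 5, 2, 7, 2, 7, 2, 5, 6, 3, 6, 5, 1, 0, 0, 4, 7, 2, 7, 4, 3, 6, 3, 6, 3, 4, 3, 4]
def bw1716 : List ℕ := [3, 5, 2, 5, 2, 7, 2, 7, 2, 5, 6, 3, 6, 5, 1, 2, 0, 4, 7, 2, 7, 4, 3, 6, 3, 6, 3, 4, 3, 4]
def bw1717 : List ℕ := [5, 5, 2, 5, 2, 7, 2, 7, 2, 5, 6, 3, 6, 5, 1, 4, 0, 4, 7, 2, 7, 4, 3, 6, 3, 6, 3, 4, 3, 4]
def bw1718 : List ℕ := [7, 5, 2, 5, 2, 7, 2, 7, 2, 5, 6, 3, 6, 5, 1, 6, 0, 4, 7, 2, 7, 4, 3, 6, 3, 6, 3, 4, 3, 4]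
def bw1719 : List ℕ := [1, 4, 2, 7, 4, 1, 6, 4, 3, 4, 2, 2, 1, 2, 1, 0, 0, 3, 0, 3, 3, 5, 2, 5, 7, 0, 5, 6, 3, 5]
def bw1720 : List ℕ := [3, 4, 2, 7, 4, 1, 6, 4, 3, 4, 2, 2, 1, 2, 1, 2, 0, 3, 0, 3, 3, 5, 2, 5, 7, 0, 5, 6, 3, 5]
def bw1721 : List ℕ := [5, 4, 2, 7, 4, 1, 6, 4, 3, 4, 2, 2, 1, 2, 1, 4, 0, 3, 0, 3, 3, 5, 2, 5, 7, 0, 5, 6, 3, 5]
def bw1722 : List ℕ := [7, 4, 2, 7, 4, 1, 6, 4, 3, 4, 2, 2, 1, 2, 1, 6, 0, 3, 0, 3, 3, 5, 2, 5, 7, 0, 5, 6, 3, 5]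
def bw1723 : List ℕ := [1, 2, 6, 1, 3, 7, 0, 2, 6, 2, 0, 7, 1, 3, 1, 0, 0, 2, 0, 6, 1, 3, 7, 3, 1, 6, 2, 0, 7, 3]
def bw1724 : List ℕ := [3, 2, 6, 1, 3, 7, 0, 2, 6, 2, 0, 7, 1, 3, 1, 2, 0, 2, 0, 6, 1, 3, 7, 3, 1, 6, 2, 0, 7, 3]
def bw1725 : List ℕ := [5, 2, 6, 1, 3, 7, 0, 2, 6, 2, 0, 7, 1, 3, 1, 4, 0, 2, 0, 6, 1, 3, 7, 3, 1, 6, 2, 0, 7, 3]
def bw1726 : List ℕ := [7, 2, 6, 1, 3, 7, 0, 2, 6, 2, 0, 7, 1, 3, 1, 6, 0, 2, 0, 6, 1, 3, 7, 3, 1, 6, 2, 0, 7, 3]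
def bw1727 : List ℕ := [1, 7, 4, 2, 0, 2, 2, 7, 4, 7, 2, 7, 1, 3, 1, 0, 0, 2, 0, 6, 3, 6, 5, 6, 3, 3, 1, 3, 5, 6]
def bw1728 : List ℕ := [3, 7, 4, 2, 0, 2, 2, 7, 4, 7, 2, 7, 1, 3, 1, 2, 0, 2, 0, 6, 3, 6, 5, 6, 3, 3, 1, 3, 5, 6]
def bw1729 : List ℕ := [5, 7, 4, 2, 0, 2, 2, 7, 4, 7, 2, 7, 1, 3, 1, 4, 0, 2, 0, 6, 3, 6, 5, 6, 3, 3, 1, 3, 5, 6]
def bw1730 : List ℕ := [7, 7, 4, 2, 0, 2, 2, 7, 4, 7, 2, 7, 1, 3, 1, 6, 0, 2, 0, 6, 3, 6, 5, 6, 3, 3, 1, 3, 5, 6]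
def bw1731 : List ℕ := [1, 3, 7, 2, 7, 2, 5, 2, 7, 2, 7, 4, 3, 3, 1, 0, 0, 2, 2, 5, 6, 3, 6, 3, 4, 3, 6, 3, 6, 2]
def bw1732 : List ℕ := [3, 3, 7, 2, 7, 2, 5, 2, 7, 2, 7, 4, 3, 3, 1, 2, 0, 2, 2, 5, 6, 3, 6, 3, 4, 3, 6, 3, 6, 2]
def bw1733 : List ℕ := [5, 3, 7, 2, 7, 2, 5, 2, 7, 2, 7, 4, 3, 3, 1, 4, 0, 2, 2, 5, 6, 3, 6, 3, 4, 3, 6, 3, 6, 2]
def bw1734 : List ℕ := [7, 3, 7, 2, 7, 2, 5, 2, 7, 2, 7, 4, 3, 3, 1, 6, 0, 2, 2, 5, 6, 3, 6, 3, 4, 3, 6, 3, 6, 2]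
def bw1735 : List ℕ := [1, 7, 0, 5, 0, 3, 5, 3, 5, 3, 6, 3, 0, 3, 1, 0, 0, 2, 1, 2, 7, 2, 4, 2, 4, 2, 1, 4, 1, 6]
def bw1736 : List ℕ := [3, 7, 0, 5, 0, 3, 5, 3, 5, 3, 6, 3, 0, 3, 1, 2, 0, 2, 1, 2, 7, 2, 4, 2, 4, 2, 1, 4, 1, 6]
def bw1737 : List ℕ := [5, 7, 0, 5, 0, 3, 5, 3, 5, 3, 6, 3, 0, 3, 1, 4, 0, 2, 1, 2, 7, 2, 4, 2, 4, 2, 1, 4, 1, 6]
def bw1738 : List ℕ := [7, 7, 0, 5, 0, 3, 5, 3, 5, 3, 6, 3, 0, 3, 1, 6, 0, 2, 1, 2, 7, 2, 4, 2, 4, 2, 1, 4, 1, 6]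
def bw1739 : List ℕ := [1, 2, 7, 3, 5, 2, 0, 2, 5, 0, 5, 6, 3, 3, 1, 0, 0, 2, 2, 7, 4, 1, 4, 3, 1, 3, 4, 2, 6, 3]
def bw1740 : List ℕ := [3, 2, 7, 3, 5, 2, 0, 2, 5, 0, 5, 6, 3, 3, 1, 2, 0, 2, 2, 7, 4, 1, 4, 3, 1, 3, 4, 2, 6, 3]
def bw1741 : List ℕ := [5, 2, 7, 3, 5, 2, 0, 2, 5, 0, 5, 6, 3, 3, 1, 4, 0, 2, 2, 7, 4, 1, 4, 3, 1, 3, 4, 2, 6, 3]
def bw1742 : List ℕ := [7, 2, 7, 3, 5, 2, 0, 2, 5, 0, 5, 6, 3, 3, 1, 6, 0, 2, 2, 7, 4, 1, 4, 3, 1, 3, 4, 2, 6, 3]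
def bw1743 : List ℕ := [1, 2, 7, 0, 5, 0, 3, 5, 3, 5, 3, 6, 3, 3, 1, 0, 0, 2, 2, 7, 2, 4, 2, 4, 2, 1, 4, 1, 6, 3]
def bw1744 : List ℕ := [3, 2, 7, 0, 5, 0, 3, 5, 3, 5, 3, 6, 3, 3, 1, 2, 0, 2, 2, 7, 2, 4, 2, 4, 2, 1, 4, 1, 6, 3]
def bw1745 : List ℕ := [5, 2, 7, 0, 5, 0, 3, 5, 3, 5, 3, 6, 3, 3, 1, 4, 0, 2, 2, 7, 2, 4, 2, 4, 2, 1, 4, 1, 6, 3]
def bw1746 : List ℕ := [7, 2, 7, 0, 5, 0, 3, 5, 3, 5, 3, 6, 3, 3, 1, 6, 0, 2, 2, 7, 2, 4, 2, 4, 2, 1, 4, 1, 6, 3]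
def bw1747 : List ℕ := [1, 2, 0, 2, 2, 1, 7, 1, 7, 2, 7, 1, 7, 1, 1, 0, 0, 0, 6, 0, 6, 3, 6, 0, 6, 0, 3, 3, 1, 3]
def bw1748 : List ℕ := [3, 2, 0, 2, 2, 1, 7, 1, 7, 2, 7, 1, 7, 1, 1, 2, 0, 0, 6, 0, 6, 3, 6, 0, 6, 0, 3, 3, 1, 3]
def bw1749 : List ℕ := [5, 2, 0, 2, 2, 1, 7, 1, 7, 2, 7, 1, 7, 1, 1, 4, 0, 0, 6, 0, 6, 3, 6, 0, 6, 0, 3, 3, 1, 3]
def bw1750 : List ℕ := [7, 2, 0, 2, 2, 1, 7, 1, 7, 2, 7, 1, 7, 1, 1, 6, 0, 0, 6, 0, 6, 3, 6, 0, 6, 0, 3, 3, 1, 3]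
def bw1751 : List ℕ := [1, 2, 7, 2, 7, 1, 7, 2, 7, 2, 2, 1, 3, 1, 1, 0, 0, 0, 2, 0, 3, 3, 6, 3, 6, 0, 6, 3, 6, 3]
def bw1752 : List ℕ := [3, 2, 7, 2, 7, 1, 7, 2, 7, 2, 2, 1, 3, 1, 1, 2, 0, 0, 2, 0, 3, 3, 6, 3, 6, 0, 6, 3, 6, 3]
def bw1753 : List ℕ := [5, 2, 7, 2, 7, 1, 7, 2, 7, 2, 2, 1, 3, 1, 1, 4, 0, 0, 2, 0, 3, 3, 6, 3, 6, 0, 6, 3, 6, 3]
def bw1754 : List ℕ := [7, 2, 7, 2, 7, 1, 7, 2, 7, 2, 2, 1, 3, 1, 1, 6, 0, 0, 2, 0, 3, 3, 6, 3, 6, 0, 6, 3, 6, 3]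
def bw1755 : List ℕ := [1, 3, 7, 3, 1, 6, 1, 3, 7, 0, 2, 6, 1, 3, 1, 0, 0, 2, 0, 7, 3, 1, 6, 2, 0, 7, 0, 2, 6, 2]
def bw1756 : List ℕ := [3, 3, 7, 3, 1, 6, 1, 3, 7, 0, 2, 6, 1, 3, 1, 2, 0, 2, 0, 7, 3, 1, 6, 2, 0, 7, 0, 2, 6, 2]
def bw1757 : List ℕ := [5, 3, 7, 3, 1, 6, 1, 3, 7, 0, 2, 6, 1, 3, 1, 4, 0, 2, 0, 7, 3, 1, 6, 2, 0, 7, 0, 2, 6, 2]
def bw1758 : List ℕ := [7, 3, 7, 3, 1, 6, 1, 3, 7, 0, 2, 6, 1, 3, 1, 6, 0, 2, 0, 7, 3, 1, 6, 2, 0, 7, 0, 2, 6, 2]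
def bw1759 : List ℕ := [1, 7, 3, 5, 2, 7, 2, 7, 3, 3, 1, 7, 0, 3, 1, 0, 0, 2, 1, 6, 0, 2, 2, 6, 3, 6, 3, 4, 2, 6]
def bw1760 : List ℕ := [3, 7, 3, 5, 2, 7, 2, 7, 3, 3, 1, 7, 0, 3, 1, 2, 0, 2, 1, 6, 0, 2, 2, 6, 3, 6, 3, 4, 2, 6]
def bw1761 : List ℕ := [5, 7, 3, 5, 2, 7, 2, 7, 3, 3, 1, 7, 0, 3, 1, 4, 0, 2, 1, 6, 0, 2, 2, 6, 3, 6, 3, 4, 2, 6]
def bw1762 : List ℕ := [7, 7, 3, 5, 2, 7, 2, 7, 3, 3, 1, 7, 0, 3, 1, 6, 0, 2, 1, 6, 0, 2, 2, 6, 3, 6, 3, 4, 2, 6]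
def bw1763 : List ℕ := [1, 7, 0, 2, 4, 2, 2, 0, 2, 5, 6, 3, 0, 3, 1, 0, 0, 2, 1, 2, 7, 4, 3, 1, 3, 3, 5, 3, 1, 6]
def bw1764 : List ℕ := [3, 7, 0, 2, 4, 2, 2, 0, 2, 5, 6, 3, 0, 3, 1, 2, 0, 2, 1, 2, 7, 4, 3, 1, 3, 3, 5, 3, 1, 6]
def bw1765 : List ℕ := [5, 7, 0, 2, 4, 2, 2, 0, 2, 5, 6, 3, 0, 3, 1, 4, 0, 2, 1, 2, 7, 4, 3, 1, 3, 3, 5, 3, 1, 6]
def bw1766 : List ℕ := [7, 7, 0, 2, 4, 2, 2, 0, 2, 5, 6, 3, 0, 3, 1, 6, 0, 2, 1, 2, 7, 4, 3, 1, 3, 3, 5, 3, 1, 6]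
def bw1767 : List ℕ := [1, 7, 4, 1, 2, 0, 2, 5, 3, 1, 6, 3, 3, 3, 1, 0, 0, 2, 2, 2, 7, 0, 2, 4, 3, 1, 3, 0, 5, 6]
def bw1768 : List ℕ := [3, 7, 4, 1, 2, 0, 2, 5, 3, 1, 6, 3, 3, 3, 1, 2, 0, 2, 2, 2, 7, 0, 2, 4, 3, 1, 3, 0, 5, 6]
def bw1769 : List ℕ := [5, 7, 4, 1, 2, 0, 2, 5, 3, 1, 6, 3, 3, 3, 1, 4, 0, 2, 2, 2, 7, 0, 2, 4, 3, 1, 3, 0, 5, 6]
def bw1770 : List ℕ := [7, 7, 4, 1, 2, 0, 2, 5, 3, 1, 6, 3, 3, 3, 1, 6, 0, 2, 2, 2, 7, 0, 2, 4, 3, 1, 3, 0, 5, 6]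
noncomputable def bwb0 (i : ℕ) : List ℕ := Bool.rec (motive := fun _ => List ℕ) (Bool.rec (motive := fun _ => List ℕ) (Bool.rec (motive := fun _ => List ℕ) (Bool.rec (motive := fun _ => List ℕ) (Bool.rec (motive := fun _ => List ℕ) (Bool.rec (motive := fun _ => List ℕ) (bw0) (bw1) (Nat.ble 1 i)) (Bool.rec (motive := fun _ => List ℕ) (bw2) (bw3) (Nat.ble 3 i)) (Nat.ble 2 i)) (Bool.rec (motive := fun _ => List ℕ) (Bool.rec (motive := fun _ => List ℕ) (bw4) (bw5) (Nat.ble 5 i)) (Bool.rec (motive := fun _ => List ℕ) (bw6) (bw7) (Nat.ble 7 i)) (Nat.ble 6 i)) (Nat.ble 4 i)) (Bool.rec (motive := fun _ => List ℕ) (Bool.rec (motive := fun _ => List ℕ) (Bool.rec (motive := fun _ => List ℕ) (bw8) (bw9) (Nat.ble 9 i)) (Bool.rec (motive := fun _ => List ℕ) (bw10) (bw11) (Nat.ble 11 i)) (Nat.ble 10 i)) (Bool.rec (motive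 := fun _ => List ℕ) (Bool.rec (motive := fun _ => List ℕ) (bw12) (bw13) (Nat.ble 13 i)) (Bool.rec (motive := fun _ => List ℕ) (bw14) (bw15) (Nat.ble 15 i)) (Nat.ble 14 i)) (Nat.ble 12 i)) (Nat.ble 8 i)) (Bool.rec (motive := fun _ => List ℕ) (Bool.rec (motive := fun _ => List ℕ) (Bool.rec (motive := fun _ => List ℕ) (Bool.rec (motive := fun _ => List ℕ) (bw16) (bw17) (Nat.ble 17 i)) (Bool.rec (motive := fun _ => List ℕ) (bw18) (bw19) (Nat.ble 19 i)) (Nat.ble 18 i)) (Bool.rec (motive := fun _ => List ℕ) (Bool.rec (motive := fun _ => List ℕ) (bw20) (bw21) (Nat.ble 21 i)) (Bool.rec (motive := fun _ => List ℕ) (bw22) (bw23) (Nat.ble 23 i)) (Nat.ble 22 i)) (Nat.ble 20 i)) (Bool.rec (motive := fun _ => List ℕ) (Bool.rec (motive := fun _ => List ℕ) (Bool.rec (motive := fun _ => List ℕ) (bw24) (bw25) (Nat.ble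 25 i)) (Bool.rec (motive := fun _ => List ℕ) (bw26) (bw27) (Nat.ble 27 i)) (Nat.ble 26 i)) (Bool.rec (motive := fun _ => List ℕ) (Bool.rec (motive := fun _ => List ℕ) (bw28) (bw29) (Nat.ble 29 i)) (Bool.rec (motive := fun _ => List ℕ) (bw30) (bw31) (Nat.ble 31 i)) (Nat.ble 30 i)) (Nat.ble 28 i)) (Nat.ble 24 i)) (Nat.ble 16 i)) (Bool.rec (motive := fun _ => List ℕ) (Bool.rec (motive := fun _ => List ℕ) (Bool.rec (motive := fun _ => List ℕ) (Bool.rec (motive := fun _ => List ℕ) (Bool.rec (motive := fun _ => List ℕ) (bw32) (bw33) (Nat.ble 33 i)) (Bool.rec (motive := fun _ => List ℕ) (bw34) (bw35) (Nat.ble 35 i)) (Nat.ble 34 i)) (Bool.rec (motive := fun _ => List ℕ) (Bool.rec (motive := fun _ => List ℕ) (bw36) (bw37) (Nat.ble 37 i)) (Bool.rec (motive := fun _ => List ℕ) (bw38) (bw39) (Nat.ble 39 i)) (Nat.ble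 38 i)) (Nat.ble 36 i)) (Bool.rec (motive := fun _ => List ℕ) (Bool.rec (motive := fun _ => List ℕ) (Bool.rec (motive := fun _ => List ℕ) (bw40) (bw41) (Nat.ble 41 i)) (Bool.rec (motive := fun _ => List ℕ) (bw42) (bw43) (Nat.ble 43 i)) (Nat.ble 42 i)) (Bool.rec (motive := fun _ => List ℕ) (Bool.rec (motive := fun _ => List ℕ) (bw44) (bw45) (Nat.ble 45 i)) (Bool.rec (motive := fun _ => List ℕ) (bw46) (bw47) (Nat.ble 47 i)) (Nat.ble 46 i)) (Nat.ble 44 i)) (Nat.ble 40 i)) (Bool.rec (motive := fun _ => List ℕ) (Bool.rec (motive := fun _ => List ℕ) (Bool.rec (motive := fun _ => List ℕ) (Bool.rec (motive := fun _ => List ℕ) (bw48) (bw49) (Nat.ble 49 i)) (Bool.rec (motive := fun _ => List ℕ) (bw50) (bw51) (Nat.ble 51 i)) (Nat.ble 50 i)) (Bool.rec (motive := fun _ => List ℕ) (Bool.rec (motive := fun _ => List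 ℕ) (bw52) (bw53) (Nat.ble 53 i)) (Bool.rec (motive := fun _ => List ℕ) (bw54) (bw55) (Nat.ble 55 i)) (Nat.ble 54 i)) (Nat.ble 52 i)) (Bool.rec (motive := fun _ => List ℕ) (Bool.rec (motive := fun _ => List ℕ) (Bool.rec (motive := fun _ => List ℕ) (bw56) (bw57) (Nat.ble 57 i)) (Bool.rec (motive := fun _ => List ℕ) (bw58) (bw59) (Nat.ble 59 i)) (Nat.ble 58 i)) (Bool.rec (motive := fun _ => List ℕ) (Bool.rec (motive := fun _ => List ℕ) (bw60) (bw61) (Nat.ble 61 i)) (Bool.rec (motive := fun _ => List ℕ) (bw62) (bw63) (Nat.ble 63 i)) (Nat.ble 62 i)) (Nat.ble 60 i)) (Nat.ble 56 i)) (Nat.ble 48 i)) (Nat.ble 32 i)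
noncomputable def bwb1 (i : ℕ) : List ℕ := Bool.rec (motive := fun _ => List ℕ) (Bool.rec (motive := fun _ => List ℕ) (Bool.rec (motive := fun _ => List ℕ) (Bool.rec (motive := fun _ => List ℕ) (Bool.rec (motive := fun _ => List ℕ) (Bool.rec (motive := fun _ => List ℕ) (bw64) (bw65) (Nat.ble 65 i)) (Bool.rec (motive := fun _ => List ℕ) (bw66) (bw67) (Nat.ble 67 i)) (Nat.ble 66 i)) (Bool.rec (motive := fun _ => List ℕ) (Bool.rec (motive := fun _ => List ℕ) (bw68) (bw69) (Nat.ble 69 i)) (Bool.rec (motive := fun _ => List ℕ) (bw70) (bw71) (Nat.ble 71 i)) (Nat.ble 70 i)) (Nat.ble 68 i)) (Bool.rec (motive := fun _ => List ℕ) (Bool.rec (motive := fun _ => List ℕ) (Bool.rec (motive := fun _ => List ℕ) (bw72) (bw73) (Nat.ble 73 i)) (Bool.rec (motive := fun _ => List ℕ) (bw74) (bw75) (Nat.ble 75 i)) (Nat.ble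 74 i)) (Bool.rec (motive := fun _ => List ℕ) (Bool.rec (motive := fun _ => List ℕ) (bw76) (bw77) (Nat.ble 77 i)) (Bool.rec (motive := fun _ => List ℕ) (bw78) (bw79) (Nat.ble 79 i)) (Nat.ble 78 i)) (Nat.ble 76 i)) (Nat.ble 72 i)) (Bool.rec (motive := fun _ => List ℕ) (Bool.rec (motive := fun _ => List ℕ) (Bool.rec (motive := fun _ => List ℕ) (Bool.rec (motive := fun _ => List ℕ) (bw80) (bw81) (Nat.ble 81 i)) (Bool.rec (motive := fun _ => List ℕ) (bw82) (bw83) (Nat.ble 83 i)) (Nat.ble 82 i)) (Bool.rec (motive := fun _ => List ℕ) (Bool.rec (motive := fun _ => List ℕ) (bw84) (bw85) (Nat.ble 85 i)) (Bool.rec (motive := fun _ => List ℕ) (bw86) (bw87) (Nat.ble 87 i)) (Nat.ble 86 i)) (Nat.ble 84 i)) (Bool.rec (motive := fun _ => List ℕ) (Bool.rec (motive := fun _ => List ℕ) (Bool.rec (motive := fun _ => List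 ℕ) (bw88) (bw89) (Nat.ble 89 i)) (Bool.rec (motive := fun _ => List ℕ) (bw90) (bw91) (Nat.ble 91 i)) (Nat.ble 90 i)) (Bool.rec (motive := fun _ => List ℕ) (Bool.rec (motive := fun _ => List ℕ) (bw92) (bw93) (Nat.ble 93 i)) (Bool.rec (motive := fun _ => List ℕ) (bw94) (bw95) (Nat.ble 95 i)) (Nat.ble 94 i)) (Nat.ble 92 i)) (Nat.ble 88 i)) (Nat.ble 80 i)) (Bool.rec (motive := fun _ => List ℕ) (Bool.rec (motive := fun _ => List ℕ) (Bool.rec (motive := fun _ => List ℕ) (Bool.rec (motive := fun _ => List ℕ) (Bool.rec (motive := fun _ => List ℕ) (bw96) (bw97) (Nat.ble 97 i)) (Bool.rec (motive := fun _ => List ℕ) (bw98) (bw99) (Nat.ble 99 i)) (Nat.ble 98 i)) (Bool.rec (motive := fun _ => List ℕ) (Bool.rec (motive := fun _ => List ℕ) (bw100) (bw101) (Nat.ble 101 i)) (Bool.rec (motive := fun _ => List ℕ) (bw102)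 (bw103) (Nat.ble 103 i)) (Nat.ble 102 i)) (Nat.ble 100 i)) (Bool.rec (motive := fun _ => List ℕ) (Bool.rec (motive := fun _ => List ℕ) (Bool.rec (motive := fun _ => List ℕ) (bw104) (bw105) (Nat.ble 105 i)) (Bool.rec (motive := fun _ => List ℕ) (bw106) (bw107) (Nat.ble 107 i)) (Nat.ble 106 i)) (Bool.rec (motive := fun _ => List ℕ) (Bool.rec (motive := fun _ => List ℕ) (bw108) (bw109) (Nat.ble 109 i)) (Bool.rec (motive := fun _ => List ℕ) (bw110) (bw111) (Nat.ble 111 i)) (Nat.ble 110 i)) (Nat.ble 108 i)) (Nat.ble 104 i)) (Bool.rec (motive := fun _ => List ℕ) (Bool.rec (motive := fun _ => List ℕ) (Bool.rec (motive := fun _ => List ℕ) (Bool.rec (motive := fun _ => List ℕ) (bw112) (bw113) (Nat.ble 113 i)) (Bool.rec (motive := fun _ => List ℕ) (bw114) (bw115) (Nat.ble 115 i)) (Nat.ble 114 i)) (Bool.rec (motive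 := fun _ => List ℕ) (Bool.rec (motive := fun _ => List ℕ) (bw116) (bw117) (Nat.ble 117 i)) (Bool.rec (motive := fun _ => List ℕ) (bw118) (bw119) (Nat.ble 119 i)) (Nat.ble 118 i)) (Nat.ble 116 i)) (Bool.rec (motive := fun _ => List ℕ) (Bool.rec (motive := fun _ => List ℕ) (Bool.rec (motive := fun _ => List ℕ) (bw120) (bw121) (Nat.ble 121 i)) (Bool.rec (motive := fun _ => List ℕ) (bw122) (bw123) (Nat.ble 123 i)) (Nat.ble 122 i)) (Bool.rec (motive := fun _ => List ℕ) (Bool.rec (motive := fun _ => List ℕ) (bw124) (bw125) (Nat.ble 125 i)) (Bool.rec (motive := fun _ => List ℕ) (bw126) (bw127) (Nat.ble 127 i)) (Nat.ble 126 i)) (Nat.ble 124 i)) (Nat.ble 120 i)) (Nat.ble 112 i)) (Nat.ble 96 i)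
noncomputable def bwb2 (i : ℕ) : List ℕ := Bool.rec (motive := fun _ => List ℕ) (Bool.rec (motive := fun _ => List ℕ) (Bool.rec (motive := fun _ => List ℕ) (Bool.rec (motive := fun _ => List ℕ) (Bool.rec (motive := fun _ => List ℕ) (Bool.rec (motive := fun _ => List ℕ) (bw128) (bw129) (Nat.ble 129 i)) (Bool.rec (motive := fun _ => List ℕ) (bw130) (bw131) (Nat.ble 131 i)) (Nat.ble 130 i)) (Bool.rec (motive := fun _ => List ℕ) (Bool.rec (motive := fun _ => List ℕ) (bw132) (bw133) (Nat.ble 133 i)) (Bool.rec (motive := fun _ => List ℕ) (bw134) (bw135) (Nat.ble 135 i)) (Nat.ble 134 i)) (Nat.ble 132 i)) (Bool.rec (motive := fun _ => List ℕ) (Bool.rec (motive := fun _ => List ℕ) (Bool.rec (motive := fun _ => List ℕ) (bw136) (bw137) (Nat.ble 137 i)) (Bool.rec (motive := fun _ => List ℕ) (bw138) (bw139) (Nat.ble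 139 i)) (Nat.ble 138 i)) (Bool.rec (motive := fun _ => List ℕ) (Bool.rec (motive := fun _ => List ℕ) (bw140) (bw141) (Nat.ble 141 i)) (Bool.rec (motive := fun _ => List ℕ) (bw142) (bw143) (Nat.ble 143 i)) (Nat.ble 142 i)) (Nat.ble 140 i)) (Nat.ble 136 i)) (Bool.rec (motive := fun _ => List ℕ) (Bool.rec (motive := fun _ => List ℕ) (Bool.rec (motive := fun _ => List ℕ) (Bool.rec (motive := fun _ => List ℕ) (bw144) (bw145) (Nat.ble 145 i)) (Bool.rec (motive := fun _ => List ℕ) (bw146) (bw147) (Nat.ble 147 i)) (Nat.ble 146 i)) (Bool.rec (motive := fun _ => List ℕ) (Bool.rec (motive := fun _ => List ℕ) (bw148) (bw149) (Nat.ble 149 i)) (Bool.rec (motive := fun _ => List ℕ) (bw150) (bw151) (Nat.ble 151 i)) (Nat.ble 150 i)) (Nat.ble 148 i)) (Bool.rec (motive := fun _ => List ℕ) (Bool.rec (motive := fun _ =>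 List ℕ) (Bool.rec (motive := fun _ => List ℕ) (bw152) (bw153) (Nat.ble 153 i)) (Bool.rec (motive := fun _ => List ℕ) (bw154) (bw155) (Nat.ble 155 i)) (Nat.ble 154 i)) (Bool.rec (motive := fun _ => List ℕ) (Bool.rec (motive := fun _ => List ℕ) (bw156) (bw157) (Nat.ble 157 i)) (Bool.rec (motive := fun _ => List ℕ) (bw158) (bw159) (Nat.ble 159 i)) (Nat.ble 158 i)) (Nat.ble 156 i)) (Nat.ble 152 i)) (Nat.ble 144 i)) (Bool.rec (motive := fun _ => List ℕ) (Bool.rec (motive := fun _ => List ℕ) (Bool.rec (motive := fun _ => List ℕ) (Bool.rec (motive := fun _ => List ℕ) (Bool.rec (motive := fun _ => List ℕ) (bw160) (bw161) (Nat.ble 161 i)) (Bool.rec (motive := fun _ => List ℕ) (bw162) (bw163) (Nat.ble 163 i)) (Nat.ble 162 i)) (Bool.rec (motive := fun _ => List ℕ) (Bool.rec (motive := fun _ => List ℕ) (bw164) (bw165)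 (Nat.ble 165 i)) (Bool.rec (motive := fun _ => List ℕ) (bw166) (bw167) (Nat.ble 167 i)) (Nat.ble 166 i)) (Nat.ble 164 i)) (Bool.rec (motive := fun _ => List ℕ) (Bool.rec (motive := fun _ => List ℕ) (Bool.rec (motive := fun _ => List ℕ) (bw168) (bw169) (Nat.ble 169 i)) (Bool.rec (motive := fun _ => List ℕ) (bw170) (bw171) (Nat.ble 171 i)) (Nat.ble 170 i)) (Bool.rec (motive := fun _ => List ℕ) (Bool.rec (motive := fun _ => List ℕ) (bw172) (bw173) (Nat.ble 173 i)) (Bool.rec (motive := fun _ => List ℕ) (bw174) (bw175) (Nat.ble 175 i)) (Nat.ble 174 i)) (Nat.ble 172 i)) (Nat.ble 168 i)) (Bool.rec (motive := fun _ => List ℕ) (Bool.rec (motive := fun _ => List ℕ) (Bool.rec (motive := fun _ => List ℕ) (Bool.rec (motive := fun _ => List ℕ) (bw176) (bw177) (Nat.ble 177 i)) (Bool.rec (motive := fun _ => List ℕ)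 (bw178) (bw179) (Nat.ble 179 i)) (Nat.ble 178 i)) (Bool.rec (motive := fun _ => List ℕ) (Bool.rec (motive := fun _ => List ℕ) (bw180) (bw181) (Nat.ble 181 i)) (Bool.rec (motive := fun _ => List ℕ) (bw182) (bw183) (Nat.ble 183 i)) (Nat.ble 182 i)) (Nat.ble 180 i)) (Bool.rec (motive := fun _ => List ℕ) (Bool.rec (motive := fun _ => List ℕ) (Bool.rec (motive := fun _ => List ℕ) (bw184) (bw185) (Nat.ble 185 i)) (Bool.rec (motive := fun _ => List ℕ) (bw186) (bw187) (Nat.ble 187 i)) (Nat.ble 186 i)) (Bool.rec (motive := fun _ => List ℕ) (Bool.rec (motive := fun _ => List ℕ) (bw188) (bw189) (Nat.ble 189 i)) (Bool.rec (motive := fun _ => List ℕ) (bw190) (bw191) (Nat.ble 191 i)) (Nat.ble 190 i)) (Nat.ble 188 i)) (Nat.ble 184 i)) (Nat.ble 176 i)) (Nat.ble 160 i)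
noncomputable def bwb3 (i : ℕ) : List ℕ := Bool.rec (motive := fun _ => List ℕ) (Bool.rec (motive := fun _ => List ℕ) (Bool.rec (motive := fun _ => List ℕ) (Bool.rec (motive := fun _ => List ℕ) (Bool.rec (motive := fun _ => List ℕ) (Bool.rec (motive := fun _ => List ℕ) (bw192) (bw193) (Nat.ble 193 i)) (Bool.rec (motive := fun _ => List ℕ) (bw194) (bw195) (Nat.ble 195 i)) (Nat.ble 194 i)) (Bool.rec (motive := fun _ => List ℕ) (Bool.rec (motive := fun _ => List ℕ) (bw196) (bw197) (Nat.ble 197 i)) (Bool.rec (motive := fun _ => List ℕ) (bw198) (bw199) (Nat.ble 199 i)) (Nat.ble 198 i)) (Nat.ble 196 i)) (Bool.rec (motive := fun _ => List ℕ) (Bool.rec (motive := fun _ => List ℕ) (Bool.rec (motive := fun _ => List ℕ) (bw200) (bw201) (Nat.ble 201 i)) (Bool.rec (motive := fun _ => List ℕ) (bw202) (bw203) (Nat.ble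 203 i)) (Nat.ble 202 i)) (Bool.rec (motive := fun _ => List ℕ) (Bool.rec (motive := fun _ => List ℕ) (bw204) (bw205) (Nat.ble 205 i)) (Bool.rec (motive := fun _ => List ℕ) (bw206) (bw207) (Nat.ble 207 i)) (Nat.ble 206 i)) (Nat.ble 204 i)) (Nat.ble 200 i)) (Bool.rec (motive := fun _ => List ℕ) (Bool.rec (motive := fun _ => List ℕ) (Bool.rec (motive := fun _ => List ℕ) (Bool.rec (motive := fun _ => List ℕ) (bw208) (bw209) (Nat.ble 209 i)) (Bool.rec (motive := fun _ => List ℕ) (bw210) (bw211) (Nat.ble 211 i)) (Nat.ble 210 i)) (Bool.rec (motive := fun _ => List ℕ) (Bool.rec (motive := fun _ => List ℕ) (bw212) (bw213) (Nat.ble 213 i)) (Bool.rec (motive := fun _ => List ℕ) (bw214) (bw215) (Nat.ble 215 i)) (Nat.ble 214 i)) (Nat.ble 212 i)) (Bool.rec (motive := fun _ => List ℕ) (Bool.rec (motive := fun _ =>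 List ℕ) (Bool.rec (motive := fun _ => List ℕ) (bw216) (bw217) (Nat.ble 217 i)) (Bool.rec (motive := fun _ => List ℕ) (bw218) (bw219) (Nat.ble 219 i)) (Nat.ble 218 i)) (Bool.rec (motive := fun _ => List ℕ) (Bool.rec (motive := fun _ => List ℕ) (bw220) (bw221) (Nat.ble 221 i)) (Bool.rec (motive := fun _ => List ℕ) (bw222) (bw223) (Nat.ble 223 i)) (Nat.ble 222 i)) (Nat.ble 220 i)) (Nat.ble 216 i)) (Nat.ble 208 i)) (Bool.rec (motive := fun _ => List ℕ) (Bool.rec (motive := fun _ => List ℕ) (Bool.rec (motive := fun _ => List ℕ) (Bool.rec (motive := fun _ => List ℕ) (Bool.rec (motive := fun _ => List ℕ) (bw224) (bw225) (Nat.ble 225 i)) (Bool.rec (motive := fun _ => List ℕ) (bw226) (bw227) (Nat.ble 227 i)) (Nat.ble 226 i)) (Bool.rec (motive := fun _ => List ℕ) (Bool.rec (motive := fun _ => List ℕ) (bw228) (bw229)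 (Nat.ble 229 i)) (Bool.rec (motive := fun _ => List ℕ) (bw230) (bw231) (Nat.ble 231 i)) (Nat.ble 230 i)) (Nat.ble 228 i)) (Bool.rec (motive := fun _ => List ℕ) (Bool.rec (motive := fun _ => List ℕ) (Bool.rec (motive := fun _ => List ℕ) (bw232) (bw233) (Nat.ble 233 i)) (Bool.rec (motive := fun _ => List ℕ) (bw234) (bw235) (Nat.ble 235 i)) (Nat.ble 234 i)) (Bool.rec (motive := fun _ => List ℕ) (Bool.rec (motive := fun _ => List ℕ) (bw236) (bw237) (Nat.ble 237 i)) (Bool.rec (motive := fun _ => List ℕ) (bw238) (bw239) (Nat.ble 239 i)) (Nat.ble 238 i)) (Nat.ble 236 i)) (Nat.ble 232 i)) (Bool.rec (motive := fun _ => List ℕ) (Bool.rec (motive := fun _ => List ℕ) (Bool.rec (motive := fun _ => List ℕ) (Bool.rec (motive := fun _ => List ℕ) (bw240) (bw241) (Nat.ble 241 i)) (Bool.rec (motive := fun _ => List ℕ)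 (bw242) (bw243) (Nat.ble 243 i)) (Nat.ble 242 i)) (Bool.rec (motive := fun _ => List ℕ) (Bool.rec (motive := fun _ => List ℕ) (bw244) (bw245) (Nat.ble 245 i)) (Bool.rec (motive := fun _ => List ℕ) (bw246) (bw247) (Nat.ble 247 i)) (Nat.ble 246 i)) (Nat.ble 244 i)) (Bool.rec (motive := fun _ => List ℕ) (Bool.rec (motive := fun _ => List ℕ) (Bool.rec (motive := fun _ => List ℕ) (bw248) (bw249) (Nat.ble 249 i)) (Bool.rec (motive := fun _ => List ℕ) (bw250) (bw251) (Nat.ble 251 i)) (Nat.ble 250 i)) (Bool.rec (motive := fun _ => List ℕ) (Bool.rec (motive := fun _ => List ℕ) (bw252) (bw253) (Nat.ble 253 i)) (Bool.rec (motive := fun _ => List ℕ) (bw254) (bw255) (Nat.ble 255 i)) (Nat.ble 254 i)) (Nat.ble 252 i)) (Nat.ble 248 i)) (Nat.ble 240 i)) (Nat.ble 224 i)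
noncomputable def bwb4 (i : ℕ) : List ℕ := Bool.rec (motive := fun _ => List ℕ) (Bool.rec (motive := fun _ => List ℕ) (Bool.rec (motive := fun _ => List ℕ) (Bool.rec (motive := fun _ => List ℕ) (Bool.rec (motive := fun _ => List ℕ) (Bool.rec (motive := fun _ => List ℕ) (bw256) (bw257) (Nat.ble 257 i)) (Bool.rec (motive := fun _ => List ℕ) (bw258) (bw259) (Nat.ble 259 i)) (Nat.ble 258 i)) (Bool.rec (motive := fun _ => List ℕ) (Bool.rec (motive := fun _ => List ℕ) (bw260) (bw261) (Nat.ble 261 i)) (Bool.rec (motive := fun _ => List ℕ) (bw262) (bw263) (Nat.ble 263 i)) (Nat.ble 262 i)) (Nat.ble 260 i)) (Bool.rec (motive := fun _ => List ℕ) (Bool.rec (motive := fun _ => List ℕ) (Bool.rec (motive := fun _ => List ℕ) (bw264) (bw265) (Nat.ble 265 i)) (Bool.rec (motive := fun _ => List ℕ) (bw266) (bw267) (Nat.ble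 267 i)) (Nat.ble 266 i)) (Bool.rec (motive := fun _ => List ℕ) (Bool.rec (motive := fun _ => List ℕ) (bw268) (bw269) (Nat.ble 269 i)) (Bool.rec (motive := fun _ => List ℕ) (bw270) (bw271) (Nat.ble 271 i)) (Nat.ble 270 i)) (Nat.ble 268 i)) (Nat.ble 264 i)) (Bool.rec (motive := fun _ => List ℕ) (Bool.rec (motive := fun _ => List ℕ) (Bool.rec (motive := fun _ => List ℕ) (Bool.rec (motive := fun _ => List ℕ) (bw272) (bw273) (Nat.ble 273 i)) (Bool.rec (motive := fun _ => List ℕ) (bw274) (bw275) (Nat.ble 275 i)) (Nat.ble 274 i)) (Bool.rec (motive := fun _ => List ℕ) (Bool.rec (motive := fun _ => List ℕ) (bw276) (bw277) (Nat.ble 277 i)) (Bool.rec (motive := fun _ => List ℕ) (bw278) (bw279) (Nat.ble 279 i)) (Nat.ble 278 i)) (Nat.ble 276 i)) (Bool.rec (motive := fun _ => List ℕ) (Bool.rec (motive := fun _ =>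 List ℕ) (Bool.rec (motive := fun _ => List ℕ) (bw280) (bw281) (Nat.ble 281 i)) (Bool.rec (motive := fun _ => List ℕ) (bw282) (bw283) (Nat.ble 283 i)) (Nat.ble 282 i)) (Bool.rec (motive := fun _ => List ℕ) (Bool.rec (motive := fun _ => List ℕ) (bw284) (bw285) (Nat.ble 285 i)) (Bool.rec (motive := fun _ => List ℕ) (bw286) (bw287) (Nat.ble 287 i)) (Nat.ble 286 i)) (Nat.ble 284 i)) (Nat.ble 280 i)) (Nat.ble 272 i)) (Bool.rec (motive := fun _ => List ℕ) (Bool.rec (motive := fun _ => List ℕ) (Bool.rec (motive := fun _ => List ℕ) (Bool.rec (motive := fun _ => List ℕ) (Bool.rec (motive := fun _ => List ℕ) (bw288) (bw289) (Nat.ble 289 i)) (Bool.rec (motive := fun _ => List ℕ) (bw290) (bw291) (Nat.ble 291 i)) (Nat.ble 290 i)) (Bool.rec (motive := fun _ => List ℕ) (Bool.rec (motive := fun _ => List ℕ) (bw292) (bw293)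 (Nat.ble 293 i)) (Bool.rec (motive := fun _ => List ℕ) (bw294) (bw295) (Nat.ble 295 i)) (Nat.ble 294 i)) (Nat.ble 292 i)) (Bool.rec (motive := fun _ => List ℕ) (Bool.rec (motive := fun _ => List ℕ) (Bool.rec (motive := fun _ => List ℕ) (bw296) (bw297) (Nat.ble 297 i)) (Bool.rec (motive := fun _ => List ℕ) (bw298) (bw299) (Nat.ble 299 i)) (Nat.ble 298 i)) (Bool.rec (motive := fun _ => List ℕ) (Bool.rec (motive := fun _ => List ℕ) (bw300) (bw301) (Nat.ble 301 i)) (Bool.rec (motive := fun _ => List ℕ) (bw302) (bw303) (Nat.ble 303 i)) (Nat.ble 302 i)) (Nat.ble 300 i)) (Nat.ble 296 i)) (Bool.rec (motive := fun _ => List ℕ) (Bool.rec (motive := fun _ => List ℕ) (Bool.rec (motive := fun _ => List ℕ) (Bool.rec (motive := fun _ => List ℕ) (bw304) (bw305) (Nat.ble 305 i)) (Bool.rec (motive := fun _ => List ℕ)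 (bw306) (bw307) (Nat.ble 307 i)) (Nat.ble 306 i)) (Bool.rec (motive := fun _ => List ℕ) (Bool.rec (motive := fun _ => List ℕ) (bw308) (bw309) (Nat.ble 309 i)) (Bool.rec (motive := fun _ => List ℕ) (bw310) (bw311) (Nat.ble 311 i)) (Nat.ble 310 i)) (Nat.ble 308 i)) (Bool.rec (motive := fun _ => List ℕ) (Bool.rec (motive := fun _ => List ℕ) (Bool.rec (motive := fun _ => List ℕ) (bw312) (bw313) (Nat.ble 313 i)) (Bool.rec (motive := fun _ => List ℕ) (bw314) (bw315) (Nat.ble 315 i)) (Nat.ble 314 i)) (Bool.rec (motive := fun _ => List ℕ) (Bool.rec (motive := fun _ => List ℕ) (bw316) (bw317) (Nat.ble 317 i)) (Bool.rec (motive := fun _ => List ℕ) (bw318) (bw319) (Nat.ble 319 i)) (Nat.ble 318 i)) (Nat.ble 316 i)) (Nat.ble 312 i)) (Nat.ble 304 i)) (Nat.ble 288 i)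
noncomputable def bwb5 (i : ℕ) : List ℕ := Bool.rec (motive := fun _ => List ℕ) (Bool.rec (motive := fun _ => List ℕ) (Bool.rec (motive := fun _ => List ℕ) (Bool.rec (motive := fun _ => List ℕ) (Bool.rec (motive := fun _ => List ℕ) (Bool.rec (motive := fun _ => List ℕ) (bw320) (bw321) (Nat.ble 321 i)) (Bool.rec (motive := fun _ => List ℕ) (bw322) (bw323) (Nat.ble 323 i)) (Nat.ble 322 i)) (Bool.rec (motive := fun _ => List ℕ) (Bool.rec (motive := fun _ => List ℕ) (bw324) (bw325) (Nat.ble 325 i)) (Bool.rec (motive := fun _ => List ℕ) (bw326) (bw327) (Nat.ble 327 i)) (Nat.ble 326 i)) (Nat.ble 324 i)) (Bool.rec (motive := fun _ => List ℕ) (Bool.rec (motive := fun _ => List ℕ) (Bool.rec (motive := fun _ => List ℕ) (bw328) (bw329) (Nat.ble 329 i)) (Bool.rec (motive := fun _ => List ℕ) (bw330) (bw331) (Nat.ble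 331 i)) (Nat.ble 330 i)) (Bool.rec (motive := fun _ => List ℕ) (Bool.rec (motive := fun _ => List ℕ) (bw332) (bw333) (Nat.ble 333 i)) (Bool.rec (motive := fun _ => List ℕ) (bw334) (bw335) (Nat.ble 335 i)) (Nat.ble 334 i)) (Nat.ble 332 i)) (Nat.ble 328 i)) (Bool.rec (motive := fun _ => List ℕ) (Bool.rec (motive := fun _ => List ℕ) (Bool.rec (motive := fun _ => List ℕ) (Bool.rec (motive := fun _ => List ℕ) (bw336) (bw337) (Nat.ble 337 i)) (Bool.rec (motive := fun _ => List ℕ) (bw338) (bw339) (Nat.ble 339 i)) (Nat.ble 338 i)) (Bool.rec (motive := fun _ => List ℕ) (Bool.rec (motive := fun _ => List ℕ) (bw340) (bw341) (Nat.ble 341 i)) (Bool.rec (motive := fun _ => List ℕ) (bw342) (bw343) (Nat.ble 343 i)) (Nat.ble 342 i)) (Nat.ble 340 i)) (Bool.rec (motive := fun _ => List ℕ) (Bool.rec (motive := fun _ =>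 List ℕ) (Bool.rec (motive := fun _ => List ℕ) (bw344) (bw345) (Nat.ble 345 i)) (Bool.rec (motive := fun _ => List ℕ) (bw346) (bw347) (Nat.ble 347 i)) (Nat.ble 346 i)) (Bool.rec (motive := fun _ => List ℕ) (Bool.rec (motive := fun _ => List ℕ) (bw348) (bw349) (Nat.ble 349 i)) (Bool.rec (motive := fun _ => List ℕ) (bw350) (bw351) (Nat.ble 351 i)) (Nat.ble 350 i)) (Nat.ble 348 i)) (Nat.ble 344 i)) (Nat.ble 336 i)) (Bool.rec (motive := fun _ => List ℕ) (Bool.rec (motive := fun _ => List ℕ) (Bool.rec (motive := fun _ => List ℕ) (Bool.rec (motive := fun _ => List ℕ) (Bool.rec (motive := fun _ => List ℕ) (bw352) (bw353) (Nat.ble 353 i)) (Bool.rec (motive := fun _ => List ℕ) (bw354) (bw355) (Nat.ble 355 i)) (Nat.ble 354 i)) (Bool.rec (motive := fun _ => List ℕ) (Bool.rec (motive := fun _ => List ℕ) (bw356) (bw357)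 (Nat.ble 357 i)) (Bool.rec (motive := fun _ => List ℕ) (bw358) (bw359) (Nat.ble 359 i)) (Nat.ble 358 i)) (Nat.ble 356 i)) (Bool.rec (motive := fun _ => List ℕ) (Bool.rec (motive := fun _ => List ℕ) (Bool.rec (motive := fun _ => List ℕ) (bw360) (bw361) (Nat.ble 361 i)) (Bool.rec (motive := fun _ => List ℕ) (bw362) (bw363) (Nat.ble 363 i)) (Nat.ble 362 i)) (Bool.rec (motive := fun _ => List ℕ) (Bool.rec (motive := fun _ => List ℕ) (bw364) (bw365) (Nat.ble 365 i)) (Bool.rec (motive := fun _ => List ℕ) (bw366) (bw367) (Nat.ble 367 i)) (Nat.ble 366 i)) (Nat.ble 364 i)) (Nat.ble 360 i)) (Bool.rec (motive := fun _ => List ℕ) (Bool.rec (motive := fun _ => List ℕ) (Bool.rec (motive := fun _ => List ℕ) (Bool.rec (motive := fun _ => List ℕ) (bw368) (bw369) (Nat.ble 369 i)) (Bool.rec (motive := fun _ => List ℕ)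 (bw370) (bw371) (Nat.ble 371 i)) (Nat.ble 370 i)) (Bool.rec (motive := fun _ => List ℕ) (Bool.rec (motive := fun _ => List ℕ) (bw372) (bw373) (Nat.ble 373 i)) (Bool.rec (motive := fun _ => List ℕ) (bw374) (bw375) (Nat.ble 375 i)) (Nat.ble 374 i)) (Nat.ble 372 i)) (Bool.rec (motive := fun _ => List ℕ) (Bool.rec (motive := fun _ => List ℕ) (Bool.rec (motive := fun _ => List ℕ) (bw376) (bw377) (Nat.ble 377 i)) (Bool.rec (motive := fun _ => List ℕ) (bw378) (bw379) (Nat.ble 379 i)) (Nat.ble 378 i)) (Bool.rec (motive := fun _ => List ℕ) (Bool.rec (motive := fun _ => List ℕ) (bw380) (bw381) (Nat.ble 381 i)) (Bool.rec (motive := fun _ => List ℕ) (bw382) (bw383) (Nat.ble 383 i)) (Nat.ble 382 i)) (Nat.ble 380 i)) (Nat.ble 376 i)) (Nat.ble 368 i)) (Nat.ble 352 i)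
noncomputable def bwb6 (i : ℕ) : List ℕ := Bool.rec (motive := fun _ => List ℕ) (Bool.rec (motive := fun _ => List ℕ) (Bool.rec (motive := fun _ => List ℕ) (Bool.rec (motive := fun _ => List ℕ) (Bool.rec (motive := fun _ => List ℕ) (Bool.rec (motive := fun _ => List ℕ) (bw384) (bw385) (Nat.ble 385 i)) (Bool.rec (motive := fun _ => List ℕ) (bw386) (bw387) (Nat.ble 387 i)) (Nat.ble 386 i)) (Bool.rec (motive := fun _ => List ℕ) (Bool.rec (motive := fun _ => List ℕ) (bw388) (bw389) (Nat.ble 389 i)) (Bool.rec (motive := fun _ => List ℕ) (bw390) (bw391) (Nat.ble 391 i)) (Nat.ble 390 i)) (Nat.ble 388 i)) (Bool.rec (motive := fun _ => List ℕ) (Bool.rec (motive := fun _ => List ℕ) (Bool.rec (motive := fun _ => List ℕ) (bw392) (bw393) (Nat.ble 393 i)) (Bool.rec (motive := fun _ => List ℕ) (bw394) (bw395) (Nat.ble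 395 i)) (Nat.ble 394 i)) (Bool.rec (motive := fun _ => List ℕ) (Bool.rec (motive := fun _ => List ℕ) (bw396) (bw397) (Nat.ble 397 i)) (Bool.rec (motive := fun _ => List ℕ) (bw398) (bw399) (Nat.ble 399 i)) (Nat.ble 398 i)) (Nat.ble 396 i)) (Nat.ble 392 i)) (Bool.rec (motive := fun _ => List ℕ) (Bool.rec (motive := fun _ => List ℕ) (Bool.rec (motive := fun _ => List ℕ) (Bool.rec (motive := fun _ => List ℕ) (bw400) (bw401) (Nat.ble 401 i)) (Bool.rec (motive := fun _ => List ℕ) (bw402) (bw403) (Nat.ble 403 i)) (Nat.ble 402 i)) (Bool.rec (motive := fun _ => List ℕ) (Bool.rec (motive := fun _ => List ℕ) (bw404) (bw405) (Nat.ble 405 i)) (Bool.rec (motive := fun _ => List ℕ) (bw406) (bw407) (Nat.ble 407 i)) (Nat.ble 406 i)) (Nat.ble 404 i)) (Bool.rec (motive := fun _ => List ℕ) (Bool.rec (motive := fun _ =>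 List ℕ) (Bool.rec (motive := fun _ => List ℕ) (bw408) (bw409) (Nat.ble 409 i)) (Bool.rec (motive := fun _ => List ℕ) (bw410) (bw411) (Nat.ble 411 i)) (Nat.ble 410 i)) (Bool.rec (motive := fun _ => List ℕ) (Bool.rec (motive := fun _ => List ℕ) (bw412) (bw413) (Nat.ble 413 i)) (Bool.rec (motive := fun _ => List ℕ) (bw414) (bw415) (Nat.ble 415 i)) (Nat.ble 414 i)) (Nat.ble 412 i)) (Nat.ble 408 i)) (Nat.ble 400 i)) (Bool.rec (motive := fun _ => List ℕ) (Bool.rec (motive := fun _ => List ℕ) (Bool.rec (motive := fun _ => List ℕ) (Bool.rec (motive := fun _ => List ℕ) (Bool.rec (motive := fun _ => List ℕ) (bw416) (bw417) (Nat.ble 417 i)) (Bool.rec (motive := fun _ => List ℕ) (bw418) (bw419) (Nat.ble 419 i)) (Nat.ble 418 i)) (Bool.rec (motive := fun _ => List ℕ) (Bool.rec (motive := fun _ => List ℕ) (bw420) (bw421)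 (Nat.ble 421 i)) (Bool.rec (motive := fun _ => List ℕ) (bw422) (bw423) (Nat.ble 423 i)) (Nat.ble 422 i)) (Nat.ble 420 i)) (Bool.rec (motive := fun _ => List ℕ) (Bool.rec (motive := fun _ => List ℕ) (Bool.rec (motive := fun _ => List ℕ) (bw424) (bw425) (Nat.ble 425 i)) (Bool.rec (motive := fun _ => List ℕ) (bw426) (bw427) (Nat.ble 427 i)) (Nat.ble 426 i)) (Bool.rec (motive := fun _ => List ℕ) (Bool.rec (motive := fun _ => List ℕ) (bw428) (bw429) (Nat.ble 429 i)) (Bool.rec (motive := fun _ => List ℕ) (bw430) (bw431) (Nat.ble 431 i)) (Nat.ble 430 i)) (Nat.ble 428 i)) (Nat.ble 424 i)) (Bool.rec (motive := fun _ => List ℕ) (Bool.rec (motive := fun _ => List ℕ) (Bool.rec (motive := fun _ => List ℕ) (Bool.rec (motive := fun _ => List ℕ) (bw432) (bw433) (Nat.ble 433 i)) (Bool.rec (motive := fun _ => List ℕ)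 (bw434) (bw435) (Nat.ble 435 i)) (Nat.ble 434 i)) (Bool.rec (motive := fun _ => List ℕ) (Bool.rec (motive := fun _ => List ℕ) (bw436) (bw437) (Nat.ble 437 i)) (Bool.rec (motive := fun _ => List ℕ) (bw438) (bw439) (Nat.ble 439 i)) (Nat.ble 438 i)) (Nat.ble 436 i)) (Bool.rec (motive := fun _ => List ℕ) (Bool.rec (motive := fun _ => List ℕ) (Bool.rec (motive := fun _ => List ℕ) (bw440) (bw441) (Nat.ble 441 i)) (Bool.rec (motive := fun _ => List ℕ) (bw442) (bw443) (Nat.ble 443 i)) (Nat.ble 442 i)) (Bool.rec (motive := fun _ => List ℕ) (Bool.rec (motive := fun _ => List ℕ) (bw444) (bw445) (Nat.ble 445 i)) (Bool.rec (motive := fun _ => List ℕ) (bw446) (bw447) (Nat.ble 447 i)) (Nat.ble 446 i)) (Nat.ble 444 i)) (Nat.ble 440 i)) (Nat.ble 432 i)) (Nat.ble 416 i)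
noncomputable def bwb7 (i : ℕ) : List ℕ := Bool.rec (motive := fun _ => List ℕ) (Bool.rec (motive := fun _ => List ℕ) (Bool.rec (motive := fun _ => List ℕ) (Bool.rec (motive := fun _ => List ℕ) (Bool.rec (motive := fun _ => List ℕ) (Bool.rec (motive := fun _ => List ℕ) (bw448) (bw449) (Nat.ble 449 i)) (Bool.rec (motive := fun _ => List ℕ) (bw450) (bw451) (Nat.ble 451 i)) (Nat.ble 450 i)) (Bool.rec (motive := fun _ => List ℕ) (Bool.rec (motive := fun _ => List ℕ) (bw452) (bw453) (Nat.ble 453 i)) (Bool.rec (motive := fun _ => List ℕ) (bw454) (bw455) (Nat.ble 455 i)) (Nat.ble 454 i)) (Nat.ble 452 i)) (Bool.rec (motive := fun _ => List ℕ) (Bool.rec (motive := fun _ => List ℕ) (Bool.rec (motive := fun _ => List ℕ) (bw456) (bw457) (Nat.ble 457 i)) (Bool.rec (motive := fun _ => List ℕ) (bw458) (bw459) (Nat.ble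 459 i)) (Nat.ble 458 i)) (Bool.rec (motive := fun _ => List ℕ) (Bool.rec (motive := fun _ => List ℕ) (bw460) (bw461) (Nat.ble 461 i)) (Bool.rec (motive := fun _ => List ℕ) (bw462) (bw463) (Nat.ble 463 i)) (Nat.ble 462 i)) (Nat.ble 460 i)) (Nat.ble 456 i)) (Bool.rec (motive := fun _ => List ℕ) (Bool.rec (motive := fun _ => List ℕ) (Bool.rec (motive := fun _ => List ℕ) (Bool.rec (motive := fun _ => List ℕ) (bw464) (bw465) (Nat.ble 465 i)) (Bool.rec (motive := fun _ => List ℕ) (bw466) (bw467) (Nat.ble 467 i)) (Nat.ble 466 i)) (Bool.rec (motive := fun _ => List ℕ) (Bool.rec (motive := fun _ => List ℕ) (bw468) (bw469) (Nat.ble 469 i)) (Bool.rec (motive := fun _ => List ℕ) (bw470) (bw471) (Nat.ble 471 i)) (Nat.ble 470 i)) (Nat.ble 468 i)) (Bool.rec (motive := fun _ => List ℕ) (Bool.rec (motive := fun _ =>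 List ℕ) (Bool.rec (motive := fun _ => List ℕ) (bw472) (bw473) (Nat.ble 473 i)) (Bool.rec (motive := fun _ => List ℕ) (bw474) (bw475) (Nat.ble 475 i)) (Nat.ble 474 i)) (Bool.rec (motive := fun _ => List ℕ) (Bool.rec (motive := fun _ => List ℕ) (bw476) (bw477) (Nat.ble 477 i)) (Bool.rec (motive := fun _ => List ℕ) (bw478) (bw479) (Nat.ble 479 i)) (Nat.ble 478 i)) (Nat.ble 476 i)) (Nat.ble 472 i)) (Nat.ble 464 i)) (Bool.rec (motive := fun _ => List ℕ) (Bool.rec (motive := fun _ => List ℕ) (Bool.rec (motive := fun _ => List ℕ) (Bool.rec (motive := fun _ => List ℕ) (Bool.rec (motive := fun _ => List ℕ) (bw480) (bw481) (Nat.ble 481 i)) (Bool.rec (motive := fun _ => List ℕ) (bw482) (bw483) (Nat.ble 483 i)) (Nat.ble 482 i)) (Bool.rec (motive := fun _ => List ℕ) (Bool.rec (motive := fun _ => List ℕ) (bw484) (bw485)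 (Nat.ble 485 i)) (Bool.rec (motive := fun _ => List ℕ) (bw486) (bw487) (Nat.ble 487 i)) (Nat.ble 486 i)) (Nat.ble 484 i)) (Bool.rec (motive := fun _ => List ℕ) (Bool.rec (motive := fun _ => List ℕ) (Bool.rec (motive := fun _ => List ℕ) (bw488) (bw489) (Nat.ble 489 i)) (Bool.rec (motive := fun _ => List ℕ) (bw490) (bw491) (Nat.ble 491 i)) (Nat.ble 490 i)) (Bool.rec (motive := fun _ => List ℕ) (Bool.rec (motive := fun _ => List ℕ) (bw492) (bw493) (Nat.ble 493 i)) (Bool.rec (motive := fun _ => List ℕ) (bw494) (bw495) (Nat.ble 495 i)) (Nat.ble 494 i)) (Nat.ble 492 i)) (Nat.ble 488 i)) (Bool.rec (motive := fun _ => List ℕ) (Bool.rec (motive := fun _ => List ℕ) (Bool.rec (motive := fun _ => List ℕ) (Bool.rec (motive := fun _ => List ℕ) (bw496) (bw497) (Nat.ble 497 i)) (Bool.rec (motive := fun _ => List ℕ)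 (bw498) (bw499) (Nat.ble 499 i)) (Nat.ble 498 i)) (Bool.rec (motive := fun _ => List ℕ) (Bool.rec (motive := fun _ => List ℕ) (bw500) (bw501) (Nat.ble 501 i)) (Bool.rec (motive := fun _ => List ℕ) (bw502) (bw503) (Nat.ble 503 i)) (Nat.ble 502 i)) (Nat.ble 500 i)) (Bool.rec (motive := fun _ => List ℕ) (Bool.rec (motive := fun _ => List ℕ) (Bool.rec (motive := fun _ => List ℕ) (bw504) (bw505) (Nat.ble 505 i)) (Bool.rec (motive := fun _ => List ℕ) (bw506) (bw507) (Nat.ble 507 i)) (Nat.ble 506 i)) (Bool.rec (motive := fun _ => List ℕ) (Bool.rec (motive := fun _ => List ℕ) (bw508) (bw509) (Nat.ble 509 i)) (Bool.rec (motive := fun _ => List ℕ) (bw510) (bw511) (Nat.ble 511 i)) (Nat.ble 510 i)) (Nat.ble 508 i)) (Nat.ble 504 i)) (Nat.ble 496 i)) (Nat.ble 480 i)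
noncomputable def bwb8 (i : ℕ) : List ℕ := Bool.rec (motive := fun _ => List ℕ) (Bool.rec (motive := fun _ => List ℕ) (Bool.rec (motive := fun _ => List ℕ) (Bool.rec (motive := fun _ => List ℕ) (Bool.rec (motive := fun _ => List ℕ) (Bool.rec (motive := fun _ => List ℕ) (bw512) (bw513) (Nat.ble 513 i)) (Bool.rec (motive := fun _ => List ℕ) (bw514) (bw515) (Nat.ble 515 i)) (Nat.ble 514 i)) (Bool.rec (motive := fun _ => List ℕ) (Bool.rec (motive := fun _ => List ℕ) (bw516) (bw517) (Nat.ble 517 i)) (Bool.rec (motive := fun _ => List ℕ) (bw518) (bw519) (Nat.ble 519 i)) (Nat.ble 518 i)) (Nat.ble 516 i)) (Bool.rec (motive := fun _ => List ℕ) (Bool.rec (motive := fun _ => List ℕ) (Bool.rec (motive := fun _ => List ℕ) (bw520) (bw521) (Nat.ble 521 i)) (Bool.rec (motive := fun _ => List ℕ) (bw522) (bw523) (Nat.ble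 523 i)) (Nat.ble 522 i)) (Bool.rec (motive := fun _ => List ℕ) (Bool.rec (motive := fun _ => List ℕ) (bw524) (bw525) (Nat.ble 525 i)) (Bool.rec (motive := fun _ => List ℕ) (bw526) (bw527) (Nat.ble 527 i)) (Nat.ble 526 i)) (Nat.ble 524 i)) (Nat.ble 520 i)) (Bool.rec (motive := fun _ => List ℕ) (Bool.rec (motive := fun _ => List ℕ) (Bool.rec (motive := fun _ => List ℕ) (Bool.rec (motive := fun _ => List ℕ) (bw528) (bw529) (Nat.ble 529 i)) (Bool.rec (motive := fun _ => List ℕ) (bw530) (bw531) (Nat.ble 531 i)) (Nat.ble 530 i)) (Bool.rec (motive := fun _ => List ℕ) (Bool.rec (motive := fun _ => List ℕ) (bw532) (bw533) (Nat.ble 533 i)) (Bool.rec (motive := fun _ => List ℕ) (bw534) (bw535) (Nat.ble 535 i)) (Nat.ble 534 i)) (Nat.ble 532 i)) (Bool.rec (motive := fun _ => List ℕ) (Bool.rec (motive := fun _ =>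 List ℕ) (Bool.rec (motive := fun _ => List ℕ) (bw536) (bw537) (Nat.ble 537 i)) (Bool.rec (motive := fun _ => List ℕ) (bw538) (bw539) (Nat.ble 539 i)) (Nat.ble 538 i)) (Bool.rec (motive := fun _ => List ℕ) (Bool.rec (motive := fun _ => List ℕ) (bw540) (bw541) (Nat.ble 541 i)) (Bool.rec (motive := fun _ => List ℕ) (bw542) (bw543) (Nat.ble 543 i)) (Nat.ble 542 i)) (Nat.ble 540 i)) (Nat.ble 536 i)) (Nat.ble 528 i)) (Bool.rec (motive := fun _ => List ℕ) (Bool.rec (motive := fun _ => List ℕ) (Bool.rec (motive := fun _ => List ℕ) (Bool.rec (motive := fun _ => List ℕ) (Bool.rec (motive := fun _ => List ℕ) (bw544) (bw545) (Nat.ble 545 i)) (Bool.rec (motive := fun _ => List ℕ) (bw546) (bw547) (Nat.ble 547 i)) (Nat.ble 546 i)) (Bool.rec (motive := fun _ => List ℕ) (Bool.rec (motive := fun _ => List ℕ) (bw548) (bw549)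 (Nat.ble 549 i)) (Bool.rec (motive := fun _ => List ℕ) (bw550) (bw551) (Nat.ble 551 i)) (Nat.ble 550 i)) (Nat.ble 548 i)) (Bool.rec (motive := fun _ => List ℕ) (Bool.rec (motive := fun _ => List ℕ) (Bool.rec (motive := fun _ => List ℕ) (bw552) (bw553) (Nat.ble 553 i)) (Bool.rec (motive := fun _ => List ℕ) (bw554) (bw555) (Nat.ble 555 i)) (Nat.ble 554 i)) (Bool.rec (motive := fun _ => List ℕ) (Bool.rec (motive := fun _ => List ℕ) (bw556) (bw557) (Nat.ble 557 i)) (Bool.rec (motive := fun _ => List ℕ) (bw558) (bw559) (Nat.ble 559 i)) (Nat.ble 558 i)) (Nat.ble 556 i)) (Nat.ble 552 i)) (Bool.rec (motive := fun _ => List ℕ) (Bool.rec (motive := fun _ => List ℕ) (Bool.rec (motive := fun _ => List ℕ) (Bool.rec (motive := fun _ => List ℕ) (bw560) (bw561) (Nat.ble 561 i)) (Bool.rec (motive := fun _ => List ℕ)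 (bw562) (bw563) (Nat.ble 563 i)) (Nat.ble 562 i)) (Bool.rec (motive := fun _ => List ℕ) (Bool.rec (motive := fun _ => List ℕ) (bw564) (bw565) (Nat.ble 565 i)) (Bool.rec (motive := fun _ => List ℕ) (bw566) (bw567) (Nat.ble 567 i)) (Nat.ble 566 i)) (Nat.ble 564 i)) (Bool.rec (motive := fun _ => List ℕ) (Bool.rec (motive := fun _ => List ℕ) (Bool.rec (motive := fun _ => List ℕ) (bw568) (bw569) (Nat.ble 569 i)) (Bool.rec (motive := fun _ => List ℕ) (bw570) (bw571) (Nat.ble 571 i)) (Nat.ble 570 i)) (Bool.rec (motive := fun _ => List ℕ) (Bool.rec (motive := fun _ => List ℕ) (bw572) (bw573) (Nat.ble 573 i)) (Bool.rec (motive := fun _ => List ℕ) (bw574) (bw575) (Nat.ble 575 i)) (Nat.ble 574 i)) (Nat.ble 572 i)) (Nat.ble 568 i)) (Nat.ble 560 i)) (Nat.ble 544 i)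
noncomputable def bwb9 (i : ℕ) : List ℕ := Bool.rec (motive := fun _ => List ℕ) (Bool.rec (motive := fun _ => List ℕ) (Bool.rec (motive := fun _ => List ℕ) (Bool.rec (motive := fun _ => List ℕ) (Bool.rec (motive := fun _ => List ℕ) (Bool.rec (motive := fun _ => List ℕ) (bw576) (bw577) (Nat.ble 577 i)) (Bool.rec (motive := fun _ => List ℕ) (bw578) (bw579) (Nat.ble 579 i)) (Nat.ble 578 i)) (Bool.rec (motive := fun _ => List ℕ) (Bool.rec (motive := fun _ => List ℕ) (bw580) (bw581) (Nat.ble 581 i)) (Bool.rec (motive := fun _ => List ℕ) (bw582) (bw583) (Nat.ble 583 i)) (Nat.ble 582 i)) (Nat.ble 580 i)) (Bool.rec (motive := fun _ => List ℕ) (Bool.rec (motive := fun _ => List ℕ) (Bool.rec (motive := fun _ => List ℕ) (bw584) (bw585) (Nat.ble 585 i)) (Bool.rec (motive := fun _ => List ℕ) (bw586) (bw587) (Nat.ble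 587 i)) (Nat.ble 586 i)) (Bool.rec (motive := fun _ => List ℕ) (Bool.rec (motive := fun _ => List ℕ) (bw588) (bw589) (Nat.ble 589 i)) (Bool.rec (motive := fun _ => List ℕ) (bw590) (bw591) (Nat.ble 591 i)) (Nat.ble 590 i)) (Nat.ble 588 i)) (Nat.ble 584 i)) (Bool.rec (motive := fun _ => List ℕ) (Bool.rec (motive := fun _ => List ℕ) (Bool.rec (motive := fun _ => List ℕ) (Bool.rec (motive := fun _ => List ℕ) (bw592) (bw593) (Nat.ble 593 i)) (Bool.rec (motive := fun _ => List ℕ) (bw594) (bw595) (Nat.ble 595 i)) (Nat.ble 594 i)) (Bool.rec (motive := fun _ => List ℕ) (Bool.rec (motive := fun _ => List ℕ) (bw596) (bw597) (Nat.ble 597 i)) (Bool.rec (motive := fun _ => List ℕ) (bw598) (bw599) (Nat.ble 599 i)) (Nat.ble 598 i)) (Nat.ble 596 i)) (Bool.rec (motive := fun _ => List ℕ) (Bool.rec (motive := fun _ =>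 List ℕ) (Bool.rec (motive := fun _ => List ℕ) (bw600) (bw601) (Nat.ble 601 i)) (Bool.rec (motive := fun _ => List ℕ) (bw602) (bw603) (Nat.ble 603 i)) (Nat.ble 602 i)) (Bool.rec (motive := fun _ => List ℕ) (Bool.rec (motive := fun _ => List ℕ) (bw604) (bw605) (Nat.ble 605 i)) (Bool.rec (motive := fun _ => List ℕ) (bw606) (bw607) (Nat.ble 607 i)) (Nat.ble 606 i)) (Nat.ble 604 i)) (Nat.ble 600 i)) (Nat.ble 592 i)) (Bool.rec (motive := fun _ => List ℕ) (Bool.rec (motive := fun _ => List ℕ) (Bool.rec (motive := fun _ => List ℕ) (Bool.rec (motive := fun _ => List ℕ) (Bool.rec (motive := fun _ => List ℕ) (bw608) (bw609) (Nat.ble 609 i)) (Bool.rec (motive := fun _ => List ℕ) (bw610) (bw611) (Nat.ble 611 i)) (Nat.ble 610 i)) (Bool.rec (motive := fun _ => List ℕ) (Bool.rec (motive := fun _ => List ℕ) (bw612) (bw613)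 (Nat.ble 613 i)) (Bool.rec (motive := fun _ => List ℕ) (bw614) (bw615) (Nat.ble 615 i)) (Nat.ble 614 i)) (Nat.ble 612 i)) (Bool.rec (motive := fun _ => List ℕ) (Bool.rec (motive := fun _ => List ℕ) (Bool.rec (motive := fun _ => List ℕ) (bw616) (bw617) (Nat.ble 617 i)) (Bool.rec (motive := fun _ => List ℕ) (bw618) (bw619) (Nat.ble 619 i)) (Nat.ble 618 i)) (Bool.rec (motive := fun _ => List ℕ) (Bool.rec (motive := fun _ => List ℕ) (bw620) (bw621) (Nat.ble 621 i)) (Bool.rec (motive := fun _ => List ℕ) (bw622) (bw623) (Nat.ble 623 i)) (Nat.ble 622 i)) (Nat.ble 620 i)) (Nat.ble 616 i)) (Bool.rec (motive := fun _ => List ℕ) (Bool.rec (motive := fun _ => List ℕ) (Bool.rec (motive := fun _ => List ℕ) (Bool.rec (motive := fun _ => List ℕ) (bw624) (bw625) (Nat.ble 625 i)) (Bool.rec (motive := fun _ => List ℕ)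 (bw626) (bw627) (Nat.ble 627 i)) (Nat.ble 626 i)) (Bool.rec (motive := fun _ => List ℕ) (Bool.rec (motive := fun _ => List ℕ) (bw628) (bw629) (Nat.ble 629 i)) (Bool.rec (motive := fun _ => List ℕ) (bw630) (bw631) (Nat.ble 631 i)) (Nat.ble 630 i)) (Nat.ble 628 i)) (Bool.rec (motive := fun _ => List ℕ) (Bool.rec (motive := fun _ => List ℕ) (Bool.rec (motive := fun _ => List ℕ) (bw632) (bw633) (Nat.ble 633 i)) (Bool.rec (motive := fun _ => List ℕ) (bw634) (bw635) (Nat.ble 635 i)) (Nat.ble 634 i)) (Bool.rec (motive := fun _ => List ℕ) (Bool.rec (motive := fun _ => List ℕ) (bw636) (bw637) (Nat.ble 637 i)) (Bool.rec (motive := fun _ => List ℕ) (bw638) (bw639) (Nat.ble 639 i)) (Nat.ble 638 i)) (Nat.ble 636 i)) (Nat.ble 632 i)) (Nat.ble 624 i)) (Nat.ble 608 i)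
noncomputable def bwb10 (i : ℕ) : List ℕ := Bool.rec (motive := fun _ => List ℕ) (Bool.rec (motive := fun _ => List ℕ) (Bool.rec (motive := fun _ => List ℕ) (Bool.rec (motive := fun _ => List ℕ) (Bool.rec (motive := fun _ => List ℕ) (Bool.rec (motive := fun _ => List ℕ) (bw640) (bw641) (Nat.ble 641 i)) (Bool.rec (motive := fun _ => List ℕ) (bw642) (bw643) (Nat.ble 643 i)) (Nat.ble 642 i)) (Bool.rec (motive := fun _ => List ℕ) (Bool.rec (motive := fun _ => List ℕ) (bw644) (bw645) (Nat.ble 645 i)) (Bool.rec (motive := fun _ => List ℕ) (bw646) (bw647) (Nat.ble 647 i)) (Nat.ble 646 i)) (Nat.ble 644 i)) (Bool.rec (motive := fun _ => List ℕ) (Bool.rec (motive := fun _ => List ℕ) (Bool.rec (motive := fun _ => List ℕ) (bw648) (bw649) (Nat.ble 649 i)) (Bool.rec (motive := fun _ => List ℕ) (bw650) (bw651) (Nat.ble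 651 i)) (Nat.ble 650 i)) (Bool.rec (motive := fun _ => List ℕ) (Bool.rec (motive := fun _ => List ℕ) (bw652) (bw653) (Nat.ble 653 i)) (Bool.rec (motive := fun _ => List ℕ) (bw654) (bw655) (Nat.ble 655 i)) (Nat.ble 654 i)) (Nat.ble 652 i)) (Nat.ble 648 i)) (Bool.rec (motive := fun _ => List ℕ) (Bool.rec (motive := fun _ => List ℕ) (Bool.rec (motive := fun _ => List ℕ) (Bool.rec (motive := fun _ => List ℕ) (bw656) (bw657) (Nat.ble 657 i)) (Bool.rec (motive := fun _ => List ℕ) (bw658) (bw659) (Nat.ble 659 i)) (Nat.ble 658 i)) (Bool.rec (motive := fun _ => List ℕ) (Bool.rec (motive := fun _ => List ℕ) (bw660) (bw661) (Nat.ble 661 i)) (Bool.rec (motive := fun _ => List ℕ) (bw662) (bw663) (Nat.ble 663 i)) (Nat.ble 662 i)) (Nat.ble 660 i)) (Bool.rec (motive := fun _ => List ℕ) (Bool.rec (motive := fun _ =>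 List ℕ) (Bool.rec (motive := fun _ => List ℕ) (bw664) (bw665) (Nat.ble 665 i)) (Bool.rec (motive := fun _ => List ℕ) (bw666) (bw667) (Nat.ble 667 i)) (Nat.ble 666 i)) (Bool.rec (motive := fun _ => List ℕ) (Bool.rec (motive := fun _ => List ℕ) (bw668) (bw669) (Nat.ble 669 i)) (Bool.rec (motive := fun _ => List ℕ) (bw670) (bw671) (Nat.ble 671 i)) (Nat.ble 670 i)) (Nat.ble 668 i)) (Nat.ble 664 i)) (Nat.ble 656 i)) (Bool.rec (motive := fun _ => List ℕ) (Bool.rec (motive := fun _ => List ℕ) (Bool.rec (motive := fun _ => List ℕ) (Bool.rec (motive := fun _ => List ℕ) (Bool.rec (motive := fun _ => List ℕ) (bw672) (bw673) (Nat.ble 673 i)) (Bool.rec (motive := fun _ => List ℕ) (bw674) (bw675) (Nat.ble 675 i)) (Nat.ble 674 i)) (Bool.rec (motive := fun _ => List ℕ) (Bool.rec (motive := fun _ => List ℕ) (bw676) (bw677)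 (Nat.ble 677 i)) (Bool.rec (motive := fun _ => List ℕ) (bw678) (bw679) (Nat.ble 679 i)) (Nat.ble 678 i)) (Nat.ble 676 i)) (Bool.rec (motive := fun _ => List ℕ) (Bool.rec (motive := fun _ => List ℕ) (Bool.rec (motive := fun _ => List ℕ) (bw680) (bw681) (Nat.ble 681 i)) (Bool.rec (motive := fun _ => List ℕ) (bw682) (bw683) (Nat.ble 683 i)) (Nat.ble 682 i)) (Bool.rec (motive := fun _ => List ℕ) (Bool.rec (motive := fun _ => List ℕ) (bw684) (bw685) (Nat.ble 685 i)) (Bool.rec (motive := fun _ => List ℕ) (bw686) (bw687) (Nat.ble 687 i)) (Nat.ble 686 i)) (Nat.ble 684 i)) (Nat.ble 680 i)) (Bool.rec (motive := fun _ => List ℕ) (Bool.rec (motive := fun _ => List ℕ) (Bool.rec (motive := fun _ => List ℕ) (Bool.rec (motive := fun _ => List ℕ) (bw688) (bw689) (Nat.ble 689 i)) (Bool.rec (motive := fun _ => List ℕ)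 (bw690) (bw691) (Nat.ble 691 i)) (Nat.ble 690 i)) (Bool.rec (motive := fun _ => List ℕ) (Bool.rec (motive := fun _ => List ℕ) (bw692) (bw693) (Nat.ble 693 i)) (Bool.rec (motive := fun _ => List ℕ) (bw694) (bw695) (Nat.ble 695 i)) (Nat.ble 694 i)) (Nat.ble 692 i)) (Bool.rec (motive := fun _ => List ℕ) (Bool.rec (motive := fun _ => List ℕ) (Bool.rec (motive := fun _ => List ℕ) (bw696) (bw697) (Nat.ble 697 i)) (Bool.rec (motive := fun _ => List ℕ) (bw698) (bw699) (Nat.ble 699 i)) (Nat.ble 698 i)) (Bool.rec (motive := fun _ => List ℕ) (Bool.rec (motive := fun _ => List ℕ) (bw700) (bw701) (Nat.ble 701 i)) (Bool.rec (motive := fun _ => List ℕ) (bw702) (bw703) (Nat.ble 703 i)) (Nat.ble 702 i)) (Nat.ble 700 i)) (Nat.ble 696 i)) (Nat.ble 688 i)) (Nat.ble 672 i)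
noncomputable def bwb11 (i : ℕ) : List ℕ := Bool.rec (motive := fun _ => List ℕ) (Bool.rec (motive := fun _ => List ℕ) (Bool.rec (motive := fun _ => List ℕ) (Bool.rec (motive := fun _ => List ℕ) (Bool.rec (motive := fun _ => List ℕ) (Bool.rec (motive := fun _ => List ℕ) (bw704) (bw705) (Nat.ble 705 i)) (Bool.rec (motive := fun _ => List ℕ) (bw706) (bw707) (Nat.ble 707 i)) (Nat.ble 706 i)) (Bool.rec (motive := fun _ => List ℕ) (Bool.rec (motive := fun _ => List ℕ) (bw708) (bw709) (Nat.ble 709 i)) (Bool.rec (motive := fun _ => List ℕ) (bw710) (bw711) (Nat.ble 711 i)) (Nat.ble 710 i)) (Nat.ble 708 i)) (Bool.rec (motive := fun _ => List ℕ) (Bool.rec (motive := fun _ => List ℕ) (Bool.rec (motive := fun _ => List ℕ) (bw712) (bw713) (Nat.ble 713 i)) (Bool.rec (motive := fun _ => List ℕ) (bw714) (bw715) (Nat.ble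 715 i)) (Nat.ble 714 i)) (Bool.rec (motive := fun _ => List ℕ) (Bool.rec (motive := fun _ => List ℕ) (bw716) (bw717) (Nat.ble 717 i)) (Bool.rec (motive := fun _ => List ℕ) (bw718) (bw719) (Nat.ble 719 i)) (Nat.ble 718 i)) (Nat.ble 716 i)) (Nat.ble 712 i)) (Bool.rec (motive := fun _ => List ℕ) (Bool.rec (motive := fun _ => List ℕ) (Bool.rec (motive := fun _ => List ℕ) (Bool.rec (motive := fun _ => List ℕ) (bw720) (bw721) (Nat.ble 721 i)) (Bool.rec (motive := fun _ => List ℕ) (bw722) (bw723) (Nat.ble 723 i)) (Nat.ble 722 i)) (Bool.rec (motive := fun _ => List ℕ) (Bool.rec (motive := fun _ => List ℕ) (bw724) (bw725) (Nat.ble 725 i)) (Bool.rec (motive := fun _ => List ℕ) (bw726) (bw727) (Nat.ble 727 i)) (Nat.ble 726 i)) (Nat.ble 724 i)) (Bool.rec (motive := fun _ => List ℕ) (Bool.rec (motive := fun _ =>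 List ℕ) (Bool.rec (motive := fun _ => List ℕ) (bw728) (bw729) (Nat.ble 729 i)) (Bool.rec (motive := fun _ => List ℕ) (bw730) (bw731) (Nat.ble 731 i)) (Nat.ble 730 i)) (Bool.rec (motive := fun _ => List ℕ) (Bool.rec (motive := fun _ => List ℕ) (bw732) (bw733) (Nat.ble 733 i)) (Bool.rec (motive := fun _ => List ℕ) (bw734) (bw735) (Nat.ble 735 i)) (Nat.ble 734 i)) (Nat.ble 732 i)) (Nat.ble 728 i)) (Nat.ble 720 i)) (Bool.rec (motive := fun _ => List ℕ) (Bool.rec (motive := fun _ => List ℕ) (Bool.rec (motive := fun _ => List ℕ) (Bool.rec (motive := fun _ => List ℕ) (Bool.rec (motive := fun _ => List ℕ) (bw736) (bw737) (Nat.ble 737 i)) (Bool.rec (motive := fun _ => List ℕ) (bw738) (bw739) (Nat.ble 739 i)) (Nat.ble 738 i)) (Bool.rec (motive := fun _ => List ℕ) (Bool.rec (motive := fun _ => List ℕ) (bw740) (bw741)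 (Nat.ble 741 i)) (Bool.rec (motive := fun _ => List ℕ) (bw742) (bw743) (Nat.ble 743 i)) (Nat.ble 742 i)) (Nat.ble 740 i)) (Bool.rec (motive := fun _ => List ℕ) (Bool.rec (motive := fun _ => List ℕ) (Bool.rec (motive := fun _ => List ℕ) (bw744) (bw745) (Nat.ble 745 i)) (Bool.rec (motive := fun _ => List ℕ) (bw746) (bw747) (Nat.ble 747 i)) (Nat.ble 746 i)) (Bool.rec (motive := fun _ => List ℕ) (Bool.rec (motive := fun _ => List ℕ) (bw748) (bw749) (Nat.ble 749 i)) (Bool.rec (motive := fun _ => List ℕ) (bw750) (bw751) (Nat.ble 751 i)) (Nat.ble 750 i)) (Nat.ble 748 i)) (Nat.ble 744 i)) (Bool.rec (motive := fun _ => List ℕ) (Bool.rec (motive := fun _ => List ℕ) (Bool.rec (motive := fun _ => List ℕ) (Bool.rec (motive := fun _ => List ℕ) (bw752) (bw753) (Nat.ble 753 i)) (Bool.rec (motive := fun _ => List ℕ)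 (bw754) (bw755) (Nat.ble 755 i)) (Nat.ble 754 i)) (Bool.rec (motive := fun _ => List ℕ) (Bool.rec (motive := fun _ => List ℕ) (bw756) (bw757) (Nat.ble 757 i)) (Bool.rec (motive := fun _ => List ℕ) (bw758) (bw759) (Nat.ble 759 i)) (Nat.ble 758 i)) (Nat.ble 756 i)) (Bool.rec (motive := fun _ => List ℕ) (Bool.rec (motive := fun _ => List ℕ) (Bool.rec (motive := fun _ => List ℕ) (bw760) (bw761) (Nat.ble 761 i)) (Bool.rec (motive := fun _ => List ℕ) (bw762) (bw763) (Nat.ble 763 i)) (Nat.ble 762 i)) (Bool.rec (motive := fun _ => List ℕ) (Bool.rec (motive := fun _ => List ℕ) (bw764) (bw765) (Nat.ble 765 i)) (Bool.rec (motive := fun _ => List ℕ) (bw766) (bw767) (Nat.ble 767 i)) (Nat.ble 766 i)) (Nat.ble 764 i)) (Nat.ble 760 i)) (Nat.ble 752 i)) (Nat.ble 736 i)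
noncomputable def bwb12 (i : ℕ) : List ℕ := Bool.rec (motive := fun _ => List ℕ) (Bool.rec (motive := fun _ => List ℕ) (Bool.rec (motive := fun _ => List ℕ) (Bool.rec (motive := fun _ => List ℕ) (Bool.rec (motive := fun _ => List ℕ) (Bool.rec (motive := fun _ => List ℕ) (bw768) (bw769) (Nat.ble 769 i)) (Bool.rec (motive := fun _ => List ℕ) (bw770) (bw771) (Nat.ble 771 i)) (Nat.ble 770 i)) (Bool.rec (motive := fun _ => List ℕ) (Bool.rec (motive := fun _ => List ℕ) (bw772) (bw773) (Nat.ble 773 i)) (Bool.rec (motive := fun _ => List ℕ) (bw774) (bw775) (Nat.ble 775 i)) (Nat.ble 774 i)) (Nat.ble 772 i)) (Bool.rec (motive := fun _ => List ℕ) (Bool.rec (motive := fun _ => List ℕ) (Bool.rec (motive := fun _ => List ℕ) (bw776) (bw777) (Nat.ble 777 i)) (Bool.rec (motive := fun _ => List ℕ) (bw778) (bw779) (Nat.ble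 779 i)) (Nat.ble 778 i)) (Bool.rec (motive := fun _ => List ℕ) (Bool.rec (motive := fun _ => List ℕ) (bw780) (bw781) (Nat.ble 781 i)) (Bool.rec (motive := fun _ => List ℕ) (bw782) (bw783) (Nat.ble 783 i)) (Nat.ble 782 i)) (Nat.ble 780 i)) (Nat.ble 776 i)) (Bool.rec (motive := fun _ => List ℕ) (Bool.rec (motive := fun _ => List ℕ) (Bool.rec (motive := fun _ => List ℕ) (Bool.rec (motive := fun _ => List ℕ) (bw784) (bw785) (Nat.ble 785 i)) (Bool.rec (motive := fun _ => List ℕ) (bw786) (bw787) (Nat.ble 787 i)) (Nat.ble 786 i)) (Bool.rec (motive := fun _ => List ℕ) (Bool.rec (motive := fun _ => List ℕ) (bw788) (bw789) (Nat.ble 789 i)) (Bool.rec (motive := fun _ => List ℕ) (bw790) (bw791) (Nat.ble 791 i)) (Nat.ble 790 i)) (Nat.ble 788 i)) (Bool.rec (motive := fun _ => List ℕ) (Bool.rec (motive := fun _ =>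 List ℕ) (Bool.rec (motive := fun _ => List ℕ) (bw792) (bw793) (Nat.ble 793 i)) (Bool.rec (motive := fun _ => List ℕ) (bw794) (bw795) (Nat.ble 795 i)) (Nat.ble 794 i)) (Bool.rec (motive := fun _ => List ℕ) (Bool.rec (motive := fun _ => List ℕ) (bw796) (bw797) (Nat.ble 797 i)) (Bool.rec (motive := fun _ => List ℕ) (bw798) (bw799) (Nat.ble 799 i)) (Nat.ble 798 i)) (Nat.ble 796 i)) (Nat.ble 792 i)) (Nat.ble 784 i)) (Bool.rec (motive := fun _ => List ℕ) (Bool.rec (motive := fun _ => List ℕ) (Bool.rec (motive := fun _ => List ℕ) (Bool.rec (motive := fun _ => List ℕ) (Bool.rec (motive := fun _ => List ℕ) (bw800) (bw801) (Nat.ble 801 i)) (Bool.rec (motive := fun _ => List ℕ) (bw802) (bw803) (Nat.ble 803 i)) (Nat.ble 802 i)) (Bool.rec (motive := fun _ => List ℕ) (Bool.rec (motive := fun _ => List ℕ) (bw804) (bw805)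 (Nat.ble 805 i)) (Bool.rec (motive := fun _ => List ℕ) (bw806) (bw807) (Nat.ble 807 i)) (Nat.ble 806 i)) (Nat.ble 804 i)) (Bool.rec (motive := fun _ => List ℕ) (Bool.rec (motive := fun _ => List ℕ) (Bool.rec (motive := fun _ => List ℕ) (bw808) (bw809) (Nat.ble 809 i)) (Bool.rec (motive := fun _ => List ℕ) (bw810) (bw811) (Nat.ble 811 i)) (Nat.ble 810 i)) (Bool.rec (motive := fun _ => List ℕ) (Bool.rec (motive := fun _ => List ℕ) (bw812) (bw813) (Nat.ble 813 i)) (Bool.rec (motive := fun _ => List ℕ) (bw814) (bw815) (Nat.ble 815 i)) (Nat.ble 814 i)) (Nat.ble 812 i)) (Nat.ble 808 i)) (Bool.rec (motive := fun _ => List ℕ) (Bool.rec (motive := fun _ => List ℕ) (Bool.rec (motive := fun _ => List ℕ) (Bool.rec (motive := fun _ => List ℕ) (bw816) (bw817) (Nat.ble 817 i)) (Bool.rec (motive := fun _ => List ℕ)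 (bw818) (bw819) (Nat.ble 819 i)) (Nat.ble 818 i)) (Bool.rec (motive := fun _ => List ℕ) (Bool.rec (motive := fun _ => List ℕ) (bw820) (bw821) (Nat.ble 821 i)) (Bool.rec (motive := fun _ => List ℕ) (bw822) (bw823) (Nat.ble 823 i)) (Nat.ble 822 i)) (Nat.ble 820 i)) (Bool.rec (motive := fun _ => List ℕ) (Bool.rec (motive := fun _ => List ℕ) (Bool.rec (motive := fun _ => List ℕ) (bw824) (bw825) (Nat.ble 825 i)) (Bool.rec (motive := fun _ => List ℕ) (bw826) (bw827) (Nat.ble 827 i)) (Nat.ble 826 i)) (Bool.rec (motive := fun _ => List ℕ) (Bool.rec (motive := fun _ => List ℕ) (bw828) (bw829) (Nat.ble 829 i)) (Bool.rec (motive := fun _ => List ℕ) (bw830) (bw831) (Nat.ble 831 i)) (Nat.ble 830 i)) (Nat.ble 828 i)) (Nat.ble 824 i)) (Nat.ble 816 i)) (Nat.ble 800 i)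
noncomputable def bwb13 (i : ℕ) : List ℕ := Bool.rec (motive := fun _ => List ℕ) (Bool.rec (motive := fun _ => List ℕ) (Bool.rec (motive := fun _ => List ℕ) (Bool.rec (motive := fun _ => List ℕ) (Bool.rec (motive := fun _ => List ℕ) (Bool.rec (motive := fun _ => List ℕ) (bw832) (bw833) (Nat.ble 833 i)) (Bool.rec (motive := fun _ => List ℕ) (bw834) (bw835) (Nat.ble 835 i)) (Nat.ble 834 i)) (Bool.rec (motive := fun _ => List ℕ) (Bool.rec (motive := fun _ => List ℕ) (bw836) (bw837) (Nat.ble 837 i)) (Bool.rec (motive := fun _ => List ℕ) (bw838) (bw839) (Nat.ble 839 i)) (Nat.ble 838 i)) (Nat.ble 836 i)) (Bool.rec (motive := fun _ => List ℕ) (Bool.rec (motive := fun _ => List ℕ) (Bool.rec (motive := fun _ => List ℕ) (bw840) (bw841) (Nat.ble 841 i)) (Bool.rec (motive := fun _ => List ℕ) (bw842) (bw843) (Nat.ble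 843 i)) (Nat.ble 842 i)) (Bool.rec (motive := fun _ => List ℕ) (Bool.rec (motive := fun _ => List ℕ) (bw844) (bw845) (Nat.ble 845 i)) (Bool.rec (motive := fun _ => List ℕ) (bw846) (bw847) (Nat.ble 847 i)) (Nat.ble 846 i)) (Nat.ble 844 i)) (Nat.ble 840 i)) (Bool.rec (motive := fun _ => List ℕ) (Bool.rec (motive := fun _ => List ℕ) (Bool.rec (motive := fun _ => List ℕ) (Bool.rec (motive := fun _ => List ℕ) (bw848) (bw849) (Nat.ble 849 i)) (Bool.rec (motive := fun _ => List ℕ) (bw850) (bw851) (Nat.ble 851 i)) (Nat.ble 850 i)) (Bool.rec (motive := fun _ => List ℕ) (Bool.rec (motive := fun _ => List ℕ) (bw852) (bw853) (Nat.ble 853 i)) (Bool.rec (motive := fun _ => List ℕ) (bw854) (bw855) (Nat.ble 855 i)) (Nat.ble 854 i)) (Nat.ble 852 i)) (Bool.rec (motive := fun _ => List ℕ) (Bool.rec (motive := fun _ =>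 List ℕ) (Bool.rec (motive := fun _ => List ℕ) (bw856) (bw857) (Nat.ble 857 i)) (Bool.rec (motive := fun _ => List ℕ) (bw858) (bw859) (Nat.ble 859 i)) (Nat.ble 858 i)) (Bool.rec (motive := fun _ => List ℕ) (Bool.rec (motive := fun _ => List ℕ) (bw860) (bw861) (Nat.ble 861 i)) (Bool.rec (motive := fun _ => List ℕ) (bw862) (bw863) (Nat.ble 863 i)) (Nat.ble 862 i)) (Nat.ble 860 i)) (Nat.ble 856 i)) (Nat.ble 848 i)) (Bool.rec (motive := fun _ => List ℕ) (Bool.rec (motive := fun _ => List ℕ) (Bool.rec (motive := fun _ => List ℕ) (Bool.rec (motive := fun _ => List ℕ) (Bool.rec (motive := fun _ => List ℕ) (bw864) (bw865) (Nat.ble 865 i)) (Bool.rec (motive := fun _ => List ℕ) (bw866) (bw867) (Nat.ble 867 i)) (Nat.ble 866 i)) (Bool.rec (motive := fun _ => List ℕ) (Bool.rec (motive := fun _ => List ℕ) (bw868) (bw869)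 (Nat.ble 869 i)) (Bool.rec (motive := fun _ => List ℕ) (bw870) (bw871) (Nat.ble 871 i)) (Nat.ble 870 i)) (Nat.ble 868 i)) (Bool.rec (motive := fun _ => List ℕ) (Bool.rec (motive := fun _ => List ℕ) (Bool.rec (motive := fun _ => List ℕ) (bw872) (bw873) (Nat.ble 873 i)) (Bool.rec (motive := fun _ => List ℕ) (bw874) (bw875) (Nat.ble 875 i)) (Nat.ble 874 i)) (Bool.rec (motive := fun _ => List ℕ) (Bool.rec (motive := fun _ => List ℕ) (bw876) (bw877) (Nat.ble 877 i)) (Bool.rec (motive := fun _ => List ℕ) (bw878) (bw879) (Nat.ble 879 i)) (Nat.ble 878 i)) (Nat.ble 876 i)) (Nat.ble 872 i)) (Bool.rec (motive := fun _ => List ℕ) (Bool.rec (motive := fun _ => List ℕ) (Bool.rec (motive := fun _ => List ℕ) (Bool.rec (motive := fun _ => List ℕ) (bw880) (bw881) (Nat.ble 881 i)) (Bool.rec (motive := fun _ => List ℕ)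 (bw882) (bw883) (Nat.ble 883 i)) (Nat.ble 882 i)) (Bool.rec (motive := fun _ => List ℕ) (Bool.rec (motive := fun _ => List ℕ) (bw884) (bw885) (Nat.ble 885 i)) (Bool.rec (motive := fun _ => List ℕ) (bw886) (bw887) (Nat.ble 887 i)) (Nat.ble 886 i)) (Nat.ble 884 i)) (Bool.rec (motive := fun _ => List ℕ) (Bool.rec (motive := fun _ => List ℕ) (Bool.rec (motive := fun _ => List ℕ) (bw888) (bw889) (Nat.ble 889 i)) (Bool.rec (motive := fun _ => List ℕ) (bw890) (bw891) (Nat.ble 891 i)) (Nat.ble 890 i)) (Bool.rec (motive := fun _ => List ℕ) (Bool.rec (motive := fun _ => List ℕ) (bw892) (bw893) (Nat.ble 893 i)) (Bool.rec (motive := fun _ => List ℕ) (bw894) (bw895) (Nat.ble 895 i)) (Nat.ble 894 i)) (Nat.ble 892 i)) (Nat.ble 888 i)) (Nat.ble 880 i)) (Nat.ble 864 i)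
noncomputable def bwb14 (i : ℕ) : List ℕ := Bool.rec (motive := fun _ => List ℕ) (Bool.rec (motive := fun _ => List ℕ) (Bool.rec (motive := fun _ => List ℕ) (Bool.rec (motive := fun _ => List ℕ) (Bool.rec (motive := fun _ => List ℕ) (Bool.rec (motive := fun _ => List ℕ) (bw896) (bw897) (Nat.ble 897 i)) (Bool.rec (motive := fun _ => List ℕ) (bw898) (bw899) (Nat.ble 899 i)) (Nat.ble 898 i)) (Bool.rec (motive := fun _ => List ℕ) (Bool.rec (motive := fun _ => List ℕ) (bw900) (bw901) (Nat.ble 901 i)) (Bool.rec (motive := fun _ => List ℕ) (bw902) (bw903) (Nat.ble 903 i)) (Nat.ble 902 i)) (Nat.ble 900 i)) (Bool.rec (motive := fun _ => List ℕ) (Bool.rec (motive := fun _ => List ℕ) (Bool.rec (motive := fun _ => List ℕ) (bw904) (bw905) (Nat.ble 905 i)) (Bool.rec (motive := fun _ => List ℕ) (bw906) (bw907) (Nat.ble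 907 i)) (Nat.ble 906 i)) (Bool.rec (motive := fun _ => List ℕ) (Bool.rec (motive := fun _ => List ℕ) (bw908) (bw909) (Nat.ble 909 i)) (Bool.rec (motive := fun _ => List ℕ) (bw910) (bw911) (Nat.ble 911 i)) (Nat.ble 910 i)) (Nat.ble 908 i)) (Nat.ble 904 i)) (Bool.rec (motive := fun _ => List ℕ) (Bool.rec (motive := fun _ => List ℕ) (Bool.rec (motive := fun _ => List ℕ) (Bool.rec (motive := fun _ => List ℕ) (bw912) (bw913) (Nat.ble 913 i)) (Bool.rec (motive := fun _ => List ℕ) (bw914) (bw915) (Nat.ble 915 i)) (Nat.ble 914 i)) (Bool.rec (motive := fun _ => List ℕ) (Bool.rec (motive := fun _ => List ℕ) (bw916) (bw917) (Nat.ble 917 i)) (Bool.rec (motive := fun _ => List ℕ) (bw918) (bw919) (Nat.ble 919 i)) (Nat.ble 918 i)) (Nat.ble 916 i)) (Bool.rec (motive := fun _ => List ℕ) (Bool.rec (motive := fun _ =>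 List ℕ) (Bool.rec (motive := fun _ => List ℕ) (bw920) (bw921) (Nat.ble 921 i)) (Bool.rec (motive := fun _ => List ℕ) (bw922) (bw923) (Nat.ble 923 i)) (Nat.ble 922 i)) (Bool.rec (motive := fun _ => List ℕ) (Bool.rec (motive := fun _ => List ℕ) (bw924) (bw925) (Nat.ble 925 i)) (Bool.rec (motive := fun _ => List ℕ) (bw926) (bw927) (Nat.ble 927 i)) (Nat.ble 926 i)) (Nat.ble 924 i)) (Nat.ble 920 i)) (Nat.ble 912 i)) (Bool.rec (motive := fun _ => List ℕ) (Bool.rec (motive := fun _ => List ℕ) (Bool.rec (motive := fun _ => List ℕ) (Bool.rec (motive := fun _ => List ℕ) (Bool.rec (motive := fun _ => List ℕ) (bw928) (bw929) (Nat.ble 929 i)) (Bool.rec (motive := fun _ => List ℕ) (bw930) (bw931) (Nat.ble 931 i)) (Nat.ble 930 i)) (Bool.rec (motive := fun _ => List ℕ) (Bool.rec (motive := fun _ => List ℕ) (bw932) (bw933)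 (Nat.ble 933 i)) (Bool.rec (motive := fun _ => List ℕ) (bw934) (bw935) (Nat.ble 935 i)) (Nat.ble 934 i)) (Nat.ble 932 i)) (Bool.rec (motive := fun _ => List ℕ) (Bool.rec (motive := fun _ => List ℕ) (Bool.rec (motive := fun _ => List ℕ) (bw936) (bw937) (Nat.ble 937 i)) (Bool.rec (motive := fun _ => List ℕ) (bw938) (bw939) (Nat.ble 939 i)) (Nat.ble 938 i)) (Bool.rec (motive := fun _ => List ℕ) (Bool.rec (motive := fun _ => List ℕ) (bw940) (bw941) (Nat.ble 941 i)) (Bool.rec (motive := fun _ => List ℕ) (bw942) (bw943) (Nat.ble 943 i)) (Nat.ble 942 i)) (Nat.ble 940 i)) (Nat.ble 936 i)) (Bool.rec (motive := fun _ => List ℕ) (Bool.rec (motive := fun _ => List ℕ) (Bool.rec (motive := fun _ => List ℕ) (Bool.rec (motive := fun _ => List ℕ) (bw944) (bw945) (Nat.ble 945 i)) (Bool.rec (motive := fun _ => List ℕ)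 (bw946) (bw947) (Nat.ble 947 i)) (Nat.ble 946 i)) (Bool.rec (motive := fun _ => List ℕ) (Bool.rec (motive := fun _ => List ℕ) (bw948) (bw949) (Nat.ble 949 i)) (Bool.rec (motive := fun _ => List ℕ) (bw950) (bw951) (Nat.ble 951 i)) (Nat.ble 950 i)) (Nat.ble 948 i)) (Bool.rec (motive := fun _ => List ℕ) (Bool.rec (motive := fun _ => List ℕ) (Bool.rec (motive := fun _ => List ℕ) (bw952) (bw953) (Nat.ble 953 i)) (Bool.rec (motive := fun _ => List ℕ) (bw954) (bw955) (Nat.ble 955 i)) (Nat.ble 954 i)) (Bool.rec (motive := fun _ => List ℕ) (Bool.rec (motive := fun _ => List ℕ) (bw956) (bw957) (Nat.ble 957 i)) (Bool.rec (motive := fun _ => List ℕ) (bw958) (bw959) (Nat.ble 959 i)) (Nat.ble 958 i)) (Nat.ble 956 i)) (Nat.ble 952 i)) (Nat.ble 944 i)) (Nat.ble 928 i)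
noncomputable def bwb15 (i : ℕ) : List ℕ := Bool.rec (motive := fun _ => List ℕ) (Bool.rec (motive := fun _ => List ℕ) (Bool.rec (motive := fun _ => List ℕ) (Bool.rec (motive := fun _ => List ℕ) (Bool.rec (motive := fun _ => List ℕ) (Bool.rec (motive := fun _ => List ℕ) (bw960) (bw961) (Nat.ble 961 i)) (Bool.rec (motive := fun _ => List ℕ) (bw962) (bw963) (Nat.ble 963 i)) (Nat.ble 962 i)) (Bool.rec (motive := fun _ => List ℕ) (Bool.rec (motive := fun _ => List ℕ) (bw964) (bw965) (Nat.ble 965 i)) (Bool.rec (motive := fun _ => List ℕ) (bw966) (bw967) (Nat.ble 967 i)) (Nat.ble 966 i)) (Nat.ble 964 i)) (Bool.rec (motive := fun _ => List ℕ) (Bool.rec (motive := fun _ => List ℕ) (Bool.rec (motive := fun _ => List ℕ) (bw968) (bw969) (Nat.ble 969 i)) (Bool.rec (motive := fun _ => List ℕ) (bw970) (bw971) (Nat.ble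 971 i)) (Nat.ble 970 i)) (Bool.rec (motive := fun _ => List ℕ) (Bool.rec (motive := fun _ => List ℕ) (bw972) (bw973) (Nat.ble 973 i)) (Bool.rec (motive := fun _ => List ℕ) (bw974) (bw975) (Nat.ble 975 i)) (Nat.ble 974 i)) (Nat.ble 972 i)) (Nat.ble 968 i)) (Bool.rec (motive := fun _ => List ℕ) (Bool.rec (motive := fun _ => List ℕ) (Bool.rec (motive := fun _ => List ℕ) (Bool.rec (motive := fun _ => List ℕ) (bw976) (bw977) (Nat.ble 977 i)) (Bool.rec (motive := fun _ => List ℕ) (bw978) (bw979) (Nat.ble 979 i)) (Nat.ble 978 i)) (Bool.rec (motive := fun _ => List ℕ) (Bool.rec (motive := fun _ => List ℕ) (bw980) (bw981) (Nat.ble 981 i)) (Bool.rec (motive := fun _ => List ℕ) (bw982) (bw983) (Nat.ble 983 i)) (Nat.ble 982 i)) (Nat.ble 980 i)) (Bool.rec (motive := fun _ => List ℕ) (Bool.rec (motive := fun _ =>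 List ℕ) (Bool.rec (motive := fun _ => List ℕ) (bw984) (bw985) (Nat.ble 985 i)) (Bool.rec (motive := fun _ => List ℕ) (bw986) (bw987) (Nat.ble 987 i)) (Nat.ble 986 i)) (Bool.rec (motive := fun _ => List ℕ) (Bool.rec (motive := fun _ => List ℕ) (bw988) (bw989) (Nat.ble 989 i)) (Bool.rec (motive := fun _ => List ℕ) (bw990) (bw991) (Nat.ble 991 i)) (Nat.ble 990 i)) (Nat.ble 988 i)) (Nat.ble 984 i)) (Nat.ble 976 i)) (Bool.rec (motive := fun _ => List ℕ) (Bool.rec (motive := fun _ => List ℕ) (Bool.rec (motive := fun _ => List ℕ) (Bool.rec (motive := fun _ => List ℕ) (Bool.rec (motive := fun _ => List ℕ) (bw992) (bw993) (Nat.ble 993 i)) (Bool.rec (motive := fun _ => List ℕ) (bw994) (bw995) (Nat.ble 995 i)) (Nat.ble 994 i)) (Bool.rec (motive := fun _ => List ℕ) (Bool.rec (motive := fun _ => List ℕ) (bw996) (bw997)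 (Nat.ble 997 i)) (Bool.rec (motive := fun _ => List ℕ) (bw998) (bw999) (Nat.ble 999 i)) (Nat.ble 998 i)) (Nat.ble 996 i)) (Bool.rec (motive := fun _ => List ℕ) (Bool.rec (motive := fun _ => List ℕ) (Bool.rec (motive := fun _ => List ℕ) (bw1000) (bw1001) (Nat.ble 1001 i)) (Bool.rec (motive := fun _ => List ℕ) (bw1002) (bw1003) (Nat.ble 1003 i)) (Nat.ble 1002 i)) (Bool.rec (motive := fun _ => List ℕ) (Bool.rec (motive := fun _ => List ℕ) (bw1004) (bw1005) (Nat.ble 1005 i)) (Bool.rec (motive := fun _ => List ℕ) (bw1006) (bw1007) (Nat.ble 1007 i)) (Nat.ble 1006 i)) (Nat.ble 1004 i)) (Nat.ble 1000 i)) (Bool.rec (motive := fun _ => List ℕ) (Bool.rec (motive := fun _ => List ℕ) (Bool.rec (motive := fun _ => List ℕ) (Bool.rec (motive := fun _ => List ℕ) (bw1008) (bw1009) (Nat.ble 1009 i)) (Bool.rec (motive :=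 fun _ => List ℕ) (bw1010) (bw1011) (Nat.ble 1011 i)) (Nat.ble 1010 i)) (Bool.rec (motive := fun _ => List ℕ) (Bool.rec (motive := fun _ => List ℕ) (bw1012) (bw1013) (Nat.ble 1013 i)) (Bool.rec (motive := fun _ => List ℕ) (bw1014) (bw1015) (Nat.ble 1015 i)) (Nat.ble 1014 i)) (Nat.ble 1012 i)) (Bool.rec (motive := fun _ => List ℕ) (Bool.rec (motive := fun _ => List ℕ) (Bool.rec (motive := fun _ => List ℕ) (bw1016) (bw1017) (Nat.ble 1017 i)) (Bool.rec (motive := fun _ => List ℕ) (bw1018) (bw1019) (Nat.ble 1019 i)) (Nat.ble 1018 i)) (Bool.rec (motive := fun _ => List ℕ) (Bool.rec (motive := fun _ => List ℕ) (bw1020) (bw1021) (Nat.ble 1021 i)) (Bool.rec (motive := fun _ => List ℕ) (bw1022) (bw1023) (Nat.ble 1023 i)) (Nat.ble 1022 i)) (Nat.ble 1020 i)) (Nat.ble 1016 i)) (Nat.ble 1008 i)) (Nat.ble 992 i)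
noncomputable def bwb16 (i : ℕ) : List ℕ := Bool.rec (motive := fun _ => List ℕ) (Bool.rec (motive := fun _ => List ℕ) (Bool.rec (motive := fun _ => List ℕ) (Bool.rec (motive := fun _ => List ℕ) (Bool.rec (motive := fun _ => List ℕ) (Bool.rec (motive := fun _ => List ℕ) (bw1024) (bw1025) (Nat.ble 1025 i)) (Bool.rec (motive := fun _ => List ℕ) (bw1026) (bw1027) (Nat.ble 1027 i)) (Nat.ble 1026 i)) (Bool.rec (motive := fun _ => List ℕ) (Bool.rec (motive := fun _ => List ℕ) (bw1028) (bw1029) (Nat.ble 1029 i)) (Bool.rec (motive := fun _ => List ℕ) (bw1030) (bw1031) (Nat.ble 1031 i)) (Nat.ble 1030 i)) (Nat.ble 1028 i)) (Bool.rec (motive := fun _ => List ℕ) (Bool.rec (motive := fun _ => List ℕ) (Bool.rec (motive := fun _ => List ℕ) (bw1032) (bw1033) (Nat.ble 1033 i)) (Bool.rec (motive := fun _ => List ℕ) (bw1034)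 (bw1035) (Nat.ble 1035 i)) (Nat.ble 1034 i)) (Bool.rec (motive := fun _ => List ℕ) (Bool.rec (motive := fun _ => List ℕ) (bw1036) (bw1037) (Nat.ble 1037 i)) (Bool.rec (motive := fun _ => List ℕ) (bw1038) (bw1039) (Nat.ble 1039 i)) (Nat.ble 1038 i)) (Nat.ble 1036 i)) (Nat.ble 1032 i)) (Bool.rec (motive := fun _ => List ℕ) (Bool.rec (motive := fun _ => List ℕ) (Bool.rec (motive := fun _ => List ℕ) (Bool.rec (motive := fun _ => List ℕ) (bw1040) (bw1041) (Nat.ble 1041 i)) (Bool.rec (motive := fun _ => List ℕ) (bw1042) (bw1043) (Nat.ble 1043 i)) (Nat.ble 1042 i)) (Bool.rec (motive := fun _ => List ℕ) (Bool.rec (motive := fun _ => List ℕ) (bw1044) (bw1045) (Nat.ble 1045 i)) (Bool.rec (motive := fun _ => List ℕ) (bw1046) (bw1047) (Nat.ble 1047 i)) (Nat.ble 1046 i)) (Nat.ble 1044 i)) (Bool.rec (motive := fun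 _ => List ℕ) (Bool.rec (motive := fun _ => List ℕ) (Bool.rec (motive := fun _ => List ℕ) (bw1048) (bw1049) (Nat.ble 1049 i)) (Bool.rec (motive := fun _ => List ℕ) (bw1050) (bw1051) (Nat.ble 1051 i)) (Nat.ble 1050 i)) (Bool.rec (motive := fun _ => List ℕ) (Bool.rec (motive := fun _ => List ℕ) (bw1052) (bw1053) (Nat.ble 1053 i)) (Bool.rec (motive := fun _ => List ℕ) (bw1054) (bw1055) (Nat.ble 1055 i)) (Nat.ble 1054 i)) (Nat.ble 1052 i)) (Nat.ble 1048 i)) (Nat.ble 1040 i)) (Bool.rec (motive := fun _ => List ℕ) (Bool.rec (motive := fun _ => List ℕ) (Bool.rec (motive := fun _ => List ℕ) (Bool.rec (motive := fun _ => List ℕ) (Bool.rec (motive := fun _ => List ℕ) (bw1056) (bw1057) (Nat.ble 1057 i)) (Bool.rec (motive := fun _ => List ℕ) (bw1058) (bw1059) (Nat.ble 1059 i)) (Nat.ble 1058 i)) (Bool.rec (motive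 := fun _ => List ℕ) (Bool.rec (motive := fun _ => List ℕ) (bw1060) (bw1061) (Nat.ble 1061 i)) (Bool.rec (motive := fun _ => List ℕ) (bw1062) (bw1063) (Nat.ble 1063 i)) (Nat.ble 1062 i)) (Nat.ble 1060 i)) (Bool.rec (motive := fun _ => List ℕ) (Bool.rec (motive := fun _ => List ℕ) (Bool.rec (motive := fun _ => List ℕ) (bw1064) (bw1065) (Nat.ble 1065 i)) (Bool.rec (motive := fun _ => List ℕ) (bw1066) (bw1067) (Nat.ble 1067 i)) (Nat.ble 1066 i)) (Bool.rec (motive := fun _ => List ℕ) (Bool.rec (motive := fun _ => List ℕ) (bw1068) (bw1069) (Nat.ble 1069 i)) (Bool.rec (motive := fun _ => List ℕ) (bw1070) (bw1071) (Nat.ble 1071 i)) (Nat.ble 1070 i)) (Nat.ble 1068 i)) (Nat.ble 1064 i)) (Bool.rec (motive := fun _ => List ℕ) (Bool.rec (motive := fun _ => List ℕ) (Bool.rec (motive := fun _ => List ℕ) (Bool.rec (motive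 := fun _ => List ℕ) (bw1072) (bw1073) (Nat.ble 1073 i)) (Bool.rec (motive := fun _ => List ℕ) (bw1074) (bw1075) (Nat.ble 1075 i)) (Nat.ble 1074 i)) (Bool.rec (motive := fun _ => List ℕ) (Bool.rec (motive := fun _ => List ℕ) (bw1076) (bw1077) (Nat.ble 1077 i)) (Bool.rec (motive := fun _ => List ℕ) (bw1078) (bw1079) (Nat.ble 1079 i)) (Nat.ble 1078 i)) (Nat.ble 1076 i)) (Bool.rec (motive := fun _ => List ℕ) (Bool.rec (motive := fun _ => List ℕ) (Bool.rec (motive := fun _ => List ℕ) (bw1080) (bw1081) (Nat.ble 1081 i)) (Bool.rec (motive := fun _ => List ℕ) (bw1082) (bw1083) (Nat.ble 1083 i)) (Nat.ble 1082 i)) (Bool.rec (motive := fun _ => List ℕ) (Bool.rec (motive := fun _ => List ℕ) (bw1084) (bw1085) (Nat.ble 1085 i)) (Bool.rec (motive := fun _ => List ℕ) (bw1086) (bw1087) (Nat.ble 1087 i)) (Nat.ble 1086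 i)) (Nat.ble 1084 i)) (Nat.ble 1080 i)) (Nat.ble 1072 i)) (Nat.ble 1056 i)
noncomputable def bwb17 (i : ℕ) : List ℕ := Bool.rec (motive := fun _ => List ℕ) (Bool.rec (motive := fun _ => List ℕ) (Bool.rec (motive := fun _ => List ℕ) (Bool.rec (motive := fun _ => List ℕ) (Bool.rec (motive := fun _ => List ℕ) (Bool.rec (motive := fun _ => List ℕ) (bw1088) (bw1089) (Nat.ble 1089 i)) (Bool.rec (motive := fun _ => List ℕ) (bw1090) (bw1091) (Nat.ble 1091 i)) (Nat.ble 1090 i)) (Bool.rec (motive := fun _ => List ℕ) (Bool.rec (motive := fun _ => List ℕ) (bw1092) (bw1093) (Nat.ble 1093 i)) (Bool.rec (motive := fun _ => List ℕ) (bw1094) (bw1095) (Nat.ble 1095 i)) (Nat.ble 1094 i)) (Nat.ble 1092 i)) (Bool.rec (motive := fun _ => List ℕ) (Bool.rec (motive := fun _ => List ℕ) (Bool.rec (motive := fun _ => List ℕ) (bw1096)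 (bw1097) (Nat.ble 1097 i)) (Bool.rec (motive := fun _ => List ℕ) (bw1098) (bw1099) (Nat.ble 1099 i)) (Nat.ble 1098 i)) (Bool.rec (motive := fun _ => List ℕ) (Bool.rec (motive := fun _ => List ℕ) (bw1100) (bw1101) (Nat.ble 1101 i)) (Bool.rec (motive := fun _ => List ℕ) (bw1102) (bw1103) (Nat.ble 1103 i)) (Nat.ble 1102 i)) (Nat.ble 1100 i)) (Nat.ble 1096 i)) (Bool.rec (motive := fun _ => List ℕ) (Bool.rec (motive := fun _ => List ℕ) (Bool.rec (motive := fun _ => List ℕ) (Bool.rec (motive := fun _ => List ℕ) (bw1104) (bw1105) (Nat.ble 1105 i)) (Bool.rec (motive := fun _ => List ℕ) (bw1106) (bw1107) (Nat.ble 1107 i)) (Nat.ble 1106 i)) (Bool.rec (motive := fun _ => List ℕ) (Bool.rec (motive := fun _ => List ℕ) (bw1108) (bw1109) (Nat.ble 1109 i)) (Bool.rec (motive := fun _ => List ℕ) (bw1110) (bw1111) (Nat.ble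 1111 i)) (Nat.ble 1110 i)) (Nat.ble 1108 i)) (Bool.rec (motive := fun _ => List ℕ) (Bool.rec (motive := fun _ => List ℕ) (Bool.rec (motive := fun _ => List ℕ) (bw1112) (bw1113) (Nat.ble 1113 i)) (Bool.rec (motive := fun _ => List ℕ) (bw1114) (bw1115) (Nat.ble 1115 i)) (Nat.ble 1114 i)) (Bool.rec (motive := fun _ => List ℕ) (Bool.rec (motive := fun _ => List ℕ) (bw1116) (bw1117) (Nat.ble 1117 i)) (Bool.rec (motive := fun _ => List ℕ) (bw1118) (bw1119) (Nat.ble 1119 i)) (Nat.ble 1118 i)) (Nat.ble 1116 i)) (Nat.ble 1112 i)) (Nat.ble 1104 i)) (Bool.rec (motive := fun _ => List ℕ) (Bool.rec (motive := fun _ => List ℕ) (Bool.rec (motive := fun _ => List ℕ) (Bool.rec (motive := fun _ => List ℕ) (Bool.rec (motive := fun _ => List ℕ) (bw1120) (bw1121) (Nat.ble 1121 i)) (Bool.rec (motive := fun _ => List ℕ) (bw1122)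 (bw1123) (Nat.ble 1123 i)) (Nat.ble 1122 i)) (Bool.rec (motive := fun _ => List ℕ) (Bool.rec (motive := fun _ => List ℕ) (bw1124) (bw1125) (Nat.ble 1125 i)) (Bool.rec (motive := fun _ => List ℕ) (bw1126) (bw1127) (Nat.ble 1127 i)) (Nat.ble 1126 i)) (Nat.ble 1124 i)) (Bool.rec (motive := fun _ => List ℕ) (Bool.rec (motive := fun _ => List ℕ) (Bool.rec (motive := fun _ => List ℕ) (bw1128) (bw1129) (Nat.ble 1129 i)) (Bool.rec (motive := fun _ => List ℕ) (bw1130) (bw1131) (Nat.ble 1131 i)) (Nat.ble 1130 i)) (Bool.rec (motive := fun _ => List ℕ) (Bool.rec (motive := fun _ => List ℕ) (bw1132) (bw1133) (Nat.ble 1133 i)) (Bool.rec (motive := fun _ => List ℕ) (bw1134) (bw1135) (Nat.ble 1135 i)) (Nat.ble 1134 i)) (Nat.ble 1132 i)) (Nat.ble 1128 i)) (Bool.rec (motive := fun _ => List ℕ) (Bool.rec (motive := fun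 _ => List ℕ) (Bool.rec (motive := fun _ => List ℕ) (Bool.rec (motive := fun _ => List ℕ) (bw1136) (bw1137) (Nat.ble 1137 i)) (Bool.rec (motive := fun _ => List ℕ) (bw1138) (bw1139) (Nat.ble 1139 i)) (Nat.ble 1138 i)) (Bool.rec (motive := fun _ => List ℕ) (Bool.rec (motive := fun _ => List ℕ) (bw1140) (bw1141) (Nat.ble 1141 i)) (Bool.rec (motive := fun _ => List ℕ) (bw1142) (bw1143) (Nat.ble 1143 i)) (Nat.ble 1142 i)) (Nat.ble 1140 i)) (Bool.rec (motive := fun _ => List ℕ) (Bool.rec (motive := fun _ => List ℕ) (Bool.rec (motive := fun _ => List ℕ) (bw1144) (bw1145) (Nat.ble 1145 i)) (Bool.rec (motive := fun _ => List ℕ) (bw1146) (bw1147) (Nat.ble 1147 i)) (Nat.ble 1146 i)) (Bool.rec (motive := fun _ => List ℕ) (Bool.rec (motive := fun _ => List ℕ) (bw1148) (bw1149) (Nat.ble 1149 i)) (Bool.rec (motive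 := fun _ => List ℕ) (bw1150) (bw1151) (Nat.ble 1151 i)) (Nat.ble 1150 i)) (Nat.ble 1148 i)) (Nat.ble 1144 i)) (Nat.ble 1136 i)) (Nat.ble 1120 i)
noncomputable def bwb18 (i : ℕ) : List ℕ := Bool.rec (motive := fun _ => List ℕ) (Bool.rec (motive := fun _ => List ℕ) (Bool.rec (motive := fun _ => List ℕ) (Bool.rec (motive := fun _ => List ℕ) (Bool.rec (motive := fun _ => List ℕ) (Bool.rec (motive := fun _ => List ℕ) (bw1152) (bw1153) (Nat.ble 1153 i)) (Bool.rec (motive := fun _ => List ℕ) (bw1154) (bw1155) (Nat.ble 1155 i)) (Nat.ble 1154 i)) (Bool.rec (motive := fun _ => List ℕ) (Bool.rec (motive := fun _ => List ℕ) (bw1156) (bw1157) (Nat.ble 1157 i)) (Bool.rec (motive := fun _ => List ℕ) (bw1158) (bw1159) (Nat.ble 1159 i)) (Nat.ble 1158 i)) (Nat.ble 1156 i)) (Bool.rec (motive := fun _ => List ℕ) (Bool.rec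 (motive := fun _ => List ℕ) (Bool.rec (motive := fun _ => List ℕ) (bw1160) (bw1161) (Nat.ble 1161 i)) (Bool.rec (motive := fun _ => List ℕ) (bw1162) (bw1163) (Nat.ble 1163 i)) (Nat.ble 1162 i)) (Bool.rec (motive := fun _ => List ℕ) (Bool.rec (motive := fun _ => List ℕ) (bw1164) (bw1165) (Nat.ble 1165 i)) (Bool.rec (motive := fun _ => List ℕ) (bw1166) (bw1167) (Nat.ble 1167 i)) (Nat.ble 1166 i)) (Nat.ble 1164 i)) (Nat.ble 1160 i)) (Bool.rec (motive := fun _ => List ℕ) (Bool.rec (motive := fun _ => List ℕ) (Bool.rec (motive := fun _ => List ℕ) (Bool.rec (motive := fun _ => List ℕ) (bw1168) (bw1169) (Nat.ble 1169 i)) (Bool.rec (motive := fun _ => List ℕ) (bw1170) (bw1171) (Nat.ble 1171 i)) (Nat.ble 1170 i)) (Bool.rec (motive := fun _ => List ℕ) (Bool.rec (motive := fun _ => List ℕ) (bw1172) (bw1173) (Nat.ble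 1173 i)) (Bool.rec (motive := fun _ => List ℕ) (bw1174) (bw1175) (Nat.ble 1175 i)) (Nat.ble 1174 i)) (Nat.ble 1172 i)) (Bool.rec (motive := fun _ => List ℕ) (Bool.rec (motive := fun _ => List ℕ) (Bool.rec (motive := fun _ => List ℕ) (bw1176) (bw1177) (Nat.ble 1177 i)) (Bool.rec (motive := fun _ => List ℕ) (bw1178) (bw1179) (Nat.ble 1179 i)) (Nat.ble 1178 i)) (Bool.rec (motive := fun _ => List ℕ) (Bool.rec (motive := fun _ => List ℕ) (bw1180) (bw1181) (Nat.ble 1181 i)) (Bool.rec (motive := fun _ => List ℕ) (bw1182) (bw1183) (Nat.ble 1183 i)) (Nat.ble 1182 i)) (Nat.ble 1180 i)) (Nat.ble 1176 i)) (Nat.ble 1168 i)) (Bool.rec (motive := fun _ => List ℕ) (Bool.rec (motive := fun _ => List ℕ) (Bool.rec (motive := fun _ => List ℕ) (Bool.rec (motive := fun _ => List ℕ) (Bool.rec (motive := fun _ => List ℕ) (bw1184)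 (bw1185) (Nat.ble 1185 i)) (Bool.rec (motive := fun _ => List ℕ) (bw1186) (bw1187) (Nat.ble 1187 i)) (Nat.ble 1186 i)) (Bool.rec (motive := fun _ => List ℕ) (Bool.rec (motive := fun _ => List ℕ) (bw1188) (bw1189) (Nat.ble 1189 i)) (Bool.rec (motive := fun _ => List ℕ) (bw1190) (bw1191) (Nat.ble 1191 i)) (Nat.ble 1190 i)) (Nat.ble 1188 i)) (Bool.rec (motive := fun _ => List ℕ) (Bool.rec (motive := fun _ => List ℕ) (Bool.rec (motive := fun _ => List ℕ) (bw1192) (bw1193) (Nat.ble 1193 i)) (Bool.rec (motive := fun _ => List ℕ) (bw1194) (bw1195) (Nat.ble 1195 i)) (Nat.ble 1194 i)) (Bool.rec (motive := fun _ => List ℕ) (Bool.rec (motive := fun _ => List ℕ) (bw1196) (bw1197) (Nat.ble 1197 i)) (Bool.rec (motive := fun _ => List ℕ) (bw1198) (bw1199) (Nat.ble 1199 i)) (Nat.ble 1198 i)) (Nat.ble 1196 i)) (Nat.ble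 1192 i)) (Bool.rec (motive := fun _ => List ℕ) (Bool.rec (motive := fun _ => List ℕ) (Bool.rec (motive := fun _ => List ℕ) (Bool.rec (motive := fun _ => List ℕ) (bw1200) (bw1201) (Nat.ble 1201 i)) (Bool.rec (motive := fun _ => List ℕ) (bw1202) (bw1203) (Nat.ble 1203 i)) (Nat.ble 1202 i)) (Bool.rec (motive := fun _ => List ℕ) (Bool.rec (motive := fun _ => List ℕ) (bw1204) (bw1205) (Nat.ble 1205 i)) (Bool.rec (motive := fun _ => List ℕ) (bw1206) (bw1207) (Nat.ble 1207 i)) (Nat.ble 1206 i)) (Nat.ble 1204 i)) (Bool.rec (motive := fun _ => List ℕ) (Bool.rec (motive := fun _ => List ℕ) (Bool.rec (motive := fun _ => List ℕ) (bw1208) (bw1209) (Nat.ble 1209 i)) (Bool.rec (motive := fun _ => List ℕ) (bw1210) (bw1211) (Nat.ble 1211 i)) (Nat.ble 1210 i)) (Bool.rec (motive := fun _ => List ℕ) (Bool.rec (motive :=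 fun _ => List ℕ) (bw1212) (bw1213) (Nat.ble 1213 i)) (Bool.rec (motive := fun _ => List ℕ) (bw1214) (bw1215) (Nat.ble 1215 i)) (Nat.ble 1214 i)) (Nat.ble 1212 i)) (Nat.ble 1208 i)) (Nat.ble 1200 i)) (Nat.ble 1184 i)
noncomputable def bwb19 (i : ℕ) : List ℕ := Bool.rec (motive := fun _ => List ℕ) (Bool.rec (motive := fun _ => List ℕ) (Bool.rec (motive := fun _ => List ℕ) (Bool.rec (motive := fun _ => List ℕ) (Bool.rec (motive := fun _ => List ℕ) (Bool.rec (motive := fun _ => List ℕ) (bw1216) (bw1217) (Nat.ble 1217 i)) (Bool.rec (motive := fun _ => List ℕ) (bw1218) (bw1219) (Nat.ble 1219 i)) (Nat.ble 1218 i)) (Bool.rec (motive := fun _ => List ℕ) (Bool.rec (motive := fun _ => List ℕ) (bw1220) (bw1221) (Nat.ble 1221 i)) (Bool.rec (motive := fun _ => List ℕ) (bw1222) (bw1223) (Nat.ble 1223 i)) (Nat.ble 1222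 i)) (Nat.ble 1220 i)) (Bool.rec (motive := fun _ => List ℕ) (Bool.rec (motive := fun _ => List ℕ) (Bool.rec (motive := fun _ => List ℕ) (bw1224) (bw1225) (Nat.ble 1225 i)) (Bool.rec (motive := fun _ => List ℕ) (bw1226) (bw1227) (Nat.ble 1227 i)) (Nat.ble 1226 i)) (Bool.rec (motive := fun _ => List ℕ) (Bool.rec (motive := fun _ => List ℕ) (bw1228) (bw1229) (Nat.ble 1229 i)) (Bool.rec (motive := fun _ => List ℕ) (bw1230) (bw1231) (Nat.ble 1231 i)) (Nat.ble 1230 i)) (Nat.ble 1228 i)) (Nat.ble 1224 i)) (Bool.rec (motive := fun _ => List ℕ) (Bool.rec (motive := fun _ => List ℕ) (Bool.rec (motive := fun _ => List ℕ) (Bool.rec (motive := fun _ => List ℕ) (bw1232) (bw1233) (Nat.ble 1233 i)) (Bool.rec (motive := fun _ => List ℕ) (bw1234) (bw1235) (Nat.ble 1235 i)) (Nat.ble 1234 i)) (Bool.rec (motive := fun _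 => List ℕ) (Bool.rec (motive := fun _ => List ℕ) (bw1236) (bw1237) (Nat.ble 1237 i)) (Bool.rec (motive := fun _ => List ℕ) (bw1238) (bw1239) (Nat.ble 1239 i)) (Nat.ble 1238 i)) (Nat.ble 1236 i)) (Bool.rec (motive := fun _ => List ℕ) (Bool.rec (motive := fun _ => List ℕ) (Bool.rec (motive := fun _ => List ℕ) (bw1240) (bw1241) (Nat.ble 1241 i)) (Bool.rec (motive := fun _ => List ℕ) (bw1242) (bw1243) (Nat.ble 1243 i)) (Nat.ble 1242 i)) (Bool.rec (motive := fun _ => List ℕ) (Bool.rec (motive := fun _ => List ℕ) (bw1244) (bw1245) (Nat.ble 1245 i)) (Bool.rec (motive := fun _ => List ℕ) (bw1246) (bw1247) (Nat.ble 1247 i)) (Nat.ble 1246 i)) (Nat.ble 1244 i)) (Nat.ble 1240 i)) (Nat.ble 1232 i)) (Bool.rec (motive := fun _ => List ℕ) (Bool.rec (motive := fun _ => List ℕ) (Bool.rec (motive := fun _ => List ℕ) (Bool.rec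 (motive := fun _ => List ℕ) (Bool.rec (motive := fun _ => List ℕ) (bw1248) (bw1249) (Nat.ble 1249 i)) (Bool.rec (motive := fun _ => List ℕ) (bw1250) (bw1251) (Nat.ble 1251 i)) (Nat.ble 1250 i)) (Bool.rec (motive := fun _ => List ℕ) (Bool.rec (motive := fun _ => List ℕ) (bw1252) (bw1253) (Nat.ble 1253 i)) (Bool.rec (motive := fun _ => List ℕ) (bw1254) (bw1255) (Nat.ble 1255 i)) (Nat.ble 1254 i)) (Nat.ble 1252 i)) (Bool.rec (motive := fun _ => List ℕ) (Bool.rec (motive := fun _ => List ℕ) (Bool.rec (motive := fun _ => List ℕ) (bw1256) (bw1257) (Nat.ble 1257 i)) (Bool.rec (motive := fun _ => List ℕ) (bw1258) (bw1259) (Nat.ble 1259 i)) (Nat.ble 1258 i)) (Bool.rec (motive := fun _ => List ℕ) (Bool.rec (motive := fun _ => List ℕ) (bw1260) (bw1261) (Nat.ble 1261 i)) (Bool.rec (motive := fun _ => List ℕ) (bw1262)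 (bw1263) (Nat.ble 1263 i)) (Nat.ble 1262 i)) (Nat.ble 1260 i)) (Nat.ble 1256 i)) (Bool.rec (motive := fun _ => List ℕ) (Bool.rec (motive := fun _ => List ℕ) (Bool.rec (motive := fun _ => List ℕ) (Bool.rec (motive := fun _ => List ℕ) (bw1264) (bw1265) (Nat.ble 1265 i)) (Bool.rec (motive := fun _ => List ℕ) (bw1266) (bw1267) (Nat.ble 1267 i)) (Nat.ble 1266 i)) (Bool.rec (motive := fun _ => List ℕ) (Bool.rec (motive := fun _ => List ℕ) (bw1268) (bw1269) (Nat.ble 1269 i)) (Bool.rec (motive := fun _ => List ℕ) (bw1270) (bw1271) (Nat.ble 1271 i)) (Nat.ble 1270 i)) (Nat.ble 1268 i)) (Bool.rec (motive := fun _ => List ℕ) (Bool.rec (motive := fun _ => List ℕ) (Bool.rec (motive := fun _ => List ℕ) (bw1272) (bw1273) (Nat.ble 1273 i)) (Bool.rec (motive := fun _ => List ℕ) (bw1274) (bw1275) (Nat.ble 1275 i)) (Nat.ble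 1274 i)) (Bool.rec (motive := fun _ => List ℕ) (Bool.rec (motive := fun _ => List ℕ) (bw1276) (bw1277) (Nat.ble 1277 i)) (Bool.rec (motive := fun _ => List ℕ) (bw1278) (bw1279) (Nat.ble 1279 i)) (Nat.ble 1278 i)) (Nat.ble 1276 i)) (Nat.ble 1272 i)) (Nat.ble 1264 i)) (Nat.ble 1248 i)
noncomputable def bwb20 (i : ℕ) : List ℕ := Bool.rec (motive := fun _ => List ℕ) (Bool.rec (motive := fun _ => List ℕ) (Bool.rec (motive := fun _ => List ℕ) (Bool.rec (motive := fun _ => List ℕ) (Bool.rec (motive := fun _ => List ℕ) (Bool.rec (motive := fun _ => List ℕ) (bw1280) (bw1281) (Nat.ble 1281 i)) (Bool.rec (motive := fun _ => List ℕ) (bw1282) (bw1283) (Nat.ble 1283 i)) (Nat.ble 1282 i)) (Bool.rec (motive := fun _ => List ℕ) (Bool.rec (motive := fun _ => List ℕ) (bw1284) (bw1285) (Nat.ble 1285 i)) (Bool.rec (motive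 := fun _ => List ℕ) (bw1286) (bw1287) (Nat.ble 1287 i)) (Nat.ble 1286 i)) (Nat.ble 1284 i)) (Bool.rec (motive := fun _ => List ℕ) (Bool.rec (motive := fun _ => List ℕ) (Bool.rec (motive := fun _ => List ℕ) (bw1288) (bw1289) (Nat.ble 1289 i)) (Bool.rec (motive := fun _ => List ℕ) (bw1290) (bw1291) (Nat.ble 1291 i)) (Nat.ble 1290 i)) (Bool.rec (motive := fun _ => List ℕ) (Bool.rec (motive := fun _ => List ℕ) (bw1292) (bw1293) (Nat.ble 1293 i)) (Bool.rec (motive := fun _ => List ℕ) (bw1294) (bw1295) (Nat.ble 1295 i)) (Nat.ble 1294 i)) (Nat.ble 1292 i)) (Nat.ble 1288 i)) (Bool.rec (motive := fun _ => List ℕ) (Bool.rec (motive := fun _ => List ℕ) (Bool.rec (motive := fun _ => List ℕ) (Bool.rec (motive := fun _ => List ℕ) (bw1296) (bw1297) (Nat.ble 1297 i)) (Bool.rec (motive := fun _ => List ℕ) (bw1298) (bw1299)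 (Nat.ble 1299 i)) (Nat.ble 1298 i)) (Bool.rec (motive := fun _ => List ℕ) (Bool.rec (motive := fun _ => List ℕ) (bw1300) (bw1301) (Nat.ble 1301 i)) (Bool.rec (motive := fun _ => List ℕ) (bw1302) (bw1303) (Nat.ble 1303 i)) (Nat.ble 1302 i)) (Nat.ble 1300 i)) (Bool.rec (motive := fun _ => List ℕ) (Bool.rec (motive := fun _ => List ℕ) (Bool.rec (motive := fun _ => List ℕ) (bw1304) (bw1305) (Nat.ble 1305 i)) (Bool.rec (motive := fun _ => List ℕ) (bw1306) (bw1307) (Nat.ble 1307 i)) (Nat.ble 1306 i)) (Bool.rec (motive := fun _ => List ℕ) (Bool.rec (motive := fun _ => List ℕ) (bw1308) (bw1309) (Nat.ble 1309 i)) (Bool.rec (motive := fun _ => List ℕ) (bw1310) (bw1311) (Nat.ble 1311 i)) (Nat.ble 1310 i)) (Nat.ble 1308 i)) (Nat.ble 1304 i)) (Nat.ble 1296 i)) (Bool.rec (motive := fun _ => List ℕ) (Bool.rec (motive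 := fun _ => List ℕ) (Bool.rec (motive := fun _ => List ℕ) (Bool.rec (motive := fun _ => List ℕ) (Bool.rec (motive := fun _ => List ℕ) (bw1312) (bw1313) (Nat.ble 1313 i)) (Bool.rec (motive := fun _ => List ℕ) (bw1314) (bw1315) (Nat.ble 1315 i)) (Nat.ble 1314 i)) (Bool.rec (motive := fun _ => List ℕ) (Bool.rec (motive := fun _ => List ℕ) (bw1316) (bw1317) (Nat.ble 1317 i)) (Bool.rec (motive := fun _ => List ℕ) (bw1318) (bw1319) (Nat.ble 1319 i)) (Nat.ble 1318 i)) (Nat.ble 1316 i)) (Bool.rec (motive := fun _ => List ℕ) (Bool.rec (motive := fun _ => List ℕ) (Bool.rec (motive := fun _ => List ℕ) (bw1320) (bw1321) (Nat.ble 1321 i)) (Bool.rec (motive := fun _ => List ℕ) (bw1322) (bw1323) (Nat.ble 1323 i)) (Nat.ble 1322 i)) (Bool.rec (motive := fun _ => List ℕ) (Bool.rec (motive := fun _ => List ℕ) (bw1324)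 (bw1325) (Nat.ble 1325 i)) (Bool.rec (motive := fun _ => List ℕ) (bw1326) (bw1327) (Nat.ble 1327 i)) (Nat.ble 1326 i)) (Nat.ble 1324 i)) (Nat.ble 1320 i)) (Bool.rec (motive := fun _ => List ℕ) (Bool.rec (motive := fun _ => List ℕ) (Bool.rec (motive := fun _ => List ℕ) (Bool.rec (motive := fun _ => List ℕ) (bw1328) (bw1329) (Nat.ble 1329 i)) (Bool.rec (motive := fun _ => List ℕ) (bw1330) (bw1331) (Nat.ble 1331 i)) (Nat.ble 1330 i)) (Bool.rec (motive := fun _ => List ℕ) (Bool.rec (motive := fun _ => List ℕ) (bw1332) (bw1333) (Nat.ble 1333 i)) (Bool.rec (motive := fun _ => List ℕ) (bw1334) (bw1335) (Nat.ble 1335 i)) (Nat.ble 1334 i)) (Nat.ble 1332 i)) (Bool.rec (motive := fun _ => List ℕ) (Bool.rec (motive := fun _ => List ℕ) (Bool.rec (motive := fun _ => List ℕ) (bw1336) (bw1337) (Nat.ble 1337 i)) (Bool.rec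 (motive := fun _ => List ℕ) (bw1338) (bw1339) (Nat.ble 1339 i)) (Nat.ble 1338 i)) (Bool.rec (motive := fun _ => List ℕ) (Bool.rec (motive := fun _ => List ℕ) (bw1340) (bw1341) (Nat.ble 1341 i)) (Bool.rec (motive := fun _ => List ℕ) (bw1342) (bw1343) (Nat.ble 1343 i)) (Nat.ble 1342 i)) (Nat.ble 1340 i)) (Nat.ble 1336 i)) (Nat.ble 1328 i)) (Nat.ble 1312 i)
noncomputable def bwb21 (i : ℕ) : List ℕ := Bool.rec (motive := fun _ => List ℕ) (Bool.rec (motive := fun _ => List ℕ) (Bool.rec (motive := fun _ => List ℕ) (Bool.rec (motive := fun _ => List ℕ) (Bool.rec (motive := fun _ => List ℕ) (Bool.rec (motive := fun _ => List ℕ) (bw1344) (bw1345) (Nat.ble 1345 i)) (Bool.rec (motive := fun _ => List ℕ) (bw1346) (bw1347) (Nat.ble 1347 i)) (Nat.ble 1346 i)) (Bool.rec (motive := fun _ => List ℕ) (Bool.rec (motive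 := fun _ => List ℕ) (bw1348) (bw1349) (Nat.ble 1349 i)) (Bool.rec (motive := fun _ => List ℕ) (bw1350) (bw1351) (Nat.ble 1351 i)) (Nat.ble 1350 i)) (Nat.ble 1348 i)) (Bool.rec (motive := fun _ => List ℕ) (Bool.rec (motive := fun _ => List ℕ) (Bool.rec (motive := fun _ => List ℕ) (bw1352) (bw1353) (Nat.ble 1353 i)) (Bool.rec (motive := fun _ => List ℕ) (bw1354) (bw1355) (Nat.ble 1355 i)) (Nat.ble 1354 i)) (Bool.rec (motive := fun _ => List ℕ) (Bool.rec (motive := fun _ => List ℕ) (bw1356) (bw1357) (Nat.ble 1357 i)) (Bool.rec (motive := fun _ => List ℕ) (bw1358) (bw1359) (Nat.ble 1359 i)) (Nat.ble 1358 i)) (Nat.ble 1356 i)) (Nat.ble 1352 i)) (Bool.rec (motive := fun _ => List ℕ) (Bool.rec (motive := fun _ => List ℕ) (Bool.rec (motive := fun _ => List ℕ) (Bool.rec (motive := fun _ => List ℕ) (bw1360) (bw1361)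 (Nat.ble 1361 i)) (Bool.rec (motive := fun _ => List ℕ) (bw1362) (bw1363) (Nat.ble 1363 i)) (Nat.ble 1362 i)) (Bool.rec (motive := fun _ => List ℕ) (Bool.rec (motive := fun _ => List ℕ) (bw1364) (bw1365) (Nat.ble 1365 i)) (Bool.rec (motive := fun _ => List ℕ) (bw1366) (bw1367) (Nat.ble 1367 i)) (Nat.ble 1366 i)) (Nat.ble 1364 i)) (Bool.rec (motive := fun _ => List ℕ) (Bool.rec (motive := fun _ => List ℕ) (Bool.rec (motive := fun _ => List ℕ) (bw1368) (bw1369) (Nat.ble 1369 i)) (Bool.rec (motive := fun _ => List ℕ) (bw1370) (bw1371) (Nat.ble 1371 i)) (Nat.ble 1370 i)) (Bool.rec (motive := fun _ => List ℕ) (Bool.rec (motive := fun _ => List ℕ) (bw1372) (bw1373) (Nat.ble 1373 i)) (Bool.rec (motive := fun _ => List ℕ) (bw1374) (bw1375) (Nat.ble 1375 i)) (Nat.ble 1374 i)) (Nat.ble 1372 i)) (Nat.ble 1368 i))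 (Nat.ble 1360 i)) (Bool.rec (motive := fun _ => List ℕ) (Bool.rec (motive := fun _ => List ℕ) (Bool.rec (motive := fun _ => List ℕ) (Bool.rec (motive := fun _ => List ℕ) (Bool.rec (motive := fun _ => List ℕ) (bw1376) (bw1377) (Nat.ble 1377 i)) (Bool.rec (motive := fun _ => List ℕ) (bw1378) (bw1379) (Nat.ble 1379 i)) (Nat.ble 1378 i)) (Bool.rec (motive := fun _ => List ℕ) (Bool.rec (motive := fun _ => List ℕ) (bw1380) (bw1381) (Nat.ble 1381 i)) (Bool.rec (motive := fun _ => List ℕ) (bw1382) (bw1383) (Nat.ble 1383 i)) (Nat.ble 1382 i)) (Nat.ble 1380 i)) (Bool.rec (motive := fun _ => List ℕ) (Bool.rec (motive := fun _ => List ℕ) (Bool.rec (motive := fun _ => List ℕ) (bw1384) (bw1385) (Nat.ble 1385 i)) (Bool.rec (motive := fun _ => List ℕ) (bw1386) (bw1387) (Nat.ble 1387 i)) (Nat.ble 1386 i)) (Bool.rec (motive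 := fun _ => List ℕ) (Bool.rec (motive := fun _ => List ℕ) (bw1388) (bw1389) (Nat.ble 1389 i)) (Bool.rec (motive := fun _ => List ℕ) (bw1390) (bw1391) (Nat.ble 1391 i)) (Nat.ble 1390 i)) (Nat.ble 1388 i)) (Nat.ble 1384 i)) (Bool.rec (motive := fun _ => List ℕ) (Bool.rec (motive := fun _ => List ℕ) (Bool.rec (motive := fun _ => List ℕ) (Bool.rec (motive := fun _ => List ℕ) (bw1392) (bw1393) (Nat.ble 1393 i)) (Bool.rec (motive := fun _ => List ℕ) (bw1394) (bw1395) (Nat.ble 1395 i)) (Nat.ble 1394 i)) (Bool.rec (motive := fun _ => List ℕ) (Bool.rec (motive := fun _ => List ℕ) (bw1396) (bw1397) (Nat.ble 1397 i)) (Bool.rec (motive := fun _ => List ℕ) (bw1398) (bw1399) (Nat.ble 1399 i)) (Nat.ble 1398 i)) (Nat.ble 1396 i)) (Bool.rec (motive := fun _ => List ℕ) (Bool.rec (motive := fun _ => List ℕ) (Bool.rec (motive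 := fun _ => List ℕ) (bw1400) (bw1401) (Nat.ble 1401 i)) (Bool.rec (motive := fun _ => List ℕ) (bw1402) (bw1403) (Nat.ble 1403 i)) (Nat.ble 1402 i)) (Bool.rec (motive := fun _ => List ℕ) (Bool.rec (motive := fun _ => List ℕ) (bw1404) (bw1405) (Nat.ble 1405 i)) (Bool.rec (motive := fun _ => List ℕ) (bw1406) (bw1407) (Nat.ble 1407 i)) (Nat.ble 1406 i)) (Nat.ble 1404 i)) (Nat.ble 1400 i)) (Nat.ble 1392 i)) (Nat.ble 1376 i)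
noncomputable def bwb22 (i : ℕ) : List ℕ := Bool.rec (motive := fun _ => List ℕ) (Bool.rec (motive := fun _ => List ℕ) (Bool.rec (motive := fun _ => List ℕ) (Bool.rec (motive := fun _ => List ℕ) (Bool.rec (motive := fun _ => List ℕ) (Bool.rec (motive := fun _ => List ℕ) (bw1408) (bw1409) (Nat.ble 1409 i)) (Bool.rec (motive := fun _ => List ℕ) (bw1410) (bw1411) (Nat.ble 1411 i)) (Nat.ble 1410 i)) (Bool.rec (motive := fun _ => List ℕ) (Bool.rec (motive := fun _ => List ℕ) (bw1412) (bw1413) (Nat.ble 1413 i)) (Bool.rec (motive := fun _ => List ℕ) (bw1414) (bw1415) (Nat.ble 1415 i)) (Nat.ble 1414 i)) (Nat.ble 1412 i)) (Bool.rec (motive := fun _ => List ℕ) (Bool.rec (motive := fun _ => List ℕ) (Bool.rec (motive := fun _ => List ℕ) (bw1416) (bw1417) (Nat.ble 1417 i)) (Bool.rec (motive := fun _ => List ℕ) (bw1418)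 (bw1419) (Nat.ble 1419 i)) (Nat.ble 1418 i)) (Bool.rec (motive := fun _ => List ℕ) (Bool.rec (motive := fun _ => List ℕ) (bw1420) (bw1421) (Nat.ble 1421 i)) (Bool.rec (motive := fun _ => List ℕ) (bw1422) (bw1423) (Nat.ble 1423 i)) (Nat.ble 1422 i)) (Nat.ble 1420 i)) (Nat.ble 1416 i)) (Bool.rec (motive := fun _ => List ℕ) (Bool.rec (motive := fun _ => List ℕ) (Bool.rec (motive := fun _ => List ℕ) (Bool.rec (motive := fun _ => List ℕ) (bw1424) (bw1425) (Nat.ble 1425 i)) (Bool.rec (motive := fun _ => List ℕ) (bw1426) (bw1427) (Nat.ble 1427 i)) (Nat.ble 1426 i)) (Bool.rec (motive := fun _ => List ℕ) (Bool.rec (motive := fun _ => List ℕ) (bw1428) (bw1429) (Nat.ble 1429 i)) (Bool.rec (motive := fun _ => List ℕ) (bw1430) (bw1431) (Nat.ble 1431 i)) (Nat.ble 1430 i)) (Nat.ble 1428 i)) (Bool.rec (motive := fun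 _ => List ℕ) (Bool.rec (motive := fun _ => List ℕ) (Bool.rec (motive := fun _ => List ℕ) (bw1432) (bw1433) (Nat.ble 1433 i)) (Bool.rec (motive := fun _ => List ℕ) (bw1434) (bw1435) (Nat.ble 1435 i)) (Nat.ble 1434 i)) (Bool.rec (motive := fun _ => List ℕ) (Bool.rec (motive := fun _ => List ℕ) (bw1436) (bw1437) (Nat.ble 1437 i)) (Bool.rec (motive := fun _ => List ℕ) (bw1438) (bw1439) (Nat.ble 1439 i)) (Nat.ble 1438 i)) (Nat.ble 1436 i)) (Nat.ble 1432 i)) (Nat.ble 1424 i)) (Bool.rec (motive := fun _ => List ℕ) (Bool.rec (motive := fun _ => List ℕ) (Bool.rec (motive := fun _ => List ℕ) (Bool.rec (motive := fun _ => List ℕ) (Bool.rec (motive := fun _ => List ℕ) (bw1440) (bw1441) (Nat.ble 1441 i)) (Bool.rec (motive := fun _ => List ℕ) (bw1442) (bw1443) (Nat.ble 1443 i)) (Nat.ble 1442 i)) (Bool.rec (motive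 := fun _ => List ℕ) (Bool.rec (motive := fun _ => List ℕ) (bw1444) (bw1445) (Nat.ble 1445 i)) (Bool.rec (motive := fun _ => List ℕ) (bw1446) (bw1447) (Nat.ble 1447 i)) (Nat.ble 1446 i)) (Nat.ble 1444 i)) (Bool.rec (motive := fun _ => List ℕ) (Bool.rec (motive := fun _ => List ℕ) (Bool.rec (motive := fun _ => List ℕ) (bw1448) (bw1449) (Nat.ble 1449 i)) (Bool.rec (motive := fun _ => List ℕ) (bw1450) (bw1451) (Nat.ble 1451 i)) (Nat.ble 1450 i)) (Bool.rec (motive := fun _ => List ℕ) (Bool.rec (motive := fun _ => List ℕ) (bw1452) (bw1453) (Nat.ble 1453 i)) (Bool.rec (motive := fun _ => List ℕ) (bw1454) (bw1455) (Nat.ble 1455 i)) (Nat.ble 1454 i)) (Nat.ble 1452 i)) (Nat.ble 1448 i)) (Bool.rec (motive := fun _ => List ℕ) (Bool.rec (motive := fun _ => List ℕ) (Bool.rec (motive := fun _ => List ℕ) (Bool.rec (motive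 := fun _ => List ℕ) (bw1456) (bw1457) (Nat.ble 1457 i)) (Bool.rec (motive := fun _ => List ℕ) (bw1458) (bw1459) (Nat.ble 1459 i)) (Nat.ble 1458 i)) (Bool.rec (motive := fun _ => List ℕ) (Bool.rec (motive := fun _ => List ℕ) (bw1460) (bw1461) (Nat.ble 1461 i)) (Bool.rec (motive := fun _ => List ℕ) (bw1462) (bw1463) (Nat.ble 1463 i)) (Nat.ble 1462 i)) (Nat.ble 1460 i)) (Bool.rec (motive := fun _ => List ℕ) (Bool.rec (motive := fun _ => List ℕ) (Bool.rec (motive := fun _ => List ℕ) (bw1464) (bw1465) (Nat.ble 1465 i)) (Bool.rec (motive := fun _ => List ℕ) (bw1466) (bw1467) (Nat.ble 1467 i)) (Nat.ble 1466 i)) (Bool.rec (motive := fun _ => List ℕ) (Bool.rec (motive := fun _ => List ℕ) (bw1468) (bw1469) (Nat.ble 1469 i)) (Bool.rec (motive := fun _ => List ℕ) (bw1470) (bw1471) (Nat.ble 1471 i)) (Nat.ble 1470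 i)) (Nat.ble 1468 i)) (Nat.ble 1464 i)) (Nat.ble 1456 i)) (Nat.ble 1440 i)
noncomputable def bwb23 (i : ℕ) : List ℕ := Bool.rec (motive := fun _ => List ℕ) (Bool.rec (motive := fun _ => List ℕ) (Bool.rec (motive := fun _ => List ℕ) (Bool.rec (motive := fun _ => List ℕ) (Bool.rec (motive := fun _ => List ℕ) (Bool.rec (motive := fun _ => List ℕ) (bw1472) (bw1473) (Nat.ble 1473 i)) (Bool.rec (motive := fun _ => List ℕ) (bw1474) (bw1475) (Nat.ble 1475 i)) (Nat.ble 1474 i)) (Bool.rec (motive := fun _ => List ℕ) (Bool.rec (motive := fun _ => List ℕ) (bw1476) (bw1477) (Nat.ble 1477 i)) (Bool.rec (motive := fun _ => List ℕ) (bw1478) (bw1479) (Nat.ble 1479 i)) (Nat.ble 1478 i)) (Nat.ble 1476 i)) (Bool.rec (motive := fun _ => List ℕ) (Bool.rec (motive := fun _ => List ℕ) (Bool.rec (motive := fun _ => List ℕ) (bw1480)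 (bw1481) (Nat.ble 1481 i)) (Bool.rec (motive := fun _ => List ℕ) (bw1482) (bw1483) (Nat.ble 1483 i)) (Nat.ble 1482 i)) (Bool.rec (motive := fun _ => List ℕ) (Bool.rec (motive := fun _ => List ℕ) (bw1484) (bw1485) (Nat.ble 1485 i)) (Bool.rec (motive := fun _ => List ℕ) (bw1486) (bw1487) (Nat.ble 1487 i)) (Nat.ble 1486 i)) (Nat.ble 1484 i)) (Nat.ble 1480 i)) (Bool.rec (motive := fun _ => List ℕ) (Bool.rec (motive := fun _ => List ℕ) (Bool.rec (motive := fun _ => List ℕ) (Bool.rec (motive := fun _ => List ℕ) (bw1488) (bw1489) (Nat.ble 1489 i)) (Bool.rec (motive := fun _ => List ℕ) (bw1490) (bw1491) (Nat.ble 1491 i)) (Nat.ble 1490 i)) (Bool.rec (motive := fun _ => List ℕ) (Bool.rec (motive := fun _ => List ℕ) (bw1492) (bw1493) (Nat.ble 1493 i)) (Bool.rec (motive := fun _ => List ℕ) (bw1494) (bw1495) (Nat.ble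 1495 i)) (Nat.ble 1494 i)) (Nat.ble 1492 i)) (Bool.rec (motive := fun _ => List ℕ) (Bool.rec (motive := fun _ => List ℕ) (Bool.rec (motive := fun _ => List ℕ) (bw1496) (bw1497) (Nat.ble 1497 i)) (Bool.rec (motive := fun _ => List ℕ) (bw1498) (bw1499) (Nat.ble 1499 i)) (Nat.ble 1498 i)) (Bool.rec (motive := fun _ => List ℕ) (Bool.rec (motive := fun _ => List ℕ) (bw1500) (bw1501) (Nat.ble 1501 i)) (Bool.rec (motive := fun _ => List ℕ) (bw1502) (bw1503) (Nat.ble 1503 i)) (Nat.ble 1502 i)) (Nat.ble 1500 i)) (Nat.ble 1496 i)) (Nat.ble 1488 i)) (Bool.rec (motive := fun _ => List ℕ) (Bool.rec (motive := fun _ => List ℕ) (Bool.rec (motive := fun _ => List ℕ) (Bool.rec (motive := fun _ => List ℕ) (Bool.rec (motive := fun _ => List ℕ) (bw1504) (bw1505) (Nat.ble 1505 i)) (Bool.rec (motive := fun _ => List ℕ) (bw1506)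 (bw1507) (Nat.ble 1507 i)) (Nat.ble 1506 i)) (Bool.rec (motive := fun _ => List ℕ) (Bool.rec (motive := fun _ => List ℕ) (bw1508) (bw1509) (Nat.ble 1509 i)) (Bool.rec (motive := fun _ => List ℕ) (bw1510) (bw1511) (Nat.ble 1511 i)) (Nat.ble 1510 i)) (Nat.ble 1508 i)) (Bool.rec (motive := fun _ => List ℕ) (Bool.rec (motive := fun _ => List ℕ) (Bool.rec (motive := fun _ => List ℕ) (bw1512) (bw1513) (Nat.ble 1513 i)) (Bool.rec (motive := fun _ => List ℕ) (bw1514) (bw1515) (Nat.ble 1515 i)) (Nat.ble 1514 i)) (Bool.rec (motive := fun _ => List ℕ) (Bool.rec (motive := fun _ => List ℕ) (bw1516) (bw1517) (Nat.ble 1517 i)) (Bool.rec (motive := fun _ => List ℕ) (bw1518) (bw1519) (Nat.ble 1519 i)) (Nat.ble 1518 i)) (Nat.ble 1516 i)) (Nat.ble 1512 i)) (Bool.rec (motive := fun _ => List ℕ) (Bool.rec (motive := fun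 _ => List ℕ) (Bool.rec (motive := fun _ => List ℕ) (Bool.rec (motive := fun _ => List ℕ) (bw1520) (bw1521) (Nat.ble 1521 i)) (Bool.rec (motive := fun _ => List ℕ) (bw1522) (bw1523) (Nat.ble 1523 i)) (Nat.ble 1522 i)) (Bool.rec (motive := fun _ => List ℕ) (Bool.rec (motive := fun _ => List ℕ) (bw1524) (bw1525) (Nat.ble 1525 i)) (Bool.rec (motive := fun _ => List ℕ) (bw1526) (bw1527) (Nat.ble 1527 i)) (Nat.ble 1526 i)) (Nat.ble 1524 i)) (Bool.rec (motive := fun _ => List ℕ) (Bool.rec (motive := fun _ => List ℕ) (Bool.rec (motive := fun _ => List ℕ) (bw1528) (bw1529) (Nat.ble 1529 i)) (Bool.rec (motive := fun _ => List ℕ) (bw1530) (bw1531) (Nat.ble 1531 i)) (Nat.ble 1530 i)) (Bool.rec (motive := fun _ => List ℕ) (Bool.rec (motive := fun _ => List ℕ) (bw1532) (bw1533) (Nat.ble 1533 i)) (Bool.rec (motive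 := fun _ => List ℕ) (bw1534) (bw1535) (Nat.ble 1535 i)) (Nat.ble 1534 i)) (Nat.ble 1532 i)) (Nat.ble 1528 i)) (Nat.ble 1520 i)) (Nat.ble 1504 i)
noncomputable def bwb24 (i : ℕ) : List ℕ := Bool.rec (motive := fun _ => List ℕ) (Bool.rec (motive := fun _ => List ℕ) (Bool.rec (motive := fun _ => List ℕ) (Bool.rec (motive := fun _ => List ℕ) (Bool.rec (motive := fun _ => List ℕ) (Bool.rec (motive := fun _ => List ℕ) (bw1536) (bw1537) (Nat.ble 1537 i)) (Bool.rec (motive := fun _ => List ℕ) (bw1538) (bw1539) (Nat.ble 1539 i)) (Nat.ble 1538 i)) (Bool.rec (motive := fun _ => List ℕ) (Bool.rec (motive := fun _ => List ℕ) (bw1540) (bw1541) (Nat.ble 1541 i)) (Bool.rec (motive := fun _ => List ℕ) (bw1542) (bw1543) (Nat.ble 1543 i)) (Nat.ble 1542 i)) (Nat.ble 1540 i)) (Bool.rec (motive := fun _ => List ℕ) (Bool.rec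 (motive := fun _ => List ℕ) (Bool.rec (motive := fun _ => List ℕ) (bw1544) (bw1545) (Nat.ble 1545 i)) (Bool.rec (motive := fun _ => List ℕ) (bw1546) (bw1547) (Nat.ble 1547 i)) (Nat.ble 1546 i)) (Bool.rec (motive := fun _ => List ℕ) (Bool.rec (motive := fun _ => List ℕ) (bw1548) (bw1549) (Nat.ble 1549 i)) (Bool.rec (motive := fun _ => List ℕ) (bw1550) (bw1551) (Nat.ble 1551 i)) (Nat.ble 1550 i)) (Nat.ble 1548 i)) (Nat.ble 1544 i)) (Bool.rec (motive := fun _ => List ℕ) (Bool.rec (motive := fun _ => List ℕ) (Bool.rec (motive := fun _ => List ℕ) (Bool.rec (motive := fun _ => List ℕ) (bw1552) (bw1553) (Nat.ble 1553 i)) (Bool.rec (motive := fun _ => List ℕ) (bw1554) (bw1555) (Nat.ble 1555 i)) (Nat.ble 1554 i)) (Bool.rec (motive := fun _ => List ℕ) (Bool.rec (motive := fun _ => List ℕ) (bw1556) (bw1557) (Nat.ble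 1557 i)) (Bool.rec (motive := fun _ => List ℕ) (bw1558) (bw1559) (Nat.ble 1559 i)) (Nat.ble 1558 i)) (Nat.ble 1556 i)) (Bool.rec (motive := fun _ => List ℕ) (Bool.rec (motive := fun _ => List ℕ) (Bool.rec (motive := fun _ => List ℕ) (bw1560) (bw1561) (Nat.ble 1561 i)) (Bool.rec (motive := fun _ => List ℕ) (bw1562) (bw1563) (Nat.ble 1563 i)) (Nat.ble 1562 i)) (Bool.rec (motive := fun _ => List ℕ) (Bool.rec (motive := fun _ => List ℕ) (bw1564) (bw1565) (Nat.ble 1565 i)) (Bool.rec (motive := fun _ => List ℕ) (bw1566) (bw1567) (Nat.ble 1567 i)) (Nat.ble 1566 i)) (Nat.ble 1564 i)) (Nat.ble 1560 i)) (Nat.ble 1552 i)) (Bool.rec (motive := fun _ => List ℕ) (Bool.rec (motive := fun _ => List ℕ) (Bool.rec (motive := fun _ => List ℕ) (Bool.rec (motive := fun _ => List ℕ) (Bool.rec (motive := fun _ => List ℕ) (bw1568)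 (bw1569) (Nat.ble 1569 i)) (Bool.rec (motive := fun _ => List ℕ) (bw1570) (bw1571) (Nat.ble 1571 i)) (Nat.ble 1570 i)) (Bool.rec (motive := fun _ => List ℕ) (Bool.rec (motive := fun _ => List ℕ) (bw1572) (bw1573) (Nat.ble 1573 i)) (Bool.rec (motive := fun _ => List ℕ) (bw1574) (bw1575) (Nat.ble 1575 i)) (Nat.ble 1574 i)) (Nat.ble 1572 i)) (Bool.rec (motive := fun _ => List ℕ) (Bool.rec (motive := fun _ => List ℕ) (Bool.rec (motive := fun _ => List ℕ) (bw1576) (bw1577) (Nat.ble 1577 i)) (Bool.rec (motive := fun _ => List ℕ) (bw1578) (bw1579) (Nat.ble 1579 i)) (Nat.ble 1578 i)) (Bool.rec (motive := fun _ => List ℕ) (Bool.rec (motive := fun _ => List ℕ) (bw1580) (bw1581) (Nat.ble 1581 i)) (Bool.rec (motive := fun _ => List ℕ) (bw1582) (bw1583) (Nat.ble 1583 i)) (Nat.ble 1582 i)) (Nat.ble 1580 i)) (Nat.ble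 1576 i)) (Bool.rec (motive := fun _ => List ℕ) (Bool.rec (motive := fun _ => List ℕ) (Bool.rec (motive := fun _ => List ℕ) (Bool.rec (motive := fun _ => List ℕ) (bw1584) (bw1585) (Nat.ble 1585 i)) (Bool.rec (motive := fun _ => List ℕ) (bw1586) (bw1587) (Nat.ble 1587 i)) (Nat.ble 1586 i)) (Bool.rec (motive := fun _ => List ℕ) (Bool.rec (motive := fun _ => List ℕ) (bw1588) (bw1589) (Nat.ble 1589 i)) (Bool.rec (motive := fun _ => List ℕ) (bw1590) (bw1591) (Nat.ble 1591 i)) (Nat.ble 1590 i)) (Nat.ble 1588 i)) (Bool.rec (motive := fun _ => List ℕ) (Bool.rec (motive := fun _ => List ℕ) (Bool.rec (motive := fun _ => List ℕ) (bw1592) (bw1593) (Nat.ble 1593 i)) (Bool.rec (motive := fun _ => List ℕ) (bw1594) (bw1595) (Nat.ble 1595 i)) (Nat.ble 1594 i)) (Bool.rec (motive := fun _ => List ℕ) (Bool.rec (motive :=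 fun _ => List ℕ) (bw1596) (bw1597) (Nat.ble 1597 i)) (Bool.rec (motive := fun _ => List ℕ) (bw1598) (bw1599) (Nat.ble 1599 i)) (Nat.ble 1598 i)) (Nat.ble 1596 i)) (Nat.ble 1592 i)) (Nat.ble 1584 i)) (Nat.ble 1568 i)
noncomputable def bwb25 (i : ℕ) : List ℕ := Bool.rec (motive := fun _ => List ℕ) (Bool.rec (motive := fun _ => List ℕ) (Bool.rec (motive := fun _ => List ℕ) (Bool.rec (motive := fun _ => List ℕ) (Bool.rec (motive := fun _ => List ℕ) (Bool.rec (motive := fun _ => List ℕ) (bw1600) (bw1601) (Nat.ble 1601 i)) (Bool.rec (motive := fun _ => List ℕ) (bw1602) (bw1603) (Nat.ble 1603 i)) (Nat.ble 1602 i)) (Bool.rec (motive := fun _ => List ℕ) (Bool.rec (motive := fun _ => List ℕ) (bw1604) (bw1605) (Nat.ble 1605 i)) (Bool.rec (motive := fun _ => List ℕ) (bw1606) (bw1607) (Nat.ble 1607 i)) (Nat.ble 1606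 i)) (Nat.ble 1604 i)) (Bool.rec (motive := fun _ => List ℕ) (Bool.rec (motive := fun _ => List ℕ) (Bool.rec (motive := fun _ => List ℕ) (bw1608) (bw1609) (Nat.ble 1609 i)) (Bool.rec (motive := fun _ => List ℕ) (bw1610) (bw1611) (Nat.ble 1611 i)) (Nat.ble 1610 i)) (Bool.rec (motive := fun _ => List ℕ) (Bool.rec (motive := fun _ => List ℕ) (bw1612) (bw1613) (Nat.ble 1613 i)) (Bool.rec (motive := fun _ => List ℕ) (bw1614) (bw1615) (Nat.ble 1615 i)) (Nat.ble 1614 i)) (Nat.ble 1612 i)) (Nat.ble 1608 i)) (Bool.rec (motive := fun _ => List ℕ) (Bool.rec (motive := fun _ => List ℕ) (Bool.rec (motive := fun _ => List ℕ) (Bool.rec (motive := fun _ => List ℕ) (bw1616) (bw1617) (Nat.ble 1617 i)) (Bool.rec (motive := fun _ => List ℕ) (bw1618) (bw1619) (Nat.ble 1619 i)) (Nat.ble 1618 i)) (Bool.rec (motive := fun _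 => List ℕ) (Bool.rec (motive := fun _ => List ℕ) (bw1620) (bw1621) (Nat.ble 1621 i)) (Bool.rec (motive := fun _ => List ℕ) (bw1622) (bw1623) (Nat.ble 1623 i)) (Nat.ble 1622 i)) (Nat.ble 1620 i)) (Bool.rec (motive := fun _ => List ℕ) (Bool.rec (motive := fun _ => List ℕ) (Bool.rec (motive := fun _ => List ℕ) (bw1624) (bw1625) (Nat.ble 1625 i)) (Bool.rec (motive := fun _ => List ℕ) (bw1626) (bw1627) (Nat.ble 1627 i)) (Nat.ble 1626 i)) (Bool.rec (motive := fun _ => List ℕ) (Bool.rec (motive := fun _ => List ℕ) (bw1628) (bw1629) (Nat.ble 1629 i)) (Bool.rec (motive := fun _ => List ℕ) (bw1630) (bw1631) (Nat.ble 1631 i)) (Nat.ble 1630 i)) (Nat.ble 1628 i)) (Nat.ble 1624 i)) (Nat.ble 1616 i)) (Bool.rec (motive := fun _ => List ℕ) (Bool.rec (motive := fun _ => List ℕ) (Bool.rec (motive := fun _ => List ℕ) (Bool.rec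 (motive := fun _ => List ℕ) (Bool.rec (motive := fun _ => List ℕ) (bw1632) (bw1633) (Nat.ble 1633 i)) (Bool.rec (motive := fun _ => List ℕ) (bw1634) (bw1635) (Nat.ble 1635 i)) (Nat.ble 1634 i)) (Bool.rec (motive := fun _ => List ℕ) (Bool.rec (motive := fun _ => List ℕ) (bw1636) (bw1637) (Nat.ble 1637 i)) (Bool.rec (motive := fun _ => List ℕ) (bw1638) (bw1639) (Nat.ble 1639 i)) (Nat.ble 1638 i)) (Nat.ble 1636 i)) (Bool.rec (motive := fun _ => List ℕ) (Bool.rec (motive := fun _ => List ℕ) (Bool.rec (motive := fun _ => List ℕ) (bw1640) (bw1641) (Nat.ble 1641 i)) (Bool.rec (motive := fun _ => List ℕ) (bw1642) (bw1643) (Nat.ble 1643 i)) (Nat.ble 1642 i)) (Bool.rec (motive := fun _ => List ℕ) (Bool.rec (motive := fun _ => List ℕ) (bw1644) (bw1645) (Nat.ble 1645 i)) (Bool.rec (motive := fun _ => List ℕ) (bw1646)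 (bw1647) (Nat.ble 1647 i)) (Nat.ble 1646 i)) (Nat.ble 1644 i)) (Nat.ble 1640 i)) (Bool.rec (motive := fun _ => List ℕ) (Bool.rec (motive := fun _ => List ℕ) (Bool.rec (motive := fun _ => List ℕ) (Bool.rec (motive := fun _ => List ℕ) (bw1648) (bw1649) (Nat.ble 1649 i)) (Bool.rec (motive := fun _ => List ℕ) (bw1650) (bw1651) (Nat.ble 1651 i)) (Nat.ble 1650 i)) (Bool.rec (motive := fun _ => List ℕ) (Bool.rec (motive := fun _ => List ℕ) (bw1652) (bw1653) (Nat.ble 1653 i)) (Bool.rec (motive := fun _ => List ℕ) (bw1654) (bw1655) (Nat.ble 1655 i)) (Nat.ble 1654 i)) (Nat.ble 1652 i)) (Bool.rec (motive := fun _ => List ℕ) (Bool.rec (motive := fun _ => List ℕ) (Bool.rec (motive := fun _ => List ℕ) (bw1656) (bw1657) (Nat.ble 1657 i)) (Bool.rec (motive := fun _ => List ℕ) (bw1658) (bw1659) (Nat.ble 1659 i)) (Nat.ble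 1658 i)) (Bool.rec (motive := fun _ => List ℕ) (Bool.rec (motive := fun _ => List ℕ) (bw1660) (bw1661) (Nat.ble 1661 i)) (Bool.rec (motive := fun _ => List ℕ) (bw1662) (bw1663) (Nat.ble 1663 i)) (Nat.ble 1662 i)) (Nat.ble 1660 i)) (Nat.ble 1656 i)) (Nat.ble 1648 i)) (Nat.ble 1632 i)
noncomputable def bwb26 (i : ℕ) : List ℕ := Bool.rec (motive := fun _ => List ℕ) (Bool.rec (motive := fun _ => List ℕ) (Bool.rec (motive := fun _ => List ℕ) (Bool.rec (motive := fun _ => List ℕ) (Bool.rec (motive := fun _ => List ℕ) (Bool.rec (motive := fun _ => List ℕ) (bw1664) (bw1665) (Nat.ble 1665 i)) (Bool.rec (motive := fun _ => List ℕ) (bw1666) (bw1667) (Nat.ble 1667 i)) (Nat.ble 1666 i)) (Bool.rec (motive := fun _ => List ℕ) (Bool.rec (motive := fun _ => List ℕ) (bw1668) (bw1669) (Nat.ble 1669 i)) (Bool.rec (motive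 := fun _ => List ℕ) (bw1670) (bw1671) (Nat.ble 1671 i)) (Nat.ble 1670 i)) (Nat.ble 1668 i)) (Bool.rec (motive := fun _ => List ℕ) (Bool.rec (motive := fun _ => List ℕ) (Bool.rec (motive := fun _ => List ℕ) (bw1672) (bw1673) (Nat.ble 1673 i)) (Bool.rec (motive := fun _ => List ℕ) (bw1674) (bw1675) (Nat.ble 1675 i)) (Nat.ble 1674 i)) (Bool.rec (motive := fun _ => List ℕ) (Bool.rec (motive := fun _ => List ℕ) (bw1676) (bw1677) (Nat.ble 1677 i)) (Bool.rec (motive := fun _ => List ℕ) (bw1678) (bw1679) (Nat.ble 1679 i)) (Nat.ble 1678 i)) (Nat.ble 1676 i)) (Nat.ble 1672 i)) (Bool.rec (motive := fun _ => List ℕ) (Bool.rec (motive := fun _ => List ℕ) (Bool.rec (motive := fun _ => List ℕ) (Bool.rec (motive := fun _ => List ℕ) (bw1680) (bw1681) (Nat.ble 1681 i)) (Bool.rec (motive := fun _ => List ℕ) (bw1682) (bw1683)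 (Nat.ble 1683 i)) (Nat.ble 1682 i)) (Bool.rec (motive := fun _ => List ℕ) (Bool.rec (motive := fun _ => List ℕ) (bw1684) (bw1685) (Nat.ble 1685 i)) (Bool.rec (motive := fun _ => List ℕ) (bw1686) (bw1687) (Nat.ble 1687 i)) (Nat.ble 1686 i)) (Nat.ble 1684 i)) (Bool.rec (motive := fun _ => List ℕ) (Bool.rec (motive := fun _ => List ℕ) (Bool.rec (motive := fun _ => List ℕ) (bw1688) (bw1689) (Nat.ble 1689 i)) (Bool.rec (motive := fun _ => List ℕ) (bw1690) (bw1691) (Nat.ble 1691 i)) (Nat.ble 1690 i)) (Bool.rec (motive := fun _ => List ℕ) (Bool.rec (motive := fun _ => List ℕ) (bw1692) (bw1693) (Nat.ble 1693 i)) (Bool.rec (motive := fun _ => List ℕ) (bw1694) (bw1695) (Nat.ble 1695 i)) (Nat.ble 1694 i)) (Nat.ble 1692 i)) (Nat.ble 1688 i)) (Nat.ble 1680 i)) (Bool.rec (motive := fun _ => List ℕ) (Bool.rec (motive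 := fun _ => List ℕ) (Bool.rec (motive := fun _ => List ℕ) (Bool.rec (motive := fun _ => List ℕ) (Bool.rec (motive := fun _ => List ℕ) (bw1696) (bw1697) (Nat.ble 1697 i)) (Bool.rec (motive := fun _ => List ℕ) (bw1698) (bw1699) (Nat.ble 1699 i)) (Nat.ble 1698 i)) (Bool.rec (motive := fun _ => List ℕ) (Bool.rec (motive := fun _ => List ℕ) (bw1700) (bw1701) (Nat.ble 1701 i)) (Bool.rec (motive := fun _ => List ℕ) (bw1702) (bw1703) (Nat.ble 1703 i)) (Nat.ble 1702 i)) (Nat.ble 1700 i)) (Bool.rec (motive := fun _ => List ℕ) (Bool.rec (motive := fun _ => List ℕ) (Bool.rec (motive := fun _ => List ℕ) (bw1704) (bw1705) (Nat.ble 1705 i)) (Bool.rec (motive := fun _ => List ℕ) (bw1706) (bw1707) (Nat.ble 1707 i)) (Nat.ble 1706 i)) (Bool.rec (motive := fun _ => List ℕ) (Bool.rec (motive := fun _ => List ℕ) (bw1708)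 (bw1709) (Nat.ble 1709 i)) (Bool.rec (motive := fun _ => List ℕ) (bw1710) (bw1711) (Nat.ble 1711 i)) (Nat.ble 1710 i)) (Nat.ble 1708 i)) (Nat.ble 1704 i)) (Bool.rec (motive := fun _ => List ℕ) (Bool.rec (motive := fun _ => List ℕ) (Bool.rec (motive := fun _ => List ℕ) (Bool.rec (motive := fun _ => List ℕ) (bw1712) (bw1713) (Nat.ble 1713 i)) (Bool.rec (motive := fun _ => List ℕ) (bw1714) (bw1715) (Nat.ble 1715 i)) (Nat.ble 1714 i)) (Bool.rec (motive := fun _ => List ℕ) (Bool.rec (motive := fun _ => List ℕ) (bw1716) (bw1717) (Nat.ble 1717 i)) (Bool.rec (motive := fun _ => List ℕ) (bw1718) (bw1719) (Nat.ble 1719 i)) (Nat.ble 1718 i)) (Nat.ble 1716 i)) (Bool.rec (motive := fun _ => List ℕ) (Bool.rec (motive := fun _ => List ℕ) (Bool.rec (motive := fun _ => List ℕ) (bw1720) (bw1721) (Nat.ble 1721 i)) (Bool.rec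 (motive := fun _ => List ℕ) (bw1722) (bw1723) (Nat.ble 1723 i)) (Nat.ble 1722 i)) (Bool.rec (motive := fun _ => List ℕ) (Bool.rec (motive := fun _ => List ℕ) (bw1724) (bw1725) (Nat.ble 1725 i)) (Bool.rec (motive := fun _ => List ℕ) (bw1726) (bw1727) (Nat.ble 1727 i)) (Nat.ble 1726 i)) (Nat.ble 1724 i)) (Nat.ble 1720 i)) (Nat.ble 1712 i)) (Nat.ble 1696 i)
noncomputable def bwb27 (i : ℕ) : List ℕ := Bool.rec (motive := fun _ => List ℕ) (Bool.rec (motive := fun _ => List ℕ) (Bool.rec (motive := fun _ => List ℕ) (Bool.rec (motive := fun _ => List ℕ) (Bool.rec (motive := fun _ => List ℕ) (bw1728) (bw1729) (Nat.ble 1729 i)) (Bool.rec (motive := fun _ => List ℕ) (bw1730) (Bool.rec (motive := fun _ => List ℕ) (bw1731) (bw1732) (Nat.ble 1732 i)) (Nat.ble 1731 i)) (Nat.ble 1730 i)) (Bool.rec (motive := fun _ =>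 List ℕ) (Bool.rec (motive := fun _ => List ℕ) (bw1733) (bw1734) (Nat.ble 1734 i)) (Bool.rec (motive := fun _ => List ℕ) (bw1735) (Bool.rec (motive := fun _ => List ℕ) (bw1736) (bw1737) (Nat.ble 1737 i)) (Nat.ble 1736 i)) (Nat.ble 1735 i)) (Nat.ble 1733 i)) (Bool.rec (motive := fun _ => List ℕ) (Bool.rec (motive := fun _ => List ℕ) (Bool.rec (motive := fun _ => List ℕ) (bw1738) (bw1739) (Nat.ble 1739 i)) (Bool.rec (motive := fun _ => List ℕ) (bw1740) (Bool.rec (motive := fun _ => List ℕ) (bw1741) (bw1742) (Nat.ble 1742 i)) (Nat.ble 1741 i)) (Nat.ble 1740 i)) (Bool.rec (motive := fun _ => List ℕ) (Bool.rec (motive := fun _ => List ℕ) (bw1743) (Bool.rec (motive := fun _ => List ℕ) (bw1744) (bw1745) (Nat.ble 1745 i)) (Nat.ble 1744 i)) (Bool.rec (motive := fun _ => List ℕ) (bw1746) (Bool.rec (motive := fun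 _ => List ℕ) (bw1747) (bw1748) (Nat.ble 1748 i)) (Nat.ble 1747 i)) (Nat.ble 1746 i)) (Nat.ble 1743 i)) (Nat.ble 1738 i)) (Bool.rec (motive := fun _ => List ℕ) (Bool.rec (motive := fun _ => List ℕ) (Bool.rec (motive := fun _ => List ℕ) (Bool.rec (motive := fun _ => List ℕ) (bw1749) (bw1750) (Nat.ble 1750 i)) (Bool.rec (motive := fun _ => List ℕ) (bw1751) (Bool.rec (motive := fun _ => List ℕ) (bw1752) (bw1753) (Nat.ble 1753 i)) (Nat.ble 1752 i)) (Nat.ble 1751 i)) (Bool.rec (motive := fun _ => List ℕ) (Bool.rec (motive := fun _ => List ℕ) (bw1754) (Bool.rec (motive := fun _ => List ℕ) (bw1755) (bw1756) (Nat.ble 1756 i)) (Nat.ble 1755 i)) (Bool.rec (motive := fun _ => List ℕ) (bw1757) (Bool.rec (motive := fun _ => List ℕ) (bw1758) (bw1759) (Nat.ble 1759 i)) (Nat.ble 1758 i)) (Nat.ble 1757 i)) (Nat.ble 1754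 i)) (Bool.rec (motive := fun _ => List ℕ) (Bool.rec (motive := fun _ => List ℕ) (Bool.rec (motive := fun _ => List ℕ) (bw1760) (bw1761) (Nat.ble 1761 i)) (Bool.rec (motive := fun _ => List ℕ) (bw1762) (Bool.rec (motive := fun _ => List ℕ) (bw1763) (bw1764) (Nat.ble 1764 i)) (Nat.ble 1763 i)) (Nat.ble 1762 i)) (Bool.rec (motive := fun _ => List ℕ) (Bool.rec (motive := fun _ => List ℕ) (bw1765) (Bool.rec (motive := fun _ => List ℕ) (bw1766) (bw1767) (Nat.ble 1767 i)) (Nat.ble 1766 i)) (Bool.rec (motive := fun _ => List ℕ) (bw1768) (Bool.rec (motive := fun _ => List ℕ) (bw1769) (bw1770) (Nat.ble 1770 i)) (Nat.ble 1769 i)) (Nat.ble 1768 i)) (Nat.ble 1765 i)) (Nat.ble 1760 i)) (Nat.ble 1749 i)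
noncomputable def baseW (i : ℕ) : List ℕ := Bool.rec (motive := fun _ => List ℕ) (Bool.rec (motive := fun _ => List ℕ) (Bool.rec (motive := fun _ => List ℕ) (Bool.rec (motive := fun _ => List ℕ) (bwb0 i) (Bool.rec (motive := fun _ => List ℕ) (bwb1 i) (bwb2 i) (Nat.ble 128 i)) (Nat.ble 64 i)) (Bool.rec (motive := fun _ => List ℕ) (Bool.rec (motive := fun _ => List ℕ) (bwb3 i) (bwb4 i) (Nat.ble 256 i)) (Bool.rec (motive := fun _ => List ℕ) (bwb5 i) (bwb6 i) (Nat.ble 384 i)) (Nat.ble 320 i)) (Nat.ble 192 i)) (Bool.rec (motive := fun _ => List ℕ) (Bool.rec (motive := fun _ => List ℕ) (bwb7 i) (Bool.rec (motive := fun _ => List ℕ) (bwb8 i) (bwb9 i) (Nat.ble 576 i)) (Nat.ble 512 i)) (Bool.rec (motive := fun _ => List ℕ) (Bool.rec (motive := fun _ => List ℕ) (bwb10 i) (bwb11 i) (Nat.ble 704 i)) (Bool.rec (motive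 := fun _ => List ℕ) (bwb12 i) (bwb13 i) (Nat.ble 832 i)) (Nat.ble 768 i)) (Nat.ble 640 i)) (Nat.ble 448 i)) (Bool.rec (motive := fun _ => List ℕ) (Bool.rec (motive := fun _ => List ℕ) (Bool.rec (motive := fun _ => List ℕ) (bwb14 i) (Bool.rec (motive := fun _ => List ℕ) (bwb15 i) (bwb16 i) (Nat.ble 1024 i)) (Nat.ble 960 i)) (Bool.rec (motive := fun _ => List ℕ) (Bool.rec (motive := fun _ => List ℕ) (bwb17 i) (bwb18 i) (Nat.ble 1152 i)) (Bool.rec (motive := fun _ => List ℕ) (bwb19 i) (bwb20 i) (Nat.ble 1280 i)) (Nat.ble 1216 i)) (Nat.ble 1088 i)) (Bool.rec (motive := fun _ => List ℕ) (Bool.rec (motive := fun _ => List ℕ) (bwb21 i) (Bool.rec (motive := fun _ => List ℕ) (bwb22 i) (bwb23 i) (Nat.ble 1472 i)) (Nat.ble 1408 i)) (Bool.rec (motive := fun _ => List ℕ) (Bool.rec (motive := fun _ => List ℕ) (bwb24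 i) (bwb25 i) (Nat.ble 1600 i)) (Bool.rec (motive := fun _ => List ℕ) (bwb26 i) (bwb27 i) (Nat.ble 1728 i)) (Nat.ble 1664 i)) (Nat.ble 1536 i)) (Nat.ble 1344 i)) (Nat.ble 896 i)
def bases : List (List ℕ) := [bw0, bw1, bw2, bw3, bw4, bw5, bw6, bw7, bw8, bw9, bw10, bw11, bw12, bw13, bw14, bw15, bw16, bw17, bw18, bw19, bw20, bw21, bw22, bw23, bw24, bw25, bw26, bw27, bw28, bw29, bw30, bw31, bw32, bw33, bw34, bw35, bw36, bw37, bw38, bw39, bw40, bw41, bw42, bw43, bw44, bw45, bw46, bw47, bw48, bw49, bw50, bw51, bw52, bw53, bw54, bw55, bw56, bw57, bw58, bw59, bw60, bw61, bw62, bw63, bw64, bw65, bw66, bw67, bw68, bw69, bw70, bw71, bw72, bw73, bw74, bw75, bw76, bw77, bw78, bw79, bw80, bw81, bw82, bw83, bw84, bw85, bw86, bw87, bw88, bw89, bw90, bw91, bw92, bw93, bw94, bw95, bw96, bw97, bw98, bw99, bw100, bw101,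 bw102, bw103, bw104, bw105, bw106, bw107, bw108, bw109, bw110, bw111, bw112, bw113, bw114, bw115, bw116, bw117, bw118, bw119, bw120, bw121, bw122, bw123, bw124, bw125, bw126, bw127, bw128, bw129, bw130, bw131, bw132, bw133, bw134, bw135, bw136, bw137, bw138, bw139, bw140, bw141, bw142, bw143, bw144, bw145, bw146, bw147, bw148, bw149, bw150, bw151, bw152, bw153, bw154, bw155, bw156, bw157, bw158, bw159, bw160, bw161, bw162, bw163, bw164, bw165, bw166, bw167, bw168, bw169, bw170, bw171, bw172, bw173, bw174, bw175, bw176, bw177, bw178, bw179, bw180, bw181, bw182, bw183, bw184, bw185, bw186, bw187, bw188, bw189, bw190, bw191, bw192, bw193, bw194, bw195, bw196, bw197, bw198, bw199, bw200, bw201, bw202, bw203, bw204, bw205, bw206, bw207, bw208, bw209, bw210, bw211, bw212, bw213, bw214, bw215, bw216, bw217,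 bw218, bw219, bw220, bw221, bw222, bw223, bw224, bw225, bw226, bw227, bw228, bw229, bw230, bw231, bw232, bw233, bw234, bw235, bw236, bw237, bw238, bw239, bw240, bw241, bw242, bw243, bw244, bw245, bw246, bw247, bw248, bw249, bw250, bw251, bw252, bw253, bw254, bw255, bw256, bw257, bw258, bw259, bw260, bw261, bw262, bw263, bw264, bw265, bw266, bw267, bw268, bw269, bw270, bw271, bw272, bw273, bw274, bw275, bw276, bw277, bw278, bw279, bw280, bw281, bw282, bw283, bw284, bw285, bw286, bw287, bw288, bw289, bw290, bw291, bw292, bw293, bw294, bw295, bw296, bw297, bw298, bw299, bw300, bw301, bw302, bw303, bw304, bw305, bw306, bw307, bw308, bw309, bw310, bw311, bw312, bw313, bw314, bw315, bw316, bw317, bw318, bw319, bw320, bw321, bw322, bw323, bw324, bw325, bw326, bw327, bw328, bw329, bw330, bw331, bw332, bw333,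 bw334, bw335, bw336, bw337, bw338, bw339, bw340, bw341, bw342, bw343, bw344, bw345, bw346, bw347, bw348, bw349, bw350, bw351, bw352, bw353, bw354, bw355, bw356, bw357, bw358, bw359, bw360, bw361, bw362, bw363, bw364, bw365, bw366, bw367, bw368, bw369, bw370, bw371, bw372, bw373, bw374, bw375, bw376, bw377, bw378, bw379, bw380, bw381, bw382, bw383, bw384, bw385, bw386, bw387, bw388, bw389, bw390, bw391, bw392, bw393, bw394, bw395, bw396, bw397, bw398, bw399, bw400, bw401, bw402, bw403, bw404, bw405, bw406, bw407, bw408, bw409, bw410, bw411, bw412, bw413, bw414, bw415, bw416, bw417, bw418, bw419, bw420, bw421, bw422, bw423, bw424, bw425, bw426, bw427, bw428, bw429, bw430, bw431, bw432, bw433, bw434, bw435, bw436, bw437, bw438, bw439, bw440, bw441, bw442, bw443, bw444, bw445, bw446, bw447, bw448, bw449,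 bw450, bw451, bw452, bw453, bw454, bw455, bw456, bw457, bw458, bw459, bw460, bw461, bw462, bw463, bw464, bw465, bw466, bw467, bw468, bw469, bw470, bw471, bw472, bw473, bw474, bw475, bw476, bw477, bw478, bw479, bw480, bw481, bw482, bw483, bw484, bw485, bw486, bw487, bw488, bw489, bw490, bw491, bw492, bw493, bw494, bw495, bw496, bw497, bw498, bw499, bw500, bw501, bw502, bw503, bw504, bw505, bw506, bw507, bw508, bw509, bw510, bw511, bw512, bw513, bw514, bw515, bw516, bw517, bw518, bw519, bw520, bw521, bw522, bw523, bw524, bw525, bw526, bw527, bw528, bw529, bw530, bw531, bw532, bw533, bw534, bw535, bw536, bw537, bw538, bw539, bw540, bw541, bw542, bw543, bw544, bw545, bw546, bw547, bw548, bw549, bw550, bw551, bw552, bw553, bw554, bw555, bw556, bw557, bw558, bw559, bw560, bw561, bw562, bw563, bw564, bw565,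 bw566, bw567, bw568, bw569, bw570, bw571, bw572, bw573, bw574, bw575, bw576, bw577, bw578, bw579, bw580, bw581, bw582, bw583, bw584, bw585, bw586, bw587, bw588, bw589, bw590, bw591, bw592, bw593, bw594, bw595, bw596, bw597, bw598, bw599, bw600, bw601, bw602, bw603, bw604, bw605, bw606, bw607, bw608, bw609, bw610, bw611, bw612, bw613, bw614, bw615, bw616, bw617, bw618, bw619, bw620, bw621, bw622, bw623, bw624, bw625, bw626, bw627, bw628, bw629, bw630, bw631, bw632, bw633, bw634, bw635, bw636, bw637, bw638, bw639, bw640, bw641, bw642, bw643, bw644, bw645, bw646, bw647, bw648, bw649, bw650, bw651, bw652, bw653, bw654, bw655, bw656, bw657, bw658, bw659, bw660, bw661, bw662, bw663, bw664, bw665, bw666, bw667, bw668, bw669, bw670, bw671, bw672, bw673, bw674, bw675, bw676, bw677, bw678, bw679, bw680, bw681,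 bw682, bw683, bw684, bw685, bw686, bw687, bw688, bw689, bw690, bw691, bw692, bw693, bw694, bw695, bw696, bw697, bw698, bw699, bw700, bw701, bw702, bw703, bw704, bw705, bw706, bw707, bw708, bw709, bw710, bw711, bw712, bw713, bw714, bw715, bw716, bw717, bw718, bw719, bw720, bw721, bw722, bw723, bw724, bw725, bw726, bw727, bw728, bw729, bw730, bw731, bw732, bw733, bw734, bw735, bw736, bw737, bw738, bw739, bw740, bw741, bw742, bw743, bw744, bw745, bw746, bw747, bw748, bw749, bw750, bw751, bw752, bw753, bw754, bw755, bw756, bw757, bw758, bw759, bw760, bw761, bw762, bw763, bw764, bw765, bw766, bw767, bw768, bw769, bw770, bw771, bw772, bw773, bw774, bw775, bw776, bw777, bw778, bw779, bw780, bw781, bw782, bw783, bw784, bw785, bw786, bw787, bw788, bw789, bw790, bw791, bw792, bw793, bw794, bw795, bw796, bw797,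 bw798, bw799, bw800, bw801, bw802, bw803, bw804, bw805, bw806, bw807, bw808, bw809, bw810, bw811, bw812, bw813, bw814, bw815, bw816, bw817, bw818, bw819, bw820, bw821, bw822, bw823, bw824, bw825, bw826, bw827, bw828, bw829, bw830, bw831, bw832, bw833, bw834, bw835, bw836, bw837, bw838, bw839, bw840, bw841, bw842, bw843, bw844, bw845, bw846, bw847, bw848, bw849, bw850, bw851, bw852, bw853, bw854, bw855, bw856, bw857, bw858, bw859, bw860, bw861, bw862, bw863, bw864, bw865, bw866, bw867, bw868, bw869, bw870, bw871, bw872, bw873, bw874, bw875, bw876, bw877, bw878, bw879, bw880, bw881, bw882, bw883, bw884, bw885, bw886, bw887, bw888, bw889, bw890, bw891, bw892, bw893, bw894, bw895, bw896, bw897, bw898, bw899, bw900, bw901, bw902, bw903, bw904, bw905, bw906, bw907, bw908, bw909, bw910, bw911, bw912, bw913,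 bw914, bw915, bw916, bw917, bw918, bw919, bw920, bw921, bw922, bw923, bw924, bw925, bw926, bw927, bw928, bw929, bw930, bw931, bw932, bw933, bw934, bw935, bw936, bw937, bw938, bw939, bw940, bw941, bw942, bw943, bw944, bw945, bw946, bw947, bw948, bw949, bw950, bw951, bw952, bw953, bw954, bw955, bw956, bw957, bw958, bw959, bw960, bw961, bw962, bw963, bw964, bw965, bw966, bw967, bw968, bw969, bw970, bw971, bw972, bw973, bw974, bw975, bw976, bw977, bw978, bw979, bw980, bw981, bw982, bw983, bw984, bw985, bw986, bw987, bw988, bw989, bw990, bw991, bw992, bw993, bw994, bw995, bw996, bw997, bw998, bw999, bw1000, bw1001, bw1002, bw1003, bw1004, bw1005, bw1006, bw1007, bw1008, bw1009, bw1010, bw1011, bw1012, bw1013, bw1014, bw1015, bw1016, bw1017, bw1018, bw1019, bw1020, bw1021, bw1022, bw1023, bw1024, bw1025, bw1026,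 bw1027, bw1028, bw1029, bw1030, bw1031, bw1032, bw1033, bw1034, bw1035, bw1036, bw1037, bw1038, bw1039, bw1040, bw1041, bw1042, bw1043, bw1044, bw1045, bw1046, bw1047, bw1048, bw1049, bw1050, bw1051, bw1052, bw1053, bw1054, bw1055, bw1056, bw1057, bw1058, bw1059, bw1060, bw1061, bw1062, bw1063, bw1064, bw1065, bw1066, bw1067, bw1068, bw1069, bw1070, bw1071, bw1072, bw1073, bw1074, bw1075, bw1076, bw1077, bw1078, bw1079, bw1080, bw1081, bw1082, bw1083, bw1084, bw1085, bw1086, bw1087, bw1088, bw1089, bw1090, bw1091, bw1092, bw1093, bw1094, bw1095, bw1096, bw1097, bw1098, bw1099, bw1100, bw1101, bw1102, bw1103, bw1104, bw1105, bw1106, bw1107, bw1108, bw1109, bw1110, bw1111, bw1112, bw1113, bw1114, bw1115, bw1116, bw1117, bw1118, bw1119, bw1120, bw1121, bw1122, bw1123, bw1124, bw1125, bw1126, bw1127, bw1128,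 bw1129, bw1130, bw1131, bw1132, bw1133, bw1134, bw1135, bw1136, bw1137, bw1138, bw1139, bw1140, bw1141, bw1142, bw1143, bw1144, bw1145, bw1146, bw1147, bw1148, bw1149, bw1150, bw1151, bw1152, bw1153, bw1154, bw1155, bw1156, bw1157, bw1158, bw1159, bw1160, bw1161, bw1162, bw1163, bw1164, bw1165, bw1166, bw1167, bw1168, bw1169, bw1170, bw1171, bw1172, bw1173, bw1174, bw1175, bw1176, bw1177, bw1178, bw1179, bw1180, bw1181, bw1182, bw1183, bw1184, bw1185, bw1186, bw1187, bw1188, bw1189, bw1190, bw1191, bw1192, bw1193, bw1194, bw1195, bw1196, bw1197, bw1198, bw1199, bw1200, bw1201, bw1202, bw1203, bw1204, bw1205, bw1206, bw1207, bw1208, bw1209, bw1210, bw1211, bw1212, bw1213, bw1214, bw1215, bw1216, bw1217, bw1218, bw1219, bw1220, bw1221, bw1222, bw1223, bw1224, bw1225, bw1226, bw1227, bw1228, bw1229, bw1230,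 bw1231, bw1232, bw1233, bw1234, bw1235, bw1236, bw1237, bw1238, bw1239, bw1240, bw1241, bw1242, bw1243, bw1244, bw1245, bw1246, bw1247, bw1248, bw1249, bw1250, bw1251, bw1252, bw1253, bw1254, bw1255, bw1256, bw1257, bw1258, bw1259, bw1260, bw1261, bw1262, bw1263, bw1264, bw1265, bw1266, bw1267, bw1268, bw1269, bw1270, bw1271, bw1272, bw1273, bw1274, bw1275, bw1276, bw1277, bw1278, bw1279, bw1280, bw1281, bw1282, bw1283, bw1284, bw1285, bw1286, bw1287, bw1288, bw1289, bw1290, bw1291, bw1292, bw1293, bw1294, bw1295, bw1296, bw1297, bw1298, bw1299, bw1300, bw1301, bw1302, bw1303, bw1304, bw1305, bw1306, bw1307, bw1308, bw1309, bw1310, bw1311, bw1312, bw1313, bw1314, bw1315, bw1316, bw1317, bw1318, bw1319, bw1320, bw1321, bw1322, bw1323, bw1324, bw1325, bw1326, bw1327, bw1328, bw1329, bw1330, bw1331, bw1332,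 bw1333, bw1334, bw1335, bw1336, bw1337, bw1338, bw1339, bw1340, bw1341, bw1342, bw1343, bw1344, bw1345, bw1346, bw1347, bw1348, bw1349, bw1350, bw1351, bw1352, bw1353, bw1354, bw1355, bw1356, bw1357, bw1358, bw1359, bw1360, bw1361, bw1362, bw1363, bw1364, bw1365, bw1366, bw1367, bw1368, bw1369, bw1370, bw1371, bw1372, bw1373, bw1374, bw1375, bw1376, bw1377, bw1378, bw1379, bw1380, bw1381, bw1382, bw1383, bw1384, bw1385, bw1386, bw1387, bw1388, bw1389, bw1390, bw1391, bw1392, bw1393, bw1394, bw1395, bw1396, bw1397, bw1398, bw1399, bw1400, bw1401, bw1402, bw1403, bw1404, bw1405, bw1406, bw1407, bw1408, bw1409, bw1410, bw1411, bw1412, bw1413, bw1414, bw1415, bw1416, bw1417, bw1418, bw1419, bw1420, bw1421, bw1422, bw1423, bw1424, bw1425, bw1426, bw1427, bw1428, bw1429, bw1430, bw1431, bw1432, bw1433, bw1434,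 bw1435, bw1436, bw1437, bw1438, bw1439, bw1440, bw1441, bw1442, bw1443, bw1444, bw1445, bw1446, bw1447, bw1448, bw1449, bw1450, bw1451, bw1452, bw1453, bw1454, bw1455, bw1456, bw1457, bw1458, bw1459, bw1460, bw1461, bw1462, bw1463, bw1464, bw1465, bw1466, bw1467, bw1468, bw1469, bw1470, bw1471, bw1472, bw1473, bw1474, bw1475, bw1476, bw1477, bw1478, bw1479, bw1480, bw1481, bw1482, bw1483, bw1484, bw1485, bw1486, bw1487, bw1488, bw1489, bw1490, bw1491, bw1492, bw1493, bw1494, bw1495, bw1496, bw1497, bw1498, bw1499, bw1500, bw1501, bw1502, bw1503, bw1504, bw1505, bw1506, bw1507, bw1508, bw1509, bw1510, bw1511, bw1512, bw1513, bw1514, bw1515, bw1516, bw1517, bw1518, bw1519, bw1520, bw1521, bw1522, bw1523, bw1524, bw1525, bw1526, bw1527, bw1528, bw1529, bw1530, bw1531, bw1532, bw1533, bw1534, bw1535, bw1536,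 bw1537, bw1538, bw1539, bw1540, bw1541, bw1542, bw1543, bw1544, bw1545, bw1546, bw1547, bw1548, bw1549, bw1550, bw1551, bw1552, bw1553, bw1554, bw1555, bw1556, bw1557, bw1558, bw1559, bw1560, bw1561, bw1562, bw1563, bw1564, bw1565, bw1566, bw1567, bw1568, bw1569, bw1570, bw1571, bw1572, bw1573, bw1574, bw1575, bw1576, bw1577, bw1578, bw1579, bw1580, bw1581, bw1582, bw1583, bw1584, bw1585, bw1586, bw1587, bw1588, bw1589, bw1590, bw1591, bw1592, bw1593, bw1594, bw1595, bw1596, bw1597, bw1598, bw1599, bw1600, bw1601, bw1602, bw1603, bw1604, bw1605, bw1606, bw1607, bw1608, bw1609, bw1610, bw1611, bw1612, bw1613, bw1614, bw1615, bw1616, bw1617, bw1618, bw1619, bw1620, bw1621, bw1622, bw1623, bw1624, bw1625, bw1626, bw1627, bw1628, bw1629, bw1630, bw1631, bw1632, bw1633, bw1634, bw1635, bw1636, bw1637, bw1638,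 bw1639, bw1640, bw1641, bw1642, bw1643, bw1644, bw1645, bw1646, bw1647, bw1648, bw1649, bw1650, bw1651, bw1652, bw1653, bw1654, bw1655, bw1656, bw1657, bw1658, bw1659, bw1660, bw1661, bw1662, bw1663, bw1664, bw1665, bw1666, bw1667, bw1668, bw1669, bw1670, bw1671, bw1672, bw1673, bw1674, bw1675, bw1676, bw1677, bw1678, bw1679, bw1680, bw1681, bw1682, bw1683, bw1684, bw1685, bw1686, bw1687, bw1688, bw1689, bw1690, bw1691, bw1692, bw1693, bw1694, bw1695, bw1696, bw1697, bw1698, bw1699, bw1700, bw1701, bw1702, bw1703, bw1704, bw1705, bw1706, bw1707, bw1708, bw1709, bw1710, bw1711, bw1712, bw1713, bw1714, bw1715, bw1716, bw1717, bw1718, bw1719, bw1720, bw1721, bw1722, bw1723, bw1724, bw1725, bw1726, bw1727, bw1728, bw1729, bw1730, bw1731, bw1732, bw1733, bw1734, bw1735, bw1736, bw1737, bw1738, bw1739, bw1740,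 bw1741, bw1742, bw1743, bw1744, bw1745, bw1746, bw1747, bw1748, bw1749, bw1750, bw1751, bw1752, bw1753, bw1754, bw1755, bw1756, bw1757, bw1758, bw1759, bw1760, bw1761, bw1762, bw1763, bw1764, bw1765, bw1766, bw1767, bw1768, bw1769, bw1770]

def rots : List (ℕ × ℕ) := [(26, 11), (5, 3), (23, 2), (27, 13), (5, 1), (5, 4), (27, 11), (5, 0), (23, 1), (27, 12), (26, 3), (1583, 0), (1584, 0), (1585, 0), (827, 0), (828, 0), (829, 0), (1555, 0), (1556, 0), (1695, 0), (1696, 0), (1697, 0), (1557, 0), (24, 3), (1639, 0), (1640, 0), (1641, 0), (106, 14), (24, 4), (678, 20), (444, 7), (1446, 25), (105, 6), (1335, 0), (1336, 0), (1337, 0), (316, 4), (1599, 0), (1600, 0), (1601, 0), (25, 11), (25, 3), (106, 4), (262, 6), (326, 4), (106, 2), (110, 17), (444, 19), (114, 17), (16, 5), (16, 3), (16, 1), (16, 8), (107, 4), (115, 21), (16, 9), (16, 4), (16, 7), (16, 2), (16, 6), (323, 4), (315, 4), (26, 4), (107, 1), (107, 3), (115, 20), (115, 18), (113, 15), (219, 21), (327, 21), (316, 22), (126, 17), (17, 5), (17, 2), (124, 4), (128, 21), (128, 19), (17, 1), (17, 6), (128, 17), (154, 18), (104, 4), (220, 5), (151, 5), (17, 0), (124, 1), (17, 7), (124, 3), (128, 20), (128, 18), (150, 18), (149, 17), (147, 5), (147, 4), (146, 18), (145, 17), (143, 5), (143, 4), (152, 7), (142, 18), (141, 17), (141, 16), (137, 15), (139, 5), (139, 4), (138, 18), (135, 5), (135, 4), (110, 5), (386, 5), (114, 5), (1710, 6), (1330, 22), (622, 4), (654, 6), (1262, 5), (1346, 2), (1594, 7), (442, 10), (116, 15), (121, 17), (222, 3), (115, 15), (497, 18), (497, 17), (121, 7), (428, 9), (495, 4), (251, 23), (315, 7), (251, 19), (251, 18), (115, 8), (255, 8), (315, 6), (435, 22), (423, 8), (658, 5), (487, 20), (125, 15), (966, 25), (1475, 0), (1476, 0), (1477, 0), (620, 8), (1272, 8), (1544, 12), (1608, 7), (1768, 8), (29, 10), (1631, 7), (34, 12), (682, 8), (1230, 9), (344, 4), (29, 8), (32, 4), (376, 21), (331, 22), (343, 22), (347, 20), (360, 17), (363, 20), (17, 3), (219, 24), (221, 20), (361, 5), (425, 3), (433, 22), (437, 22), (18, 10), (121, 18), (119, 18), (495, 3), (509, 21), (255, 2), (115, 2), (255, 7), (115, 14), (425, 10), (211, 18), (420, 24), (448, 19), (21, 4), (408, 24), (452, 19), (520, 2), (132, 5), (123, 14), (419, 3), (104, 14), (325, 15), (416, 14), (125, 7), (471, 3), (653, 4), (132, 18), (128, 2), (142, 6), (140, 7), (212, 12), (219, 4), (23, 11), (1097, 27), (7, 7), (543, 19), (1319, 4), (1314, 25), (9, 4), (375, 19), (29, 2), (1086, 27), (20, 2), (788, 1), (546, 8), (718, 7), (6, 6), (47, 1), (75, 16), (27, 4), (15, 15), (32, 8), (83, 7), (6, 2), (27, 1), (52, 12), (60, 17), (226, 6), (104, 11), (219, 5), (234, 5), (238, 5), (239, 19), (7, 2), (8, 1), (295, 4), (159, 21), (163, 21), (6, 1), (429, 10), (1632, 8), (657, 7), (622, 5), (648, 20), (1058, 18), (642, 16), (34, 11), (160, 19), (678, 7), (145, 7), (314, 7), (289, 8), (297, 6), (301, 20), (295, 8), (453, 11), (7, 5), (124, 2), (1224, 9), (1402, 7), (169, 4), (171, 21), (297, 20), (111, 16), (472, 24), (439, 3), (148, 18), (17, 4), (104, 1), (5, 2), (23, 12), (19, 10), (347, 3), (139, 19), (391, 5), (312, 18), (149, 15), (295, 3), (135, 19), (447, 3), (1191, 23), (826, 4), (155, 5), (159, 20), (655, 19), (311, 4), (167, 5), (31, 9), (32, 6), (6, 0), (256, 7), (315, 22), (518, 5), (475, 5), (620, 22), (748, 22), (976, 21), (920, 19), (335, 23), (331, 23), (316, 7), (120, 16), (33, 3), (1199, 5), (38, 12), (1031, 5), (1713, 22), (779, 22), (919, 8), (144, 8), (271, 6), (392, 21), (786, 10), (1086, 7), (154, 6), (7, 0), (24, 5), (784, 23), (8, 8), (23, 5), (790, 8), (1393, 4), (1185, 24), (408, 8), (103, 14), (25, 4), (143, 18), (20, 1), (300, 20), (295, 19), (466, 6), (464, 22), (137, 14), (289, 18), (33, 10), (273, 20), (470, 6), (468, 7), (1121, 7), (842, 6), (840, 7), (393, 17), (387, 23), (221, 8), (348, 18), (20, 4), (145, 9), (297, 5), (420, 6), (43, 3), (331, 5), (20, 10), (151, 17), (152, 8), (151, 4), (461, 10), (103, 12), (421, 5), (324, 2), (543, 5), (1417, 6), (828, 7), (784, 5), (866, 24), (786, 12), (318, 22), (792, 5), (546, 7), (622, 21), (28, 4), (28, 8), (257, 5), (1121, 9), (67, 19), (27, 9), (243, 20), (360, 8), (323, 15), (169, 18), (424, 24), (428, 24), (1073, 5), (1262, 26), (317, 11), (322, 23), (378, 4), (382, 4), (430, 10), (446, 11), (1080, 8), (118, 9), (642, 24), (921, 10), (920, 23), (108, 4), (116, 13), (256, 21), (652, 8), (1031, 26), (1539, 26), (251, 4), (23, 10), (24, 10), (36, 4), (42, 8), (115, 19), (1226, 8), (862, 6), (919, 7), (1696, 8), (321, 1), (329, 16), (27, 5), (131, 18), (409, 10), (1770, 18), (131, 3), (1150, 17), (1546, 4), (17, 8), (454, 20), (132, 17), (133, 11), (319, 23), (321, 15), (328, 18), (103, 4), (319, 15), (471, 20), (21, 8), (408, 10), (104, 7), (419, 8), (471, 8), (1576, 3), (1576, 8), (40, 20), (155, 3), (372, 6), (29, 11), (492, 3), (223, 19), (127, 3), (244, 7), (167, 22), (175, 22), (1722, 8), (20, 7), (1721, 11), (475, 3), (31, 12), (142, 7), (316, 23), (5, 5), (371, 19), (976, 8), (651, 7), (1046, 6), (478, 23), (392, 6), (514, 18), (468, 19), (1014, 20), (21, 5), (392, 23), (396, 23), (468, 8), (469, 19), (1666, 26), (467, 3), (467, 8), (468, 24), (1698, 24), (20, 9), (468, 3), (123, 3), (473, 19), (448, 5), (33, 9), (27, 2), (512, 12), (111, 18), (135, 23), (137, 12), (211, 23), (495, 15), (495, 24), (331, 9), (332, 21), (340, 25), (21, 10), (1583, 27), (409, 15), (21, 3), (31, 11), (521, 15), (523, 16), (35, 13), (512, 3), (34, 9), (125, 8), (137, 16), (112, 7), (113, 21), (1299, 7), (271, 18), (287, 22), (109, 2), (147, 3), (301, 7), (256, 10), (165, 5), (260, 5), (255, 22), (343, 4), (331, 6), (475, 4), (33, 13), (21, 2), (1696, 22), (829, 5), (467, 2), (468, 25), (1666, 24), (1640, 4), (393, 16), (329, 8), (445, 20), (501, 5), (409, 7), (147, 17), (111, 20), (143, 19), (147, 19), (148, 6), (299, 20), (139, 3), (523, 9), (531, 25), (271, 19), (18, 1), (115, 9), (1628, 7), (1628, 25), (1629, 2), (153, 6), (1012, 5), (469, 10), (462, 23), (470, 8), (469, 1), (467, 24), (33, 4), (460, 7), (104, 12), (335, 9), (44, 7), (56, 8), (223, 18), (243, 18), (177, 19), (371, 20), (29, 3), (355, 1), (343, 18), (343, 7), (279, 7), (235, 3), (29, 5), (467, 4), (471, 17), (528, 23), (420, 22), (23, 3), (468, 18), (261, 7), (459, 4), (19, 0), (211, 3), (21, 9), (115, 0), (255, 18), (427, 8), (827, 5), (459, 8), (440, 20), (487, 17), (21, 1), (1556, 3), (21, 7), (260, 6), (19, 9), (495, 2), (19, 7), (437, 9), (1584, 2), (167, 3), (841, 22), (1756, 21), (1089, 10), (465, 9), (463, 3), (467, 23), (128, 9), (385, 21), (532, 19), (18, 2), (403, 8), (452, 17), (464, 4), (491, 19), (141, 15), (104, 5), (1690, 6), (1687, 24), (1690, 5), (1224, 8), (874, 1), (1314, 13), (30, 3), (34, 3), (38, 3), (783, 19), (1374, 10), (1716, 9), (1491, 5), (1494, 19), (105, 12), (339, 10), (1026, 5), (1097, 21), (1193, 24), (640, 9), (620, 14), (7, 6), (9, 9), (647, 1), (1234, 29), (907, 11), (850, 21), (1650, 23), (38, 16), (1190, 24), (1579, 16), (103, 3), (320, 2), (420, 7), (680, 24), (830, 22), (687, 5), (1375, 9), (372, 24), (1631, 25), (367, 19), (1456, 6), (921, 11), (1681, 5), (1378, 8), (147, 16), (389, 23), (480, 17), (191, 2), (296, 23), (336, 1), (133, 16), (512, 16), (415, 20), (512, 5), (531, 4), (508, 18), (1502, 26), (32, 2), (40, 19), (31, 2), (384, 19), (416, 19), (127, 7), (221, 10), (321, 10), (327, 24), (219, 3), (320, 8), (325, 5), (105, 15), (108, 15), (116, 21), (133, 12), (133, 13), (220, 20), (315, 2), (323, 25), (327, 8), (328, 6), (383, 5), (399, 9), (408, 25), (408, 7), (428, 4), (439, 4), (439, 18), (440, 23), (447, 21), (471, 7), (491, 2), (529, 4), (1045, 8), (1121, 8), (1319, 2), (1631, 8), (1632, 9), (30, 12), (655, 23), (976, 20), (1228, 10), (1680, 8), (329, 19), (449, 11), (328, 11), (339, 15), (7, 3), (1045, 24), (652, 7), (1224, 24), (1594, 20), (1224, 25), (1391, 8), (1579, 23), (1582, 18), (127, 4), (487, 5), (488, 9), (123, 21), (419, 24), (456, 20), (500, 18), (128, 3), (361, 15), (29, 13), (425, 17), (497, 3), (428, 20), (423, 17), (1632, 23), (1393, 27), (651, 5), (1631, 21), (495, 17), (427, 18), (347, 7), (373, 9), (348, 5), (108, 16), (423, 3), (116, 16), (348, 3), (377, 24), (369, 16), (23, 9), (32, 3), (472, 18), (371, 6), (441, 11), (315, 24), (428, 8), (496, 8), (115, 1), (119, 15), (252, 16), (431, 20), (748, 12), (295, 5), (148, 7), (149, 16), (324, 25), (417, 20), (461, 11), (17, 9), (120, 18), (317, 21), (361, 14), (27, 3), (493, 20), (316, 21), (18, 11), (388, 5), (491, 8), (316, 0), (408, 5), (359, 15), (380, 14), (316, 5), (492, 6), (103, 13), (108, 7), (221, 16), (409, 19), (392, 2), (396, 2), (6, 7), (105, 5), (512, 18), (311, 18), (27, 8), (27, 10), (300, 22), (391, 18), (393, 15), (499, 19), (439, 21), (103, 6), (319, 6), (471, 12), (124, 19), (124, 8), (219, 16), (221, 15), (293, 9), (140, 18), (520, 1), (123, 10), (456, 19), (127, 8), (1119, 24), (135, 20), (213, 17), (115, 6), (312, 19), (408, 3), (194, 19), (184, 9), (270, 19), (303, 23), (512, 6), (133, 14), (401, 6), (512, 4), (6, 5), (460, 24), (524, 22), (524, 20), (524, 19), (372, 4), (376, 4), (380, 4), (511, 9), (1164, 24), (1200, 24), (1648, 26), (1201, 26), (1033, 4), (1191, 8), (1103, 22), (1165, 26), (1329, 25), (1328, 24), (149, 10), (297, 4), (191, 5), (263, 5), (183, 22), (267, 22), (303, 5), (308, 16), (259, 21), (499, 15), (1393, 5), (1224, 7), (681, 13), (835, 10), (105, 14), (647, 9), (25, 5), (1164, 25), (1200, 25), (134, 18), (1228, 9), (394, 20), (831, 23), (470, 24), (532, 1), (477, 11), (459, 7), (469, 16), (1418, 11), (1319, 23), (1322, 25), (731, 1), (1071, 25), (34, 10), (36, 11), (31, 1), (32, 9), (919, 10), (546, 19), (344, 23), (1084, 7), (1185, 27), (1689, 27), (1296, 25), (1663, 0), (1664, 0), (1665, 0), (1082, 21), (422, 23), (830, 5), (375, 0), (1698, 19), (920, 21), (114, 15), (1012, 26), (1014, 3), (1257, 4), (468, 6), (489, 17), (219, 20), (331, 3), (367, 3), (120, 15), (121, 8), (115, 13), (421, 17), (326, 3), (860, 5), (862, 21), (382, 12), (1117, 6), (1410, 23), (130, 3), (262, 11), (316, 3), (321, 12), (400, 9), (404, 14), (499, 17), (833, 6), (1005, 10), (1305, 5), (1307, 7), (1743, 7), (408, 9), (29, 4), (116, 4), (251, 17), (318, 2), (318, 8), (349, 9), (364, 19), (365, 22), (1044, 8), (1058, 17), (31, 10), (622, 17), (1457, 8), (34, 13), (1328, 25), (642, 4), (103, 2), (127, 9), (320, 15), (328, 17), (443, 2), (388, 8), (107, 14), (622, 3), (1766, 23), (138, 20), (142, 9), (271, 4), (198, 8), (198, 9), (206, 6), (1630, 10), (1628, 24), (135, 3), (135, 2), (470, 25), (1568, 25), (1405, 20), (657, 6), (1003, 11), (1494, 20), (640, 4), (658, 10), (619, 5), (448, 18), (1428, 6), (1430, 22), (1018, 27), (1358, 18), (662, 5), (694, 23), (1078, 29), (1114, 26), (1374, 17), (1085, 5), (1286, 3), (1718, 28), (610, 18), (656, 10), (1770, 11), (854, 9), (959, 6), (1167, 12), (1394, 25), (1402, 23), (1546, 27), (1415, 25), (339, 5), (390, 15), (1312, 8), (1322, 11), (1456, 23), (1586, 24), (321, 19), (320, 21), (1183, 5), (410, 0), (1344, 25), (125, 5), (1130, 20), (926, 10), (1375, 10), (1541, 25), (1684, 8), (543, 4), (964, 24), (546, 5), (408, 17), (523, 23), (287, 20), (405, 16), (459, 17), (792, 3), (794, 18), (796, 5), (424, 22), (425, 6), (219, 19), (346, 17), (19, 1), (107, 20), (136, 10), (140, 5), (143, 1), (222, 11), (287, 3), (299, 21), (469, 3), (622, 8), (642, 8), (800, 2), (805, 20), (809, 20), (816, 13), (896, 16), (898, 22), (1127, 29), (1128, 22), (1213, 10), (1692, 28), (198, 6), (202, 6), (1295, 23), (1320, 22), (1163, 25), (1251, 4), (1252, 13), (1253, 13), (1608, 9), (658, 3), (6, 4), (25, 12), (310, 4), (525, 16), (523, 5), (524, 4), (34, 8), (1687, 25), (548, 18), (568, 5), (568, 4), (569, 4), (576, 5), (999, 28), (1529, 19), (1529, 11), (547, 9), (567, 22), (575, 3), (1352, 26), (649, 11), (1491, 22), (1493, 8), (1715, 5), (535, 12), (536, 8), (564, 11), (571, 2), (575, 17), (666, 17), (695, 1), (732, 13), (1124, 27), (1371, 4), (1715, 6), (601, 0), (1000, 27), (1371, 3), (1433, 21), (1352, 10), (731, 5), (575, 5), (1353, 10), (567, 4), (576, 4), (1000, 6), (1102, 16), (1252, 4), (661, 5), (1032, 24), (1320, 5), (1648, 6), (654, 11), (1739, 4), (682, 23), (1148, 28), (30, 2), (34, 2), (1473, 11), (1416, 21), (1122, 4), (826, 20), (941, 19), (1119, 4), (1682, 8), (410, 9), (1007, 3), (854, 25), (1576, 29), (851, 24), (853, 25), (790, 27), (647, 2), (1683, 5), (1039, 21), (1405, 12), (833, 8), (1041, 5), (1330, 8), (949, 1), (1071, 26), (1406, 27), (1304, 12), (58, 17), (1082, 8), (1103, 20), (1223, 23), (1623, 20), (656, 7), (30, 11), (41, 19), (52, 4), (32, 10), (1272, 23), (1608, 24), (6, 3), (36, 10), (8, 3), (649, 6), (1003, 5), (1263, 25), (1482, 27), (1330, 9), (922, 11), (1203, 10), (1252, 19), (658, 8), (1539, 28), (544, 4), (545, 3), (1696, 17), (446, 4), (316, 6), (1697, 8), (1698, 23), (112, 15), (112, 5), (289, 6), (113, 17), (111, 13), (1258, 13), (19, 11), (273, 7), (469, 8), (392, 20), (1373, 3), (1045, 6), (38, 1), (1626, 21), (1696, 23), (543, 2), (838, 7), (475, 10), (659, 5), (1398, 11), (1530, 11), (1687, 6), (570, 5), (547, 3), (570, 17), (1251, 26), (848, 8), (850, 19), (956, 24), (936, 9), (1510, 19), (759, 9), (984, 6), (732, 5), (570, 4), (790, 20), (821, 10), (578, 9), (1530, 6), (469, 18), (1167, 27), (1295, 10), (983, 8), (106, 16), (410, 24), (1004, 7), (1040, 7), (1147, 9), (318, 21), (1305, 11), (1314, 27), (368, 6), (420, 25), (919, 19), (1082, 27), (1694, 22), (106, 6), (124, 15), (422, 7), (450, 6), (680, 23), (833, 22), (1261, 6), (1304, 27), (323, 6), (748, 10), (295, 22), (301, 9), (1029, 6), (1528, 25), (1492, 9), (568, 17), (947, 23), (25, 10), (829, 4), (828, 21), (1494, 2), (569, 11), (831, 5), (649, 4), (474, 24), (454, 4), (1743, 19), (976, 19), (1165, 24), (29, 9), (219, 7), (543, 21), (920, 12), (1500, 19), (134, 19), (470, 20), (1011, 24), (688, 24), (949, 22), (947, 5), (949, 10), (1095, 8), (945, 23), (1295, 27), (939, 3), (1297, 3), (1716, 24), (844, 20), (1491, 9), (642, 14), (1634, 6), (1633, 24), (1477, 23), (1372, 6), (575, 4), (577, 9), (1253, 4), (1346, 13), (1455, 8), (1122, 8), (1456, 8), (1626, 10), (1664, 4), (1224, 10), (425, 4), (1225, 7), (1717, 10), (733, 21), (1351, 23), (20, 0), (1342, 20), (1378, 20), (18, 0), (113, 2), (287, 21), (143, 16), (459, 23), (29, 1), (19, 2), (111, 8), (428, 19), (1118, 4), (1128, 20), (1305, 12), (1082, 26), (1222, 21), (352, 7), (1056, 11), (615, 25), (961, 19), (962, 23), (1627, 27), (855, 2), (462, 7), (819, 26), (940, 9), (955, 18), (819, 22), (907, 23), (546, 9), (846, 3), (948, 18), (1011, 5), (836, 19), (1739, 3), (1003, 6), (135, 22), (470, 5), (1399, 4), (1304, 6), (426, 4), (434, 4), (438, 4), (1304, 10), (325, 7), (328, 19), (444, 8), (1263, 24), (833, 9), (382, 6), (1404, 10), (1006, 21), (1148, 20), (426, 10), (1742, 24), (29, 6), (976, 7), (1117, 4), (1040, 26), (1041, 3), (832, 4), (419, 22), (833, 5), (827, 26), (470, 3), (1718, 7), (999, 19), (1296, 22), (1296, 3), (789, 21), (786, 11), (802, 11), (575, 24), (368, 24), (37, 4), (836, 20), (1148, 23), (1417, 22), (120, 19), (657, 17), (332, 17), (1351, 26), (1352, 22), (149, 8), (475, 19), (932, 6), (1366, 5), (1336, 24), (107, 2), (1627, 5), (1629, 3), (1673, 18), (813, 4), (1297, 5), (1505, 4), (331, 17), (833, 11), (919, 22), (963, 5), (1002, 3), (694, 1), (843, 21), (691, 0), (692, 0), (870, 7), (942, 1), (986, 21), (1074, 11), (1078, 28), (1514, 28), (384, 14), (1334, 6), (652, 22), (446, 5), (1706, 10), (626, 22), (538, 10), (655, 18), (1580, 29), (1561, 23), (1582, 28), (1012, 3), (1621, 10), (546, 12), (566, 11), (606, 8), (615, 6), (1167, 9), (1702, 8), (1750, 8), (30, 13), (1438, 2), (1689, 26), (1647, 7), (1418, 9), (1580, 3), (845, 19), (962, 25), (615, 7), (730, 22), (1178, 24), (315, 21), (323, 5), (620, 6), (1191, 21), (831, 24), (919, 6), (327, 3), (538, 12), (150, 17), (750, 9), (289, 14), (298, 5), (514, 7), (1350, 5), (1224, 11), (423, 5), (273, 17), (650, 9), (1182, 24), (1352, 24), (651, 22), (575, 8), (894, 10), (397, 20), (243, 19), (697, 9), (549, 23), (846, 19), (546, 11), (964, 17), (21, 11), (153, 7), (199, 1), (1715, 3), (467, 21), (1295, 22), (396, 25), (105, 13), (508, 4), (195, 3), (207, 18), (187, 2), (226, 21), (227, 5), (228, 9), (411, 3), (1036, 5), (1755, 4), (1755, 23), (109, 16), (121, 10), (423, 19), (349, 16), (353, 5), (375, 4), (379, 4), (289, 9), (137, 10), (41, 13), (55, 15), (220, 6), (251, 6), (435, 4), (447, 2), (456, 21), (500, 7), (104, 16), (44, 6), (161, 10), (256, 6), (278, 20), (9, 8), (51, 6), (284, 6), (1208, 9), (1523, 21), (1757, 24), (1755, 27), (81, 6), (368, 8), (414, 22), (680, 11), (110, 9), (400, 24), (493, 12), (452, 9), (976, 10), (314, 20), (131, 19), (125, 9), (134, 16), (360, 23), (113, 20), (181, 21), (188, 16), (232, 8), (243, 3), (792, 25), (293, 11), (253, 24), (257, 24), (1366, 8), (145, 16), (1228, 26), (285, 22), (283, 21), (279, 21), (493, 7), (108, 13), (255, 1), (423, 2), (107, 5), (119, 21), (493, 10), (105, 4), (133, 4), (529, 6), (319, 10), (328, 21), (408, 4), (219, 18), (351, 20), (419, 9), (1418, 26), (418, 19), (902, 21), (1418, 22), (945, 3), (949, 24), (946, 12), (828, 23), (1713, 7), (407, 3), (472, 21), (363, 7), (335, 0), (355, 23), (484, 5), (41, 7), (511, 21), (53, 6), (39, 18), (52, 10), (23, 4), (36, 5), (83, 22), (9, 5), (148, 15), (300, 21), (225, 22), (229, 22), (360, 6), (379, 3), (332, 24), (352, 3), (509, 24), (371, 7), (336, 8), (349, 15), (373, 7), (145, 8), (469, 7), (529, 5), (919, 9), (649, 1), (467, 1), (785, 20), (445, 6), (417, 11), (405, 3), (7, 4), (443, 22), (21, 6), (123, 6), (103, 5), (132, 14), (329, 14), (472, 2), (19, 8), (38, 13), (277, 21), (311, 20), (403, 15), (348, 2), (352, 2), (356, 2), (333, 5), (369, 4), (327, 9), (399, 20), (136, 3), (467, 17), (33, 2), (519, 12), (113, 4), (499, 16), (511, 11), (479, 5), (480, 7), (481, 10), (169, 7), (156, 4), (244, 22), (267, 16), (184, 16), (1570, 23), (465, 23), (467, 5), (468, 9), (470, 19), (237, 3), (463, 4), (465, 10), (480, 10), (1720, 25), (26, 5), (30, 5), (1322, 6), (1721, 25), (20, 8), (133, 17), (515, 3), (517, 7), (515, 7), (515, 5), (516, 5), (1134, 10), (20, 6), (315, 1), (323, 16), (325, 11), (327, 1), (381, 21), (416, 12), (487, 22), (1585, 26), (205, 20), (372, 3), (531, 15), (24, 2), (137, 5), (141, 7), (19, 5), (511, 6), (28, 11), (31, 0), (365, 6), (381, 8), (9, 2), (375, 15), (331, 18), (468, 14), (13, 1), (11, 9), (281, 7), (233, 3), (237, 5), (25, 0), (64, 9), (181, 18), (225, 8), (39, 2), (55, 17), (201, 7), (243, 5), (245, 8), (485, 5), (60, 11), (247, 18), (184, 17), (748, 11), (144, 6), (100, 8), (81, 7), (196, 17), (299, 3), (233, 8), (303, 3), (463, 21), (484, 8), (195, 6), (276, 11), (41, 2), (1035, 25), (1037, 24), (1367, 4), (72, 9), (147, 7), (140, 16), (251, 7), (291, 22), (469, 14), (332, 5), (112, 20), (1493, 29), (144, 17), (144, 3), (18, 6), (111, 6), (109, 5), (143, 17), (469, 24), (1535, 10), (608, 1), (1251, 3), (248, 8), (459, 5), (1492, 27), (259, 9), (467, 18), (833, 21), (161, 22), (475, 17), (155, 19), (169, 2), (171, 5), (439, 25), (1709, 6), (480, 20), (307, 19), (312, 4), (515, 19), (45, 7), (263, 6), (37, 15), (265, 8), (196, 22), (80, 17), (404, 20), (383, 9), (348, 22), (325, 17), (344, 22), (528, 25), (133, 15), (141, 14), (440, 19), (19, 4), (149, 6), (303, 17), (469, 21), (425, 18), (532, 2), (20, 11), (500, 4), (976, 9), (340, 24), (187, 6), (191, 23), (137, 9), (273, 6), (50, 20), (49, 4), (227, 21), (37, 14), (137, 4), (273, 10), (113, 16), (113, 10), (288, 9), (431, 7), (492, 10), (25, 2), (203, 20), (279, 8), (51, 17), (61, 8), (421, 12), (31, 5), (336, 21), (340, 22), (35, 3), (293, 7), (157, 14), (243, 16), (509, 12), (753, 7), (211, 9), (506, 21), (143, 15), (407, 8), (141, 5), (532, 4), (197, 18), (18, 9), (493, 9), (125, 18), (125, 6), (215, 2), (24, 11), (18, 7), (393, 5), (1391, 23), (137, 6), (275, 7), (311, 5), (316, 2), (323, 20), (400, 10), (449, 20), (347, 1), (479, 16), (1225, 6), (183, 4), (4, 8), (276, 16), (412, 18), (21, 0), (532, 17), (533, 4), (753, 22), (201, 10), (265, 10), (533, 11), (533, 7), (124, 14), (40, 8), (124, 5), (327, 19), (529, 17), (433, 9), (135, 1), (476, 7), (271, 2), (289, 19), (396, 24), (475, 1), (184, 5), (287, 24), (348, 7), (532, 7), (496, 11), (115, 3), (212, 10), (104, 17), (257, 8), (1033, 27), (1033, 25), (508, 23), (503, 4), (1, 0), (20, 3), (64, 11), (392, 19), (0, 0), (248, 9), (161, 13), (181, 3), (287, 23), (289, 11), (503, 8), (215, 3), (55, 14), (480, 24), (145, 5), (149, 7), (464, 3), (156, 10), (156, 25), (461, 17), (489, 16), (81, 8), (85, 6), (171, 17), (231, 24), (303, 24), (411, 1), (275, 5), (308, 6), (465, 19), (480, 6), (51, 19), (68, 21), (388, 22), (464, 8), (40, 15), (244, 1), (143, 3), (184, 10), (264, 20), (497, 7), (65, 11), (223, 17), (248, 23), (289, 16), (291, 25), (439, 5), (525, 19), (168, 2), (413, 2), (225, 24), (245, 21), (61, 19), (99, 9), (411, 7), (479, 18), (1576, 6), (327, 23), (528, 3), (531, 8), (1575, 8), (619, 3), (20, 5), (515, 2), (299, 6), (299, 19), (448, 22), (467, 25), (473, 12), (516, 16), (516, 20), (1632, 3), (428, 23), (451, 20), (217, 8), (217, 9), (655, 8), (477, 8), (480, 11), (7, 1), (40, 9), (44, 16), (83, 2), (484, 9), (203, 23), (275, 23), (275, 10), (484, 6), (35, 12), (203, 2), (303, 8), (304, 7), (236, 21), (479, 6), (235, 6), (231, 2), (145, 2), (173, 7), (223, 8), (271, 7), (295, 7), (297, 17), (435, 9), (18, 3), (63, 3), (288, 18), (337, 9), (360, 25), (403, 2), (320, 12), (18, 8), (184, 18), (185, 10), (187, 17), (205, 10), (309, 15), (480, 9), (479, 4), (141, 9), (136, 5), (352, 24), (95, 8), (151, 18), (187, 3), (464, 11), (171, 7), (119, 5), (231, 18), (213, 20), (411, 8), (169, 15), (327, 20), (461, 13), (352, 19), (356, 22), (373, 10), (233, 22), (375, 5), (25, 6), (191, 4), (140, 9), (291, 20), (475, 14), (144, 9), (216, 24), (993, 20), (763, 23), (1069, 23), (819, 9), (907, 3), (790, 4), (1148, 1), (1304, 17), (652, 4), (1003, 20), (1540, 27), (655, 24), (930, 20), (1525, 26), (232, 24), (223, 20), (269, 4), (57, 18), (137, 19), (349, 5), (503, 15), (521, 21), (291, 15), (37, 16), (192, 16), (196, 15), (268, 22), (69, 4), (197, 22), (153, 15), (263, 18), (112, 13), (139, 6), (160, 20), (241, 14), (195, 21), (199, 20), (57, 9), (177, 3), (157, 10), (163, 25), (136, 4), (424, 23), (212, 21), (111, 17), (489, 5), (131, 20), (268, 12), (140, 22), (463, 1), (244, 4), (480, 22), (33, 6), (331, 21), (525, 17), (16, 0), (335, 18), (45, 17), (249, 6), (155, 20), (383, 25), (436, 23), (436, 25), (504, 11), (1265, 3), (135, 21), (505, 20), (135, 14), (139, 21), (271, 16), (147, 18), (751, 5), (753, 5), (753, 8), (249, 23), (1327, 2), (654, 8), (487, 3), (151, 23), (307, 18), (509, 20), (35, 14), (57, 19), (244, 21), (249, 9), (18, 5), (115, 4), (169, 19), (1680, 28), (993, 25), (113, 9), (511, 8), (280, 14), (515, 1), (831, 20), (1407, 6), (151, 22), (391, 9), (461, 12), (479, 20), (167, 2), (416, 21), (84, 15), (155, 9), (216, 11), (225, 13), (289, 22), (168, 4), (313, 24), (391, 8), (239, 9), (309, 21), (1557, 25), (520, 3), (359, 8), (401, 8), (425, 1), (120, 7), (135, 16), (4, 9), (217, 11), (396, 19), (481, 6), (25, 13), (49, 19), (113, 18), (205, 24), (308, 7), (191, 7), (192, 9), (527, 20), (1170, 16), (907, 18), (1222, 20), (1338, 21), (1411, 0), (1412, 0), (1413, 0), (1750, 9), (535, 16), (1222, 3), (1000, 3), (398, 19), (1568, 24), (465, 8), (256, 5), (425, 9), (213, 21), (515, 16), (696, 23), (224, 23), (228, 23), (196, 9), (195, 9), (275, 17), (184, 8), (191, 6), (1367, 20), (1755, 22), (1756, 27), (179, 6), (171, 19), (321, 14), (1003, 3), (1148, 9), (555, 23), (908, 13), (1689, 7), (909, 15), (1298, 25), (838, 22), (957, 17), (1496, 2), (536, 2), (1286, 23), (541, 11), (911, 24), (912, 24), (914, 7), (852, 11), (1402, 8), (182, 4), (179, 4), (167, 19), (1400, 24), (170, 4), (174, 4), (24, 6), (226, 8), (472, 9), (444, 10), (110, 7), (329, 15), (1470, 27), (674, 20), (1329, 3), (1033, 23), (538, 5), (1043, 4), (890, 10), (892, 21), (349, 17), (372, 5), (835, 2), (1650, 21), (280, 5), (459, 10), (137, 13), (151, 21), (469, 9), (168, 11), (233, 14), (309, 3), (299, 5), (497, 10), (507, 7), (468, 10), (477, 7), (144, 4), (544, 15), (1204, 11), (272, 24), (2, 0), (336, 3), (363, 5), (19, 3), (425, 5), (469, 15), (495, 19), (183, 6), (193, 18), (263, 8), (271, 8), (273, 18), (392, 25), (532, 3), (188, 14), (195, 4), (1537, 26), (30, 6), (465, 17), (471, 23), (111, 1), (41, 6), (223, 9), (280, 7), (284, 7), (483, 16), (297, 8), (339, 21), (172, 18), (220, 12), (24, 12), (189, 11), (355, 24), (165, 6), (467, 14), (1295, 21), (352, 25), (267, 9), (151, 2), (145, 10), (257, 16), (289, 15), (156, 5), (215, 18), (217, 3), (363, 6), (233, 18), (239, 21), (168, 20), (167, 23), (229, 9), (232, 25), (239, 5), (412, 11), (317, 3), (1211, 26), (1130, 10), (153, 1), (257, 3), (792, 9), (511, 23), (49, 9), (56, 12), (263, 22), (152, 14), (475, 16), (148, 17), (1392, 26), (649, 8), (113, 1), (213, 4), (525, 14), (180, 5), (479, 21), (485, 2), (119, 14), (460, 18), (348, 1), (778, 8), (4, 14), (141, 8), (291, 7), (25, 1), (512, 19), (481, 18), (8, 9), (397, 24), (531, 7), (534, 3), (1215, 0), (496, 24), (35, 11), (197, 4), (205, 6), (263, 7), (268, 6), (85, 10), (207, 2), (13, 13), (373, 11), (240, 18), (333, 3), (377, 23), (161, 8), (456, 9), (127, 17), (480, 14), (503, 5), (484, 21), (1211, 27), (983, 9), (468, 23), (331, 8), (392, 24), (396, 22), (389, 24), (1585, 27), (104, 6), (1031, 24), (1385, 7), (1310, 6), (525, 6), (369, 20), (335, 5), (337, 1), (19, 6), (293, 20), (505, 8), (516, 3), (141, 3), (297, 19), (332, 25), (296, 8), (69, 19), (155, 23), (435, 6), (147, 9), (503, 18), (215, 7), (467, 19), (829, 2), (104, 15), (469, 20), (1736, 27), (253, 13), (440, 7), (516, 7), (1556, 5), (264, 9), (1227, 10), (469, 2), (477, 17), (447, 8), (371, 10), (1324, 7), (318, 3), (719, 7), (1087, 22), (1494, 18), (1493, 9), (1296, 10), (1371, 11), (1127, 21), (622, 22), (546, 4), (1403, 4), (964, 9), (950, 7), (330, 17), (963, 4), (1272, 10), (654, 3), (164, 4), (191, 22), (200, 16), (204, 6), (327, 15), (531, 19), (299, 4), (477, 10), (111, 19), (527, 24), (229, 23), (299, 10), (144, 21), (407, 20), (505, 12), (464, 1), (293, 16), (1347, 8), (149, 13), (295, 10), (312, 9), (37, 17), (333, 8), (227, 22), (229, 8), (225, 6), (215, 25), (476, 16), (1088, 9), (189, 10), (69, 15), (79, 18), (420, 23), (101, 6), (397, 8), (1401, 4), (232, 19), (307, 10), (397, 6), (232, 20), (191, 20), (1399, 27), (1401, 27), (279, 23), (463, 9), (517, 21), (460, 21), (459, 20), (419, 18), (244, 23), (439, 7), (532, 6), (139, 17), (167, 7), (108, 9), (311, 3), (423, 20), (204, 9), (205, 19), (485, 7), (492, 12), (273, 11), (491, 1), (1632, 22), (271, 23), (135, 7), (291, 2), (153, 22), (465, 24), (120, 12), (300, 5), (533, 22), (533, 17), (148, 23), (977, 10), (271, 3), (287, 1), (1702, 9), (139, 18), (855, 18), (1322, 8), (289, 5), (288, 8), (748, 5), (300, 19), (451, 22), (485, 23), (289, 20), (111, 21), (177, 9), (480, 19), (524, 10), (152, 12), (395, 21), (277, 18), (216, 18), (279, 3), (515, 21), (13, 10), (43, 1), (411, 19), (481, 17), (4, 17), (152, 15), (103, 7), (155, 16), (181, 16), (187, 20), (184, 15), (507, 23), (499, 1), (504, 20), (233, 15), (393, 7), (131, 1), (195, 18), (501, 18), (305, 9), (300, 25), (397, 21), (465, 22), (437, 12), (159, 3), (207, 20), (293, 6), (4, 5), (271, 25), (281, 18), (119, 6), (157, 3), (391, 6), (397, 2), (505, 16), (151, 7), (407, 24), (180, 10), (467, 10), (281, 3), (415, 10), (288, 22), (499, 20), (1560, 7), (140, 15), (313, 12), (499, 5), (463, 10), (433, 24), (224, 7), (293, 8), (204, 2), (1532, 9), (840, 8), (112, 3), (526, 9), (532, 21), (467, 6), (265, 17), (281, 2), (185, 25), (255, 19), (465, 20), (185, 16), (295, 1), (203, 19), (203, 18), (244, 5), (287, 6), (111, 3), (1128, 21), (208, 11), (519, 21), (292, 16), (851, 26), (912, 3), (911, 4), (203, 9), (293, 17), (411, 2), (527, 1), (475, 2), (1133, 4), (193, 5), (1399, 26), (1150, 9), (372, 19), (836, 7), (1670, 21), (1658, 11), (569, 20), (570, 3), (1689, 28), (898, 5), (565, 2), (1022, 4), (139, 2), (148, 14), (1252, 11), (112, 4), (1573, 26), (475, 21), (184, 4), (247, 9), (426, 9), (1694, 21), (1544, 2), (1736, 22), (1014, 5), (830, 3), (1014, 22), (1537, 25), (1768, 27), (330, 11), (657, 4), (656, 3), (464, 20), (1402, 12), (960, 25), (838, 8), (1006, 28), (1576, 7), (119, 1), (1346, 5), (175, 20), (1555, 28), (481, 21), (1509, 25), (1265, 5), (1212, 11), (1213, 26), (1089, 21), (1088, 8), (1089, 20), (1585, 28), (1175, 5), (1571, 5), (515, 20), (1151, 23), (576, 3), (751, 4), (1131, 2), (1056, 20), (827, 24), (1401, 7), (920, 7), (1719, 21), (1374, 22), (1255, 25), (1502, 23), (1057, 26), (1220, 9), (1221, 8), (1263, 27), (1322, 28), (697, 8), (1124, 7), (1465, 23), (461, 19), (225, 23), (68, 11), (153, 8), (216, 23), (264, 17), (1491, 21), (914, 3), (911, 0), (1323, 2), (826, 8), (504, 15), (957, 24), (1180, 7), (1222, 22), (1180, 23), (1144, 7), (903, 21), (289, 21), (1532, 20), (200, 2), (244, 9), (1282, 6), (34, 1), (1230, 11), (31, 8), (152, 20), (151, 3), (1258, 12), (537, 0), (935, 9), (537, 10), (824, 19), (1127, 9), (1214, 3), (1600, 26), (991, 22), (992, 9), (1250, 7), (941, 23), (538, 7), (577, 23), (824, 9), (1435, 3), (993, 6), (542, 10), (932, 8), (820, 2), (922, 22), (843, 20), (831, 22), (835, 21), (545, 17), (1415, 24), (410, 22), (1586, 19), (374, 22), (378, 22), (382, 22), (406, 19), (1319, 24), (1130, 19), (128, 8), (128, 14), (1500, 18), (470, 2), (432, 20), (1537, 5), (784, 26), (477, 23), (1473, 17), (1664, 10), (1164, 22), (1502, 17), (710, 6), (708, 21), (818, 10), (1168, 22), (151, 14), (531, 9), (821, 20), (535, 1), (1167, 26), (1150, 10), (1168, 2), (18, 4), (692, 4), (159, 22), (1369, 20), (109, 9), (492, 21), (180, 6), (4, 13), (652, 20), (1225, 23), (119, 16), (144, 23), (208, 20), (465, 16), (196, 19), (464, 9), (204, 16), (329, 1), (421, 10), (465, 18), (187, 5), (155, 6), (159, 6), (1399, 5), (1400, 25), (1533, 8), (1087, 1), (200, 22), (209, 25), (505, 7), (33, 1), (40, 6), (55, 16), (235, 21), (135, 17), (137, 3), (155, 7), (245, 25), (509, 5), (459, 18), (1571, 24), (1576, 28), (39, 4), (4, 15), (356, 1), (395, 17), (25, 8), (105, 17), (1477, 3), (1463, 6), (1088, 21), (1368, 20), (189, 25), (716, 22), (465, 11), (237, 20), (431, 9), (832, 19), (313, 21), (501, 11), (188, 20), (261, 21), (333, 14), (1384, 21), (1632, 10), (1756, 9), (642, 3), (437, 10), (223, 24), (184, 21), (139, 1), (137, 8), (368, 17), (1631, 9), (839, 15), (988, 7), (365, 8), (103, 11), (291, 17), (347, 18), (272, 2), (828, 24), (1583, 26), (145, 15), (151, 6), (272, 10), (137, 18), (1174, 17), (34, 5), (393, 6), (148, 16), (369, 5), (748, 6), (331, 1), (143, 9), (323, 22), (8, 0), (356, 24), (157, 11), (1413, 3), (106, 13), (922, 18), (467, 20), (501, 19), (109, 3), (103, 15), (119, 20), (391, 17), (153, 20), (267, 23), (531, 23), (1192, 7), (38, 11), (680, 8), (688, 7), (1180, 25), (9, 7), (931, 9), (476, 24), (123, 5), (22, 10), (989, 22), (292, 4), (144, 22), (468, 17), (656, 22), (577, 13), (175, 21), (291, 24), (31, 13), (37, 12), (1087, 21), (149, 19), (153, 14), (439, 2), (216, 17), (112, 10), (136, 2), (475, 8), (839, 22), (642, 15), (1213, 28), (1373, 24), (109, 10), (145, 14), (415, 21), (513, 4), (524, 24), (156, 6), (136, 11), (4, 7), (829, 25), (1400, 5), (195, 17), (240, 22), (180, 21), (183, 3), (307, 9), (157, 18), (116, 7), (173, 6), (975, 23), (975, 6), (216, 7), (339, 1), (1633, 8), (136, 21), (499, 14), (989, 24), (245, 19), (336, 18), (281, 22), (213, 12), (9, 0), (189, 2), (641, 8), (211, 4), (475, 18), (161, 21), (1572, 9), (57, 7), (653, 21), (1335, 3), (105, 16), (165, 22), (620, 7), (1040, 10), (1326, 10), (1367, 9), (1716, 23), (1400, 28), (1295, 2), (4, 11), (336, 25), (786, 19), (111, 4), (197, 8), (345, 4), (1146, 23), (279, 1), (104, 10), (533, 6), (549, 17), (716, 21), (676, 21), (155, 4), (1716, 19), (215, 20), (293, 23), (112, 8), (1532, 10), (1368, 8), (4, 20), (424, 18), (4, 10), (1715, 25), (1717, 12), (156, 11), (155, 22), (237, 17), (655, 7), (569, 16), (731, 21), (1715, 24), (548, 2), (116, 5), (117, 21), (272, 15), (368, 20), (140, 10), (656, 20), (827, 2), (477, 19), (833, 20), (833, 10), (657, 20), (856, 20), (1044, 23), (854, 24), (655, 4), (467, 22), (363, 21), (135, 15), (127, 18), (187, 23), (195, 16), (47, 2), (676, 6), (924, 4), (180, 4), (125, 4), (1531, 24), (1712, 6), (753, 6), (1631, 19), (987, 25), (840, 24), (1087, 8), (1713, 24), (467, 16), (353, 2), (639, 7), (171, 2), (655, 22), (149, 14), (444, 6), (276, 15), (503, 6), (196, 20), (136, 23), (1147, 8), (1719, 5), (1127, 12), (40, 12), (41, 1), (507, 21), (119, 17), (155, 18), (111, 7), (104, 8), (23, 13), (983, 27), (1181, 6), (592, 1), (1087, 9), (157, 22), (136, 13), (157, 8), (989, 26), (172, 21), (276, 17), (4, 1), (80, 7), (165, 18), (827, 27), (1575, 21), (168, 24), (119, 19), (1344, 24), (1492, 11), (67, 2), (503, 17), (147, 6), (505, 25), (1583, 28), (39, 1), (524, 6), (9, 1), (127, 12), (132, 20), (215, 6), (1583, 4), (490, 20), (1494, 21), (657, 19), (1088, 11), (832, 21), (828, 25), (1721, 26), (1577, 5), (1577, 8), (751, 22), (1415, 2), (1507, 27), (733, 22), (1721, 5), (547, 20), (714, 13), (938, 19), (1352, 20), (1352, 19), (1510, 20), (764, 8), (1728, 0), (1170, 22), (462, 6), (1165, 28), (477, 18), (994, 25), (731, 7), (547, 5), (1346, 22), (745, 13), (48, 2), (547, 19), (999, 4), (695, 17), (732, 3), (1463, 17), (76, 22), (75, 22), (58, 13), (386, 6), (1647, 5), (1265, 6), (4, 4), (1212, 28), (577, 12), (831, 19), (658, 24), (503, 19), (475, 6), (470, 7), (368, 7), (49, 8), (367, 8), (802, 20), (922, 17), (470, 22), (614, 7), (840, 23), (1399, 25), (358, 22), (1447, 25), (1678, 25), (486, 9), (354, 24), (219, 1), (355, 6), (746, 14), (766, 27), (787, 0), (1578, 7), (252, 15), (82, 7), (535, 2), (596, 2), (1428, 24), (578, 23), (1254, 25), (1199, 28), (1095, 21), (1203, 23), (651, 23), (1343, 7), (1321, 3), (1707, 28), (716, 20), (1002, 5), (1069, 17), (108, 17), (170, 22), (1465, 4), (1612, 7), (1295, 24), (1480, 25), (1182, 9), (870, 26), (1630, 7), (600, 22), (660, 21), (1255, 26), (918, 11), (919, 23), (339, 24), (544, 9), (841, 23), (547, 2), (111, 12), (936, 4), (543, 20), (544, 2), (659, 21), (1032, 23), (1502, 18), (689, 10), (1191, 22), (46, 8), (219, 15), (649, 3), (127, 13), (1273, 8), (838, 21), (863, 26), (649, 2), (718, 10), (151, 1), (295, 9), (147, 2), (168, 25), (752, 5), (1199, 25), (45, 12), (69, 25), (139, 16), (393, 18), (1088, 10), (139, 22), (144, 14), (160, 4), (1349, 7), (1455, 6), (284, 10), (1400, 6), (131, 4), (40, 10), (1583, 2), (125, 12), (249, 14), (305, 25), (335, 4), (989, 8), (232, 18), (120, 17), (660, 5), (1443, 25), (318, 20), (104, 13), (1191, 7), (329, 18), (1350, 22), (1375, 8), (123, 7), (1698, 17), (886, 2), (1226, 10), (1380, 8), (1379, 22), (1580, 6), (769, 7), (48, 3), (187, 7), (169, 1), (241, 3), (1585, 4), (1147, 28), (749, 26), (886, 20), (791, 9), (149, 20), (156, 12), (192, 19), (1401, 25), (4, 18), (461, 23), (1536, 7), (621, 25), (184, 14), (24, 1), (136, 9), (215, 5), (312, 1), (108, 5), (747, 5), (1720, 5), (111, 5), (975, 22), (1531, 9), (153, 4), (277, 3), (172, 5), (145, 13), (272, 1), (277, 25), (108, 18), (1173, 28), (1455, 23), (729, 21), (1711, 8), (781, 22), (1132, 28), (751, 7), (1531, 8), (1264, 5), (780, 11), (267, 3), (828, 2), (1695, 26), (1335, 5), (47, 21), (653, 8), (229, 25), (422, 22), (112, 1), (35, 15), (217, 17), (293, 15), (264, 2), (4, 16), (132, 16), (1088, 20), (1540, 24), (1199, 3), (719, 0), (680, 20), (688, 20), (450, 24), (679, 18), (1163, 23), (1500, 24), (1040, 6), (857, 15), (1633, 16), (706, 19), (748, 3), (647, 17), (1312, 7), (1095, 22), (834, 23), (287, 7), (25, 9), (503, 21), (1223, 7), (4, 2), (272, 17), (343, 24), (841, 5), (106, 7), (396, 8), (48, 5), (163, 6), (189, 20), (1583, 1), (157, 1), (167, 6), (183, 2), (1301, 6), (655, 5), (148, 5), (131, 6), (147, 15), (151, 20), (921, 8), (911, 23), (33, 12), (203, 7), (140, 2), (987, 24), (463, 19), (135, 18), (305, 5), (750, 6), (1716, 10), (989, 6), (1555, 3), (433, 11), (156, 19), (159, 19), (311, 17), (1499, 23), (858, 8), (1132, 25), (1711, 9), (1647, 6), (1033, 24), (1532, 24), (1335, 25), (173, 14), (339, 4), (753, 21), (256, 1), (1507, 4), (1632, 21), (839, 23), (717, 5), (912, 5), (651, 21), (1224, 6), (212, 5), (217, 23), (827, 25), (1719, 23), (175, 3), (1223, 8), (813, 18), (642, 7), (115, 5), (299, 24), (1760, 6), (185, 17), (471, 10), (180, 17), (249, 8), (651, 6), (652, 21), (829, 26), (205, 18), (828, 3), (575, 20), (1559, 21), (1036, 24), (639, 22), (192, 18), (243, 24), (269, 25), (827, 4), (144, 2), (325, 3), (985, 20), (24, 9), (185, 8), (256, 19), (215, 24), (60, 7), (24, 8), (215, 23), (136, 8), (164, 7), (215, 8), (28, 6), (1347, 5), (301, 2), (1087, 20), (829, 1), (1720, 3), (465, 21), (459, 6), (437, 24), (813, 2), (1414, 17), (1144, 23), (1715, 7), (1354, 20), (976, 4), (830, 21), (1556, 26), (830, 23), (164, 21), (235, 1), (653, 19), (49, 2), (105, 10), (156, 22), (159, 4), (477, 6), (987, 8), (196, 5), (988, 6), (111, 15), (143, 21), (167, 24), (485, 1), (311, 7), (112, 2), (215, 1), (840, 22), (141, 2), (525, 12), (1133, 5), (1532, 23), (41, 4), (123, 12), (145, 1), (243, 23), (1037, 27), (36, 12), (841, 6), (747, 24), (1555, 5), (1033, 3), (155, 8), (1363, 25), (156, 18), (152, 22), (543, 0), (965, 0), (1085, 10), (835, 19), (837, 8), (1084, 11), (1556, 4), (157, 7), (1311, 6), (118, 14), (621, 8), (650, 10), (682, 10), (1537, 22), (839, 21), (1050, 19), (1532, 29), (374, 8), (920, 6), (556, 4), (620, 9), (1169, 9), (991, 7), (267, 6), (288, 7), (827, 3), (111, 9), (124, 17), (199, 18), (22, 2), (131, 15), (133, 10), (851, 4), (144, 7), (140, 1), (103, 17), (626, 23), (653, 6), (662, 16), (832, 20), (1152, 24), (41, 5), (271, 15), (156, 7), (1035, 26), (656, 4), (1004, 25), (1537, 8), (1499, 6), (348, 0), (394, 7), (396, 20), (533, 23), (779, 24), (289, 17), (491, 20), (575, 23), (471, 6), (856, 7), (546, 10), (121, 19), (526, 17), (529, 14), (277, 22), (1182, 7), (1179, 8), (917, 7), (850, 20), (691, 1), (1007, 6), (1008, 19), (818, 12), (991, 24), (992, 8), (662, 4), (694, 25), (662, 2), (139, 8), (36, 3), (1536, 27), (1071, 22), (156, 8), (1089, 8), (1524, 23), (1524, 10), (1695, 7), (109, 4), (118, 3), (119, 7), (125, 13), (193, 10), (203, 5), (204, 22), (221, 19), (252, 19), (253, 21), (255, 24), (262, 21), (265, 3), (295, 25), (304, 9), (389, 20), (393, 9), (415, 22), (419, 17), (440, 3), (451, 19), (459, 21), (467, 7), (479, 19), (481, 16), (496, 22), (503, 3), (507, 6), (509, 19), (533, 21), (608, 2), (747, 7), (835, 3), (1372, 13), (1588, 21), (1660, 22), (61, 18), (103, 1), (147, 14), (157, 4), (169, 8), (176, 22), (249, 1), (295, 23), (296, 18), (333, 16), (348, 21), (349, 19), (389, 18), (405, 6), (473, 8), (487, 21), (691, 10), (1111, 23), (1225, 28), (1230, 7), (1301, 5), (1309, 20), (1368, 24), (1369, 9), (1433, 3), (1560, 20), (571, 8), (577, 10), (615, 19), (983, 4), (999, 25), (1414, 16), (1415, 21), (1421, 20), (1459, 26), (1463, 23), (1560, 11), (536, 12), (537, 3), (557, 23), (604, 8), (605, 8), (646, 22), (691, 4), (1068, 28), (1075, 3), (1177, 24), (1356, 10), (1373, 28), (1373, 19), (1419, 26), (1469, 11), (1589, 20), (1661, 21), (548, 9), (563, 3), (569, 22), (579, 20), (584, 17), (623, 8), (1251, 25), (535, 5), (535, 6), (547, 24), (571, 9), (573, 11), (578, 22), (617, 19), (683, 5), (1069, 8), (1111, 1), (1113, 9), (1114, 3), (1181, 1), (1297, 12), (1358, 26), (1372, 19), (1421, 27), (1422, 21), (1463, 8), (1492, 20), (1715, 19), (1752, 5), (537, 15), (603, 3), (604, 5), (692, 6), (1113, 23), (1493, 12), (536, 17), (537, 13), (547, 4), (571, 17), (604, 12), (691, 5), (720, 10), (721, 23), (913, 23), (1001, 4), (1021, 24), (1063, 25), (1111, 28), (1177, 21), (1243, 28), (1351, 10), (1661, 20), (1733, 28), (536, 6), (537, 6), (556, 20), (560, 6), (603, 5), (627, 19), (634, 4), (685, 9), (692, 23), (1220, 7), (1221, 20), (1492, 7), (1539, 9), (15, 0), (55, 19), (57, 17), (59, 3), (65, 8), (68, 3), (73, 4), (81, 16), (151, 8), (152, 21), (156, 21), (201, 3), (231, 20), (236, 23), (240, 23), (245, 22), (264, 4), (292, 20), (326, 24), (331, 19), (333, 24), (335, 25), (413, 8), (420, 21), (452, 7), (464, 21), (515, 18), (516, 17), (1019, 20), (1033, 2), (1343, 2), (1589, 10), (1671, 23), (1671, 6), (34, 4), (118, 8), (198, 12), (374, 10), (382, 23), (410, 23), (490, 10), (1560, 23), (1013, 29), (1560, 19), (860, 9), (1500, 6), (545, 8), (862, 15), (1659, 11), (1243, 3), (1493, 2), (1495, 4), (984, 25), (38, 2), (41, 17), (59, 19), (65, 23), (72, 4), (73, 15), (165, 8), (248, 21), (249, 18), (281, 10), (291, 1), (293, 18), (321, 21), (336, 5), (353, 22), (357, 22), (392, 22), (416, 22), (460, 1), (536, 7), (560, 5), (569, 17), (599, 4), (656, 8), (692, 8), (728, 5), (1346, 27), (1511, 5), (1531, 11), (536, 16), (572, 9), (623, 21), (728, 22), (732, 7), (733, 16), (1513, 6), (575, 18), (604, 11), (1068, 21), (1324, 2), (564, 9), (746, 12), (1065, 19), (1118, 13), (1252, 25), (1459, 27), (1660, 26), (1661, 19), (406, 20), (1101, 18), (1103, 19), (1343, 25), (1541, 28), (547, 23), (555, 2), (560, 3), (605, 24), (643, 7), (692, 3), (862, 17), (971, 6), (1112, 29), (1252, 5), (1326, 5), (1465, 8), (1554, 5), (1752, 22), (106, 17), (535, 3), (538, 3), (564, 16), (598, 17), (601, 21), (609, 23), (634, 3), (646, 20), (646, 19), (941, 26), (1047, 20), (1049, 18), (1068, 12), (1075, 4), (1076, 26), (1077, 20), (1182, 23), (1212, 10), (1326, 28), (1350, 9), (1391, 24), (1414, 3), (1492, 28), (1552, 28), (1553, 22), (1587, 19), (1620, 5), (1626, 13), (1648, 12), (1699, 7), (1169, 25), (1700, 7), (1699, 23), (1365, 4), (1652, 25), (1653, 4), (755, 20), (757, 8), (760, 20), (30, 9), (538, 8), (83, 3), (108, 19), (179, 21), (192, 8), (195, 25), (264, 8), (279, 20), (436, 16), (463, 20), (657, 22), (756, 7), (975, 8), (1104, 20), (1599, 27), (1043, 7), (1299, 23), (1557, 27), (1079, 24), (1558, 20), (322, 24), (329, 7), (339, 6), (376, 23), (386, 15), (488, 17), (641, 25), (657, 8), (681, 22), (793, 20), (797, 23), (885, 24), (1171, 5), (1551, 23), (1633, 22), (1681, 7), (525, 5), (1399, 2), (119, 2), (125, 14), (125, 16), (183, 25), (219, 23), (245, 10), (296, 19), (297, 18), (304, 3), (383, 4), (391, 22), (391, 4), (402, 4), (430, 4), (440, 6), (455, 24), (458, 7), (487, 4), (489, 3), (492, 1), (499, 2), (504, 4), (525, 20), (531, 1), (749, 25), (1067, 8), (1128, 5), (1511, 20), (1514, 9), (551, 5), (634, 20), (81, 10), (171, 22), (175, 23), (180, 20), (196, 3), (235, 2), (267, 19), (271, 17), (275, 24), (285, 10), (292, 11), (292, 24), (309, 7), (313, 14), (351, 4), (385, 19), (391, 20), (407, 17), (439, 17), (441, 16), (468, 21), (487, 18), (511, 2), (515, 6), (527, 8), (625, 19), (645, 18), (657, 5), (749, 3), (987, 6), (1076, 19), (1183, 24), (1211, 20), (1507, 25), (1707, 6), (1431, 5), (1648, 20), (1163, 24), (1164, 27), (1165, 16), (1199, 24), (1213, 27), (1325, 19), (1762, 3), (536, 1), (563, 5), (579, 22), (585, 8), (697, 19), (722, 8), (731, 17), (840, 25), (45, 18), (73, 17), (123, 20), (252, 10), (311, 2), (329, 6), (360, 18), (376, 5), (389, 12), (441, 9), (507, 1), (511, 5), (652, 6), (1225, 27), (1537, 3), (1744, 12), (1559, 2), (1762, 18), (163, 22), (173, 8), (183, 20), (185, 20), (212, 9), (231, 21), (243, 7), (260, 8), (261, 3), (340, 6), (359, 19), (383, 21), (389, 17), (431, 21), (431, 3), (453, 21), (457, 5), (479, 22), (623, 25), (1017, 25), (1201, 2), (1351, 21), (1511, 10), (1523, 9), (30, 1), (688, 9), (828, 26), (1037, 4), (1274, 20), (1312, 17), (1349, 27), (1633, 7), (1524, 6), (1632, 7), (686, 20), (1096, 20), (1223, 27), (1419, 3), (1469, 26), (1513, 9), (692, 24), (1000, 11), (1068, 22), (1111, 2), (1200, 5), (1244, 2), (1560, 9), (1734, 8), (712, 4), (1284, 6), (607, 3), (658, 23), (1122, 13), (1710, 13), (382, 11), (620, 23), (679, 16), (1133, 3), (1183, 8), (1299, 24), (1412, 21), (1448, 23), (1470, 10), (1531, 20), (1533, 20), (1696, 25), (1729, 24), (1713, 6), (218, 5), (374, 20), (430, 9), (506, 6), (752, 4), (767, 6), (781, 11), (1073, 21), (1125, 7), (1165, 6), (1457, 28), (1503, 21), (1535, 25), (1264, 26), (1494, 17), (1768, 21), (1121, 4), (1185, 26), (1306, 1), (1036, 9), (1044, 24), (1045, 25), (1392, 19), (10, 10), (11, 4), (43, 2), (48, 9), (55, 5), (72, 10), (84, 5), (138, 6), (181, 1), (188, 6), (197, 7), (200, 20), (237, 8), (272, 19), (291, 18), (296, 4), (304, 18), (304, 4), (331, 20), (411, 23), (517, 11), (656, 19), (1035, 7), (1097, 5), (1255, 28), (1457, 24), (1669, 29), (1684, 11), (1748, 18), (66, 19), (418, 21), (422, 2), (552, 7), (606, 7), (637, 5), (998, 26), (1065, 28), (1082, 22), (1129, 21), (1160, 25), (1212, 3), (1223, 5), (1352, 21), (1360, 13), (1419, 11), (1453, 20), (1551, 29), (1587, 20), (1659, 10), (1661, 11), (1747, 10), (560, 23), (623, 4), (1042, 5), (1163, 26), (1164, 5), (1220, 28), (1649, 20), (58, 7), (98, 19), (334, 6), (370, 8), (386, 2), (406, 18), (526, 19), (613, 20), (681, 11), (693, 17), (748, 25), (809, 10), (978, 9), (1071, 20), (1121, 24), (1219, 20), (1325, 9), (1625, 20), (1733, 3), (31, 3), (39, 15), (43, 16), (45, 13), (51, 8), (73, 23), (99, 21), (99, 20), (133, 6), (138, 9), (171, 6), (183, 21), (193, 3), (208, 4), (235, 25), (237, 16), (239, 22), (280, 4), (292, 10), (321, 2), (327, 22), (347, 6), (357, 23), (364, 5), (365, 4), (367, 16), (392, 7), (401, 4), (421, 25), (422, 11), (455, 16), (501, 9), (523, 12), (653, 5), (680, 10), (830, 2), (884, 3), (976, 11), (1035, 6), (1036, 6), (1045, 12), (1055, 21), (1058, 7), (1080, 20), (1105, 20), (1128, 9), (1199, 23), (1200, 28), (1261, 11), (1266, 7), (1343, 6), (1345, 10), (1392, 4), (1404, 7), (1443, 5), (1506, 29), (1609, 6), (1692, 10), (1727, 10), (1755, 6), (1763, 20), (550, 9), (595, 7), (643, 3), (697, 7), (1465, 24), (1559, 1), (1755, 5), (653, 18), (657, 23), (683, 4), (715, 16), (1077, 19), (1513, 5), (1633, 21), (1683, 8), (648, 24), (1391, 27), (1131, 27), (1583, 23), (1757, 26), (138, 0), (150, 7), (154, 10), (170, 21), (178, 21), (661, 20), (1101, 9), (1296, 27), (1348, 3), (1391, 5), (1404, 12), (1406, 26), (1523, 7), (1657, 5), (1742, 26), (77, 1), (81, 2), (124, 20), (141, 20), (141, 18), (196, 6), (209, 5), (211, 7), (224, 12), (261, 20), (271, 5), (303, 20), (308, 4), (335, 24), (343, 23), (380, 3), (390, 24), (393, 2), (417, 25), (420, 4), (421, 20), (432, 19), (435, 19), (447, 4), (456, 16), (460, 6), (468, 12), (511, 22), (513, 8), (528, 2), (532, 22), (532, 15), (1088, 28), (1121, 5), (1149, 11), (1187, 13), (8, 5), (71, 6), (100, 20), (183, 24), (198, 22), (268, 23), (276, 21), (297, 16), (331, 2), (339, 2), (359, 18), (360, 7), (375, 18), (403, 20), (411, 21), (414, 15), (455, 9), (459, 16), (462, 24), (499, 8), (514, 22), (622, 2), (651, 4), (1005, 19), (1063, 9), (1072, 21), (1083, 2), (1261, 26), (1392, 27), (1491, 19), (1557, 26), (50, 5), (442, 16), (482, 2), (654, 22), (758, 22), (972, 21), (983, 10), (987, 9), (1017, 27), (1045, 27), (1112, 24), (1123, 8), (1186, 21), (1200, 27), (1263, 4), (1340, 2), (1359, 1), (1467, 16), (1499, 8), (1524, 9), (1527, 29), (1716, 13), (1717, 25), (555, 3), (557, 5), (645, 4), (693, 8), (696, 7), (1019, 11), (1020, 26), (1075, 26), (1111, 22), (1212, 27), (1219, 8), (1324, 28), (1352, 11), (1419, 4), (1667, 23), (1729, 28), (33, 11), (40, 7), (147, 1), (196, 10), (235, 17), (236, 2), (263, 24), (275, 18), (276, 5), (280, 18), (281, 24), (444, 23), (567, 17), (1036, 22), (1124, 5), (1589, 5), (544, 0), (549, 2), (563, 25), (585, 24), (722, 21), (729, 2), (757, 23), (984, 19), (1000, 21), (1012, 8), (1181, 22), (1400, 26), (1529, 6), (1551, 19), (1715, 11), (1724, 3), (158, 8), (226, 2), (362, 2), (378, 5), (567, 10), (572, 17), (579, 7), (586, 4), (675, 1), (732, 11), (761, 5), (780, 9), (971, 8), (1080, 6), (1160, 5), (1244, 4), (1256, 26), (1301, 20), (1310, 11), (1324, 12), (1345, 11), (1369, 12), (1464, 27), (1496, 4), (1560, 5), (1561, 26), (1649, 11), (1670, 19), (1715, 23), (1765, 10), (286, 16), (310, 16), (430, 24), (502, 19), (620, 20), (622, 18), (642, 18), (728, 15), (732, 24), (734, 17), (748, 19), (750, 5), (786, 20), (838, 20), (1006, 3), (1024, 25), (1034, 18), (1050, 24), (1072, 20), (1097, 4), (1104, 11), (1160, 2), (1266, 25), (1274, 6), (1344, 7), (1378, 26), (1402, 24), (1457, 6), (1506, 19), (1526, 23), (1540, 28), (1549, 11), (1587, 21), (1656, 4), (1716, 25), (1731, 21), (1746, 7), (1746, 4), (36, 13), (52, 17), (56, 4), (156, 20), (231, 10), (312, 10), (314, 17), (327, 2), (388, 23), (391, 25), (395, 24), (431, 15), (475, 15), (489, 19), (828, 11), (828, 27), (832, 7), (837, 19), (1041, 7), (1149, 4), (1412, 2), (1416, 29), (1553, 27), (1554, 27), (1576, 22), (1761, 4), (123, 8), (124, 16), (127, 0), (152, 18), (153, 5), (153, 3), (161, 3), (179, 16), (227, 1), (233, 16), (253, 22), (260, 14), (325, 19), (329, 25), (391, 10), (408, 6), (411, 18), (414, 20), (419, 21), (445, 2), (457, 16), (504, 7), (504, 5), (509, 18), (521, 17), (680, 1), (681, 6), (688, 0), (731, 6), (785, 2), (837, 6), (1064, 3), (1070, 8), (1295, 29), (1296, 20), (1341, 19), (1459, 23), (1491, 27), (1513, 12), (1693, 23), (1762, 1), (134, 12), (566, 25), (582, 20), (584, 11), (589, 24), (597, 21), (603, 7), (609, 7), (625, 11), (654, 21), (686, 8), (974, 22), (987, 22), (987, 12), (1011, 1), (1015, 3), (1055, 10), (1295, 4), (1327, 4), (1358, 6), (1401, 28), (1461, 11), (1649, 22), (1650, 22), (1650, 11), (1689, 20), (1753, 11), (39, 19), (82, 1), (89, 20), (156, 24), (167, 16), (183, 19), (184, 19), (184, 20), (189, 9), (195, 7), (225, 3), (244, 6), (247, 15), (297, 11), (299, 23), (309, 19), (312, 20), (323, 7), (343, 9), (383, 19), (387, 22), (399, 1), (414, 3), (461, 5), (467, 9), (480, 18), (517, 8), (535, 7), (556, 24), (560, 18), (604, 0), (537, 16), (697, 3), (733, 20), (832, 10), (1177, 9), (1412, 4), (1465, 7), (1552, 8), (1739, 23), (1748, 21), (1749, 21), (536, 13), (537, 12), (556, 5), (564, 4), (625, 22), (719, 24), (731, 23), (984, 11), (1019, 22), (1461, 26), (1469, 19), (1659, 26), (1047, 24), (1389, 27), (1659, 20), (1661, 26), (556, 10), (563, 10), (594, 4), (691, 22), (983, 21), (999, 10), (1243, 2), (1387, 7), (1528, 5), (1715, 18), (1731, 9), (567, 8), (603, 24), (1111, 3), (1127, 11), (1129, 27), (1211, 2), (1213, 5), (1731, 10), (190, 24), (194, 23), (210, 22), (226, 25), (350, 17), (386, 20), (418, 23), (422, 24), (543, 9), (545, 14), (567, 21), (747, 4), (805, 3), (813, 7), (838, 27), (838, 9), (885, 3), (887, 10), (943, 20), (946, 18), (951, 21), (1089, 12), (1114, 7), (1179, 24), (1245, 2), (1295, 26), (1297, 26), (1298, 20), (1341, 4), (1463, 2), (1567, 23), (1587, 10), (1655, 1), (1658, 25), (1682, 24), (1717, 19), (549, 9), (627, 23), (697, 23), (1560, 4), (1669, 22), (38, 14), (54, 17), (70, 17), (250, 19), (306, 18), (390, 6), (406, 4), (538, 2), (558, 23), (599, 16), (678, 14), (732, 10), (784, 9), (796, 8), (837, 0), (944, 24), (971, 26), (973, 17), (1020, 23), (1053, 25), (1055, 2), (1074, 3), (1075, 28), (1084, 26), (1096, 10), (1124, 23), (1127, 19), (1178, 23), (1210, 20), (1211, 11), (1329, 22), (1340, 20), (1372, 4), (1391, 3), (1404, 21), (1517, 29), (1530, 25), (1570, 25), (1680, 20), (38, 15), (42, 3), (46, 3), (58, 19), (78, 3), (426, 17), (572, 25), (576, 10), (650, 24), (652, 25), (654, 4), (687, 9), (696, 18), (698, 22), (886, 26), (998, 25), (1000, 26), (1001, 24), (1042, 24), (1074, 9), (1118, 18), (1123, 24), (1180, 24), (1185, 22), (1230, 29), (1244, 10), (1252, 2), (1253, 3), (1255, 17), (1258, 9), (1309, 2), (1325, 1), (1330, 27), (1343, 24), (1351, 3), (1391, 6), (1406, 22), (1410, 13), (1497, 9), (1539, 3), (1585, 5), (1647, 9), (1660, 4), (1715, 1), (1725, 20), (1761, 24), (114, 9), (190, 2), (294, 22), (306, 7), (406, 7), (466, 10), (506, 10), (544, 1), (546, 17), (550, 19), (607, 1), (640, 1), (641, 4), (691, 9), (693, 3), (734, 5), (751, 25), (759, 11), (773, 23), (777, 23), (778, 24), (792, 19), (794, 8), (800, 27), (804, 26), (812, 25), (834, 8), (861, 27), (864, 7), (871, 19), (883, 26), (999, 8), (1013, 1), (1014, 7), (1022, 27), (1056, 8), (1082, 23), (1085, 29), (1122, 26), (1123, 19), (1126, 19), (1164, 7), (1179, 6), (1226, 1), (1244, 20), (1264, 6), (1266, 24), (1314, 2), (1340, 29), (1353, 5), (1384, 7), (1394, 9), (1414, 19), (1451, 8), (1492, 4), (1494, 22), (1497, 27), (1502, 12), (1507, 22), (1535, 8), (1552, 2), (1561, 21), (1688, 19), (1697, 7), (1698, 6), (1717, 24), (1719, 26), (1756, 3), (1768, 3), (10, 1), (64, 22), (113, 6), (116, 2), (116, 8), (136, 7), (168, 16), (179, 3), (186, 5), (187, 21), (190, 5), (193, 8), (208, 5), (220, 3), (224, 25), (230, 10), (231, 7), (239, 2), (249, 12), (252, 3), (258, 8), (259, 7), (264, 3), (277, 24), (281, 5), (287, 19), (287, 17), (293, 1), (296, 11), (296, 7), (300, 7), (301, 8), (312, 23), (316, 15), (317, 4), (335, 17), (336, 0), (344, 17), (344, 3), (363, 18), (372, 1), (372, 9), (395, 20), (406, 6), (412, 5), (444, 21), (458, 10), (463, 16), (470, 9), (476, 5), (479, 23), (490, 8), (500, 8), (504, 8), (556, 18), (559, 5), (572, 18), (588, 4), (679, 24), (780, 10), (784, 27), (795, 1), (803, 2), (837, 22), (878, 10), (963, 11), (1014, 23), (1018, 8), (1033, 20), (1042, 12), (1051, 10), (1055, 29), (1072, 18), (1073, 19), (1079, 5), (1080, 4), (1082, 11), (1105, 12), (1119, 20), (1179, 19), (1193, 22), (1225, 4), (1254, 29), (1264, 24), (1266, 22), (1274, 28), (1296, 9), (1298, 10), (1321, 10), (1322, 23), (1339, 27), (1346, 7), (1376, 5), (1393, 28), (1406, 13), (1417, 8), (1431, 6), (1448, 24), (1458, 8), (1463, 4), (1466, 7), (1499, 21), (1506, 3), (1537, 4), (1575, 9), (1583, 25), (1591, 6), (1591, 10), (1594, 10), (1633, 18), (1647, 22), (1657, 25), (1659, 25), (1668, 21), (1680, 21), (1689, 6), (1695, 21), (1704, 26), (1707, 20), (1708, 23), (1724, 7), (1735, 10), (1746, 14), (1770, 26), (1770, 28), (104, 0), (128, 7), (185, 5), (189, 5), (207, 4), (218, 21), (259, 25), (361, 2), (362, 8), (418, 3), (420, 2), (432, 8), (441, 25), (487, 19), (501, 17), (504, 19), (505, 5), (510, 5), (514, 24), (516, 1), (516, 23), (521, 3), (521, 10), (544, 10), (621, 1), (718, 20), (720, 23), (798, 27), (806, 1), (894, 25), (921, 9), (946, 8), (1041, 23), (1069, 25), (1075, 2), (1076, 20), (1078, 20), (1161, 23), (1227, 20), (1257, 20), (1305, 9), (1392, 3), (1393, 25), (1482, 10), (1507, 26), (1631, 27), (1653, 3), (1680, 9), (1691, 25), (1696, 19), (1715, 20), (1719, 24), (54, 7), (146, 15), (154, 15), (330, 7), (442, 8), (571, 4), (572, 10), (573, 2), (576, 19), (584, 16), (601, 24), (629, 25), (658, 7), (692, 17), (754, 6), (782, 19), (803, 10), (860, 27), (922, 9), (980, 25), (1031, 18), (1069, 22), (1085, 16), (1117, 27), (1125, 10), (1134, 24), (1157, 28), (1200, 7), (1214, 4), (1234, 1), (1297, 6), (1324, 23), (1357, 18), (1357, 14), (1360, 26), (1383, 27), (1394, 17), (1412, 3), (1510, 6), (1513, 25), (1559, 12), (1577, 28), (1600, 24), (1662, 6), (1677, 2), (1709, 28), (1767, 28), (616, 23), (779, 6), (1088, 19), (1431, 26), (1454, 26), (1577, 22), (1607, 28), (1719, 7), (257, 20), (312, 7), (389, 19), (392, 15), (409, 12), (423, 18), (720, 22), (1075, 11), (1076, 27), (1509, 19), (1557, 28), (1680, 26), (112, 18), (122, 5), (144, 20), (185, 3), (205, 21), (213, 6), (261, 12), (321, 11), (389, 14), (395, 2), (451, 21), (565, 11), (574, 5), (621, 17), (622, 1), (654, 5), (666, 6), (693, 18), (719, 3), (722, 3), (749, 2), (753, 20), (784, 24), (831, 17), (841, 4), (883, 3), (921, 16), (921, 20), (932, 19), (965, 27), (978, 12), (1080, 23), (1129, 10), (1171, 2), (1232, 3), (1265, 24), (1360, 2), (1394, 28), (1498, 22), (1499, 10), (1531, 23), (1556, 27), (1558, 2), (1577, 27), (1623, 13), (1625, 28), (1634, 13), (1671, 19), (194, 2), (262, 22), (498, 19), (530, 3), (550, 23), (572, 16), (583, 2), (585, 9), (612, 21), (617, 24), (623, 17), (646, 23), (662, 1), (688, 8), (690, 10), (720, 3), (727, 24), (763, 26), (767, 22), (833, 7), (999, 20), (1014, 8), (1023, 24), (1068, 7), (1088, 29), (1129, 2), (1135, 24), (1213, 20), (1273, 9), (1314, 19), (1324, 1), (1325, 10), (1351, 11), (1399, 7), (1414, 6), (1431, 8), (1450, 25), (1560, 18), (1657, 6), (1660, 27), (1738, 20), (1753, 26), (751, 2), (753, 23), (1133, 13), (1524, 24), (46, 12), (50, 21), (74, 17), (110, 21), (114, 13), (118, 13), (146, 16), (294, 17), (298, 2), (454, 17), (478, 3), (518, 4), (541, 14), (541, 7), (563, 2), (581, 18), (586, 22), (654, 1), (666, 11), (37, 6), (45, 2), (57, 2), (108, 8), (109, 6), (120, 6), (123, 15), (131, 17), (136, 22), (143, 10), (145, 4), (145, 18), (148, 1), (187, 1), (189, 3), (195, 2), (199, 21), (203, 3), (220, 15), (271, 9), (273, 5), (287, 9), (288, 21), (288, 5), (290, 20), (291, 9), (297, 7), (361, 20), (362, 16), (385, 3), (389, 22), (397, 4), (413, 17), (415, 17), (431, 22), (432, 24), (434, 19), (435, 23), (440, 5), (451, 6), (455, 19), (458, 23), (465, 5), (478, 22), (479, 10), (480, 23), (481, 5), (487, 2), (488, 11), (489, 6), (496, 23), (505, 18), (506, 18), (508, 17), (513, 10), (515, 17), (515, 22), (515, 23), (519, 25), (520, 23), (523, 17), (525, 15), (528, 24), (577, 17), (682, 17), (692, 2), (751, 23), (752, 23), (754, 23), (827, 1), (833, 19), (836, 27), (838, 10), (844, 23), (844, 5), (844, 8), (845, 6), (845, 21), (859, 4), (871, 10), (913, 5), (915, 22), (921, 25), (927, 18), (951, 19), (952, 13), (975, 9), (983, 6), (1040, 11), (1041, 13), (1045, 4), (1050, 0), (1065, 24), (1095, 27), (1096, 7), (1096, 26), (1097, 26), (1108, 26), (1168, 19), (1174, 11), (1187, 0), (1200, 8), (1217, 7), (1263, 8), (1300, 25), (1309, 29), (1325, 27), (1337, 29), (1342, 21), (1349, 22), (1355, 11), (1357, 11), (1358, 25), (1368, 23), (1368, 12), (1371, 26), (1378, 22), (1399, 20), (1399, 3), (1419, 19), (1473, 22), (1476, 25), (1477, 27), (1477, 5), (1478, 4), (1488, 4), (1502, 22), (1509, 21), (1512, 4), (1517, 26), (1525, 9), (1536, 25), (1555, 4), (1559, 22), (1562, 10), (1564, 9), (1572, 28), (1573, 25), (1574, 25), (1581, 9), (1629, 29), (1655, 29), (1657, 10), (1664, 5), (1665, 8), (1673, 2), (1684, 10), (1695, 29), (1721, 7), (1733, 2), (1736, 2), (1741, 29), (1742, 28), (74, 5), (98, 6), (114, 7), (158, 3), (206, 24), (386, 22), (486, 18), (502, 16), (506, 20), (547, 17), (548, 14), (550, 18), (558, 24), (564, 2), (566, 6), (574, 4), (618, 11), (619, 6), (620, 2), (646, 10), (665, 6), (668, 5), (669, 6), (671, 20), (684, 22), (686, 6), (719, 16), (721, 10), (722, 7), (727, 3), (729, 1), (755, 6), (757, 6), (761, 2), (768, 6), (787, 22), (788, 2), (789, 27), (790, 9), (801, 12), (818, 19), (818, 18), (819, 24), (820, 18), (820, 4), (822, 11), (829, 27), (837, 7), (839, 11), (842, 24), (846, 20), (849, 1), (851, 27), (851, 2), (857, 23), (858, 22), (869, 8), (879, 27), (880, 17), (886, 9), (901, 11), (906, 12), (912, 6), (941, 27), (946, 7), (979, 13), (982, 24), (999, 6), (1005, 27), (1018, 7), (1021, 5), (1023, 28), (1034, 4), (1037, 25), (1037, 10), (1038, 25), (1040, 22), (1046, 25), (1048, 3), (1048, 2), (1052, 6), (1053, 3), (1054, 8), (1063, 11), (1064, 2), (1065, 8), (1065, 2), (1066, 21), (1073, 6), (1078, 19), (1086, 11), (1105, 18), (1130, 22), (1135, 25), (1149, 5), (1151, 24), (1154, 8), (1159, 26), (1163, 6), (1164, 0), (50, 8), (110, 4), (122, 17), (142, 17), (214, 5), (226, 24), (230, 22), (266, 7), (314, 22), (434, 23), (462, 22), (538, 11), (539, 13), (540, 5), (550, 2), (552, 21), (555, 7), (556, 7), (558, 7), (561, 10), (564, 17), (565, 17), (567, 9), (570, 11), (570, 24), (582, 2), (583, 8), (594, 15), (599, 1), (600, 4), (601, 5), (604, 23), (608, 18), (610, 22), (612, 7), (616, 6), (619, 25), (621, 11), (639, 24), (639, 3), (642, 2), (643, 4), (646, 2), (650, 8), (658, 19), (658, 21), (661, 10), (662, 10), (663, 21), (663, 18), (664, 18), (674, 21), (675, 7), (675, 4), (676, 19), (677, 16), (678, 18), (682, 18), (684, 19), (684, 21), (686, 4), (690, 18), (692, 20), (693, 9), (696, 25), (698, 9), (708, 2), (711, 25), (711, 5), (714, 10), (720, 17), (722, 16), (729, 23), (733, 23), (746, 6), (748, 9), (756, 5), (759, 21), (760, 18), (767, 25), (772, 22), (774, 5), (777, 8), (782, 1), (783, 5), (785, 9), (787, 3), (788, 21), (789, 22), (793, 26), (797, 25), (797, 6), (799, 27), (806, 19), (807, 10), (815, 24), (816, 22), (819, 16), (819, 10), (820, 5), (823, 20), (825, 11), (826, 15), (829, 8), (832, 8), (834, 19), (834, 6), (835, 9), (839, 4), (840, 4), (841, 8), (843, 7), (845, 5), (848, 19), (850, 22), (852, 6), (867, 20), (867, 27), (869, 20), (871, 6), (895, 18), (898, 17), (903, 17), (910, 9), (911, 25), (911, 6), (913, 6), (914, 6), (915, 4), (917, 3), (922, 20), (927, 11), (927, 6), (928, 7), (929, 3), (930, 6), (931, 5), (941, 10), (955, 21), (956, 21), (959, 22), (968, 18), (985, 5), (986, 24), (987, 19), (988, 25), (989, 17), (990, 21), (995, 27), (997, 24), (1000, 18), (1001, 29), (1001, 11), (1001, 5), (1009, 12), (1010, 22), (1010, 10), (1013, 7), (1014, 6), (1015, 20), (1019, 23), (1019, 18), (1022, 20), (1031, 7), (1036, 4), (1037, 0), (1048, 26), (1048, 8), (1049, 8), (1050, 20), (1055, 26), (1055, 3), (1056, 3), (1058, 21), (1066, 10), (1067, 3), (1069, 12), (1087, 23), (1089, 22), (1090, 20), (1096, 27), (1099, 8), (1100, 21), (1101, 23), (1102, 22), (1105, 25), (1105, 5), (1106, 24), (1111, 25), (1113, 22), (1120, 11), (1125, 11), (1125, 5), (1126, 24), (1127, 2), (1129, 11), (1130, 7), (1131, 11), (1143, 0), (1145, 9), (1158, 18), (1165, 5), (1171, 3), (1175, 11), (1175, 22), (1176, 25), (1177, 19), (1178, 22), (1178, 25), (1180, 10), (1180, 19), (1180, 6), (1182, 22), (1183, 6), (1186, 18), (1200, 23), (1204, 10), (1208, 8), (1211, 21), (1218, 4), (1227, 5), (1232, 28), (1233, 4), (1236, 2), (1243, 1), (1246, 17), (1246, 21), (1248, 5), (1250, 13), (1254, 24), (1256, 21), (1257, 18), (1258, 22), (1262, 25), (1265, 28), (1267, 22), (1267, 10), (1268, 27), (1275, 21), (1286, 24), (1291, 27), (1298, 22), (1301, 19), (1306, 5), (1306, 8), (1307, 24), (1310, 12), (1317, 29), (1326, 12), (1328, 27), (1333, 5), (1341, 18), (1345, 22), (1345, 13), (1355, 6), (1356, 26), (1357, 20), (1360, 24), (1369, 8), (1370, 12), (1373, 27), (1373, 5), (1374, 27), (1374, 5), (1376, 9), (1382, 6), (1383, 25), (1383, 11), (1390, 16), (1391, 7), (1393, 3), (1394, 23), (1407, 25), (1408, 20), (1411, 27), (1411, 21), (1414, 22), (1417, 7), (1419, 7), (1426, 28), (1430, 26), (1432, 10), (1434, 6), (1439, 23), (1439, 21), (1440, 24), (1442, 23), (1443, 1), (1446, 29), (1447, 5), (1449, 27), (1449, 12), (1451, 5), (1451, 11), (1459, 20), (1461, 22), (1467, 4), (1468, 19), (1468, 20), (1470, 24), (1472, 8), (1475, 26), (1476, 27), (1478, 26), (1489, 6), (1492, 1), (1494, 1), (1495, 27), (1496, 20), (1499, 4), (1501, 10), (1504, 26), (1514, 1), (1516, 5), (1519, 25), (1522, 27), (1527, 9), (1530, 24), (1538, 24), (1541, 26), (1543, 28), (1548, 7), (1552, 7), (1553, 9), (1554, 23), (1555, 21), (1560, 28), (1562, 21), (1567, 7), (1569, 6), (1571, 23), (1572, 5), (1587, 11), (1588, 2), (1598, 17), (1598, 25), (1599, 8), (1603, 6), (1606, 7), (1607, 7), (1611, 22), (1611, 2), (1621, 11), (1622, 11), (1629, 4), (1634, 23), (1637, 23), (1642, 21), (1644, 21), (1645, 5), (1650, 9), (1657, 20), (1658, 21), (1658, 5), (1662, 19), (1663, 26), (1664, 23), (1667, 26), (1667, 7), (1668, 9), (1675, 22), (1683, 23), (1686, 21), (1688, 4), (1689, 21), (1689, 9), (1691, 23), (1693, 21), (1699, 8), (1702, 22), (1711, 28), (1717, 5), (1722, 22), (1722, 4), (1725, 19), (1727, 23), (1730, 25), (1734, 9), (1735, 25), (1743, 21), (1748, 23), (1751, 12), (1757, 4), (1762, 24), (1768, 28), (1769, 3), (58, 14), (98, 7), (126, 18), (134, 15), (146, 5), (150, 19), (194, 3), (278, 8), (286, 20), (310, 6), (318, 6), (378, 21), (418, 17), (446, 19), (482, 22), (522, 8), (539, 5), (540, 7), (541, 4), (554, 21), (558, 8), (567, 6), (571, 22), (575, 22), (575, 21), (577, 20), (584, 3), (584, 5), (598, 10), (600, 10), (601, 4), (605, 23), (607, 19), (614, 22), (614, 8), (615, 4), (615, 5), (617, 6), (618, 22), (620, 18), (623, 19), (625, 24), (627, 10), (629, 5), (645, 9), (646, 3), (652, 19), (658, 18), (659, 22), (671, 2), (672, 4), (672, 5), (673, 8), (685, 17), (687, 21), (689, 8), (694, 2), (698, 18), (718, 6), (720, 21), (724, 24), (726, 18), (739, 2), (740, 23), (740, 24), (742, 20), (742, 14), (742, 19), (743, 20), (743, 6), (745, 2), (750, 21), (753, 10), (754, 21), (756, 21), (756, 20), (760, 9), (761, 7), (768, 26), (770, 4), (771, 22), (772, 25), (772, 6), (774, 22), (775, 21), (775, 9), (775, 20), (776, 20), (777, 7), (788, 19), (788, 20), (790, 7), (792, 2), (799, 26), (799, 7), (800, 5), (801, 26), (801, 1), (817, 27), (817, 19), (817, 10), (818, 4), (822, 2), (823, 10), (824, 20), (834, 3), (842, 4), (843, 10), (845, 8), (849, 18), (854, 7), (857, 22), (857, 6), (858, 17), (858, 7), (859, 18), (860, 24), (862, 23), (863, 24), (867, 4), (868, 16), (879, 26), (881, 3), (882, 20), (898, 18), (900, 18), (900, 3), (903, 15), (903, 9), (907, 10), (913, 7), (913, 22), (915, 23), (916, 10), (918, 26), (920, 10), (921, 17), (923, 3), (924, 20), (926, 8), (932, 21), (932, 22), (934, 1), (938, 8), (939, 13), (939, 11), (940, 11), (940, 3), (942, 10), (946, 23), (948, 16), (952, 26), (954, 22), (954, 8), (955, 20), (956, 4), (958, 21), (962, 4), (966, 6), (968, 6), (969, 9), (970, 19), (980, 4), (982, 7), (983, 19), (986, 6), (987, 7), (989, 25), (990, 5), (992, 26), (992, 7), (993, 24), (994, 6), (996, 24), (1001, 28), (1009, 15), (1014, 12), (1016, 24), (1017, 28), (1018, 23), (1018, 19), (1021, 25), (1022, 25), (1023, 6), (1023, 19), (1029, 24), (1037, 18), (1039, 22), (1043, 5), (1064, 9), (1065, 7), (1067, 12), (1069, 28), (1069, 9), (1073, 9), (1077, 12), (1080, 25), (1087, 24), (1092, 25), (1093, 19), (1097, 17), (1099, 7), (1099, 12), (1102, 17), (1104, 5), (1107, 24), (1108, 7), (1110, 5), (1120, 15), (1123, 26), (1125, 28), (1127, 28), (1129, 28), (1131, 22), (1134, 7), (1135, 28), (1136, 21), (1139, 29), (1139, 24), (1140, 26), (1140, 13), (1141, 7), (1141, 2), (1142, 9), (1151, 6), (1152, 8), (1155, 19), (1156, 20), (1157, 29), (1159, 19), (1159, 21), (1160, 8), (1160, 26), (1162, 22), (1163, 2), (1170, 25), (1171, 11), (1172, 23), (1172, 11), (1176, 14), (1177, 26), (1180, 26), (1182, 19), (1186, 7), (1196, 4), (1203, 21), (1205, 19), (1206, 21), (1211, 3), (1213, 9), (1214, 27), (1215, 19), (1215, 27), (1217, 26), (1227, 8), (1233, 10), (1238, 2), (1239, 29), (1241, 27), (1246, 22), (1248, 23), (1248, 4), (1249, 5), (1253, 22), (1253, 12), (1258, 19), (1263, 29), (1265, 2), (1269, 22), (1269, 11), (1273, 2), (1274, 23), (1281, 8), (1282, 29), (1294, 4), (1295, 11), (1296, 12), (1300, 5), (1302, 25), (1312, 22), (1313, 11), (1316, 4), (1322, 7), (1323, 4), (1326, 26), (1334, 23), (1336, 25), (1337, 9), (1337, 2), (1338, 25), (1341, 9), (1344, 17), (1345, 24), (1353, 9), (1354, 19), (1355, 10), (1356, 18), (1363, 8), (1365, 22), (1372, 12), (1373, 17), (1373, 26), (1373, 13), (1374, 6), (1376, 22), (1380, 11), (1381, 20), (1382, 26), (1382, 25), (1382, 8), (1395, 27), (1402, 22), (1408, 11), (1409, 20), (1417, 25), (1419, 6), (1424, 6), (1425, 6), (1432, 6), (1433, 4), (1436, 20), (1445, 23), (1451, 7), (1453, 8), (1454, 4), (1460, 25), (1462, 29), (1471, 13), (1471, 19), (1473, 12), (1476, 11), (1478, 8), (1481, 20), (1481, 11), (1489, 20), (1496, 29), (1499, 16), (1501, 6), (1502, 4), (1503, 12), (1507, 3), (1509, 12), (1510, 26), (1513, 10), (1515, 26), (1515, 24), (1517, 25), (1517, 27), (1521, 18), (1522, 26), (1523, 25), (1523, 11), (1529, 22), (1532, 22), (1537, 18), (1539, 24), (1539, 11), (1541, 5), (1543, 6), (1551, 9), (1551, 7), (1552, 11), (1554, 26), (1555, 1), (1560, 14), (1563, 26), (1563, 8), (1569, 28), (1569, 11), (1572, 4), (1575, 23), (1575, 4), (1593, 29), (1596, 25), (1598, 23), (1599, 3), (1600, 3), (1600, 20), (1602, 5), (1605, 5), (1606, 5), (1607, 26), (1620, 9), (1627, 4), (1629, 27), (1630, 5), (1633, 11), (1634, 24), (1637, 12), (1637, 9), (1644, 26), (1644, 3), (1647, 17), (1651, 24), (1651, 5), (1653, 24), (1654, 17), (1655, 21), (1656, 5), (1659, 9), (1662, 27), (1678, 28), (1684, 18), (1687, 21), (1688, 26), (1688, 10), (1695, 1), (1699, 1), (1700, 1), (1700, 22), (1700, 21), (1702, 27), (1702, 7), (1707, 3), (1710, 24), (1712, 21), (1713, 14), (1714, 20), (1714, 12), (1718, 24), (1725, 6), (1732, 27), (1733, 20), (1749, 24), (1753, 24), (1754, 28), (1758, 4), (1760, 19), (62, 9), (154, 3), (335, 21), (338, 4), (342, 22), (358, 4), (535, 4), (538, 15), (571, 24), (598, 22), (603, 20), (606, 21), (608, 5), (611, 18), (616, 9), (630, 5), (640, 2), (652, 24), (656, 6), (658, 4), (673, 1), (682, 7), (684, 17), (685, 22), (686, 7), (694, 20), (703, 4), (704, 21), (706, 14), (711, 19), (712, 10), (721, 24), (727, 22), (729, 16), (731, 16), (740, 1), (538, 4), (563, 4), (584, 23), (596, 20), (606, 12), (620, 4), (639, 1), (643, 22), (659, 23), (681, 15), (691, 23), (697, 5), (715, 1), (717, 6), (731, 18), (731, 20), (779, 9), (781, 9), (790, 15), (828, 10), (839, 5), (839, 3), (847, 4), (849, 8), (854, 27), (883, 27), (899, 26), (901, 3), (902, 3), (932, 7), (933, 22), (934, 18), (935, 1), (936, 19), (937, 21), (939, 7), (944, 13), (954, 5), (956, 26), (985, 11), (999, 23), (1002, 6), (1012, 27), (1022, 14), (1028, 3), (1036, 8), (1039, 5), (1047, 3), (1048, 19), (1049, 25), (1055, 25), (1058, 11), (1063, 2), (1070, 22), (1075, 21), (1077, 28), (1083, 20), (1085, 18), (1087, 18), (1087, 13), (1090, 23), (1093, 11), (1098, 2), (1106, 20), (1114, 6), (1118, 19), (1121, 10), (1125, 8), (1126, 22), (1128, 26), (1131, 25), (1134, 11), (1137, 4), (1146, 24), (1174, 8), (1175, 19), (1188, 27), (1194, 24), (1208, 18), (1217, 4), (1222, 2), (1241, 29), (1253, 0), (1294, 11), (1295, 7), (1296, 2), (1303, 8), (1304, 24), (1341, 8), (1343, 0), (1346, 11), (1347, 1), (1353, 11), (1359, 4), (1380, 21), (1380, 20), (1381, 19), (1382, 10), (1386, 23), (1395, 26), (1397, 11), (1401, 6), (1402, 6), (1409, 3), (1410, 5), (1410, 14), (1418, 21), (1433, 25), (1445, 7), (1447, 20), (1447, 4), (1450, 3), (1452, 25), (1454, 2), (1456, 20), (1461, 12), (1478, 25), (1483, 26), (1486, 18), (1488, 6), (1489, 7), (1491, 18), (1508, 25), (1510, 2), (1513, 27), (1515, 6), (1519, 27), (1527, 3), (1534, 20), (1535, 23), (1546, 23), (1547, 5), (1550, 24), (1552, 22), (1553, 26), (1557, 20), (1558, 12), (1563, 27), (1566, 2), (73, 20), (107, 16), (118, 5), (119, 8), (140, 21), (147, 21), (149, 21), (168, 13), (169, 9), (186, 19), (199, 7), (209, 23), (217, 2), (217, 10), (254, 15), (287, 8), (296, 16), (297, 22), (301, 22), (302, 22), (335, 22), (339, 23), (391, 3), (393, 10), (441, 4), (446, 18), (460, 4), (463, 8), (466, 3), (473, 5), (477, 9), (479, 11), (496, 20), (505, 19), (505, 9), (517, 4), (519, 4), (523, 20), (545, 23), (546, 15), (613, 4), (616, 18), (617, 25), (659, 4), (660, 4), (664, 10), (677, 23), (682, 12), (691, 25), (693, 2), (707, 2), (708, 10), (710, 8), (743, 19), (745, 16), (747, 10), (755, 10), (757, 20), (760, 8), (761, 10), (763, 2), (765, 25), (765, 6), (765, 5), (767, 23), (769, 6), (769, 5), (771, 24), (773, 4), (774, 8), (777, 5), (784, 10), (792, 27), (800, 17), (804, 18), (805, 16), (807, 12), (814, 23), (821, 8), (821, 24), (823, 17), (831, 7), (834, 20), (834, 7), (843, 22), (844, 25), (844, 24), (846, 24), (847, 6), (849, 6), (850, 9), (855, 23), (856, 10), (860, 1), (881, 1), (885, 18), (886, 18), (899, 17), (901, 26), (903, 18), (906, 19), (911, 5), (911, 22), (912, 25), (912, 19), (912, 21), (913, 24), (914, 23), (918, 22), (919, 3), (923, 5), (923, 23), (925, 24), (927, 8), (929, 12), (931, 17), (935, 11), (943, 16), (948, 4), (948, 12), (957, 5), (957, 8), (961, 8), (962, 8), (966, 18), (969, 10), (982, 4), (985, 4), (988, 21), (989, 12), (991, 21), (992, 24), (992, 10), (994, 19), (998, 5), (1008, 23), (1008, 28), (1009, 21), (1013, 24), (1015, 8), (1017, 12), (1024, 8), (1026, 3), (1029, 8), (1030, 25), (1047, 23), (1047, 22), (1057, 22), (1057, 8), (1060, 20), (1063, 22), (1065, 20), (1067, 5), (1067, 7), (1068, 6), (1068, 19), (1075, 19), (1077, 27), (1078, 14), (1082, 7), (1088, 25), (1089, 19), (1092, 21), (1092, 20), (1093, 24), (1093, 25), (1094, 25), (1095, 23), (1095, 4), (1107, 4), (1109, 25), (1112, 23), (1131, 26), (1131, 21), (1135, 16), (1140, 25), (1144, 21), (1145, 22), (1145, 27), (1153, 18), (1155, 25), (1156, 27), (1156, 3), (1161, 22), (1165, 4), (1166, 27), (1169, 21), (1169, 6), (1169, 7), (1170, 10), (1175, 7), (1180, 8), (1181, 7), (1189, 27), (1189, 10), (1199, 7), (1202, 5), (1203, 9), (1206, 2), (1215, 8), (1216, 4), (1216, 6), (1217, 6), (1217, 3), (1218, 6), (1227, 17), (1228, 4), (1229, 11), (1233, 28), (1235, 20), (1240, 4), (1241, 3), (1242, 2), (1265, 0), (1268, 9), (1276, 12), (1278, 21), (1283, 12), (1284, 8), (1290, 27), (1299, 27), (1302, 18), (1303, 19), (1305, 26), (1314, 3), (1327, 7), (1335, 17), (1336, 3), (1336, 6), (1337, 25), (1337, 5), (1337, 12), (1347, 25), (1355, 7), (1358, 20), (1361, 5), (1363, 2), (1364, 0), (1365, 27), (1374, 12), (1377, 25), (1381, 25), (1392, 5), (1393, 26), (1394, 6), (1398, 7), (1401, 26), (1401, 24), (1407, 10), (1409, 23), (1418, 14), (1422, 6), (1431, 10), (1454, 20), (1457, 25), (1469, 7), (1477, 26), (1487, 24), (1491, 25), (1493, 22), (1499, 25), (1511, 9), (1514, 5), (1517, 5), (1518, 5), (1518, 9), (1522, 14), (1535, 4), (1542, 26), (1544, 0), (1550, 19), (1551, 12), (1557, 21), (1558, 6), (1558, 3), (1563, 9), (1571, 12), (1572, 6), (1573, 6), (1573, 9), (1579, 6), (1581, 7), (1582, 20), (1588, 11), (1600, 29), (1603, 26), (1604, 16), (1605, 26), (1605, 4), (1606, 27), (1617, 21), (1617, 2), (1619, 3), (1621, 27), (1621, 20), (1626, 14), (1627, 3), (1636, 26), (1639, 28), (1641, 27), (1643, 28), (1644, 25), (1645, 9), (1646, 27), (1646, 8), (1651, 4), (1653, 6), (1653, 7), (1654, 7), (1665, 24), (1677, 11), (1682, 9), (1690, 24), (1695, 16), (1697, 19), (1698, 22), (1701, 22), (1701, 25), (1712, 24), (1712, 1), (1713, 13), (1714, 7), (1722, 13), (1743, 20), (1770, 9), (39, 7), (50, 9), (54, 19), (65, 7), (69, 7), (82, 16), (97, 21), (98, 21), (119, 4), (148, 4), (150, 3), (158, 2), (170, 23), (186, 24), (193, 4), (196, 18), (197, 6), (199, 19), (203, 24), (219, 9), (234, 7), (251, 8), (253, 18), (253, 14), (259, 2), (260, 18), (263, 16), (279, 9), (281, 9), (294, 2), (305, 4), (337, 20), (355, 4), (390, 19), (432, 17), (453, 9), (455, 17), (550, 8), (551, 21), (551, 4), (554, 5), (555, 22), (557, 2), (559, 19), (569, 8), (603, 4), (606, 10), (609, 9), (625, 5), (626, 19), (627, 18), (627, 22), (633, 8), (637, 11), (638, 8), (640, 8), (655, 2), (660, 9), (663, 9), (668, 7), (671, 6), (671, 10), (672, 3), (673, 4), (675, 19), (678, 19), (695, 3), (703, 20), (704, 3), (711, 3), (711, 4), (714, 7), (724, 7), (724, 10), (725, 11), (725, 2), (726, 3), (729, 11), (756, 9), (757, 9), (757, 7), (761, 9), (763, 6), (764, 3), (764, 6), (764, 4), (765, 8), (765, 4), (766, 8), (766, 6), (767, 7), (768, 8), (769, 4), (770, 9), (771, 6), (771, 7), (772, 9), (772, 4), (773, 9), (774, 9), (774, 6), (775, 6), (775, 8), (775, 5), (776, 22), (776, 8), (776, 9), (777, 24), (778, 9), (778, 7), (788, 7), (790, 19), (806, 11), (807, 25), (811, 25), (823, 0), (826, 19), (826, 18), (828, 4), (839, 8), (840, 17), (842, 5), (847, 8), (849, 21), (855, 21), (860, 6), (869, 6), (875, 23), (897, 11), (905, 22), (909, 10), (917, 1), (921, 7), (926, 24), (935, 26), (963, 22), (972, 27), (993, 8), (994, 8), (994, 13), (1000, 4), (1001, 25), (1008, 21), (1016, 4), (1019, 5), (1021, 11), (1026, 10), (1029, 2), (1034, 28), (1035, 28), (1035, 4), (1037, 3), (1053, 6), (1053, 7), (1059, 23), (1063, 24), (1072, 27), (1079, 25), (1080, 21), (1084, 27), (1089, 9), (1090, 10), (1091, 12), (1102, 7), (1105, 10), (1107, 26), (1108, 21), (1108, 4), (1119, 6), (1120, 7), (1126, 20), (1135, 4), (1140, 2), (1141, 24), (1143, 27), (1144, 8), (1148, 6), (1163, 5), (1167, 8), (1174, 18), (1179, 28), (1181, 19), (1182, 8), (1202, 11), (1207, 13), (1215, 5), (1219, 23), (1229, 12), (1231, 8), (1234, 3), (1235, 11), (1236, 8), (1237, 7), (1247, 28), (1247, 9), (1250, 12), (1252, 29), (1267, 3), (1269, 3), (1270, 8), (1279, 9), (1283, 19), (1292, 19), (1299, 25), (1300, 2), (1306, 29), (1315, 2), (1319, 20), (1322, 21), (1328, 3), (1331, 26), (1331, 6), (1335, 26), (1335, 29), (1335, 6), (1337, 26), (1342, 14), (1347, 24), (1355, 12), (1358, 5), (1363, 24), (1363, 6), (1364, 26), (1364, 25), (1365, 28), (1365, 2), (1366, 27), (1369, 21), (1379, 5), (1380, 5), (1381, 12), (1382, 20), (1385, 20), (1391, 4), (1401, 10), (1407, 8), (1425, 4), (1441, 5), (1442, 27), (1444, 22), (1449, 4), (1452, 29), (1459, 9), (1467, 26), (1468, 4), (1471, 10), (1472, 7), (1478, 5), (1483, 8), (1516, 4), (1564, 23), (1570, 5), (1577, 3), (1580, 5), (1585, 2), (1592, 10), (1596, 7), (1598, 26), (1599, 25), (1601, 27), (1603, 4), (1604, 17), (1611, 4), (1613, 7), (1628, 4), (1636, 20), (1636, 21), (1639, 4), (1646, 10), (1647, 11), (1649, 9), (1661, 25), (1662, 4), (1668, 3), (1668, 10), (1674, 2), (1675, 11), (1676, 3), (1700, 8), (1701, 7), (1710, 9), (1747, 20), (1747, 9), (1755, 21), (1764, 10), (146, 14), (539, 4), (540, 2), (543, 18), (713, 7), (714, 11), (754, 26), (783, 23), (914, 26), (915, 8), (928, 5), (951, 20), (963, 20), (1011, 23), (1059, 29), (1092, 18), (1107, 8), (1108, 25), (1110, 21), (1139, 19), (1141, 9), (1255, 23), (1267, 12), (1283, 20), (1285, 21), (1294, 25), (1318, 9), (1485, 12), (1501, 2), (1502, 27), (1615, 12), (1644, 22), (1645, 4), (58, 16), (222, 25), (494, 0), (106, 12), (218, 18), (246, 18), (430, 18), (450, 19), (462, 18), (470, 18), (502, 20), (518, 18), (539, 6), (540, 3), (541, 6), (541, 8), (542, 15), (543, 17), (553, 22), (555, 16), (555, 9), (565, 23), (566, 18), (572, 1), (576, 24), (585, 10), (594, 23), (599, 6), (600, 2), (601, 12), (602, 7), (603, 23), (605, 16), (607, 17), (607, 22), (609, 5), (611, 15), (612, 6), (618, 18), (620, 25), (622, 20), (630, 8), (632, 14), (633, 16), (642, 22), (646, 21), (649, 17), (654, 7), (664, 7), (668, 24), (671, 18), (671, 12), (672, 25), (673, 10), (674, 16), (674, 3), (680, 5), (682, 25), (683, 21), (685, 21), (686, 21), (699, 3), (699, 8), (700, 5), (701, 3), (705, 8), (705, 23), (706, 24), (708, 6), (710, 4), (711, 1), (712, 3), (715, 2), (723, 20), (723, 24), (735, 24), (735, 4), (736, 12), (737, 10), (738, 10), (739, 21), (739, 18), (739, 24), (740, 17), (740, 25), (741, 21), (742, 15), (742, 16), (743, 23), (744, 0), (757, 22), (764, 23), (766, 11), (771, 25), (772, 23), (773, 24), (787, 25), (799, 24), (800, 6), (802, 26), (802, 21), (815, 20), (816, 18), (817, 21), (819, 8), (820, 14), (820, 3), (826, 23), (846, 8), (847, 17), (850, 5), (851, 25), (854, 19), (854, 21), (858, 11), (860, 15), (861, 20), (870, 9), (874, 6), (879, 22), (881, 26), (882, 2), (897, 27), (899, 27), (899, 5), (902, 19), (906, 7), (907, 2), (909, 5), (909, 4), (910, 15), (914, 18), (917, 10), (918, 9), (922, 8), (923, 8), (926, 22), (934, 23), (934, 21), (938, 22), (940, 4), (942, 3), (955, 25), (958, 13), (958, 10), (962, 5), (962, 12), (964, 3), (968, 9), (970, 10), (970, 5), (974, 6), (978, 25), (979, 12), (981, 15), (981, 17), (982, 2), (983, 11), (984, 17), (984, 8), (985, 23), (997, 19), (998, 19), (1000, 5), (1009, 24), (1010, 12), (1012, 21), (1031, 3), (1032, 3), (1034, 24), (1038, 19), (1042, 11), (1051, 9), (1051, 27), (1057, 14), (1060, 19), (1060, 13), (1063, 12), (1070, 21), (1071, 1), (1073, 11), (1078, 3), (1091, 6), (1097, 24), (1098, 28), (1105, 23), (1106, 23), (1107, 6), (1110, 26), (1112, 20), (1113, 29), (1138, 27), (1140, 8), (1140, 19), (1142, 22), (1143, 4), (1152, 7), (1158, 21), (1159, 6), (1164, 3), (1169, 13), (1170, 2), (1177, 4), (1178, 3), (1183, 12), (1190, 10), (1195, 18), (1196, 28), (1197, 20), (1198, 12), (1198, 19), (1200, 4), (1206, 24), (1207, 7), (1208, 28), (1208, 3), (1232, 18), (1232, 16), (1233, 26), (1233, 23), (1234, 22), (1239, 26), (1240, 20), (1241, 28), (1246, 3), (1247, 3), (1248, 25), (1249, 19), (1250, 5), (1250, 25), (1253, 11), (1258, 8), (1258, 17), (1262, 22), (1268, 8), (1270, 12), (1270, 10), (1275, 9), (1275, 22), (1276, 4), (1278, 29), (1278, 9), (1280, 21), (1282, 7), (1285, 14), (1297, 18), (1306, 4), (1312, 9), (1320, 24), (1323, 19), (1327, 19), (1327, 5), (1332, 3), (1334, 22), (1334, 25), (1334, 12), (1339, 19), (1346, 16), (1352, 6), (1354, 9), (1357, 4), (1359, 27), (1375, 23), (1375, 25), (1380, 6), (1381, 4), (1382, 7), (1397, 9), (1407, 24), (1411, 10), (1421, 12), (1423, 29), (1424, 22), (1425, 20), (1432, 8), (1435, 19), (1435, 6), (1436, 25), (1436, 10), (1438, 19), (1438, 6), (1445, 24), (1447, 7), (1448, 25), (1451, 2), (1451, 10), (1453, 12), (1454, 11), (1454, 5), (1456, 5), (1458, 9), (1464, 28), (1465, 6), (1466, 11), (1470, 21), (1470, 9), (1474, 3), (1476, 8), (1485, 2), (1487, 7), (1488, 20), (1489, 17), (1490, 18), (1499, 7), (1510, 18), (1512, 1), (1516, 27), (1522, 22), (1551, 1), (1552, 10), (1563, 1), (1563, 6), (1564, 8), (1565, 2), (1565, 12), (1566, 19), (1566, 23), (1574, 5), (1577, 26), (1582, 5), (1592, 17), (1595, 25), (1596, 20), (1598, 8), (1599, 29), (1599, 5), (1601, 6), (1602, 8), (1603, 27), (1615, 2), (1616, 20), (1617, 20), (1618, 27), (1619, 9), (1620, 10), (1623, 4), (1628, 28), (1629, 5), (1641, 22), (1642, 25), (1643, 4), (1644, 7), (1644, 4), (1645, 7), (1645, 8), (1648, 24), (1654, 20), (1664, 24), (1666, 5), (1666, 25), (1679, 21), (1684, 7), (1685, 22), (1698, 5), (1699, 24), (1700, 20), (1712, 28), (1718, 21), (1718, 23), (1723, 7), (1726, 14), (1731, 25), (1742, 9), (1750, 20), (1750, 21), (1750, 22), (1753, 18), (1756, 6), (1758, 10), (1759, 10), (1762, 20), (10, 5), (22, 14), (37, 13), (39, 6), (40, 17), (53, 3), (54, 3), (57, 3), (57, 5), (63, 18), (69, 22), (82, 9), (85, 21), (97, 10), (101, 21), (107, 19), (116, 19), (120, 14), (154, 2), (154, 4), (158, 9), (166, 23), (170, 11), (186, 18), (202, 15), (203, 6), (205, 25), (205, 8), (213, 22), (213, 7), (218, 13), (221, 6), (226, 7), (227, 18), (229, 18), (229, 0), (231, 23), (243, 2), (248, 18), (250, 10), (251, 5), (317, 25), (359, 14), (360, 11), (371, 21), (372, 18), (375, 24), (379, 22), (387, 19), (394, 22), (395, 3), (398, 22), (405, 19), (409, 22), (413, 25), (413, 19), (414, 10), (417, 19), (424, 3), (431, 1), (432, 25), (453, 23), (458, 8), (466, 4), (466, 17), (472, 17), (483, 22), (485, 18), (491, 16), (491, 9), (493, 14), (495, 18), (496, 13), (499, 18), (505, 6), (109, 21), (116, 11), (117, 15), (127, 16), (131, 16), (142, 15), (153, 2), (156, 13), (157, 9), (160, 16), (161, 20), (165, 21), (168, 5), (172, 7), (185, 4), (186, 15), (189, 7), (192, 24), (193, 6), (203, 8), (205, 5), (209, 4), (211, 1), (213, 13), (216, 8), (217, 6), (222, 13), (224, 8), (225, 19), (232, 22), (232, 2), (237, 2), (247, 5), (249, 21), (251, 25), (252, 24), (255, 23), (255, 9), (257, 19), (259, 23), (260, 19), (263, 9), (264, 19), (264, 10), (265, 19), (271, 0), (274, 10), (275, 25), (288, 25), (292, 19), (293, 14), (296, 20), (298, 25), (299, 22), (300, 9), (300, 16), (300, 17), (301, 6), (301, 24), (303, 7), (308, 24), (309, 22), (309, 4), (311, 6), (311, 1), (313, 6), (313, 8), (316, 8), (321, 22), (324, 19), (324, 24), (329, 2), (333, 22), (360, 20), (362, 23), (369, 7), (371, 2), (371, 9), (385, 6), (387, 25), (391, 7), (392, 5), (392, 8), (393, 20), (395, 22), (395, 9), (396, 4), (397, 3), (405, 2), (409, 6), (410, 5), (425, 14), (426, 19), (427, 6), (435, 7), (436, 20), (436, 5), (436, 8), (445, 23), (447, 20), (451, 8), (452, 3), (454, 9), (455, 21), (457, 20), (461, 8), (463, 6), (471, 9), (475, 9), (476, 6), (489, 9), (495, 20), (496, 18), (498, 15), (501, 16), (513, 3), (515, 8), (517, 19), (517, 14), (519, 20), (530, 24), (533, 20), (539, 12), (540, 17), (541, 12), (543, 23), (543, 10), (546, 16), (549, 20), (574, 17), (574, 21), (576, 8), (577, 25), (577, 7), (607, 0), (608, 9), (609, 21), (616, 1), (618, 17), (619, 2), (620, 24), (621, 18), (622, 14), (651, 20), (653, 23), (655, 20), (665, 18), (667, 3), (673, 17), (673, 16), (681, 23), (688, 1), (694, 8), (697, 21), (701, 8), (703, 6), (703, 19), (704, 22), (704, 25), (707, 17), (712, 20), (714, 17), (719, 6), (727, 1), (727, 16), (728, 24), (731, 25), (732, 23), (741, 22), (759, 22), (764, 25), (766, 4), (773, 21), (774, 21), (777, 9), (784, 18), (787, 8), (789, 20), (789, 8), (790, 3), (795, 26), (799, 2), (805, 2), (805, 19), (806, 4), (813, 25), (815, 19), (822, 22), (823, 9), (824, 11), (825, 8), (825, 18), (826, 10), (832, 11), (834, 9), (836, 10), (837, 21), (843, 8), (847, 2), (848, 7), (848, 10), (849, 20), (851, 0), (851, 6), (853, 22), (856, 9), (861, 3), (863, 2), (866, 2), (878, 7), (879, 2), (893, 17), (894, 18), (897, 17), (904, 13), (914, 24), (915, 7), (916, 22), (917, 25), (917, 20), (918, 21), (921, 6), (922, 21), (925, 7), (927, 24), (928, 15), (937, 22), (939, 10), (947, 0), (952, 27), (960, 3), (961, 4), (961, 7), (962, 16), (964, 0), (969, 21), (969, 19), (980, 3), (981, 24), (981, 4), (982, 8), (983, 20), (985, 24), (986, 17), (991, 23), (993, 22), (993, 21), (997, 23), (997, 10), (1001, 22), (1006, 16), (1006, 17), (1010, 20), (1016, 9), (1018, 10), (1023, 9), (1027, 24), (1027, 2), (1030, 21), (1034, 23), (1040, 5), (1043, 24), (1043, 6), (1048, 21), (1049, 26), (1050, 26), (1059, 9), (1060, 12), (1063, 4), (1067, 26), (1067, 25), (1069, 26), (1070, 19), (1075, 18), (1077, 10), (1078, 8), (1083, 4), (1085, 27), (1088, 12), (1089, 23), (1090, 21), (1090, 6), (1090, 9), (1093, 3), (1094, 23), (1096, 23), (1097, 25), (1099, 4), (1102, 9), (1104, 9), (1106, 28), (1107, 9), (1109, 27), (1110, 13), (1112, 5), (1118, 0), (1131, 1), (1132, 6), (1133, 6), (1134, 17), (1135, 3), (1135, 11), (1138, 8), (1140, 29), (1144, 25), (1145, 25), (1152, 23), (1156, 19), (1156, 2), (1158, 28), (1159, 25), (1161, 27), (1169, 8), (1175, 9), (1177, 6), (1179, 4), (1181, 5), (1185, 25), (1192, 23), (1203, 1), (1204, 2), (1205, 25), (1212, 19), (1215, 4), (1217, 9), (1218, 15), (1220, 10), (1230, 15), (1234, 8), (1237, 11), (1237, 28), (1239, 27), (1240, 0), (1243, 18), (1248, 20), (1248, 9), (1252, 17), (1254, 27), (1255, 18), (1258, 18), (1258, 20), (1267, 19), (1268, 24), (1269, 4), (1269, 19), (1270, 29), (1275, 20), (1276, 13), (1278, 12), (1279, 26), (1289, 26), (1295, 16), (1304, 26), (1310, 5), (1316, 19), (1319, 8), (1321, 24), (1324, 0), (1331, 2), (1333, 27), (1334, 26), (1336, 7), (1340, 26), (1352, 13), (1357, 27), (1357, 26), (1357, 8), (1361, 23), (1361, 27), (1361, 8), (1370, 20), (1371, 25), (1371, 2), (1372, 1), (1373, 20), (1374, 19), (1376, 25), (1380, 22), (1382, 23), (1388, 18), (1395, 23), (1396, 11), (1398, 10), (1403, 2), (1413, 7), (1417, 23), (1421, 24), (1424, 24), (1429, 9), (1431, 25), (1431, 28), (1431, 7), (1433, 7), (1449, 26), (1453, 24), (1453, 14), (1465, 26), (1467, 8), (1467, 5), (1469, 24), (1474, 28), (1476, 5), (1480, 20), (1481, 7), (1482, 4), (1485, 20), (1486, 23), (1488, 22), (1489, 25), (1497, 23), (1499, 18), (1499, 5), (1502, 25), (1503, 26), (1504, 8), (1505, 20), (1505, 22), (1507, 2), (1509, 28), (1509, 8), (1515, 5), (1517, 23), (1518, 25), (1538, 19), (1546, 24), (1553, 24), (1559, 23), (1560, 12), (1563, 7), (1564, 10), (1565, 11), (1566, 3), (1568, 23), (1571, 26), (1572, 25), (1574, 4), (1578, 2), (1587, 3), (1588, 24), (1592, 9), (1593, 4), (1599, 4), (1602, 27), (1605, 25), (1615, 28), (1616, 27), (1619, 5), (1620, 11), (1636, 22), (1644, 8), (1650, 20), (1651, 6), (1654, 3), (1656, 10), (1657, 22), (1659, 23), (1674, 29), (1677, 4), (1681, 27), (1681, 25), (1691, 6), (1695, 17), (1700, 9), (1701, 8), (1707, 24), (1714, 17), (1717, 1), (1729, 13), (1733, 26), (1741, 26), (1753, 7), (26, 13), (118, 16), (130, 17), (166, 22), (170, 24), (206, 22), (238, 24), (254, 23), (266, 23), (274, 23), (278, 24), (298, 19), (334, 22), (350, 19), (394, 21), (406, 22), (454, 19), (478, 20), (482, 19), (494, 19), (506, 22), (539, 10), (539, 14), (560, 17), (571, 23), (572, 5), (574, 3), (576, 20), (584, 24), (602, 23), (602, 24), (605, 1), (607, 21), (629, 21), (630, 16), (630, 19), (637, 7), (638, 2), (645, 23), (646, 18), (651, 19), (660, 22), (671, 1), (672, 17), (686, 3), (700, 17), (700, 25), (702, 24), (706, 5), (707, 8), (707, 18), (708, 4), (710, 3), (711, 16), (715, 21), (715, 5), (723, 11), (729, 5), (735, 8), (735, 16), (737, 19), (737, 25), (739, 19), (739, 3), (739, 5), (740, 10), (741, 9), (742, 2), (742, 10), (748, 20), (753, 25), (756, 13), (758, 9), (759, 1), (760, 16), (766, 7), (771, 3), (780, 0), (783, 7), (791, 8), (799, 1), (800, 21), (801, 18), (812, 6), (813, 8), (817, 14), (823, 18), (826, 6), (827, 6), (840, 26), (853, 18), (858, 3), (862, 7), (882, 25), (895, 12), (900, 26), (906, 21), (914, 13), (924, 5), (924, 23), (928, 23), (931, 26), (931, 4), (932, 26), (936, 27), (938, 9), (939, 19), (942, 2), (951, 7), (955, 5), (958, 5), (959, 9), (962, 22), (964, 21), (967, 21), (968, 27), (968, 5), (975, 3), (981, 28), (984, 21), (985, 29), (986, 5), (991, 11), (993, 3), (998, 9), (1016, 10), (1018, 5), (1027, 6), (1031, 6), (1042, 22), (1045, 22), (1046, 26), (1065, 27), (1075, 20), (1075, 27), (1083, 9), (1093, 20), (1094, 12), (1094, 4), (1113, 10), (1115, 18), (1129, 23), (1132, 10), (1135, 7), (1139, 21), (1155, 27), (1160, 6), (1178, 11), (1195, 20), (1196, 12), (1196, 7), (1196, 11), (1197, 3), (1209, 8), (1219, 28), (1224, 3), (1227, 7), (1227, 22), (1239, 2), (1241, 6), (1245, 10), (1250, 21), (1252, 6), (1255, 14), (1265, 8), (1266, 5), (1267, 21), (1267, 20), (1267, 11), (1268, 5), (1278, 6), (1282, 5), (1283, 7), (1284, 13), (1288, 28), (1298, 8), (1300, 21), (1315, 12), (1318, 5), (1331, 27), (1337, 20), (1337, 6), (1364, 3), (1365, 21), (1370, 22), (1370, 23), (1379, 18), (1388, 2), (1394, 27), (1396, 2), (1400, 22), (1401, 17), (1401, 13), (1408, 13), (1412, 6), (1421, 25), (1423, 6), (1423, 8), (1424, 11), (1426, 5), (1433, 27), (1435, 10), (1446, 22), (1452, 22), (1454, 24), (1460, 10), (1468, 14), (1475, 27), (1475, 8), (1477, 25), (1486, 8), (1487, 26), (1487, 11), (1488, 5), (1489, 4), (1489, 11), (1502, 8), (1503, 5), (1507, 9), (1515, 4), (1520, 12), (1525, 6), (1526, 22), (1555, 20), (1565, 25), (1571, 6), (1572, 1), (1578, 4), (1580, 28), (1583, 16), (1583, 11), (1595, 7), (1599, 12), (1600, 23), (1602, 26), (1610, 4), (1615, 8), (1620, 3), (1628, 6), (1630, 27), (1630, 11), (1635, 8), (1635, 26), (1636, 12), (1637, 11), (1637, 4), (1638, 23), (1638, 10), (1638, 8), (1638, 11), (1643, 27), (1646, 9), (1652, 13), (1654, 22), (1656, 20), (1663, 4), (1666, 6), (1666, 3), (1671, 4), (1674, 28), (1688, 23), (1689, 24), (1719, 19), (1720, 19), (1721, 8), (1725, 28), (1730, 8), (1731, 2), (1738, 16), (1738, 6), (1741, 11), (1756, 22), (1757, 27), (1760, 7), (1766, 5), (26, 12), (50, 16), (98, 20), (110, 20), (138, 19), (190, 17), (246, 20), (258, 18), (266, 18), (274, 21), (310, 22), (362, 17), (366, 20), (370, 20), (378, 23), (494, 15), (538, 16), (553, 16), (557, 10), (558, 5), (559, 1), (566, 20), (566, 14), (574, 6), (574, 16), (576, 21), (578, 20), (578, 5), (591, 18), (604, 21), (609, 19), (610, 24), (615, 17), (617, 8), (629, 3), (631, 17), (635, 23), (656, 9), (659, 10), (659, 0), (661, 17), (663, 5), (683, 18), (686, 10), (693, 4), (698, 17), (700, 6), (702, 11), (703, 10), (704, 16), (706, 23), (707, 1), (708, 17), (708, 7), (712, 11), (714, 16), (714, 3), (718, 15), (730, 9), (731, 3), (735, 10), (735, 7), (736, 7), (736, 8), (738, 18), (743, 25), (745, 11), (757, 27), (760, 22), (764, 22), (765, 20), (770, 8), (774, 25), (774, 12), (774, 2), (777, 25), (783, 4), (787, 21), (788, 18), (791, 21), (794, 20), (800, 9), (801, 5), (802, 0), (816, 20), (816, 10), (817, 5), (818, 21), (821, 5), (823, 3), (823, 13), (824, 21), (842, 11), (850, 23), (859, 10), (867, 26), (880, 25), (882, 17), (894, 7), (899, 4), (900, 27), (902, 10), (918, 19), (923, 6), (924, 2), (925, 15), (939, 23), (940, 25), (942, 7), (955, 8), (957, 20), (958, 19), (958, 26), (960, 7), (961, 6), (961, 11), (962, 13), (963, 18), (978, 26), (979, 9), (980, 10), (981, 10), (990, 28), (994, 29), (995, 19), (995, 25), (997, 17), (998, 6), (1005, 14), (1007, 7), (1009, 8), (1016, 22), (1025, 24), (1032, 26), (1034, 9), (1047, 25), (1061, 28), (1063, 20), (1065, 13), (1070, 26), (1070, 20), (1070, 14), (1074, 8), (1078, 25), (1089, 15), (1092, 24), (1094, 27), (1099, 5), (1102, 12), (1106, 26), (1109, 6), (1111, 21), (1111, 4), (1122, 12), (1123, 23), (1137, 24), (1138, 4), (1139, 18), (1140, 14), (1141, 17), (1152, 5), (1153, 8), (1155, 12), (1160, 24), (1162, 12), (1166, 22), (1167, 19), (1174, 22), (1181, 9), (1182, 27), (1185, 16), (1187, 12), (1196, 21), (1204, 25), (1205, 21), (1211, 9), (1216, 13), (1218, 27), (1219, 5), (1220, 6), (1222, 1), (1231, 28), (1231, 3), (1234, 27), (1234, 12), (1236, 6), (1239, 19), (1241, 2), (1248, 26), (1250, 26), (1254, 18), (1255, 10), (1265, 7), (1266, 17), (1267, 29), (1268, 11), (1276, 29), (1277, 19), (1279, 23), (1281, 2), (1282, 23), (1282, 8), (1285, 24), (1286, 25), (1286, 27), (1291, 25), (1292, 10), (1306, 6), (1316, 1), (1318, 26), (1322, 19), (1326, 21), (1334, 20), (1337, 24), (1339, 5), (1346, 28), (1346, 3), (1349, 12), (1352, 3), (1355, 5), (1358, 24), (1364, 21), (1371, 13), (1391, 10), (1397, 5), (1398, 26), (1400, 14), (1401, 12), (1401, 11), (1402, 26), (1402, 5), (1410, 10), (1411, 7), (1415, 23), (1422, 19), (1423, 4), (1430, 27), (1430, 3), (1433, 6), (1435, 20), (1436, 19), (1436, 18), (1438, 8), (1452, 2), (1462, 24), (1467, 1), (1469, 23), (1472, 22), (1474, 22), (1475, 5), (1488, 28), (1488, 25), (1489, 24), (1489, 26), (1493, 7), (1496, 24), (1497, 18), (1500, 7), (1504, 24), (1506, 24), (1514, 15), (1515, 12), (1517, 17), (1518, 21), (1552, 5), (1555, 7), (1564, 26), (1564, 18), (1567, 22), (1573, 16), (1574, 8), (1575, 22), (1576, 25), (1583, 20), (1591, 1), (1592, 16), (1604, 19), (1618, 19), (1620, 7), (1621, 3), (1631, 26), (1637, 22), (1650, 7), (1659, 27), (1678, 27), (1690, 19), (1698, 16), (1700, 16), (1700, 24), (1702, 14), (1707, 22), (1715, 17), (1716, 28), (1719, 25), (1742, 8), (1746, 6), (1746, 9), (1748, 17), (1749, 17), (1750, 10), (1750, 24), (1751, 25), (1753, 20), (1760, 17), (1769, 12), (1770, 23), (103, 8), (109, 11), (110, 11), (116, 1), (116, 6), (123, 13), (137, 17), (145, 19), (153, 10), (153, 18), (169, 17), (172, 25), (224, 18), (272, 12), (273, 15), (274, 11), (287, 2), (287, 5), (288, 11), (292, 6), (295, 21), (296, 24), (299, 18), (300, 23), (361, 18), (376, 3), (383, 11), (383, 2), (385, 9), (385, 7), (391, 24), (392, 4), (395, 4), (405, 10), (412, 19), (421, 21), (432, 21), (450, 21), (458, 21), (463, 24), (467, 11), (488, 2), (498, 12), (514, 2), (531, 21), (540, 14), (572, 8), (589, 11), (618, 21), (629, 16), (654, 23), (661, 18), (706, 21), (709, 3), (727, 2), (749, 6), (756, 4), (761, 19), (769, 21), (780, 23), (780, 7), (786, 9), (793, 0), (821, 21), (825, 10), (883, 25), (905, 10), (916, 27), (969, 23), (969, 22), (990, 23), (990, 25), (1012, 2), (1030, 28), (1059, 10), (1086, 29), (1087, 19), (1091, 21), (1108, 24), (1109, 7), (1141, 8), (1143, 22), (1146, 19), (1168, 25), (1179, 7), (1248, 22), (1257, 28), (1270, 23), (1300, 9), (1306, 25), (1317, 23), (1365, 26), (1379, 10), (1414, 21), (1476, 23), (1476, 4), (1516, 26), (1627, 25), (1643, 22), (1643, 19), (1739, 22), (544, 11), (694, 17), (755, 8), (782, 17), (839, 6), (849, 25), (855, 6), (897, 24), (910, 21), (915, 6), (970, 0), (989, 5), (1000, 14), (1017, 5), (1050, 23), (1062, 10), (1091, 7), (1094, 26), (1140, 27), (1152, 25), (1160, 23), (1199, 6), (1244, 18), (1245, 22), (1264, 2), (1270, 19), (1275, 23), (1276, 23), (1315, 21), (1328, 5), (1388, 21), (1431, 22), (1485, 26), (1574, 24), (1579, 24), (1615, 29), (1645, 23), (1701, 24), (1711, 22), (1714, 8), (1734, 4), (1737, 22), (116, 9), (172, 3), (544, 13), (679, 17), (752, 22), (765, 3), (844, 22), (847, 26), (855, 9), (905, 6), (911, 21), (916, 26), (926, 26), (930, 16), (967, 19), (979, 3), (981, 3), (990, 6), (1008, 10), (1043, 25), (1128, 28), (1131, 4), (1132, 3), (1173, 16), (1214, 29), (1223, 25), (1227, 1), (1240, 26), (1241, 4), (1256, 25), (1280, 10), (1285, 10), (1303, 17), (1327, 25), (1338, 4), (1349, 24), (1399, 28), (1407, 28), (1410, 4), (1469, 4), (1487, 25), (1489, 19), (1501, 22), (1516, 6), (1573, 28), (1600, 2), (1604, 7), (1619, 1), (1619, 20), (1621, 13), (1644, 27), (1651, 27), (1655, 28), (1658, 7), (1673, 19), (1691, 14), (1692, 14), (1692, 17), (1695, 3), (1697, 27), (1740, 29), (1741, 8), (1761, 20), (34, 6), (607, 2), (634, 21), (648, 13), (648, 21), (664, 17), (667, 25), (671, 8), (672, 24), (673, 0), (674, 24), (675, 8), (684, 20), (685, 23), (685, 1), (701, 18), (702, 0), (703, 2), (705, 16), (709, 25), (711, 2), (712, 16), (713, 16), (715, 14), (716, 16), (724, 22), (734, 18), (735, 11), (735, 15), (736, 15), (737, 24), (774, 13), (777, 16), (779, 23), (783, 6), (783, 1), (784, 20), (788, 8), (791, 26), (795, 24), (803, 4), (805, 22), (811, 19), (822, 23), (823, 23), (824, 10), (825, 17), (825, 16), (826, 25), (830, 10), (836, 18), (837, 20), (841, 10), (848, 2), (850, 25), (854, 8), (859, 12), (861, 17), (862, 25), (870, 20), (879, 16), (885, 26), (886, 16), (922, 13), (922, 10), (923, 18), (926, 7), (927, 16), (928, 25), (930, 17), (934, 24), (939, 27), (955, 3), (956, 18), (960, 10), (971, 1), (973, 22), (974, 28), (977, 18), (978, 22), (979, 2), (980, 19), (981, 21), (983, 22), (984, 23), (994, 5), (995, 1), (999, 21), (1000, 28), (1002, 27), (1003, 27), (1005, 18), (1006, 29), (1007, 18), (1009, 19), (1011, 10), (1012, 9), (1017, 19), (1020, 3), (1022, 12), (1023, 18), (1023, 4), (1023, 1), (1024, 11), (1038, 2), (1038, 9), (1038, 8), (1052, 11), (1055, 27), (1059, 18), (1059, 22), (1062, 13), (1066, 12), (1068, 24), (1071, 19), (1072, 28), (1081, 20), (1082, 17), (1083, 29), (1083, 28), (1083, 27), (1096, 2), (1103, 25), (1104, 18), (1106, 2), (1106, 4), (1107, 5), (1116, 28), (1117, 16), (1130, 8), (1134, 18), (1135, 26), (1145, 15), (1147, 4), (1163, 7), (1174, 12), (1179, 21), (1182, 6), (1184, 28), (1186, 13), (1187, 24), (1196, 13), (1209, 23), (1210, 11), (1218, 3), (1219, 11), (1220, 24), (1221, 27), (1232, 8), (1233, 18), (1234, 10), (1235, 9), (1239, 11), (1240, 28), (1242, 17), (1244, 25), (1247, 5), (1255, 11), (1255, 8), (1256, 7), (1256, 20), (1271, 22), (1277, 23), (1282, 12), (1283, 27), (1291, 2), (1292, 2), (1293, 14), (1295, 25), (1297, 25), (1311, 16), (1318, 21), (1325, 4), (1328, 28), (1330, 10), (1336, 11), (1336, 8), (1337, 7), (1343, 4), (1344, 26), (1349, 9), (1351, 8), (1355, 24), (1356, 8), (1357, 6), (1367, 5), (1371, 22), (1371, 12), (1375, 5), (1380, 28), (1382, 11), (1384, 25), (1385, 27), (1388, 26), (1395, 22), (1396, 28), (1411, 9), (1415, 26), (1419, 25), (1420, 22), (1421, 29), (1425, 22), (1430, 21), (1435, 22), (1440, 4), (1445, 19), (1453, 25), (1453, 5), (1455, 1), (1460, 18), (1460, 7), (1465, 13), (1475, 9), (1484, 19), (1485, 19), (1486, 16), (1487, 18), (1488, 27), (1495, 6), (1503, 2), (1505, 19), (1509, 9), (1511, 19), (1513, 28), (1514, 16), (1515, 19), (1515, 18), (1516, 0), (1516, 23), (1518, 11), (1524, 27), (1525, 18), (1527, 24), (1535, 20), (1535, 19), (1536, 19), (1537, 27), (1539, 19), (1540, 15), (1541, 8), (1543, 3), (1546, 22), (1548, 17), (1557, 16), (1559, 6), (1567, 11), (1572, 18), (1580, 12), (1584, 19), (1586, 25), (1588, 25), (1589, 22), (1592, 4), (1596, 19), (1603, 20), (1629, 18), (1631, 29), (1631, 18), (1632, 2), (1636, 13), (1640, 21), (1645, 20), (1649, 26), (1655, 8), (1656, 11), (1656, 19), (1657, 26), (1657, 24), (1658, 22), (1660, 19), (1664, 20), (1666, 21), (1668, 19), (1696, 24), (1701, 27), (1711, 1), (1713, 25), (1729, 22), (1730, 12), (1735, 22), (1759, 24), (4, 0), (11, 5), (12, 0), (13, 7), (22, 1), (35, 8), (39, 13), (44, 15), (48, 15), (48, 10), (61, 23), (63, 19), (84, 23), (85, 17), (85, 20), (112, 16), (123, 9), (132, 6), (136, 6), (138, 23), (145, 20), (146, 1), (149, 2), (164, 3), (216, 4), (223, 1), (223, 16), (228, 16), (232, 5), (259, 19), (263, 2), (275, 20), (292, 7), (304, 22), (305, 10), (321, 8), (373, 8), (383, 24), (397, 15), (404, 6), (413, 10), (439, 20), (445, 8), (463, 2), (471, 16), (471, 19), (549, 1), (561, 5), (579, 16), (590, 22), (621, 2), (630, 7), (639, 8), (645, 5), (652, 10), (661, 9), (675, 20), (694, 5), (759, 7), (831, 2), (832, 6), (851, 21), (851, 22), (920, 22), (957, 16), (969, 5), (1000, 12), (1046, 7), (1089, 28), (1098, 5), (1122, 27), (1151, 7), (1152, 22), (1353, 19), (1359, 3), (1441, 17), (1527, 10), (1557, 4), (480, 5), (699, 16), (779, 2), (546, 23), (547, 6), (547, 21), (573, 25), (537, 17), (541, 17), (535, 14), (539, 2), (548, 10), (671, 24), (710, 1), (4, 21), (120, 21), (539, 11), (779, 10), (537, 1), (539, 17), (699, 21), (703, 1), (124, 21), (535, 11), (112, 21), (588, 21), (22, 17), (22, 9), (22, 11), (3, 0), (22, 0), (22, 8), (46, 10), (50, 1), (106, 1), (114, 1), (22, 16), (26, 8), (42, 21), (114, 21), (542, 17), (218, 25), (539, 1), (136, 20), (535, 17), (610, 1), (142, 23), (126, 12), (314, 21), (536, 11), (553, 1), (41, 12), (49, 21), (701, 25), (126, 1), (154, 11), (186, 1), (218, 1), (126, 21)]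

def subsL : List (List ℕ) := [
  [0],
  [2],
  [4]
]

end Cfsg.Agent.Helper4.TC.HeKS4
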