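import Cfsg.Agent.Lib.Helper4.TC.HeKS4B
import Cfsg.Agent.Lib.Helper4.TC.HeKS3B
import Cfsg.Agent.Lib.Helper4.TC.HeKS2B
import Cfsg.Agent.Lib.Helper4.TC.HeKS1B
import Cfsg.Agent.Lib.Helper4.TC.Schur3
import Cfsg.Prelude.Def_Spor_He

set_option autoImplicit false
set_option maxRecDepth 100000
set_option linter.unusedVariables false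

namespace Cfsg.Agent.Helper4.TC.HeKSD

open Cfsg.Agent.Helper4.TC

/-- the relators which hold exactly for the lifts: products of two conjugates of powers of generators -/
def exD : List (List ℕ × ℕ × ℕ × List ℕ × ℕ × ℕ) := [([3, 3, 3, 3, 3, 0, 0, 0, 0, 3], 0, 1, [], 0, 1),
  ([], 0, 1, [2, 0], 3, 1),
  ([], 0, 2, [2, 0], 3, 2),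
  ([], 0, 2, [3, 1], 3, 2),
  ([], 0, 3, [2, 0], 3, 3),
  ([], 0, 3, [3, 1], 3, 3),
  ([], 0, 4, [2, 0], 3, 4),
  ([], 0, 4, [3, 1], 3, 4),
  ([], 0, 5, [2, 0], 3, 5),
  ([], 0, 5, [3, 1], 3, 5),
  ([], 0, 6, [2, 0], 3, 6),
  ([], 0, 6, [3, 1], 3, 6),
  ([], 0, 1, [4, 1, 4, 1], 4, 1),
  ([], 2, 1, [4, 2, 4, 2], 5, 1),
  ([], 0, 2, [4, 1, 4, 1], 4, 2),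
  ([], 0, 2, [5, 0, 5, 0], 4, 2),
  ([], 2, 2, [4, 2, 4, 2], 5, 2),
  ([], 2, 2, [5, 3, 5, 3], 5, 2),
  ([3, 6, 3, 3, 3, 0, 3, 0, 0], 6, 1, [], 1, 13)]
def pwL : List (List ℕ) := [[0, 0, 0, 0, 0, 0, 0, 0, 0, 0, 0, 0, 0, 0, 0, 0, 0],
  [2, 2, 2, 2, 2, 2, 2, 2, 2, 2, 2, 2, 2, 2, 2, 2, 2],
  [4, 4, 4, 4, 4, 4, 4, 4, 4, 4, 4, 4, 4, 4, 4, 4, 4],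
  [6, 6, 6, 6, 6, 6, 6, 6, 6, 6, 6, 6, 6, 6, 6, 6, 6]]
def exL : List (List ℕ) := pwL ++ exD.map Schur.pairW
def ceL : List (List ℕ) := [[0, 0, 2, 0, 0, 2],
  [0, 2, 0, 2, 0, 2],
  [0, 2, 2, 0, 2, 2],
  [0, 2, 1, 2, 0, 2, 2, 2],
  [0, 0, 2, 0, 3, 0, 3, 1, 3, 3],
  [0, 0, 3, 1, 3, 3, 3, 3, 1, 3],
  [0, 0, 3, 3, 1, 3, 0, 3, 0, 2],
  [0, 2, 1, 2, 2, 0, 2, 1, 2, 2],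
  [0, 2, 2, 1, 2, 0, 2, 2, 1, 2],
  [0, 0, 0, 2, 0, 3, 3, 0, 3, 1, 3, 3],
  [0, 0, 0, 3, 1, 3, 3, 3, 3, 3, 1, 3],
  [0, 0, 0, 3, 3, 1, 3, 0, 3, 3, 0, 2],
  [0, 0, 2, 0, 3, 0, 0, 3, 1, 3, 3, 3],
  [0, 0, 2, 0, 3, 0, 3, 3, 1, 3, 0, 3],
  [0, 0, 3, 0, 2, 0, 0, 3, 3, 3, 1, 3],
  [0, 0, 3, 0, 3, 1, 3, 3, 0, 3, 0, 2],
  [0, 0, 3, 1, 3, 3, 3, 0, 3, 1, 3, 3],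
  [0, 0, 3, 3, 1, 3, 0, 3, 3, 3, 1, 3],
  [0, 2, 1, 2, 1, 2, 0, 2, 2, 1, 2, 2],
  [0, 0, 0, 0, 2, 0, 3, 3, 3, 0, 3, 1, 3, 3],
  [0, 5, 3, 5, 0, 5, 3, 5],
  [0, 0, 5, 0, 5, 0, 0, 5, 0, 5],
  [0, 4, 0, 4, 0, 4, 0, 4, 0, 4],
  [0, 5, 0, 5, 0, 5, 0, 5, 0, 5],
  [0, 5, 0, 5, 5, 0, 5, 0, 5, 5],
  [2, 2, 4, 2, 4, 2, 2, 4, 2, 4],
  [2, 4, 2, 4, 2, 4, 2, 4, 2, 4],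
  [2, 4, 2, 4, 4, 2, 4, 2, 4, 4],
  [0, 0, 4, 0, 2, 4, 2, 2, 4, 4, 4],
  [0, 0, 4, 0, 5, 3, 3, 5, 3, 4, 4],
  [0, 0, 4, 4, 3, 5, 3, 3, 5, 0, 4],
  [0, 0, 4, 4, 4, 2, 2, 4, 2, 0, 4],
  [0, 3, 3, 5, 3, 3, 0, 3, 4, 4, 3],
  [0, 0, 0, 2, 4, 0, 0, 0, 2, 5, 0, 3],
  [0, 0, 0, 2, 4, 0, 3, 1, 1, 5, 0, 3],
  [0, 0, 0, 2, 4, 3, 1, 2, 1, 5, 0, 3],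
  [0, 0, 0, 2, 5, 0, 0, 2, 2, 2, 1, 4],
  [0, 0, 0, 2, 5, 0, 3, 0, 3, 1, 1, 4],
  [0, 0, 0, 2, 5, 0, 3, 3, 1, 2, 1, 4],
  [0, 0, 0, 2, 5, 3, 1, 1, 2, 2, 1, 4],
  [0, 0, 0, 3, 0, 5, 1, 1, 3, 0, 4, 2],
  [0, 0, 0, 3, 0, 5, 1, 2, 1, 3, 4, 2],
  [0, 0, 0, 3, 0, 5, 2, 0, 0, 0, 4, 2],
  [0, 0, 0, 4, 1, 1, 3, 0, 3, 0, 5, 2],
  [0, 0, 0, 4, 1, 2, 1, 3, 3, 0, 5, 2],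
  [0, 0, 0, 4, 1, 2, 2, 1, 1, 3, 5, 2],
  [0, 0, 0, 4, 1, 2, 2, 2, 0, 0, 5, 2],
  [0, 0, 0, 5, 0, 5, 0, 4, 0, 5, 0, 5],
  [0, 0, 0, 5, 2, 5, 0, 0, 0, 5, 2, 5],
  [0, 0, 2, 0, 4, 2, 4, 1, 4, 2, 4, 2],
  [0, 0, 2, 1, 2, 1, 4, 0, 0, 2, 1, 5],
  [0, 0, 2, 1, 2, 1, 4, 0, 3, 0, 2, 5],
  [0, 0, 2, 1, 5, 0, 3, 0, 2, 2, 1, 4],
  [0, 0, 2, 1, 5, 0, 3, 3, 0, 0, 2, 4],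
  [0, 0, 2, 1, 5, 0, 3, 3, 3, 1, 1, 4],
  [0, 0, 2, 2, 2, 1, 4, 3, 1, 2, 1, 5],
  [0, 0, 2, 4, 0, 3, 0, 2, 5, 0, 3, 3],
  [0, 0, 2, 4, 1, 4, 1, 1, 4, 1, 4, 2],
  [0, 0, 2, 4, 1, 4, 2, 0, 0, 5, 0, 5],
  [0, 0, 2, 4, 2, 4, 1, 4, 2, 4, 0, 2],
  [0, 0, 3, 3, 0, 5, 1, 2, 0, 0, 4, 2],
  [0, 0, 3, 3, 0, 5, 2, 0, 3, 0, 4, 2],
  [0, 0, 4, 0, 4, 4, 0, 0, 4, 0, 4, 4],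
  [0, 0, 4, 1, 1, 3, 3, 3, 0, 5, 1, 2],
  [0, 0, 4, 1, 2, 1, 2, 0, 0, 5, 1, 2],
  [0, 0, 4, 1, 2, 2, 0, 3, 0, 5, 1, 2],
  [0, 0, 4, 1, 5, 5, 1, 1, 5, 0, 4, 4],
  [0, 0, 4, 3, 3, 4, 0, 0, 4, 3, 3, 4],
  [0, 0, 4, 4, 0, 0, 4, 4, 0, 0, 4, 4],
  [0, 0, 4, 4, 0, 4, 0, 0, 4, 4, 0, 4],
  [0, 0, 5, 1, 2, 1, 3, 4, 1, 2, 2, 2],
  [0, 0, 5, 2, 0, 3, 0, 4, 1, 2, 1, 2],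
  [0, 0, 5, 3, 3, 5, 0, 0, 5, 3, 3, 5],
  [0, 2, 0, 2, 0, 5, 0, 5, 3, 5, 0, 5],
  [0, 2, 0, 2, 4, 2, 4, 1, 4, 2, 4, 2],
  [0, 2, 0, 3, 1, 4, 1, 4, 2, 4, 1, 4],
  [0, 2, 0, 3, 5, 3, 5, 0, 5, 3, 5, 3],
  [0, 2, 0, 4, 0, 2, 0, 4, 0, 2, 0, 4],
  [0, 2, 0, 4, 0, 2, 0, 4, 1, 3, 1, 4],
  [0, 2, 0, 4, 0, 2, 0, 4, 2, 0, 2, 4],
  [0, 2, 0, 4, 0, 2, 0, 4, 3, 1, 3, 4],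
  [0, 2, 0, 4, 1, 3, 1, 4, 1, 3, 1, 4],
  [0, 2, 0, 4, 1, 3, 1, 4, 2, 0, 2, 4],
  [0, 2, 0, 4, 1, 3, 1, 4, 3, 1, 3, 4],
  [0, 2, 0, 4, 1, 4, 2, 4, 1, 4, 1, 3],
  [0, 2, 0, 4, 2, 0, 2, 4, 1, 3, 1, 4],
  [0, 2, 0, 4, 3, 1, 3, 4, 1, 3, 1, 4],
  [0, 2, 0, 5, 0, 2, 0, 5, 0, 2, 0, 5],
  [0, 2, 0, 5, 0, 2, 0, 5, 2, 0, 2, 5],
  [0, 2, 0, 5, 0, 2, 0, 5, 3, 1, 3, 5],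
  [0, 2, 1, 3, 5, 3, 5, 0, 5, 3, 5, 2],
  [0, 2, 1, 4, 1, 4, 2, 4, 1, 4, 1, 2],
  [0, 2, 1, 5, 5, 2, 5, 5, 1, 2, 0, 4],
  [0, 2, 1, 5, 5, 2, 5, 5, 2, 0, 3, 4],
  [0, 2, 2, 0, 2, 5, 0, 5, 3, 5, 0, 5],
  [0, 2, 2, 0, 5, 0, 5, 3, 5, 0, 5, 2],
  [0, 2, 2, 0, 5, 3, 5, 3, 3, 5, 3, 5],
  [0, 2, 2, 1, 4, 0, 3, 0, 2, 5, 0, 3],
  [0, 2, 2, 4, 2, 4, 1, 4, 2, 4, 2, 2],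
  [0, 2, 2, 4, 2, 4, 2, 2, 0, 5, 3, 5],
  [0, 2, 4, 1, 4, 2, 0, 4, 1, 4, 1, 4],
  [0, 2, 4, 1, 4, 2, 0, 5, 0, 5, 0, 5],
  [0, 2, 4, 1, 4, 2, 1, 4, 1, 4, 1, 5],
  [0, 2, 4, 1, 4, 2, 5, 0, 5, 0, 5, 5],
  [0, 2, 4, 2, 0, 5, 0, 2, 4, 2, 0, 5],
  [0, 2, 4, 2, 4, 1, 4, 2, 4, 3, 1, 3],
  [0, 2, 4, 2, 4, 2, 4, 2, 0, 5, 3, 5],
  [0, 2, 4, 3, 5, 3, 5, 3, 0, 5, 3, 5],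
  [0, 2, 4, 4, 2, 4, 2, 4, 0, 5, 3, 5],
  [0, 2, 5, 0, 2, 5, 0, 2, 5, 0, 2, 5],
  [0, 2, 5, 2, 1, 2, 1, 2, 2, 2, 5, 5],
  [0, 2, 5, 2, 5, 2, 5, 2, 0, 4, 3, 4],
  [0, 2, 5, 3, 5, 3, 5, 2, 0, 5, 3, 5],
  [0, 2, 5, 5, 2, 5, 5, 1, 2, 0, 4, 3],
  [0, 3, 0, 3, 3, 3, 4, 4, 1, 3, 4, 3],
  [0, 3, 0, 4, 1, 2, 2, 0, 3, 0, 5, 2],
  [0, 3, 5, 3, 5, 3, 4, 2, 0, 5, 3, 5],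
  [0, 4, 1, 3, 5, 0, 5, 3, 0, 5, 0, 5],
  [0, 4, 1, 4, 1, 4, 4, 4, 1, 4, 1, 4],
  [0, 4, 2, 4, 2, 4, 4, 2, 0, 5, 3, 5],
  [0, 4, 4, 2, 2, 5, 0, 4, 4, 2, 2, 5],
  [0, 5, 0, 5, 2, 4, 1, 4, 2, 0, 5, 5],
  [0, 5, 2, 0, 5, 2, 0, 5, 2, 0, 5, 2],
  [0, 5, 2, 2, 4, 4, 0, 5, 2, 2, 4, 4],
  [2, 2, 2, 4, 2, 4, 2, 5, 2, 4, 2, 4],
  [2, 2, 4, 4, 2, 2, 4, 4, 2, 2, 4, 4],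
  [2, 4, 2, 4, 3, 4, 2, 4, 2, 4, 4, 4],
  [2, 4, 3, 4, 2, 5, 2, 4, 3, 4, 2, 5],
  [0, 6, 3, 6, 0, 6, 3, 6],
  [4, 7, 4, 7, 4, 7, 4, 7],
  [0, 5, 6, 3, 4, 2, 4, 4, 3, 4, 7],
  [0, 0, 0, 6, 3, 6, 2, 0, 7, 2, 7, 2],
  [0, 0, 2, 0, 0, 6, 0, 6, 3, 6, 0, 6],
  [0, 0, 2, 0, 7, 2, 7, 1, 7, 2, 7, 2],
  [0, 0, 2, 7, 2, 7, 1, 7, 2, 7, 0, 2],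
  [0, 0, 6, 3, 6, 1, 3, 0, 6, 3, 6, 2],
  [0, 0, 6, 3, 6, 1, 3, 7, 2, 7, 1, 2],
  [0, 0, 6, 3, 6, 1, 4, 0, 6, 3, 6, 5],
  [0, 0, 6, 3, 6, 1, 4, 7, 2, 7, 1, 5],
  [0, 0, 6, 3, 6, 2, 1, 3, 6, 3, 6, 2],
  [0, 0, 7, 2, 7, 1, 2, 0, 7, 2, 7, 2],
  [0, 0, 7, 2, 7, 2, 0, 3, 7, 2, 7, 2],
  [0, 2, 0, 2, 0, 6, 0, 6, 3, 6, 0, 6],
  [0, 2, 0, 2, 7, 2, 7, 1, 7, 2, 7, 2],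
  [0, 2, 0, 3, 1, 7, 1, 7, 2, 7, 1, 7],
  [0, 2, 0, 3, 6, 3, 6, 0, 6, 3, 6, 3],
  [0, 2, 0, 6, 3, 6, 5, 6, 0, 2, 5, 6],
  [0, 2, 0, 7, 1, 7, 2, 7, 1, 7, 1, 3],
  [0, 2, 0, 7, 4, 3, 1, 7, 4, 7, 2, 7],
  [0, 2, 1, 2, 7, 4, 2, 0, 5, 3, 1, 6],
  [0, 2, 1, 3, 6, 3, 6, 0, 6, 3, 6, 2],
  [0, 2, 1, 7, 1, 7, 2, 7, 1, 7, 1, 2],
  [0, 2, 2, 0, 2, 6, 0, 6, 3, 6, 0, 6],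
  [0, 2, 2, 0, 6, 0, 6, 3, 6, 0, 6, 2],
  [0, 2, 2, 2, 7, 0, 2, 4, 1, 3, 5, 6],
  [0, 2, 2, 7, 2, 7, 1, 7, 2, 7, 2, 2],
  [0, 2, 2, 7, 4, 2, 0, 5, 3, 1, 6, 3],
  [0, 2, 4, 2, 2, 7, 3, 1, 6, 3, 3, 5],
  [0, 2, 4, 3, 1, 7, 0, 2, 6, 3, 0, 5],
  [0, 2, 5, 6, 0, 2, 7, 2, 7, 1, 5, 6],
  [0, 2, 5, 6, 2, 0, 2, 6, 3, 6, 5, 6],
  [0, 2, 5, 6, 3, 1, 3, 6, 3, 6, 5, 6],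
  [0, 2, 6, 0, 5, 7, 3, 1, 7, 2, 4, 6],
  [0, 2, 6, 1, 3, 7, 3, 1, 6, 2, 0, 7],
  [0, 2, 6, 3, 4, 2, 4, 2, 0, 5, 2, 7],
  [0, 2, 6, 3, 6, 0, 6, 3, 6, 3, 1, 2],
  [0, 2, 6, 4, 2, 4, 2, 5, 0, 5, 2, 7],
  [0, 2, 7, 2, 7, 2, 5, 2, 7, 2, 7, 4],
  [0, 3, 0, 6, 3, 6, 1, 3, 7, 2, 7, 2],
  [0, 3, 7, 7, 0, 3, 7, 7, 0, 3, 7, 7],
  [0, 4, 3, 6, 0, 4, 3, 6, 0, 4, 3, 6],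
  [0, 4, 3, 7, 5, 6, 0, 4, 3, 7, 5, 6],
  [0, 4, 7, 2, 0, 4, 7, 2, 0, 4, 7, 2],
  [0, 5, 6, 3, 3, 7, 0, 5, 6, 3, 3, 7],
  [0, 5, 6, 3, 6, 3, 0, 5, 6, 3, 6, 3],
  [0, 6, 0, 6, 0, 6, 0, 6, 0, 6, 0, 6],
  [0, 6, 3, 6, 2, 4, 0, 6, 3, 6, 5, 3],
  [0, 6, 3, 6, 2, 4, 7, 2, 7, 1, 5, 3],
  [0, 7, 0, 7, 0, 7, 0, 7, 0, 7, 0, 7],
  [2, 6, 2, 6, 2, 6, 2, 6, 2, 6, 2, 6],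
  [2, 7, 5, 2, 7, 7, 2, 7, 5, 2, 7, 7],
  [0, 0, 4, 4, 0, 0, 5, 7, 3, 1, 6, 3, 3],
  [0, 0, 4, 4, 2, 2, 7, 0, 2, 6, 4, 4, 4],
  [0, 0, 4, 7, 0, 6, 3, 6, 6, 5, 5, 0, 5],
  [0, 0, 4, 7, 7, 2, 7, 1, 6, 5, 5, 0, 5],
  [0, 0, 5, 0, 2, 7, 3, 6, 0, 6, 6, 3, 5],
  [0, 0, 5, 0, 2, 7, 7, 1, 7, 2, 6, 3, 5],
  [0, 0, 5, 3, 7, 3, 6, 0, 6, 6, 2, 0, 5],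
  [0, 0, 5, 3, 7, 7, 1, 7, 2, 6, 2, 0, 5],
  [0, 0, 5, 7, 4, 1, 3, 5, 6, 1, 3, 4, 4],
  [0, 2, 0, 5, 6, 3, 5, 0, 5, 0, 3, 4, 7],
  [0, 2, 0, 5, 6, 3, 7, 1, 3, 6, 3, 6, 6],
  [0, 2, 0, 5, 6, 4, 1, 4, 1, 2, 0, 4, 7],
  [0, 2, 0, 5, 6, 4, 1, 4, 2, 0, 3, 4, 7],
  [0, 2, 0, 6, 3, 5, 7, 2, 7, 2, 2, 7, 7],
  [0, 2, 0, 6, 5, 1, 3, 0, 5, 0, 5, 7, 4],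
  [0, 2, 0, 6, 5, 2, 1, 3, 5, 0, 5, 7, 4],
  [0, 2, 0, 6, 5, 2, 1, 4, 1, 4, 2, 7, 4],
  [0, 2, 0, 6, 6, 3, 3, 6, 3, 6, 4, 2, 7],
  [0, 2, 0, 7, 7, 2, 7, 2, 0, 6, 2, 7, 4],
  [0, 2, 1, 7, 1, 6, 1, 5, 5, 1, 3, 4, 6],
  [0, 2, 2, 4, 1, 3, 4, 3, 4, 7, 3, 5, 6],
  [0, 2, 2, 7, 4, 2, 6, 5, 2, 5, 2, 0, 5],
  [0, 2, 4, 1, 6, 5, 2, 5, 2, 0, 5, 2, 7],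
  [0, 2, 4, 3, 3, 0, 7, 0, 5, 6, 1, 2, 4],
  [0, 2, 4, 3, 4, 7, 7, 3, 1, 7, 4, 3, 4],
  [0, 2, 5, 0, 6, 3, 5, 6, 0, 2, 5, 1, 6],
  [0, 2, 5, 1, 3, 4, 7, 4, 0, 5, 6, 3, 7],
  [0, 2, 5, 2, 6, 3, 7, 1, 6, 4, 2, 2, 5],
  [0, 2, 5, 2, 7, 5, 0, 5, 0, 3, 4, 3, 6],
  [0, 2, 5, 6, 3, 5, 0, 5, 0, 3, 4, 7, 2],
  [0, 2, 5, 6, 3, 7, 1, 3, 6, 3, 6, 6, 2],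
  [0, 2, 5, 6, 4, 1, 4, 1, 2, 0, 4, 7, 2],
  [0, 2, 5, 6, 4, 1, 4, 2, 0, 3, 4, 7, 2],
  [0, 2, 6, 3, 5, 7, 2, 7, 2, 2, 7, 7, 2],
  [0, 2, 6, 5, 1, 3, 0, 5, 0, 5, 7, 4, 2],
  [0, 2, 6, 5, 2, 1, 3, 5, 0, 5, 7, 4, 2],
  [0, 2, 6, 5, 2, 1, 4, 1, 4, 2, 7, 4, 2],
  [0, 2, 6, 6, 3, 3, 6, 3, 6, 4, 2, 7, 2],
  [0, 2, 6, 6, 3, 6, 3, 3, 5, 2, 7, 4, 6],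
  [0, 2, 7, 1, 6, 1, 5, 5, 1, 3, 4, 6, 3],
  [0, 2, 7, 7, 2, 7, 2, 0, 6, 2, 7, 4, 2],
  [0, 4, 3, 4, 3, 4, 7, 4, 6, 2, 7, 4, 4],
  [0, 4, 3, 4, 3, 7, 5, 2, 7, 2, 0, 4, 7],
  [0, 4, 3, 4, 7, 0, 5, 6, 3, 0, 5, 3, 5],
  [0, 4, 6, 3, 4, 1, 6, 0, 7, 7, 2, 6, 3],
  [0, 4, 7, 0, 5, 0, 5, 7, 4, 3, 4, 7, 2],
  [0, 4, 7, 0, 6, 3, 6, 6, 1, 4, 1, 4, 4],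
  [0, 4, 7, 7, 2, 7, 1, 6, 1, 4, 1, 4, 4],
  [0, 5, 2, 7, 7, 2, 7, 0, 5, 6, 3, 7, 5],
  [0, 5, 6, 3, 3, 5, 2, 2, 4, 2, 4, 4, 7],
  [0, 5, 6, 3, 3, 5, 2, 5, 5, 3, 5, 3, 7],
  [0, 5, 6, 3, 3, 5, 5, 3, 5, 3, 3, 4, 7],
  [0, 5, 6, 3, 7, 5, 0, 6, 3, 6, 6, 3, 4],
  [0, 5, 6, 3, 7, 5, 7, 2, 7, 1, 6, 3, 4],
  [0, 5, 6, 4, 2, 4, 2, 5, 3, 4, 3, 4, 7],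
  [2, 2, 2, 7, 7, 2, 2, 7, 7, 4, 2, 6, 4],
  [0, 0, 6, 3, 6, 2, 2, 1, 3, 1, 6, 3, 6, 2],
  [0, 2, 5, 2, 7, 0, 2, 6, 3, 0, 5, 3, 5, 2],
  [0, 5, 3, 5, 0, 5, 7, 1, 7, 2, 7, 1, 7, 5],
  [0, 4, 7, 2, 7, 2, 5, 0, 6, 3, 6, 2, 5, 2],
  [0, 4, 2, 4, 1, 5, 7, 3, 5, 6, 2, 2, 2, 4],
  [0, 0, 2, 2, 7, 7, 2, 0, 6, 6, 4, 3, 4, 4],
  [0, 2, 0, 5, 6, 1, 3, 1, 6, 3, 6, 5, 6, 3],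
  [0, 0, 6, 3, 6, 1, 1, 5, 2, 7, 2, 7, 4, 3],
  [0, 2, 2, 7, 4, 1, 4, 2, 0, 2, 4, 2, 6, 3],
  [0, 4, 1, 2, 7, 7, 3, 4, 3, 4, 2, 7, 4, 2],
  [0, 2, 2, 5, 2, 5, 1, 7, 3, 4, 3, 4, 3, 6],
  [0, 2, 2, 6, 3, 6, 5, 6, 0, 2, 5, 6, 1, 2],
  [0, 2, 6, 3, 6, 2, 1, 3, 6, 3, 6, 1, 2, 2],
  [0, 2, 1, 5, 6, 0, 2, 7, 2, 7, 1, 5, 6, 2],
  [0, 4, 4, 0, 5, 5, 3, 7, 5, 6, 0, 4, 7, 5],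
  [0, 2, 0, 3, 5, 3, 1, 6, 3, 3, 3, 1, 7, 4],
  [0, 0, 5, 0, 2, 4, 0, 3, 7, 0, 2, 6, 2, 2],
  [0, 2, 2, 7, 3, 5, 0, 5, 0, 2, 4, 2, 6, 3],
  [0, 0, 2, 0, 4, 2, 2, 7, 0, 2, 6, 3, 3, 5],
  [0, 5, 2, 7, 2, 7, 2, 7, 4, 2, 4, 1, 2, 7],
  [0, 2, 1, 6, 1, 3, 7, 3, 1, 6, 2, 0, 7, 2],
  [0, 2, 2, 2, 7, 3, 1, 4, 2, 0, 5, 0, 2, 6],
  [0, 2, 5, 7, 2, 6, 4, 3, 4, 1, 5, 2, 1, 6],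
  [0, 4, 2, 2, 7, 4, 2, 2, 7, 3, 7, 2, 7, 2],
  [0, 4, 3, 4, 0, 4, 7, 2, 7, 2, 7, 2, 7, 4],
  [0, 0, 0, 2, 0, 7, 0, 2, 4, 1, 3, 5, 6, 3],
  [0, 2, 7, 2, 7, 1, 4, 1, 3, 5, 7, 2, 7, 5],
  [0, 2, 2, 4, 1, 2, 7, 3, 1, 6, 0, 2, 5, 2],
  [0, 2, 0, 5, 6, 5, 1, 3, 4, 3, 1, 5, 1, 7],
  [0, 3, 0, 7, 4, 1, 6, 5, 3, 4, 3, 4, 2, 5],
  [2, 2, 7, 7, 4, 4, 2, 6, 6, 6, 3, 7, 3, 4],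
  [0, 2, 0, 4, 2, 6, 3, 0, 2, 2, 7, 4, 1, 4],
  [0, 2, 5, 6, 3, 0, 7, 2, 7, 1, 2, 0, 5, 6],
  [0, 0, 5, 6, 0, 2, 2, 2, 7, 0, 2, 4, 0, 2],
  [0, 2, 0, 7, 4, 3, 1, 5, 6, 5, 6, 5, 2, 7],
  [0, 0, 2, 0, 5, 6, 3, 6, 3, 4, 3, 6, 3, 6],
  [0, 0, 2, 0, 2, 7, 0, 2, 4, 1, 3, 5, 6, 3],
  [0, 0, 2, 0, 4, 1, 2, 7, 3, 1, 6, 0, 2, 5],
  [0, 2, 6, 3, 6, 2, 0, 7, 2, 7, 1, 2, 2, 2],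
  [0, 2, 4, 6, 3, 6, 4, 2, 0, 5, 7, 2, 7, 2],
  [0, 0, 0, 5, 5, 2, 1, 5, 5, 7, 0, 2, 6, 4],
  [0, 2, 1, 5, 6, 2, 0, 2, 6, 3, 6, 5, 6, 2],
  [0, 2, 7, 1, 3, 4, 7, 2, 0, 6, 5, 2, 0, 6],
  [0, 2, 0, 4, 0, 6, 0, 4, 7, 2, 0, 4, 3, 6],
  [0, 2, 2, 2, 7, 0, 5, 0, 2, 4, 2, 4, 2, 6],
  [0, 3, 4, 1, 3, 4, 7, 7, 2, 2, 7, 5, 3, 5],
  [0, 5, 5, 7, 2, 2, 7, 4, 1, 2, 4, 6, 6, 3],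
  [0, 2, 4, 2, 2, 6, 3, 0, 5, 6, 4, 6, 3, 6],
  [0, 2, 0, 4, 1, 3, 5, 6, 3, 0, 3, 1, 7, 3],
  [2, 2, 7, 5, 2, 5, 2, 5, 7, 3, 5, 3, 5, 7],
  [0, 2, 2, 2, 7, 3, 5, 3, 1, 3, 5, 0, 5, 6],
  [0, 6, 3, 6, 1, 6, 3, 3, 5, 6, 3, 3, 5, 3],
  [0, 2, 5, 0, 5, 1, 7, 2, 7, 2, 2, 6, 3, 6],
  [0, 2, 0, 4, 3, 1, 7, 0, 2, 6, 3, 0, 5, 3],
  [0, 2, 1, 2, 7, 5, 3, 5, 3, 5, 1, 4, 1, 6],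
  [0, 2, 0, 4, 2, 6, 3, 3, 3, 1, 7, 4, 1, 4],
  [0, 2, 6, 6, 2, 1, 6, 6, 2, 1, 6, 6, 1, 3],
  [0, 2, 0, 4, 1, 3, 5, 6, 0, 2, 2, 2, 7, 3],
  [0, 6, 3, 3, 5, 6, 3, 3, 5, 0, 7, 2, 7, 2],
  [0, 2, 2, 6, 2, 0, 7, 0, 2, 6, 1, 3, 7, 2],
  [0, 2, 0, 6, 3, 6, 4, 1, 3, 5, 7, 2, 7, 5],
  [0, 5, 2, 5, 3, 5, 0, 6, 3, 3, 6, 6, 5, 2],
  [0, 2, 2, 1, 7, 2, 7, 2, 5, 0, 5, 6, 3, 6],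
  [0, 2, 5, 0, 5, 2, 7, 0, 2, 6, 0, 5, 3, 5],
  [0, 2, 6, 3, 4, 3, 5, 5, 0, 5, 3, 3, 5, 7],
  [0, 0, 5, 6, 0, 2, 1, 6, 2, 6, 3, 0, 5, 6],
  [0, 2, 0, 2, 7, 4, 7, 2, 7, 0, 2, 0, 7, 4],
  [0, 2, 6, 2, 5, 5, 0, 5, 0, 7, 4, 6, 0, 6],
  [0, 3, 3, 6, 3, 6, 0, 4, 1, 4, 3, 6, 3, 6],
  [0, 2, 0, 6, 4, 1, 7, 3, 1, 7, 5, 3, 6, 3],
  [0, 0, 6, 3, 6, 1, 4, 3, 1, 7, 4, 3, 1, 7],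
  [0, 4, 0, 4, 0, 6, 3, 0, 4, 0, 4, 0, 6, 3],
  [0, 2, 1, 2, 7, 4, 1, 4, 2, 0, 2, 4, 2, 6],
  [0, 5, 3, 3, 5, 0, 5, 5, 7, 4, 1, 3, 5, 6],
  [0, 2, 7, 4, 7, 4, 0, 6, 3, 4, 0, 6, 3, 4],
  [0, 2, 2, 7, 4, 3, 1, 3, 3, 5, 3, 1, 6, 3],
  [0, 4, 7, 4, 7, 1, 7, 1, 3, 6, 5, 2, 7, 4],
  [0, 2, 2, 7, 5, 3, 6, 0, 2, 6, 4, 1, 7, 2],
  [0, 2, 6, 5, 1, 3, 6, 5, 1, 3, 6, 5, 2, 2],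
  [0, 2, 0, 2, 7, 4, 7, 2, 7, 2, 0, 2, 7, 4],
  [0, 2, 0, 7, 2, 5, 1, 3, 6, 5, 1, 7, 1, 5],
  [0, 2, 0, 6, 3, 6, 0, 2, 5, 2, 7, 2, 7, 4],
  [0, 2, 5, 5, 1, 5, 7, 3, 1, 6, 4, 0, 4, 4],
  [0, 2, 2, 7, 4, 2, 4, 2, 4, 1, 4, 1, 6, 3],
  [0, 2, 2, 7, 5, 3, 5, 3, 5, 1, 4, 1, 6, 3],
  [0, 2, 1, 6, 3, 0, 5, 0, 2, 4, 3, 1, 7, 2],
  [0, 2, 5, 6, 2, 0, 2, 6, 3, 4, 7, 4, 7, 4],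
  [0, 0, 2, 0, 6, 0, 2, 5, 3, 1, 4, 1, 2, 7],
  [0, 2, 2, 7, 2, 7, 4, 1, 4, 3, 1, 7, 2, 7],
  [0, 2, 0, 5, 0, 5, 6, 3, 3, 1, 2, 7, 3, 5],
  [0, 2, 1, 6, 4, 1, 7, 3, 1, 7, 5, 3, 6, 2],
  [0, 2, 2, 1, 5, 5, 2, 5, 7, 7, 1, 3, 6, 6],
  [0, 2, 6, 4, 4, 1, 3, 5, 3, 3, 5, 2, 2, 7],
  [0, 2, 0, 2, 6, 3, 3, 3, 1, 7, 4, 2, 0, 5],
  [0, 2, 1, 4, 2, 2, 7, 3, 1, 6, 3, 3, 5, 2],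
  [0, 2, 4, 7, 2, 7, 1, 5, 1, 3, 6, 3, 6, 2],
  [0, 2, 7, 2, 7, 2, 0, 4, 7, 2, 7, 1, 5, 2],
  [0, 2, 6, 5, 5, 5, 5, 0, 3, 4, 1, 5, 3, 7],
  [0, 2, 1, 5, 1, 3, 0, 4, 7, 7, 1, 3, 6, 6],
  [0, 0, 3, 7, 3, 1, 6, 2, 1, 5, 3, 1, 4, 2],
  [0, 4, 7, 2, 7, 1, 5, 2, 5, 6, 3, 6, 3, 4],
  [0, 2, 6, 4, 3, 5, 0, 5, 2, 4, 2, 2, 2, 7],
  [0, 2, 2, 7, 7, 1, 4, 2, 7, 5, 6, 5, 1, 5],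
  [0, 0, 5, 6, 3, 0, 3, 1, 7, 0, 2, 4, 0, 2],
  [0, 2, 0, 2, 5, 6, 3, 6, 3, 4, 3, 6, 3, 6],
  [0, 2, 4, 1, 2, 0, 5, 3, 5, 7, 0, 2, 6, 3],
  [0, 3, 4, 7, 7, 7, 2, 7, 2, 0, 6, 5, 0, 5],
  [0, 2, 1, 4, 4, 0, 2, 4, 0, 7, 3, 5, 6, 3],
  [0, 2, 2, 7, 3, 5, 3, 5, 3, 1, 4, 1, 6, 3],
  [0, 5, 2, 7, 1, 2, 7, 0, 5, 3, 5, 6, 6, 3],
  [0, 2, 2, 6, 3, 6, 3, 4, 2, 6, 3, 0, 2, 6],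
  [0, 0, 2, 0, 6, 3, 4, 1, 3, 5, 3, 5, 2, 7],
  [0, 2, 0, 7, 2, 7, 2, 0, 4, 7, 2, 7, 1, 5],
  [0, 2, 6, 0, 5, 7, 3, 6, 3, 6, 0, 6, 4, 6],
  [0, 2, 5, 6, 3, 0, 7, 2, 7, 2, 0, 3, 5, 6],
  [0, 2, 5, 2, 7, 2, 7, 4, 7, 4, 3, 1, 7, 4],
  [0, 2, 7, 1, 7, 2, 0, 6, 0, 6, 0, 6, 0, 6],
  [0, 2, 6, 3, 6, 1, 3, 0, 6, 3, 6, 1, 2, 2],
  [0, 2, 0, 2, 6, 2, 0, 7, 0, 2, 6, 1, 3, 7],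
  [0, 2, 0, 2, 6, 1, 3, 7, 0, 2, 6, 2, 0, 7],
  [0, 2, 2, 7, 4, 3, 1, 7, 4, 7, 2, 7, 1, 2],
  [0, 2, 0, 4, 2, 6, 0, 2, 1, 2, 7, 4, 1, 4],
  [0, 0, 0, 6, 3, 6, 1, 1, 3, 6, 3, 6, 0, 2],
  [0, 2, 0, 3, 3, 0, 6, 3, 6, 1, 3, 7, 2, 7],
  [0, 2, 4, 6, 3, 6, 3, 5, 3, 6, 3, 6, 3, 5],
  [0, 4, 0, 7, 2, 6, 3, 0, 5, 2, 2, 7, 3, 4],
  [0, 4, 4, 0, 5, 5, 5, 1, 7, 4, 6, 2, 7, 5],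
  [0, 2, 1, 6, 4, 2, 4, 2, 5, 0, 5, 2, 7, 2],
  [0, 2, 4, 0, 6, 0, 4, 7, 2, 0, 4, 3, 6, 2],
  [0, 4, 6, 2, 6, 0, 5, 0, 4, 6, 2, 6, 0, 5],
  [0, 2, 5, 2, 7, 2, 7, 4, 3, 1, 3, 6, 3, 6],
  [0, 2, 1, 3, 6, 3, 6, 2, 4, 0, 6, 3, 6, 5],
  [0, 4, 3, 4, 6, 3, 4, 4, 3, 4, 7, 4, 2, 2],
  [0, 2, 0, 6, 0, 4, 0, 2, 5, 2, 0, 4, 7, 4],
  [0, 2, 6, 3, 6, 4, 1, 3, 5, 7, 2, 7, 5, 2],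
  [0, 5, 3, 5, 7, 2, 7, 1, 7, 2, 7, 5, 3, 5],
  [0, 0, 0, 4, 3, 4, 6, 3, 0, 6, 6, 0, 0, 5],
  [0, 2, 1, 5, 6, 3, 1, 3, 6, 3, 6, 5, 6, 2],
  [0, 2, 4, 0, 3, 7, 0, 2, 6, 1, 3, 3, 0, 5],
  [0, 0, 6, 3, 6, 2, 0, 7, 2, 7, 3, 1, 3, 3],
  [0, 2, 4, 0, 7, 3, 5, 6, 3, 3, 0, 2, 4, 4],
  [0, 2, 5, 2, 0, 4, 7, 4, 2, 0, 2, 6, 0, 4],
  [0, 2, 0, 3, 5, 3, 1, 6, 0, 2, 1, 2, 7, 4],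
  [0, 2, 2, 2, 7, 0, 5, 0, 4, 2, 4, 2, 4, 6],
  [0, 0, 2, 0, 7, 4, 7, 2, 7, 0, 2, 0, 7, 4],
  [0, 2, 2, 7, 3, 1, 2, 7, 3, 5, 2, 7, 2, 7],
  [0, 2, 1, 4, 2, 0, 5, 0, 5, 2, 7, 3, 1, 6],
  [2, 5, 2, 6, 3, 6, 5, 2, 5, 2, 6, 3, 6, 5],
  [0, 4, 7, 1, 5, 2, 5, 6, 5, 2, 7, 4, 7, 4],
  [0, 2, 6, 4, 3, 3, 3, 0, 3, 4, 0, 3, 4, 7],
  [0, 3, 5, 5, 3, 3, 0, 4, 7, 7, 5, 2, 7, 4],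
  [0, 2, 2, 0, 7, 0, 5, 6, 3, 3, 7, 0, 5, 6],
  [0, 2, 2, 7, 3, 1, 7, 3, 1, 7, 3, 4, 3, 4],
  [0, 2, 1, 4, 1, 2, 0, 5, 3, 5, 7, 0, 2, 6],
  [0, 3, 0, 6, 3, 6, 2, 2, 5, 6, 3, 6, 3, 4],
  [0, 2, 1, 2, 7, 7, 3, 1, 6, 3, 0, 5, 5, 6],
  [0, 0, 0, 2, 0, 3, 0, 6, 0, 6, 3, 6, 0, 6],
  [0, 2, 4, 3, 1, 5, 0, 4, 7, 7, 1, 7, 1, 6],
  [0, 2, 6, 4, 2, 4, 4, 1, 2, 7, 7, 1, 4, 6],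
  [0, 2, 1, 2, 7, 4, 1, 2, 0, 2, 5, 3, 1, 6],
  [0, 2, 2, 6, 1, 3, 7, 0, 2, 6, 2, 0, 7, 2],
  [0, 4, 7, 4, 3, 6, 5, 6, 3, 4, 0, 6, 0, 6],
  [0, 5, 2, 7, 7, 2, 5, 2, 5, 5, 3, 5, 7, 5],
  [0, 2, 0, 2, 6, 3, 4, 1, 3, 5, 3, 5, 2, 7],
  [0, 2, 5, 0, 4, 1, 5, 0, 6, 3, 7, 5, 6, 3],
  [0, 2, 0, 2, 7, 0, 2, 6, 3, 0, 5, 0, 2, 4],
  [0, 0, 4, 7, 3, 6, 4, 6, 3, 1, 6, 2, 1, 3],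
  [0, 2, 5, 0, 4, 3, 4, 3, 0, 6, 0, 2, 6, 6],
  [0, 6, 3, 6, 4, 7, 1, 7, 4, 7, 4, 0, 6, 5],
  [0, 0, 2, 0, 6, 0, 2, 1, 2, 7, 4, 2, 0, 5],
  [0, 0, 2, 5, 5, 2, 5, 7, 7, 1, 3, 6, 6, 3],
  [0, 0, 3, 7, 2, 7, 5, 5, 0, 7, 0, 3, 1, 7],
  [0, 0, 0, 6, 3, 6, 1, 2, 5, 6, 3, 6, 3, 4],
  [0, 2, 2, 5, 2, 5, 2, 6, 0, 2, 6, 0, 2, 6],
  [0, 0, 0, 6, 3, 6, 1, 2, 0, 2, 7, 2, 7, 2],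
  [0, 2, 0, 6, 3, 4, 2, 4, 2, 0, 5, 2, 7, 3],
  [0, 2, 0, 5, 6, 0, 2, 0, 6, 3, 6, 5, 6, 3],
  [0, 2, 6, 3, 4, 1, 2, 4, 4, 1, 4, 2, 5, 7],
  [0, 0, 5, 6, 3, 3, 1, 2, 7, 0, 2, 4, 0, 2],
  [0, 2, 0, 2, 7, 4, 0, 6, 3, 6, 3, 1, 7, 4],
  [0, 2, 6, 3, 5, 3, 5, 3, 5, 5, 0, 5, 2, 7],
  [0, 4, 3, 4, 4, 4, 3, 4, 7, 4, 1, 4, 2, 6],
  [0, 0, 2, 5, 5, 1, 7, 7, 5, 6, 2, 7, 2, 7],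
  [0, 2, 0, 2, 6, 0, 2, 5, 3, 1, 4, 1, 2, 7],
  [0, 2, 0, 2, 4, 1, 2, 7, 3, 1, 6, 0, 2, 5],
  [0, 2, 5, 7, 4, 1, 3, 5, 6, 4, 2, 0, 5, 5],
  [0, 4, 7, 2, 7, 4, 3, 6, 3, 6, 3, 4, 3, 4],
  [0, 3, 0, 3, 3, 5, 2, 5, 7, 0, 5, 6, 3, 5],
  [0, 2, 0, 6, 1, 3, 7, 3, 1, 6, 2, 0, 7, 3],
  [0, 2, 0, 6, 3, 6, 5, 6, 3, 3, 1, 3, 5, 6],
  [0, 2, 2, 5, 6, 3, 6, 3, 4, 3, 6, 3, 6, 2],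
  [0, 2, 1, 2, 7, 2, 4, 2, 4, 2, 1, 4, 1, 6],
  [0, 2, 2, 7, 4, 1, 4, 3, 1, 3, 4, 2, 6, 3],
  [0, 2, 2, 7, 2, 4, 2, 4, 2, 1, 4, 1, 6, 3],
  [0, 0, 6, 0, 6, 3, 6, 0, 6, 0, 3, 3, 1, 3],
  [0, 0, 2, 0, 3, 3, 6, 3, 6, 0, 6, 3, 6, 3],
  [0, 2, 0, 7, 3, 1, 6, 2, 0, 7, 0, 2, 6, 2],
  [0, 2, 1, 6, 0, 2, 2, 6, 3, 6, 3, 4, 2, 6],
  [0, 2, 1, 2, 7, 4, 3, 1, 3, 3, 5, 3, 1, 6],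
  [0, 2, 2, 2, 7, 0, 2, 4, 3, 1, 3, 0, 5, 6]]
def g4 : List (List ℕ) := [[0], [2], [4], [6]]

/-- the generators as words in the seven involutions of the presentation of the definitions -/
def wups : Cfsg.Agent.Helper4.Pres.HeK.Gen → List ℕ
  | .p => [0, 10, 2, 4, 6, 8, 2, 4, 6, 8, 2, 4, 6, 8, 2, 4, 6, 8, 2, 4, 6, 8, 2, 4, 6, 8, 2]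
  | .q => [4, 2, 4, 6, 8, 2, 4, 6, 8, 2, 4, 6, 8, 2, 4, 6, 8, 2, 4, 6, 8, 2, 4, 6, 8, 2, 4, 0, 10]
  | .r => [0, 2, 4, 6, 8, 2, 4, 6, 8, 2, 4, 6, 8, 2, 4, 6, 8, 2, 4, 6, 8, 2, 4, 6, 8, 2, 10]
  | .s => [2, 4, 6, 10]
/-- the seven involutions as words in the generators -/
def vups : Cfsg.Spor.He.Gen → List ℕ
  | .a => [4, 1, 1, 5, 1, 5, 1, 4, 1]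
  | .b => [6, 1, 3, 5, 0, 5, 5, 1, 5]
  | .c => [4, 0, 2, 5, 1, 5, 1, 3]
  | .d => [7, 2, 0, 5, 3, 5, 3, 6]
  | .e => [7, 3, 1, 6, 3, 0, 5, 1]
  | .f => [2, 0, 5, 3, 5, 3]
  | .g => [5, 3, 1, 6, 0, 4, 3, 7, 2, 4, 1]

theorem hb4 : HeKS4.bases = exL ++ Schur.weakify0 g4 ceL := by decide +kernel

theorem card1 : Finite (PresentedGroup (relSet HeKCod.dec HeKS1.bases)) ∧ Nat.card (PresentedGroup (relSet HeKCod.dec HeKS1.bases)) ≤ 17 := by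
  refine stage_bot _ _ ?_ _ HeKS1.bound
  rintro s ⟨b, hb, _⟩
  simp [HeKS1.subsL] at hb

theorem card2 : Finite (PresentedGroup (relSet HeKCod.dec HeKS2.bases)) ∧ Nat.card (PresentedGroup (relSet HeKCod.dec HeKS2.bases)) ≤ 4080 := by
  have h := stage_bound (relSet HeKCod.dec HeKS2.bases) (relSet HeKCod.dec HeKS1.bases) (relSet HeKCod.dec HeKS2.subsL) HeKS2.bases HeKS1.bases HeKS2.subsL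
    (fun x : Cfsg.Agent.Helper4.Pres.HeK.Gen => decide (x ∈ ([.p] : List Cfsg.Agent.Helper4.Pres.HeK.Gen))) (mem_relSet _) (fun r hr => hr) (fun s hs => hs) (by decide +kernel) (by decide +kernel) HeKS2.n 17 HeKS2.bound card1
  exact ⟨h.1, h.2.trans (by decide)⟩

theorem card3 : Finite (PresentedGroup (relSet HeKCod.dec HeKS3.bases)) ∧ Nat.card (PresentedGroup (relSet HeKCod.dec HeKS3.bases)) ≤ 979200 := by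
  have h := stage_bound (relSet HeKCod.dec HeKS3.bases) (relSet HeKCod.dec HeKS2.bases) (relSet HeKCod.dec HeKS3.subsL) HeKS3.bases HeKS2.bases HeKS3.subsL
    (fun x : Cfsg.Agent.Helper4.Pres.HeK.Gen => decide (x ∈ ([.p, .q] : List Cfsg.Agent.Helper4.Pres.HeK.Gen))) (mem_relSet _) (fun r hr => hr) (fun s hs => hs) (by decide +kernel) (by decide +kernel) HeKS3.n 4080 HeKS3.bound card2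
  exact ⟨h.1, h.2.trans (by decide)⟩

theorem card4 : Finite (PresentedGroup (relSet HeKCod.dec HeKS4.bases)) ∧ Nat.card (PresentedGroup (relSet HeKCod.dec HeKS4.bases)) ≤ 4030387200 := by
  have h := stage_bound (relSet HeKCod.dec HeKS4.bases) (relSet HeKCod.dec HeKS3.bases) (relSet HeKCod.dec HeKS4.subsL) HeKS4.bases HeKS3.bases HeKS4.subsL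
    (fun x : Cfsg.Agent.Helper4.Pres.HeK.Gen => decide (x ∈ ([.p, .q, .r] : List Cfsg.Agent.Helper4.Pres.HeK.Gen))) (mem_relSet _) (fun r hr => hr) (fun s hs => hs) (by decide +kernel) (by decide +kernel) HeKS4.n 979200 HeKS4.bound card3
  exact ⟨h.1, h.2.trans (by decide)⟩

end Cfsg.Agent.Helper4.TC.HeKSD
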