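import Cfsg.Agent.Lib.Helper4.TC.HeKIso

set_option autoImplicit false
set_option maxRecDepth 100000
set_option linter.unusedVariables false
set_option linter.style.haveILetI false

/-! The Schur multiplier of the Held group is trivial: a stem extension of the group presented on
four elements of order 17, with kernel of exponent dividing 210, is a quotient of the group in
which the relators which are not products of two conjugates of powers of the generators are only
central, and this group has the order of the Held group. -/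

namespace Cfsg.Agent.Helper4.TC.HeKSchur

open Cfsg Cfsg.Agent.Helper4.TC Cfsg.Agent.Helper4.TC.HeKIso
open Cfsg.Agent.Helper4.Pres.HeK (Gen)

theorem mem_allL_of_exL (b : List ℕ) (hb : b ∈ HeKSD.exL) : b ∈ allL := by
  unfold allL
  exact List.mem_append_left _ (List.mem_append_left _ hb)

theorem mem_allL_of_ceL (b : List ℕ) (hb : b ∈ HeKSD.ceL) : b ∈ allL := by
  unfold allL
  exact List.mem_append_left _ (List.mem_append_right _ hb)

theorem rel_one (b : List ℕ) (hb : b ∈ allL) :
    evc (PresentedGroup.of (rels := RP)) decK b = 1 := by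
  rw [evc_of]
  exact PresentedGroup.one_of_mem (mem_relSet _ b hb)

/-- the word of the 17th power of a generator -/
theorem evc_pow17 {Q : Type*} [Group Q] (f : Gen → Q) (c : ℕ) :
    evc f decK (wpow [c] 17) = (gl f (decK c)) ^ 17 := by
  rw [evc_wpow, evc_cons, evc_nil, one_mul]

theorem of_pow17 (k : Gen) : (PresentedGroup.of k : P) ^ 17 = 1 := by
  cases k
  · have h := rel_one (wpow [0] 17) (mem_allL_of_exL _ (by decide))
    rw [evc_pow17] at h
    exact h
  · have h := rel_one (wpow [2] 17) (mem_allL_of_exL _ (by decide))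
    rw [evc_pow17] at h
    exact h
  · have h := rel_one (wpow [4] 17) (mem_allL_of_exL _ (by decide))
    rw [evc_pow17] at h
    exact h
  · have h := rel_one (wpow [6] 17) (mem_allL_of_exL _ (by decide))
    rw [evc_pow17] at h
    exact h

theorem mem_pwL (b : List ℕ) (hb : b ∈ HeKSD.pwL) :
    b = wpow [0] 17 ∨ b = wpow [2] 17 ∨ b = wpow [4] 17 ∨ b = wpow [6] 17 := by
  simp only [HeKSD.pwL, List.mem_cons, List.not_mem_nil, or_false] at hb
  rcases hb with rfl | rfl | rfl | rfl
  · exact Or.inl rfl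
  · exact Or.inr (Or.inl rfl)
  · exact Or.inr (Or.inr (Or.inl rfl))
  · exact Or.inr (Or.inr (Or.inr rfl))

theorem card_le {Γ : Type*} [Group Γ] [Finite Γ] (σ : Γ →* P) (hσ : IsStemExtension σ)
    (hexp : ∀ z ∈ σ.ker, z ^ 210 = 1) : Nat.card Γ ≤ 4030387200 := by
  choose l hl using fun k : Gen => hσ.1 (PresentedGroup.of k)
  have hcen := hσ.2.1
  obtain ⟨g, hgdef⟩ : ∃ g : Gen → Γ, g = fun k => (l k) ^ 630 := ⟨_, rfl⟩
  have hg : ∀ k, σ (g k) = PresentedGroup.of k := by
    intro k
    rw [hgdef]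
    show σ ((l k) ^ 630) = _
    rw [Schur.map_pow_lift σ (l k) 17 630 (by rw [hl]; exact of_pow17 k) (by norm_num), hl]
  have hord : ∀ k, g k ^ 17 = 1 := by
    intro k
    rw [hgdef]
    exact Schur.pow_lift_eq_one σ 210 hexp (l k) 17 630 (by rw [hl]; exact of_pow17 k)
      (by norm_num)
  have hex : ∀ b ∈ HeKSD.exL, evc g decK b = 1 := by
    intro b hb
    have hb0 := hb
    unfold HeKSD.exL at hb
    rcases List.mem_append.mp hb with h | h
    · rcases mem_pwL b h with rfl | rfl | rfl | rfl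
      · rw [evc_pow17]
        exact hord .p
      · rw [evc_pow17]
        exact hord .q
      · rw [evc_pow17]
        exact hord .r
      · rw [evc_pow17]
        exact hord .s
    · obtain ⟨d, hd, rfl⟩ := List.mem_map.mp h
      exact Schur.evc_pairW_eq_one HeKCod.coding σ hcen 210 hexp g hg 17 (by norm_num) hord d
        (mem_relSet _ _ (mem_allL_of_exL _ hb0))
  have hW := HeKSD.card4
  rw [HeKSD.hb4] at hW
  exact Schur.card_le_of_weak0 HeKCod.coding σ hσ g hg HeKSD.exL HeKSD.ceL HeKSD.g4 hex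
    (fun ρ hρ => mem_relSet _ ρ (mem_allL_of_ceL ρ hρ)) 4030387200 hW

theorem dvd_210 {Γ : Type*} [Group Γ] (K : Subgroup Γ) (r : ℕ) (hr : r ∣ 210)
    (h : ∀ z ∈ K, z ^ r = 1) : ∀ z ∈ K, z ^ 210 = 1 := by
  intro z hz
  obtain ⟨t, ht⟩ := hr
  rw [ht, pow_mul, h z hz, one_pow]

theorem small_primes : ∀ r < 5, r.Prime → r ^ 2 ∣ 17 → False := by decide +kernel

theorem bad_primes (N : ℕ) (hN : N = 2 ^ 10 * 3 ^ 3 * 5 ^ 2 * 7 ^ 3 * 17) (r : ℕ) (hr : r.Prime)
    (hf : 1 < N.factorization r) : r ∣ 210 := by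
  have hN0 : N ≠ 0 := by
    rw [hN]
    norm_num
  have hd : r ^ 2 ∣ N := (hr.pow_dvd_iff_le_factorization hN0).mpr hf
  by_contra hne
  have hc210 : Nat.Coprime r 210 := (Nat.Prime.coprime_iff_not_dvd hr).mpr hne
  have hc2 : Nat.Coprime r 2 := Nat.Coprime.coprime_dvd_right (by norm_num) hc210
  have hc3 : Nat.Coprime r 3 := Nat.Coprime.coprime_dvd_right (by norm_num) hc210
  have hc5 : Nat.Coprime r 5 := Nat.Coprime.coprime_dvd_right (by norm_num) hc210
  have hc7 : Nat.Coprime r 7 := Nat.Coprime.coprime_dvd_right (by norm_num) hc210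
  have hc : Nat.Coprime (r ^ 2) (2 ^ 10 * 3 ^ 3 * 5 ^ 2 * 7 ^ 3) :=
    Nat.Coprime.pow_left 2 (Nat.Coprime.mul_right (Nat.Coprime.mul_right
      (Nat.Coprime.mul_right (hc2.pow_right 10) (hc3.pow_right 3)) (hc5.pow_right 2))
      (hc7.pow_right 3))
  rw [hN] at hd
  have hd2 : r ^ 2 ∣ 17 := hc.dvd_of_dvd_mul_left hd
  have hle : r ^ 2 ≤ 17 := Nat.le_of_dvd (by norm_num) hd2
  have hr5 : r < 5 := by nlinarith
  exact small_primes r hr5 hr hd2

theorem ker_trivial_of_card_le {Q : Type} [Group Q] [Finite Q] (N : ℕ) (hN : Nat.card Q = N)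
    (hN0 : 0 < N) {Γ : Type} [Group Γ] [Finite Γ] (σ : Γ →* Q) (hσ : IsStemExtension σ)
    (hle : Nat.card Γ ≤ N) : ∀ z ∈ σ.ker, z = 1 := by
  have h1 : Nat.card σ.ker * N = Nat.card Γ := by
    rw [← Subgroup.card_mul_index σ.ker, Subgroup.index_ker, MonoidHom.range_eq_top.mpr hσ.1,
      Subgroup.card_top, hN]
  have hpos : 0 < Nat.card σ.ker := Nat.card_pos
  have h2 : Nat.card σ.ker = 1 := by nlinarith
  intro z hz
  have h3 := Subgroup.card_eq_one.mp h2
  rw [h3, Subgroup.mem_bot] at hz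
  exact hz

theorem ker_eq_bot {Γ : Type} [Group Γ] [Finite Γ] (σ : Γ →* P) (hσ : IsStemExtension σ) :
    σ.ker = ⊥ := by
  refine Schur.ker_eq_bot_of_prime_cases ?_ σ hσ
  intro r hr hf Γ' _ _ σ' hσ' hexp'
  have hd := bad_primes (Nat.card P) (card_P.trans (by norm_num)) r hr hf
  have hexp210 := dvd_210 σ'.ker r hd hexp'
  exact ker_trivial_of_card_le 4030387200 card_P (by norm_num) σ' hσ'
    (card_le σ' hσ' hexp210)

theorem main : Cfsg.HasCyclicSchurMultiplier Cfsg.Spor.He 1 :=
  Schur.hasCyclicSchurMultiplier_one_of_iso (G := Cfsg.Spor.He) HeKIso.iso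
    fun Γ _ _ σ hσ => ker_eq_bot σ hσ

end Cfsg.Agent.Helper4.TC.HeKSchur
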