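import Cfsg.Agent.Lib.Helper4.TC.HeSL
import Cfsg.Agent.Lib.Helper4.TC.HeS44Glue
import Cfsg.Agent.Lib.Helper4.TC.Strict

set_option autoImplicit false
set_option maxRecDepth 100000
set_option linter.unusedVariables false
set_option Elab.async false

namespace Cfsg.Agent.Helper4.TC.HeS

open Cfsg.Agent.Helper4.TC

theorem lvl2_c0 : lvlRange HeS44.mdata ld2 W2 1 1360 0 = true := lvlRange_strict HeS44.mdata ld2 W2 1 1360 0 (by decide +kernel)
theorem srt2_c0 : srtRange ld2 1359 0 = true := srtRange_strict ld2 1359 0 (by decide +kernel)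
theorem fix2 : ∀ w ∈ W2, (∀ c ∈ w, c < HeS44.mdata.nc) ∧ ∀ q ∈ [0], mtrace HeS44.mdata w q = q := by decide +kernel

theorem lvl3_c0 : lvlRange HeS44.mdata ld3 W3 7 120 0 = true := lvlRange_strict HeS44.mdata ld3 W3 7 120 0 (by decide +kernel)
theorem srt3_c0 : srtRange ld3 119 0 = true := srtRange_strict ld3 119 0 (by decide +kernel)
theorem fix3 : ∀ w ∈ W3, (∀ c ∈ w, c < HeS44.mdata.nc) ∧ ∀ q ∈ [1, 0], mtrace HeS44.mdata w q = q := by decide +kernel

theorem lvl4_c0 : lvlRange HeS44.mdata ld4 W4 11 6 0 = true := lvlRange_strict HeS44.mdata ld4 W4 11 6 0 (by decide +kernel)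
theorem srt4_c0 : srtRange ld4 5 0 = true := srtRange_strict ld4 5 0 (by decide +kernel)
theorem fix4 : ∀ w ∈ W4, (∀ c ∈ w, c < HeS44.mdata.nc) ∧ ∀ q ∈ [7, 1, 0], mtrace HeS44.mdata w q = q := by decide +kernel

theorem lvl5_c0 : lvlRange HeS44.mdata ld5 W5 6 2 0 = true := lvlRange_strict HeS44.mdata ld5 W5 6 2 0 (by decide +kernel)
theorem srt5_c0 : srtRange ld5 1 0 = true := srtRange_strict ld5 1 0 (by decide +kernel)
theorem fix5 : ∀ w ∈ W5, (∀ c ∈ w, c < HeS44.mdata.nc) ∧ ∀ q ∈ [11, 7, 1, 0], mtrace HeS44.mdata w q = q := by decide +kernel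

theorem lvl2 : LevelOK HeS44.mdata ld2 W2 1 := by
  refine ⟨?_, ?_⟩
  · intro k hk
    have hk' : k < 1360 := hk
    exact lvlRange_sound HeS44.mdata ld2 W2 1 1360 0 lvl2_c0 k (by omega) (by omega)
  · intro k hk
    have hk' : k + 1 < 1360 := hk
    exact srtRange_sound ld2 1359 0 srt2_c0 k (by omega) (by omega)

theorem lvl3 : LevelOK HeS44.mdata ld3 W3 7 := by
  refine ⟨?_, ?_⟩
  · intro k hk
    have hk' : k < 120 := hk
    exact lvlRange_sound HeS44.mdata ld3 W3 7 120 0 lvl3_c0 k (by omega) (by omega)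
  · intro k hk
    have hk' : k + 1 < 120 := hk
    exact srtRange_sound ld3 119 0 srt3_c0 k (by omega) (by omega)

theorem lvl4 : LevelOK HeS44.mdata ld4 W4 11 := by
  refine ⟨?_, ?_⟩
  · intro k hk
    have hk' : k < 6 := hk
    exact lvlRange_sound HeS44.mdata ld4 W4 11 6 0 lvl4_c0 k (by omega) (by omega)
  · intro k hk
    have hk' : k + 1 < 6 := hk
    exact srtRange_sound ld4 5 0 srt4_c0 k (by omega) (by omega)

theorem lvl5 : LevelOK HeS44.mdata ld5 W5 6 := by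
  refine ⟨?_, ?_⟩
  · intro k hk
    have hk' : k < 2 := hk
    exact lvlRange_sound HeS44.mdata ld5 W5 6 2 0 lvl5_c0 k (by omega) (by omega)
  · intro k hk
    have hk' : k + 1 < 2 := hk
    exact srtRange_sound ld5 1 0 srt5_c0 k (by omega) (by omega)

noncomputable def specs : List LSpec := [⟨ld2, W2, 1⟩, ⟨ld3, W3, 7⟩, ⟨ld4, W4, 11⟩, ⟨ld5, W5, 6⟩]

theorem levels_ok : LevelsOK HeS44.mdata [0] specs := by
  refine levelsOK_cons HeS44.mdata [0] ⟨ld2, W2, 1⟩ _ lvl2 (by decide) fix2 ?_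
  refine levelsOK_cons HeS44.mdata [1, 0] ⟨ld3, W3, 7⟩ _ lvl3 (by decide) fix3 ?_
  refine levelsOK_cons HeS44.mdata [7, 1, 0] ⟨ld4, W4, 11⟩ _ lvl4 (by decide) fix4 ?_
  refine levelsOK_cons HeS44.mdata [11, 7, 1, 0] ⟨ld5, W5, 6⟩ _ lvl5 (by decide) fix5 ?_
  exact levelsOK_nil _ _

end Cfsg.Agent.Helper4.TC.HeS
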