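import Cfsg.Agent.Lib.Helper4.TC.S44PZ0D
import Cfsg.Agent.Lib.Helper4.TC.Strict

set_option autoImplicit false
set_option maxRecDepth 100000
set_option linter.unusedVariables false
set_option Elab.async false

namespace Cfsg.Agent.Helper4.TC.S44PZ0

open Cfsg.Agent.Helper4.TC

theorem e1_c0 : edgeRange data 1 18281 0 = true := edgeRange_strict data 1 18281 0 (by decide +kernel)
theorem e1_c1 : edgeRange data 1 16579 18281 = true := edgeRange_strict data 1 16579 18281 (by decide +kernel)
theorem e1_c2 : edgeRange data 1 14138 34860 = true := edgeRange_strict data 1 14138 34860 (by decide +kernel)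
theorem e1_c3 : edgeRange data 1 11283 48998 = true := edgeRange_strict data 1 11283 48998 (by decide +kernel)
theorem e1_c4 : edgeRange data 1 9044 60281 = true := edgeRange_strict data 1 9044 60281 (by decide +kernel)
theorem e1_c5 : edgeRange data 1 34255 69325 = true := edgeRange_strict data 1 34255 69325 (by decide +kernel)
theorem e1_c6 : edgeRange data 1 27492 103580 = true := edgeRange_strict data 1 27492 103580 (by decide +kernel)

end Cfsg.Agent.Helper4.TC.S44PZ0
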