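import Cfsg.Agent.Lib.Helper4.TC.S44PZ0D
import Cfsg.Agent.Lib.Helper4.TC.Strict

set_option autoImplicit false
set_option maxRecDepth 100000
set_option linter.unusedVariables false
set_option Elab.async false

namespace Cfsg.Agent.Helper4.TC.S44PZ0

open Cfsg.Agent.Helper4.TC

theorem e3_c0 : edgeRange data 3 19690 0 = true := edgeRange_strict data 3 19690 0 (by decide +kernel)
theorem e3_c1 : edgeRange data 3 19791 19690 = true := edgeRange_strict data 3 19791 19690 (by decide +kernel)
theorem e3_c2 : edgeRange data 3 20082 39481 = true := edgeRange_strict data 3 20082 39481 (by decide +kernel)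
theorem e3_c3 : edgeRange data 3 29679 59563 = true := edgeRange_strict data 3 29679 59563 (by decide +kernel)
theorem e3_c4 : edgeRange data 3 41830 89242 = true := edgeRange_strict data 3 41830 89242 (by decide +kernel)

end Cfsg.Agent.Helper4.TC.S44PZ0
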