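import Cfsg.Agent.Lib.Helper4.TC.S44PZ0D
import Cfsg.Agent.Lib.Helper4.TC.Strict

set_option autoImplicit false
set_option maxRecDepth 100000
set_option linter.unusedVariables false
set_option Elab.async false

namespace Cfsg.Agent.Helper4.TC.S44PZ0

open Cfsg.Agent.Helper4.TC

theorem cnt0 : countFinal data 50000 0 0 = 38684 := countFinal_strict data 50000 0 0 38684 (by decide +kernel)
theorem cnt1 : countFinal data 22309 50000 0 = 18916 := countFinal_strict data 22309 50000 0 18916 (by decide +kernel)
theorem rows0 : rowsRange data 72309 5277 0 = true := rowsRange_strict data 72309 5277 0 (by decide +kernel)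
theorem rows1 : rowsRange data 72309 4973 5277 = true := rowsRange_strict data 72309 4973 5277 (by decide +kernel)
theorem rows2 : rowsRange data 72309 4592 10250 = true := rowsRange_strict data 72309 4592 10250 (by decide +kernel)
theorem rows3 : rowsRange data 72309 4486 14842 = true := rowsRange_strict data 72309 4486 14842 (by decide +kernel)
theorem rows4 : rowsRange data 72309 4536 19328 = true := rowsRange_strict data 72309 4536 19328 (by decide +kernel)
theorem rows5 : rowsRange data 72309 4728 23864 = true := rowsRange_strict data 72309 4728 23864 (by decide +kernel)

end Cfsg.Agent.Helper4.TC.S44PZ0
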