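import Cfsg.Agent.Lib.Helper4.TC.S44PZ0D
import Cfsg.Agent.Lib.Helper4.TC.Strict

set_option autoImplicit false
set_option maxRecDepth 100000
set_option linter.unusedVariables false
set_option Elab.async false

namespace Cfsg.Agent.Helper4.TC.S44PZ0

open Cfsg.Agent.Helper4.TC

theorem rows6 : rowsRange data 72309 4833 28592 = true := rowsRange_strict data 72309 4833 28592 (by decide +kernel)
theorem rows7 : rowsRange data 72309 4971 33425 = true := rowsRange_strict data 72309 4971 33425 (by decide +kernel)
theorem rows8 : rowsRange data 72309 4989 38396 = true := rowsRange_strict data 72309 4989 38396 (by decide +kernel)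
theorem rows9 : rowsRange data 72309 5174 43385 = true := rowsRange_strict data 72309 5174 43385 (by decide +kernel)
theorem rows10 : rowsRange data 72309 5210 48559 = true := rowsRange_strict data 72309 5210 48559 (by decide +kernel)
theorem rows11 : rowsRange data 72309 4870 53769 = true := rowsRange_strict data 72309 4870 53769 (by decide +kernel)
theorem rows12 : rowsRange data 72309 4531 58639 = true := rowsRange_strict data 72309 4531 58639 (by decide +kernel)
theorem rows13 : rowsRange data 72309 4169 63170 = true := rowsRange_strict data 72309 4169 63170 (by decide +kernel)

end Cfsg.Agent.Helper4.TC.S44PZ0
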