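import Cfsg.Agent.Lib.Helper4.TC.S44PZ0D
import Cfsg.Agent.Lib.Helper4.TC.Strict

set_option autoImplicit false
set_option maxRecDepth 100000
set_option linter.unusedVariables false
set_option Elab.async false

namespace Cfsg.Agent.Helper4.TC.S44PZ0

open Cfsg.Agent.Helper4.TC

theorem rows14 : rowsRange data 72309 3936 67339 = true := rowsRange_strict data 72309 3936 67339 (by decide +kernel)
theorem rows15 : rowsRange data 72309 1034 71275 = true := rowsRange_strict data 72309 1034 71275 (by decide +kernel)

end Cfsg.Agent.Helper4.TC.S44PZ0
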