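import Cfsg.Agent.Lib.Helper4.TC.Perm
import Cfsg.Agent.Lib.Helper4.TC.S44PCod
import Cfsg.Agent.Lib.Helper4.TC.S44PZ0Fin
import Cfsg.Agent.Lib.Helper4.TC.S44PZ0CM
import Cfsg.Agent.Lib.Helper4.TC.S44PZ0CE0
import Cfsg.Agent.Lib.Helper4.TC.S44PZ0CE1
import Cfsg.Agent.Lib.Helper4.TC.S44PZ0CE2
import Cfsg.Agent.Lib.Helper4.TC.S44PZ0CE3
import Cfsg.Agent.Lib.Helper4.TC.S44PZ0CF0
import Cfsg.Agent.Lib.Helper4.TC.S44PZ0CF1
import Cfsg.Agent.Lib.Helper4.TC.S44PZ0CF2

set_option autoImplicit false
set_option maxRecDepth 100000
set_option linter.unusedVariables false

namespace Cfsg.Agent.Helper4.TC.S44PZ0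

open Cfsg.Agent.Helper4.TC

theorem allE0 : ∀ k, k < 131072 → justE data 0 k = true := by
  intro k hk
  by_cases hh1 : k < 47947
  · skip
    by_cases hh2 : k < 18957
    · skip
      exact edgeRange_sound data 0 18957 0 e0_c0 k (by omega) (by omega)
    · skip
      by_cases hh3 : k < 35147
      · skip
        exact edgeRange_sound data 0 16190 18957 e0_c1 k (by omega) (by omega)
      · skip
        exact edgeRange_sound data 0 12800 35147 e0_c2 k (by omega) (by omega)
  · skip
    by_cases hh4 : k < 66349
    · skip
      by_cases hh5 : k < 58121
      · skip
        exact edgeRange_sound data 0 10174 47947 e0_c3 k (by omega) (by omega)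
      · skip
        exact edgeRange_sound data 0 8228 58121 e0_c4 k (by omega) (by omega)
    · skip
      by_cases hh6 : k < 81515
      · skip
        exact edgeRange_sound data 0 15166 66349 e0_c5 k (by omega) (by omega)
      · skip
        exact edgeRange_sound data 0 49557 81515 e0_c6 k (by omega) (by omega)

theorem allE1 : ∀ k, k < 131072 → justE data 1 k = true := by
  intro k hk
  by_cases hh1 : k < 48998
  · skip
    by_cases hh2 : k < 18281
    · skip
      exact edgeRange_sound data 1 18281 0 e1_c0 k (by omega) (by omega)
    · skip
      by_cases hh3 : k < 34860
      · skip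
        exact edgeRange_sound data 1 16579 18281 e1_c1 k (by omega) (by omega)
      · skip
        exact edgeRange_sound data 1 14138 34860 e1_c2 k (by omega) (by omega)
  · skip
    by_cases hh4 : k < 69325
    · skip
      by_cases hh5 : k < 60281
      · skip
        exact edgeRange_sound data 1 11283 48998 e1_c3 k (by omega) (by omega)
      · skip
        exact edgeRange_sound data 1 9044 60281 e1_c4 k (by omega) (by omega)
    · skip
      by_cases hh6 : k < 103580
      · skip
        exact edgeRange_sound data 1 34255 69325 e1_c5 k (by omega) (by omega)
      · skip
        exact edgeRange_sound data 1 27492 103580 e1_c6 k (by omega) (by omega)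

theorem allE2 : ∀ k, k < 131072 → justE data 2 k = true := by
  intro k hk
  by_cases hh1 : k < 49320
  · skip
    by_cases hh2 : k < 19300
    · skip
      exact edgeRange_sound data 2 19300 0 e2_c0 k (by omega) (by omega)
    · skip
      by_cases hh3 : k < 36168
      · skip
        exact edgeRange_sound data 2 16868 19300 e2_c1 k (by omega) (by omega)
      · skip
        exact edgeRange_sound data 2 13152 36168 e2_c2 k (by omega) (by omega)
  · skip
    by_cases hh4 : k < 67840
    · skip
      by_cases hh5 : k < 59376
      · skip
        exact edgeRange_sound data 2 10056 49320 e2_c3 k (by omega) (by omega)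
      · skip
        exact edgeRange_sound data 2 8464 59376 e2_c4 k (by omega) (by omega)
    · skip
      by_cases hh6 : k < 92902
      · skip
        exact edgeRange_sound data 2 25062 67840 e2_c5 k (by omega) (by omega)
      · skip
        exact edgeRange_sound data 2 38170 92902 e2_c6 k (by omega) (by omega)

theorem allE3 : ∀ k, k < 131072 → justE data 3 k = true := by
  intro k hk
  by_cases hh1 : k < 39481
  · skip
    by_cases hh2 : k < 19690
    · skip
      exact edgeRange_sound data 3 19690 0 e3_c0 k (by omega) (by omega)
    · skip
      exact edgeRange_sound data 3 19791 19690 e3_c1 k (by omega) (by omega)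
  · skip
    by_cases hh3 : k < 59563
    · skip
      exact edgeRange_sound data 3 20082 39481 e3_c2 k (by omega) (by omega)
    · skip
      by_cases hh4 : k < 89242
      · skip
        exact edgeRange_sound data 3 29679 59563 e3_c3 k (by omega) (by omega)
      · skip
        exact edgeRange_sound data 3 41830 89242 e3_c4 k (by omega) (by omega)

theorem allE : ∀ c k, c < data.nc → k ≤ data.mask → justE data c k = true := by
  intro c k hc hk
  have hc' : c < 4 := hc
  have hk' : k < 131072 := Nat.lt_succ_of_le hk
  interval_cases c
  · exact allE0 k hk'
  · exact allE1 k hk'
  · exact allE2 k hk'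
  · exact allE3 k hk'

theorem allM : ∀ k, k ≤ data.mask → justM data k = true := by
  intro k hk
  have hk' : k < 131072 := Nat.lt_succ_of_le hk
  by_cases hh1 : k < 55580
  · skip
    by_cases hh2 : k < 26215
    · skip
      exact mergeRange_sound data 26215 0 m_c0 k (by omega) (by omega)
    · skip
      by_cases hh3 : k < 43548
      · skip
        exact mergeRange_sound data 17333 26215 m_c1 k (by omega) (by omega)
      · skip
        exact mergeRange_sound data 12032 43548 m_c2 k (by omega) (by omega)
  · skip
    by_cases hh4 : k < 78244
    · skip
      exact mergeRange_sound data 22664 55580 m_c3 k (by omega) (by omega)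
    · skip
      by_cases hh5 : k < 128244
      · skip
        exact mergeRange_sound data 50000 78244 m_c4 k (by omega) (by omega)
      · skip
        exact mergeRange_sound data 2828 128244 m_c5 k (by omega) (by omega)

theorem rows_all : ∀ k, k < M → isFinal data k = true → rowOK data M k data.nc = true := by
  intro k hk
  have hk' : k < 72309 := hk
  by_cases hh1 : k < 38396
  · skip
    by_cases hh2 : k < 19328
    · skip
      by_cases hh3 : k < 10250
      · skip
        by_cases hh4 : k < 5277
        · skip
          exact rowsRange_sound data M 5277 0 rows0 k (by omega) (by omega)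
        · skip
          exact rowsRange_sound data M 4973 5277 rows1 k (by omega) (by omega)
      · skip
        by_cases hh5 : k < 14842
        · skip
          exact rowsRange_sound data M 4592 10250 rows2 k (by omega) (by omega)
        · skip
          exact rowsRange_sound data M 4486 14842 rows3 k (by omega) (by omega)
    · skip
      by_cases hh6 : k < 28592
      · skip
        by_cases hh7 : k < 23864
        · skip
          exact rowsRange_sound data M 4536 19328 rows4 k (by omega) (by omega)
        · skip
          exact rowsRange_sound data M 4728 23864 rows5 k (by omega) (by omega)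
      · skip
        by_cases hh8 : k < 33425
        · skip
          exact rowsRange_sound data M 4833 28592 rows6 k (by omega) (by omega)
        · skip
          exact rowsRange_sound data M 4971 33425 rows7 k (by omega) (by omega)
  · skip
    by_cases hh9 : k < 58639
    · skip
      by_cases hh10 : k < 48559
      · skip
        by_cases hh11 : k < 43385
        · skip
          exact rowsRange_sound data M 4989 38396 rows8 k (by omega) (by omega)
        · skip
          exact rowsRange_sound data M 5174 43385 rows9 k (by omega) (by omega)
      · skip
        by_cases hh12 : k < 53769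
        · skip
          exact rowsRange_sound data M 5210 48559 rows10 k (by omega) (by omega)
        · skip
          exact rowsRange_sound data M 4870 53769 rows11 k (by omega) (by omega)
    · skip
      by_cases hh13 : k < 67339
      · skip
        by_cases hh14 : k < 63170
        · skip
          exact rowsRange_sound data M 4531 58639 rows12 k (by omega) (by omega)
        · skip
          exact rowsRange_sound data M 4169 63170 rows13 k (by omega) (by omega)
      · skip
        by_cases hh15 : k < 71275
        · skip
          exact rowsRange_sound data M 3936 67339 rows14 k (by omega) (by omega)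
        · skip
          exact rowsRange_sound data M 1034 71275 rows15 k (by omega) (by omega)

theorem cnt_ok : countFinal data M 0 0 = n := by
  have c0 : countFinal data 50000 0 0 = 38684 := cnt0
  have c1 : countFinal data (50000 + 22309) 0 0 = 38684 + 18916 :=
    countFinal_split data (50000) 22309 0 50000 (38684) 18916 (by norm_num) c0 cnt1
  have e1 : 50000 + 22309 = M := by norm_num [M]
  have e2 : 38684 + 18916 = n := by norm_num [n]
  rw [← e1, ← e2]
  exact c1

/-- the index of the subgroup generated by `subsL` in the group with relators `bases` -/
theorem bound : Finite (PresentedGroup (relSet S44PCod.dec bases) ⧸ (Subgroup.closure (relSet S44PCod.dec subsL)).map (PresentedGroup.mk (relSet S44PCod.dec bases))) ∧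
    Nat.card (PresentedGroup (relSet S44PCod.dec bases) ⧸ (Subgroup.closure (relSet S44PCod.dec subsL)).map (PresentedGroup.mk (relSet S44PCod.dec bases))) ≤ n :=
  tc_bound data bases subsL rots S44PCod.coding (mem_relSet bases) (mem_relSet subsL) words_ok allE allM M n fin0_ok (by decide) (by decide) cnt_ok rows_all

end Cfsg.Agent.Helper4.TC.S44PZ0
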