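import Cfsg.Agent.Lib.Helper4.TC.SympEval
import Cfsg.Agent.Lib.Helper4.TC.S44PSMain
import Cfsg.Agent.Lib.Helper15.SympOrder

set_option autoImplicit false
set_option maxRecDepth 100000
set_option linter.unusedVariables false
set_option linter.style.haveILetI false

/-! The presented group `Pres.S44` is isomorphic to the symplectic group of degree four over
the field with four elements. -/

namespace Cfsg.Agent.Helper4.TC.S44Iso

open Cfsg.Agent.Helper4.TC

abbrev Gen := Cfsg.Agent.Helper4.Pres.S44.Gen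

def sD : M4 := ⟨F4.i, F4.i, F4.w, F4.v, F4.v, F4.v, F4.v, F4.o, F4.w, F4.o, F4.w, F4.o, F4.w, F4.i, F4.w, F4.w⟩
def sD' : M4 := ⟨F4.w, F4.w, F4.w, F4.v, F4.o, F4.w, F4.v, F4.o, F4.w, F4.w, F4.i, F4.v, F4.o, F4.i, F4.i, F4.v⟩
def tD : M4 := ⟨F4.w, F4.i, F4.i, F4.w, F4.i, F4.v, F4.w, F4.v, F4.w, F4.v, F4.w, F4.i, F4.v, F4.i, F4.i, F4.v⟩
def tD' : M4 := ⟨F4.w, F4.i, F4.i, F4.w, F4.i, F4.v, F4.w, F4.v, F4.w, F4.v, F4.w, F4.i, F4.v, F4.i, F4.i, F4.v⟩

def D : Gen → M4
  | .a => sD
  | .b => tD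

def D' : Gen → M4
  | .a => sD'
  | .b => tD'

theorem hsymp : ∀ x, ((D x).mul M4.jd).mul (D x).tr = M4.jd := by
  intro x; cases x <;> decide +kernel

theorem hinv : ∀ x, (D x).mul (D' x) = M4.one := by
  intro x; cases x <;> decide +kernel

theorem hchk : ∀ b ∈ S44PO136.bases, evD (dl D D') (b.map S44PO136.dec) = M4.one := by
  decide +kernel

theorem card_sp : Nat.card Sp44 = 979200 := by
  rw [Cfsg.Agent.Lib.Helper15.card_symplecticGroup (F := F4) 2, F4.card_eq]
  decide

/-- the isomorphism -/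
theorem iso : Nonempty (PresentedGroup S44PS.Rset ≃* Sp44) := by
  haveI : IsSimpleGroup (PresentedGroup S44PS.Rset) := S44PS.main.1
  obtain ⟨φ, hφ⟩ := exists_hom_symp D D' hsymp hinv S44PS.Rset S44PO136.dec S44PO136.bases
    S44PO136.hR1 hchk
  have hne : φ (PresentedGroup.of .a) ≠ 1 := by
    rw [hφ]
    intro h
    have h1 := congrArg Subtype.val h
    have h2 := congrFun (congrFun h1 (Sum.inl 0)) (Sum.inl 1)
    revert h2
    simp [spOf, D, sD, M4.toMat]
  have hinj : Function.Injective φ := by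
    rw [← MonoidHom.ker_eq_bot_iff]
    rcases IsSimpleGroup.eq_bot_or_eq_top_of_normal φ.ker inferInstance with h | h
    · exact h
    · exfalso
      apply hne
      have : PresentedGroup.of .a ∈ φ.ker := by rw [h]; trivial
      exact this
  haveI : Finite (PresentedGroup S44PS.Rset) := S44PS.card_top.1
  haveI : Finite Sp44 := Nat.finite_of_card_ne_zero (by rw [card_sp]; norm_num)
  have hbij : Function.Bijective φ := by
    rw [Nat.bijective_iff_injective_and_card]
    exact ⟨hinj, S44PS.main.2.trans card_sp.symm⟩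
  exact ⟨MulEquiv.ofBijective φ hbij⟩

end Cfsg.Agent.Helper4.TC.S44Iso
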