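import Cfsg.Agent.Lib.Helper4.TC.HeSMain
import Cfsg.Agent.Lib.Helper4.TC.S44Iso
import Cfsg.Agent.Lib.Helper4.TC.Embed2
import Cfsg.Prelude.Def_Sporadic

set_option autoImplicit false
set_option maxRecDepth 100000
set_option linter.unusedVariables false

namespace Cfsg.Agent.Helper4.TC.HeSp

open Cfsg.Agent.Helper4.TC

abbrev Rset : Set (FreeGroup Cfsg.Spor.He.Gen) := Cfsg.Spor.coxRelators Cfsg.Spor.He.edges ∪ {r | r ∈ Cfsg.Spor.He.extra}
def pts : List ℕ := [0, 1, 7, 11, 6]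
def uw : List ℕ := [8, 6, 4, 2, 8, 6, 4, 2, 8, 6, 4, 2, 8, 6, 4, 2, 8, 6, 4, 2, 8, 6, 4, 2, 8, 6, 4, 2]
def sPieces : List (List ℕ) := [[6], uw, [10], [4]]
def sw : List ℕ := sPieces.flatten
def tw : List ℕ := [0]

def sig : Cfsg.Agent.Helper4.Pres.S44.Gen → List ℕ
  | .a => sw
  | .b => tw

theorem chk : ∀ b ∈ S44PO136.bases, fixesB HeS44.mdata pts (substW sig S44PO136.dec b) = true := by decide +kernel
theorem htw : (∀ c ∈ tw, c < HeS44.mdata.nc) ∧ mtrace HeS44.mdata tw 11 ≠ 11 := by decide +kernel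
theorem hfix : (∀ c ∈ sw, c < HeS44.mdata.nc) ∧ mtrace HeS44.mdata sw 0 = 0 ∧ (∀ c ∈ tw, c < HeS44.mdata.nc) ∧ mtrace HeS44.mdata tw 0 = 0 := by decide +kernel
theorem hpieces : (∀ b ∈ sPieces, b ∈ HeS44.subsL) ∧ tw ∈ HeS44.subsL := by decide +kernel

/-- the homomorphism from the presented symplectic group into the presented Held group -/
theorem exists_psi : ∃ ψ : PresentedGroup S44PS.Rset →* PresentedGroup Rset,
    ∀ x, ψ (PresentedGroup.of x) = PresentedGroup.mk Rset (wordF HeS44.dec (sig x)) :=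
  exists_hom_of_subst HeS44.coding HeS44.hR1 HeS44.model_ok 4030387200 (by norm_num) HeS.card_top
    HeS.specs HeS.levels_ok (by decide) S44PS.Rset S44PO136.bases S44PO136.hR1 sig pts rfl chk

theorem hmove : modelHom HeS44.coding HeS44.hR1 HeS44.model_ok (PresentedGroup.mk Rset (wordF HeS44.dec tw)) ≠ 1 := by
  intro h
  have h1 := modelHom_word HeS44.coding HeS44.hR1 HeS44.model_ok tw htw.1 ⟨11, by decide⟩
  rw [h, Equiv.Perm.one_apply] at h1
  exact htw.2 h1.symm

theorem s1682 : ∃ (N : Subgroup ((Subgroup.closure HeS44.Sset).map (PresentedGroup.mk Rset))) (K : Type) (_ : Field K) (_ : Fintype K), N.Normal ∧ N.index = 2 ∧ Fintype.card K = 4 ∧ Nonempty (N ≃* Matrix.symplecticGroup (Fin 2) K) := by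
  haveI : IsSimpleGroup (PresentedGroup S44PS.Rset) := S44PS.main.1
  haveI : Finite (PresentedGroup Rset) := HeS.card_top.1
  obtain ⟨ψ, hψ⟩ := exists_psi
  have hne : ∃ x, ψ x ≠ 1 := by
    refine ⟨PresentedGroup.of .b, fun h => hmove ?_⟩
    rw [hψ] at h
    show modelHom HeS44.coding HeS44.hR1 HeS44.model_ok (PresentedGroup.mk Rset (wordF HeS44.dec (sig .b))) = 1
    rw [h, map_one]
  have hgen : ∀ b ∈ HeS44.subsL, PresentedGroup.mk Rset (wordF HeS44.dec b) ∈ ((Subgroup.closure HeS44.Sset).map (PresentedGroup.mk Rset)) :=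
    fun b hb => Subgroup.mem_map_of_mem _ (Subgroup.subset_closure (HeS44.hS2 b hb))
  have hle : ψ.range ≤ ((Subgroup.closure HeS44.Sset).map (PresentedGroup.mk Rset)) := by
    refine range_le_of_gens ψ _ fun x => ?_
    rw [hψ]
    cases x
    · exact mk_flatten_mem _ sPieces fun b hb => hgen b (hpieces.1 b hb)
    · exact hgen tw hpieces.2
  have hcard : Nat.card ((Subgroup.closure HeS44.Sset).map (PresentedGroup.mk Rset)) = 2 * Nat.card (PresentedGroup S44PS.Rset) := by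
    have h1 := ((Subgroup.closure HeS44.Sset).map (PresentedGroup.mk Rset)).card_mul_index
    rw [HeS44.main.1, HeS.main.2] at h1
    rw [S44PS.main.2]
    omega
  obtain ⟨N, hN, hidx, ⟨e⟩⟩ := index_two_of_hom ψ hne _ hle hcard
  obtain ⟨e2⟩ := S44Iso.iso
  exact ⟨N, F4, inferInstance, inferInstance, hN, hidx, F4.card_eq, ⟨e.trans e2⟩⟩

/-- the permutation representation on 2058 points -/
noncomputable def phi : PresentedGroup Rset →* Equiv.Perm (Fin 2058) := modelHom HeS44.coding HeS44.hR1 HeS44.model_ok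

theorem phi_word (w : List ℕ) (hw : ∀ c ∈ w, c < HeS44.mdata.nc) (k : Fin 2058) :
    (phi (PresentedGroup.mk Rset (wordF HeS44.dec w)) k).val = mtrace HeS44.mdata w k.val :=
  modelHom_word HeS44.coding HeS44.hR1 HeS44.model_ok w hw k

theorem phi_trans : ∀ y : Fin 2058, ∃ g, phi g (0 : Fin 2058) = y :=
  modelHom_trans HeS44.coding HeS44.hR1 HeS44.model_ok

theorem s0462 : ∃ H : Subgroup (Equiv.Perm (Fin 2058)), Cfsg.IsHe H ∧ MulAction.IsPretransitive H (Fin 2058) ∧ ∃ (F : Type) (_ : Field F) (_ : Fintype F), Fintype.card F = 4 ∧ ∃ N : Subgroup (MulAction.stabilizer H (0 : Fin 2058)), N.index = 2 ∧ Nonempty (N ≃* Matrix.symplecticGroup (Fin 2) F) := by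
  haveI : IsSimpleGroup (PresentedGroup S44PS.Rset) := S44PS.main.1
  haveI : IsSimpleGroup (PresentedGroup Rset) := HeS.main.1
  haveI : Finite (PresentedGroup Rset) := HeS.card_top.1
  obtain ⟨hs, hc, hpre, hst⟩ := range_facts (by decide : 2 ≤ 2058) phi (0 : Fin 2058) phi_trans
  obtain ⟨ψ, hψ⟩ := exists_psi
  refine ⟨phi.range, ⟨hs, hc.trans HeS.main.2⟩, hpre, F4, inferInstance, inferInstance, F4.card_eq, ?_⟩
  haveI : Finite phi.range := Set.finite_range _
  set θ : PresentedGroup S44PS.Rset →* phi.range := phi.rangeRestrict.comp ψ with hθ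
  have hmove' : phi (PresentedGroup.mk Rset (wordF HeS44.dec tw)) ≠ 1 := hmove
  have hne : ∃ x, θ x ≠ 1 := by
    refine ⟨PresentedGroup.of .b, fun h => hmove' ?_⟩
    have h1 := congrArg Subtype.val h
    rw [hθ, MonoidHom.comp_apply, hψ] at h1
    exact h1
  have hle : θ.range ≤ MulAction.stabilizer phi.range (0 : Fin 2058) := by
    refine range_le_of_gens θ _ fun x => ?_
    rw [MulAction.mem_stabilizer_iff, hθ, MonoidHom.comp_apply, hψ]
    show phi (PresentedGroup.mk Rset (wordF HeS44.dec (sig x))) (0 : Fin 2058) = 0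
    cases x
    · exact Fin.ext ((phi_word sw hfix.1 0).trans hfix.2.1)
    · exact Fin.ext ((phi_word tw hfix.2.2.1 0).trans hfix.2.2.2)
  have hcard : Nat.card (MulAction.stabilizer phi.range (0 : Fin 2058)) = 2 * Nat.card (PresentedGroup S44PS.Rset) := by
    have h1 := hst inferInstance
    rw [HeS.main.2] at h1
    rw [S44PS.main.2]
    omega
  obtain ⟨N, hN, hidx, ⟨e⟩⟩ := index_two_of_hom θ hne _ hle hcard
  obtain ⟨e2⟩ := S44Iso.iso
  exact ⟨N, hidx, ⟨e.trans e2⟩⟩

end Cfsg.Agent.Helper4.TC.HeSp
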