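import Cfsg.Agent.Lib.Helper4.TC.Timed

set_option autoImplicit false
set_option maxRecDepth 100000
set_option linter.unusedVariables false

namespace Cfsg.Agent.Helper4.TC.HeX

open Cfsg.Agent.Helper4.TC

def e0_0 : ℕ := 0x58f808000000000000000000000000000053d004aed601105bc0186c4010000000000000000000002ab380a43000120f1002c021c0004c4001
def j0_0 : ℕ := 0x300000000000000000000000000000000000000030000005b00000053000000010000000000000000000000000000005b00000000000000010000000300000001
noncomputable def ecol0 (b : ℕ) : ℕ := e0_0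
noncomputable def jcol0 (b : ℕ) : ℕ := j0_0

def e1_0 : ℕ := 0x5c40080000000000000000000000000000588004aecc011040001868f010000000000000000000002ab500a436e0120e7802c02200004c3001
def j1_0 : ℕ := 0x20000000000000000000000000000000000000002000000250000000000000085000000000000000000000000000000550000004d0000005d000000020000000d
noncomputable def ecol1 (b : ℕ) : ℕ := e1_0
noncomputable def jcol1 (b : ℕ) : ℕ := j1_0

def e2_0 : ℕ := 0x1c7405838000b0000000000000000000000000001317022000000000000004b88010000000000000000000000000000000000010a0002e200402c4002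
def j2_0 : ℕ := 0xf30000000000000000000000000000000000000000000000db00000000000000000000000b00000000000000000000000000000000000000000000000b0000000100000001
noncomputable def ecol2 (b : ℕ) : ℕ := e2_0
noncomputable def jcol2 (b : ℕ) : ℕ := j2_0

def e3_0 : ℕ := 0x1c5805838880b000000000000000000000000000131c022000000000000004c4001000000000000000000000000000000000001100002dc00402c2002
def j3_0 : ℕ := 0x5d0000008e000000000000000000000000000000000000008d0000000000000000000000020000000000000000000000000000000000000000000000020000004500000015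
noncomputable def ecol3 (b : ℕ) : ℕ := e3_0
noncomputable def jcol3 (b : ℕ) : ℕ := j3_0

def e4_0 : ℕ := 0x2c6c04058000800000000000000000000029d8020523004000000025b40089c401100000000000000000000000000000830004b100310e2004a0c4003
def j4_0 : ℕ := 0x130000000000000000000000000000000000000013000000660000000000000013000000010000000000000000000000000000000000000013000000010000000100000001
noncomputable def ecol4 (b : ℕ) : ℕ := e4_0
noncomputable def jcol4 (b : ℕ) : ℕ := j4_0

def e5_0 : ℕ := 0x2e200405878080000000000000000000002c400205210040000000262000898d01100000000000000000000000000000880004a740310db004a0c1003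
def j5_0 : ℕ := 0x20000008e000000000000000000000000000000020000006600000000000000020000008d0000000000000000000000000000000000000002000000650000004d0000001d
noncomputable def ecol5 (b : ℕ) : ℕ := e5_0
noncomputable def jcol5 (b : ℕ) : ℕ := j5_0

def e6_0 : ℕ := 0x4c5408868001000000000000000000000129380c073501612d20050d1404859f808737700cea0001c0000000040800000000073100355620052bc4004
def j6_0 : ℕ := 0x1030000000000000000000000000000000000000043000000d30000001b00000043000000430000004300000000000000000000001b00000000000000010000000100000001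
noncomputable def ecol6 (b : ℕ) : ℕ := e6_0
noncomputable def jcol6 (b : ℕ) : ℕ := j6_0

def e7_0 : ℕ := 0x4c5008868001000000000000000162001129300c073401613100050d1004859f008730000ceaec01c000000004400000000000a6e00955a0052bc0004
def j7_0 : ℕ := 0x8d00000000000000000000000000000002000000650000005d000000020000004d00000045000000000000003d0000000000000002000000000000006e0000005500000025
noncomputable def ecol7 (b : ℕ) : ℕ := e7_0
noncomputable def jcol7 (b : ℕ) : ℕ := j7_0

def e8_0 : ℕ := 0x4c6408868001000000000000000000000128000c0731016aab20290c000485a58080000000000000001fc002bae80441000066710038254c00adc4005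
def j8_0 : ℕ := 0xfb00000000000000000000000000000000000000000000008b0000008b00000000000000ab0000000000000000000000230000007b00000000000000010000005600000001
noncomputable def ecol8 (b : ℕ) : ℕ := e8_0
noncomputable def jcol8 (b : ℕ) : ℕ := j8_0

def e9_0 : ℕ := 0x4c6008868001000000000b10008000000128000c0730016aab00290c000485a5008000000000000000220002bae00441000060a00008240000adbf005
def j9_0 : ℕ := 0x8d00000000000000000000000200000000000000000000005d000000550000000000000045000000000000000000000002000000250000000000000000000000000000002d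
noncomputable def ecol9 (b : ℕ) : ℕ := e9_0
noncomputable def jcol9 (b : ℕ) : ℕ := j9_0

def e10_0 : ℕ := 0x4c0008868001000000000000000000000129680c0700016aac20290d340485a7808000000000fa0000000002baf80441000065f1003c254400b9c4006
def j10_0 : ℕ := 0xa3000000000000006b000000a30000009b000000000000002b000000000000007300000000000000010000005600000001
noncomputable def ecol10 (b : ℕ) : ℕ := e10_0
noncomputable def jcol10 (b : ℕ) : ℕ := j10_0

def e11_0 : ℕ := 0x4c0008868001005880040000000000000129600c0700016aac00290d300485a7008000000001100000000002baf00441000060a00008240000b9be006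
def j11_0 : ℕ := 0x200000000000000000000006500000000000000550000004d000000450000000000000002000000000000002500000000000000000000000000000035
noncomputable def ecol11 (b : ℕ) : ℕ := e11_0
noncomputable def jcol11 (b : ℕ) : ℕ := j11_0

def e12_0 : ℕ := 0x4c0008868001000000000000000000000129480c070001612ca0050d1c0485a48080079000aef6010000000398000641000060a56009558c053ac4007
def j12_0 : ℕ := 0xbb0000000000000063000000bb000000b30000003b00000033000000000000000000000000000000330000003b00000001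
noncomputable def ecol12 (b : ℕ) : ℕ := e12_0
noncomputable def jcol12 (b : ℕ) : ℕ := j12_0

def e13_0 : ℕ := 0x4c0008868001000000000000000000000129400c070001612c40050d180485a40080088000ae0001000000039bd00641000060a540095590053abc007
def j13_0 : ℕ := 0x65000000000000000d0000004d00000045000000020000000000000000000000350000000000000015000000550000003d
noncomputable def ecol13 (b : ℕ) : ℕ := e13_0
noncomputable def jcol13 (b : ℕ) : ℕ := j13_0

def m_0 : ℕ := 0x40102604000040680b0a0045e008200119802060047200810011280b000040e0001800aa80104002860000800858020c000ea01028003980008000b600018002b80004000820040800028000000012000000000000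
def jm_0 : ℕ := 0x1d100000219000001c1000001b100000191000001d100000221000004030000018900001003000000990000073300000101000001290000090300000b030000081300000000

noncomputable def mgT (b : ℕ) : ℕ := m_0
noncomputable def jmT (b : ℕ) : ℕ := jm_0
noncomputable def eT (c b : ℕ) : ℕ := Bool.rec (motive := fun _ => ℕ) (Bool.rec (motive := fun _ => ℕ) (Bool.rec (motive := fun _ => ℕ) (ecol0 b) (Bool.rec (motive := fun _ => ℕ) (ecol1 b) (ecol2 b) (Nat.ble 2 c)) (Nat.ble 1 c)) (Bool.rec (motive := fun _ => ℕ) (Bool.rec (motive := fun _ => ℕ) (ecol3 b) (ecol4 b) (Nat.ble 4 c)) (Bool.rec (motive := fun _ => ℕ) (ecol5 b) (ecol6 b) (Nat.ble 6 c)) (Nat.ble 5 c)) (Nat.ble 3 c)) (Bool.rec (motive := fun _ => ℕ) (Bool.rec (motive := fun _ => ℕ) (ecol7 b) (Bool.rec (motive := fun _ => ℕ) (ecol8 b) (ecol9 b) (Nat.ble 9 c)) (Nat.ble 8 c)) (Bool.rec (motive := fun _ => ℕ) (Bool.rec (motive := fun _ => ℕ) (ecol10 b) (ecol11 b) (Nat.ble 11 c)) (Bool.rec (motive := fun _ => ℕ) (ecol12 b)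 (ecol13 b) (Nat.ble 13 c)) (Nat.ble 12 c)) (Nat.ble 10 c)) (Nat.ble 7 c)
noncomputable def jT (c b : ℕ) : ℕ := Bool.rec (motive := fun _ => ℕ) (Bool.rec (motive := fun _ => ℕ) (Bool.rec (motive := fun _ => ℕ) (jcol0 b) (Bool.rec (motive := fun _ => ℕ) (jcol1 b) (jcol2 b) (Nat.ble 2 c)) (Nat.ble 1 c)) (Bool.rec (motive := fun _ => ℕ) (Bool.rec (motive := fun _ => ℕ) (jcol3 b) (jcol4 b) (Nat.ble 4 c)) (Bool.rec (motive := fun _ => ℕ) (jcol5 b) (jcol6 b) (Nat.ble 6 c)) (Nat.ble 5 c)) (Nat.ble 3 c)) (Bool.rec (motive := fun _ => ℕ) (Bool.rec (motive := fun _ => ℕ) (jcol7 b) (Bool.rec (motive := fun _ => ℕ) (jcol8 b) (jcol9 b) (Nat.ble 9 c)) (Nat.ble 8 c)) (Bool.rec (motive := fun _ => ℕ) (Bool.rec (motive := fun _ => ℕ) (jcol10 b) (jcol11 b) (Nat.ble 11 c)) (Bool.rec (motive := fun _ => ℕ) (jcol12 b) (jcol13 b) (Nat.ble 13 c)) (Nat.ble 12 c)) (Nat.ble 10 c)) (Nat.ble 7 c)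

def rw0 : List ℕ := [0, 0]
def rw1 : List ℕ := [2, 2]
def rw2 : List ℕ := [4, 4]
def rw3 : List ℕ := [6, 6]
def rw4 : List ℕ := [8, 8]
def rw5 : List ℕ := [10, 10]
def rw6 : List ℕ := [12, 6, 10]
def rw7 : List ℕ := [12, 12]
def rw8 : List ℕ := [6, 10, 12]
def rw9 : List ℕ := [6, 12, 6, 12, 6, 12]
def rw10 : List ℕ := [0, 4, 0, 4]
def rw11 : List ℕ := [0, 6, 0, 6]
def rw12 : List ℕ := [12, 0, 12, 0]
def rw13 : List ℕ := [10, 12, 6]
def rw14 : List ℕ := [10, 0, 10, 0]
def rw15 : List ℕ := [8, 11, 13, 11, 13]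
def rw16 : List ℕ := [11, 13, 11, 13, 8]
def rw17 : List ℕ := [8, 0, 8, 0]
def rw18 : List ℕ := [8, 6, 8, 6, 8, 6]
def rw19 : List ℕ := [10, 2, 10, 2]
def rw20 : List ℕ := [10, 4, 10, 4]
def rw21 : List ℕ := [8, 2, 8, 2]
def rw22 : List ℕ := [12, 2, 12, 2]
def rw23 : List ℕ := [12, 4, 12, 4]
def rw24 : List ℕ := [7, 5, 7, 5, 7, 5, 7, 5, 7, 0, 5]
def rw25 : List ℕ := [2, 6, 2, 6]
def rw26 : List ℕ := [6, 0, 6, 0]
def rw27 : List ℕ := [2, 8, 2, 8]
def rw28 : List ℕ := [2, 10, 2, 10]
def rw29 : List ℕ := [0, 5, 7, 5, 7, 5, 7, 5, 7, 5, 7]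
def rw30 : List ℕ := [2, 4, 2, 4, 2, 4]
def rw31 : List ℕ := [8, 4, 8, 4]
def rw32 : List ℕ := [6, 2, 6, 2]
def rw33 : List ℕ := [5, 1, 3, 5, 1, 3, 5, 8, 1, 3]
def rw34 : List ℕ := [2, 0, 2, 0, 2, 0, 2, 0]
noncomputable def relW (i : ℕ) : List ℕ := Bool.rec (motive := fun _ => List ℕ) (Bool.rec (motive := fun _ => List ℕ) (Bool.rec (motive := fun _ => List ℕ) (Bool.rec (motive := fun _ => List ℕ) (Bool.rec (motive := fun _ => List ℕ) (rw0) (rw1) (Nat.ble 1 i)) (Bool.rec (motive := fun _ => List ℕ) (rw2) (rw3) (Nat.ble 3 i)) (Nat.ble 2 i)) (Bool.rec (motive := fun _ => List ℕ) (Bool.rec (motive := fun _ => List ℕ) (rw4) (rw5) (Nat.ble 5 i)) (Bool.rec (motive := fun _ => List ℕ) (rw6) (rw7) (Nat.ble 7 i)) (Nat.ble 6 i)) (Nat.ble 4 i)) (Bool.rec (motive := fun _ => List ℕ) (Bool.rec (motive := fun _ => List ℕ) (Bool.rec (motive := fun _ => List ℕ) (rw8) (rw9) (Nat.ble 9 i)) (Bool.rec (motive := fun _ => List ℕ) (rw10) (rw11) (Nat.ble 11 i)) (Nat.ble 10 i)) (Bool.rec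 (motive := fun _ => List ℕ) (Bool.rec (motive := fun _ => List ℕ) (rw12) (rw13) (Nat.ble 13 i)) (Bool.rec (motive := fun _ => List ℕ) (rw14) (Bool.rec (motive := fun _ => List ℕ) (rw15) (rw16) (Nat.ble 16 i)) (Nat.ble 15 i)) (Nat.ble 14 i)) (Nat.ble 12 i)) (Nat.ble 8 i)) (Bool.rec (motive := fun _ => List ℕ) (Bool.rec (motive := fun _ => List ℕ) (Bool.rec (motive := fun _ => List ℕ) (Bool.rec (motive := fun _ => List ℕ) (rw17) (rw18) (Nat.ble 18 i)) (Bool.rec (motive := fun _ => List ℕ) (rw19) (rw20) (Nat.ble 20 i)) (Nat.ble 19 i)) (Bool.rec (motive := fun _ => List ℕ) (Bool.rec (motive := fun _ => List ℕ) (rw21) (rw22) (Nat.ble 22 i)) (Bool.rec (motive := fun _ => List ℕ) (rw23) (Bool.rec (motive := fun _ => List ℕ) (rw24) (rw25) (Nat.ble 25 i)) (Nat.ble 24 i)) (Nat.ble 23 i)) (Nat.ble 21 i)) (Bool.rec (motive := fun _ => List ℕ) (Bool.rec (motive := fun _ => List ℕ) (Bool.rec (motive := fun _ => List ℕ) (rw26) (rw27) (Nat.ble 27 i)) (Bool.rec (motive := fun _ =>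 List ℕ) (rw28) (rw29) (Nat.ble 29 i)) (Nat.ble 28 i)) (Bool.rec (motive := fun _ => List ℕ) (Bool.rec (motive := fun _ => List ℕ) (rw30) (rw31) (Nat.ble 31 i)) (Bool.rec (motive := fun _ => List ℕ) (rw32) (Bool.rec (motive := fun _ => List ℕ) (rw33) (rw34) (Nat.ble 34 i)) (Nat.ble 33 i)) (Nat.ble 32 i)) (Nat.ble 30 i)) (Nat.ble 26 i)) (Nat.ble 17 i)
noncomputable def subW (i : ℕ) : List ℕ := []

noncomputable def data : Data where
  w := 11
  mask := 2047
  tw := 8
  tmask := 255
  hsh := 19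
  lsh := 30
  ew := 27
  emask := 134217727
  mw := 38
  mmask := 274877906943
  jw := 32
  jmask := 4294967295
  bsh := 11
  bmask := 2047
  nc := 14
  fuel := 5
  E := eT
  J := jT
  Mg := mgT
  JM := jmT
  relW := relW
  nrot := 35
  subW := subW
  nsub := 0

def M : ℕ := 18
def n : ℕ := 1

def bases : List (List ℕ) := [
  [0, 0],
  [2, 0, 2, 0, 2, 0, 2, 0],
  [4, 0, 4, 0],
  [6, 0, 6, 0],
  [10, 0, 10, 0],
  [12, 0, 12, 0],
  [8, 0, 8, 0],
  [0, 2, 0, 2, 0, 2, 0, 2],
  [2, 2],
  [4, 2, 4, 2, 4, 2],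
  [6, 2, 6, 2],
  [10, 2, 10, 2],
  [12, 2, 12, 2],
  [8, 2, 8, 2],
  [0, 4, 0, 4],
  [2, 4, 2, 4, 2, 4],
  [4, 4],
  [6, 4, 6, 4, 6, 4, 6, 4, 6, 4, 6, 4, 6, 4, 6, 4, 6, 4, 6, 4],
  [10, 4, 10, 4],
  [12, 4, 12, 4],
  [8, 4, 8, 4],
  [0, 6, 0, 6],
  [2, 6, 2, 6],
  [4, 6, 4, 6, 4, 6, 4, 6, 4, 6, 4, 6, 4, 6, 4, 6, 4, 6, 4, 6],
  [6, 6],
  [10, 6, 10, 6, 10, 6],
  [12, 6, 12, 6, 12, 6],
  [8, 6, 8, 6, 8, 6],
  [0, 10, 0, 10],
  [2, 10, 2, 10],
  [4, 10, 4, 10],
  [6, 10, 6, 10, 6, 10],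
  [10, 10],
  [12, 10, 12, 10, 12, 10, 12, 10],
  [8, 10, 8, 10],
  [0, 12, 0, 12],
  [2, 12, 2, 12],
  [4, 12, 4, 12],
  [6, 12, 6, 12, 6, 12],
  [10, 12, 10, 12, 10, 12, 10, 12],
  [12, 12],
  [8, 12, 8, 12],
  [0, 8, 0, 8],
  [2, 8, 2, 8],
  [4, 8, 4, 8],
  [6, 8, 6, 8, 6, 8],
  [10, 8, 10, 8],
  [12, 8, 12, 8],
  [8, 8],
  [11, 13, 11, 13, 8],
  [1, 3, 5, 1, 3, 5, 1, 3, 5, 8],
  [5, 7, 5, 7, 5, 7, 5, 7, 5, 7, 0],
  [12, 10, 6, 4, 12, 10, 6, 4, 12, 10, 6, 4, 12, 10, 6, 4],
  [6, 10, 12]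
]

def rots : List (ℕ × ℕ) := [(0, 0), (8, 0), (16, 0), (24, 0), (48, 0), (32, 0), (53, 2), (40, 0), (53, 0), (26, 1), (2, 1), (3, 1), (5, 0), (53, 1), (4, 0), (49, 4), (49, 0), (6, 0), (27, 0), (11, 0), (18, 0), (13, 0), (12, 0), (19, 0), (51, 1), (10, 1), (3, 0), (13, 1), (11, 1), (51, 10), (9, 1), (20, 0), (10, 0), (50, 2), (1, 0)]

def subsL : List (List ℕ) := [

]

end Cfsg.Agent.Helper4.TC.HeX
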