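import Cfsg.Agent.Lib.Helper4.TC.HeZ0D
import Cfsg.Agent.Lib.Helper4.TC.Strict

set_option autoImplicit false
set_option maxRecDepth 100000
set_option linter.unusedVariables false
set_option Elab.async false

namespace Cfsg.Agent.Helper4.TC.HeZ0

open Cfsg.Agent.Helper4.TC

theorem e13_c0 : edgeRange data 13 15340 0 = true := edgeRange_strict data 13 15340 0 (by decide +kernel)
theorem e13_c1 : edgeRange data 13 15305 15340 = true := edgeRange_strict data 13 15305 15340 (by decide +kernel)
theorem e13_c2 : edgeRange data 13 15283 30645 = true := edgeRange_strict data 13 15283 30645 (by decide +kernel)
theorem e13_c3 : edgeRange data 13 15241 45928 = true := edgeRange_strict data 13 15241 45928 (by decide +kernel)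
theorem e13_c4 : edgeRange data 13 15335 61169 = true := edgeRange_strict data 13 15335 61169 (by decide +kernel)
theorem e13_c5 : edgeRange data 13 15287 76504 = true := edgeRange_strict data 13 15287 76504 (by decide +kernel)
theorem e13_c6 : edgeRange data 13 15376 91791 = true := edgeRange_strict data 13 15376 91791 (by decide +kernel)
theorem e13_c7 : edgeRange data 13 15378 107167 = true := edgeRange_strict data 13 15378 107167 (by decide +kernel)
theorem e13_c8 : edgeRange data 13 15403 122545 = true := edgeRange_strict data 13 15403 122545 (by decide +kernel)
theorem e13_c9 : edgeRange data 13 15366 137948 = true := edgeRange_strict data 13 15366 137948 (by decide +kernel)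
theorem e13_c10 : edgeRange data 13 15370 153314 = true := edgeRange_strict data 13 15370 153314 (by decide +kernel)
theorem e13_c11 : edgeRange data 13 15355 168684 = true := edgeRange_strict data 13 15355 168684 (by decide +kernel)
theorem e13_c12 : edgeRange data 13 15330 184039 = true := edgeRange_strict data 13 15330 184039 (by decide +kernel)
theorem e13_c13 : edgeRange data 13 15298 199369 = true := edgeRange_strict data 13 15298 199369 (by decide +kernel)
theorem e13_c14 : edgeRange data 13 15426 214667 = true := edgeRange_strict data 13 15426 214667 (by decide +kernel)
theorem e13_c15 : edgeRange data 13 15545 230093 = true := edgeRange_strict data 13 15545 230093 (by decide +kernel)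
theorem e13_c16 : edgeRange data 13 15754 245638 = true := edgeRange_strict data 13 15754 245638 (by decide +kernel)
theorem e13_c17 : edgeRange data 13 33918 261392 = true := edgeRange_strict data 13 33918 261392 (by decide +kernel)
theorem e13_c18 : edgeRange data 13 50000 295310 = true := edgeRange_strict data 13 50000 295310 (by decide +kernel)
theorem e13_c19 : edgeRange data 13 50000 345310 = true := edgeRange_strict data 13 50000 345310 (by decide +kernel)
theorem e13_c20 : edgeRange data 13 50000 395310 = true := edgeRange_strict data 13 50000 395310 (by decide +kernel)
theorem e13_c21 : edgeRange data 13 50000 445310 = true := edgeRange_strict data 13 50000 445310 (by decide +kernel)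
theorem e13_c22 : edgeRange data 13 28978 495310 = true := edgeRange_strict data 13 28978 495310 (by decide +kernel)

end Cfsg.Agent.Helper4.TC.HeZ0
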