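import Cfsg.Agent.Lib.Helper4.TC.HeZ0D
import Cfsg.Agent.Lib.Helper4.TC.Strict

set_option autoImplicit false
set_option maxRecDepth 100000
set_option linter.unusedVariables false
set_option Elab.async false

namespace Cfsg.Agent.Helper4.TC.HeZ0

open Cfsg.Agent.Helper4.TC

theorem rows130 : rowsRange data 269124 1172 153166 = true := rowsRange_strict data 269124 1172 153166 (by decide +kernel)
theorem rows131 : rowsRange data 269124 1172 154338 = true := rowsRange_strict data 269124 1172 154338 (by decide +kernel)
theorem rows132 : rowsRange data 269124 1174 155510 = true := rowsRange_strict data 269124 1174 155510 (by decide +kernel)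
theorem rows133 : rowsRange data 269124 1174 156684 = true := rowsRange_strict data 269124 1174 156684 (by decide +kernel)
theorem rows134 : rowsRange data 269124 1171 157858 = true := rowsRange_strict data 269124 1171 157858 (by decide +kernel)
theorem rows135 : rowsRange data 269124 1181 159029 = true := rowsRange_strict data 269124 1181 159029 (by decide +kernel)
theorem rows136 : rowsRange data 269124 1184 160210 = true := rowsRange_strict data 269124 1184 160210 (by decide +kernel)
theorem rows137 : rowsRange data 269124 1175 161394 = true := rowsRange_strict data 269124 1175 161394 (by decide +kernel)

end Cfsg.Agent.Helper4.TC.HeZ0
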