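import Cfsg.Agent.Lib.Helper4.TC.Timed

set_option autoImplicit false
set_option maxRecDepth 100000
set_option linter.unusedVariables false

namespace Cfsg.Agent.Helper4.TC.HeZ2

open Cfsg.Agent.Helper4.TC

def e0_0 : ℕ := 0xb800
def j0_0 : ℕ := 0x4
noncomputable def ecol0 (b : ℕ) : ℕ := e0_0
noncomputable def jcol0 (b : ℕ) : ℕ := j0_0

def e1_0 : ℕ := 0xb000
def j1_0 : ℕ := 0x5
noncomputable def ecol1 (b : ℕ) : ℕ := e1_0
noncomputable def jcol1 (b : ℕ) : ℕ := j1_0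

def e2_0 : ℕ := 0xa800
def j2_0 : ℕ := 0xc
noncomputable def ecol2 (b : ℕ) : ℕ := e2_0
noncomputable def jcol2 (b : ℕ) : ℕ := j2_0

def e3_0 : ℕ := 0xa000
def j3_0 : ℕ := 0x5
noncomputable def ecol3 (b : ℕ) : ℕ := e3_0
noncomputable def jcol3 (b : ℕ) : ℕ := j3_0

def e4_0 : ℕ := 0x9800
def j4_0 : ℕ := 0x14
noncomputable def ecol4 (b : ℕ) : ℕ := e4_0
noncomputable def jcol4 (b : ℕ) : ℕ := j4_0

def e5_0 : ℕ := 0x9000
def j5_0 : ℕ := 0x5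
noncomputable def ecol5 (b : ℕ) : ℕ := e5_0
noncomputable def jcol5 (b : ℕ) : ℕ := j5_0

def e6_0 : ℕ := 0xfc001
def j6_0 : ℕ := 0x1
noncomputable def ecol6 (b : ℕ) : ℕ := e6_0
noncomputable def jcol6 (b : ℕ) : ℕ := j6_0

def e7_0 : ℕ := 0x1800006800
def j7_0 : ℕ := 0x20000000e
noncomputable def ecol7 (b : ℕ) : ℕ := e7_0
noncomputable def jcol7 (b : ℕ) : ℕ := j7_0

def e8_0 : ℕ := 0x8800
def j8_0 : ℕ := 0x3
noncomputable def ecol8 (b : ℕ) : ℕ := e8_0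
noncomputable def jcol8 (b : ℕ) : ℕ := j8_0

def e9_0 : ℕ := 0x8000
def j9_0 : ℕ := 0x5
noncomputable def ecol9 (b : ℕ) : ℕ := e9_0
noncomputable def jcol9 (b : ℕ) : ℕ := j9_0

def e10_0 : ℕ := 0xbc002
def j10_0 : ℕ := 0x1
noncomputable def ecol10 (b : ℕ) : ℕ := e10_0
noncomputable def jcol10 (b : ℕ) : ℕ := j10_0

def e11_0 : ℕ := 0x300000000004800
def j11_0 : ℕ := 0x20000000000000016
noncomputable def ecol11 (b : ℕ) : ℕ := e11_0
noncomputable def jcol11 (b : ℕ) : ℕ := j11_0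

def e12_0 : ℕ := 0x7c003
def j12_0 : ℕ := 0x1
noncomputable def ecol12 (b : ℕ) : ℕ := e12_0
noncomputable def jcol12 (b : ℕ) : ℕ := j12_0

def e13_0 : ℕ := 0x60000000000000002800
def j13_0 : ℕ := 0x200000000000000000000001e
noncomputable def ecol13 (b : ℕ) : ℕ := e13_0
noncomputable def jcol13 (b : ℕ) : ℕ := j13_0

def m_0 : ℕ := 0xc000700014001600018003c00000000000
def jm_0 : ℕ := 0x31000000210000001100000000

noncomputable def mgT (b : ℕ) : ℕ := m_0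
noncomputable def jmT (b : ℕ) : ℕ := jm_0
noncomputable def eT (c b : ℕ) : ℕ := Bool.rec (motive := fun _ => ℕ) (Bool.rec (motive := fun _ => ℕ) (Bool.rec (motive := fun _ => ℕ) (ecol0 b) (Bool.rec (motive := fun _ => ℕ) (ecol1 b) (ecol2 b) (Nat.ble 2 c)) (Nat.ble 1 c)) (Bool.rec (motive := fun _ => ℕ) (Bool.rec (motive := fun _ => ℕ) (ecol3 b) (ecol4 b) (Nat.ble 4 c)) (Bool.rec (motive := fun _ => ℕ) (ecol5 b) (ecol6 b) (Nat.ble 6 c)) (Nat.ble 5 c)) (Nat.ble 3 c)) (Bool.rec (motive := fun _ => ℕ) (Bool.rec (motive := fun _ => ℕ) (ecol7 b) (Bool.rec (motive := fun _ => ℕ) (ecol8 b) (ecol9 b) (Nat.ble 9 c)) (Nat.ble 8 c)) (Bool.rec (motive := fun _ => ℕ) (Bool.rec (motive := fun _ => ℕ) (ecol10 b) (ecol11 b) (Nat.ble 11 c)) (Bool.rec (motive := fun _ => ℕ) (ecol12 b) (ecol13 b) (Nat.ble 13 c)) (Nat.ble 12 c)) (Nat.ble 10 c)) (Nat.ble 7 c)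
noncomputable def jT (c b : ℕ) : ℕ := Bool.rec (motive := fun _ => ℕ) (Bool.rec (motive := fun _ => ℕ) (Bool.rec (motive := fun _ => ℕ) (jcol0 b) (Bool.rec (motive := fun _ => ℕ) (jcol1 b) (jcol2 b) (Nat.ble 2 c)) (Nat.ble 1 c)) (Bool.rec (motive := fun _ => ℕ) (Bool.rec (motive := fun _ => ℕ) (jcol3 b) (jcol4 b) (Nat.ble 4 c)) (Bool.rec (motive := fun _ => ℕ) (jcol5 b) (jcol6 b) (Nat.ble 6 c)) (Nat.ble 5 c)) (Nat.ble 3 c)) (Bool.rec (motive := fun _ => ℕ) (Bool.rec (motive := fun _ => ℕ) (jcol7 b) (Bool.rec (motive := fun _ => ℕ) (jcol8 b) (jcol9 b) (Nat.ble 9 c)) (Nat.ble 8 c)) (Bool.rec (motive := fun _ => ℕ) (Bool.rec (motive := fun _ => ℕ) (jcol10 b) (jcol11 b) (Nat.ble 11 c)) (Bool.rec (motive := fun _ => ℕ) (jcol12 b) (jcol13 b) (Nat.ble 13 c)) (Nat.ble 12 c)) (Nat.ble 10 c)) (Nat.ble 7 c)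

def rw0 : List ℕ := [8, 1, 3, 5, 1, 3, 5, 1, 3, 5]
def rw1 : List ℕ := [6]
def rw2 : List ℕ := [10]
def rw3 : List ℕ := [12]
noncomputable def relW (i : ℕ) : List ℕ := Bool.rec (motive := fun _ => List ℕ) (Bool.rec (motive := fun _ => List ℕ) (rw0) (rw1) (Nat.ble 1 i)) (Bool.rec (motive := fun _ => List ℕ) (rw2) (rw3) (Nat.ble 3 i)) (Nat.ble 2 i)
def sw0 : List ℕ := [0]
def sw1 : List ℕ := [2]
def sw2 : List ℕ := [4]
noncomputable def subW (i : ℕ) : List ℕ := Bool.rec (motive := fun _ => List ℕ) (sw0) (Bool.rec (motive := fun _ => List ℕ) (sw1) (sw2) (Nat.ble 2 i)) (Nat.ble 1 i)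

noncomputable def data : Data where
  w := 11
  mask := 2047
  tw := 5
  tmask := 31
  hsh := 16
  lsh := 27
  ew := 21
  emask := 2097151
  mw := 35
  mmask := 34359738367
  jw := 32
  jmask := 4294967295
  bsh := 11
  bmask := 2047
  nc := 14
  fuel := 3
  E := eT
  J := jT
  Mg := mgT
  JM := jmT
  relW := relW
  nrot := 4
  subW := subW
  nsub := 3

def M : ℕ := 4
def n : ℕ := 1

def bases : List (List ℕ) := [
  [0, 0],
  [2, 0, 2, 0, 2, 0, 2, 0],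
  [4, 0, 4, 0],
  [8, 0, 8, 0],
  [0, 2, 0, 2, 0, 2, 0, 2],
  [2, 2],
  [4, 2, 4, 2, 4, 2],
  [8, 2, 8, 2],
  [0, 4, 0, 4],
  [2, 4, 2, 4, 2, 4],
  [4, 4],
  [8, 4, 8, 4],
  [0, 8, 0, 8],
  [2, 8, 2, 8],
  [4, 8, 4, 8],
  [8, 8],
  [1, 3, 5, 1, 3, 5, 1, 3, 5, 8],
  [6],
  [10],
  [12]
]

def rots : List (ℕ × ℕ) := [(16, 9), (17, 0), (18, 0), (19, 0)]

def subsL : List (List ℕ) := [
  [0],
  [2],
  [4]
]

end Cfsg.Agent.Helper4.TC.HeZ2
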