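import Cfsg.Agent.Lib.Helper4.TC.Timed

set_option autoImplicit false
set_option maxRecDepth 100000
set_option linter.unusedVariables false

namespace Cfsg.Agent.Helper4.TC.HeZ5

open Cfsg.Agent.Helper4.TC

def e0_0 : ℕ := 0xdec020000006bb001
def j0_0 : ℕ := 0x10000000000000001
noncomputable def ecol0 (b : ℕ) : ℕ := e0_0
noncomputable def jcol0 (b : ℕ) : ℕ := j0_0

def e1_0 : ℕ := 0x1b002000000000000000000000000000000320080d800019800
def j1_0 : ℕ := 0x2000000000000000000000000000000000000000000000046000000020000000e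
noncomputable def ecol1 (b : ℕ) : ℕ := e1_0
noncomputable def jcol1 (b : ℕ) : ℕ := j1_0

def e2_0 : ℕ := 0x620000000001b002
def j2_0 : ℕ := 0xb0000000000000001
noncomputable def ecol2 (b : ℕ) : ℕ := e2_0
noncomputable def jcol2 (b : ℕ) : ℕ := j2_0

def e3_0 : ℕ := 0x6c00000000018002
def j3_0 : ℕ := 0x20000000000000015
noncomputable def ecol3 (b : ℕ) : ℕ := e3_0
noncomputable def jcol3 (b : ℕ) : ℕ := j3_0

def e4_0 : ℕ := 0xbec024000005fb003
def j4_0 : ℕ := 0x10000000000000001
noncomputable def ecol4 (b : ℕ) : ℕ := e4_0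
noncomputable def jcol4 (b : ℕ) : ℕ := j4_0

def e5_0 : ℕ := 0xd8010000000000000000000000000000003600002a00800000016800
def j5_0 : ℕ := 0x20000000000000000000000000000000000000000000000020000004e000000000000001e
noncomputable def ecol5 (b : ℕ) : ℕ := e5_0
noncomputable def jcol5 (b : ℕ) : ℕ := j5_0

def e6_0 : ℕ := 0x9ec0280000057b004
def j6_0 : ℕ := 0x10000000000000001
noncomputable def ecol6 (b : ℕ) : ℕ := e6_0
noncomputable def jcol6 (b : ℕ) : ℕ := j6_0

def e7_0 : ℕ := 0x6c008000000000000000000000000000001b00000000002200800000014800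
def j7_0 : ℕ := 0x200000000000000000000000000000000000000000000000200000000000000560000000000000026
noncomputable def ecol7 (b : ℕ) : ℕ := e7_0
noncomputable def jcol7 (b : ℕ) : ℕ := j7_0

def e8_0 : ℕ := 0x7ec02c000004fb005
def j8_0 : ℕ := 0x10000000000000001
noncomputable def ecol8 (b : ℕ) : ℕ := e8_0
noncomputable def jcol8 (b : ℕ) : ℕ := j8_0

def e9_0 : ℕ := 0x36004000000000000000000000000000000d80000000000000001a00800000012800
def j9_0 : ℕ := 0x200000000000000000000000000000000000000000000000200000000000000000000005e000000000000002e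
noncomputable def ecol9 (b : ℕ) : ℕ := e9_0
noncomputable def jcol9 (b : ℕ) : ℕ := j9_0

def e10_0 : ℕ := 0x5ec0300000047b006
def j10_0 : ℕ := 0x10000000000000001
noncomputable def ecol10 (b : ℕ) : ℕ := e10_0
noncomputable def jcol10 (b : ℕ) : ℕ := j10_0

def e11_0 : ℕ := 0x1b0020000000000000000000000000000006c0000000000000000000001200800000010800
def j11_0 : ℕ := 0x2000000000000000000000000000000000000000000000002000000000000000000000000000000660000000000000036
noncomputable def ecol11 (b : ℕ) : ℕ := e11_0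
noncomputable def jcol11 (b : ℕ) : ℕ := j11_0

def e12_0 : ℕ := 0x3ec034000003fb007
def j12_0 : ℕ := 0x10000000000000001
noncomputable def ecol12 (b : ℕ) : ℕ := e12_0
noncomputable def jcol12 (b : ℕ) : ℕ := j12_0

def e13_0 : ℕ := 0xd801000000000000000000000000000000360000000000000000000000000000a0080000000e800
def j13_0 : ℕ := 0x2000000000000000000000000000000000000000000000002000000000000000000000000000000000000006e000000000000003e
noncomputable def ecol13 (b : ℕ) : ℕ := e13_0
noncomputable def jcol13 (b : ℕ) : ℕ := j13_0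

def m_0 : ℕ := 0xc00438020a004580208004780206004980204004b80200004d8020c000f8000a001180008001380006001580004001780002000000200001a800000000000
def jm_0 : ℕ := 0x6100000051000000410000003100000021000000010000006100000051000000410000003100000021000000000000000100000000

noncomputable def mgT (b : ℕ) : ℕ := m_0
noncomputable def jmT (b : ℕ) : ℕ := jm_0
noncomputable def eT (c b : ℕ) : ℕ := Bool.rec (motive := fun _ => ℕ) (Bool.rec (motive := fun _ => ℕ) (Bool.rec (motive := fun _ => ℕ) (ecol0 b) (Bool.rec (motive := fun _ => ℕ) (ecol1 b) (ecol2 b) (Nat.ble 2 c)) (Nat.ble 1 c)) (Bool.rec (motive := fun _ => ℕ) (Bool.rec (motive := fun _ => ℕ) (ecol3 b) (ecol4 b) (Nat.ble 4 c)) (Bool.rec (motive := fun _ => ℕ) (ecol5 b) (ecol6 b) (Nat.ble 6 c)) (Nat.ble 5 c)) (Nat.ble 3 c)) (Bool.rec (motive := fun _ => ℕ) (Bool.rec (motive := fun _ => ℕ) (ecol7 b) (Bool.rec (motive := fun _ => ℕ) (ecol8 b) (ecol9 b) (Nat.ble 9 c)) (Nat.ble 8 c)) (Bool.rec (motive := fun _ => ℕ)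 (Bool.rec (motive := fun _ => ℕ) (ecol10 b) (ecol11 b) (Nat.ble 11 c)) (Bool.rec (motive := fun _ => ℕ) (ecol12 b) (ecol13 b) (Nat.ble 13 c)) (Nat.ble 12 c)) (Nat.ble 10 c)) (Nat.ble 7 c)
noncomputable def jT (c b : ℕ) : ℕ := Bool.rec (motive := fun _ => ℕ) (Bool.rec (motive := fun _ => ℕ) (Bool.rec (motive := fun _ => ℕ) (jcol0 b) (Bool.rec (motive := fun _ => ℕ) (jcol1 b) (jcol2 b) (Nat.ble 2 c)) (Nat.ble 1 c)) (Bool.rec (motive := fun _ => ℕ) (Bool.rec (motive := fun _ => ℕ) (jcol3 b) (jcol4 b) (Nat.ble 4 c)) (Bool.rec (motive := fun _ => ℕ) (jcol5 b) (jcol6 b) (Nat.ble 6 c)) (Nat.ble 5 c)) (Nat.ble 3 c)) (Bool.rec (motive := fun _ => ℕ) (Bool.rec (motive := fun _ => ℕ) (jcol7 b) (Bool.rec (motive := fun _ => ℕ) (jcol8 b) (jcol9 b) (Nat.ble 9 c)) (Nat.ble 8 c)) (Bool.rec (motive := fun _ => ℕ) (Bool.rec (motive := fun _ => ℕ) (jcol10 b) (jcol11 b) (Nat.ble 11 c)) (Bool.rec (motive := fun _ => ℕ) (jcol12 b) (jcol13 b) (Nat.ble 13 c)) (Nat.ble 12 c)) (Nat.ble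 10 c)) (Nat.ble 7 c)

def rw0 : List ℕ := [0]
def rw1 : List ℕ := [2, 2]
def rw2 : List ℕ := [4]
def rw3 : List ℕ := [6]
def rw4 : List ℕ := [8]
def rw5 : List ℕ := [10]
def rw6 : List ℕ := [12]
noncomputable def relW (i : ℕ) : List ℕ := Bool.rec (motive := fun _ => List ℕ) (Bool.rec (motive := fun _ => List ℕ) (rw0) (Bool.rec (motive := fun _ => List ℕ) (rw1) (rw2) (Nat.ble 2 i)) (Nat.ble 1 i)) (Bool.rec (motive := fun _ => List ℕ) (Bool.rec (motive := fun _ => List ℕ) (rw3) (rw4) (Nat.ble 4 i)) (Bool.rec (motive := fun _ => List ℕ) (rw5) (rw6) (Nat.ble 6 i)) (Nat.ble 5 i)) (Nat.ble 3 i)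
noncomputable def subW (i : ℕ) : List ℕ := []

noncomputable def data : Data where
  w := 11
  mask := 2047
  tw := 6
  tmask := 63
  hsh := 17
  lsh := 28
  ew := 23
  emask := 8388607
  mw := 36
  mmask := 68719476735
  jw := 32
  jmask := 4294967295
  bsh := 11
  bmask := 2047
  nc := 14
  fuel := 3
  E := eT
  J := jT
  Mg := mgT
  JM := jmT
  relW := relW
  nrot := 7
  subW := subW
  nsub := 0

def M : ℕ := 14
def n : ℕ := 2

def bases : List (List ℕ) := [
  [2, 2],
  [0],
  [4],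
  [6],
  [8],
  [10],
  [12]
]

def rots : List (ℕ × ℕ) := [(1, 0), (0, 0), (2, 0), (3, 0), (4, 0), (5, 0), (6, 0)]

def subsL : List (List ℕ) := [

]

end Cfsg.Agent.Helper4.TC.HeZ5
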