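import Cfsg.Prelude.Def_SporCoxeter

set_option autoImplicit false

/-! A presentation of a simple group of order 175560 on two generators. -/

namespace Cfsg.Agent.Helper4.Pres

namespace J1

inductive Gen
  | a
  | b
  deriving DecidableEq

abbrev a : FreeGroup Gen := FreeGroup.of Gen.a
abbrev b : FreeGroup Gen := FreeGroup.of Gen.b

def edges : List (Gen × ℕ × Gen) := []

def extra : List (FreeGroup Gen) := [
  a ^ 2,
  b ^ 3,
  (a * b) ^ 7,
  (a * b * (a * b * a * b⁻¹) ^ 3) ^ 5,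
  (a * b * (a * b * a * b⁻¹) ^ 6 * a * b * a * b * (a * b⁻¹) ^ 2) ^ 2 ]

end J1

namespace M11

inductive Gen
  | a
  | b
  deriving DecidableEq

abbrev a : FreeGroup Gen := FreeGroup.of Gen.a
abbrev b : FreeGroup Gen := FreeGroup.of Gen.b

def edges : List (Gen × ℕ × Gen) := []

def extra : List (FreeGroup Gen) := [
  a ^ 2,
  b ^ 4,
  (a * b) ^ 11,
  (a * b * b) ^ 6,
  a * b * a * b * a * b⁻¹ * a * b * a * b * b * a * b⁻¹ * a * b * a * b⁻¹ * a * b⁻¹ ]

end M11

end Cfsg.Agent.Helper4.Pres
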