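import Cfsg.Agent.Lib.Helper4.TC.J1PL211Model
import Cfsg.Agent.Lib.Helper4.TC.J1PL211Data
import Cfsg.Agent.Lib.Helper4.TC.Strict

set_option autoImplicit false
set_option maxRecDepth 100000
set_option linter.unusedVariables false
set_option Elab.async false

namespace Cfsg.Agent.Helper4.TC.J1PL211

open Cfsg.Agent.Helper4.TC

theorem rel0 : relsRange mdata bases 266 0 = true := relsRange_strict mdata bases 266 0 (by decide +kernel)
theorem inv0 : invRange mdata 266 0 = true := invRange_strict mdata 266 0 (by decide +kernel)
theorem tree0 : treeRange mdata 265 1 = true := treeRange_strict mdata 265 1 (by decide +kernel)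
theorem closed1_0 : closedRange mdata subsL 1 111 110 1 = true := closedRange_strict mdata subsL 1 111 110 1 (by decide +kernel)
theorem reach1_0 : reachRange mdata subsL 1 109 2 = true := reachRange_strict mdata subsL 1 109 2 (by decide +kernel)
theorem closed2_0 : closedRange mdata subsL 111 243 132 111 = true := closedRange_strict mdata subsL 111 243 132 111 (by decide +kernel)
theorem reach2_0 : reachRange mdata subsL 111 131 112 = true := reachRange_strict mdata subsL 111 131 112 (by decide +kernel)
theorem closed3_0 : closedRange mdata subsL 243 254 11 243 = true := closedRange_strict mdata subsL 243 254 11 243 (by decide +kernel)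

end Cfsg.Agent.Helper4.TC.J1PL211
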