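import Cfsg.Agent.Lib.Helper4.TC.J1PL211Model
import Cfsg.Agent.Lib.Helper4.TC.J1PL211Data
import Cfsg.Agent.Lib.Helper4.TC.Strict

set_option autoImplicit false
set_option maxRecDepth 100000
set_option linter.unusedVariables false
set_option Elab.async false

namespace Cfsg.Agent.Helper4.TC.J1PL211

open Cfsg.Agent.Helper4.TC

theorem reach3_0 : reachRange mdata subsL 243 10 244 = true := reachRange_strict mdata subsL 243 10 244 (by decide +kernel)
theorem closed4_0 : closedRange mdata subsL 254 266 12 254 = true := closedRange_strict mdata subsL 254 266 12 254 (by decide +kernel)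
theorem reach4_0 : reachRange mdata subsL 254 11 255 = true := reachRange_strict mdata subsL 254 11 255 (by decide +kernel)
theorem sub0_ok : sub0OK mdata subsL = true := by decide +kernel
theorem relc_ok : wordsLettersOK 4 bases = true := by decide +kernel
theorem subc_ok : wordsLettersOK 4 subsL = true := by decide +kernel

end Cfsg.Agent.Helper4.TC.J1PL211
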