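import Cfsg.Agent.Lib.Helper4.TC.Perm

set_option autoImplicit false
set_option maxRecDepth 100000
set_option linter.unusedVariables false

namespace Cfsg.Agent.Helper4.TC.J1PS

open Cfsg.Agent.Helper4.TC

def l2_0 : ℕ := 0x200083ebc8000020eef10100083b3c0080020e8ef020008393b8040020deed01000735bb008001cd4eb02000734ba804001cd0e901000731ba008001cc4e70100072f39808001cb6e50100072db9004001cb4e30200072cb8800001cb2e10100072ab8000001caadf0200072a37808001ca4dd0000072937004001ca2db02000624b6804001892d9010006243600800188ed700000623b5800001884d5010006203500000187cd30200061eb480400187ad10100061e34008001876cf0100061d33808001870cd0200061bb300000186ecb0000061ab2808001868c90100061a32008001864c701000618b1800001862c50200061831000001860c302000617b080400185ec102000616b0008001458bf000005162f808001452bd00000514af00800144ebb01000513ae80400144cb9000005132e00800144ab701000512ad804001448b5000005122d008001446b301000511ac804001444b1000005112c008001442af00000510ab808001440ad000005102b00800143eab0100050faa80800143ca90100050eaa00000143aa70100050e29800001436a502000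50d29000001434a30200050ca8800001432a10200050c280040014309f0000050ba780800142c9d0000050b2700400102a9b0000040aa6808001028990100040a260040010269700000409a58080010249500000409250080010229300000408a480800102091010004082400400101e8f00000407a380000101c8d02000406a300000101a8b02000406228040010188901000405a20000010168702000405218040010148502000304a1000000c12830200030420804000c108101000303a0000000c0e7f020003031f804000c0c7d010003029f000000c0a7b020003021e800000c0879010002019e00000080677020002011d80000080475020002009d00400080273020001001c80400040071000001001c0000000006f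
noncomputable def lT2 (b : ℕ) : ℕ := l2_0
noncomputable def ld2 : LData where
  cnt := 132
  pmask := 511
  dmask := 65535
  ew := 42
  emask := 4398046511103
  s1 := 9
  s2 := 18
  s3 := 34
  bsh := 11
  bmask := 2047
  L := lT2

def W2 : List (List ℕ) := [
  [2, 0, 3, 0, 3, 0, 2, 0, 2, 0, 3],
  [0, 3, 0, 2, 0, 2, 0, 3, 0, 3, 0, 2, 0],
  [2, 0, 2, 0, 3, 0, 2, 0, 3, 0, 2, 0, 3, 0, 2, 0, 3, 0, 3]
]

def l3_0 : ℕ := 0x400690000020217400000c06590000040112c0000000001
noncomputable def lT3 (b : ℕ) : ℕ := l3_0
noncomputable def ld3 : LData where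
  cnt := 5
  pmask := 511
  dmask := 65535
  ew := 42
  emask := 4398046511103
  s1 := 9
  s2 := 18
  s3 := 34
  bsh := 11
  bmask := 2047
  L := lT3

def W3 : List (List ℕ) := [
  [3, 0, 3, 0, 3, 3, 0, 2, 0, 3, 0, 3, 0, 2, 0, 2, 0, 2, 2, 0, 3, 0, 3, 0, 1, 3, 1, 2, 1, 3, 1, 3, 1, 2, 1, 2, 1, 3, 1, 3, 1, 3, 1, 3, 1, 2, 1, 2, 1, 3, 1, 3, 1, 2, 1, 2, 1, 3, 1, 3, 1, 2, 1, 2, 1, 3, 1, 3, 1, 2, 1, 2, 1, 3, 1, 3, 1, 2, 1]
]

end Cfsg.Agent.Helper4.TC.J1PS
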