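import Cfsg.Agent.Lib.Helper4.TC.J1PSL
import Cfsg.Agent.Lib.Helper4.TC.J1PL211Glue
import Cfsg.Agent.Lib.Helper4.TC.Strict

set_option autoImplicit false
set_option maxRecDepth 100000
set_option linter.unusedVariables false
set_option Elab.async false

namespace Cfsg.Agent.Helper4.TC.J1PS

open Cfsg.Agent.Helper4.TC

theorem lvl2_c0 : lvlRange J1PL211.mdata ld2 W2 111 132 0 = true := lvlRange_strict J1PL211.mdata ld2 W2 111 132 0 (by decide +kernel)
theorem srt2_c0 : srtRange ld2 131 0 = true := srtRange_strict ld2 131 0 (by decide +kernel)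
theorem fix2 : ∀ w ∈ W2, (∀ c ∈ w, c < J1PL211.mdata.nc) ∧ ∀ q ∈ [0], mtrace J1PL211.mdata w q = q := by decide +kernel

theorem lvl3_c0 : lvlRange J1PL211.mdata ld3 W3 1 5 0 = true := lvlRange_strict J1PL211.mdata ld3 W3 1 5 0 (by decide +kernel)
theorem srt3_c0 : srtRange ld3 4 0 = true := srtRange_strict ld3 4 0 (by decide +kernel)
theorem fix3 : ∀ w ∈ W3, (∀ c ∈ w, c < J1PL211.mdata.nc) ∧ ∀ q ∈ [111, 0], mtrace J1PL211.mdata w q = q := by decide +kernel

theorem lvl2 : LevelOK J1PL211.mdata ld2 W2 111 := by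
  refine ⟨?_, ?_⟩
  · intro k hk
    have hk' : k < 132 := hk
    exact lvlRange_sound J1PL211.mdata ld2 W2 111 132 0 lvl2_c0 k (by omega) (by omega)
  · intro k hk
    have hk' : k + 1 < 132 := hk
    exact srtRange_sound ld2 131 0 srt2_c0 k (by omega) (by omega)

theorem lvl3 : LevelOK J1PL211.mdata ld3 W3 1 := by
  refine ⟨?_, ?_⟩
  · intro k hk
    have hk' : k < 5 := hk
    exact lvlRange_sound J1PL211.mdata ld3 W3 1 5 0 lvl3_c0 k (by omega) (by omega)
  · intro k hk
    have hk' : k + 1 < 5 := hk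
    exact srtRange_sound ld3 4 0 srt3_c0 k (by omega) (by omega)

noncomputable def specs : List LSpec := [⟨ld2, W2, 111⟩, ⟨ld3, W3, 1⟩]

theorem levels_ok : LevelsOK J1PL211.mdata [0] specs := by
  refine levelsOK_cons J1PL211.mdata [0] ⟨ld2, W2, 111⟩ _ lvl2 (by decide) fix2 ?_
  refine levelsOK_cons J1PL211.mdata [111, 0] ⟨ld3, W3, 1⟩ _ lvl3 (by decide) fix3 ?_
  exact levelsOK_nil _ _

end Cfsg.Agent.Helper4.TC.J1PS
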