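import Cfsg.Agent.Lib.Helper4.TC.J1PZ0D
import Cfsg.Agent.Lib.Helper4.TC.Strict

set_option autoImplicit false
set_option maxRecDepth 100000
set_option linter.unusedVariables false
set_option Elab.async false

namespace Cfsg.Agent.Helper4.TC.J1PZ0

open Cfsg.Agent.Helper4.TC

theorem e0_c0 : edgeRange data 0 15991 0 = true := edgeRange_strict data 0 15991 0 (by decide +kernel)
theorem e0_c1 : edgeRange data 0 14311 15991 = true := edgeRange_strict data 0 14311 15991 (by decide +kernel)
theorem e0_c2 : edgeRange data 0 13861 30302 = true := edgeRange_strict data 0 13861 30302 (by decide +kernel)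
theorem e0_c3 : edgeRange data 0 11797 44163 = true := edgeRange_strict data 0 11797 44163 (by decide +kernel)
theorem e0_c4 : edgeRange data 0 11673 55960 = true := edgeRange_strict data 0 11673 55960 (by decide +kernel)
theorem e0_c5 : edgeRange data 0 4757 67633 = true := edgeRange_strict data 0 4757 67633 (by decide +kernel)
theorem e0_c6 : edgeRange data 0 8763 72390 = true := edgeRange_strict data 0 8763 72390 (by decide +kernel)
theorem e0_c7 : edgeRange data 0 4846 81153 = true := edgeRange_strict data 0 4846 81153 (by decide +kernel)
theorem e0_c8 : edgeRange data 0 4378 85999 = true := edgeRange_strict data 0 4378 85999 (by decide +kernel)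
theorem e0_c9 : edgeRange data 0 34556 90377 = true := edgeRange_strict data 0 34556 90377 (by decide +kernel)
theorem e0_c10 : edgeRange data 0 6139 124933 = true := edgeRange_strict data 0 6139 124933 (by decide +kernel)

end Cfsg.Agent.Helper4.TC.J1PZ0
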