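import Cfsg.Agent.Lib.Helper4.TC.J1PZ0D
import Cfsg.Agent.Lib.Helper4.TC.Strict

set_option autoImplicit false
set_option maxRecDepth 100000
set_option linter.unusedVariables false
set_option Elab.async false

namespace Cfsg.Agent.Helper4.TC.J1PZ0

open Cfsg.Agent.Helper4.TC

theorem e1_c0 : edgeRange data 1 18892 0 = true := edgeRange_strict data 1 18892 0 (by decide +kernel)
theorem e1_c1 : edgeRange data 1 19683 18892 = true := edgeRange_strict data 1 19683 18892 (by decide +kernel)
theorem e1_c2 : edgeRange data 1 19380 38575 = true := edgeRange_strict data 1 19380 38575 (by decide +kernel)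
theorem e1_c3 : edgeRange data 1 19410 57955 = true := edgeRange_strict data 1 19410 57955 (by decide +kernel)
theorem e1_c4 : edgeRange data 1 26959 77365 = true := edgeRange_strict data 1 26959 77365 (by decide +kernel)
theorem e1_c5 : edgeRange data 1 26748 104324 = true := edgeRange_strict data 1 26748 104324 (by decide +kernel)

end Cfsg.Agent.Helper4.TC.J1PZ0
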