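import Cfsg.Agent.Lib.Helper4.TC.J1PZ0D
import Cfsg.Agent.Lib.Helper4.TC.Strict

set_option autoImplicit false
set_option maxRecDepth 100000
set_option linter.unusedVariables false
set_option Elab.async false

namespace Cfsg.Agent.Helper4.TC.J1PZ0

open Cfsg.Agent.Helper4.TC

theorem e2_c0 : edgeRange data 2 17597 0 = true := edgeRange_strict data 2 17597 0 (by decide +kernel)
theorem e2_c1 : edgeRange data 2 16059 17597 = true := edgeRange_strict data 2 16059 17597 (by decide +kernel)
theorem e2_c2 : edgeRange data 2 16493 33656 = true := edgeRange_strict data 2 16493 33656 (by decide +kernel)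
theorem e2_c3 : edgeRange data 2 14627 50149 = true := edgeRange_strict data 2 14627 50149 (by decide +kernel)
theorem e2_c4 : edgeRange data 2 12140 64776 = true := edgeRange_strict data 2 12140 64776 (by decide +kernel)
theorem e2_c5 : edgeRange data 2 9193 76916 = true := edgeRange_strict data 2 9193 76916 (by decide +kernel)
theorem e2_c6 : edgeRange data 2 16425 86109 = true := edgeRange_strict data 2 16425 86109 (by decide +kernel)
theorem e2_c7 : edgeRange data 2 28538 102534 = true := edgeRange_strict data 2 28538 102534 (by decide +kernel)

end Cfsg.Agent.Helper4.TC.J1PZ0
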