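import Cfsg.Agent.Lib.Helper4.TC.J1PZ0D
import Cfsg.Agent.Lib.Helper4.TC.Strict

set_option autoImplicit false
set_option maxRecDepth 100000
set_option linter.unusedVariables false
set_option Elab.async false

namespace Cfsg.Agent.Helper4.TC.J1PZ0

open Cfsg.Agent.Helper4.TC

theorem e3_c0 : edgeRange data 3 21282 0 = true := edgeRange_strict data 3 21282 0 (by decide +kernel)
theorem e3_c1 : edgeRange data 3 19718 21282 = true := edgeRange_strict data 3 19718 21282 (by decide +kernel)
theorem e3_c2 : edgeRange data 3 20592 41000 = true := edgeRange_strict data 3 20592 41000 (by decide +kernel)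
theorem e3_c3 : edgeRange data 3 13564 61592 = true := edgeRange_strict data 3 13564 61592 (by decide +kernel)
theorem e3_c4 : edgeRange data 3 6422 75156 = true := edgeRange_strict data 3 6422 75156 (by decide +kernel)
theorem e3_c5 : edgeRange data 3 9391 81578 = true := edgeRange_strict data 3 9391 81578 (by decide +kernel)
theorem e3_c6 : edgeRange data 3 33050 90969 = true := edgeRange_strict data 3 33050 90969 (by decide +kernel)
theorem e3_c7 : edgeRange data 3 7053 124019 = true := edgeRange_strict data 3 7053 124019 (by decide +kernel)

end Cfsg.Agent.Helper4.TC.J1PZ0
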