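import Cfsg.Agent.Lib.Helper4.TC.J1PZ0D
import Cfsg.Agent.Lib.Helper4.TC.Strict

set_option autoImplicit false
set_option maxRecDepth 100000
set_option linter.unusedVariables false
set_option Elab.async false

namespace Cfsg.Agent.Helper4.TC.J1PZ0

open Cfsg.Agent.Helper4.TC

theorem cnt0 : countFinal data 50000 0 0 = 48018 := countFinal_strict data 50000 0 0 48018 (by decide +kernel)
theorem cnt1 : countFinal data 42124 50000 0 = 39762 := countFinal_strict data 42124 50000 0 39762 (by decide +kernel)
theorem rows0 : rowsRange data 92124 3847 0 = true := rowsRange_strict data 92124 3847 0 (by decide +kernel)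
theorem rows1 : rowsRange data 92124 3847 3847 = true := rowsRange_strict data 92124 3847 3847 (by decide +kernel)
theorem rows2 : rowsRange data 92124 3847 7694 = true := rowsRange_strict data 92124 3847 7694 (by decide +kernel)
theorem rows3 : rowsRange data 92124 3847 11541 = true := rowsRange_strict data 92124 3847 11541 (by decide +kernel)
theorem rows4 : rowsRange data 92124 3847 15388 = true := rowsRange_strict data 92124 3847 15388 (by decide +kernel)
theorem rows5 : rowsRange data 92124 3852 19235 = true := rowsRange_strict data 92124 3852 19235 (by decide +kernel)

end Cfsg.Agent.Helper4.TC.J1PZ0
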