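import Cfsg.Agent.Lib.Helper4.TC.J1PZ0D
import Cfsg.Agent.Lib.Helper4.TC.Strict

set_option autoImplicit false
set_option maxRecDepth 100000
set_option linter.unusedVariables false
set_option Elab.async false

namespace Cfsg.Agent.Helper4.TC.J1PZ0

open Cfsg.Agent.Helper4.TC

theorem rows6 : rowsRange data 92124 3847 23087 = true := rowsRange_strict data 92124 3847 23087 (by decide +kernel)
theorem rows7 : rowsRange data 92124 3857 26934 = true := rowsRange_strict data 92124 3857 26934 (by decide +kernel)
theorem rows8 : rowsRange data 92124 3912 30791 = true := rowsRange_strict data 92124 3912 30791 (by decide +kernel)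
theorem rows9 : rowsRange data 92124 4082 34703 = true := rowsRange_strict data 92124 4082 34703 (by decide +kernel)
theorem rows10 : rowsRange data 92124 4197 38785 = true := rowsRange_strict data 92124 4197 38785 (by decide +kernel)
theorem rows11 : rowsRange data 92124 4578 42982 = true := rowsRange_strict data 92124 4578 42982 (by decide +kernel)
theorem rows12 : rowsRange data 92124 4668 47560 = true := rowsRange_strict data 92124 4668 47560 (by decide +kernel)
theorem rows13 : rowsRange data 92124 4654 52228 = true := rowsRange_strict data 92124 4654 52228 (by decide +kernel)

end Cfsg.Agent.Helper4.TC.J1PZ0
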