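import Cfsg.Agent.Lib.Helper4.TC.J1PZ0D
import Cfsg.Agent.Lib.Helper4.TC.Strict

set_option autoImplicit false
set_option maxRecDepth 100000
set_option linter.unusedVariables false
set_option Elab.async false

namespace Cfsg.Agent.Helper4.TC.J1PZ0

open Cfsg.Agent.Helper4.TC

theorem rows14 : rowsRange data 92124 4601 56882 = true := rowsRange_strict data 92124 4601 56882 (by decide +kernel)
theorem rows15 : rowsRange data 92124 4066 61483 = true := rowsRange_strict data 92124 4066 61483 (by decide +kernel)
theorem rows16 : rowsRange data 92124 3853 65549 = true := rowsRange_strict data 92124 3853 65549 (by decide +kernel)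
theorem rows17 : rowsRange data 92124 3848 69402 = true := rowsRange_strict data 92124 3848 69402 (by decide +kernel)
theorem rows18 : rowsRange data 92124 3847 73250 = true := rowsRange_strict data 92124 3847 73250 (by decide +kernel)
theorem rows19 : rowsRange data 92124 3847 77097 = true := rowsRange_strict data 92124 3847 77097 (by decide +kernel)
theorem rows20 : rowsRange data 92124 3847 80944 = true := rowsRange_strict data 92124 3847 80944 (by decide +kernel)
theorem rows21 : rowsRange data 92124 3847 84791 = true := rowsRange_strict data 92124 3847 84791 (by decide +kernel)

end Cfsg.Agent.Helper4.TC.J1PZ0
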