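import Cfsg.Agent.Lib.Helper4.TC.Perm
import Cfsg.Agent.Lib.Helper4.TC.J1PCod
import Cfsg.Agent.Lib.Helper4.TC.J1PZ0Fin
import Cfsg.Agent.Lib.Helper4.TC.J1PZ0CM
import Cfsg.Agent.Lib.Helper4.TC.J1PZ0CE0
import Cfsg.Agent.Lib.Helper4.TC.J1PZ0CE1
import Cfsg.Agent.Lib.Helper4.TC.J1PZ0CE2
import Cfsg.Agent.Lib.Helper4.TC.J1PZ0CE3
import Cfsg.Agent.Lib.Helper4.TC.J1PZ0CF0
import Cfsg.Agent.Lib.Helper4.TC.J1PZ0CF1
import Cfsg.Agent.Lib.Helper4.TC.J1PZ0CF2
import Cfsg.Agent.Lib.Helper4.TC.J1PZ0CF3

set_option autoImplicit false
set_option maxRecDepth 100000
set_option linter.unusedVariables false

namespace Cfsg.Agent.Helper4.TC.J1PZ0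

open Cfsg.Agent.Helper4.TC

theorem allE0 : ∀ k, k < 131072 → justE data 0 k = true := by
  intro k hk
  by_cases hh1 : k < 67633
  · skip
    by_cases hh2 : k < 30302
    · skip
      by_cases hh3 : k < 15991
      · skip
        exact edgeRange_sound data 0 15991 0 e0_c0 k (by omega) (by omega)
      · skip
        exact edgeRange_sound data 0 14311 15991 e0_c1 k (by omega) (by omega)
    · skip
      by_cases hh4 : k < 44163
      · skip
        exact edgeRange_sound data 0 13861 30302 e0_c2 k (by omega) (by omega)
      · skip
        by_cases hh5 : k < 55960
        · skip
          exact edgeRange_sound data 0 11797 44163 e0_c3 k (by omega) (by omega)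
        · skip
          exact edgeRange_sound data 0 11673 55960 e0_c4 k (by omega) (by omega)
  · skip
    by_cases hh6 : k < 85999
    · skip
      by_cases hh7 : k < 72390
      · skip
        exact edgeRange_sound data 0 4757 67633 e0_c5 k (by omega) (by omega)
      · skip
        by_cases hh8 : k < 81153
        · skip
          exact edgeRange_sound data 0 8763 72390 e0_c6 k (by omega) (by omega)
        · skip
          exact edgeRange_sound data 0 4846 81153 e0_c7 k (by omega) (by omega)
    · skip
      by_cases hh9 : k < 90377
      · skip
        exact edgeRange_sound data 0 4378 85999 e0_c8 k (by omega) (by omega)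
      · skip
        by_cases hh10 : k < 124933
        · skip
          exact edgeRange_sound data 0 34556 90377 e0_c9 k (by omega) (by omega)
        · skip
          exact edgeRange_sound data 0 6139 124933 e0_c10 k (by omega) (by omega)

theorem allE1 : ∀ k, k < 131072 → justE data 1 k = true := by
  intro k hk
  by_cases hh1 : k < 57955
  · skip
    by_cases hh2 : k < 18892
    · skip
      exact edgeRange_sound data 1 18892 0 e1_c0 k (by omega) (by omega)
    · skip
      by_cases hh3 : k < 38575
      · skip
        exact edgeRange_sound data 1 19683 18892 e1_c1 k (by omega) (by omega)
      · skip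
        exact edgeRange_sound data 1 19380 38575 e1_c2 k (by omega) (by omega)
  · skip
    by_cases hh4 : k < 77365
    · skip
      exact edgeRange_sound data 1 19410 57955 e1_c3 k (by omega) (by omega)
    · skip
      by_cases hh5 : k < 104324
      · skip
        exact edgeRange_sound data 1 26959 77365 e1_c4 k (by omega) (by omega)
      · skip
        exact edgeRange_sound data 1 26748 104324 e1_c5 k (by omega) (by omega)

theorem allE2 : ∀ k, k < 131072 → justE data 2 k = true := by
  intro k hk
  by_cases hh1 : k < 64776
  · skip
    by_cases hh2 : k < 33656
    · skip
      by_cases hh3 : k < 17597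
      · skip
        exact edgeRange_sound data 2 17597 0 e2_c0 k (by omega) (by omega)
      · skip
        exact edgeRange_sound data 2 16059 17597 e2_c1 k (by omega) (by omega)
    · skip
      by_cases hh4 : k < 50149
      · skip
        exact edgeRange_sound data 2 16493 33656 e2_c2 k (by omega) (by omega)
      · skip
        exact edgeRange_sound data 2 14627 50149 e2_c3 k (by omega) (by omega)
  · skip
    by_cases hh5 : k < 86109
    · skip
      by_cases hh6 : k < 76916
      · skip
        exact edgeRange_sound data 2 12140 64776 e2_c4 k (by omega) (by omega)
      · skip
        exact edgeRange_sound data 2 9193 76916 e2_c5 k (by omega) (by omega)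
    · skip
      by_cases hh7 : k < 102534
      · skip
        exact edgeRange_sound data 2 16425 86109 e2_c6 k (by omega) (by omega)
      · skip
        exact edgeRange_sound data 2 28538 102534 e2_c7 k (by omega) (by omega)

theorem allE3 : ∀ k, k < 131072 → justE data 3 k = true := by
  intro k hk
  by_cases hh1 : k < 75156
  · skip
    by_cases hh2 : k < 41000
    · skip
      by_cases hh3 : k < 21282
      · skip
        exact edgeRange_sound data 3 21282 0 e3_c0 k (by omega) (by omega)
      · skip
        exact edgeRange_sound data 3 19718 21282 e3_c1 k (by omega) (by omega)
    · skip
      by_cases hh4 : k < 61592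
      · skip
        exact edgeRange_sound data 3 20592 41000 e3_c2 k (by omega) (by omega)
      · skip
        exact edgeRange_sound data 3 13564 61592 e3_c3 k (by omega) (by omega)
  · skip
    by_cases hh5 : k < 90969
    · skip
      by_cases hh6 : k < 81578
      · skip
        exact edgeRange_sound data 3 6422 75156 e3_c4 k (by omega) (by omega)
      · skip
        exact edgeRange_sound data 3 9391 81578 e3_c5 k (by omega) (by omega)
    · skip
      by_cases hh7 : k < 124019
      · skip
        exact edgeRange_sound data 3 33050 90969 e3_c6 k (by omega) (by omega)
      · skip
        exact edgeRange_sound data 3 7053 124019 e3_c7 k (by omega) (by omega)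

theorem allE : ∀ c k, c < data.nc → k ≤ data.mask → justE data c k = true := by
  intro c k hc hk
  have hc' : c < 4 := hc
  have hk' : k < 131072 := Nat.lt_succ_of_le hk
  interval_cases c
  · exact allE0 k hk'
  · exact allE1 k hk'
  · exact allE2 k hk'
  · exact allE3 k hk'

theorem allM : ∀ k, k ≤ data.mask → justM data k = true := by
  intro k hk
  have hk' : k < 131072 := Nat.lt_succ_of_le hk
  by_cases hh1 : k < 59483
  · skip
    by_cases hh2 : k < 44960
    · skip
      exact mergeRange_sound data 44960 0 m_c0 k (by omega) (by omega)
    · skip
      exact mergeRange_sound data 14523 44960 m_c1 k (by omega) (by omega)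
  · skip
    by_cases hh3 : k < 93292
    · skip
      exact mergeRange_sound data 33809 59483 m_c2 k (by omega) (by omega)
    · skip
      exact mergeRange_sound data 37780 93292 m_c3 k (by omega) (by omega)

theorem rows_all : ∀ k, k < M → isFinal data k = true → rowOK data M k data.nc = true := by
  intro k hk
  have hk' : k < 92124 := hk
  by_cases hh1 : k < 42982
  · skip
    by_cases hh2 : k < 19235
    · skip
      by_cases hh3 : k < 7694
      · skip
        by_cases hh4 : k < 3847
        · skip
          exact rowsRange_sound data M 3847 0 rows0 k (by omega) (by omega)
        · skip
          exact rowsRange_sound data M 3847 3847 rows1 k (by omega) (by omega)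
      · skip
        by_cases hh5 : k < 11541
        · skip
          exact rowsRange_sound data M 3847 7694 rows2 k (by omega) (by omega)
        · skip
          by_cases hh6 : k < 15388
          · skip
            exact rowsRange_sound data M 3847 11541 rows3 k (by omega) (by omega)
          · skip
            exact rowsRange_sound data M 3847 15388 rows4 k (by omega) (by omega)
    · skip
      by_cases hh7 : k < 30791
      · skip
        by_cases hh8 : k < 23087
        · skip
          exact rowsRange_sound data M 3852 19235 rows5 k (by omega) (by omega)
        · skip
          by_cases hh9 : k < 26934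
          · skip
            exact rowsRange_sound data M 3847 23087 rows6 k (by omega) (by omega)
          · skip
            exact rowsRange_sound data M 3857 26934 rows7 k (by omega) (by omega)
      · skip
        by_cases hh10 : k < 34703
        · skip
          exact rowsRange_sound data M 3912 30791 rows8 k (by omega) (by omega)
        · skip
          by_cases hh11 : k < 38785
          · skip
            exact rowsRange_sound data M 4082 34703 rows9 k (by omega) (by omega)
          · skip
            exact rowsRange_sound data M 4197 38785 rows10 k (by omega) (by omega)
  · skip
    by_cases hh12 : k < 69402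
    · skip
      by_cases hh13 : k < 56882
      · skip
        by_cases hh14 : k < 47560
        · skip
          exact rowsRange_sound data M 4578 42982 rows11 k (by omega) (by omega)
        · skip
          by_cases hh15 : k < 52228
          · skip
            exact rowsRange_sound data M 4668 47560 rows12 k (by omega) (by omega)
          · skip
            exact rowsRange_sound data M 4654 52228 rows13 k (by omega) (by omega)
      · skip
        by_cases hh16 : k < 61483
        · skip
          exact rowsRange_sound data M 4601 56882 rows14 k (by omega) (by omega)
        · skip
          by_cases hh17 : k < 65549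
          · skip
            exact rowsRange_sound data M 4066 61483 rows15 k (by omega) (by omega)
          · skip
            exact rowsRange_sound data M 3853 65549 rows16 k (by omega) (by omega)
    · skip
      by_cases hh18 : k < 80944
      · skip
        by_cases hh19 : k < 73250
        · skip
          exact rowsRange_sound data M 3848 69402 rows17 k (by omega) (by omega)
        · skip
          by_cases hh20 : k < 77097
          · skip
            exact rowsRange_sound data M 3847 73250 rows18 k (by omega) (by omega)
          · skip
            exact rowsRange_sound data M 3847 77097 rows19 k (by omega) (by omega)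
      · skip
        by_cases hh21 : k < 84791
        · skip
          exact rowsRange_sound data M 3847 80944 rows20 k (by omega) (by omega)
        · skip
          by_cases hh22 : k < 88638
          · skip
            exact rowsRange_sound data M 3847 84791 rows21 k (by omega) (by omega)
          · skip
            exact rowsRange_sound data M 3486 88638 rows22 k (by omega) (by omega)

theorem cnt_ok : countFinal data M 0 0 = n := by
  have c0 : countFinal data 50000 0 0 = 48018 := cnt0
  have c1 : countFinal data (50000 + 42124) 0 0 = 48018 + 39762 :=
    countFinal_split data (50000) 42124 0 50000 (48018) 39762 (by norm_num) c0 cnt1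
  have e1 : 50000 + 42124 = M := by norm_num [M]
  have e2 : 48018 + 39762 = n := by norm_num [n]
  rw [← e1, ← e2]
  exact c1

/-- the index of the subgroup generated by `subsL` in the group with relators `bases` -/
theorem bound : Finite (PresentedGroup (relSet J1PCod.dec bases) ⧸ (Subgroup.closure (relSet J1PCod.dec subsL)).map (PresentedGroup.mk (relSet J1PCod.dec bases))) ∧
    Nat.card (PresentedGroup (relSet J1PCod.dec bases) ⧸ (Subgroup.closure (relSet J1PCod.dec subsL)).map (PresentedGroup.mk (relSet J1PCod.dec bases))) ≤ n :=
  tc_bound data bases subsL rots J1PCod.coding (mem_relSet bases) (mem_relSet subsL) words_ok allE allM M n fin0_ok (by decide) (by decide) cnt_ok rows_all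

end Cfsg.Agent.Helper4.TC.J1PZ0
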