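import Cfsg.Prelude.Def_SporCoxeter

set_option autoImplicit false

/-! A two-letter alphabet for auxiliary presentations. -/

namespace Cfsg.Agent.Helper4.Pres

namespace L33W

inductive Gen
  | u
  | v
  deriving DecidableEq

end L33W

end Cfsg.Agent.Helper4.Pres
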