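import Cfsg.Agent.Lib.Helper4.TC.L37PZ0D
import Cfsg.Agent.Lib.Helper4.TC.Strict

set_option autoImplicit false
set_option maxRecDepth 100000
set_option linter.unusedVariables false
set_option Elab.async false

namespace Cfsg.Agent.Helper4.TC.L37PZ0

open Cfsg.Agent.Helper4.TC

theorem e0_c0 : edgeRange data 0 19753 0 = true := edgeRange_strict data 0 19753 0 (by decide +kernel)
theorem e0_c1 : edgeRange data 0 19156 19753 = true := edgeRange_strict data 0 19156 19753 (by decide +kernel)
theorem e0_c2 : edgeRange data 0 16333 38909 = true := edgeRange_strict data 0 16333 38909 (by decide +kernel)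
theorem e0_c3 : edgeRange data 0 10702 55242 = true := edgeRange_strict data 0 10702 55242 (by decide +kernel)
theorem e0_c4 : edgeRange data 0 9539 65944 = true := edgeRange_strict data 0 9539 65944 (by decide +kernel)
theorem e0_c5 : edgeRange data 0 8865 75483 = true := edgeRange_strict data 0 8865 75483 (by decide +kernel)
theorem e0_c6 : edgeRange data 0 7310 84348 = true := edgeRange_strict data 0 7310 84348 (by decide +kernel)
theorem e0_c7 : edgeRange data 0 6760 91658 = true := edgeRange_strict data 0 6760 91658 (by decide +kernel)
theorem e0_c8 : edgeRange data 0 6781 98418 = true := edgeRange_strict data 0 6781 98418 (by decide +kernel)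
theorem e0_c9 : edgeRange data 0 6930 105199 = true := edgeRange_strict data 0 6930 105199 (by decide +kernel)
theorem e0_c10 : edgeRange data 0 7091 112129 = true := edgeRange_strict data 0 7091 112129 (by decide +kernel)
theorem e0_c11 : edgeRange data 0 11852 119220 = true := edgeRange_strict data 0 11852 119220 (by decide +kernel)

end Cfsg.Agent.Helper4.TC.L37PZ0
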