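import Cfsg.Agent.Lib.Helper4.TC.L37PZ0D
import Cfsg.Agent.Lib.Helper4.TC.Strict

set_option autoImplicit false
set_option maxRecDepth 100000
set_option linter.unusedVariables false
set_option Elab.async false

namespace Cfsg.Agent.Helper4.TC.L37PZ0

open Cfsg.Agent.Helper4.TC

theorem e1_c0 : edgeRange data 1 21915 0 = true := edgeRange_strict data 1 21915 0 (by decide +kernel)
theorem e1_c1 : edgeRange data 1 21535 21915 = true := edgeRange_strict data 1 21535 21915 (by decide +kernel)
theorem e1_c2 : edgeRange data 1 17174 43450 = true := edgeRange_strict data 1 17174 43450 (by decide +kernel)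
theorem e1_c3 : edgeRange data 1 13016 60624 = true := edgeRange_strict data 1 13016 60624 (by decide +kernel)
theorem e1_c4 : edgeRange data 1 11616 73640 = true := edgeRange_strict data 1 11616 73640 (by decide +kernel)
theorem e1_c5 : edgeRange data 1 8710 85256 = true := edgeRange_strict data 1 8710 85256 (by decide +kernel)
theorem e1_c6 : edgeRange data 1 7433 93966 = true := edgeRange_strict data 1 7433 93966 (by decide +kernel)
theorem e1_c7 : edgeRange data 1 6693 101399 = true := edgeRange_strict data 1 6693 101399 (by decide +kernel)
theorem e1_c8 : edgeRange data 1 6557 108092 = true := edgeRange_strict data 1 6557 108092 (by decide +kernel)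
theorem e1_c9 : edgeRange data 1 11940 114649 = true := edgeRange_strict data 1 11940 114649 (by decide +kernel)
theorem e1_c10 : edgeRange data 1 4483 126589 = true := edgeRange_strict data 1 4483 126589 (by decide +kernel)

end Cfsg.Agent.Helper4.TC.L37PZ0
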