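import Cfsg.Agent.Lib.Helper4.TC.L37PZ0D
import Cfsg.Agent.Lib.Helper4.TC.Strict

set_option autoImplicit false
set_option maxRecDepth 100000
set_option linter.unusedVariables false
set_option Elab.async false

namespace Cfsg.Agent.Helper4.TC.L37PZ0

open Cfsg.Agent.Helper4.TC

theorem e2_c0 : edgeRange data 2 20644 0 = true := edgeRange_strict data 2 20644 0 (by decide +kernel)
theorem e2_c1 : edgeRange data 2 20043 20644 = true := edgeRange_strict data 2 20043 20644 (by decide +kernel)
theorem e2_c2 : edgeRange data 2 16816 40687 = true := edgeRange_strict data 2 16816 40687 (by decide +kernel)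
theorem e2_c3 : edgeRange data 2 11857 57503 = true := edgeRange_strict data 2 11857 57503 (by decide +kernel)
theorem e2_c4 : edgeRange data 2 10411 69360 = true := edgeRange_strict data 2 10411 69360 (by decide +kernel)
theorem e2_c5 : edgeRange data 2 9063 79771 = true := edgeRange_strict data 2 9063 79771 (by decide +kernel)
theorem e2_c6 : edgeRange data 2 7429 88834 = true := edgeRange_strict data 2 7429 88834 (by decide +kernel)
theorem e2_c7 : edgeRange data 2 7019 96263 = true := edgeRange_strict data 2 7019 96263 (by decide +kernel)
theorem e2_c8 : edgeRange data 2 6696 103282 = true := edgeRange_strict data 2 6696 103282 (by decide +kernel)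
theorem e2_c9 : edgeRange data 2 6737 109978 = true := edgeRange_strict data 2 6737 109978 (by decide +kernel)
theorem e2_c10 : edgeRange data 2 14357 116715 = true := edgeRange_strict data 2 14357 116715 (by decide +kernel)

end Cfsg.Agent.Helper4.TC.L37PZ0
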