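import Cfsg.Agent.Lib.Helper4.TC.L37PZ0D
import Cfsg.Agent.Lib.Helper4.TC.Strict

set_option autoImplicit false
set_option maxRecDepth 100000
set_option linter.unusedVariables false
set_option Elab.async false

namespace Cfsg.Agent.Helper4.TC.L37PZ0

open Cfsg.Agent.Helper4.TC

theorem cnt0 : countFinal data 50000 0 0 = 42326 := countFinal_strict data 50000 0 0 42326 (by decide +kernel)
theorem cnt1 : countFinal data 50000 50000 0 = 35799 := countFinal_strict data 50000 50000 0 35799 (by decide +kernel)
theorem cnt2 : countFinal data 20679 100000 0 = 20659 := countFinal_strict data 20679 100000 0 20659 (by decide +kernel)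
theorem rows0 : rowsRange data 120679 3872 0 = true := rowsRange_strict data 120679 3872 0 (by decide +kernel)
theorem rows1 : rowsRange data 120679 3978 3872 = true := rowsRange_strict data 120679 3978 3872 (by decide +kernel)
theorem rows2 : rowsRange data 120679 4143 7850 = true := rowsRange_strict data 120679 4143 7850 (by decide +kernel)
theorem rows3 : rowsRange data 120679 4215 11993 = true := rowsRange_strict data 120679 4215 11993 (by decide +kernel)
theorem rows4 : rowsRange data 120679 4340 16208 = true := rowsRange_strict data 120679 4340 16208 (by decide +kernel)

end Cfsg.Agent.Helper4.TC.L37PZ0
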