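import Cfsg.Agent.Lib.Helper4.TC.L37PZ0D
import Cfsg.Agent.Lib.Helper4.TC.Strict

set_option autoImplicit false
set_option maxRecDepth 100000
set_option linter.unusedVariables false
set_option Elab.async false

namespace Cfsg.Agent.Helper4.TC.L37PZ0

open Cfsg.Agent.Helper4.TC

theorem rows5 : rowsRange data 120679 4471 20548 = true := rowsRange_strict data 120679 4471 20548 (by decide +kernel)
theorem rows6 : rowsRange data 120679 4562 25019 = true := rowsRange_strict data 120679 4562 25019 (by decide +kernel)
theorem rows7 : rowsRange data 120679 4684 29581 = true := rowsRange_strict data 120679 4684 29581 (by decide +kernel)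
theorem rows8 : rowsRange data 120679 4854 34265 = true := rowsRange_strict data 120679 4854 34265 (by decide +kernel)
theorem rows9 : rowsRange data 120679 4971 39119 = true := rowsRange_strict data 120679 4971 39119 (by decide +kernel)
theorem rows10 : rowsRange data 120679 5077 44090 = true := rowsRange_strict data 120679 5077 44090 (by decide +kernel)
theorem rows11 : rowsRange data 120679 5337 49167 = true := rowsRange_strict data 120679 5337 49167 (by decide +kernel)
theorem rows12 : rowsRange data 120679 5444 54504 = true := rowsRange_strict data 120679 5444 54504 (by decide +kernel)

end Cfsg.Agent.Helper4.TC.L37PZ0
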