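import Cfsg.Agent.Lib.Helper4.TC.L37PZ0D
import Cfsg.Agent.Lib.Helper4.TC.Strict

set_option autoImplicit false
set_option maxRecDepth 100000
set_option linter.unusedVariables false
set_option Elab.async false

namespace Cfsg.Agent.Helper4.TC.L37PZ0

open Cfsg.Agent.Helper4.TC

theorem rows13 : rowsRange data 120679 5614 59948 = true := rowsRange_strict data 120679 5614 59948 (by decide +kernel)
theorem rows14 : rowsRange data 120679 5972 65562 = true := rowsRange_strict data 120679 5972 65562 (by decide +kernel)
theorem rows15 : rowsRange data 120679 6018 71534 = true := rowsRange_strict data 120679 6018 71534 (by decide +kernel)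
theorem rows16 : rowsRange data 120679 6325 77552 = true := rowsRange_strict data 120679 6325 77552 (by decide +kernel)
theorem rows17 : rowsRange data 120679 5168 83877 = true := rowsRange_strict data 120679 5168 83877 (by decide +kernel)
theorem rows18 : rowsRange data 120679 4130 89045 = true := rowsRange_strict data 120679 4130 89045 (by decide +kernel)
theorem rows19 : rowsRange data 120679 3920 93175 = true := rowsRange_strict data 120679 3920 93175 (by decide +kernel)
theorem rows20 : rowsRange data 120679 3881 97095 = true := rowsRange_strict data 120679 3881 97095 (by decide +kernel)

end Cfsg.Agent.Helper4.TC.L37PZ0
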