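import Cfsg.Agent.Lib.Helper4.TC.L37PZ0D
import Cfsg.Agent.Lib.Helper4.TC.Strict

set_option autoImplicit false
set_option maxRecDepth 100000
set_option linter.unusedVariables false
set_option Elab.async false

namespace Cfsg.Agent.Helper4.TC.L37PZ0

open Cfsg.Agent.Helper4.TC

theorem rows21 : rowsRange data 120679 3859 100976 = true := rowsRange_strict data 120679 3859 100976 (by decide +kernel)
theorem rows22 : rowsRange data 120679 3848 104835 = true := rowsRange_strict data 120679 3848 104835 (by decide +kernel)
theorem rows23 : rowsRange data 120679 3847 108683 = true := rowsRange_strict data 120679 3847 108683 (by decide +kernel)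
theorem rows24 : rowsRange data 120679 3847 112530 = true := rowsRange_strict data 120679 3847 112530 (by decide +kernel)
theorem rows25 : rowsRange data 120679 3847 116377 = true := rowsRange_strict data 120679 3847 116377 (by decide +kernel)
theorem rows26 : rowsRange data 120679 455 120224 = true := rowsRange_strict data 120679 455 120224 (by decide +kernel)

end Cfsg.Agent.Helper4.TC.L37PZ0
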