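import Cfsg.Agent.Lib.Helper4.TC.L37PZ0D
import Cfsg.Agent.Lib.Helper4.TC.Strict

set_option autoImplicit false
set_option maxRecDepth 100000
set_option linter.unusedVariables false
set_option Elab.async false

namespace Cfsg.Agent.Helper4.TC.L37PZ0

open Cfsg.Agent.Helper4.TC

theorem m_c0 : mergeRange data 39385 0 = true := mergeRange_strict data 39385 0 (by decide +kernel)
theorem m_c1 : mergeRange data 18622 39385 = true := mergeRange_strict data 18622 39385 (by decide +kernel)
theorem m_c2 : mergeRange data 9184 58007 = true := mergeRange_strict data 9184 58007 (by decide +kernel)
theorem m_c3 : mergeRange data 7285 67191 = true := mergeRange_strict data 7285 67191 (by decide +kernel)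
theorem m_c4 : mergeRange data 6474 74476 = true := mergeRange_strict data 6474 74476 (by decide +kernel)
theorem m_c5 : mergeRange data 6289 80950 = true := mergeRange_strict data 6289 80950 (by decide +kernel)
theorem m_c6 : mergeRange data 36005 87239 = true := mergeRange_strict data 36005 87239 (by decide +kernel)
theorem m_c7 : mergeRange data 7828 123244 = true := mergeRange_strict data 7828 123244 (by decide +kernel)

end Cfsg.Agent.Helper4.TC.L37PZ0
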