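import Cfsg.Agent.Lib.Helper4.TC.Perm
import Cfsg.Agent.Lib.Helper4.TC.L37PCod
import Cfsg.Agent.Lib.Helper4.TC.L37PZ0Fin
import Cfsg.Agent.Lib.Helper4.TC.L37PZ0CM
import Cfsg.Agent.Lib.Helper4.TC.L37PZ0CE0
import Cfsg.Agent.Lib.Helper4.TC.L37PZ0CE1
import Cfsg.Agent.Lib.Helper4.TC.L37PZ0CE2
import Cfsg.Agent.Lib.Helper4.TC.L37PZ0CE3
import Cfsg.Agent.Lib.Helper4.TC.L37PZ0CF0
import Cfsg.Agent.Lib.Helper4.TC.L37PZ0CF1
import Cfsg.Agent.Lib.Helper4.TC.L37PZ0CF2
import Cfsg.Agent.Lib.Helper4.TC.L37PZ0CF3

set_option autoImplicit false
set_option maxRecDepth 100000
set_option linter.unusedVariables false

namespace Cfsg.Agent.Helper4.TC.L37PZ0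

open Cfsg.Agent.Helper4.TC

theorem allE0 : ∀ k, k < 131072 → justE data 0 k = true := by
  intro k hk
  by_cases hh1 : k < 84348
  · skip
    by_cases hh2 : k < 55242
    · skip
      by_cases hh3 : k < 19753
      · skip
        exact edgeRange_sound data 0 19753 0 e0_c0 k (by omega) (by omega)
      · skip
        by_cases hh4 : k < 38909
        · skip
          exact edgeRange_sound data 0 19156 19753 e0_c1 k (by omega) (by omega)
        · skip
          exact edgeRange_sound data 0 16333 38909 e0_c2 k (by omega) (by omega)
    · skip
      by_cases hh5 : k < 65944
      · skip
        exact edgeRange_sound data 0 10702 55242 e0_c3 k (by omega) (by omega)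
      · skip
        by_cases hh6 : k < 75483
        · skip
          exact edgeRange_sound data 0 9539 65944 e0_c4 k (by omega) (by omega)
        · skip
          exact edgeRange_sound data 0 8865 75483 e0_c5 k (by omega) (by omega)
  · skip
    by_cases hh7 : k < 105199
    · skip
      by_cases hh8 : k < 91658
      · skip
        exact edgeRange_sound data 0 7310 84348 e0_c6 k (by omega) (by omega)
      · skip
        by_cases hh9 : k < 98418
        · skip
          exact edgeRange_sound data 0 6760 91658 e0_c7 k (by omega) (by omega)
        · skip
          exact edgeRange_sound data 0 6781 98418 e0_c8 k (by omega) (by omega)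
    · skip
      by_cases hh10 : k < 112129
      · skip
        exact edgeRange_sound data 0 6930 105199 e0_c9 k (by omega) (by omega)
      · skip
        by_cases hh11 : k < 119220
        · skip
          exact edgeRange_sound data 0 7091 112129 e0_c10 k (by omega) (by omega)
        · skip
          exact edgeRange_sound data 0 11852 119220 e0_c11 k (by omega) (by omega)

theorem allE1 : ∀ k, k < 131072 → justE data 1 k = true := by
  intro k hk
  by_cases hh1 : k < 85256
  · skip
    by_cases hh2 : k < 43450
    · skip
      by_cases hh3 : k < 21915
      · skip
        exact edgeRange_sound data 1 21915 0 e1_c0 k (by omega) (by omega)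
      · skip
        exact edgeRange_sound data 1 21535 21915 e1_c1 k (by omega) (by omega)
    · skip
      by_cases hh4 : k < 60624
      · skip
        exact edgeRange_sound data 1 17174 43450 e1_c2 k (by omega) (by omega)
      · skip
        by_cases hh5 : k < 73640
        · skip
          exact edgeRange_sound data 1 13016 60624 e1_c3 k (by omega) (by omega)
        · skip
          exact edgeRange_sound data 1 11616 73640 e1_c4 k (by omega) (by omega)
  · skip
    by_cases hh6 : k < 108092
    · skip
      by_cases hh7 : k < 93966
      · skip
        exact edgeRange_sound data 1 8710 85256 e1_c5 k (by omega) (by omega)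
      · skip
        by_cases hh8 : k < 101399
        · skip
          exact edgeRange_sound data 1 7433 93966 e1_c6 k (by omega) (by omega)
        · skip
          exact edgeRange_sound data 1 6693 101399 e1_c7 k (by omega) (by omega)
    · skip
      by_cases hh9 : k < 114649
      · skip
        exact edgeRange_sound data 1 6557 108092 e1_c8 k (by omega) (by omega)
      · skip
        by_cases hh10 : k < 126589
        · skip
          exact edgeRange_sound data 1 11940 114649 e1_c9 k (by omega) (by omega)
        · skip
          exact edgeRange_sound data 1 4483 126589 e1_c10 k (by omega) (by omega)

theorem allE2 : ∀ k, k < 131072 → justE data 2 k = true := by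
  intro k hk
  by_cases hh1 : k < 79771
  · skip
    by_cases hh2 : k < 40687
    · skip
      by_cases hh3 : k < 20644
      · skip
        exact edgeRange_sound data 2 20644 0 e2_c0 k (by omega) (by omega)
      · skip
        exact edgeRange_sound data 2 20043 20644 e2_c1 k (by omega) (by omega)
    · skip
      by_cases hh4 : k < 57503
      · skip
        exact edgeRange_sound data 2 16816 40687 e2_c2 k (by omega) (by omega)
      · skip
        by_cases hh5 : k < 69360
        · skip
          exact edgeRange_sound data 2 11857 57503 e2_c3 k (by omega) (by omega)
        · skip
          exact edgeRange_sound data 2 10411 69360 e2_c4 k (by omega) (by omega)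
  · skip
    by_cases hh6 : k < 103282
    · skip
      by_cases hh7 : k < 88834
      · skip
        exact edgeRange_sound data 2 9063 79771 e2_c5 k (by omega) (by omega)
      · skip
        by_cases hh8 : k < 96263
        · skip
          exact edgeRange_sound data 2 7429 88834 e2_c6 k (by omega) (by omega)
        · skip
          exact edgeRange_sound data 2 7019 96263 e2_c7 k (by omega) (by omega)
    · skip
      by_cases hh9 : k < 109978
      · skip
        exact edgeRange_sound data 2 6696 103282 e2_c8 k (by omega) (by omega)
      · skip
        by_cases hh10 : k < 116715
        · skip
          exact edgeRange_sound data 2 6737 109978 e2_c9 k (by omega) (by omega)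
        · skip
          exact edgeRange_sound data 2 14357 116715 e2_c10 k (by omega) (by omega)

theorem allE3 : ∀ k, k < 131072 → justE data 3 k = true := by
  intro k hk
  by_cases hh1 : k < 58363
  · skip
    by_cases hh2 : k < 19017
    · skip
      exact edgeRange_sound data 3 19017 0 e3_c0 k (by omega) (by omega)
    · skip
      by_cases hh3 : k < 38432
      · skip
        exact edgeRange_sound data 3 19415 19017 e3_c1 k (by omega) (by omega)
      · skip
        exact edgeRange_sound data 3 19931 38432 e3_c2 k (by omega) (by omega)
  · skip
    by_cases hh4 : k < 98857
    · skip
      by_cases hh5 : k < 79029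
      · skip
        exact edgeRange_sound data 3 20666 58363 e3_c3 k (by omega) (by omega)
      · skip
        exact edgeRange_sound data 3 19828 79029 e3_c4 k (by omega) (by omega)
    · skip
      by_cases hh6 : k < 117699
      · skip
        exact edgeRange_sound data 3 18842 98857 e3_c5 k (by omega) (by omega)
      · skip
        exact edgeRange_sound data 3 13373 117699 e3_c6 k (by omega) (by omega)

theorem allE : ∀ c k, c < data.nc → k ≤ data.mask → justE data c k = true := by
  intro c k hc hk
  have hc' : c < 4 := hc
  have hk' : k < 131072 := Nat.lt_succ_of_le hk
  interval_cases c
  · exact allE0 k hk'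
  · exact allE1 k hk'
  · exact allE2 k hk'
  · exact allE3 k hk'

theorem allM : ∀ k, k ≤ data.mask → justM data k = true := by
  intro k hk
  have hk' : k < 131072 := Nat.lt_succ_of_le hk
  by_cases hh1 : k < 74476
  · skip
    by_cases hh2 : k < 58007
    · skip
      by_cases hh3 : k < 39385
      · skip
        exact mergeRange_sound data 39385 0 m_c0 k (by omega) (by omega)
      · skip
        exact mergeRange_sound data 18622 39385 m_c1 k (by omega) (by omega)
    · skip
      by_cases hh4 : k < 67191
      · skip
        exact mergeRange_sound data 9184 58007 m_c2 k (by omega) (by omega)
      · skip
        exact mergeRange_sound data 7285 67191 m_c3 k (by omega) (by omega)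
  · skip
    by_cases hh5 : k < 87239
    · skip
      by_cases hh6 : k < 80950
      · skip
        exact mergeRange_sound data 6474 74476 m_c4 k (by omega) (by omega)
      · skip
        exact mergeRange_sound data 6289 80950 m_c5 k (by omega) (by omega)
    · skip
      by_cases hh7 : k < 123244
      · skip
        exact mergeRange_sound data 36005 87239 m_c6 k (by omega) (by omega)
      · skip
        exact mergeRange_sound data 7828 123244 m_c7 k (by omega) (by omega)

theorem rows_all : ∀ k, k < M → isFinal data k = true → rowOK data M k data.nc = true := by
  intro k hk
  have hk' : k < 120679 := hk
  by_cases hh1 : k < 59948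
  · skip
    by_cases hh2 : k < 25019
    · skip
      by_cases hh3 : k < 11993
      · skip
        by_cases hh4 : k < 3872
        · skip
          exact rowsRange_sound data M 3872 0 rows0 k (by omega) (by omega)
        · skip
          by_cases hh5 : k < 7850
          · skip
            exact rowsRange_sound data M 3978 3872 rows1 k (by omega) (by omega)
          · skip
            exact rowsRange_sound data M 4143 7850 rows2 k (by omega) (by omega)
      · skip
        by_cases hh6 : k < 16208
        · skip
          exact rowsRange_sound data M 4215 11993 rows3 k (by omega) (by omega)
        · skip
          by_cases hh7 : k < 20548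
          · skip
            exact rowsRange_sound data M 4340 16208 rows4 k (by omega) (by omega)
          · skip
            exact rowsRange_sound data M 4471 20548 rows5 k (by omega) (by omega)
    · skip
      by_cases hh8 : k < 39119
      · skip
        by_cases hh9 : k < 29581
        · skip
          exact rowsRange_sound data M 4562 25019 rows6 k (by omega) (by omega)
        · skip
          by_cases hh10 : k < 34265
          · skip
            exact rowsRange_sound data M 4684 29581 rows7 k (by omega) (by omega)
          · skip
            exact rowsRange_sound data M 4854 34265 rows8 k (by omega) (by omega)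
      · skip
        by_cases hh11 : k < 49167
        · skip
          by_cases hh12 : k < 44090
          · skip
            exact rowsRange_sound data M 4971 39119 rows9 k (by omega) (by omega)
          · skip
            exact rowsRange_sound data M 5077 44090 rows10 k (by omega) (by omega)
        · skip
          by_cases hh13 : k < 54504
          · skip
            exact rowsRange_sound data M 5337 49167 rows11 k (by omega) (by omega)
          · skip
            exact rowsRange_sound data M 5444 54504 rows12 k (by omega) (by omega)
  · skip
    by_cases hh14 : k < 97095
    · skip
      by_cases hh15 : k < 77552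
      · skip
        by_cases hh16 : k < 65562
        · skip
          exact rowsRange_sound data M 5614 59948 rows13 k (by omega) (by omega)
        · skip
          by_cases hh17 : k < 71534
          · skip
            exact rowsRange_sound data M 5972 65562 rows14 k (by omega) (by omega)
          · skip
            exact rowsRange_sound data M 6018 71534 rows15 k (by omega) (by omega)
      · skip
        by_cases hh18 : k < 89045
        · skip
          by_cases hh19 : k < 83877
          · skip
            exact rowsRange_sound data M 6325 77552 rows16 k (by omega) (by omega)
          · skip
            exact rowsRange_sound data M 5168 83877 rows17 k (by omega) (by omega)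
        · skip
          by_cases hh20 : k < 93175
          · skip
            exact rowsRange_sound data M 4130 89045 rows18 k (by omega) (by omega)
          · skip
            exact rowsRange_sound data M 3920 93175 rows19 k (by omega) (by omega)
    · skip
      by_cases hh21 : k < 108683
      · skip
        by_cases hh22 : k < 100976
        · skip
          exact rowsRange_sound data M 3881 97095 rows20 k (by omega) (by omega)
        · skip
          by_cases hh23 : k < 104835
          · skip
            exact rowsRange_sound data M 3859 100976 rows21 k (by omega) (by omega)
          · skip
            exact rowsRange_sound data M 3848 104835 rows22 k (by omega) (by omega)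
      · skip
        by_cases hh24 : k < 116377
        · skip
          by_cases hh25 : k < 112530
          · skip
            exact rowsRange_sound data M 3847 108683 rows23 k (by omega) (by omega)
          · skip
            exact rowsRange_sound data M 3847 112530 rows24 k (by omega) (by omega)
        · skip
          by_cases hh26 : k < 120224
          · skip
            exact rowsRange_sound data M 3847 116377 rows25 k (by omega) (by omega)
          · skip
            exact rowsRange_sound data M 455 120224 rows26 k (by omega) (by omega)

theorem cnt_ok : countFinal data M 0 0 = n := by
  have c0 : countFinal data 50000 0 0 = 42326 := cnt0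
  have c1 : countFinal data (50000 + 50000) 0 0 = 42326 + 35799 :=
    countFinal_split data (50000) 50000 0 50000 (42326) 35799 (by norm_num) c0 cnt1
  have c2 : countFinal data (50000 + 50000 + 20679) 0 0 = 42326 + 35799 + 20659 :=
    countFinal_split data (50000 + 50000) 20679 0 100000 (42326 + 35799) 20659 (by norm_num) c1 cnt2
  have e1 : 50000 + 50000 + 20679 = M := by norm_num [M]
  have e2 : 42326 + 35799 + 20659 = n := by norm_num [n]
  rw [← e1, ← e2]
  exact c2

/-- the index of the subgroup generated by `subsL` in the group with relators `bases` -/
theorem bound : Finite (PresentedGroup (relSet L37PCod.dec bases) ⧸ (Subgroup.closure (relSet L37PCod.dec subsL)).map (PresentedGroup.mk (relSet L37PCod.dec bases))) ∧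
    Nat.card (PresentedGroup (relSet L37PCod.dec bases) ⧸ (Subgroup.closure (relSet L37PCod.dec subsL)).map (PresentedGroup.mk (relSet L37PCod.dec bases))) ≤ n :=
  tc_bound data bases subsL rots L37PCod.coding (mem_relSet bases) (mem_relSet subsL) words_ok allE allM M n fin0_ok (by decide) (by decide) cnt_ok rows_all

end Cfsg.Agent.Helper4.TC.L37PZ0
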