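import Cfsg.Agent.Lib.Helper4.TC.SL3Eval
import Cfsg.Agent.Lib.Helper4.TC.L37PSMain
import Cfsg.Agent.S0243

set_option autoImplicit false
set_option maxRecDepth 100000
set_option linter.unusedVariables false
set_option linter.style.haveILetI false

/-! The presented group `Pres.L37` is isomorphic to `PSL(3, 7)`. -/

namespace Cfsg.Agent.Helper4.TC.L37Iso

open Cfsg.Agent.Helper4.TC

abbrev Gen := Cfsg.Agent.Helper4.Pres.L37.Gen

def sD : M3 := ⟨5, 3, 3, 3, 5, 5, 3, 1, 5⟩
def sD' : M3 := ⟨6, 2, 0, 0, 2, 5, 2, 4, 2⟩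
def tD : M3 := ⟨1, 0, 0, 0, 6, 0, 0, 0, 6⟩
def tD' : M3 := ⟨1, 0, 0, 0, 6, 0, 0, 0, 6⟩

def D : Gen → M3
  | .a => sD
  | .b => tD

def D' : Gen → M3
  | .a => sD'
  | .b => tD'

theorem hdet : ∀ x, (D x).det = 1 := by
  intro x; cases x <;> decide +kernel

theorem hinv : ∀ x, (D x).mul (D' x) = M3.one := by
  intro x; cases x <;> decide +kernel

theorem hchk : ∀ b ∈ L37PP57.bases, (evD3 (dl3 D D') (b.map L37PP57.dec)).isScal = true := by
  decide +kernel

theorem card_psl : Nat.card PSL37 = 1876896 := by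
  haveI : Fact (Nat.Prime 7) := ⟨by norm_num⟩
  have h := Cfsg.Agent.S0243.result (F := ZMod 7) (q := 7) (ZMod.card 7) 3 (by norm_num)
  have e1 : Nat.gcd 3 (7 - 1) = 3 := by decide
  have e2 : ∏ i : Fin 3, (7 ^ 3 - 7 ^ (i : ℕ)) = 33784128 := by
    rw [Fin.prod_univ_three]; rfl
  rw [e1, e2] at h
  have h' : 3 * ((7 - 1) * Nat.card PSL37) = 33784128 := h
  omega

/-- the isomorphism -/
theorem iso : Nonempty (PresentedGroup L37PS.Rset ≃* PSL37) := by
  haveI : IsSimpleGroup (PresentedGroup L37PS.Rset) := L37PS.main.1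
  obtain ⟨φ, hφ⟩ := exists_hom_psl D D' hdet hinv L37PS.Rset L37PP57.dec L37PP57.bases
    L37PP57.hR1 hchk
  have hne : φ (PresentedGroup.of .b) ≠ 1 := by
    rw [hφ]
    intro h
    rw [QuotientGroup.eq_one_iff, Matrix.SpecialLinearGroup.mem_center_iff] at h
    obtain ⟨r, _, hr⟩ := h
    have h0 := congrFun (congrFun hr 0) 0
    have h1 := congrFun (congrFun hr 1) 1
    simp [slOf, D, tD, M3.toMat, Matrix.scalar_apply] at h0 h1
    rw [h0] at h1
    revert h1
    decide
  have hinj : Function.Injective φ := by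
    rw [← MonoidHom.ker_eq_bot_iff]
    rcases IsSimpleGroup.eq_bot_or_eq_top_of_normal φ.ker inferInstance with h | h
    · exact h
    · exfalso
      apply hne
      have : PresentedGroup.of .b ∈ φ.ker := by rw [h]; trivial
      exact this
  haveI : Finite (PresentedGroup L37PS.Rset) := L37PS.card_top.1
  haveI : Finite PSL37 := Nat.finite_of_card_ne_zero (by rw [card_psl]; norm_num)
  have hbij : Function.Bijective φ := by
    rw [Nat.bijective_iff_injective_and_card]
    exact ⟨hinj, L37PS.main.2.trans card_psl.symm⟩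
  exact ⟨MulEquiv.ofBijective φ hbij⟩

end Cfsg.Agent.Helper4.TC.L37Iso
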