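import Cfsg.Agent.Lib.Helper4.TC.Model

set_option autoImplicit false
set_option maxRecDepth 100000
set_option linter.unusedVariables false

namespace Cfsg.Agent.Helper4.TC.L37PP57

open Cfsg.Agent.Helper4.TC

def t0_0 : ℕ := 0xc5c4c4d7c19eab78b1c502da0be84a30f2949de169e74a1c58a460b4154ceb88a591966cfce6d35c2b011
noncomputable def tcol0 (b : ℕ) : ℕ := t0_0
def t1_0 : ℕ := 0x2e7e91051e2d439cfbed0b0366c468569177a8cdc6ec25d315dca4ab465013210d3851a80e64b6368eac81
noncomputable def tcol1 (b : ℕ) : ℕ := t1_0
def t2_0 : ℕ := 0x37e36d6bcea9e8bee8a1d327f0c5b6a466db18a554d29a58e03cc78b75c24a5c81d651044e343142184040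
noncomputable def tcol2 (b : ℕ) : ℕ := t2_0
def t3_0 : ℕ := 0x37e36d6bcea9e8bee8a1d327f0c5b6a466db18a554d29a58e03cc78b75c24a5c81d651044e343142184040
noncomputable def tcol3 (b : ℕ) : ℕ := t3_0
def a_0 : ℕ := 0x602df7020501cd7020601ac4010600ac4000600ac5010701a5f020201a010007019e70104019aa0205018ad01060088f0004028a200050086d0205008020103028320007027df01040176002060172f0004026db00050269a0106006560006016430203016320106016250003016090206015b70006025550003024d30006004ac02030040901040041d02070034c02040232001040132200050030a0205012d80006002eb0202002910106002a50001002400203002130105022170004002100007001f40206021960106011860204021500102021510205000ce0108000d90005010e602050009800050208202050107001040006a000101000000000000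
noncomputable def auxT (b : ℕ) : ℕ := a_0
noncomputable def tmT (c b : ℕ) : ℕ := Bool.rec (motive := fun _ => ℕ) (Bool.rec (motive := fun _ => ℕ) (tcol0 b) (tcol1 b) (Nat.ble 1 c)) (Bool.rec (motive := fun _ => ℕ) (tcol2 b) (tcol3 b) (Nat.ble 3 c)) (Nat.ble 2 c)

noncomputable def mdata : MData where
  n := 57
  w := 6
  mask := 63
  aw := 36
  amask := 68719476735
  s1 := 6
  s2 := 12
  s3 := 20
  s4 := 28
  bsh := 11
  bmask := 2047
  nc := 4
  T := tmT
  A := auxT

end Cfsg.Agent.Helper4.TC.L37PP57
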