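import Cfsg.Agent.Lib.Helper4.TC.L37PSL
import Cfsg.Agent.Lib.Helper4.TC.L37PP57Glue
import Cfsg.Agent.Lib.Helper4.TC.Strict

set_option autoImplicit false
set_option maxRecDepth 100000
set_option linter.unusedVariables false
set_option Elab.async false

namespace Cfsg.Agent.Helper4.TC.L37PS

open Cfsg.Agent.Helper4.TC

theorem lvl2_c0 : lvlRange L37PP57.mdata ld2 W2 1 56 0 = true := lvlRange_strict L37PP57.mdata ld2 W2 1 56 0 (by decide +kernel)
theorem srt2_c0 : srtRange ld2 55 0 = true := srtRange_strict ld2 55 0 (by decide +kernel)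
theorem fix2 : ∀ w ∈ W2, (∀ c ∈ w, c < L37PP57.mdata.nc) ∧ ∀ q ∈ [0], mtrace L37PP57.mdata w q = q := by decide +kernel

theorem lvl3_c0 : lvlRange L37PP57.mdata ld3 W3 2 49 0 = true := lvlRange_strict L37PP57.mdata ld3 W3 2 49 0 (by decide +kernel)
theorem srt3_c0 : srtRange ld3 48 0 = true := srtRange_strict ld3 48 0 (by decide +kernel)
theorem fix3 : ∀ w ∈ W3, (∀ c ∈ w, c < L37PP57.mdata.nc) ∧ ∀ q ∈ [1, 0], mtrace L37PP57.mdata w q = q := by decide +kernel

theorem lvl4_c0 : lvlRange L37PP57.mdata ld4 W4 3 12 0 = true := lvlRange_strict L37PP57.mdata ld4 W4 3 12 0 (by decide +kernel)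
theorem srt4_c0 : srtRange ld4 11 0 = true := srtRange_strict ld4 11 0 (by decide +kernel)
theorem fix4 : ∀ w ∈ W4, (∀ c ∈ w, c < L37PP57.mdata.nc) ∧ ∀ q ∈ [2, 1, 0], mtrace L37PP57.mdata w q = q := by decide +kernel

theorem lvl2 : LevelOK L37PP57.mdata ld2 W2 1 := by
  refine ⟨?_, ?_⟩
  · intro k hk
    have hk' : k < 56 := hk
    exact lvlRange_sound L37PP57.mdata ld2 W2 1 56 0 lvl2_c0 k (by omega) (by omega)
  · intro k hk
    have hk' : k + 1 < 56 := hk
    exact srtRange_sound ld2 55 0 srt2_c0 k (by omega) (by omega)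

theorem lvl3 : LevelOK L37PP57.mdata ld3 W3 2 := by
  refine ⟨?_, ?_⟩
  · intro k hk
    have hk' : k < 49 := hk
    exact lvlRange_sound L37PP57.mdata ld3 W3 2 49 0 lvl3_c0 k (by omega) (by omega)
  · intro k hk
    have hk' : k + 1 < 49 := hk
    exact srtRange_sound ld3 48 0 srt3_c0 k (by omega) (by omega)

theorem lvl4 : LevelOK L37PP57.mdata ld4 W4 3 := by
  refine ⟨?_, ?_⟩
  · intro k hk
    have hk' : k < 12 := hk
    exact lvlRange_sound L37PP57.mdata ld4 W4 3 12 0 lvl4_c0 k (by omega) (by omega)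
  · intro k hk
    have hk' : k + 1 < 12 := hk
    exact srtRange_sound ld4 11 0 srt4_c0 k (by omega) (by omega)

noncomputable def specs : List LSpec := [⟨ld2, W2, 1⟩, ⟨ld3, W3, 2⟩, ⟨ld4, W4, 3⟩]

theorem levels_ok : LevelsOK L37PP57.mdata [0] specs := by
  refine levelsOK_cons L37PP57.mdata [0] ⟨ld2, W2, 1⟩ _ lvl2 (by decide) fix2 ?_
  refine levelsOK_cons L37PP57.mdata [1, 0] ⟨ld3, W3, 2⟩ _ lvl3 (by decide) fix3 ?_
  refine levelsOK_cons L37PP57.mdata [2, 1, 0] ⟨ld4, W4, 3⟩ _ lvl4 (by decide) fix4 ?_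
  exact levelsOK_nil _ _

end Cfsg.Agent.Helper4.TC.L37PS
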