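import Cfsg.Agent.Lib.Helper4.TC.Timed

set_option autoImplicit false
set_option maxRecDepth 100000
set_option linter.unusedVariables false

namespace Cfsg.Agent.Helper4.TC.L37PX

open Cfsg.Agent.Helper4.TC

def e0_0 : ℕ := 0x26000c00000f8001
def j0_0 : ℕ := 0x10000000000000001
noncomputable def ecol0 (b : ℕ) : ℕ := e0_0
noncomputable def jcol0 (b : ℕ) : ℕ := j0_0

def e1_0 : ℕ := 0x2c00114e0081000006800
def j1_0 : ℕ := 0x20000001e000000020000000e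
noncomputable def ecol1 (b : ℕ) : ℕ := e1_0
noncomputable def jcol1 (b : ℕ) : ℕ := j1_0

def e2_0 : ℕ := 0x160000000058002
def j2_0 : ℕ := 0xb0000000000000001
noncomputable def ecol2 (b : ℕ) : ℕ := e2_0
noncomputable def jcol2 (b : ℕ) : ℕ := j2_0

def e3_0 : ℕ := 0x200000000055002
def j3_0 : ℕ := 0x20000000000000015
noncomputable def ecol3 (b : ℕ) : ℕ := e3_0
noncomputable def jcol3 (b : ℕ) : ℕ := j3_0

def m_0 : ℕ := 0x4900404000a00000003c00000000000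
def jm_0 : ℕ := 0x1000000290000000100000000

noncomputable def mgT (b : ℕ) : ℕ := m_0
noncomputable def jmT (b : ℕ) : ℕ := jm_0
noncomputable def eT (c b : ℕ) : ℕ := Bool.rec (motive := fun _ => ℕ) (Bool.rec (motive := fun _ => ℕ) (ecol0 b) (ecol1 b) (Nat.ble 1 c)) (Bool.rec (motive := fun _ => ℕ) (ecol2 b) (ecol3 b) (Nat.ble 3 c)) (Nat.ble 2 c)
noncomputable def jT (c b : ℕ) : ℕ := Bool.rec (motive := fun _ => ℕ) (Bool.rec (motive := fun _ => ℕ) (jcol0 b) (jcol1 b) (Nat.ble 1 c)) (Bool.rec (motive := fun _ => ℕ) (jcol2 b) (jcol3 b) (Nat.ble 3 c)) (Nat.ble 2 c)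

def rw0 : List ℕ := [0]
def rw1 : List ℕ := [2, 2]
def rw2 : List ℕ := [1, 2, 0, 2, 0, 0, 0, 0, 0, 2, 1, 2, 0, 2, 0, 0, 0, 0, 2, 0, 2, 1, 2, 0, 0, 0, 0, 0, 0, 2]
noncomputable def relW (i : ℕ) : List ℕ := Bool.rec (motive := fun _ => List ℕ) (rw0) (Bool.rec (motive := fun _ => List ℕ) (rw1) (rw2) (Nat.ble 2 i)) (Nat.ble 1 i)
noncomputable def subW (i : ℕ) : List ℕ := []

noncomputable def data : Data where
  w := 11
  mask := 2047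
  tw := 5
  tmask := 31
  hsh := 16
  lsh := 27
  ew := 21
  emask := 2097151
  mw := 35
  mmask := 34359738367
  jw := 32
  jmask := 4294967295
  bsh := 11
  bmask := 2047
  nc := 4
  fuel := 4
  E := eT
  J := jT
  Mg := mgT
  JM := jmT
  relW := relW
  nrot := 3
  subW := subW
  nsub := 0

def M : ℕ := 4
def n : ℕ := 1

def bases : List (List ℕ) := [
  [2, 2],
  [0, 0, 0, 0, 0, 0, 0, 0, 0, 0, 0, 0, 0, 0, 0, 0, 0, 0, 0],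
  [0, 2, 0, 2, 0, 2, 0, 2, 0, 2, 0, 2],
  [0, 2, 1, 2, 0, 2, 1, 2, 0, 2, 1, 2],
  [0, 0, 0, 2, 1, 1, 2, 1, 1, 2, 0, 0, 0, 2, 1, 1, 2, 1, 1, 2],
  [0, 0, 0, 0, 2, 0, 0, 2, 0, 2, 0, 0, 0, 2, 0, 0, 0, 2, 0, 0, 0, 2, 0, 2, 0, 0, 2],
  [0, 0, 0, 0, 0, 0, 2, 0, 0, 0, 2, 1, 1, 1, 2, 0, 0, 0, 0, 2, 1, 1, 1, 1, 1, 2, 1, 1, 2],
  [0, 0, 0, 0, 0, 0, 2, 1, 1, 2, 1, 1, 1, 1, 1, 2, 0, 0, 0, 0, 2, 1, 1, 1, 2, 0, 0, 0, 2],
  [0, 0, 0, 0, 0, 0, 2, 1, 2, 0, 2, 0, 0, 0, 0, 0, 2, 1, 2, 0, 2, 0, 0, 0, 0, 2, 0, 2, 1, 2],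
  [0]
]

def rots : List (ℕ × ℕ) := [(9, 0), (0, 0), (8, 7)]

def subsL : List (List ℕ) := [

]

end Cfsg.Agent.Helper4.TC.L37PX
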