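import Cfsg.Agent.Lib.Helper4.TC.Timed

set_option autoImplicit false
set_option maxRecDepth 100000
set_option linter.unusedVariables false

namespace Cfsg.Agent.Helper4.TC.M11PM10

open Cfsg.Agent.Helper4.TC

def e1_0 : ℕ := 0x1cc02005c0300b80580700e15001a0280280b80400b00901a00e0000021b80200000002e0050c60100b800535006
def j1_0 : ℕ := 0x850000000200000002000000750000006d00000055000000020000004d0000003d000000000000000200000000000000020000002e0000000200000035

noncomputable def ecol1 (b : ℕ) : ℕ := e1_0
noncomputable def jcol1 (b : ℕ) : ℕ := j1_0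

end Cfsg.Agent.Helper4.TC.M11PM10
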