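import Cfsg.Agent.Lib.Helper4.TC.Timed

set_option autoImplicit false
set_option maxRecDepth 100000
set_option linter.unusedVariables false

namespace Cfsg.Agent.Helper4.TC.M11PM10

open Cfsg.Agent.Helper4.TC

def e2_0 : ℕ := 0x580e16e01a3dc0400000000980b02e01205c0300b80500c80702e0032dc0140000000000086e00805c0200b801016800
def j2_0 : ℕ := 0x2b00000002000000010000000000000013000000020000000100000001000000130000000200000002000000000000000000000001000000010000000100000004

noncomputable def ecol2 (b : ℕ) : ℕ := e2_0
noncomputable def jcol2 (b : ℕ) : ℕ := j2_0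

end Cfsg.Agent.Helper4.TC.M11PM10
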