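import Cfsg.Agent.Lib.Helper4.TC.Timed

set_option autoImplicit false
set_option maxRecDepth 100000
set_option linter.unusedVariables false

namespace Cfsg.Agent.Helper4.TC.M11PM10

open Cfsg.Agent.Helper4.TC

def e3_0 : ℕ := 0x1700e0000003940409b80781700a01201805c0240b8058170020180100000029b80301700301d00605c0040b803816000
def j3_0 : ℕ := 0x200000000000000850000000100000002000000650000000200000001000000020000004500000000000000010000000200000026000000020000000100000005

noncomputable def ecol3 (b : ℕ) : ℕ := e3_0
noncomputable def jcol3 (b : ℕ) : ℕ := j3_0

end Cfsg.Agent.Helper4.TC.M11PM10
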