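import Cfsg.Agent.Lib.Helper4.TC.M11PM10T0
import Cfsg.Agent.Lib.Helper4.TC.M11PM10T1
import Cfsg.Agent.Lib.Helper4.TC.M11PM10T2
import Cfsg.Agent.Lib.Helper4.TC.M11PM10T3

set_option autoImplicit false
set_option maxRecDepth 100000
set_option linter.unusedVariables false

namespace Cfsg.Agent.Helper4.TC.M11PM10

open Cfsg.Agent.Helper4.TC

def m_0 : ℕ := 0x201c380e0301a480c00018000e00016280b02014000c03012000b02012000a0001000090200400080300200070300b4801000092802020070803000040003020020002000000001000000000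
def jm_0 : ℕ := 0xf0b000000610000000000000f1300000000000000000000000000000000000000000000000000000009000006130000000900000000000000000000000000000000

noncomputable def mgT (b : ℕ) : ℕ := m_0
noncomputable def jmT (b : ℕ) : ℕ := jm_0
noncomputable def eT (c b : ℕ) : ℕ := Bool.rec (motive := fun _ => ℕ) (Bool.rec (motive := fun _ => ℕ) (ecol0 b) (ecol1 b) (Nat.ble 1 c)) (Bool.rec (motive := fun _ => ℕ) (ecol2 b) (ecol3 b) (Nat.ble 3 c)) (Nat.ble 2 c)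
noncomputable def jT (c b : ℕ) : ℕ := Bool.rec (motive := fun _ => ℕ) (Bool.rec (motive := fun _ => ℕ) (jcol0 b) (jcol1 b) (Nat.ble 1 c)) (Bool.rec (motive := fun _ => ℕ) (jcol2 b) (jcol3 b) (Nat.ble 3 c)) (Nat.ble 2 c)

def rw0 : List ℕ := [0, 0]
def rw1 : List ℕ := [0, 2, 2, 0, 2, 0, 3, 0, 2, 0, 2, 0, 3, 0, 3, 0, 2, 0, 3]
def rw2 : List ℕ := [2, 2, 2, 2]
def rw3 : List ℕ := [0, 3, 0, 3, 0, 2, 0, 3, 0, 2, 2, 0, 2, 0, 3, 0, 2, 0, 2]
def rw4 : List ℕ := [0, 2, 0, 2, 0, 2, 0, 2, 0, 2, 0, 2, 0, 2, 0, 2, 0, 2, 0, 2, 0, 2]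
def rw5 : List ℕ := [2, 0, 2, 2, 0, 2, 2, 0, 2, 2, 0, 2, 2, 0, 2, 2, 0, 2]
def rw6 : List ℕ := [0, 2, 0, 2, 0, 3, 0, 3, 0, 2, 0, 3, 0, 2, 2, 0, 2, 0, 3]
noncomputable def relW (i : ℕ) : List ℕ := Bool.rec (motive := fun _ => List ℕ) (Bool.rec (motive := fun _ => List ℕ) (rw0) (Bool.rec (motive := fun _ => List ℕ) (rw1) (rw2) (Nat.ble 2 i)) (Nat.ble 1 i)) (Bool.rec (motive := fun _ => List ℕ) (Bool.rec (motive := fun _ => List ℕ) (rw3) (rw4) (Nat.ble 4 i)) (Bool.rec (motive := fun _ => List ℕ) (rw5) (rw6) (Nat.ble 6 i)) (Nat.ble 5 i)) (Nat.ble 3 i)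
def sw0 : List ℕ := [2]
def sw1 : List ℕ := [0, 2, 0, 2, 0, 3, 0]
noncomputable def subW (i : ℕ) : List ℕ := Bool.rec (motive := fun _ => List ℕ) (sw0) (sw1) (Nat.ble 1 i)

noncomputable def data : Data where
  w := 11
  mask := 2047
  tw := 6
  tmask := 63
  hsh := 17
  lsh := 28
  ew := 23
  emask := 8388607
  mw := 36
  mmask := 68719476735
  jw := 32
  jmask := 4294967295
  bsh := 11
  bmask := 2047
  nc := 4
  fuel := 3
  E := eT
  J := jT
  Mg := mgT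
  JM := jmT
  relW := relW
  nrot := 7
  subW := subW
  nsub := 2

def M : ℕ := 17
def n : ℕ := 11

/-- the relators, as lists of letter codes in application order -/
def bases : List (List ℕ) := [
  [0, 0],
  [2, 2, 2, 2],
  [2, 0, 2, 0, 2, 0, 2, 0, 2, 0, 2, 0, 2, 0, 2, 0, 2, 0, 2, 0, 2, 0],
  [2, 2, 0, 2, 2, 0, 2, 2, 0, 2, 2, 0, 2, 2, 0, 2, 2, 0],
  [3, 0, 3, 0, 2, 0, 3, 0, 2, 2, 0, 2, 0, 3, 0, 2, 0, 2, 0]
]

/-- the rotations used: (relator, amount) -/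
def rots : List (ℕ × ℕ) := [(0, 0), (4, 7), (1, 0), (4, 18), (2, 1), (3, 1), (4, 14)]

/-- the subgroup generators, as lists of letter codes in application order -/
def subsL : List (List ℕ) := [
  [2],
  [0, 2, 0, 2, 0, 3, 0]
]

end Cfsg.Agent.Helper4.TC.M11PM10
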