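import Cfsg.Agent.Lib.Helper4.TC.Model

set_option autoImplicit false
set_option maxRecDepth 100000
set_option linter.unusedVariables false

namespace Cfsg.Agent.Helper4.TC.M11PM10

open Cfsg.Agent.Helper4.TC

def t0_0 : ℕ := 0x29638547a01
noncomputable def tcol0 (b : ℕ) : ℕ := t0_0
def t1_0 : ℕ := 0x29638547a01
noncomputable def tcol1 (b : ℕ) : ℕ := t1_0
def t2_0 : ℕ := 0xa6894175320
noncomputable def tcol2 (b : ℕ) : ℕ := t2_0
def t3_0 : ℕ := 0xa7849362150
noncomputable def tcol3 (b : ℕ) : ℕ := t3_0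
def a_0 : ℕ := 0x103008200050277010700660004004301060239000203310105032700030222000202110001000000000000
noncomputable def auxT (b : ℕ) : ℕ := a_0
noncomputable def tmT (c b : ℕ) : ℕ := Bool.rec (motive := fun _ => ℕ) (Bool.rec (motive := fun _ => ℕ) (tcol0 b) (tcol1 b) (Nat.ble 1 c)) (Bool.rec (motive := fun _ => ℕ) (tcol2 b) (tcol3 b) (Nat.ble 3 c)) (Nat.ble 2 c)

noncomputable def mdata : MData where
  n := 11
  w := 4
  mask := 15
  aw := 32
  amask := 4294967295
  s1 := 4
  s2 := 8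
  s3 := 16
  s4 := 24
  bsh := 11
  bmask := 2047
  nc := 4
  T := tmT
  A := auxT

end Cfsg.Agent.Helper4.TC.M11PM10
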