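import Cfsg.Agent.Lib.Helper4.TC.Timed

set_option autoImplicit false
set_option maxRecDepth 100000
set_option linter.unusedVariables false

namespace Cfsg.Agent.Helper4.TC.M11PM10

open Cfsg.Agent.Helper4.TC

def e0_0 : ℕ := 0x12680f00000001e0300440581700e16e01a02a02805c0401700901b00e056000000004b700501f00405c00c09c00017001
def j0_0 : ℕ := 0x2300000000000000030000000300000001000000010000001b00000003000000010000000b0000030c000000000000000100000026000000010000003600000001

noncomputable def ecol0 (b : ℕ) : ℕ := e0_0
noncomputable def jcol0 (b : ℕ) : ℕ := j0_0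

end Cfsg.Agent.Helper4.TC.M11PM10
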