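import Cfsg.Agent.Lib.Helper4.TC.Perm

set_option autoImplicit false
set_option maxRecDepth 100000
set_option linter.unusedVariables false

namespace Cfsg.Agent.Helper4.TC.M11PS

open Cfsg.Agent.Helper4.TC

def l2_0 : ℕ := 0x100057a000004690100045800000337010003260000032501000214000002130000010200000001
noncomputable def lT2 (b : ℕ) : ℕ := l2_0
noncomputable def ld2 : LData where
  cnt := 10
  pmask := 15
  dmask := 65535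
  ew := 32
  emask := 4294967295
  s1 := 4
  s2 := 8
  s3 := 24
  bsh := 11
  bmask := 2047
  L := lT2

def W2 : List (List ℕ) := [
  [2],
  [0, 2, 0, 2, 0, 3, 0]
]

def l3_0 : ℕ := 0x100023a0100010900000248020002470000010602000105010003640000023300000002
noncomputable def lT3 (b : ℕ) : ℕ := l3_0
noncomputable def ld3 : LData where
  cnt := 9
  pmask := 15
  dmask := 65535
  ew := 32
  emask := 4294967295
  s1 := 4
  s2 := 8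
  s3 := 24
  bsh := 11
  bmask := 2047
  L := lT3

def W3 : List (List ℕ) := [
  [0, 2, 0, 3, 3, 3, 0, 3, 0, 3, 3, 0, 2, 2, 2, 2, 1, 3, 3, 3],
  [3, 0, 2, 2, 2, 2, 2, 0, 3, 0, 2, 0, 3, 3, 3, 3, 1, 3, 3, 1, 3, 3, 3],
  [3, 0, 3, 0, 2, 0, 2, 0, 2, 2, 0, 3, 0, 3, 0, 2, 1, 3, 3, 1, 3, 3, 1, 3]
]

def l4_0 : ℕ := 0x100022a01000109010002480200010702000226000001050200026400000003
noncomputable def lT4 (b : ℕ) : ℕ := l4_0
noncomputable def ld4 : LData where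
  cnt := 8
  pmask := 15
  dmask := 65535
  ew := 32
  emask := 4294967295
  s1 := 4
  s2 := 8
  s3 := 24
  bsh := 11
  bmask := 2047
  L := lT4

def W4 : List (List ℕ) := [
  [2, 0, 3, 0, 3, 3, 0, 2, 0, 2, 0, 2, 2, 2, 0, 2, 1, 3, 3, 1, 2, 2, 2, 0, 3, 3, 3, 3, 1, 2, 2, 1, 2, 1, 2, 2, 2, 1, 3, 1],
  [0, 3, 0, 2, 0, 3, 0, 3, 3, 3, 3, 3, 0, 2, 2, 0, 1, 3, 1, 2, 2, 2, 0, 3, 3, 3, 3, 1, 2, 2, 1, 2, 1, 2, 2, 2, 1, 3, 1],
  [0, 2, 0, 3, 0, 3, 0, 3, 3, 0, 3, 0, 2, 0, 3, 0, 1, 1, 2, 1, 3, 1, 3, 1, 3, 3, 2, 2, 2, 0, 3, 3, 3, 3, 1, 2, 2, 1, 2, 1, 2, 2, 2, 1, 3, 1, 2, 0, 2, 2, 0, 2, 2, 0, 3, 1, 2, 1, 2, 1, 3, 3, 1, 3, 1, 3, 1, 2, 1, 2]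
]

end Cfsg.Agent.Helper4.TC.M11PS
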