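import Cfsg.Agent.Lib.Helper4.TC.M24SD
import Cfsg.Agent.Lib.Helper4.TC.Schur2
import Cfsg.Agent.Lib.Helper28.OutM23

set_option autoImplicit false
set_option maxRecDepth 100000
set_option linter.unusedVariables false
set_option linter.style.haveILetI false

/-! The groups with the relators of `M24SD` are the Mathieu groups `M₂₄` and `M₂₃`: the
permutations of the 24 points which satisfy the relators, and the comparison of the orders. -/

namespace Cfsg.Agent.Helper4.TC.M24Perm

open Cfsg Cfsg.Agent.Helper4.TC Cfsg.Agent.Lib.Helper28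
open Cfsg.Agent.Helper4.Pres.M24W (Gen)

abbrev dec : ℕ → Letter Gen := M24WCod.dec
abbrev R24 : Set (FreeGroup Gen) := relSet dec (M24SD.exL4 ++ M24SD.ceL4)
abbrev R23 : Set (FreeGroup Gen) := relSet dec (M24SD.exL3 ++ M24SD.ceL3)
abbrev P24 : Type := PresentedGroup R24
abbrev P23 : Type := PresentedGroup R23

/-- the table of the fourth generator, a conjugate of `cubeTwist` -/
def tTab : Fin 24 → Fin 24 :=
  ![16, 2, 18, 6, 4, 11, 1, 20, 8, 0, 5, 17, 13, 9, 7, 15, 12, 22, 3, 14, 21, 19, 10, 23]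

def tInvTab : Fin 24 → Fin 24 :=
  ![9, 6, 1, 18, 4, 10, 3, 14, 8, 13, 22, 5, 16, 12, 19, 15, 0, 11, 2, 21, 7, 20, 17, 23]

/-- the table of the fifth generator, the conjugate of the shift under `projInv` -/
def wTab : Fin 24 → Fin 24 :=
  ![0, 23, 21, 10, 14, 16, 8, 18, 12, 19, 4, 15, 1, 20, 6, 17, 2, 9, 3, 13, 5, 7, 11, 22]

def wInvTab : Fin 24 → Fin 24 :=
  ![0, 12, 16, 18, 10, 20, 14, 21, 6, 17, 3, 22, 8, 19, 4, 11, 5, 15, 7, 9, 13, 2, 23, 1]

theorem tTab_inj : TabInj tTab := by decide +kernel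

theorem wTab_inj : TabInj wTab := by decide +kernel

set_option maxHeartbeats 4000000 in
theorem tTab_check : TabCheck tTab := by decide +kernel

set_option maxHeartbeats 4000000 in
theorem wTab_check : TabCheck wTab := by decide +kernel

theorem tab_inv2 : (∀ a, tTab (tInvTab a) = a) ∧ (∀ a, wTab (wInvTab a) = a) := by
  decide +kernel

noncomputable def permT : Equiv.Perm GolayPt := tabPerm tTab tTab_inj

noncomputable def permW : Equiv.Perm GolayPt := tabPerm wTab wTab_inj

theorem permT_mem : permT ∈ M24 := tabPerm_mem_M24 _ _ tTab_check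

theorem permW_mem : permW ∈ M24 := tabPerm_mem_M24 _ _ wTab_check

theorem permT_acts : TActs permT tTab := tabPerm_pt _ _

theorem permW_acts : TActs permW wTab := tabPerm_pt _ _

/-- the images of the generators; the last one is a parameter -/
noncomputable def fP (pw : Equiv.Perm GolayPt) : Gen → Equiv.Perm GolayPt
  | .x => m24shift
  | .y => o11_b
  | .z => cubeTwist
  | .t => permT
  | .w => pw

/-- the tables of the letters -/
def ltab (wt wi : Fin 24 → Fin 24) (c : ℕ) : Fin 24 → Fin 24 :=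
  match c with
  | 0 => shiftTab
  | 1 => shiftInvTab
  | 2 => o11_btab
  | 3 => o11_binvtab
  | 4 => cubeTwistTab
  | 5 => cubeTwistInvTab
  | 6 => tTab
  | 7 => tInvTab
  | 8 => wt
  | 9 => wi
  | _ => fun a => a

theorem gl_acts (pw : Equiv.Perm GolayPt) (wt wi : Fin 24 → Fin 24) (hw : TActs pw wt)
    (hwi : TActs pw⁻¹ wi) : ∀ c, c < 10 → TActs (gl (fP pw) (dec c)) (ltab wt wi c) := by
  intro c hc
  interval_cases c
  · exact shift_acts
  · exact shiftInv_acts
  · exact o11_b_acts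
  · exact o11_b_acts.inv o11_binvtab o23_tab_inv.2.1
  · exact cubeTwist_acts
  · exact cubeTwist_acts.inv cubeTwistInvTab o23_tab_inv.2.2
  · exact permT_acts
  · exact permT_acts.inv tInvTab tab_inv2.1
  · exact hw
  · exact hwi

/-- the table of a word -/
def wtab (wt wi : Fin 24 → Fin 24) (w : List ℕ) (a : Fin 24) : Fin 24 :=
  w.foldl (fun y c => ltab wt wi c y) a

theorem tActs_evc (pw : Equiv.Perm GolayPt) (wt wi : Fin 24 → Fin 24) (hw : TActs pw wt)
    (hwi : TActs pw⁻¹ wi) (w : List ℕ) (hlt : ∀ c ∈ w, c < 10) :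
    TActs (evc (fP pw) dec w) (wtab wt wi w) := by
  induction w with
  | nil => exact fun _ => rfl
  | cons c cs ih =>
    rw [evc_cons]
    exact (ih fun d hd => hlt d (List.mem_cons_of_mem _ hd)).mul
      (gl_acts pw wt wi hw hwi c (hlt c List.mem_cons_self))

theorem evc_eq_one (pw : Equiv.Perm GolayPt) (wt wi : Fin 24 → Fin 24) (hw : TActs pw wt)
    (hwi : TActs pw⁻¹ wi) (w : List ℕ)
    (h : (∀ c ∈ w, c < 10) ∧ ∀ a, wtab wt wi w a = a) : evc (fP pw) dec w = 1 :=
  TActs.ext (tActs_evc pw wt wi hw hwi w h.1) TActs.one h.2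

theorem check24 : ∀ b ∈ M24SD.exL4 ++ M24SD.ceL4,
    (∀ c ∈ b, c < 10) ∧ ∀ a, wtab wTab wInvTab b a = a := by decide +kernel

theorem check23 : ∀ b ∈ M24SD.exL3 ++ M24SD.ceL3,
    (∀ c ∈ b, c < 10) ∧ ∀ a, wtab (fun a => a) (fun a => a) b a = a := by decide +kernel

theorem one_acts : TActs (1 : Equiv.Perm GolayPt) (fun a => a) := TActs.one

theorem one_inv_acts : TActs (1 : Equiv.Perm GolayPt)⁻¹ (fun a => a) := by
  rw [inv_one]
  exact TActs.one

theorem rel24 : ∀ r ∈ R24, FreeGroup.lift (fP permW) r = 1 := by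
  rintro r ⟨b, hb, rfl⟩
  rw [lift_wordF]
  exact evc_eq_one permW wTab wInvTab permW_acts (permW_acts.inv wInvTab tab_inv2.2) b
    (check24 b hb)

theorem rel23 : ∀ r ∈ R23, FreeGroup.lift (fP 1) r = 1 := by
  rintro r ⟨b, hb, rfl⟩
  rw [lift_wordF]
  exact evc_eq_one 1 _ _ one_acts one_inv_acts b (check23 b hb)

noncomputable def θ24 : P24 →* Equiv.Perm GolayPt := PresentedGroup.toGroup rel24

noncomputable def θ23 : P23 →* Equiv.Perm GolayPt := PresentedGroup.toGroup rel23

theorem θ24_of (x : Gen) : θ24 (PresentedGroup.of x) = fP permW x := PresentedGroup.toGroup.of _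

theorem θ23_of (x : Gen) : θ23 (PresentedGroup.of x) = fP 1 x := PresentedGroup.toGroup.of _

theorem range_le_of {R : Set (FreeGroup Gen)} (θ : PresentedGroup R →* Equiv.Perm GolayPt)
    (K : Subgroup (Equiv.Perm GolayPt)) (h : ∀ x, θ (PresentedGroup.of x) ∈ K) : θ.range ≤ K := by
  rw [MonoidHom.range_eq_map, ← PresentedGroup.closure_range_of R, MonoidHom.map_closure,
    Subgroup.closure_le]
  rintro _ ⟨_, ⟨x, rfl⟩, rfl⟩
  exact h x

theorem range24_le : θ24.range ≤ M24 := by
  apply range_le_of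
  intro x
  rw [θ24_of]
  cases x
  · exact m24shift_mem_M24
  · exact o11_b_mem
  · exact cubeTwist_mem_M24
  · exact permT_mem
  · exact permW_mem

theorem permT_mem_M23 : permT ∈ Spor.M23 := by
  rw [M23_eq_G23, mem_G23]
  exact ⟨permT_mem, permT_acts 23⟩

theorem range23_le : θ23.range ≤ Spor.M23 := by
  apply range_le_of
  intro x
  rw [θ23_of]
  cases x
  · exact shift_mem_M23
  · exact o11_b_mem_M23
  · exact cubeTwist_mem_M23
  · exact permT_mem_M23
  · exact Subgroup.one_mem _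

theorem projInv_check : (∀ c ∈ ([0, 8, 0] : List ℕ), c < 10) ∧
    ∀ a, wtab wTab wInvTab [0, 8, 0] a = projInvTab a := by decide +kernel

theorem le_range24 : M24 ≤ θ24.range := by
  rw [← closure_m24gens_eq, Subgroup.closure_le]
  intro g hg
  simp only [m24gens, Set.mem_insert_iff, Set.mem_singleton_iff] at hg
  rcases hg with rfl | rfl | rfl
  · exact ⟨PresentedGroup.of .x, θ24_of .x⟩
  · refine ⟨PresentedGroup.mk R24 (wordF dec [0, 8, 0]), ?_⟩
    show PresentedGroup.toGroup rel24 (PresentedGroup.mk R24 (wordF dec [0, 8, 0])) = projInv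
    rw [toGroup_wordF]
    exact TActs.ext (tActs_evc permW wTab wInvTab permW_acts (permW_acts.inv wInvTab tab_inv2.2)
      _ projInv_check.1) projInv_acts projInv_check.2
  · exact ⟨PresentedGroup.of .z, θ24_of .z⟩

theorem le_range23 : Spor.M23 ≤ θ23.range := by
  rw [← o23_gen, Subgroup.closure_le]
  intro g hg
  simp only [Set.mem_insert_iff, Set.mem_range] at hg
  rcases hg with rfl | rfl | ⟨k, rfl⟩
  · exact ⟨PresentedGroup.of .x, θ23_of .x⟩
  · exact ⟨PresentedGroup.of .y, θ23_of .y⟩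
  · fin_cases k
    exact ⟨PresentedGroup.of .z, θ23_of .z⟩

theorem card_P24_le : Finite P24 ∧ Nat.card P24 ≤ 244823040 := by
  have h := M24SD.card4
  rw [M24SD.hb4] at h
  exact Schur.card_true_le M24WCod.coding 6 M24SD.exL4 M24SD.ceL4 M24SD.g5 244823040 h

theorem card_P23_le : Finite P23 ∧ Nat.card P23 ≤ 10200960 := by
  have h := M24SD.card3
  rw [M24SD.hb3] at h
  exact Schur.card_true_le M24WCod.coding 6 M24SD.exL3 M24SD.ceL3 M24SD.g4 10200960 h

instance : Finite P24 := card_P24_le.1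

instance : Finite P23 := card_P23_le.1

theorem card_M23 : Nat.card Spor.M23 = 10200960 := by
  rw [M23_eq_G23]
  exact card_G23

theorem iso24 : Nonempty (P24 ≃* M24) := by
  let φ : P24 →* M24 := θ24.codRestrict M24 fun p => range24_le ⟨p, rfl⟩
  refine Schur.mulEquiv_of_surjective_of_card_le φ ?_ (by rw [card_M24]; exact card_P24_le.2)
  rintro ⟨g, hg⟩
  obtain ⟨p, hp⟩ := le_range24 hg
  exact ⟨p, Subtype.ext hp⟩

theorem iso23 : Nonempty (P23 ≃* Spor.M23) := by
  let φ : P23 →* Spor.M23 := θ23.codRestrict Spor.M23 fun p => range23_le ⟨p, rfl⟩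
  refine Schur.mulEquiv_of_surjective_of_card_le φ ?_ (by rw [card_M23]; exact card_P23_le.2)
  rintro ⟨g, hg⟩
  obtain ⟨p, hp⟩ := le_range23 hg
  exact ⟨p, Subtype.ext hp⟩

theorem card_P24 : Nat.card P24 = 244823040 := by
  obtain ⟨e⟩ := iso24
  rw [Nat.card_congr e.toEquiv, card_M24]

theorem card_P23 : Nat.card P23 = 10200960 := by
  obtain ⟨e⟩ := iso23
  rw [Nat.card_congr e.toEquiv, card_M23]

end Cfsg.Agent.Helper4.TC.M24Perm
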