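import Cfsg.Prelude.Def_SporCoxeter

set_option autoImplicit false

/-! A five-letter alphabet for the presentations of the large Mathieu groups. -/

namespace Cfsg.Agent.Helper4.Pres

namespace M24W

inductive Gen
  | x
  | y
  | z
  | t
  | w
  deriving DecidableEq

end M24W

end Cfsg.Agent.Helper4.Pres
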