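import Cfsg.Agent.Lib.Helper4.TC.Std
import Cfsg.Agent.Lib.Helper4.TC.PresM24W

set_option autoImplicit false
set_option maxRecDepth 100000
set_option linter.unusedVariables false

namespace Cfsg.Agent.Helper4.TC.M24WCod

open Cfsg.Agent.Helper4.TC

def gens : List Cfsg.Agent.Helper4.Pres.M24W.Gen := [.x, .y, .z, .t, .w]

abbrev dec : ℕ → Letter Cfsg.Agent.Helper4.Pres.M24W.Gen := stdDec gens .x
abbrev enc : Cfsg.Agent.Helper4.Pres.M24W.Gen → ℕ := stdEnc gens

theorem coding : Coding dec enc 10 :=
  std_coding gens .x (by decide) (by intro x; cases x <;> decide) 10 (by decide)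

end Cfsg.Agent.Helper4.TC.M24WCod
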