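import Cfsg.Agent.Lib.Helper4.TC.M24S3D
import Cfsg.Agent.Lib.Helper4.TC.Strict

set_option autoImplicit false
set_option maxRecDepth 100000
set_option linter.unusedVariables false
set_option Elab.async false

namespace Cfsg.Agent.Helper4.TC.M24S3

open Cfsg.Agent.Helper4.TC

theorem cnt0 : countFinal data 43116 0 0 = 1288 := countFinal_strict data 43116 0 0 1288 (by decide +kernel)
theorem rows0 : rowsRange data 43116 11360 0 = true := rowsRange_strict data 43116 11360 0 (by decide +kernel)
theorem rows1 : rowsRange data 43116 31756 11360 = true := rowsRange_strict data 43116 31756 11360 (by decide +kernel)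

end Cfsg.Agent.Helper4.TC.M24S3
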