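import Cfsg.Agent.Lib.Helper4.TC.Perm
import Cfsg.Agent.Lib.Helper4.TC.M24WCod
import Cfsg.Agent.Lib.Helper4.TC.M24S3Fin
import Cfsg.Agent.Lib.Helper4.TC.M24S3CM
import Cfsg.Agent.Lib.Helper4.TC.M24S3CE0
import Cfsg.Agent.Lib.Helper4.TC.M24S3CE1
import Cfsg.Agent.Lib.Helper4.TC.M24S3CE2
import Cfsg.Agent.Lib.Helper4.TC.M24S3CE3
import Cfsg.Agent.Lib.Helper4.TC.M24S3CE4
import Cfsg.Agent.Lib.Helper4.TC.M24S3CE5
import Cfsg.Agent.Lib.Helper4.TC.M24S3CE6
import Cfsg.Agent.Lib.Helper4.TC.M24S3CE7
import Cfsg.Agent.Lib.Helper4.TC.M24S3CE8
import Cfsg.Agent.Lib.Helper4.TC.M24S3CE9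
import Cfsg.Agent.Lib.Helper4.TC.M24S3CF0

set_option autoImplicit false
set_option maxRecDepth 100000
set_option linter.unusedVariables false

namespace Cfsg.Agent.Helper4.TC.M24S3

open Cfsg.Agent.Helper4.TC

theorem allE0 : ∀ k, k < 65536 → justE data 0 k = true := by
  intro k hk
  by_cases hh1 : k < 23600
  · skip
    exact edgeRange_sound data 0 23600 0 e0_c0 k (by omega) (by omega)
  · skip
    by_cases hh2 : k < 50919
    · skip
      exact edgeRange_sound data 0 27319 23600 e0_c1 k (by omega) (by omega)
    · skip
      exact edgeRange_sound data 0 14617 50919 e0_c2 k (by omega) (by omega)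

theorem allE1 : ∀ k, k < 65536 → justE data 1 k = true := by
  intro k hk
  by_cases hh1 : k < 24111
  · skip
    exact edgeRange_sound data 1 24111 0 e1_c0 k (by omega) (by omega)
  · skip
    by_cases hh2 : k < 52890
    · skip
      exact edgeRange_sound data 1 28779 24111 e1_c1 k (by omega) (by omega)
    · skip
      exact edgeRange_sound data 1 12646 52890 e1_c2 k (by omega) (by omega)

theorem allE2 : ∀ k, k < 65536 → justE data 2 k = true := by
  intro k hk
  by_cases hh1 : k < 30235
  · skip
    by_cases hh2 : k < 17581
    · skip
      exact edgeRange_sound data 2 17581 0 e2_c0 k (by omega) (by omega)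
    · skip
      exact edgeRange_sound data 2 12654 17581 e2_c1 k (by omega) (by omega)
  · skip
    by_cases hh3 : k < 44981
    · skip
      exact edgeRange_sound data 2 14746 30235 e2_c2 k (by omega) (by omega)
    · skip
      exact edgeRange_sound data 2 20555 44981 e2_c3 k (by omega) (by omega)

theorem allE3 : ∀ k, k < 65536 → justE data 3 k = true := by
  intro k hk
  by_cases hh1 : k < 32258
  · skip
    by_cases hh2 : k < 18667
    · skip
      exact edgeRange_sound data 3 18667 0 e3_c0 k (by omega) (by omega)
    · skip
      exact edgeRange_sound data 3 13591 18667 e3_c1 k (by omega) (by omega)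
  · skip
    by_cases hh3 : k < 58502
    · skip
      exact edgeRange_sound data 3 26244 32258 e3_c2 k (by omega) (by omega)
    · skip
      exact edgeRange_sound data 3 7034 58502 e3_c3 k (by omega) (by omega)

theorem allE4 : ∀ k, k < 65536 → justE data 4 k = true := by
  intro k hk
  by_cases hh1 : k < 28411
  · skip
    by_cases hh2 : k < 15849
    · skip
      exact edgeRange_sound data 4 15849 0 e4_c0 k (by omega) (by omega)
    · skip
      exact edgeRange_sound data 4 12562 15849 e4_c1 k (by omega) (by omega)
  · skip
    by_cases hh3 : k < 41905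
    · skip
      exact edgeRange_sound data 4 13494 28411 e4_c2 k (by omega) (by omega)
    · skip
      exact edgeRange_sound data 4 23631 41905 e4_c3 k (by omega) (by omega)

theorem allE5 : ∀ k, k < 65536 → justE data 5 k = true := by
  intro k hk
  by_cases hh1 : k < 27284
  · skip
    by_cases hh2 : k < 15298
    · skip
      exact edgeRange_sound data 5 15298 0 e5_c0 k (by omega) (by omega)
    · skip
      exact edgeRange_sound data 5 11986 15298 e5_c1 k (by omega) (by omega)
  · skip
    by_cases hh3 : k < 40408
    · skip
      exact edgeRange_sound data 5 13124 27284 e5_c2 k (by omega) (by omega)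
    · skip
      exact edgeRange_sound data 5 25128 40408 e5_c3 k (by omega) (by omega)

theorem allE6 : ∀ k, k < 65536 → justE data 6 k = true := by
  intro k hk
  by_cases hh1 : k < 31904
  · skip
    by_cases hh2 : k < 18525
    · skip
      exact edgeRange_sound data 6 18525 0 e6_c0 k (by omega) (by omega)
    · skip
      exact edgeRange_sound data 6 13379 18525 e6_c1 k (by omega) (by omega)
  · skip
    by_cases hh3 : k < 57617
    · skip
      exact edgeRange_sound data 6 25713 31904 e6_c2 k (by omega) (by omega)
    · skip
      exact edgeRange_sound data 6 7919 57617 e6_c3 k (by omega) (by omega)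

theorem allE7 : ∀ k, k < 65536 → justE data 7 k = true := by
  intro k hk
  by_cases hh1 : k < 31918
  · skip
    by_cases hh2 : k < 18903
    · skip
      exact edgeRange_sound data 7 18903 0 e7_c0 k (by omega) (by omega)
    · skip
      exact edgeRange_sound data 7 13015 18903 e7_c1 k (by omega) (by omega)
  · skip
    by_cases hh3 : k < 56064
    · skip
      exact edgeRange_sound data 7 24146 31918 e7_c2 k (by omega) (by omega)
    · skip
      exact edgeRange_sound data 7 9472 56064 e7_c3 k (by omega) (by omega)

theorem allE8 : ∀ k, k < 65536 → justE data 8 k = true := by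
  intro k hk
  by_cases hh1 : k < 25000
  · skip
    exact edgeRange_sound data 8 25000 0 e8_c0 k (by omega) (by omega)
  · skip
    by_cases hh2 : k < 56884
    · skip
      exact edgeRange_sound data 8 31884 25000 e8_c1 k (by omega) (by omega)
    · skip
      exact edgeRange_sound data 8 8652 56884 e8_c2 k (by omega) (by omega)

theorem allE9 : ∀ k, k < 65536 → justE data 9 k = true := by
  intro k hk
  by_cases hh1 : k < 24356
  · skip
    exact edgeRange_sound data 9 24356 0 e9_c0 k (by omega) (by omega)
  · skip
    by_cases hh2 : k < 55596
    · skip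
      exact edgeRange_sound data 9 31240 24356 e9_c1 k (by omega) (by omega)
    · skip
      exact edgeRange_sound data 9 9940 55596 e9_c2 k (by omega) (by omega)

theorem allE : ∀ c k, c < data.nc → k ≤ data.mask → justE data c k = true := by
  intro c k hc hk
  have hc' : c < 10 := hc
  have hk' : k < 65536 := Nat.lt_succ_of_le hk
  interval_cases c
  · exact allE0 k hk'
  · exact allE1 k hk'
  · exact allE2 k hk'
  · exact allE3 k hk'
  · exact allE4 k hk'
  · exact allE5 k hk'
  · exact allE6 k hk'
  · exact allE7 k hk'
  · exact allE8 k hk'
  · exact allE9 k hk'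

theorem allM : ∀ k, k ≤ data.mask → justM data k = true := by
  intro k hk
  have hk' : k < 65536 := Nat.lt_succ_of_le hk
  by_cases hh1 : k < 31603
  · skip
    by_cases hh2 : k < 17985
    · skip
      exact mergeRange_sound data 17985 0 m_c0 k (by omega) (by omega)
    · skip
      exact mergeRange_sound data 13618 17985 m_c1 k (by omega) (by omega)
  · skip
    by_cases hh3 : k < 51376
    · skip
      exact mergeRange_sound data 19773 31603 m_c2 k (by omega) (by omega)
    · skip
      exact mergeRange_sound data 14160 51376 m_c3 k (by omega) (by omega)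

theorem rows_all : ∀ k, k < M → isFinal data k = true → rowOK data M k data.nc = true := by
  intro k hk
  have hk' : k < 43116 := hk
  by_cases hh1 : k < 11360
  · skip
    exact rowsRange_sound data M 11360 0 rows0 k (by omega) (by omega)
  · skip
    exact rowsRange_sound data M 31756 11360 rows1 k (by omega) (by omega)

theorem cnt_ok : countFinal data M 0 0 = n := by
  exact cnt0

/-- the index of the subgroup generated by `subsL` in the group with relators `bases` -/
theorem bound : Finite (PresentedGroup (relSet M24WCod.dec bases) ⧸ (Subgroup.closure (relSet M24WCod.dec subsL)).map (PresentedGroup.mk (relSet M24WCod.dec bases))) ∧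
    Nat.card (PresentedGroup (relSet M24WCod.dec bases) ⧸ (Subgroup.closure (relSet M24WCod.dec subsL)).map (PresentedGroup.mk (relSet M24WCod.dec bases))) ≤ n :=
  tc_bound data bases subsL rots M24WCod.coding (mem_relSet bases) (mem_relSet subsL) words_ok allE allM M n fin0_ok (by decide) (by decide) cnt_ok rows_all

end Cfsg.Agent.Helper4.TC.M24S3
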