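import Cfsg.Agent.Lib.Helper4.TC.M24S4B
import Cfsg.Agent.Lib.Helper4.TC.M24S3B
import Cfsg.Agent.Lib.Helper4.TC.M24S2B
import Cfsg.Agent.Lib.Helper4.TC.M24S1B
import Cfsg.Agent.Lib.Helper4.TC.Schur

set_option autoImplicit false
set_option maxRecDepth 100000
set_option linter.unusedVariables false

namespace Cfsg.Agent.Helper4.TC.M24SD

open Cfsg.Agent.Helper4.TC

def exL4 : List (List ℕ) := [[2, 2, 2, 2, 2, 2, 2, 2, 2, 2, 2],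
  [4, 4, 4, 4, 4],
  [2, 2, 2, 5, 3, 4],
  [6, 6, 6, 6, 6],
  [0, 0, 0, 0, 0, 0, 0, 0, 0, 0, 0, 0, 0, 0, 0, 0, 0, 0, 0, 0, 0, 0, 0],
  [0, 0, 3, 1, 2],
  [0, 0, 4, 2, 0, 4, 1, 3, 5, 1, 1, 7],
  [8, 8, 8, 8, 8, 8, 8, 8, 8, 8, 8, 8, 8, 8, 8, 8, 8, 8, 8, 8, 8, 8, 8],
  [2, 8, 3, 9, 9]]
def ceL4 : List (List ℕ) := [[4, 4, 6, 4, 4, 6],
  [4, 4, 4, 7, 5, 5, 7],
  [2, 2, 6, 3, 4, 6, 5, 6],
  [2, 6, 2, 6, 2, 6, 2, 6],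
  [4, 4, 4, 7, 4, 4, 4, 7],
  [4, 6, 4, 6, 4, 6, 4, 6],
  [4, 6, 4, 6, 5, 7, 5, 6],
  [4, 6, 4, 7, 4, 6, 4, 7],
  [2, 2, 4, 4, 7, 7, 4, 3, 7],
  [2, 2, 5, 5, 2, 7, 5, 5, 7],
  [2, 2, 6, 3, 5, 7, 4, 4, 6],
  [0, 4, 2, 6, 1, 4, 3, 4, 7, 2, 4, 4],
  [0, 8, 4, 2, 5, 8, 0, 8, 4, 2, 5, 8],
  [0, 8, 4, 3, 4, 8, 0, 8, 5, 3, 5, 8],
  [0, 8, 4, 3, 4, 9, 1, 9, 5, 3, 5, 8],
  [0, 8, 5, 0, 9, 9, 1, 9, 0, 9, 4, 8],
  [0, 8, 5, 3, 5, 3, 4, 4, 9, 1, 3, 9],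
  [0, 8, 5, 8, 1, 8, 0, 8, 8, 1, 4, 8],
  [0, 8, 7, 3, 5, 3, 9, 7, 2, 5, 6, 2]]
def exL3 : List (List ℕ) := [[2, 2, 2, 2, 2, 2, 2, 2, 2, 2, 2],
  [4, 4, 4, 4, 4],
  [2, 2, 2, 5, 3, 4],
  [6, 6, 6, 6, 6],
  [0, 0, 0, 0, 0, 0, 0, 0, 0, 0, 0, 0, 0, 0, 0, 0, 0, 0, 0, 0, 0, 0, 0],
  [0, 0, 3, 1, 2],
  [0, 0, 4, 2, 0, 4, 1, 3, 5, 1, 1, 7],
  [8]]
def ceL3 : List (List ℕ) := [[4, 4, 6, 4, 4, 6],
  [4, 4, 4, 7, 5, 5, 7],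
  [2, 2, 6, 3, 4, 6, 5, 6],
  [2, 6, 2, 6, 2, 6, 2, 6],
  [4, 4, 4, 7, 4, 4, 4, 7],
  [4, 6, 4, 6, 4, 6, 4, 6],
  [4, 6, 4, 6, 5, 7, 5, 6],
  [4, 6, 4, 7, 4, 6, 4, 7],
  [2, 2, 4, 4, 7, 7, 4, 3, 7],
  [2, 2, 5, 5, 2, 7, 5, 5, 7],
  [2, 2, 6, 3, 5, 7, 4, 4, 6],
  [0, 4, 2, 6, 1, 4, 3, 4, 7, 2, 4, 4]]
def g5 : List (List ℕ) := [[0], [2], [4], [6], [8]]
def g4 : List (List ℕ) := [[0],
  [2],
  [4],
  [6]]

theorem hb4 : M24S4.bases = exL4 ++ Schur.weakify 6 g5 ceL4 := by decide +kernel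
theorem hb3 : M24S3.bases = exL3 ++ Schur.weakify 6 g4 ceL3 := by decide +kernel

theorem card1 : Finite (PresentedGroup (relSet M24WCod.dec M24S1.bases)) ∧ Nat.card (PresentedGroup (relSet M24WCod.dec M24S1.bases)) ≤ 55 := by
  refine stage_bot _ _ ?_ _ M24S1.bound
  rintro s ⟨b, hb, _⟩
  simp [M24S1.subsL] at hb

theorem card2 : Finite (PresentedGroup (relSet M24WCod.dec M24S2.bases)) ∧ Nat.card (PresentedGroup (relSet M24WCod.dec M24S2.bases)) ≤ 7920 := by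
  have h := stage_bound (relSet M24WCod.dec M24S2.bases) (relSet M24WCod.dec M24S1.bases) (relSet M24WCod.dec M24S2.subsL) M24S2.bases M24S1.bases M24S2.subsL
    (fun x : Cfsg.Agent.Helper4.Pres.M24W.Gen => decide (x ∈ ([.y, .z] : List Cfsg.Agent.Helper4.Pres.M24W.Gen))) (mem_relSet _) (fun r hr => hr) (fun s hs => hs) (by decide +kernel) (by decide +kernel) M24S2.n 55 M24S2.bound card1
  exact ⟨h.1, h.2.trans (by decide)⟩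

theorem card3 : Finite (PresentedGroup (relSet M24WCod.dec M24S3.bases)) ∧ Nat.card (PresentedGroup (relSet M24WCod.dec M24S3.bases)) ≤ 10200960 := by
  have h := stage_bound (relSet M24WCod.dec M24S3.bases) (relSet M24WCod.dec M24S2.bases) (relSet M24WCod.dec M24S3.subsL) M24S3.bases M24S2.bases M24S3.subsL
    (fun x : Cfsg.Agent.Helper4.Pres.M24W.Gen => decide (x ∈ ([.y, .z, .t] : List Cfsg.Agent.Helper4.Pres.M24W.Gen))) (mem_relSet _) (fun r hr => hr) (fun s hs => hs) (by decide +kernel) (by decide +kernel) M24S3.n 7920 M24S3.bound card2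
  exact ⟨h.1, h.2.trans (by decide)⟩

theorem card4 : Finite (PresentedGroup (relSet M24WCod.dec M24S4.bases)) ∧ Nat.card (PresentedGroup (relSet M24WCod.dec M24S4.bases)) ≤ 244823040 := by
  have h := stage_bound (relSet M24WCod.dec M24S4.bases) (relSet M24WCod.dec M24S3.bases) (relSet M24WCod.dec M24S4.subsL) M24S4.bases M24S3.bases M24S4.subsL
    (fun x : Cfsg.Agent.Helper4.Pres.M24W.Gen => decide (x ∈ ([.x, .y, .z, .t] : List Cfsg.Agent.Helper4.Pres.M24W.Gen))) (mem_relSet _) (fun r hr => hr) (fun s hs => hs) (by decide +kernel) (by decide +kernel) M24S4.n 10200960 M24S4.bound card3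
  exact ⟨h.1, h.2.trans (by decide)⟩

end Cfsg.Agent.Helper4.TC.M24SD
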