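import Cfsg.Agent.Lib.Helper4.TC.M24Perm

set_option autoImplicit false
set_option maxRecDepth 100000
set_option linter.unusedVariables false
set_option linter.style.haveILetI false

/-! The stem extensions of the presented groups `M₂₄` and `M₂₃` with kernel of exponent 6 are
quotients of the groups with weak relators. -/

namespace Cfsg.Agent.Helper4.TC.M24Schur

open Cfsg Cfsg.Agent.Helper4.TC Cfsg.Agent.Helper4.TC.M24Perm
open Cfsg.Agent.Helper4.Pres.M24W (Gen)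

/-- the exact relators which do not involve the last generator -/
def exC : List (List ℕ) := [[2, 2, 2, 2, 2, 2, 2, 2, 2, 2, 2],
  [4, 4, 4, 4, 4],
  [2, 2, 2, 5, 3, 4],
  [6, 6, 6, 6, 6],
  [0, 0, 0, 0, 0, 0, 0, 0, 0, 0, 0, 0, 0, 0, 0, 0, 0, 0, 0, 0, 0, 0, 0],
  [0, 0, 3, 1, 2],
  [0, 0, 4, 2, 0, 4, 1, 3, 5, 1, 1, 7]]

theorem exL3_eq : M24SD.exL3 = exC ++ [[8]] := by decide +kernel

theorem exL4_eq : M24SD.exL4 = exC ++ [[8, 8, 8, 8, 8, 8, 8, 8, 8, 8, 8, 8, 8, 8, 8, 8, 8, 8, 8,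
  8, 8, 8, 8], [2, 8, 3, 9, 9]] := by decide +kernel

section Ev

variable {Q : Type*} [Group Q] (f : Gen → Q)

theorem evc1 (c : ℕ) : evc f dec [c] = gl f (dec c) := by
  rw [evc_cons, evc_nil, one_mul]

theorem evc_yz : evc f dec [2, 2, 2, 5, 3, 4] =
    1 * f .z * (f .y)⁻¹ * (f .z)⁻¹ * f .y * f .y * f .y := rfl

theorem evc_xy : evc f dec [0, 0, 3, 1, 2] = 1 * f .y * (f .x)⁻¹ * (f .y)⁻¹ * f .x * f .x := rfl

theorem evc_t : evc f dec [0, 0, 4, 2, 0, 4, 1, 3, 5, 1, 1, 7] =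
    1 * (f .t)⁻¹ * (f .x)⁻¹ * (f .x)⁻¹ * (f .z)⁻¹ * (f .y)⁻¹ * (f .x)⁻¹ * f .z * f .x * f .y *
      f .z * f .x * f .x := rfl

theorem evc_yw : evc f dec [2, 8, 3, 9, 9] = 1 * (f .w)⁻¹ * (f .w)⁻¹ * (f .y)⁻¹ * f .w * f .y :=
  rfl

theorem evc_x23 : evc f dec [0, 0, 0, 0, 0, 0, 0, 0, 0, 0, 0, 0, 0, 0, 0, 0, 0, 0, 0, 0, 0, 0, 0] =
    (f .x) ^ 23 := by
  rw [show ([0, 0, 0, 0, 0, 0, 0, 0, 0, 0, 0, 0, 0, 0, 0, 0, 0, 0, 0, 0, 0, 0, 0] : List ℕ) =
    wpow [0] 23 from rfl, evc_wpow, evc1]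
  rfl

theorem evc_w23 : evc f dec [8, 8, 8, 8, 8, 8, 8, 8, 8, 8, 8, 8, 8, 8, 8, 8, 8, 8, 8, 8, 8, 8, 8] =
    (f .w) ^ 23 := by
  rw [show ([8, 8, 8, 8, 8, 8, 8, 8, 8, 8, 8, 8, 8, 8, 8, 8, 8, 8, 8, 8, 8, 8, 8] : List ℕ) =
    wpow [8] 23 from rfl, evc_wpow, evc1]
  rfl

theorem evc_y11 : evc f dec [2, 2, 2, 2, 2, 2, 2, 2, 2, 2, 2] = (f .y) ^ 11 := by
  rw [show ([2, 2, 2, 2, 2, 2, 2, 2, 2, 2, 2] : List ℕ) = wpow [2] 11 from rfl, evc_wpow, evc1]
  rfl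

theorem evc_z5 : evc f dec [4, 4, 4, 4, 4] = (f .z) ^ 5 := by
  rw [show ([4, 4, 4, 4, 4] : List ℕ) = wpow [4] 5 from rfl, evc_wpow, evc1]
  rfl

theorem evc_t5 : evc f dec [6, 6, 6, 6, 6] = (f .t) ^ 5 := by
  rw [show ([6, 6, 6, 6, 6] : List ℕ) = wpow [6] 5 from rfl, evc_wpow, evc1]
  rfl

theorem evc_w1 : evc f dec [8] = f .w := by
  rw [evc1]
  rfl

end Ev

/-- the images of the letters in a stem extension -/
def mkg {Γ : Type*} (gx gy gz gt gw : Γ) : Gen → Γ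
  | .x => gx
  | .y => gy
  | .z => gz
  | .t => gt
  | .w => gw

section Lifts

variable {R : Set (FreeGroup Gen)}

theorem rel_one (b : List ℕ) (hb : wordF dec b ∈ R) :
    evc (PresentedGroup.of (rels := R)) dec b = 1 := by
  rw [evc_of]
  exact PresentedGroup.one_of_mem hb

/-- the lifts of the first four generators -/
theorem exists_lifts {Γ : Type*} [Group Γ] (σ : Γ →* PresentedGroup R) (hσ : IsStemExtension σ)
    (hexp : ∀ z ∈ σ.ker, z ^ 6 = 1) (hR : ∀ b ∈ exC, wordF dec b ∈ R) :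
    ∃ gx gy gz gt : Γ, σ gx = PresentedGroup.of .x ∧ σ gy = PresentedGroup.of .y ∧
      σ gz = PresentedGroup.of .z ∧ σ gt = PresentedGroup.of .t ∧ gy ^ 11 = 1 ∧
      ∀ gw : Γ, ∀ b ∈ exC, evc (mkg gx gy gz gt gw) dec b = 1 := by
  choose l hl using fun k : Gen => hσ.1 (PresentedGroup.of k)
  have hcen := hσ.2.1
  -- the relations in the quotient
  have hX23 : (PresentedGroup.of Gen.x : PresentedGroup R) ^ 23 = 1 := by
    rw [← evc_x23]
    exact rel_one _ (hR _ (by decide))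
  have hY11 : (PresentedGroup.of Gen.y : PresentedGroup R) ^ 11 = 1 := by
    rw [← evc_y11]
    exact rel_one _ (hR _ (by decide))
  have hZ5 : (PresentedGroup.of Gen.z : PresentedGroup R) ^ 5 = 1 := by
    rw [← evc_z5]
    exact rel_one _ (hR _ (by decide))
  have hYZ := rel_one (R := R) [2, 2, 2, 5, 3, 4] (hR _ (by decide))
  rw [evc_yz] at hYZ
  have hXY := rel_one (R := R) [0, 0, 3, 1, 2] (hR _ (by decide))
  rw [evc_xy] at hXY
  have hT := rel_one (R := R) [0, 0, 4, 2, 0, 4, 1, 3, 5, 1, 1, 7] (hR _ (by decide))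
  rw [evc_t] at hT
  -- the lifts
  obtain ⟨gx, hgxdef⟩ : ∃ gx, gx = (l .x) ^ 24 := ⟨_, rfl⟩
  obtain ⟨gy, hgydef⟩ : ∃ gy, gy = (l .y) ^ 12 := ⟨_, rfl⟩
  obtain ⟨gz, hgzdef⟩ : ∃ gz, gz = (l .z) ^ 6 := ⟨_, rfl⟩
  have hgx : σ gx = PresentedGroup.of Gen.x := by
    rw [hgxdef, Schur.map_pow_lift σ (l .x) 23 24 (by rw [hl]; exact hX23) (by norm_num), hl]
  have hgy : σ gy = PresentedGroup.of Gen.y := by
    rw [hgydef, Schur.map_pow_lift σ (l .y) 11 12 (by rw [hl]; exact hY11) (by norm_num), hl]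
  have hgz : σ gz = PresentedGroup.of Gen.z := by
    rw [hgzdef, Schur.map_pow_lift σ (l .z) 5 6 (by rw [hl]; exact hZ5) (by norm_num), hl]
  have hgx23 : gx ^ 23 = 1 := by
    rw [hgxdef]
    exact Schur.pow_lift_eq_one σ 6 hexp (l .x) 23 24 (by rw [hl]; exact hX23) (by norm_num)
  have hgy11 : gy ^ 11 = 1 := by
    rw [hgydef]
    exact Schur.pow_lift_eq_one σ 6 hexp (l .y) 11 12 (by rw [hl]; exact hY11) (by norm_num)
  have hgz5 : gz ^ 5 = 1 := by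
    rw [hgzdef]
    exact Schur.pow_lift_eq_one σ 6 hexp (l .z) 5 6 (by rw [hl]; exact hZ5) (by norm_num)
  obtain ⟨gt, hgtdef⟩ : ∃ gt, gt = gx⁻¹ * gx⁻¹ * gz⁻¹ * gy⁻¹ * gx⁻¹ * gz * gx * gy * gz * gx * gx :=
    ⟨_, rfl⟩
  have hgt : σ gt = PresentedGroup.of Gen.t := by
    rw [hgtdef]
    simp only [map_mul, map_inv, hgx, hgy, hgz]
    have h2 : (PresentedGroup.of Gen.t : PresentedGroup R)⁻¹ *
        ((PresentedGroup.of Gen.x)⁻¹ * (PresentedGroup.of Gen.x)⁻¹ * (PresentedGroup.of Gen.z)⁻¹ *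
          (PresentedGroup.of Gen.y)⁻¹ * (PresentedGroup.of Gen.x)⁻¹ * PresentedGroup.of Gen.z *
          PresentedGroup.of Gen.x * PresentedGroup.of Gen.y * PresentedGroup.of Gen.z *
          PresentedGroup.of Gen.x * PresentedGroup.of Gen.x) = 1 := by
      rw [← hT]
      group
    exact (inv_mul_eq_one.mp h2).symm
  have hgt5 : gt ^ 5 = 1 := by
    have h1 : gt = (gx * gy * gz * gx * gx)⁻¹ * gz * ((gx * gy * gz * gx * gx)⁻¹)⁻¹ := by
      rw [hgtdef]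
      simp only [mul_inv_rev, inv_inv, mul_assoc]
    rw [h1, conj_pow, hgz5]
    group
  -- the conjugation relators
  have hyz : gz * gy⁻¹ * gz⁻¹ * (gy * gy * gy) = 1 := by
    apply Schur.mul_eq_one_of_orders σ hcen 6 hexp _ _ 11 (by norm_num)
    · rw [conj_pow, inv_pow, hgy11]
      group
    · have h1 : gy * gy * gy = gy ^ 3 := (pow_three' gy).symm
      rw [h1, ← pow_mul, mul_comm, pow_mul, hgy11, one_pow]
    · simp only [map_mul, map_inv, hgy, hgz]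
      rw [← hYZ]
      group
  have hxy : gy * gx⁻¹ * gy⁻¹ * (gx * gx) = 1 := by
    apply Schur.mul_eq_one_of_orders σ hcen 6 hexp _ _ 23 (by norm_num)
    · rw [conj_pow, inv_pow, hgx23]
      group
    · have h1 : gx * gx = gx ^ 2 := (pow_two gx).symm
      rw [h1, ← pow_mul, mul_comm, pow_mul, hgx23, one_pow]
    · simp only [map_mul, map_inv, hgx, hgy]
      rw [← hXY]
      group
  refine ⟨gx, gy, gz, gt, hgx, hgy, hgz, hgt, hgy11, ?_⟩
  intro gw b hb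
  simp only [exC, List.mem_cons, List.not_mem_nil, or_false] at hb
  rcases hb with rfl | rfl | rfl | rfl | rfl | rfl | rfl
  · rw [evc_y11]
    exact hgy11
  · rw [evc_z5]
    exact hgz5
  · rw [evc_yz]
    show 1 * gz * gy⁻¹ * gz⁻¹ * gy * gy * gy = 1
    rw [one_mul, ← hyz]
    simp only [mul_assoc]
  · rw [evc_t5]
    exact hgt5
  · rw [evc_x23]
    exact hgx23
  · rw [evc_xy]
    show 1 * gy * gx⁻¹ * gy⁻¹ * gx * gx = 1
    rw [one_mul, ← hxy]
    simp only [mul_assoc]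
  · rw [evc_t]
    show 1 * gt⁻¹ * gx⁻¹ * gx⁻¹ * gz⁻¹ * gy⁻¹ * gx⁻¹ * gz * gx * gy * gz * gx * gx = 1
    rw [hgtdef]
    group

end Lifts

theorem card_le23 {Γ : Type*} [Group Γ] [Finite Γ] (σ : Γ →* P23) (hσ : IsStemExtension σ)
    (hexp : ∀ z ∈ σ.ker, z ^ 6 = 1) : Nat.card Γ ≤ 10200960 := by
  have hR : ∀ b ∈ M24SD.exL3 ++ M24SD.ceL3, wordF dec b ∈ R23 := fun b hb => mem_relSet _ b hb
  obtain ⟨gx, gy, gz, gt, hgx, hgy, hgz, hgt, hgy11, hC⟩ := exists_lifts σ hσ hexp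
    (fun b hb => hR b (List.mem_append_left _ (by rw [exL3_eq]; exact List.mem_append_left _ hb)))
  have hW1 : (PresentedGroup.of Gen.w : P23) = 1 := by
    rw [← evc_w1 (PresentedGroup.of (rels := R23))]
    exact rel_one _ (hR _ (by decide))
  have hg : ∀ k, σ (mkg gx gy gz gt 1 k) = PresentedGroup.of k := by
    intro k
    cases k
    · exact hgx
    · exact hgy
    · exact hgz
    · exact hgt
    · show σ 1 = _
      rw [map_one, hW1]
  have hex : ∀ b ∈ M24SD.exL3, evc (mkg gx gy gz gt 1) dec b = 1 := by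
    intro b hb
    rw [exL3_eq] at hb
    rcases List.mem_append.mp hb with h | h
    · exact hC 1 b h
    · simp only [List.mem_cons, List.not_mem_nil, or_false] at h
      subst h
      rw [evc_w1]
      rfl
  have hW := M24SD.card3
  rw [M24SD.hb3] at hW
  exact Schur.card_le_of_weak1 M24WCod.coding σ hσ 6 hexp (mkg gx gy gz gt 1) hg M24SD.exL3
    M24SD.ceL3 M24SD.g4 hex (fun ρ hρ => hR ρ (List.mem_append_right _ hρ)) 10200960 hW

theorem card_le24 {Γ : Type*} [Group Γ] [Finite Γ] (σ : Γ →* P24) (hσ : IsStemExtension σ)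
    (hexp : ∀ z ∈ σ.ker, z ^ 6 = 1) : Nat.card Γ ≤ 244823040 := by
  have hR : ∀ b ∈ M24SD.exL4 ++ M24SD.ceL4, wordF dec b ∈ R24 := fun b hb => mem_relSet _ b hb
  obtain ⟨gx, gy, gz, gt, hgx, hgy, hgz, hgt, hgy11, hC⟩ := exists_lifts σ hσ hexp
    (fun b hb => hR b (List.mem_append_left _ (by rw [exL4_eq]; exact List.mem_append_left _ hb)))
  have hcen := hσ.2.1
  obtain ⟨lw, hlw⟩ := hσ.1 (PresentedGroup.of Gen.w)
  have hW23 : (PresentedGroup.of Gen.w : P24) ^ 23 = 1 := by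
    rw [← evc_w23]
    exact rel_one _ (hR _ (by decide))
  have hYW := rel_one (R := R24) [2, 8, 3, 9, 9] (hR _ (by decide))
  rw [evc_yw] at hYW
  obtain ⟨gw, hgwdef⟩ : ∃ gw, gw = lw ^ 24 := ⟨_, rfl⟩
  have hgw : σ gw = PresentedGroup.of Gen.w := by
    rw [hgwdef, Schur.map_pow_lift σ lw 23 24 (by rw [hlw]; exact hW23) (by norm_num), hlw]
  have hgw23 : gw ^ 23 = 1 := by
    rw [hgwdef]
    exact Schur.pow_lift_eq_one σ 6 hexp lw 23 24 (by rw [hlw]; exact hW23) (by norm_num)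
  have hyw : gw⁻¹ * gw⁻¹ * (gy⁻¹ * gw * gy) = 1 := by
    apply Schur.mul_eq_one_of_orders σ hcen 6 hexp _ _ 23 (by norm_num)
    · have h1 : gw⁻¹ * gw⁻¹ = (gw⁻¹) ^ 2 := (pow_two gw⁻¹).symm
      rw [h1, ← pow_mul, mul_comm, pow_mul, inv_pow, hgw23, inv_one, one_pow]
    · have h1 : gy⁻¹ * gw * gy = gy⁻¹ * gw * (gy⁻¹)⁻¹ := by group
      rw [h1, conj_pow, hgw23]
      group
    · simp only [map_mul, map_inv, hgy, hgw]
      rw [← hYW]
      group
  have hg : ∀ k, σ (mkg gx gy gz gt gw k) = PresentedGroup.of k := by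
    intro k
    cases k
    · exact hgx
    · exact hgy
    · exact hgz
    · exact hgt
    · exact hgw
  have hex : ∀ b ∈ M24SD.exL4, evc (mkg gx gy gz gt gw) dec b = 1 := by
    intro b hb
    rw [exL4_eq] at hb
    rcases List.mem_append.mp hb with h | h
    · exact hC gw b h
    · simp only [List.mem_cons, List.not_mem_nil, or_false] at h
      rcases h with rfl | rfl
      · rw [evc_w23]
        exact hgw23
      · rw [evc_yw]
        show 1 * gw⁻¹ * gw⁻¹ * gy⁻¹ * gw * gy = 1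
        rw [one_mul, ← hyw]
        simp only [mul_assoc]
  have hW := M24SD.card4
  rw [M24SD.hb4] at hW
  exact Schur.card_le_of_weak1 M24WCod.coding σ hσ 6 hexp (mkg gx gy gz gt gw) hg M24SD.exL4
    M24SD.ceL4 M24SD.g5 hex (fun ρ hρ => hR ρ (List.mem_append_right _ hρ)) 244823040 hW

end Cfsg.Agent.Helper4.TC.M24Schur
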