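import Cfsg.Agent.Lib.Helper4.TC.M24Schur

set_option autoImplicit false
set_option maxRecDepth 100000
set_option linter.unusedVariables false
set_option linter.style.haveILetI false

/-! The Schur multipliers of the Mathieu groups `M₂₄` and `M₂₃` are trivial. -/

namespace Cfsg.Agent.Helper4.TC.M24SchurMain

open Cfsg Cfsg.Agent.Helper4.TC Cfsg.Agent.Helper4.TC.M24Perm

theorem exp_six {Γ : Type*} [Group Γ] (K : Subgroup Γ) (r : ℕ) (h23 : r = 2 ∨ r = 3)
    (h : ∀ z ∈ K, z ^ r = 1) : ∀ z ∈ K, z ^ 6 = 1 := by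
  intro z hz
  rcases h23 with rfl | rfl
  · rw [show 6 = 2 * 3 from rfl, pow_mul, h z hz, one_pow]
  · rw [show 6 = 3 * 2 from rfl, pow_mul, h z hz, one_pow]

theorem small_primes : ∀ r < 95, r.Prime → r ^ 2 ∣ 8855 → False := by decide +kernel

theorem two_or_three (N a b : ℕ) (hN : N = 2 ^ a * 3 ^ b * 8855) (r : ℕ) (hr : r.Prime)
    (hf : 1 < N.factorization r) : r = 2 ∨ r = 3 := by
  have hN0 : N ≠ 0 := by
    rw [hN]
    positivity
  have hd : r ^ 2 ∣ N := (hr.pow_dvd_iff_le_factorization hN0).mpr hf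
  by_contra hne
  push Not at hne
  have hc2 : Nat.Coprime r 2 := (Nat.coprime_primes hr Nat.prime_two).mpr hne.1
  have hc3 : Nat.Coprime r 3 := (Nat.coprime_primes hr Nat.prime_three).mpr hne.2
  have hc : Nat.Coprime (r ^ 2) (2 ^ a * 3 ^ b) :=
    Nat.Coprime.pow_left 2 (Nat.Coprime.mul_right (hc2.pow_right a) (hc3.pow_right b))
  rw [hN] at hd
  have hd2 : r ^ 2 ∣ 8855 := hc.dvd_of_dvd_mul_left hd
  have hle : r ^ 2 ≤ 8855 := Nat.le_of_dvd (by norm_num) hd2
  have hr95 : r < 95 := by nlinarith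
  exact small_primes r hr95 hr hd2

theorem ker_trivial_of_card_le {P : Type} [Group P] [Finite P] (N : ℕ) (hN : Nat.card P = N)
    (hN0 : 0 < N) {Γ : Type} [Group Γ] [Finite Γ] (σ : Γ →* P) (hσ : IsStemExtension σ)
    (hle : Nat.card Γ ≤ N) : ∀ z ∈ σ.ker, z = 1 := by
  have h1 : Nat.card σ.ker * N = Nat.card Γ := by
    rw [← Subgroup.card_mul_index σ.ker, Subgroup.index_ker, MonoidHom.range_eq_top.mpr hσ.1,
      Subgroup.card_top, hN]
  have hpos : 0 < Nat.card σ.ker := Nat.card_pos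
  have h2 : Nat.card σ.ker = 1 := by nlinarith
  intro z hz
  have h3 := Subgroup.card_eq_one.mp h2
  rw [h3, Subgroup.mem_bot] at hz
  exact hz

theorem ker_eq_bot24 {Γ : Type} [Group Γ] [Finite Γ] (σ : Γ →* P24) (hσ : IsStemExtension σ) :
    σ.ker = ⊥ := by
  refine Schur.ker_eq_bot_of_prime_cases ?_ σ hσ
  intro r hr hf Γ' _ _ σ' hσ' hexp'
  have h23 := two_or_three (Nat.card P24) 10 3 (by rw [card_P24]; norm_num) r hr hf
  have hexp6 := exp_six σ'.ker r h23 hexp'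
  exact ker_trivial_of_card_le 244823040 card_P24 (by norm_num) σ' hσ'
    (M24Schur.card_le24 σ' hσ' hexp6)

theorem ker_eq_bot23 {Γ : Type} [Group Γ] [Finite Γ] (σ : Γ →* P23) (hσ : IsStemExtension σ) :
    σ.ker = ⊥ := by
  refine Schur.ker_eq_bot_of_prime_cases ?_ σ hσ
  intro r hr hf Γ' _ _ σ' hσ' hexp'
  have h23 := two_or_three (Nat.card P23) 7 2 (by rw [card_P23]; norm_num) r hr hf
  have hexp6 := exp_six σ'.ker r h23 hexp'
  exact ker_trivial_of_card_le 10200960 card_P23 (by norm_num) σ' hσ'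
    (M24Schur.card_le23 σ' hσ' hexp6)

theorem main24 : Cfsg.HasCyclicSchurMultiplier ↥Cfsg.M24 1 := by
  obtain ⟨e⟩ := iso24
  exact Schur.hasCyclicSchurMultiplier_one_of_iso e.symm fun Γ _ _ σ hσ => ker_eq_bot24 σ hσ

theorem main23 : Cfsg.HasCyclicSchurMultiplier ↥Cfsg.Spor.M23 1 := by
  obtain ⟨e⟩ := iso23
  exact Schur.hasCyclicSchurMultiplier_one_of_iso e.symm fun Γ _ _ σ hσ => ker_eq_bot23 σ hσ

end Cfsg.Agent.Helper4.TC.M24SchurMain
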