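import Cfsg.Agent.Lib.Helper4.CoOrbitCount
import Cfsg.Agent.Lib.Helper4.TC.Perm

set_option autoImplicit false
set_option linter.unusedVariables false
set_option linter.unusedSectionVars false
set_option linter.style.haveILetI false

/-! Homomorphisms from presented groups into the automorphism group of the rank-24 lattice,
given by explicit involutive matrices whose relators act trivially on a generating set of the
lattice. -/

namespace Cfsg.Agent.Helper4.CO

open Cfsg Cfsg.Agent.Helper4.TC Cfsg.Agent.Lib.Helper4

/-- the vectors `8 e_a` -/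
def basisL : List (List ℤ) := (List.range 24).map fun a => sgl a 8

set_option maxRecDepth 1000000 in
theorem basisL_in : ∀ l ∈ basisL, InLP l := by decide +kernel

theorem basisL_length : ∀ l ∈ basisL, l.length = 24 := by decide +kernel

theorem sgl_mem_basisL (a : Fin 24) : sgl a.val 8 ∈ basisL :=
  List.mem_map.mpr ⟨a.val, List.mem_range.mpr a.isLt, rfl⟩

theorem dotInt_sgl (a : Fin 24) (y : GolayPt → ℤ) : dotInt (toV (sgl a.val 8)) y = 8 * y (pt a) := by
  unfold dotInt
  rw [sum_pt, Finset.sum_eq_single a]
  · rw [toV_pt, getD_sgl a.val 8 a.val a.isLt, if_pos rfl]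
  · intro b _ hb
    rw [toV_pt, getD_sgl a.val 8 b.val b.isLt, if_neg (fun h => hb (Fin.ext h)), zero_mul]
  · intro h; exact absurd (Finset.mem_univ _) h

/-- an automorphism fixing the vectors `8 e_a` is trivial -/
theorem eq_one_of_fix_gens (g : Co0)
    (h : ∀ l ∈ basisL, ∀ v : leechLattice, (v : GolayPt → ℤ) = toV l → g • v = v) : g = 1 := by
  apply Subtype.ext
  apply Equiv.ext
  intro v
  show g • v = v
  apply Subtype.ext
  apply ext_pt
  intro a
  have hin := basisL_in _ (sgl_mem_basisL a)
  have hfix : g • mkL (sgl a.val 8) hin = mkL (sgl a.val 8) hin := h _ (sgl_mem_basisL a) _ rfl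
  have h1 := co0_dot' g (mkL (sgl a.val 8) hin) v
  rw [hfix, mkL_coe, dotInt_sgl, dotInt_sgl] at h1
  omega

section Hom

variable {α : Type} (D : α → List (List ℤ)) (hgood : ∀ x, GoodMat (D x))

/-- the automorphism of a generator -/
noncomputable def coOf (x : α) : Co0 := matCo0 (D x) (hgood x)

/-- the action of a word on lists, the first letter acting first -/
def runW : List (Letter α) → List ℤ → List ℤ
  | [], l => l
  | c :: cs, l => runW cs (actL (D c.1) l)

theorem coOf_smul (x : α) (l : List ℤ) (hl : l.length = 24) (v : leechLattice)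
    (hv : (v : GolayPt → ℤ) = toV l) :
    ((coOf D hgood x • v : leechLattice) : GolayPt → ℤ) = toV (actL (D x) l) := by
  unfold coOf
  rw [matCo0_smul, hv, ← toV_actL (hgood x).1 l hl]

include hgood in
theorem actL_len (x : α) (l : List ℤ) : (actL (D x) l).length = 24 := by
  rw [actL_length]; exact (hgood x).1.1

variable (hinv : ∀ x, ∀ l ∈ basisL, actL (D x) (actL (D x) l) = l)

include hinv in
theorem coOf_mul_self (x : α) : coOf D hgood x * coOf D hgood x = 1 := by
  apply eq_one_of_fix_gens
  intro l hl v hv
  apply Subtype.ext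
  rw [mul_smul, coOf_smul D hgood x (actL (D x) l) (actL_len D hgood x l) _
    (coOf_smul D hgood x l (basisL_length l hl) v hv), hinv x l hl, hv]

include hinv in
theorem coOf_inv (x : α) : (coOf D hgood x)⁻¹ = coOf D hgood x :=
  inv_eq_of_mul_eq_one_left (coOf_mul_self D hgood hinv x)

include hinv in
theorem gl_coOf (c : Letter α) : gl (coOf D hgood) c = coOf D hgood c.1 := by
  unfold gl
  split_ifs
  · rfl
  · exact coOf_inv D hgood hinv c.1

include hinv in
theorem ev_smul : ∀ (cs : List (Letter α)) (l : List ℤ), l.length = 24 → ∀ v : leechLattice,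
    (v : GolayPt → ℤ) = toV l →
    ((ev (coOf D hgood) cs • v : leechLattice) : GolayPt → ℤ) = toV (runW D cs l) := by
  intro cs
  induction cs with
  | nil =>
    intro l _ v hv
    show ((1 : Co0) • v : leechLattice).1 = toV l
    rw [one_smul]; exact hv
  | cons c cs ih =>
    intro l hl v hv
    show (((ev (coOf D hgood) cs * gl (coOf D hgood) c) • v : leechLattice) : GolayPt → ℤ) =
      toV (runW D cs (actL (D c.1) l))
    rw [mul_smul, gl_coOf D hgood hinv c]
    exact ih (actL (D c.1) l) (actL_len D hgood c.1 l) _ (coOf_smul D hgood c.1 l hl v hv)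

include hinv in
/-- the homomorphism to the automorphism group of the lattice -/
theorem exists_hom_co0 (Rs : Set (FreeGroup α)) (dec : ℕ → Letter α) (bases : List (List ℕ))
    (hR1 : ∀ r ∈ Rs, ∃ b ∈ bases, r = wordF dec b)
    (hchk : ∀ b ∈ bases, ∀ l ∈ basisL, runW D (b.map dec) l = l) :
    ∃ φ : PresentedGroup Rs →* Co0, ∀ x, φ (PresentedGroup.of x) = coOf D hgood x := by
  have hf : ∀ r ∈ Rs, FreeGroup.lift (coOf D hgood) r = 1 := by
    intro r hr
    obtain ⟨b, hb, rfl⟩ := hR1 r hr
    rw [lift_wordF]
    apply eq_one_of_fix_gens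
    intro l hl v hv
    apply Subtype.ext
    unfold evc
    rw [ev_smul D hgood hinv (b.map dec) l (basisL_length l hl) v hv, hchk b hb l hl, hv]
  exact ⟨PresentedGroup.toGroup hf, fun x => PresentedGroup.toGroup.of hf⟩

end Hom

end Cfsg.Agent.Helper4.CO
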