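import Cfsg.Agent.Lib.Helper4.TC.MatCo0
import Cfsg.Agent.Lib.Helper4.CoXi

set_option autoImplicit false
set_option linter.unusedVariables false
set_option linter.unusedSectionVars false
set_option linter.style.haveILetI false

/-! Homomorphisms from presented groups into the automorphism group of the rank-24 lattice, the
generators being given as products of signed permutations and of sparse matrices. -/

namespace Cfsg.Agent.Helper4.CO

open Cfsg Cfsg.Agent.Helper4.TC Cfsg.Agent.Lib.Helper4

/-- the nonzero entries of a row, with their positions -/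
def spRowFrom : ℕ → List ℤ → List (ℕ × ℤ)
  | _, [] => []
  | k, a :: r => if a = 0 then spRowFrom (k + 1) r else (k, a) :: spRowFrom (k + 1) r

/-- the product of a sparse row and a vector -/
def spDot : List (ℕ × ℤ) → List ℤ → ℤ
  | [], _ => 0
  | p :: t, x => p.2 * x.getD p.1 0 + spDot t x

theorem spDot_spRowFrom : ∀ (r pre x : List ℤ), r.length = x.length →
    spDot (spRowFrom pre.length r) (pre ++ x) = dotL r x := by
  intro r
  induction r with
  | nil => intro pre x _; rfl
  | cons a r ih =>
    intro pre x hx
    cases x with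
    | nil => simp at hx
    | cons b x =>
      have hx' : r.length = x.length := by simpa using hx
      have e : pre ++ b :: x = (pre ++ [b]) ++ x := by simp
      have hlen : (pre ++ [b]).length = pre.length + 1 := by simp
      have h1 := ih (pre ++ [b]) x hx'
      rw [hlen, ← e] at h1
      show spDot (if a = 0 then spRowFrom (pre.length + 1) r
        else (pre.length, a) :: spRowFrom (pre.length + 1) r) (pre ++ b :: x) = a * b + dotL r x
      by_cases ha : a = 0
      · rw [if_pos ha, h1, ha, zero_mul, zero_add]
      · rw [if_neg ha]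
        show a * (pre ++ b :: x).getD pre.length 0 + spDot (spRowFrom (pre.length + 1) r)
          (pre ++ b :: x) = a * b + dotL r x
        rw [h1]
        congr 2
        simp

/-- the action of a sparse matrix -/
def spAct (S : List (List (ℕ × ℤ))) (x : List ℤ) : List ℤ := S.map fun s => spDot s x / 2

theorem spAct_eq (A : List (List ℤ)) (x : List ℤ) (hA : ∀ r ∈ A, r.length = x.length) :
    spAct (A.map (spRowFrom 0)) x = actL A x := by
  unfold spAct actL mulVecL
  rw [List.map_map, List.map_map]
  apply List.map_congr_left
  intro r hr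
  show spDot (spRowFrom 0 r) x / 2 = dotL r x / 2
  have h := spDot_spRowFrom r [] x (hA r hr)
  simp only [List.length_nil, List.nil_append] at h
  rw [h]

/-- a step: a matrix together with its sparse form, or a signed permutation -/
inductive Step : Type
  | sp : List (List ℤ) → List (List (ℕ × ℤ)) → Step
  | mono : List ℕ → List ℤ → Step

/-- the matrix of a step -/
def Step.mat : Step → List (List ℤ)
  | .sp A _ => A
  | .mono p s => monoMat p s

/-- the fast action of a step -/
def Step.act : Step → List ℤ → List ℤ
  | .sp _ S, x => spAct S x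
  | .mono p s, x => monoAct p s x

/-- the data of a step are coherent -/
def Step.OK : Step → Prop
  | .sp A S => S = A.map (spRowFrom 0) ∧ GoodMat A
  | .mono p s => GoodMat (monoMat p s)

instance (st : Step) : Decidable st.OK := by
  cases st <;> unfold Step.OK <;> infer_instance

theorem Step.good (st : Step) (h : st.OK) : GoodMat st.mat := by
  cases st with
  | sp A S => exact h.2
  | mono p s => exact h

theorem Step.act_eq (st : Step) (h : st.OK) (x : List ℤ) (hx : x.length = 24) :
    st.act x = actL st.mat x := by
  cases st with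
  | sp A S =>
    show spAct S x = actL A x
    rw [h.1]
    apply spAct_eq
    intro r hr
    rw [hx]
    exact h.2.1.2 r hr
  | mono p s => exact monoAct_eq p s x hx

/-- the action of a product of steps -/
def stepsAct (W : List Step) (x : List ℤ) : List ℤ := W.foldr Step.act x

theorem stepsAct_eq : ∀ (W : List Step), (∀ st ∈ W, st.OK) → ∀ x : List ℤ, x.length = 24 →
    stepsAct W x = wordAct (W.map Step.mat) x ∧ (stepsAct W x).length = 24 := by
  intro W
  induction W with
  | nil => intro _ x hx; exact ⟨rfl, hx⟩
  | cons st W ih =>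
    intro h x hx
    obtain ⟨h1, h2⟩ := ih (fun s hs => h s (List.mem_cons_of_mem _ hs)) x hx
    have hst := h st List.mem_cons_self
    have e : stepsAct (st :: W) x = st.act (stepsAct W x) := rfl
    have e' : wordAct ((st :: W).map Step.mat) x = actL st.mat (wordAct (W.map Step.mat) x) := rfl
    rw [e, e', st.act_eq hst _ h2, h1]
    refine ⟨rfl, ?_⟩
    rw [actL_length]
    exact (st.good hst).1.1

/-- the automorphism of a product of steps -/
theorem steps_elt (W : List Step) (h : ∀ st ∈ W, st.OK) :
    ∃ g : Co0, ∀ l : List ℤ, l.length = 24 → ∀ v : leechLattice, (v : GolayPt → ℤ) = toV l →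
      ((g • v : leechLattice) : GolayPt → ℤ) = toV (stepsAct W l) := by
  obtain ⟨g, hg⟩ := word_elt (W.map Step.mat) (by
    intro A hA
    obtain ⟨st, hst, rfl⟩ := List.mem_map.mp hA
    exact st.good (h st hst))
  refine ⟨g, fun l hl v hv => ?_⟩
  rw [(stepsAct_eq W h l hl).1]
  exact (hg l hl).2 v hv

section Hom

variable {α : Type} (D Dinv : α → List Step)
  (hok : ∀ x, (∀ st ∈ D x, st.OK) ∧ ∀ st ∈ Dinv x, st.OK)

/-- the automorphism of a generator -/
noncomputable def coS (x : α) : Co0 := Classical.choose (steps_elt (D x) (hok x).1)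

/-- the automorphism of the inverse of a generator -/
noncomputable def coS' (x : α) : Co0 := Classical.choose (steps_elt (Dinv x) (hok x).2)

theorem coS_smul (x : α) (l : List ℤ) (hl : l.length = 24) (v : leechLattice)
    (hv : (v : GolayPt → ℤ) = toV l) :
    ((coS D Dinv hok x • v : leechLattice) : GolayPt → ℤ) = toV (stepsAct (D x) l) :=
  Classical.choose_spec (steps_elt (D x) (hok x).1) l hl v hv

theorem coS'_smul (x : α) (l : List ℤ) (hl : l.length = 24) (v : leechLattice)
    (hv : (v : GolayPt → ℤ) = toV l) :
    ((coS' D Dinv hok x • v : leechLattice) : GolayPt → ℤ) = toV (stepsAct (Dinv x) l) :=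
  Classical.choose_spec (steps_elt (Dinv x) (hok x).2) l hl v hv

/-- the action of a word on lists, the first letter acting first -/
def runS : List (Letter α) → List ℤ → List ℤ
  | [], l => l
  | c :: cs, l => runS cs (stepsAct (if c.2 then D c.1 else Dinv c.1) l)

variable (hinv : ∀ x, ∀ l ∈ basisL, stepsAct (D x) (stepsAct (Dinv x) l) = l)

include hinv in
theorem coS_mul_coS' (x : α) : coS D Dinv hok x * coS' D Dinv hok x = 1 := by
  apply eq_one_of_fix_gens
  intro l hl v hv
  apply Subtype.ext
  have hl24 := basisL_length l hl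
  rw [mul_smul, coS_smul D Dinv hok x (stepsAct (Dinv x) l)
    (stepsAct_eq (Dinv x) (hok x).2 l hl24).2 _ (coS'_smul D Dinv hok x l hl24 v hv), hinv x l hl, hv]

include hinv in
theorem coS_inv (x : α) : (coS D Dinv hok x)⁻¹ = coS' D Dinv hok x :=
  inv_eq_of_mul_eq_one_right (coS_mul_coS' D Dinv hok hinv x)

include hinv in
theorem gl_smul (c : Letter α) (l : List ℤ) (hl : l.length = 24) (v : leechLattice)
    (hv : (v : GolayPt → ℤ) = toV l) :
    ((gl (coS D Dinv hok) c • v : leechLattice) : GolayPt → ℤ) =
      toV (stepsAct (if c.2 then D c.1 else Dinv c.1) l) := by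
  unfold gl
  split_ifs with hc
  · exact coS_smul D Dinv hok c.1 l hl v hv
  · rw [coS_inv D Dinv hok hinv]
    exact coS'_smul D Dinv hok c.1 l hl v hv

include hinv in
theorem evS_smul : ∀ (cs : List (Letter α)) (l : List ℤ), l.length = 24 → ∀ v : leechLattice,
    (v : GolayPt → ℤ) = toV l →
    ((ev (coS D Dinv hok) cs • v : leechLattice) : GolayPt → ℤ) = toV (runS D Dinv cs l) := by
  intro cs
  induction cs with
  | nil =>
    intro l _ v hv
    show ((1 : Co0) • v : leechLattice).1 = toV l
    rw [one_smul]; exact hv
  | cons c cs ih =>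
    intro l hl v hv
    show (((ev (coS D Dinv hok) cs * gl (coS D Dinv hok) c) • v : leechLattice) : GolayPt → ℤ) =
      toV (runS D Dinv cs (stepsAct (if c.2 then D c.1 else Dinv c.1) l))
    rw [mul_smul]
    refine ih _ ?_ _ (gl_smul D Dinv hok hinv c l hl v hv)
    split_ifs
    · exact (stepsAct_eq (D c.1) (hok c.1).1 l hl).2
    · exact (stepsAct_eq (Dinv c.1) (hok c.1).2 l hl).2

include hinv in
/-- the homomorphism to the automorphism group of the lattice -/
theorem exists_hom_co0S (Rs : Set (FreeGroup α)) (dec : ℕ → Letter α) (bases : List (List ℕ))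
    (hR1 : ∀ r ∈ Rs, ∃ b ∈ bases, r = wordF dec b)
    (hchk : ∀ b ∈ bases, ∀ l ∈ basisL, runS D Dinv (b.map dec) l = l) :
    ∃ φ : PresentedGroup Rs →* Co0, ∀ x, φ (PresentedGroup.of x) = coS D Dinv hok x := by
  have hf : ∀ r ∈ Rs, FreeGroup.lift (coS D Dinv hok) r = 1 := by
    intro r hr
    obtain ⟨b, hb, rfl⟩ := hR1 r hr
    rw [lift_wordF]
    apply eq_one_of_fix_gens
    intro l hl v hv
    apply Subtype.ext
    unfold evc
    rw [evS_smul D Dinv hok hinv (b.map dec) l (basisL_length l hl) v hv, hchk b hb l hl, hv]
  exact ⟨PresentedGroup.toGroup hf, fun x => PresentedGroup.toGroup.of hf⟩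

end Hom

end Cfsg.Agent.Helper4.CO
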