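import Mathlib
import Cfsg.Agent.Lib.Helper4.TC.Perm

set_option autoImplicit false
set_option linter.unusedVariables false
set_option linter.unusedSectionVars false

/-! Square matrices as plain lists of entries, so that words in explicit matrices can be
evaluated by the kernel, with the translation to Mathlib's matrices. -/

namespace Cfsg.Agent.Helper4.TC

/-- square matrices of size `n` as lists of entries, row by row -/
structure MatD (n : ℕ) (R : Type) where
  e : List R
  deriving DecidableEq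

namespace MatD

variable {n : ℕ} {R : Type} [CommRing R]

/-- the entry in row `i` and column `j` -/
def entry (X : MatD n R) (i j : ℕ) : R := X.e.getD (i * n + j) 0

/-- the matrix with given entries -/
def ofFn (f : ℕ → ℕ → R) : MatD n R := ⟨(List.range (n * n)).map fun k => f (k / n) (k % n)⟩

theorem entry_ofFn (f : ℕ → ℕ → R) (i j : ℕ) (hi : i < n) (hj : j < n) :
    (ofFn f : MatD n R).entry i j = f i j := by
  have hk : i * n + j < n * n := by
    calc i * n + j < i * n + n := by omega
      _ = (i + 1) * n := by ring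
      _ ≤ n * n := Nat.mul_le_mul_right n hi
  have hn : 0 < n := by omega
  unfold entry ofFn
  simp only [List.getD_eq_getElem?_getD, List.getElem?_map, List.getElem?_range hk,
    Option.map_some, Option.getD_some]
  rw [Nat.mul_comm i n, Nat.mul_add_div hn, Nat.div_eq_of_lt hj, Nat.add_zero,
    Nat.mul_add_mod, Nat.mod_eq_of_lt hj]

/-- the product -/
def mul (X Y : MatD n R) : MatD n R :=
  ofFn fun i j => ((List.range n).map fun l => X.entry i l * Y.entry l j).sum

/-- the sum -/
def add (X Y : MatD n R) : MatD n R := ofFn fun i j => X.entry i j + Y.entry i j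

/-- the identity -/
def one : MatD n R := ofFn fun i j => if i = j then 1 else 0

/-- the transpose -/
def tr (X : MatD n R) : MatD n R := ofFn fun i j => X.entry j i

/-- a map applied to the entries -/
def mapE (f : R → R) (X : MatD n R) : MatD n R := ofFn fun i j => f (X.entry i j)

section ToMat

variable {κ : Type} [Fintype κ] [DecidableEq κ] (ε : κ ≃ Fin n)

/-- the matrix in Mathlib's sense, with rows and columns numbered by `ε` -/
def toMatE (X : MatD n R) : Matrix κ κ R := fun i j => X.entry (ε i) (ε j)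

theorem sum_range_map (g : ℕ → R) (m : ℕ) :
    ((List.range m).map g).sum = ∑ l : Fin m, g l := by
  rw [Fin.sum_univ_eq_sum_range (fun l => g l) m]
  induction m with
  | zero => simp
  | succ m ih =>
    rw [List.range_succ, List.map_append, List.sum_append, ih, Finset.sum_range_succ]; simp

theorem toMatE_mul (X Y : MatD n R) : (X.mul Y).toMatE ε = X.toMatE ε * Y.toMatE ε := by
  ext i j
  show (X.mul Y).entry (ε i) (ε j) = _
  unfold mul
  rw [entry_ofFn _ _ _ (ε i).2 (ε j).2, sum_range_map, Matrix.mul_apply]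
  exact (Fintype.sum_equiv ε _ _ fun l => rfl).symm

theorem toMatE_add (X Y : MatD n R) : (X.add Y).toMatE ε = X.toMatE ε + Y.toMatE ε := by
  ext i j
  show (X.add Y).entry (ε i) (ε j) = _
  unfold add
  rw [entry_ofFn _ _ _ (ε i).2 (ε j).2]
  rfl

theorem toMatE_one : (one : MatD n R).toMatE ε = 1 := by
  ext i j
  show (one : MatD n R).entry (ε i) (ε j) = _
  unfold one
  rw [entry_ofFn _ _ _ (ε i).2 (ε j).2, Matrix.one_apply]
  by_cases h : i = j
  · subst h; simp
  · have : ((ε i : Fin n) : ℕ) ≠ (ε j : Fin n) := fun h' => h (ε.injective (Fin.ext h'))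
    rw [if_neg this, if_neg h]

theorem toMatE_tr (X : MatD n R) : X.tr.toMatE ε = (X.toMatE ε).transpose := by
  ext i j
  show X.tr.entry (ε i) (ε j) = _
  unfold tr
  rw [entry_ofFn _ _ _ (ε i).2 (ε j).2]
  rfl

theorem toMatE_mapE (f : R → R) (X : MatD n R) : (X.mapE f).toMatE ε = (X.toMatE ε).map f := by
  ext i j
  show (X.mapE f).entry (ε i) (ε j) = _
  unfold mapE
  rw [entry_ofFn _ _ _ (ε i).2 (ε j).2]
  rfl

end ToMat

/-- evaluation of a word at the level of data (the first letter acts first) -/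
def evM {α : Type} (d : Letter α → MatD n R) : List (Letter α) → MatD n R
  | [] => one
  | l :: ls => (evM d ls).mul (d l)

end MatD

section Quad

variable {κ : Type} [Fintype κ] [DecidableEq κ] {R : Type} [CommRing R]

open Matrix

/-- a matrix `M` preserves the quadratic form `u ↦ u ⬝ᵥ A *ᵥ u` as soon as `Mᵀ A M` and `A`
have the same symmetrisation, when 2 is not a zero divisor -/
theorem quad_invariant (M A : Matrix κ κ R) (h2 : ∀ x : R, 2 * x = 0 → x = 0)
    (hC : Mᵀ * A * M + (Mᵀ * A * M)ᵀ = A + Aᵀ) (u : κ → R) :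
    (M *ᵥ u) ⬝ᵥ (A *ᵥ (M *ᵥ u)) = u ⬝ᵥ (A *ᵥ u) := by
  have hsym : ∀ X : Matrix κ κ R, u ⬝ᵥ (Xᵀ *ᵥ u) = u ⬝ᵥ (X *ᵥ u) := by
    intro X
    rw [Matrix.mulVec_transpose, dotProduct_comm, ← Matrix.dotProduct_mulVec]
  have h1 : (M *ᵥ u) ⬝ᵥ (A *ᵥ (M *ᵥ u)) = u ⬝ᵥ ((Mᵀ * A * M) *ᵥ u) := by
    rw [← Matrix.mulVec_mulVec, ← Matrix.mulVec_mulVec, Matrix.dotProduct_mulVec u Mᵀ,
      Matrix.vecMul_transpose]
  rw [h1]
  have h3 : u ⬝ᵥ ((Mᵀ * A * M + (Mᵀ * A * M)ᵀ) *ᵥ u) = u ⬝ᵥ ((A + Aᵀ) *ᵥ u) := by rw [hC]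
  rw [Matrix.add_mulVec, Matrix.add_mulVec, dotProduct_add, dotProduct_add, hsym, hsym] at h3
  have h4 : 2 * (u ⬝ᵥ ((Mᵀ * A * M) *ᵥ u) - u ⬝ᵥ (A *ᵥ u)) = 0 := by
    linear_combination h3
  exact sub_eq_zero.mp (h2 _ h4)

end Quad

end Cfsg.Agent.Helper4.TC
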