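import Cfsg.Agent.Lib.Helper4.TC.MatGL
import Cfsg.Prelude.Def_Classical

set_option autoImplicit false
set_option linter.unusedVariables false
set_option linter.unusedSectionVars false
set_option linter.style.haveILetI false

/-! Homomorphisms from presented groups into projective symplectic groups, given by explicit
symplectic matrices whose relators evaluate to scalar matrices. -/

namespace Cfsg.Agent.Helper4.TC

open Matrix

section SpHom

variable {m : ℕ} {R : Type} [CommRing R] {α : Type}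

/-- the symplectic form, as data -/
def spJ (m : ℕ) (R : Type) [CommRing R] : MatD (m + m) R :=
  MatD.ofFn fun i j => if i + m = j then -1 else if j + m = i then 1 else 0

/-- the numbering of the index set -/
abbrev spEps (m : ℕ) : Fin m ⊕ Fin m ≃ Fin (m + m) := finSumFinEquiv

theorem toMatE_spJ : (spJ m R).toMatE (spEps m) = Matrix.J (Fin m) R := by
  ext i j
  show (spJ m R).entry (spEps m i) (spEps m j) = _
  unfold spJ
  rw [MatD.entry_ofFn _ _ _ (spEps m i).2 (spEps m j).2]
  rcases i with i | i <;> rcases j with j | j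
  · have e1 : ((spEps m (Sum.inl i) : Fin (m + m)) : ℕ) = i := rfl
    have e2 : ((spEps m (Sum.inl j) : Fin (m + m)) : ℕ) = j := rfl
    rw [e1, e2]
    have h1 : ¬ ((i : ℕ) + m = j) := by have := j.2; omega
    have h2 : ¬ ((j : ℕ) + m = i) := by have := i.2; omega
    rw [if_neg h1, if_neg h2]
    simp [Matrix.J]
  · have e1 : ((spEps m (Sum.inl i) : Fin (m + m)) : ℕ) = i := rfl
    have e2 : ((spEps m (Sum.inr j) : Fin (m + m)) : ℕ) = m + j := rfl
    rw [e1, e2]
    by_cases h : i = j
    · subst h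
      rw [if_pos (by omega)]
      simp [Matrix.J]
    · have h1 : ¬ ((i : ℕ) + m = m + j) := fun h' => h (Fin.ext (by omega))
      have h2 : ¬ (m + (j : ℕ) + m = i) := by have := i.2; omega
      rw [if_neg h1, if_neg h2]
      simp [Matrix.J, h]
  · have e1 : ((spEps m (Sum.inr i) : Fin (m + m)) : ℕ) = m + i := rfl
    have e2 : ((spEps m (Sum.inl j) : Fin (m + m)) : ℕ) = j := rfl
    rw [e1, e2]
    have h1 : ¬ (m + (i : ℕ) + m = j) := by have := j.2; omega
    rw [if_neg h1]
    by_cases h : i = j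
    · subst h
      rw [if_pos (by omega)]
      simp [Matrix.J]
    · have h2 : ¬ ((j : ℕ) + m = m + i) := fun h' => h (Fin.ext (by omega))
      rw [if_neg h2]
      simp [Matrix.J, h]
  · have e1 : ((spEps m (Sum.inr i) : Fin (m + m)) : ℕ) = m + i := rfl
    have e2 : ((spEps m (Sum.inr j) : Fin (m + m)) : ℕ) = m + j := rfl
    rw [e1, e2]
    have h1 : ¬ (m + (i : ℕ) + m = m + j) := by have := j.2; omega
    have h2 : ¬ (m + (j : ℕ) + m = m + i) := by have := i.2; omega
    rw [if_neg h1, if_neg h2]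
    simp [Matrix.J]

variable (D D' : α → MatD (m + m) R)
  (hsymp : ∀ x, ((D x).mul (spJ m R)).mul (D x).tr = spJ m R)
  (hinv : ∀ x, (D x).mul (D' x) = MatD.one)

/-- the symplectic matrix of a generator -/
def spOfD (x : α) : ↥(Matrix.symplecticGroup (Fin m) R) :=
  ⟨(D x).toMatE (spEps m), by
    rw [SymplecticGroup.mem_iff, ← toMatE_spJ, ← MatD.toMatE_tr, ← MatD.toMatE_mul,
      ← MatD.toMatE_mul, hsymp x]⟩

include hinv in
theorem coe_gl_sp (l : Letter α) :
    ((gl (spOfD D hsymp) l : ↥(Matrix.symplecticGroup (Fin m) R)) :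
      Matrix (Fin m ⊕ Fin m) (Fin m ⊕ Fin m) R) = (dlM D D' l).toMatE (spEps m) := by
  rcases l with ⟨x, s⟩
  cases s
  · show (((spOfD D hsymp x)⁻¹ : ↥(Matrix.symplecticGroup (Fin m) R)) :
      Matrix (Fin m ⊕ Fin m) (Fin m ⊕ Fin m) R) = (D' x).toMatE (spEps m)
    rw [SymplecticGroup.coe_inv']
    apply Matrix.inv_eq_right_inv
    show (D x).toMatE (spEps m) * (D' x).toMatE (spEps m) = 1
    rw [← MatD.toMatE_mul, hinv, MatD.toMatE_one]
  · rfl

include hinv in
theorem coe_ev_sp (ls : List (Letter α)) :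
    ((ev (spOfD D hsymp) ls : ↥(Matrix.symplecticGroup (Fin m) R)) :
      Matrix (Fin m ⊕ Fin m) (Fin m ⊕ Fin m) R) =
      (MatD.evM (dlM D D') ls).toMatE (spEps m) := by
  induction ls with
  | nil => exact (MatD.toMatE_one _).symm
  | cons l ls ih =>
    show ((ev (spOfD D hsymp) ls * gl (spOfD D hsymp) l : ↥(Matrix.symplecticGroup (Fin m) R)) :
      Matrix (Fin m ⊕ Fin m) (Fin m ⊕ Fin m) R) =
        ((MatD.evM (dlM D D') ls).mul (dlM D D' l)).toMatE (spEps m)
    rw [MatD.toMatE_mul, ← ih, ← coe_gl_sp D D' hsymp hinv l]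
    rfl

/-- the scalar matrix, as data -/
def scalDR (n : ℕ) (c : R) : MatD n R := MatD.ofFn fun i j => if i = j then c else 0

theorem toMatE_scalDR {n : ℕ} {κ : Type} [Fintype κ] [DecidableEq κ] (ε : κ ≃ Fin n) (c : R) :
    (scalDR n c).toMatE ε = c • (1 : Matrix κ κ R) := by
  ext i j
  show (scalDR n c).entry (ε i) (ε j) = _
  unfold scalDR
  rw [MatD.entry_ofFn _ _ _ (ε i).2 (ε j).2, Matrix.smul_apply, Matrix.one_apply]
  by_cases h : i = j
  · subst h; simp
  · have : ((ε i : Fin n) : ℕ) ≠ (ε j : Fin n) := fun h' => h (ε.injective (Fin.ext h'))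
    rw [if_neg this, if_neg h, smul_zero]

theorem mem_center_sp_of_scalar (g : ↥(Matrix.symplecticGroup (Fin m) R)) (c : R)
    (h : (g : Matrix (Fin m ⊕ Fin m) (Fin m ⊕ Fin m) R) = c • 1) :
    g ∈ Subgroup.center ↥(Matrix.symplecticGroup (Fin m) R) := by
  rw [Subgroup.mem_center_iff]
  intro k
  apply Subtype.ext
  show (k : Matrix (Fin m ⊕ Fin m) (Fin m ⊕ Fin m) R) * g = g * k
  rw [h, Matrix.smul_mul, Matrix.mul_smul, Matrix.one_mul, Matrix.mul_one]

include hinv in
theorem ev_sp_mem_center [DecidableEq R] (ls : List (Letter α))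
    (h : decide (MatD.evM (dlM D D') ls = scalDR (m + m) ((MatD.evM (dlM D D') ls).entry 0 0)) = true) :
    ev (spOfD D hsymp) ls ∈ Subgroup.center ↥(Matrix.symplecticGroup (Fin m) R) := by
  refine mem_center_sp_of_scalar _ ((MatD.evM (dlM D D') ls).entry 0 0) ?_
  rw [coe_ev_sp D D' hsymp hinv, ← toMatE_scalDR]
  exact congrArg _ (of_decide_eq_true h)

include hinv in
/-- the homomorphism to the projective symplectic group -/
theorem exists_hom_psp [DecidableEq R] (Rs : Set (FreeGroup α)) (dec : ℕ → Letter α)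
    (bases : List (List ℕ))
    (hR1 : ∀ r ∈ Rs, ∃ b ∈ bases, r = wordF dec b)
    (hchk : ∀ b ∈ bases, decide (MatD.evM (dlM D D') (b.map dec) =
      scalDR (m + m) ((MatD.evM (dlM D D') (b.map dec)).entry 0 0)) = true) :
    ∃ φ : PresentedGroup Rs →* (↥(Matrix.symplecticGroup (Fin m) R) ⧸
        Subgroup.center ↥(Matrix.symplecticGroup (Fin m) R)),
      ∀ x, φ (PresentedGroup.of x) = QuotientGroup.mk (spOfD D hsymp x) := by
  let f : α → (↥(Matrix.symplecticGroup (Fin m) R) ⧸
      Subgroup.center ↥(Matrix.symplecticGroup (Fin m) R)) :=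
    fun x => QuotientGroup.mk (spOfD D hsymp x)
  have hf : ∀ r ∈ Rs, FreeGroup.lift f r = 1 := by
    intro r hr
    obtain ⟨b, hb, rfl⟩ := hR1 r hr
    have h1 : FreeGroup.lift f =
        (QuotientGroup.mk' (Subgroup.center ↥(Matrix.symplecticGroup (Fin m) R))).comp
          (FreeGroup.lift (spOfD D hsymp)) := by
      ext x
      simp [f]
    rw [h1, MonoidHom.comp_apply, lift_wordF]
    exact (QuotientGroup.eq_one_iff _).mpr (ev_sp_mem_center D D' hsymp hinv _ (hchk b hb))
  exact ⟨PresentedGroup.toGroup hf, fun x => PresentedGroup.toGroup.of hf⟩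

/-- a generator is not central as soon as two of the matrices do not commute -/
theorem spOfD_not_mem_center (x y : α) (i j : Fin m ⊕ Fin m)
    (h : ((D x).mul (D y)).entry (spEps m i) (spEps m j) ≠
      ((D y).mul (D x)).entry (spEps m i) (spEps m j)) :
    spOfD D hsymp x ∉ Subgroup.center ↥(Matrix.symplecticGroup (Fin m) R) := by
  intro hc
  rw [Subgroup.mem_center_iff] at hc
  have h1 := congrArg Subtype.val (hc (spOfD D hsymp y))
  have h2 : (D y).toMatE (spEps m) * (D x).toMatE (spEps m) =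
      (D x).toMatE (spEps m) * (D y).toMatE (spEps m) := h1
  rw [← MatD.toMatE_mul, ← MatD.toMatE_mul] at h2
  exact h (congrFun (congrFun h2 i) j).symm

end SpHom

end Cfsg.Agent.Helper4.TC
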