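import Cfsg.Agent.Lib.Helper4.TC.MatSU9
import Cfsg.Agent.Lib.Helper4.TC.MatSp

set_option autoImplicit false
set_option linter.unusedVariables false
set_option linter.unusedSectionVars false
set_option linter.style.haveILetI false

/-! Homomorphisms from presented groups into the projective special unitary groups over the
field with nine elements, the relators evaluating to scalar matrices; the determinant of a
matrix with four rows. -/

namespace Cfsg.Agent.Helper4.TC

open Cfsg.Agent.Lib.Helper16.G168 Matrix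

theorem det_fin_four_h4 {R : Type*} [CommRing R] (A : Matrix (Fin 4) (Fin 4) R) :
    A.det =
      A 0 0 * (A 1 1 * A 2 2 * A 3 3 - A 1 1 * A 2 3 * A 3 2 - A 1 2 * A 2 1 * A 3 3
        + A 1 2 * A 2 3 * A 3 1 + A 1 3 * A 2 1 * A 3 2 - A 1 3 * A 2 2 * A 3 1)
      - A 0 1 * (A 1 0 * A 2 2 * A 3 3 - A 1 0 * A 2 3 * A 3 2 - A 1 2 * A 2 0 * A 3 3
        + A 1 2 * A 2 3 * A 3 0 + A 1 3 * A 2 0 * A 3 2 - A 1 3 * A 2 2 * A 3 0)
      + A 0 2 * (A 1 0 * A 2 1 * A 3 3 - A 1 0 * A 2 3 * A 3 1 - A 1 1 * A 2 0 * A 3 3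
        + A 1 1 * A 2 3 * A 3 0 + A 1 3 * A 2 0 * A 3 1 - A 1 3 * A 2 1 * A 3 0)
      - A 0 3 * (A 1 0 * A 2 1 * A 3 2 - A 1 0 * A 2 2 * A 3 1 - A 1 1 * A 2 0 * A 3 2
        + A 1 1 * A 2 2 * A 3 0 + A 1 2 * A 2 0 * A 3 1 - A 1 2 * A 2 1 * A 3 0) := by
  rw [Matrix.det_succ_row_zero]
  simp only [Fin.sum_univ_four, Matrix.det_fin_three, Matrix.submatrix_apply]
  have e0 : (Fin.succAbove (0 : Fin 4)) = ![1, 2, 3] := by decide
  have e1 : (Fin.succAbove (1 : Fin 4)) = ![0, 2, 3] := by decide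
  have e2 : (Fin.succAbove (2 : Fin 4)) = ![0, 1, 3] := by decide
  have e3 : (Fin.succAbove (3 : Fin 4)) = ![0, 1, 2] := by decide
  rw [e0, e1, e2, e3]
  simp [Fin.succ]
  ring

section PSUHom9

variable {n : ℕ} {α : Type} (D D' : α → MatD n K9)
  (hinv : ∀ x, (D x).mul (D' x) = MatD.one)
  (hdet : ∀ x, ((D x).toMatE (Equiv.refl (Fin n))).det = 1)
  (hunit : ∀ x, (D x).tr.mul ((D x).mapE fun y => y ^ 3) = MatD.one)

/-- the matrix is scalar -/
def isScal9 (X : MatD n K9) : Bool := decide (X = scalDR n (X.entry 0 0))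

theorem mem_center_of_scalar9 (g : ↥(Cfsg.SU n K9 3)) (c : K9)
    (h : mat9 g = c • (1 : Matrix (Fin n) (Fin n) K9)) :
    g ∈ Subgroup.center ↥(Cfsg.SU n K9 3) := by
  rw [Subgroup.mem_center_iff]
  intro k
  apply mat9_injective
  rw [mat9_mul, mat9_mul, h, Matrix.smul_mul, Matrix.mul_smul, Matrix.one_mul, Matrix.mul_one]

include hinv in
theorem ev_su9_mem_center (ls : List (Letter α)) (h : isScal9 (MatD.evM (dlM D D') ls) = true) :
    ev (suOf9 D hdet hunit) ls ∈ Subgroup.center ↥(Cfsg.SU n K9 3) := by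
  refine mem_center_of_scalar9 _ ((MatD.evM (dlM D D') ls).entry 0 0) ?_
  rw [mat_ev_su9 D D' hinv, ← toMatE_scalDR]
  exact congrArg _ (of_decide_eq_true h)

include hinv in
/-- the homomorphism to the projective special unitary group -/
theorem exists_hom_psu9 (Rs : Set (FreeGroup α)) (dec : ℕ → Letter α) (bases : List (List ℕ))
    (hR1 : ∀ r ∈ Rs, ∃ b ∈ bases, r = wordF dec b)
    (hchk : ∀ b ∈ bases, isScal9 (MatD.evM (dlM D D') (b.map dec)) = true) :
    ∃ φ : PresentedGroup Rs →* Cfsg.PSU n K9 3,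
      ∀ x, φ (PresentedGroup.of x) = QuotientGroup.mk (suOf9 D hdet hunit x) := by
  let f : α → Cfsg.PSU n K9 3 := fun x => QuotientGroup.mk (suOf9 D hdet hunit x)
  have hf : ∀ r ∈ Rs, FreeGroup.lift f r = 1 := by
    intro r hr
    obtain ⟨b, hb, rfl⟩ := hR1 r hr
    have h1 : FreeGroup.lift f = (QuotientGroup.mk' (Subgroup.center ↥(Cfsg.SU n K9 3))).comp
        (FreeGroup.lift (suOf9 D hdet hunit)) := by
      ext x
      simp [f]
    rw [h1, MonoidHom.comp_apply, lift_wordF]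
    exact (QuotientGroup.eq_one_iff _).mpr (ev_su9_mem_center D D' hinv hdet hunit _ (hchk b hb))
  exact ⟨PresentedGroup.toGroup hf, fun x => PresentedGroup.toGroup.of hf⟩

end PSUHom9

end Cfsg.Agent.Helper4.TC
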