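import Cfsg.Agent.Lib.Helper4.TC.MatGL
import Cfsg.Agent.Lib.Helper6.FFour
import Cfsg.Prelude.Def_Classical

set_option autoImplicit false
set_option linter.unusedVariables false
set_option linter.unusedSectionVars false
set_option linter.style.haveILetI false

/-! Homomorphisms from presented groups into the projective special unitary groups over the
field with four elements, given by explicit unitary involutions whose relators evaluate to
scalar matrices. -/

namespace Cfsg.Agent.Helper4.TC

open Cfsg.Agent.Lib.Helper6.FFour Matrix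

section SUHom

variable {n : ℕ} {α : Type} (D : α → MatD n K4)
  (hinv : ∀ x, (D x).mul (D x) = MatD.one)
  (hunit : ∀ x, (D x).tr.mul ((D x).mapE fun y => y * y) = MatD.one)

include hinv in
theorem matOf_mul_self' (x : α) : (D x).toMatE (Equiv.refl (Fin n)) * (D x).toMatE (Equiv.refl (Fin n)) = 1 := by
  rw [← MatD.toMatE_mul, hinv, MatD.toMatE_one]

theorem k4_card : Fintype.card K4 = 2 ^ 2 := by decide

theorem k4_sq_one : ∀ y : K4, y * y = 1 → y = 1 := by decide

/-- the matrix of a generator -/
def matOf (x : α) : Matrix (Fin n) (Fin n) K4 := (D x).toMatE (Equiv.refl (Fin n))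

include hinv in
theorem matOf_mul_self (x : α) : matOf D x * matOf D x = 1 :=
  matOf_mul_self' D hinv x

include hinv in
theorem matOf_det (x : α) : (matOf D x).det = 1 := by
  have h2 := congrArg Matrix.det (matOf_mul_self D hinv x)
  rw [Matrix.det_mul, Matrix.det_one] at h2
  exact k4_sq_one _ h2

include hunit in
theorem matOf_unit (x : α) : (matOf D x)ᵀ * frob (matOf D x) = 1 := by
  unfold matOf frob
  rw [← MatD.toMatE_tr, ← MatD.toMatE_mapE, ← MatD.toMatE_mul, hunit, MatD.toMatE_one]

/-- the unitary matrix of a generator -/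
def suOf (x : α) : ↥(Cfsg.SU n K4 2) :=
  emb k4_card (RingHom.id K4) (matOf D x) (matOf_det D hinv x) (matOf_unit D hunit x)

theorem mat_suOf (x : α) : mat (suOf D hinv hunit x) = matOf D x := by
  unfold suOf
  rw [mat_emb]
  ext i j
  rfl

theorem suOf_mul_self (x : α) : suOf D hinv hunit x * suOf D hinv hunit x = 1 := by
  apply mat_injective
  rw [mat_mul, mat_one, mat_suOf, matOf_mul_self D hinv]

theorem mat_gl_su (l : Letter α) :
    mat (gl (suOf D hinv hunit) l) = (dlM D D l).toMatE (Equiv.refl (Fin n)) := by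
  rcases l with ⟨x, s⟩
  cases s
  · show mat ((suOf D hinv hunit x)⁻¹) = _
    have h : (suOf D hinv hunit x)⁻¹ = suOf D hinv hunit x :=
      inv_eq_of_mul_eq_one_left (suOf_mul_self D hinv hunit x)
    rw [h, mat_suOf]
    rfl
  · show mat (suOf D hinv hunit x) = _
    rw [mat_suOf]
    rfl

theorem mat_ev_su (ls : List (Letter α)) :
    mat (ev (suOf D hinv hunit) ls) = (MatD.evM (dlM D D) ls).toMatE (Equiv.refl (Fin n)) := by
  induction ls with
  | nil =>
    show mat (1 : ↥(Cfsg.SU n K4 2)) = _
    rw [mat_one]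
    exact (MatD.toMatE_one _).symm
  | cons l ls ih =>
    show mat (ev (suOf D hinv hunit) ls * gl (suOf D hinv hunit) l) =
      ((MatD.evM (dlM D D) ls).mul (dlM D D l)).toMatE (Equiv.refl (Fin n))
    rw [mat_mul, ih, mat_gl_su, MatD.toMatE_mul]

/-- the scalar matrix, as data -/
def scalD (c : K4) : MatD n K4 := MatD.ofFn fun i j => if i = j then c else 0

theorem toMatE_scalD (c : K4) :
    (scalD c : MatD n K4).toMatE (Equiv.refl (Fin n)) = c • (1 : Matrix (Fin n) (Fin n) K4) := by
  ext i j
  show (scalD c : MatD n K4).entry i j = _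
  unfold scalD
  rw [MatD.entry_ofFn _ _ _ i.2 j.2, Matrix.smul_apply, Matrix.one_apply]
  by_cases h : i = j
  · subst h; simp
  · have : (i : ℕ) ≠ j := fun h' => h (Fin.ext h')
    rw [if_neg this, if_neg h, smul_zero]

/-- the matrix is scalar -/
def isScal (X : MatD n K4) : Bool := decide (X = scalD (X.entry 0 0))

theorem mem_center_of_scalar (g : ↥(Cfsg.SU n K4 2)) (c : K4)
    (h : mat g = c • (1 : Matrix (Fin n) (Fin n) K4)) : g ∈ Subgroup.center ↥(Cfsg.SU n K4 2) := by
  rw [Subgroup.mem_center_iff]
  intro k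
  apply mat_injective
  rw [mat_mul, mat_mul, h, Matrix.smul_mul, Matrix.mul_smul, Matrix.one_mul, Matrix.mul_one]

theorem ev_su_mem_center (ls : List (Letter α)) (h : isScal (MatD.evM (dlM D D) ls) = true) :
    ev (suOf D hinv hunit) ls ∈ Subgroup.center ↥(Cfsg.SU n K4 2) := by
  refine mem_center_of_scalar _ ((MatD.evM (dlM D D) ls).entry 0 0) ?_
  rw [mat_ev_su, ← toMatE_scalD]
  exact congrArg _ (of_decide_eq_true h)

/-- the homomorphism to the projective special unitary group -/
theorem exists_hom_psu (Rs : Set (FreeGroup α)) (dec : ℕ → Letter α) (bases : List (List ℕ))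
    (hR1 : ∀ r ∈ Rs, ∃ b ∈ bases, r = wordF dec b)
    (hchk : ∀ b ∈ bases, isScal (MatD.evM (dlM D D) (b.map dec)) = true) :
    ∃ φ : PresentedGroup Rs →* Cfsg.PSU n K4 2,
      ∀ x, φ (PresentedGroup.of x) = QuotientGroup.mk (suOf D hinv hunit x) := by
  let f : α → Cfsg.PSU n K4 2 := fun x => QuotientGroup.mk (suOf D hinv hunit x)
  have hf : ∀ r ∈ Rs, FreeGroup.lift f r = 1 := by
    intro r hr
    obtain ⟨b, hb, rfl⟩ := hR1 r hr
    have h1 : FreeGroup.lift f = (QuotientGroup.mk' (Subgroup.center ↥(Cfsg.SU n K4 2))).comp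
        (FreeGroup.lift (suOf D hinv hunit)) := by
      ext x
      simp [f]
    rw [h1, MonoidHom.comp_apply, lift_wordF]
    exact (QuotientGroup.eq_one_iff _).mpr (ev_su_mem_center D hinv hunit _ (hchk b hb))
  exact ⟨PresentedGroup.toGroup hf, fun x => PresentedGroup.toGroup.of hf⟩

/-- a generator is not central as soon as two of the matrices do not commute -/
theorem suOf_not_mem_center (x y : α) (i j : Fin n)
    (h : ((D x).mul (D y)).entry i j ≠ ((D y).mul (D x)).entry i j) :
    suOf D hinv hunit x ∉ Subgroup.center ↥(Cfsg.SU n K4 2) := by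
  intro hc
  rw [Subgroup.mem_center_iff] at hc
  have h1 := congrArg mat (hc (suOf D hinv hunit y))
  rw [mat_mul, mat_mul, mat_suOf, mat_suOf] at h1
  unfold matOf at h1
  rw [← MatD.toMatE_mul, ← MatD.toMatE_mul] at h1
  exact h (congrFun (congrFun h1 i) j).symm

end SUHom

end Cfsg.Agent.Helper4.TC
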