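import Cfsg.Agent.Lib.Helper4.TC.MatGL
import Cfsg.Agent.Lib.Helper16.PSU33L27
import Cfsg.Prelude.Def_Classical

set_option autoImplicit false
set_option linter.unusedVariables false
set_option linter.unusedSectionVars false
set_option linter.style.haveILetI false

/-! Homomorphisms from presented groups into the projective special unitary groups over the
field with nine elements, given by explicit unitary matrices whose relators evaluate to
scalar matrices. -/

namespace Cfsg.Agent.Helper4.TC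

open Cfsg.Agent.Lib.Helper16.G168 Matrix

theorem k9_card : Fintype.card K9 = 3 ^ 2 := by rw [card_K9]; norm_num

section SUHom9

variable {n : ℕ} {α : Type} (D D' : α → MatD n K9)
  (hinv : ∀ x, (D x).mul (D' x) = MatD.one)
  (hdet : ∀ x, ((D x).toMatE (Equiv.refl (Fin n))).det = 1)
  (hunit : ∀ x, (D x).tr.mul ((D x).mapE fun y => y ^ 3) = MatD.one)

/-- the matrix of an element of the special unitary group -/
def mat9 (g : ↥(Cfsg.SU n K9 3)) : Matrix (Fin n) (Fin n) K9 :=
  ((g : Matrix.SpecialLinearGroup (Fin n) K9) : Matrix (Fin n) (Fin n) K9)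

theorem mat9_injective : Function.Injective (mat9 (n := n)) := by
  intro g h hgh
  exact Subtype.ext (Subtype.ext hgh)

theorem mat9_mul (g h : ↥(Cfsg.SU n K9 3)) : mat9 (g * h) = mat9 g * mat9 h := rfl

theorem mat9_one : mat9 (1 : ↥(Cfsg.SU n K9 3)) = (1 : Matrix (Fin n) (Fin n) K9) := rfl

include hunit in
theorem mat_unit9 (x : α) :
    ((D x).toMatE (Equiv.refl (Fin n)))ᵀ *
      ((D x).toMatE (Equiv.refl (Fin n))).map (Cfsg.Agent.Lib.Helper6.conjQ k9_card) = 1 := by
  have h1 : ((D x).toMatE (Equiv.refl (Fin n))).map (Cfsg.Agent.Lib.Helper6.conjQ k9_card) =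
      ((D x).mapE fun y => y ^ 3).toMatE (Equiv.refl (Fin n)) := by
    rw [MatD.toMatE_mapE]
    rfl
  rw [h1, ← MatD.toMatE_tr, ← MatD.toMatE_mul, hunit, MatD.toMatE_one]

/-- the unitary matrix of a generator -/
def suOf9 (x : α) : ↥(Cfsg.SU n K9 3) :=
  ⟨⟨(D x).toMatE (Equiv.refl (Fin n)), hdet x⟩, by
    show ∀ u v, Cfsg.hermForm n K9 3 (((D x).toMatE (Equiv.refl (Fin n))) *ᵥ u)
      (((D x).toMatE (Equiv.refl (Fin n))) *ᵥ v) = Cfsg.hermForm n K9 3 u v
    rw [Cfsg.Agent.Lib.Helper16.pres_iff k9_card]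
    exact mat_unit9 D hunit x⟩

theorem mat_suOf9 (x : α) : mat9 (suOf9 D hdet hunit x) = (D x).toMatE (Equiv.refl (Fin n)) := rfl

include hinv in
theorem mat_gl_su9 (l : Letter α) :
    mat9 (gl (suOf9 D hdet hunit) l) = (dlM D D' l).toMatE (Equiv.refl (Fin n)) := by
  rcases l with ⟨x, s⟩
  cases s
  · show mat9 ((suOf9 D hdet hunit x)⁻¹) = (D' x).toMatE (Equiv.refl (Fin n))
    have h1 : mat9 ((suOf9 D hdet hunit x)⁻¹) * mat9 (suOf9 D hdet hunit x) = 1 := by
      rw [← mat9_mul, inv_mul_cancel, mat9_one]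
    have h2 : mat9 (suOf9 D hdet hunit x) * (D' x).toMatE (Equiv.refl (Fin n)) = 1 := by
      rw [mat_suOf9, ← MatD.toMatE_mul, hinv, MatD.toMatE_one]
    calc mat9 ((suOf9 D hdet hunit x)⁻¹)
        = mat9 ((suOf9 D hdet hunit x)⁻¹) *
            (mat9 (suOf9 D hdet hunit x) * (D' x).toMatE (Equiv.refl (Fin n))) := by
          rw [h2, Matrix.mul_one]
      _ = (D' x).toMatE (Equiv.refl (Fin n)) := by
          rw [← Matrix.mul_assoc, h1, Matrix.one_mul]
  · show mat9 (suOf9 D hdet hunit x) = _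
    rw [mat_suOf9]
    rfl

include hinv in
theorem mat_ev_su9 (ls : List (Letter α)) :
    mat9 (ev (suOf9 D hdet hunit) ls) =
      (MatD.evM (dlM D D') ls).toMatE (Equiv.refl (Fin n)) := by
  induction ls with
  | nil =>
    show mat9 (1 : ↥(Cfsg.SU n K9 3)) = _
    rw [mat9_one]
    exact (MatD.toMatE_one _).symm
  | cons l ls ih =>
    show mat9 (ev (suOf9 D hdet hunit) ls * gl (suOf9 D hdet hunit) l) =
      ((MatD.evM (dlM D D') ls).mul (dlM D D' l)).toMatE (Equiv.refl (Fin n))
    rw [mat9_mul, ih, mat_gl_su9 D D' hinv, MatD.toMatE_mul]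

include hinv in
theorem ev_su9_eq_one (ls : List (Letter α)) (h : MatD.evM (dlM D D') ls = MatD.one) :
    ev (suOf9 D hdet hunit) ls = 1 := by
  apply mat9_injective
  rw [mat_ev_su9 D D' hinv, h, MatD.toMatE_one, mat9_one]

include hinv in
/-- the homomorphism to the special unitary group -/
theorem exists_hom_su9 (Rs : Set (FreeGroup α)) (dec : ℕ → Letter α) (bases : List (List ℕ))
    (hR1 : ∀ r ∈ Rs, ∃ b ∈ bases, r = wordF dec b)
    (hchk : ∀ b ∈ bases, MatD.evM (dlM D D') (b.map dec) = MatD.one) :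
    ∃ φ : PresentedGroup Rs →* ↥(Cfsg.SU n K9 3),
      ∀ x, φ (PresentedGroup.of x) = suOf9 D hdet hunit x := by
  have hf : ∀ r ∈ Rs, FreeGroup.lift (suOf9 D hdet hunit) r = 1 := by
    intro r hr
    obtain ⟨b, hb, rfl⟩ := hR1 r hr
    rw [lift_wordF]
    exact ev_su9_eq_one D D' hinv hdet hunit _ (hchk b hb)
  exact ⟨PresentedGroup.toGroup hf, fun x => PresentedGroup.toGroup.of hf⟩

/-- a generator is not central as soon as two of the matrices do not commute -/
theorem suOf9_not_mem_center (x y : α) (i j : Fin n)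
    (h : ((D x).mul (D y)).entry i j ≠ ((D y).mul (D x)).entry i j) :
    suOf9 D hdet hunit x ∉ Subgroup.center ↥(Cfsg.SU n K9 3) := by
  intro hc
  rw [Subgroup.mem_center_iff] at hc
  have h1 := congrArg mat9 (hc (suOf9 D hdet hunit y))
  rw [mat9_mul, mat9_mul, mat_suOf9, mat_suOf9, ← MatD.toMatE_mul, ← MatD.toMatE_mul] at h1
  exact h (congrFun (congrFun h1 i) j).symm

end SUHom9

end Cfsg.Agent.Helper4.TC
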