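import Cfsg.Agent.Lib.Helper4.TC.MatGL
import Cfsg.Agent.Lib.Helper4.TC.MatSp
import Cfsg.Agent.Lib.Helper16.FieldAutGU
import Cfsg.Prelude.Def_Classical

set_option autoImplicit false
set_option linter.unusedVariables false
set_option linter.unusedSectionVars false
set_option linter.style.haveILetI false

/-! Homomorphisms from presented groups into the projective special unitary groups over a finite
field with `q ^ 2` elements, given by explicit unitary matrices whose relators evaluate to
scalar matrices. -/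

namespace Cfsg.Agent.Helper4.TC

open Matrix

section SUHomQ

variable {K : Type} [Field K] [Fintype K] [DecidableEq K] {q : ℕ} (hK : Fintype.card K = q ^ 2)
variable {n : ℕ} {α : Type} (D D' : α → MatD n K)
  (hinv : ∀ x, (D x).mul (D' x) = MatD.one)
  (hdet : ∀ x, ((D x).toMatE (Equiv.refl (Fin n))).det = 1)
  (hunit : ∀ x, (D x).tr.mul ((D x).mapE fun y => y ^ q) = MatD.one)

/-- the matrix of an element of the special unitary group -/
def matQ (g : ↥(Cfsg.SU n K q)) : Matrix (Fin n) (Fin n) K :=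
  ((g : Matrix.SpecialLinearGroup (Fin n) K) : Matrix (Fin n) (Fin n) K)

theorem matQ_injective : Function.Injective (matQ (n := n) (K := K) (q := q)) := by
  intro g h hgh
  exact Subtype.ext (Subtype.ext hgh)

theorem matQ_mul (g h : ↥(Cfsg.SU n K q)) : matQ (g * h) = matQ g * matQ h := rfl

theorem matQ_one : matQ (1 : ↥(Cfsg.SU n K q)) = (1 : Matrix (Fin n) (Fin n) K) := rfl

include hunit in
theorem mat_unitQ (x : α) :
    ((D x).toMatE (Equiv.refl (Fin n)))ᵀ *
      ((D x).toMatE (Equiv.refl (Fin n))).map (Cfsg.Agent.Lib.Helper6.conjQ hK) = 1 := by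
  have h1 : ((D x).toMatE (Equiv.refl (Fin n))).map (Cfsg.Agent.Lib.Helper6.conjQ hK) =
      ((D x).mapE fun y => y ^ q).toMatE (Equiv.refl (Fin n)) := by
    rw [MatD.toMatE_mapE]
    rfl
  rw [h1, ← MatD.toMatE_tr, ← MatD.toMatE_mul, hunit, MatD.toMatE_one]

include hK in
/-- the unitary matrix of a generator -/
def suOfQ (x : α) : ↥(Cfsg.SU n K q) :=
  ⟨⟨(D x).toMatE (Equiv.refl (Fin n)), hdet x⟩, by
    show ∀ u v, Cfsg.hermForm n K q (((D x).toMatE (Equiv.refl (Fin n))) *ᵥ u)
      (((D x).toMatE (Equiv.refl (Fin n))) *ᵥ v) = Cfsg.hermForm n K q u v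
    rw [Cfsg.Agent.Lib.Helper16.pres_iff hK]
    exact mat_unitQ hK D hunit x⟩

theorem mat_suOfQ (x : α) :
    matQ (suOfQ hK D hdet hunit x) = (D x).toMatE (Equiv.refl (Fin n)) := rfl

include hinv in
theorem mat_gl_suQ (l : Letter α) :
    matQ (gl (suOfQ hK D hdet hunit) l) = (dlM D D' l).toMatE (Equiv.refl (Fin n)) := by
  rcases l with ⟨x, s⟩
  cases s
  · show matQ ((suOfQ hK D hdet hunit x)⁻¹) = (D' x).toMatE (Equiv.refl (Fin n))
    have h1 : matQ ((suOfQ hK D hdet hunit x)⁻¹) * matQ (suOfQ hK D hdet hunit x) = 1 := by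
      rw [← matQ_mul, inv_mul_cancel, matQ_one]
    have h2 : matQ (suOfQ hK D hdet hunit x) * (D' x).toMatE (Equiv.refl (Fin n)) = 1 := by
      rw [mat_suOfQ, ← MatD.toMatE_mul, hinv, MatD.toMatE_one]
    calc matQ ((suOfQ hK D hdet hunit x)⁻¹)
        = matQ ((suOfQ hK D hdet hunit x)⁻¹) *
            (matQ (suOfQ hK D hdet hunit x) * (D' x).toMatE (Equiv.refl (Fin n))) := by
          rw [h2, Matrix.mul_one]
      _ = (D' x).toMatE (Equiv.refl (Fin n)) := by
          rw [← Matrix.mul_assoc, h1, Matrix.one_mul]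
  · show matQ (suOfQ hK D hdet hunit x) = _
    rw [mat_suOfQ]
    rfl

include hinv in
theorem mat_ev_suQ (ls : List (Letter α)) :
    matQ (ev (suOfQ hK D hdet hunit) ls) =
      (MatD.evM (dlM D D') ls).toMatE (Equiv.refl (Fin n)) := by
  induction ls with
  | nil =>
    show matQ (1 : ↥(Cfsg.SU n K q)) = _
    rw [matQ_one]
    exact (MatD.toMatE_one _).symm
  | cons l ls ih =>
    show matQ (ev (suOfQ hK D hdet hunit) ls * gl (suOfQ hK D hdet hunit) l) =
      ((MatD.evM (dlM D D') ls).mul (dlM D D' l)).toMatE (Equiv.refl (Fin n))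
    rw [matQ_mul, ih, mat_gl_suQ hK D D' hinv, MatD.toMatE_mul]

/-- the matrix is scalar -/
def isScalQ (X : MatD n K) : Bool := decide (X = scalDR n (X.entry 0 0))

theorem mem_center_of_scalarQ (g : ↥(Cfsg.SU n K q)) (c : K)
    (h : matQ g = c • (1 : Matrix (Fin n) (Fin n) K)) :
    g ∈ Subgroup.center ↥(Cfsg.SU n K q) := by
  rw [Subgroup.mem_center_iff]
  intro k
  apply matQ_injective
  rw [matQ_mul, matQ_mul, h, Matrix.smul_mul, Matrix.mul_smul, Matrix.one_mul, Matrix.mul_one]

include hinv in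
theorem ev_suQ_mem_center (ls : List (Letter α))
    (h : isScalQ (MatD.evM (dlM D D') ls) = true) :
    ev (suOfQ hK D hdet hunit) ls ∈ Subgroup.center ↥(Cfsg.SU n K q) := by
  refine mem_center_of_scalarQ _ ((MatD.evM (dlM D D') ls).entry 0 0) ?_
  rw [mat_ev_suQ hK D D' hinv, ← toMatE_scalDR]
  exact congrArg _ (of_decide_eq_true h)

include hinv in
/-- the homomorphism to the projective special unitary group -/
theorem exists_hom_psuQ (Rs : Set (FreeGroup α)) (dec : ℕ → Letter α) (bases : List (List ℕ))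
    (hR1 : ∀ r ∈ Rs, ∃ b ∈ bases, r = wordF dec b)
    (hchk : ∀ b ∈ bases, isScalQ (MatD.evM (dlM D D') (b.map dec)) = true) :
    ∃ φ : PresentedGroup Rs →* Cfsg.PSU n K q,
      ∀ x, φ (PresentedGroup.of x) = QuotientGroup.mk (suOfQ hK D hdet hunit x) := by
  let f : α → Cfsg.PSU n K q := fun x => QuotientGroup.mk (suOfQ hK D hdet hunit x)
  have hf : ∀ r ∈ Rs, FreeGroup.lift f r = 1 := by
    intro r hr
    obtain ⟨b, hb, rfl⟩ := hR1 r hr
    have h1 : FreeGroup.lift f = (QuotientGroup.mk' (Subgroup.center ↥(Cfsg.SU n K q))).comp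
        (FreeGroup.lift (suOfQ hK D hdet hunit)) := by
      ext x
      simp [f]
    rw [h1, MonoidHom.comp_apply, lift_wordF]
    exact (QuotientGroup.eq_one_iff _).mpr
      (ev_suQ_mem_center hK D D' hinv hdet hunit _ (hchk b hb))
  exact ⟨PresentedGroup.toGroup hf, fun x => PresentedGroup.toGroup.of hf⟩

/-- a generator is not central as soon as two of the matrices do not commute -/
theorem suOfQ_not_mem_center (x y : α) (i j : Fin n)
    (h : ((D x).mul (D y)).entry i j ≠ ((D y).mul (D x)).entry i j) :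
    suOfQ hK D hdet hunit x ∉ Subgroup.center ↥(Cfsg.SU n K q) := by
  intro hc
  rw [Subgroup.mem_center_iff] at hc
  have h1 := congrArg matQ (hc (suOfQ hK D hdet hunit y))
  rw [matQ_mul, matQ_mul, mat_suOfQ, mat_suOfQ, ← MatD.toMatE_mul, ← MatD.toMatE_mul] at h1
  exact h (congrFun (congrFun h1 i) j).symm

end SUHomQ

end Cfsg.Agent.Helper4.TC
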