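import Cfsg.Agent.Lib.Helper4.TC.Basic
import Cfsg.Agent.Lib.Helper4.TC.Abstract

set_option autoImplicit false
set_option linter.unusedVariables false
set_option linter.unusedSectionVars false
set_option linter.style.haveILetI false

/-! A checker for permutation models given by a packed table. -/

namespace Cfsg.Agent.Helper4.TC

/-- a packed table of `nc` permutations of `n` points (in blocks), with trees -/
structure MData where
  n : ℕ
  w : ℕ
  mask : ℕ
  aw : ℕ
  amask : ℕ
  s1 : ℕ
  s2 : ℕ
  s3 : ℕ
  s4 : ℕ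
  bsh : ℕ
  bmask : ℕ
  nc : ℕ
  T : ℕ → ℕ → ℕ
  A : ℕ → ℕ

def MData.at (m : MData) (c k : ℕ) : ℕ :=
  fld m.w m.mask (m.T c (Nat.shiftRight k m.bsh)) (Nat.land k m.bmask)

/-- the entry of the point `k`: parent, parent in the orbit, letter, depth, generator -/
def MData.aux (m : MData) (k : ℕ) : ℕ :=
  fld m.aw m.amask (m.A (Nat.shiftRight k m.bsh)) (Nat.land k m.bmask)

def MData.tparOf (m : MData) (k : ℕ) : ℕ := Nat.land (m.aux k) m.mask
def MData.oparOf (m : MData) (k : ℕ) : ℕ := Nat.land (Nat.shiftRight (m.aux k) m.s1) m.mask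
def MData.tletOf (m : MData) (k : ℕ) : ℕ := Nat.land (Nat.shiftRight (m.aux k) m.s2) 255
def MData.tdepOf (m : MData) (k : ℕ) : ℕ := Nat.land (Nat.shiftRight (m.aux k) m.s3) 255
def MData.ogenOf (m : MData) (k : ℕ) : ℕ := Nat.shiftRight (m.aux k) m.s4

/-- trace a word (application order) from a point -/
noncomputable def mtrace (m : MData) (word : List ℕ) (k : ℕ) : ℕ :=
  List.rec (motive := fun _ => ℕ → ℕ) (fun k => k) (fun c _ ih k => ih (m.at c k)) word k

theorem mtrace_nil (m : MData) (k : ℕ) : mtrace m [] k = k := rfl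

theorem mtrace_cons (m : MData) (c : ℕ) (cs : List ℕ) (k : ℕ) :
    mtrace m (c :: cs) k = mtrace m cs (m.at c k) := rfl

def lettersOK (nc : ℕ) : List ℕ → Bool
  | [] => true
  | c :: cs => Nat.blt c nc && lettersOK nc cs

def wordsLettersOK (nc : ℕ) : List (List ℕ) → Bool
  | [] => true
  | b :: bs => lettersOK nc b && wordsLettersOK nc bs

noncomputable def invRow (m : MData) (k c : ℕ) : Bool :=
  Nat.rec (motive := fun _ => Bool) true
    (fun c ih => Nat.blt (m.at c k) m.n && Nat.beq (m.at (Nat.xor c 1) (m.at c k)) k && ih) c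

theorem invRow_succ (m : MData) (k c : ℕ) :
    invRow m k (c + 1) =
      (Nat.blt (m.at c k) m.n && Nat.beq (m.at (Nat.xor c 1) (m.at c k)) k && invRow m k c) := rfl

noncomputable def invRange (m : MData) (f k : ℕ) : Bool :=
  Nat.rec (motive := fun _ => ℕ → Bool) (fun _ => true)
    (fun _ ih k => Bool.rec (motive := fun _ => Bool) false (ih (Nat.succ k)) (invRow m k m.nc)) f k

theorem invRange_succ (m : MData) (f k : ℕ) :
    invRange m (f + 1) k =
      Bool.rec (motive := fun _ => Bool) false (invRange m f (Nat.succ k)) (invRow m k m.nc) := rfl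

noncomputable def relsAt (m : MData) (k : ℕ) (bs : List (List ℕ)) : Bool :=
  List.rec (motive := fun _ => Bool) true
    (fun b _ ih => Bool.rec (motive := fun _ => Bool) false ih (Nat.beq (mtrace m b k) k)) bs

theorem relsAt_cons (m : MData) (k : ℕ) (b : List ℕ) (bs : List (List ℕ)) :
    relsAt m k (b :: bs) =
      Bool.rec (motive := fun _ => Bool) false (relsAt m k bs) (Nat.beq (mtrace m b k) k) := rfl

noncomputable def relsRange (m : MData) (bases : List (List ℕ)) (f k : ℕ) : Bool :=
  Nat.rec (motive := fun _ => ℕ → Bool) (fun _ => true)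
    (fun _ ih k => Bool.rec (motive := fun _ => Bool) false (ih (Nat.succ k)) (relsAt m k bases)) f k

theorem relsRange_succ (m : MData) (bases : List (List ℕ)) (f k : ℕ) :
    relsRange m bases (f + 1) k =
      Bool.rec (motive := fun _ => Bool) false (relsRange m bases f (Nat.succ k)) (relsAt m k bases) := rfl

def treeAt (m : MData) (k : ℕ) : Bool :=
  Nat.blt (m.tparOf k) m.n && Nat.blt (m.tdepOf (m.tparOf k)) (m.tdepOf k) &&
    Nat.blt (m.tletOf k) m.nc && Nat.beq (m.at (m.tletOf k) (m.tparOf k)) k

noncomputable def treeRange (m : MData) (f k : ℕ) : Bool :=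
  Nat.rec (motive := fun _ => ℕ → Bool) (fun _ => true)
    (fun _ ih k => Bool.rec (motive := fun _ => Bool) false (ih (Nat.succ k)) (treeAt m k)) f k

theorem treeRange_succ (m : MData) (f k : ℕ) :
    treeRange m (f + 1) k =
      Bool.rec (motive := fun _ => Bool) false (treeRange m f (Nat.succ k)) (treeAt m k) := rfl

noncomputable def closedAt (m : MData) (lo hi k : ℕ) (ss : List (List ℕ)) : Bool :=
  List.rec (motive := fun _ => Bool) true
    (fun s _ ih => Bool.rec (motive := fun _ => Bool) false ih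
      (Nat.ble lo (mtrace m s k) && Nat.blt (mtrace m s k) hi)) ss

theorem closedAt_cons (m : MData) (lo hi k : ℕ) (s : List ℕ) (ss : List (List ℕ)) :
    closedAt m lo hi k (s :: ss) =
      Bool.rec (motive := fun _ => Bool) false (closedAt m lo hi k ss)
        (Nat.ble lo (mtrace m s k) && Nat.blt (mtrace m s k) hi) := rfl

noncomputable def closedRange (m : MData) (subsL : List (List ℕ)) (lo hi f k : ℕ) : Bool :=
  Nat.rec (motive := fun _ => ℕ → Bool) (fun _ => true)
    (fun _ ih k => Bool.rec (motive := fun _ => Bool) false (ih (Nat.succ k))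
      (closedAt m lo hi k subsL)) f k

theorem closedRange_succ (m : MData) (subsL : List (List ℕ)) (lo hi f k : ℕ) :
    closedRange m subsL lo hi (f + 1) k =
      Bool.rec (motive := fun _ => Bool) false (closedRange m subsL lo hi f (Nat.succ k))
        (closedAt m lo hi k subsL) := rfl

noncomputable def reachAt (m : MData) (subsL : List (List ℕ)) (lo k : ℕ) : Bool :=
  Nat.ble lo (m.oparOf k) && Nat.blt (m.oparOf k) k &&
    Nat.beq (mtrace m (subsL.getD (m.ogenOf k) []) (m.oparOf k)) k

noncomputable def reachRange (m : MData) (subsL : List (List ℕ)) (lo f k : ℕ) : Bool :=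
  Nat.rec (motive := fun _ => ℕ → Bool) (fun _ => true)
    (fun _ ih k => Bool.rec (motive := fun _ => Bool) false (ih (Nat.succ k))
      (reachAt m subsL lo k)) f k

theorem reachRange_succ (m : MData) (subsL : List (List ℕ)) (lo f k : ℕ) :
    reachRange m subsL lo (f + 1) k =
      Bool.rec (motive := fun _ => Bool) false (reachRange m subsL lo f (Nat.succ k))
        (reachAt m subsL lo k) := rfl

noncomputable def sub0OK (m : MData) : List (List ℕ) → Bool
  | [] => true
  | s :: ss => Nat.beq (mtrace m s 0) 0 && sub0OK m ss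

/-! ### soundness of the loops -/

theorem lettersOK_sound (nc : ℕ) (b : List ℕ) (h : lettersOK nc b = true) : ∀ c ∈ b, c < nc := by
  induction b with
  | nil => intro c hc; cases hc
  | cons x xs ih =>
    unfold lettersOK at h
    rw [Bool.and_eq_true] at h
    intro c hc
    rcases List.mem_cons.mp hc with rfl | hc
    · exact lt_of_blt h.1
    · exact ih h.2 c hc

theorem wordsLettersOK_sound (nc : ℕ) (bs : List (List ℕ)) (h : wordsLettersOK nc bs = true) :
    ∀ b ∈ bs, ∀ c ∈ b, c < nc := by
  induction bs with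
  | nil => intro b hb; cases hb
  | cons x xs ih =>
    unfold wordsLettersOK at h
    rw [Bool.and_eq_true] at h
    intro b hb
    rcases List.mem_cons.mp hb with rfl | hb
    · exact lettersOK_sound nc _ h.1
    · exact ih h.2 b hb

theorem invRow_sound (m : MData) (k c : ℕ) (h : invRow m k c = true) :
    ∀ c', c' < c → m.at c' k < m.n ∧ m.at (Nat.xor c' 1) (m.at c' k) = k := by
  induction c with
  | zero => intro c' hc'; omega
  | succ c ih =>
    rw [invRow_succ] at h
    simp only [Bool.and_eq_true] at h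
    obtain ⟨⟨h1, h2⟩, h3⟩ := h
    intro c' hc'
    rcases Nat.lt_succ_iff_lt_or_eq.mp hc' with hlt | rfl
    · exact ih h3 c' hlt
    · exact ⟨lt_of_blt h1, Nat.eq_of_beq_eq_true h2⟩

/-- a loop over a range of points -/
theorem range_sound (P : ℕ → Bool) (L : ℕ → ℕ → Bool) (h0 : ∀ k, L 0 k = true)
    (hs : ∀ f k, L (f + 1) k = Bool.rec (motive := fun _ => Bool) false (L f (Nat.succ k)) (P k))
    (f k : ℕ) (h : L f k = true) : ∀ j, k ≤ j → j < k + f → P j = true := by
  induction f generalizing k with
  | zero => intro j h1 h2; omega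
  | succ f ih =>
    rw [hs] at h
    cases hb : P k
    · rw [hb] at h; cases h
    · rw [hb] at h
      intro j h1 h2
      rcases Nat.eq_or_lt_of_le h1 with rfl | hlt
      · exact hb
      · exact ih _ h j hlt (by omega)

theorem invRange_sound (m : MData) (f k : ℕ) (h : invRange m f k = true) :
    ∀ j, k ≤ j → j < k + f → ∀ c, c < m.nc →
      m.at c j < m.n ∧ m.at (Nat.xor c 1) (m.at c j) = j := by
  intro j h1 h2
  exact invRow_sound m j m.nc
    (range_sound (fun k => invRow m k m.nc) (invRange m) (fun _ => rfl) (invRange_succ m) f k h j h1 h2)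

theorem relsAt_sound (m : MData) (k : ℕ) (bs : List (List ℕ)) (h : relsAt m k bs = true) :
    ∀ b ∈ bs, mtrace m b k = k := by
  induction bs with
  | nil => intro b hb; cases hb
  | cons x xs ih =>
    rw [relsAt_cons] at h
    cases hb : Nat.beq (mtrace m x k) k
    · rw [hb] at h; cases h
    · rw [hb] at h
      intro b hb'
      rcases List.mem_cons.mp hb' with rfl | hb'
      · exact Nat.eq_of_beq_eq_true hb
      · exact ih h b hb'

theorem relsRange_sound (m : MData) (bases : List (List ℕ)) (f k : ℕ)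
    (h : relsRange m bases f k = true) :
    ∀ j, k ≤ j → j < k + f → ∀ b ∈ bases, mtrace m b j = j := by
  intro j h1 h2
  exact relsAt_sound m j bases
    (range_sound (fun k => relsAt m k bases) (relsRange m bases) (fun _ => rfl)
      (relsRange_succ m bases) f k h j h1 h2)

theorem treeRange_sound (m : MData) (f k : ℕ) (h : treeRange m f k = true) :
    ∀ j, k ≤ j → j < k + f →
      m.tparOf j < m.n ∧ m.tdepOf (m.tparOf j) < m.tdepOf j ∧ m.tletOf j < m.nc ∧
        m.at (m.tletOf j) (m.tparOf j) = j := by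
  intro j h1 h2
  have := range_sound (treeAt m) (treeRange m) (fun _ => rfl) (treeRange_succ m) f k h j h1 h2
  unfold treeAt at this
  simp only [Bool.and_eq_true] at this
  exact ⟨lt_of_blt this.1.1.1, lt_of_blt this.1.1.2, lt_of_blt this.1.2, Nat.eq_of_beq_eq_true this.2⟩

theorem closedAt_sound (m : MData) (lo hi k : ℕ) (ss : List (List ℕ))
    (h : closedAt m lo hi k ss = true) :
    ∀ s ∈ ss, lo ≤ mtrace m s k ∧ mtrace m s k < hi := by
  induction ss with
  | nil => intro s hs; cases hs
  | cons x xs ih =>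
    rw [closedAt_cons] at h
    cases hb : (Nat.ble lo (mtrace m x k) && Nat.blt (mtrace m x k) hi)
    · rw [hb] at h; cases h
    · rw [hb] at h
      rw [Bool.and_eq_true] at hb
      intro s hs
      rcases List.mem_cons.mp hs with rfl | hs
      · exact ⟨Nat.le_of_ble_eq_true hb.1, lt_of_blt hb.2⟩
      · exact ih h s hs

theorem closedRange_sound (m : MData) (subsL : List (List ℕ)) (lo hi f k : ℕ)
    (h : closedRange m subsL lo hi f k = true) :
    ∀ j, k ≤ j → j < k + f → ∀ s ∈ subsL, lo ≤ mtrace m s j ∧ mtrace m s j < hi := by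
  intro j h1 h2
  exact closedAt_sound m lo hi j subsL
    (range_sound (fun k => closedAt m lo hi k subsL) (closedRange m subsL lo hi) (fun _ => rfl)
      (closedRange_succ m subsL lo hi) f k h j h1 h2)

theorem reachRange_sound (m : MData) (subsL : List (List ℕ)) (lo f k : ℕ)
    (h : reachRange m subsL lo f k = true) :
    ∀ j, k ≤ j → j < k + f → lo ≤ m.oparOf j ∧ m.oparOf j < j ∧
      ∃ s ∈ subsL, mtrace m s (m.oparOf j) = j := by
  intro j h1 h2
  have := range_sound (reachAt m subsL lo) (reachRange m subsL lo) (fun _ => rfl)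
    (reachRange_succ m subsL lo) f k h j h1 h2
  unfold reachAt at this
  simp only [Bool.and_eq_true] at this
  have h3 := lt_of_blt this.1.2
  have h4 := Nat.eq_of_beq_eq_true this.2
  refine ⟨Nat.le_of_ble_eq_true this.1.1, h3, ?_⟩
  by_cases hg : m.ogenOf j < subsL.length
  · refine ⟨subsL[m.ogenOf j], List.getElem_mem hg, ?_⟩
    rw [List.getD_eq_getElem _ _ hg] at h4
    exact h4
  · rw [List.getD_eq_default _ _ (by omega), mtrace_nil] at h4
    omega

theorem sub0OK_sound (m : MData) (ss : List (List ℕ)) (h : sub0OK m ss = true) :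
    ∀ s ∈ ss, mtrace m s 0 = 0 := by
  induction ss with
  | nil => intro s hs; cases hs
  | cons x xs ih =>
    unfold sub0OK at h
    rw [Bool.and_eq_true] at h
    intro s hs
    rcases List.mem_cons.mp hs with rfl | hs
    · exact Nat.eq_of_beq_eq_true h.1
    · exact ih h.2 s hs

/-! ### the permutation model -/

/-- the letter codes and the generators -/
structure Coding {α : Type} (dec : ℕ → Letter α) (enc : α → ℕ) (nc : ℕ) : Prop where
  dec_inv : ∀ c, dec (Nat.xor c 1) = linv (dec c)
  nc_even : ∀ c, c < nc → Nat.xor c 1 < nc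
  enc_lt : ∀ x, enc x < nc
  dec_enc : ∀ x, dec (enc x) = (x, true)
  enc_dec : ∀ c, c < nc → (dec c).2 = true → enc (dec c).1 = c

structure ModelOK (m : MData) (bases subsL : List (List ℕ)) : Prop where
  npos : 0 < m.n
  inv : ∀ k, k < m.n → ∀ c, c < m.nc → m.at c k < m.n ∧ m.at (Nat.xor c 1) (m.at c k) = k
  rel : ∀ k, k < m.n → ∀ b ∈ bases, mtrace m b k = k
  relc : ∀ b ∈ bases, ∀ c ∈ b, c < m.nc
  subc : ∀ s ∈ subsL, ∀ c ∈ s, c < m.nc
  sub0 : ∀ s ∈ subsL, mtrace m s 0 = 0
  tree : ∀ k, 1 ≤ k → k < 1 + (m.n - 1) →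
    m.tparOf k < m.n ∧ m.tdepOf (m.tparOf k) < m.tdepOf k ∧ m.tletOf k < m.nc ∧
      m.at (m.tletOf k) (m.tparOf k) = k

/-- an orbit of the subgroup is a range of points -/
structure OrbOK (m : MData) (subsL : List (List ℕ)) (lo hi : ℕ) : Prop where
  lt : lo < hi
  le : hi ≤ m.n
  closed : ∀ k, lo ≤ k → k < hi → ∀ s ∈ subsL, lo ≤ mtrace m s k ∧ mtrace m s k < hi
  reach : ∀ k, lo + 1 ≤ k → k < hi → lo ≤ m.oparOf k ∧ m.oparOf k < k ∧
    ∃ s ∈ subsL, mtrace m s (m.oparOf k) = k

theorem xor_xor_one (c : ℕ) : Nat.xor (Nat.xor c 1) 1 = c := by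
  show (c ^^^ 1) ^^^ 1 = c
  rw [Nat.xor_assoc, Nat.xor_self, Nat.xor_zero]

section Perm

variable {m : MData} {bases subsL : List (List ℕ)}

/-- the map of a letter -/
def sigma (hm : ModelOK m bases subsL) (c : ℕ) (k : Fin m.n) : Fin m.n :=
  if h : c < m.nc then ⟨m.at c k, (hm.inv k k.2 c h).1⟩ else k

theorem sigma_val (hm : ModelOK m bases subsL) (c : ℕ) (h : c < m.nc) (k : Fin m.n) :
    (sigma hm c k).val = m.at c k := by
  unfold sigma
  rw [dif_pos h]

theorem sigma_sigma (hm : ModelOK m bases subsL) (c : ℕ) (h : c < m.nc) (h' : Nat.xor c 1 < m.nc)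
    (k : Fin m.n) : sigma hm (Nat.xor c 1) (sigma hm c k) = k := by
  apply Fin.ext
  rw [sigma_val hm _ h', sigma_val hm _ h]
  exact (hm.inv k k.2 c h).2

/-- the permutation of a letter -/
def permC (hm : ModelOK m bases subsL) (hev : ∀ c, c < m.nc → Nat.xor c 1 < m.nc) (c : ℕ) :
    Equiv.Perm (Fin m.n) :=
  if h : c < m.nc then
    { toFun := sigma hm c
      invFun := sigma hm (Nat.xor c 1)
      left_inv := fun k => sigma_sigma hm c h (hev c h) k
      right_inv := fun k => by
        have := sigma_sigma hm (Nat.xor c 1) (hev c h) (by rw [xor_xor_one]; exact h) k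
        rwa [xor_xor_one] at this }
  else 1

theorem permC_apply (hm : ModelOK m bases subsL) (hev : ∀ c, c < m.nc → Nat.xor c 1 < m.nc)
    (c : ℕ) (h : c < m.nc) (k : Fin m.n) : (permC hm hev c k).val = m.at c k := by
  unfold permC
  rw [dif_pos h]
  exact sigma_val hm c h k

theorem permC_inv (hm : ModelOK m bases subsL) (hev : ∀ c, c < m.nc → Nat.xor c 1 < m.nc)
    (c : ℕ) (h : c < m.nc) : (permC hm hev c)⁻¹ = permC hm hev (Nat.xor c 1) := by
  ext k
  rw [permC_apply hm hev _ (hev c h)]
  have : (permC hm hev c)⁻¹ k = sigma hm (Nat.xor c 1) k := by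
    unfold permC
    rw [dif_pos h]
    rfl
  rw [this, sigma_val hm _ (hev c h)]

variable {α : Type} {dec : ℕ → Letter α} {enc : α → ℕ}

/-- the permutation of a generator -/
def permG (hm : ModelOK m bases subsL) (hc : Coding dec enc m.nc) (x : α) : Equiv.Perm (Fin m.n) :=
  permC hm hc.nc_even (enc x)

theorem gl_permG (hm : ModelOK m bases subsL) (hc : Coding dec enc m.nc) (c : ℕ) (h : c < m.nc) :
    gl (permG hm hc) (dec c) = permC hm hc.nc_even c := by
  unfold gl
  by_cases hb : (dec c).2 = true
  · rw [if_pos hb]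
    unfold permG
    rw [hc.enc_dec c h hb]
  · rw [if_neg hb]
    unfold permG
    have h' := hc.nc_even c h
    have hd : dec (Nat.xor c 1) = ((dec c).1, true) := by
      rw [hc.dec_inv]
      unfold linv
      simp only [Bool.not_eq_true] at hb
      rw [hb]
      rfl
    have he : enc (dec c).1 = Nat.xor c 1 := by
      have := hc.enc_dec (Nat.xor c 1) h' (by rw [hd])
      rw [hd] at this
      exact this
    rw [he, permC_inv hm hc.nc_even _ h', xor_xor_one]

theorem evc_permG_apply (hm : ModelOK m bases subsL) (hc : Coding dec enc m.nc) (L : List ℕ)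
    (hL : ∀ c ∈ L, c < m.nc) (k : Fin m.n) :
    (evc (permG hm hc) dec L k).val = mtrace m L k.val := by
  induction L generalizing k with
  | nil => rfl
  | cons c cs ih =>
    rw [evc_cons, Equiv.Perm.mul_apply, ih (fun c' hc' => hL c' (List.mem_cons_of_mem _ hc')),
      gl_permG hm hc c (hL c List.mem_cons_self), permC_apply hm hc.nc_even c (hL c List.mem_cons_self)]
    rfl

theorem gl_cond {P : Type*} [Group P] (f : α → P) (l : Letter α) :
    gl f l = cond l.2 (f l.1) (f l.1)⁻¹ := by
  unfold gl
  cases l.2 <;> simp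

theorem lift_mk_reverse {P : Type*} [Group P] (f : α → P) (L : List (Letter α)) :
    FreeGroup.lift f (FreeGroup.mk L.reverse) = ev f L := by
  induction L with
  | nil => simp [ev, FreeGroup.one_eq_mk.symm]
  | cons l ls ih =>
    rw [List.reverse_cons, ← FreeGroup.mul_mk, map_mul, ih]
    show _ = ev f ls * gl f l
    congr 1
    rw [FreeGroup.lift_mk, gl_cond]
    simp

theorem map_gl {P Q : Type*} [Group P] [Group Q] (ψ : P →* Q) (f : α → P) (l : Letter α) :
    ψ (gl f l) = gl (fun x => ψ (f x)) l := by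
  unfold gl
  split_ifs <;> simp

theorem map_ev {P Q : Type*} [Group P] [Group Q] (ψ : P →* Q) (f : α → P) (L : List (Letter α)) :
    ψ (ev f L) = ev (fun x => ψ (f x)) L := by
  induction L with
  | nil => simp [ev]
  | cons l ls ih =>
    show ψ (ev f ls * gl f l) = ev _ ls * gl _ l
    rw [map_mul, ih, map_gl]

end Perm

end Cfsg.Agent.Helper4.TC
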