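import Cfsg.Agent.Lib.Helper4.TC.MatGL
import Cfsg.Agent.Lib.Helper4.TC.PresO73
import Cfsg.Prelude.Def_Classical

set_option autoImplicit false
set_option maxRecDepth 100000
set_option linter.unusedVariables false
set_option linter.style.haveILetI false

/-! Eight explicit isometries of the quadratic form `x₀² + x₁y₁ + x₂y₂ + x₃y₃` over the field
with three elements (negatives of reflections), as data. -/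

namespace Cfsg.Agent.Helper4.TC.O73Mat

open Cfsg.Agent.Helper4.TC Matrix

abbrev Idx : Type := Unit ⊕ (Fin 3 ⊕ Fin 3)

/-- numbering of the coordinates -/
def eps : Idx ≃ Fin 7 where
  toFun := Sum.elim (fun _ => 0) (Sum.elim ![1, 2, 3] ![4, 5, 6])
  invFun := ![.inl (), .inr (.inl 0), .inr (.inl 1), .inr (.inl 2), .inr (.inr 0), .inr (.inr 1),
    .inr (.inr 2)]
  left_inv := by
    intro x
    rcases x with ⟨⟩ | i | i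
    · rfl
    · fin_cases i <;> rfl
    · fin_cases i <;> rfl
  right_inv := by
    intro k
    fin_cases k <;> rfl

abbrev Gen := Cfsg.Agent.Helper4.Pres.O73.Gen

/-- the (upper triangular) matrix of the quadratic form -/
def aD : MatD 7 (ZMod 3) := ⟨[1, 0, 0, 0, 0, 0, 0, 0, 0, 0, 0, 1, 0, 0, 0, 0, 0, 0, 0, 1, 0, 0, 0, 0, 0, 0, 0, 1, 0, 0, 0, 0, 0, 0, 0, 0, 0, 0, 0, 0, 0, 0, 0, 0, 0, 0, 0, 0, 0]⟩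

def mB : MatD 7 (ZMod 3) := ⟨[0, 1, 2, 2, 1, 0, 0, 2, 1, 1, 1, 2, 0, 0, 0, 0, 2, 0, 0, 0, 0, 0, 0, 0, 2, 0, 0, 0, 2, 2, 1, 1, 1, 0, 0, 1, 1, 2, 2, 1, 2, 0, 1, 1, 2, 2, 1, 0, 2]⟩
def mC : MatD 7 (ZMod 3) := ⟨[0, 0, 1, 1, 0, 1, 0, 0, 2, 0, 0, 0, 0, 0, 2, 0, 1, 2, 0, 2, 0, 0, 0, 0, 2, 0, 0, 0, 0, 0, 0, 0, 2, 0, 0, 2, 0, 2, 2, 0, 1, 0, 2, 0, 2, 2, 0, 2, 2]⟩
def mD : MatD 7 (ZMod 3) := ⟨[0, 2, 1, 0, 1, 2, 0, 2, 0, 2, 0, 2, 1, 0, 1, 2, 0, 0, 1, 2, 0, 0, 0, 0, 2, 0, 0, 0, 1, 2, 1, 0, 0, 2, 0, 2, 1, 2, 0, 2, 0, 0, 0, 0, 0, 0, 0, 0, 2]⟩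
def mE : MatD 7 (ZMod 3) := ⟨[0, 1, 0, 0, 1, 2, 2, 2, 1, 0, 0, 2, 1, 1, 1, 1, 2, 0, 1, 2, 2, 1, 1, 0, 2, 1, 2, 2, 2, 2, 0, 0, 1, 1, 1, 0, 0, 0, 0, 0, 2, 0, 0, 0, 0, 0, 0, 0, 2]⟩
def mF : MatD 7 (ZMod 3) := ⟨[0, 1, 0, 2, 1, 1, 0, 2, 1, 0, 1, 2, 2, 0, 2, 2, 2, 1, 2, 2, 0, 0, 0, 0, 2, 0, 0, 0, 2, 2, 0, 1, 1, 2, 0, 0, 0, 0, 0, 0, 2, 0, 1, 1, 0, 2, 1, 1, 2]⟩
def mG : MatD 7 (ZMod 3) := ⟨[0, 1, 0, 1, 1, 1, 0, 2, 1, 0, 2, 2, 2, 0, 2, 2, 2, 2, 2, 2, 0, 0, 0, 0, 2, 0, 0, 0, 2, 2, 0, 2, 1, 2, 0, 0, 0, 0, 0, 0, 2, 0, 2, 2, 0, 2, 2, 2, 2]⟩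
def mH : MatD 7 (ZMod 3) := ⟨[2, 0, 0, 0, 0, 0, 0, 0, 0, 0, 0, 2, 0, 0, 0, 0, 2, 0, 0, 0, 0, 0, 0, 0, 2, 0, 0, 0, 0, 2, 0, 0, 0, 0, 0, 0, 0, 0, 0, 0, 2, 0, 0, 0, 0, 0, 0, 0, 2]⟩
def mI : MatD 7 (ZMod 3) := ⟨[2, 0, 0, 0, 0, 0, 0, 0, 2, 0, 0, 0, 0, 0, 0, 2, 0, 1, 0, 2, 0, 0, 0, 0, 2, 0, 0, 0, 0, 2, 1, 1, 2, 2, 0, 0, 1, 2, 2, 0, 0, 0, 0, 1, 2, 2, 0, 1, 2]⟩

def D : Gen → MatD 7 (ZMod 3)
  | .b => mB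
  | .c => mC
  | .d => mD
  | .e => mE
  | .f => mF
  | .g => mG
  | .h => mH
  | .i => mI

theorem hinvD : ∀ x, (D x).mul (D x) = MatD.one := by
  intro x; cases x <;> decide +kernel

theorem hpres : ∀ x, (((D x).tr.mul aD).mul (D x)).add (((D x).tr.mul aD).mul (D x)).tr = aD.add aD.tr := by
  intro x; cases x <;> decide +kernel

/-- the matrix of the quadratic form, explicitly -/
def aM : Matrix Idx Idx (ZMod 3) := fun i j =>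
  match i, j with
  | .inl (), .inl () => 1
  | .inr (.inl a), .inr (.inr b) => if a = b then 1 else 0
  | _, _ => 0

theorem aD_toMat : aD.toMatE eps = aM := by
  decide +kernel

theorem hQ (u : Idx → ZMod 3) : Cfsg.quadFormOdd 3 (ZMod 3) u = u ⬝ᵥ (aD.toMatE eps *ᵥ u) := by
  rw [aD_toMat]
  simp [Cfsg.quadFormOdd, Matrix.mulVec, dotProduct, Fintype.sum_sum_type, Fin.sum_univ_three, aM]
  ring

theorem h2 : ∀ x : ZMod 3, 2 * x = 0 → x = 0 := by decide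

/-- the isometry of a generator -/
noncomputable def glO (x : Gen) : GL Idx (ZMod 3) := glOf eps D D hinvD hinvD x

theorem glO_mem (x : Gen) : glO x ∈ Cfsg.isometryGroup (ZMod 3) (Cfsg.quadFormOdd 3 (ZMod 3)) := by
  intro u v
  show Cfsg.quadFormOdd 3 (ZMod 3) ((D x).toMatE eps *ᵥ u) = Cfsg.quadFormOdd 3 (ZMod 3) u
  rw [hQ, hQ]
  refine quad_invariant _ _ h2 ?_ u
  rw [← MatD.toMatE_tr, ← MatD.toMatE_mul, ← MatD.toMatE_mul, ← MatD.toMatE_tr, ← MatD.toMatE_add,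
    hpres x, MatD.toMatE_add, MatD.toMatE_tr]

end Cfsg.Agent.Helper4.TC.O73Mat
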