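import Cfsg.Agent.Lib.Helper4.TC.O73PE6aModel
import Cfsg.Agent.Lib.Helper4.TC.O73PE6aData
import Cfsg.Agent.Lib.Helper4.TC.Strict

set_option autoImplicit false
set_option maxRecDepth 100000
set_option linter.unusedVariables false
set_option Elab.async false

namespace Cfsg.Agent.Helper4.TC.O73PE6a

open Cfsg.Agent.Helper4.TC

theorem rel0 : relsRange mdata bases 190 0 = true := relsRange_strict mdata bases 190 0 (by decide +kernel)
theorem rel1 : relsRange mdata bases 174 190 = true := relsRange_strict mdata bases 174 190 (by decide +kernel)
theorem inv0 : invRange mdata 364 0 = true := invRange_strict mdata 364 0 (by decide +kernel)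
theorem tree0 : treeRange mdata 363 1 = true := treeRange_strict mdata 363 1 (by decide +kernel)
theorem closed1_0 : closedRange mdata subsL 1 244 243 1 = true := closedRange_strict mdata subsL 1 244 243 1 (by decide +kernel)
theorem reach1_0 : reachRange mdata subsL 1 242 2 = true := reachRange_strict mdata subsL 1 242 2 (by decide +kernel)
theorem closed2_0 : closedRange mdata subsL 244 364 120 244 = true := closedRange_strict mdata subsL 244 364 120 244 (by decide +kernel)
theorem reach2_0 : reachRange mdata subsL 244 119 245 = true := reachRange_strict mdata subsL 244 119 245 (by decide +kernel)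

end Cfsg.Agent.Helper4.TC.O73PE6a
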