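import Cfsg.Agent.Lib.Helper4.TC.Timed

set_option autoImplicit false
set_option maxRecDepth 100000
set_option linter.unusedVariables false

namespace Cfsg.Agent.Helper4.TC.O73PZ6

open Cfsg.Agent.Helper4.TC

def e0_0 : ℕ := 0xdd401e000000000000000000000000000000000000000000000000000000006f5004000000000000146a001
def j0_0 : ℕ := 0x100000000000000000000000000000000000000000000000000000000000000000000000000000001000000000000000000000001
noncomputable def ecol0 (b : ℕ) : ℕ := e0_0
noncomputable def jcol0 (b : ℕ) : ℕ := j0_0

def e1_0 : ℕ := 0x15006800000001901a000000000000000000000000002a003000000000000000000000000000d4018000000054000027800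
def j1_0 : ℕ := 0x2000000000000007e0000000000000000000000000000000000000002000000000000000000000000000000000000004600000000000000020000000e
noncomputable def ecol1 (b : ℕ) : ℕ := e1_0
noncomputable def jcol1 (b : ℕ) : ℕ := j1_0

def e2_0 : ℕ := 0xbd402000000000000000000000000000000000000000000000000000000000675004800000000000136a002
def j2_0 : ℕ := 0x100000000000000000000000000000000000000000000000000000000000000000000000000000001000000000000000000000001
noncomputable def ecol2 (b : ℕ) : ℕ := e2_0
noncomputable def jcol2 (b : ℕ) : ℕ := j2_0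

def e3_0 : ℕ := 0x2a00d000000000000001501a0000000000000000000054006000000000000000000000000000000000c40180a8000000000025800
def j3_0 : ℕ := 0x20000000000000000000000860000000000000000000000000000000200000000000000000000000000000000000000000000004e000000020000000000000016
noncomputable def ecol3 (b : ℕ) : ℕ := e3_0
noncomputable def jcol3 (b : ℕ) : ℕ := j3_0

def e4_0 : ℕ := 0x2101a00000000000000000000000000000000000000000000000000000000012400000000000000002a003
def j4_0 : ℕ := 0x4300000000000000000000000000000000000000000000000000000000000000000000000000000013000000000000000000000001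
noncomputable def ecol4 (b : ℕ) : ℕ := e4_0
noncomputable def jcol4 (b : ℕ) : ℕ := j4_0

def e5_0 : ℕ := 0x2001a000000000000000000000000000000000000000000000000000000000150000000000000000024003
def j5_0 : ℕ := 0x6d0000000000000000000000000000000000000000000000000000000000000000000000000000000200000000000000000000001d
noncomputable def ecol5 (b : ℕ) : ℕ := e5_0
noncomputable def jcol5 (b : ℕ) : ℕ := j5_0

def e6_0 : ℕ := 0x9d4022000000000000000000000000000000000000000000000000000000005f500500000000000011ea004
def j6_0 : ℕ := 0x100000000000000000000000000000000000000000000000000000000000000000000000000000001000000000000000000000001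
noncomputable def ecol6 (b : ℕ) : ℕ := e6_0
noncomputable def jcol6 (b : ℕ) : ℕ := j6_0

def e7_0 : ℕ := 0x5401a000000000000000000001101a00000000000000a800c000000000000000000000000000000002a00000b4018000000000000022800
def j7_0 : ℕ := 0x20000000000000000000000000000008e00000000000000000000000200000000000000000000000000000000000000000000000200000056000000000000000000000026
noncomputable def ecol7 (b : ℕ) : ℕ := e7_0
noncomputable def jcol7 (b : ℕ) : ℕ := j7_0

def e8_0 : ℕ := 0x7d40240000000000000000000000000000000000000000000000000000000057500580000000000010ea005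
def j8_0 : ℕ := 0x100000000000000000000000000000000000000000000000000000000000000000000000000000001000000000000000000000001
noncomputable def ecol8 (b : ℕ) : ℕ := e8_0
noncomputable def jcol8 (b : ℕ) : ℕ := j8_0

def e9_0 : ℕ := 0xa8034000000000000000000000000000d01a0000000150018000000000000000000000000000000005400000000000a4018000000000000020800
def j9_0 : ℕ := 0x200000000000000000000000000000000000000960000000000000002000000000000000000000000000000000000000000000002000000000000005e00000000000000000000002e
noncomputable def ecol9 (b : ℕ) : ℕ := e9_0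
noncomputable def jcol9 (b : ℕ) : ℕ := j9_0

def e10_0 : ℕ := 0x5d4026000000000000000000000000000000000000000000000000000000004f50060000000000000fea006
def j10_0 : ℕ := 0x100000000000000000000000000000000000000000000000000000000000000000000000000000001000000000000000000000001
noncomputable def ecol10 (b : ℕ) : ℕ := e10_0
noncomputable def jcol10 (b : ℕ) : ℕ := j10_0

def e11_0 : ℕ := 0x150068000000000000000000000000000000000901a02a003000000000000000000000000000000000a8000000000000000009401800000000000001e800
def j11_0 : ℕ := 0x200000000000000000000000000000000000000000000009e00000002000000000000000000000000000000000000000000000002000000000000000000000066000000000000000000000036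
noncomputable def ecol11 (b : ℕ) : ℕ := e11_0
noncomputable def jcol11 (b : ℕ) : ℕ := j11_0

def e12_0 : ℕ := 0x23006000000000000000000000000000000000000000000000000000000000150068000000000000029800
def j12_0 : ℕ := 0x3b00000000000000000000000000000000000000000000000000000000000000000000000000000001000000000000000000000004
noncomputable def ecol12 (b : ℕ) : ℕ := e12_0
noncomputable def jcol12 (b : ℕ) : ℕ := j12_0

def e13_0 : ℕ := 0x54006000000000000000000000000000000000000000000000000000000000088068000000000000029000
def j13_0 : ℕ := 0x20000000000000000000000000000000000000000000000000000000000000000000000000000006d000000000000000000000005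
noncomputable def ecol13 (b : ℕ) : ℕ := e13_0
noncomputable def jcol13 (b : ℕ) : ℕ := j13_0

def e14_0 : ℕ := 0x3d4028000000000000000000000000000000000000000000000000000000003f50070000000000000eea007
def j14_0 : ℕ := 0x100000000000000000000000000000000000000000000000000000000000000000000000000000001000000000000000000000001
noncomputable def ecol14 (b : ℕ) : ℕ := e14_0
noncomputable def jcol14 (b : ℕ) : ℕ := j14_0

def e15_0 : ℕ := 0x2a00d000000000000000000000000000000000a800c00501a00000000000000000000000000000000150000000000000000000000007401800000000000001c800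
def j15_0 : ℕ := 0x2000000000000000000000000000000000000000000000002000000a60000000000000000000000000000000000000000000000020000000000000000000000000000007600000000000000000000003e
noncomputable def ecol15 (b : ℕ) : ℕ := e15_0
noncomputable def jcol15 (b : ℕ) : ℕ := j15_0

def m_0 : ℕ := 0x1c034380d0a01a2c068400d1e03418069301a04034b80d0001a6c06870033e00c30018001a1400d380308006ac01830035e00c0801b30060000db8030e000ec00050007e0002000430000c0023800040000001810009a000000051000000000000
def jm_0 : ℕ := 0x610000005100000041000000310000001100000001000000610000000000000051000000410000003100000011000000010000006100000051000000410000003100000000000000110000000100000000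

noncomputable def mgT (b : ℕ) : ℕ := m_0
noncomputable def jmT (b : ℕ) : ℕ := jm_0
noncomputable def eT (c b : ℕ) : ℕ := Bool.rec (motive := fun _ => ℕ) (Bool.rec (motive := fun _ => ℕ) (Bool.rec (motive := fun _ => ℕ) (Bool.rec (motive := fun _ => ℕ) (ecol0 b) (ecol1 b) (Nat.ble 1 c)) (Bool.rec (motive := fun _ => ℕ) (ecol2 b) (ecol3 b) (Nat.ble 3 c)) (Nat.ble 2 c)) (Bool.rec (motive := fun _ => ℕ) (Bool.rec (motive := fun _ => ℕ) (ecol4 b) (ecol5 b) (Nat.ble 5 c)) (Bool.rec (motive := fun _ => ℕ) (ecol6 b) (ecol7 b) (Nat.ble 7 c)) (Nat.ble 6 c)) (Nat.ble 4 c)) (Bool.rec (motive := fun _ => ℕ) (Bool.rec (motive := fun _ => ℕ) (Bool.rec (motive := fun _ => ℕ) (ecol8 b) (ecol9 b) (Nat.ble 9 c)) (Bool.rec (motive := fun _ => ℕ) (ecol10 b) (ecol11 b) (Nat.ble 11 c)) (Nat.ble 10 c)) (Bool.rec (motive := fun _ => ℕ) (Bool.rec (motive := fun _ => ℕ) (ecol12 b) (ecol13 b) (Nat.ble 13 c)) (Bool.rec (motive := fun _ => ℕ) (ecol14 b) (ecol15 b) (Nat.ble 15 c)) (Nat.ble 14 c)) (Nat.ble 12 c)) (Nat.ble 8 c)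
noncomputable def jT (c b : ℕ) : ℕ := Bool.rec (motive := fun _ => ℕ) (Bool.rec (motive := fun _ => ℕ) (Bool.rec (motive := fun _ => ℕ) (Bool.rec (motive := fun _ => ℕ) (jcol0 b) (jcol1 b) (Nat.ble 1 c)) (Bool.rec (motive := fun _ => ℕ) (jcol2 b) (jcol3 b) (Nat.ble 3 c)) (Nat.ble 2 c)) (Bool.rec (motive := fun _ => ℕ) (Bool.rec (motive := fun _ => ℕ) (jcol4 b) (jcol5 b) (Nat.ble 5 c)) (Bool.rec (motive := fun _ => ℕ) (jcol6 b) (jcol7 b) (Nat.ble 7 c)) (Nat.ble 6 c)) (Nat.ble 4 c)) (Bool.rec (motive := fun _ => ℕ) (Bool.rec (motive := fun _ => ℕ) (Bool.rec (motive := fun _ => ℕ) (jcol8 b) (jcol9 b) (Nat.ble 9 c)) (Bool.rec (motive := fun _ => ℕ) (jcol10 b) (jcol11 b) (Nat.ble 11 c)) (Nat.ble 10 c)) (Bool.rec (motive := fun _ => ℕ) (Bool.rec (motive := fun _ => ℕ) (jcol12 b) (jcol13 b) (Nat.ble 13 c)) (Bool.rec (motive := fun _ => ℕ) (jcol14 b) (jcol15 b) (Nat.ble 15 c)) (Nat.ble 14 c)) (Nat.ble 12 c)) (Nat.ble 8 c)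

def rw0 : List ℕ := [0]
def rw1 : List ℕ := [2]
def rw2 : List ℕ := [4, 4]
def rw3 : List ℕ := [6]
def rw4 : List ℕ := [8]
def rw5 : List ℕ := [10]
def rw6 : List ℕ := [14]
def rw7 : List ℕ := [12, 12]
def rw8 : List ℕ := [4, 12, 4, 12, 4, 12]
noncomputable def relW (i : ℕ) : List ℕ := Bool.rec (motive := fun _ => List ℕ) (Bool.rec (motive := fun _ => List ℕ) (Bool.rec (motive := fun _ => List ℕ) (rw0) (rw1) (Nat.ble 1 i)) (Bool.rec (motive := fun _ => List ℕ) (rw2) (rw3) (Nat.ble 3 i)) (Nat.ble 2 i)) (Bool.rec (motive := fun _ => List ℕ) (Bool.rec (motive := fun _ => List ℕ) (rw4) (rw5) (Nat.ble 5 i)) (Bool.rec (motive := fun _ => List ℕ) (rw6) (Bool.rec (motive := fun _ => List ℕ) (rw7) (rw8) (Nat.ble 8 i)) (Nat.ble 7 i)) (Nat.ble 6 i)) (Nat.ble 4 i)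
def sw0 : List ℕ := [12]
noncomputable def subW (i : ℕ) : List ℕ := sw0

noncomputable def data : Data where
  w := 11
  mask := 2047
  tw := 7
  tmask := 127
  hsh := 18
  lsh := 29
  ew := 25
  emask := 33554431
  mw := 37
  mmask := 137438953471
  jw := 32
  jmask := 4294967295
  bsh := 11
  bmask := 2047
  nc := 16
  fuel := 3
  E := eT
  J := jT
  Mg := mgT
  JM := jmT
  relW := relW
  nrot := 9
  subW := subW
  nsub := 1

def M : ℕ := 21
def n : ℕ := 3

def bases : List (List ℕ) := [
  [4, 4],
  [12, 4, 12, 4, 12, 4],
  [4, 12, 4, 12, 4, 12],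
  [12, 12],
  [0],
  [2],
  [6],
  [8],
  [10],
  [14]
]

def rots : List (ℕ × ℕ) := [(4, 0), (5, 0), (0, 0), (6, 0), (7, 0), (8, 0), (9, 0), (3, 0), (1, 1)]

def subsL : List (List ℕ) := [
  [12]
]

end Cfsg.Agent.Helper4.TC.O73PZ6
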