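import Cfsg.Agent.Lib.Helper4.TC.ONSMain
import Cfsg.Agent.Lib.Helper4.TC.J1PSMain
import Cfsg.Agent.Lib.Helper4.TC.M11PSMain
import Cfsg.Agent.Lib.Helper4.TC.Embed
import Cfsg.Prelude.Def_Sporadic

set_option autoImplicit false
set_option maxRecDepth 100000
set_option linter.unusedVariables false

namespace Cfsg.Agent.Helper4.TC.ONJM

open Cfsg.Agent.Helper4.TC

abbrev Rset : Set (FreeGroup Cfsg.Spor.ON.Gen) := Cfsg.Spor.coxRelators Cfsg.Spor.ON.edges ∪ {r | r ∈ Cfsg.Spor.ON.extra}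
def pts : List ℕ := [0, 1, 9, 2]
def xw : List ℕ := [2]
def yJ : List ℕ := [12, 10, 0, 6, 8, 10, 2, 8, 12, 0, 10, 4, 1, 4, 8, 10, 1, 6, 2, 8, 2, 0, 2, 0, 6, 4, 2, 6, 4, 8, 6, 4, 2, 8, 6, 2, 12, 6, 10, 12, 2, 12, 8, 0, 0, 6, 12, 1, 10, 1, 12, 10, 12, 10, 12, 0, 10, 4, 12, 0, 4, 10, 8, 0, 2, 10, 2, 10, 4, 6, 8, 2, 4, 0, 6, 10, 0, 2, 1, 2, 4, 10, 12, 0, 6, 12, 8, 0, 6, 12, 6, 4, 10, 6, 8, 10, 1, 1, 6, 2, 6, 1, 2, 0, 4, 12, 0, 4, 8, 6, 2, 4, 6, 8, 4, 1, 12, 4, 1, 2, 0, 6, 2, 6, 0, 0, 10, 8, 6, 10, 4, 6, 12, 6, 1, 8, 12, 6, 1, 12, 10, 4, 2, 0, 2, 1, 10, 6, 1, 4, 2, 8, 6, 4, 10, 2, 10, 2, 1, 8, 10, 4, 1, 12, 4, 10, 1, 12, 10, 12, 10, 12, 0, 10, 0, 12, 6, 1, 1, 8, 12, 2, 12, 10, 6, 12, 2, 6, 8, 2, 4, 6, 8, 4, 6, 2, 4, 6, 1, 2, 1, 2, 8, 2, 6, 0, 10, 8, 4, 0, 4, 10, 1, 12, 8, 2, 10, 8, 6, 1, 10, 12]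
def yM : List ℕ := [1, 10, 8, 12, 8, 6, 4, 10, 12, 10, 6, 0, 2, 8, 0, 2, 12, 2, 10, 4, 12, 4, 0, 6, 10, 12, 4, 1, 2, 4, 1, 6, 2, 0, 10, 12, 0, 4, 8, 1, 4, 10, 2, 4, 0, 6, 4, 8, 6, 4, 1, 12, 8, 4, 2, 12, 0, 4, 0, 4, 8, 1, 4, 1, 8, 2, 6, 1, 1, 12, 8, 4, 0, 6, 4, 10, 1, 12, 4, 8, 1, 1, 1, 10, 6, 2, 1, 2, 6, 10, 0, 0, 0, 8, 4, 12, 0, 10, 4, 6, 1, 4, 8, 12, 0, 0, 6, 2, 8, 0, 4, 0, 8, 4, 1, 4, 1, 12, 2, 4, 8, 12, 0, 4, 6, 8, 4, 6, 1, 4, 2, 10, 4, 0, 8, 4, 1, 12, 10, 1, 2, 6, 0, 4, 2, 0, 4, 12, 10, 6, 1, 4, 12, 4, 10, 2, 12, 2, 1, 8, 2, 1, 6, 10, 12, 10, 4, 6, 8, 12, 8, 10, 0]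

def sigJ : Cfsg.Agent.Helper4.Pres.J1.Gen → List ℕ
  | .a => xw
  | .b => yJ

def sigM : Cfsg.Agent.Helper4.Pres.M11.Gen → List ℕ
  | .a => xw
  | .b => yM

theorem chkJ : ∀ b ∈ J1PL211.bases, fixesB ONL37.mdata pts (substW sigJ J1PL211.dec b) = true := by decide +kernel
theorem chkM : ∀ b ∈ M11PM10.bases, fixesB ONL37.mdata pts (substW sigM M11PM10.dec b) = true := by decide +kernel
theorem hxw : (∀ c ∈ xw, c < ONL37.mdata.nc) ∧ mtrace ONL37.mdata xw 2 ≠ 2 := by decide +kernel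

theorem main : ∃ H : Subgroup (Equiv.Perm (Fin 122760)), Cfsg.IsON H ∧ MulAction.IsPretransitive H (Fin 122760) ∧ Nat.card (MulAction.stabilizer H (0 : Fin 122760)) = 3753792 ∧ (∃ K : Subgroup H, Cfsg.IsJ1 K) ∧ (∃ K : Subgroup H, Cfsg.IsM11 K) := by
  haveI : IsSimpleGroup (PresentedGroup Rset) := ONS.main.1
  haveI : Finite (PresentedGroup Rset) := ONS.card_top.1
  obtain ⟨hs, hc, hpre, hst⟩ := range_facts (by decide : 2 ≤ ONL37.mdata.n) (modelHom ONL37.coding ONL37.hR1 ONL37.model_ok)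
    ⟨0, ONL37.model_ok.npos⟩ (modelHom_trans ONL37.coding ONL37.hR1 ONL37.model_ok)
  have hmove : modelHom ONL37.coding ONL37.hR1 ONL37.model_ok (PresentedGroup.mk Rset (wordF ONL37.dec xw)) ≠ 1 := by
    intro h
    have h1 := modelHom_word ONL37.coding ONL37.hR1 ONL37.model_ok xw hxw.1 ⟨2, by decide⟩
    rw [h, Equiv.Perm.one_apply] at h1
    exact hxw.2 h1.symm
  refine ⟨(modelHom ONL37.coding ONL37.hR1 ONL37.model_ok).range, ⟨hs, hc.trans ONS.main.2⟩, hpre, ?_, ?_, ?_⟩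
  · have h1 := hst inferInstance
    have h2 : Nat.card (PresentedGroup ONL37.Rset) = 3753792 * 122760 := ONS.main.2.trans (by norm_num)
    exact Nat.eq_of_mul_eq_mul_right (by norm_num : 0 < 122760) (h1.trans h2)
  · haveI : IsSimpleGroup (PresentedGroup J1PS.Rset) := J1PS.main.1
    obtain ⟨ψ, hψ⟩ := exists_hom_of_subst ONL37.coding ONL37.hR1 ONL37.model_ok 460815505920 (by norm_num) ONS.card_top
      ONS.specs ONS.levels_ok (by decide) J1PS.Rset J1PL211.bases J1PL211.hR1 sigJ pts rfl chkJ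
    obtain ⟨K, hK1, hK2⟩ := exists_simple_subgroup ((modelHom ONL37.coding ONL37.hR1 ONL37.model_ok).comp ψ)
      ⟨PresentedGroup.of .a, by rw [MonoidHom.comp_apply, hψ]; exact hmove⟩ (modelHom ONL37.coding ONL37.hR1 ONL37.model_ok).range
      (by rintro _ ⟨x, rfl⟩; exact ⟨ψ x, rfl⟩)
    exact ⟨K, hK1, hK2.trans J1PS.main.2⟩
  · haveI : IsSimpleGroup (PresentedGroup M11PS.Rset) := M11PS.main.1
    obtain ⟨ψ, hψ⟩ := exists_hom_of_subst ONL37.coding ONL37.hR1 ONL37.model_ok 460815505920 (by norm_num) ONS.card_top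
      ONS.specs ONS.levels_ok (by decide) M11PS.Rset M11PM10.bases M11PM10.hR1 sigM pts rfl chkM
    obtain ⟨K, hK1, hK2⟩ := exists_simple_subgroup ((modelHom ONL37.coding ONL37.hR1 ONL37.model_ok).comp ψ)
      ⟨PresentedGroup.of .a, by rw [MonoidHom.comp_apply, hψ]; exact hmove⟩ (modelHom ONL37.coding ONL37.hR1 ONL37.model_ok).range
      (by rintro _ ⟨x, rfl⟩; exact ⟨ψ x, rfl⟩)
    exact ⟨K, hK1, hK2.trans M11PS.main.2⟩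

end Cfsg.Agent.Helper4.TC.ONJM
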