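import Cfsg.Agent.Lib.Helper4.TC.ONL37Data
import Cfsg.Agent.Lib.Helper4.TC.Strict

set_option autoImplicit false
set_option maxRecDepth 100000
set_option linter.unusedVariables false
set_option Elab.async false

namespace Cfsg.Agent.Helper4.TC.ONL37

open Cfsg.Agent.Helper4.TC

theorem cnt0 : countFinal data 50000 0 0 = 32263 := countFinal_strict data 50000 0 0 32263 (by decide +kernel)
theorem cnt1 : countFinal data 50000 50000 0 = 26405 := countFinal_strict data 50000 50000 0 26405 (by decide +kernel)
theorem cnt2 : countFinal data 50000 100000 0 = 22212 := countFinal_strict data 50000 100000 0 22212 (by decide +kernel)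
theorem cnt3 : countFinal data 49751 150000 0 = 41880 := countFinal_strict data 49751 150000 0 41880 (by decide +kernel)
theorem rows0 : rowsRange data 199751 1528 0 = true := rowsRange_strict data 199751 1528 0 (by decide +kernel)
theorem rows1 : rowsRange data 199751 1632 1528 = true := rowsRange_strict data 199751 1632 1528 (by decide +kernel)
theorem rows2 : rowsRange data 199751 1820 3160 = true := rowsRange_strict data 199751 1820 3160 (by decide +kernel)
theorem rows3 : rowsRange data 199751 1604 4980 = true := rowsRange_strict data 199751 1604 4980 (by decide +kernel)

end Cfsg.Agent.Helper4.TC.ONL37
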