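import Cfsg.Agent.Lib.Helper4.TC.ONL37Model
import Cfsg.Agent.Lib.Helper4.TC.ONL37Data
import Cfsg.Agent.Lib.Helper4.TC.Strict

set_option autoImplicit false
set_option maxRecDepth 100000
set_option linter.unusedVariables false
set_option Elab.async false

namespace Cfsg.Agent.Helper4.TC.ONL37

open Cfsg.Agent.Helper4.TC

theorem rel176 : relsRange mdata bases 322 56672 = true := relsRange_strict mdata bases 322 56672 (by decide +kernel)
theorem rel177 : relsRange mdata bases 322 56994 = true := relsRange_strict mdata bases 322 56994 (by decide +kernel)
theorem rel178 : relsRange mdata bases 322 57316 = true := relsRange_strict mdata bases 322 57316 (by decide +kernel)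
theorem rel179 : relsRange mdata bases 322 57638 = true := relsRange_strict mdata bases 322 57638 (by decide +kernel)
theorem rel180 : relsRange mdata bases 322 57960 = true := relsRange_strict mdata bases 322 57960 (by decide +kernel)
theorem rel181 : relsRange mdata bases 322 58282 = true := relsRange_strict mdata bases 322 58282 (by decide +kernel)
theorem rel182 : relsRange mdata bases 322 58604 = true := relsRange_strict mdata bases 322 58604 (by decide +kernel)
theorem rel183 : relsRange mdata bases 322 58926 = true := relsRange_strict mdata bases 322 58926 (by decide +kernel)

end Cfsg.Agent.Helper4.TC.ONL37
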