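import Cfsg.Agent.Lib.Helper4.TC.ONL37Model
import Cfsg.Agent.Lib.Helper4.TC.ONL37Data
import Cfsg.Agent.Lib.Helper4.TC.Strict

set_option autoImplicit false
set_option maxRecDepth 100000
set_option linter.unusedVariables false
set_option Elab.async false

namespace Cfsg.Agent.Helper4.TC.ONL37

open Cfsg.Agent.Helper4.TC

theorem rel32 : relsRange mdata bases 322 10304 = true := relsRange_strict mdata bases 322 10304 (by decide +kernel)
theorem rel33 : relsRange mdata bases 322 10626 = true := relsRange_strict mdata bases 322 10626 (by decide +kernel)
theorem rel34 : relsRange mdata bases 322 10948 = true := relsRange_strict mdata bases 322 10948 (by decide +kernel)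
theorem rel35 : relsRange mdata bases 322 11270 = true := relsRange_strict mdata bases 322 11270 (by decide +kernel)
theorem rel36 : relsRange mdata bases 322 11592 = true := relsRange_strict mdata bases 322 11592 (by decide +kernel)
theorem rel37 : relsRange mdata bases 322 11914 = true := relsRange_strict mdata bases 322 11914 (by decide +kernel)
theorem rel38 : relsRange mdata bases 322 12236 = true := relsRange_strict mdata bases 322 12236 (by decide +kernel)
theorem rel39 : relsRange mdata bases 322 12558 = true := relsRange_strict mdata bases 322 12558 (by decide +kernel)

end Cfsg.Agent.Helper4.TC.ONL37
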