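import Cfsg.Agent.Lib.Helper4.TC.ONL37Model
import Cfsg.Agent.Lib.Helper4.TC.ONL37Data
import Cfsg.Agent.Lib.Helper4.TC.Strict

set_option autoImplicit false
set_option maxRecDepth 100000
set_option linter.unusedVariables false
set_option Elab.async false

namespace Cfsg.Agent.Helper4.TC.ONL37

open Cfsg.Agent.Helper4.TC

theorem rel320 : relsRange mdata bases 322 103040 = true := relsRange_strict mdata bases 322 103040 (by decide +kernel)
theorem rel321 : relsRange mdata bases 322 103362 = true := relsRange_strict mdata bases 322 103362 (by decide +kernel)
theorem rel322 : relsRange mdata bases 322 103684 = true := relsRange_strict mdata bases 322 103684 (by decide +kernel)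
theorem rel323 : relsRange mdata bases 322 104006 = true := relsRange_strict mdata bases 322 104006 (by decide +kernel)
theorem rel324 : relsRange mdata bases 322 104328 = true := relsRange_strict mdata bases 322 104328 (by decide +kernel)
theorem rel325 : relsRange mdata bases 322 104650 = true := relsRange_strict mdata bases 322 104650 (by decide +kernel)
theorem rel326 : relsRange mdata bases 322 104972 = true := relsRange_strict mdata bases 322 104972 (by decide +kernel)
theorem rel327 : relsRange mdata bases 322 105294 = true := relsRange_strict mdata bases 322 105294 (by decide +kernel)

end Cfsg.Agent.Helper4.TC.ONL37
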