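import Cfsg.Agent.Lib.Helper4.TC.ONL37Model
import Cfsg.Agent.Lib.Helper4.TC.ONL37Data
import Cfsg.Agent.Lib.Helper4.TC.Strict

set_option autoImplicit false
set_option maxRecDepth 100000
set_option linter.unusedVariables false
set_option Elab.async false

namespace Cfsg.Agent.Helper4.TC.ONL37

open Cfsg.Agent.Helper4.TC

theorem closed1_7 : closedRange mdata subsL 1 58654 6666 46663 = true := closedRange_strict mdata subsL 1 58654 6666 46663 (by decide +kernel)
theorem closed1_8 : closedRange mdata subsL 1 58654 5325 53329 = true := closedRange_strict mdata subsL 1 58654 5325 53329 (by decide +kernel)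
theorem reach1_0 : reachRange mdata subsL 1 16000 2 = true := reachRange_strict mdata subsL 1 16000 2 (by decide +kernel)
theorem reach1_1 : reachRange mdata subsL 1 16000 16002 = true := reachRange_strict mdata subsL 1 16000 16002 (by decide +kernel)
theorem reach1_2 : reachRange mdata subsL 1 16000 32002 = true := reachRange_strict mdata subsL 1 16000 32002 (by decide +kernel)
theorem reach1_3 : reachRange mdata subsL 1 10652 48002 = true := reachRange_strict mdata subsL 1 10652 48002 (by decide +kernel)
theorem closed2_0 : closedRange mdata subsL 58654 110790 6666 58654 = true := closedRange_strict mdata subsL 58654 110790 6666 58654 (by decide +kernel)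
theorem closed2_1 : closedRange mdata subsL 58654 110790 6666 65320 = true := closedRange_strict mdata subsL 58654 110790 6666 65320 (by decide +kernel)

end Cfsg.Agent.Helper4.TC.ONL37
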