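import Cfsg.Agent.Lib.Helper4.TC.ONSMain
import Cfsg.Agent.Lib.Helper4.TC.L37Iso
import Cfsg.Agent.Lib.Helper4.TC.Embed2

set_option autoImplicit false
set_option maxRecDepth 100000
set_option linter.unusedVariables false

namespace Cfsg.Agent.Helper4.TC.ONL3

open Cfsg.Agent.Helper4.TC

abbrev Rset : Set (FreeGroup Cfsg.Spor.ON.Gen) := Cfsg.Spor.coxRelators Cfsg.Spor.ON.edges ∪ {r | r ∈ Cfsg.Spor.ON.extra}
def pts : List ℕ := [0, 1, 9, 2]
def sPieces : List (List ℕ) := [[2], [4], [6], [8], [10], [12]]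
def tPieces : List (List ℕ) := [[2], [6]]
def sw : List ℕ := sPieces.flatten
def tw : List ℕ := tPieces.flatten

def sig : Cfsg.Agent.Helper4.Pres.L37.Gen → List ℕ
  | .a => sw
  | .b => tw

theorem chk : ∀ b ∈ L37PP57.bases, fixesB ONL37.mdata pts (substW sig L37PP57.dec b) = true := by decide +kernel
theorem htw : (∀ c ∈ tw, c < ONL37.mdata.nc) ∧ mtrace ONL37.mdata tw 1 ≠ 1 := by decide +kernel
theorem hpieces : (∀ b ∈ sPieces, b ∈ ONL37.subsL) ∧ (∀ b ∈ tPieces, b ∈ ONL37.subsL) := by decide +kernel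

/-- the homomorphism from the presented linear group into the presented O'Nan group -/
theorem exists_psi : ∃ ψ : PresentedGroup L37PS.Rset →* PresentedGroup Rset,
    ∀ x, ψ (PresentedGroup.of x) = PresentedGroup.mk Rset (wordF ONL37.dec (sig x)) :=
  exists_hom_of_subst ONL37.coding ONL37.hR1 ONL37.model_ok 460815505920 (by norm_num) ONS.card_top
    ONS.specs ONS.levels_ok (by decide) L37PS.Rset L37PP57.bases L37PP57.hR1 sig pts rfl chk

theorem hmove : modelHom ONL37.coding ONL37.hR1 ONL37.model_ok (PresentedGroup.mk Rset (wordF ONL37.dec tw)) ≠ 1 := by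
  intro h
  have h1 := modelHom_word ONL37.coding ONL37.hR1 ONL37.model_ok tw htw.1 ⟨1, by decide⟩
  rw [h, Equiv.Perm.one_apply] at h1
  exact htw.2 h1.symm

theorem s1693 : ∃ N : Subgroup ((Subgroup.closure ONL37.Sset).map (PresentedGroup.mk Rset)), N.Normal ∧ N.index = 2 ∧ Nonempty (N ≃* Matrix.ProjectiveSpecialLinearGroup (Fin 3) (ZMod 7)) := by
  haveI : IsSimpleGroup (PresentedGroup L37PS.Rset) := L37PS.main.1
  haveI : Finite (PresentedGroup Rset) := ONS.card_top.1
  obtain ⟨ψ, hψ⟩ := exists_psi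
  have hne : ∃ x, ψ x ≠ 1 := by
    refine ⟨PresentedGroup.of .b, fun h => hmove ?_⟩
    rw [hψ] at h
    show modelHom ONL37.coding ONL37.hR1 ONL37.model_ok (PresentedGroup.mk Rset (wordF ONL37.dec (sig .b))) = 1
    rw [h, map_one]
  have hgen : ∀ b ∈ ONL37.subsL, PresentedGroup.mk Rset (wordF ONL37.dec b) ∈ ((Subgroup.closure ONL37.Sset).map (PresentedGroup.mk Rset)) :=
    fun b hb => Subgroup.mem_map_of_mem _ (Subgroup.subset_closure (ONL37.hS2 b hb))
  have hle : ψ.range ≤ ((Subgroup.closure ONL37.Sset).map (PresentedGroup.mk Rset)) := by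
    refine range_le_of_gens ψ _ fun x => ?_
    rw [hψ]
    cases x
    · exact mk_flatten_mem _ sPieces fun b hb => hgen b (hpieces.1 b hb)
    · exact mk_flatten_mem _ tPieces fun b hb => hgen b (hpieces.2 b hb)
  have hcard : Nat.card ((Subgroup.closure ONL37.Sset).map (PresentedGroup.mk Rset)) = 2 * Nat.card (PresentedGroup L37PS.Rset) := by
    have h1 := ((Subgroup.closure ONL37.Sset).map (PresentedGroup.mk Rset)).card_mul_index
    rw [ONL37.main.1, ONS.main.2] at h1
    rw [L37PS.main.2]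
    have h2 : (460815505920 : ℕ) = 2 * 1876896 * 122760 := by norm_num
    rw [h2] at h1
    exact Nat.eq_of_mul_eq_mul_right (by norm_num : 0 < 122760) h1
  obtain ⟨N, hN, hidx, ⟨e⟩⟩ := index_two_of_hom ψ hne _ hle hcard
  obtain ⟨e2⟩ := L37Iso.iso
  exact ⟨N, hN, hidx, ⟨e.trans e2⟩⟩

end Cfsg.Agent.Helper4.TC.ONL3
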