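import Cfsg.Agent.Lib.Helper4.TC.Timed

set_option autoImplicit false
set_option maxRecDepth 100000
set_option linter.unusedVariables false

namespace Cfsg.Agent.Helper4.TC.ONZ4

open Cfsg.Agent.Helper4.TC

def e0_0 : ℕ := 0x4eb010000000000000000000000000053580580000000000000000000000003dac01800000146b001
def j0_0 : ℕ := 0x1000000000000000000000000000000000000000100000000000000000000000000000000000000010000000000000001
noncomputable def ecol0 (b : ℕ) : ℕ := e0_0
noncomputable def jcol0 (b : ℕ) : ℕ := j0_0

def e1_0 : ℕ := 0x2b00c000000000000000000000880c0158038000000000000000000009c0380ac0080000000000000000000076008056000027800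
def j1_0 : ℕ := 0x200000000000000000000000000000086000000020000000000000000000000000000005e0000000200000000000000000000000000000036000000020000000e
noncomputable def ecol1 (b : ℕ) : ℕ := e1_0
noncomputable def jcol1 (b : ℕ) : ℕ := j1_0

def e2_0 : ℕ := 0x1180c000000000000000000000000000dc038000000000000000000000000009a00000000002b002
def j2_0 : ℕ := 0x4b000000000000000000000000000000000000003b000000000000000000000000000000000000000b0000000000000001
noncomputable def ecol2 (b : ℕ) : ℕ := e2_0
noncomputable def jcol2 (b : ℕ) : ℕ := j2_0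

def e3_0 : ℕ := 0x1100c000000000000000000000000000d803800000000000000000000000000ac000000000026002
def j3_0 : ℕ := 0x65000000000000000000000000000000000000003d00000000000000000000000000000000000000020000000000000015
noncomputable def ecol3 (b : ℕ) : ℕ := e3_0
noncomputable def jcol3 (b : ℕ) : ℕ := j3_0

def e4_0 : ℕ := 0x1080c000000000000000000000000000e401000000000000000000000000000ac01c00000002a800
def j4_0 : ℕ := 0x53000000000000000000000000000000000000003300000000000000000000000000000000000000010000000000000004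
noncomputable def ecol4 (b : ℕ) : ℕ := e4_0
noncomputable def jcol4 (b : ℕ) : ℕ := j4_0

def e5_0 : ℕ := 0x1000c00000000000000000000000000158010000000000000000000000000007001c00000002a000
def j5_0 : ℕ := 0x650000000000000000000000000000000000000002000000000000000000000000000000000000003d0000000000000005
noncomputable def ecol5 (b : ℕ) : ℕ := e5_0
noncomputable def jcol5 (b : ℕ) : ℕ := j5_0

def e6_0 : ℕ := 0x12807000000000000000000000000001580600000000000000000000000000096008000000029800
def j6_0 : ℕ := 0x4300000000000000000000000000000000000000010000000000000000000000000000000000000013000000000000000c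
noncomputable def ecol6 (b : ℕ) : ℕ := e6_0
noncomputable def jcol6 (b : ℕ) : ℕ := j6_0

def e7_0 : ℕ := 0x2b007000000000000000000000000000900600000000000000000000000000094008000000029000
def j7_0 : ℕ := 0x2000000000000000000000000000000000000006500000000000000000000000000000000000000150000000000000005
noncomputable def ecol7 (b : ℕ) : ℕ := e7_0
noncomputable def jcol7 (b : ℕ) : ℕ := j7_0

def e8_0 : ℕ := 0x3eb01100000000000000000000000003f5806800000000000000000000000035ac02000000126b003
def j8_0 : ℕ := 0x1000000000000000000000000000000000000000100000000000000000000000000000000000000010000000000000001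
noncomputable def ecol8 (b : ℕ) : ℕ := e8_0
noncomputable def jcol8 (b : ℕ) : ℕ := j8_0

def e9_0 : ℕ := 0x56018000000000000000000005600e00680c000000000000000000002b00200740380000000000000000000158000066008000000023800
def j9_0 : ℕ := 0x2000000000000000000000000000000020000008e000000000000000000000000000000020000006e0000000000000000000000000000000200000046000000000000001e
noncomputable def ecol9 (b : ℕ) : ℕ := e9_0
noncomputable def jcol9 (b : ℕ) : ℕ := j9_0

def e10_0 : ℕ := 0x2eb0120000000000000000000000000375807000000000000000000000000031ac02400000116b004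
def j10_0 : ℕ := 0x1000000000000000000000000000000000000000100000000000000000000000000000000000000010000000000000001
noncomputable def ecol10 (b : ℕ) : ℕ := e10_0
noncomputable def jcol10 (b : ℕ) : ℕ := j10_0

def e11_0 : ℕ := 0xac03000000000000000000000ac01c00000000480c0000000000000056004000000006403800000000000002b000000000005e008000000021800
def j11_0 : ℕ := 0x20000000000000000000000000000000200000000000000960000000000000000000000020000000000000076000000000000000000000002000000000000004e0000000000000026
noncomputable def ecol11 (b : ℕ) : ℕ := e11_0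
noncomputable def jcol11 (b : ℕ) : ℕ := j11_0

def e12_0 : ℕ := 0x1eb01300000000000000000000000002f580780000000000000000000000002dac02800000106b005
def j12_0 : ℕ := 0x1000000000000000000000000000000000000000100000000000000000000000000000000000000010000000000000001
noncomputable def ecol12 (b : ℕ) : ℕ := e12_0
noncomputable def jcol12 (b : ℕ) : ℕ := j12_0

def e13_0 : ℕ := 0x158060000000000000000000015803800000000000000280c00000000ac0080000000000000054038000000056000000000000000005600800000001f800
def j13_0 : ℕ := 0x20000000000000000000000000000000200000000000000000000009e000000000000000200000000000000000000007e0000000000000002000000000000000000000056000000000000002e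
noncomputable def ecol13 (b : ℕ) : ℕ := e13_0
noncomputable def jcol13 (b : ℕ) : ℕ := j13_0

def m_0 : ℕ := 0xc0181c060500c1603020060f01800030980c0c00e5c03850073601c20039f00e0c01c000c0000ea403860025a00828013100410009a802040040003800027a0083000410001400228000800124000100000008000051000000000000
def jm_0 : ℕ := 0x5100000041000000310000000100000051000000410000003100000000000000010000005100000041000000310000000000000001000000510000004100000031000000000000000100000000

noncomputable def mgT (b : ℕ) : ℕ := m_0
noncomputable def jmT (b : ℕ) : ℕ := jm_0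
noncomputable def eT (c b : ℕ) : ℕ := Bool.rec (motive := fun _ => ℕ) (Bool.rec (motive := fun _ => ℕ) (Bool.rec (motive := fun _ => ℕ) (ecol0 b) (Bool.rec (motive := fun _ => ℕ) (ecol1 b) (ecol2 b) (Nat.ble 2 c)) (Nat.ble 1 c)) (Bool.rec (motive := fun _ => ℕ) (Bool.rec (motive := fun _ => ℕ) (ecol3 b) (ecol4 b) (Nat.ble 4 c)) (Bool.rec (motive := fun _ => ℕ) (ecol5 b) (ecol6 b) (Nat.ble 6 c)) (Nat.ble 5 c)) (Nat.ble 3 c)) (Bool.rec (motive := fun _ => ℕ) (Bool.rec (motive := fun _ => ℕ) (ecol7 b) (Bool.rec (motive := fun _ => ℕ) (ecol8 b) (ecol9 b) (Nat.ble 9 c)) (Nat.ble 8 c)) (Bool.rec (motive := fun _ => ℕ) (Bool.rec (motive := fun _ => ℕ) (ecol10 b) (ecol11 b) (Nat.ble 11 c)) (Bool.rec (motive := fun _ => ℕ) (ecol12 b) (ecol13 b) (Nat.ble 13 c)) (Nat.ble 12 c)) (Nat.ble 10 c)) (Nat.ble 7 c)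
noncomputable def jT (c b : ℕ) : ℕ := Bool.rec (motive := fun _ => ℕ) (Bool.rec (motive := fun _ => ℕ) (Bool.rec (motive := fun _ => ℕ) (jcol0 b) (Bool.rec (motive := fun _ => ℕ) (jcol1 b) (jcol2 b) (Nat.ble 2 c)) (Nat.ble 1 c)) (Bool.rec (motive := fun _ => ℕ) (Bool.rec (motive := fun _ => ℕ) (jcol3 b) (jcol4 b) (Nat.ble 4 c)) (Bool.rec (motive := fun _ => ℕ) (jcol5 b) (jcol6 b) (Nat.ble 6 c)) (Nat.ble 5 c)) (Nat.ble 3 c)) (Bool.rec (motive := fun _ => ℕ) (Bool.rec (motive := fun _ => ℕ) (jcol7 b) (Bool.rec (motive := fun _ => ℕ) (jcol8 b) (jcol9 b) (Nat.ble 9 c)) (Nat.ble 8 c)) (Bool.rec (motive := fun _ => ℕ) (Bool.rec (motive := fun _ => ℕ) (jcol10 b) (jcol11 b) (Nat.ble 11 c)) (Bool.rec (motive := fun _ => ℕ) (jcol12 b) (jcol13 b) (Nat.ble 13 c)) (Nat.ble 12 c)) (Nat.ble 10 c)) (Nat.ble 7 c)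

def rw0 : List ℕ := [0]
def rw1 : List ℕ := [2, 2]
def rw2 : List ℕ := [6, 2, 6, 2]
def rw3 : List ℕ := [8]
def rw4 : List ℕ := [10]
def rw5 : List ℕ := [12]
def rw6 : List ℕ := [4, 4]
def rw7 : List ℕ := [2, 4, 2, 4, 2, 4]
def rw8 : List ℕ := [6, 6]
def rw9 : List ℕ := [2, 6, 2, 6]
def rw10 : List ℕ := [4, 6, 4, 6, 4, 6]
noncomputable def relW (i : ℕ) : List ℕ := Bool.rec (motive := fun _ => List ℕ) (Bool.rec (motive := fun _ => List ℕ) (Bool.rec (motive := fun _ => List ℕ) (rw0) (rw1) (Nat.ble 1 i)) (Bool.rec (motive := fun _ => List ℕ) (rw2) (Bool.rec (motive := fun _ => List ℕ) (rw3) (rw4) (Nat.ble 4 i)) (Nat.ble 3 i)) (Nat.ble 2 i)) (Bool.rec (motive := fun _ => List ℕ) (Bool.rec (motive := fun _ => List ℕ) (rw5) (Bool.rec (motive := fun _ => List ℕ) (rw6) (rw7) (Nat.ble 7 i)) (Nat.ble 6 i)) (Bool.rec (motive := fun _ => List ℕ) (rw8) (Bool.rec (motive := fun _ => List ℕ) (rw9) (rw10) (Nat.ble 10 i)) (Nat.ble 9 i)) (Nat.ble 8 i)) (Nat.ble 5 i)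
def sw0 : List ℕ := [4]
def sw1 : List ℕ := [6]
noncomputable def subW (i : ℕ) : List ℕ := Bool.rec (motive := fun _ => List ℕ) (sw0) (sw1) (Nat.ble 1 i)

noncomputable def data : Data where
  w := 11
  mask := 2047
  tw := 7
  tmask := 127
  hsh := 18
  lsh := 29
  ew := 25
  emask := 33554431
  mw := 37
  mmask := 137438953471
  jw := 32
  jmask := 4294967295
  bsh := 11
  bmask := 2047
  nc := 14
  fuel := 3
  E := eT
  J := jT
  Mg := mgT
  JM := jmT
  relW := relW
  nrot := 11
  subW := subW
  nsub := 2

def M : ℕ := 20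
def n : ℕ := 4

def bases : List (List ℕ) := [
  [2, 2],
  [4, 2, 4, 2, 4, 2],
  [6, 2, 6, 2],
  [2, 4, 2, 4, 2, 4],
  [4, 4],
  [6, 4, 6, 4, 6, 4],
  [2, 6, 2, 6],
  [4, 6, 4, 6, 4, 6],
  [6, 6],
  [0],
  [8],
  [10],
  [12]
]

def rots : List (ℕ × ℕ) := [(9, 0), (0, 0), (2, 0), (10, 0), (11, 0), (12, 0), (4, 0), (1, 1), (8, 0), (2, 1), (5, 1)]

def subsL : List (List ℕ) := [
  [4],
  [6]
]

end Cfsg.Agent.Helper4.TC.ONZ4
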