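import Cfsg.Agent.Lib.Helper4.TC.Timed

set_option autoImplicit false
set_option maxRecDepth 100000
set_option linter.unusedVariables false

namespace Cfsg.Agent.Helper4.TC.ONZ5

open Cfsg.Agent.Helper4.TC

def e0_0 : ℕ := 0xbc801a00000000000000000000000000000005f20038000000000001164001
def j0_0 : ℕ := 0x1000000000000000000000000000000000000000000000001000000000000000000000001
noncomputable def ecol0 (b : ℕ) : ℕ := e0_0
noncomputable def jcol0 (b : ℕ) : ℕ := j0_0

def e1_0 : ℕ := 0x480120000000000000000000015012000000012001800000000000000000000b4018000000048000021800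
def j1_0 : ℕ := 0x20000000000000000000000000000006e00000000000000020000000000000000000000000000003e00000000000000020000000e
noncomputable def ecol1 (b : ℕ) : ℕ := e1_0
noncomputable def jcol1 (b : ℕ) : ℕ := j1_0

def e2_0 : ℕ := 0x9c801c00000000000000000000000000000005720040000000000001064002
def j2_0 : ℕ := 0x1000000000000000000000000000000000000000000000001000000000000000000000001
noncomputable def ecol2 (b : ℕ) : ℕ := e2_0
noncomputable def jcol2 (b : ℕ) : ℕ := j2_0

def e3_0 : ℕ := 0x900240000000000000000000000000011012024003000000000000000000000000000a401809000000000001f800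
def j3_0 : ℕ := 0x20000000000000000000000000000000000000076000000020000000000000000000000000000000000000046000000020000000000000016
noncomputable def ecol3 (b : ℕ) : ℕ := e3_0
noncomputable def jcol3 (b : ℕ) : ℕ := j3_0

def e4_0 : ℕ := 0x25012000000000000000000000000000000000f4000000000000000024003
def j4_0 : ℕ := 0x3b000000000000000000000000000000000000000000000013000000000000000000000001
noncomputable def ecol4 (b : ℕ) : ℕ := e4_0
noncomputable def jcol4 (b : ℕ) : ℕ := j4_0

def e5_0 : ℕ := 0x240120000000000000000000000000000000012000000000000000001e003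
def j5_0 : ℕ := 0x4d00000000000000000000000000000000000000000000000200000000000000000000001d
noncomputable def ecol5 (b : ℕ) : ℕ := e5_0
noncomputable def jcol5 (b : ℕ) : ℕ := j5_0

def e6_0 : ℕ := 0x2700600000000000000000000000000000000120048000000000000023800
def j6_0 : ℕ := 0x33000000000000000000000000000000000000000000000001000000000000000000000004
noncomputable def ecol6 (b : ℕ) : ℕ := e6_0
noncomputable def jcol6 (b : ℕ) : ℕ := j6_0

def e7_0 : ℕ := 0x4800600000000000000000000000000000000098048000000000000023000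
def j7_0 : ℕ := 0x200000000000000000000000000000000000000000000004d000000000000000000000005
noncomputable def ecol7 (b : ℕ) : ℕ := e7_0
noncomputable def jcol7 (b : ℕ) : ℕ := j7_0

def e8_0 : ℕ := 0x7c801e00000000000000000000000000000004720050000000000000ee4004
def j8_0 : ℕ := 0x1000000000000000000000000000000000000000000000001000000000000000000000001
noncomputable def ecol8 (b : ℕ) : ℕ := e8_0
noncomputable def jcol8 (b : ℕ) : ℕ := j8_0

def e9_0 : ℕ := 0x120048000000000000000000000000009000c00d0120000000000000000000000000024000008401800000000000001c800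
def j9_0 : ℕ := 0x200000000000000000000000000000000000000020000007e000000000000000000000000000000000000000200000056000000000000000000000026
noncomputable def ecol9 (b : ℕ) : ℕ := e9_0
noncomputable def jcol9 (b : ℕ) : ℕ := j9_0

def e10_0 : ℕ := 0x5c802000000000000000000000000000000003f20058000000000000de4005
def j10_0 : ℕ := 0x1000000000000000000000000000000000000000000000001000000000000000000000001
noncomputable def ecol10 (b : ℕ) : ℕ := e10_0
noncomputable def jcol10 (b : ℕ) : ℕ := j10_0

def e11_0 : ℕ := 0x24009000000000000000000000000001200180000000090120000000000000000000048000000000007401800000000000001a800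
def j11_0 : ℕ := 0x20000000000000000000000000000000000000002000000000000008600000000000000000000000000000002000000000000005e00000000000000000000002e
noncomputable def ecol11 (b : ℕ) : ℕ := e11_0
noncomputable def jcol11 (b : ℕ) : ℕ := j11_0

def e12_0 : ℕ := 0x3c802200000000000000000000000000000003720060000000000000ce4006
def j12_0 : ℕ := 0x1000000000000000000000000000000000000000000000001000000000000000000000001
noncomputable def ecol12 (b : ℕ) : ℕ := e12_0
noncomputable def jcol12 (b : ℕ) : ℕ := j12_0

def e13_0 : ℕ := 0x480120000000000000000000000000024003000000000000000501200000000000000900000000000000000064018000000000000018800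
def j13_0 : ℕ := 0x2000000000000000000000000000000000000000200000000000000000000008e000000000000000000000002000000000000000000000066000000000000000000000036
noncomputable def ecol13 (b : ℕ) : ℕ := e13_0
noncomputable def jcol13 (b : ℕ) : ℕ := j13_0

def m_0 : ℕ := 0x300487012140245809080123c0481009260240004970121800cd8030a0067c01840034600c1801800120400d580300006bc01860006600028003700010001d8000400000018100082000000045000000000000
def jm_0 : ℕ := 0x510000004100000031000000110000000100000051000000410000003100000000000000110000000100000051000000410000003100000000000000110000000100000000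

noncomputable def mgT (b : ℕ) : ℕ := m_0
noncomputable def jmT (b : ℕ) : ℕ := jm_0
noncomputable def eT (c b : ℕ) : ℕ := Bool.rec (motive := fun _ => ℕ) (Bool.rec (motive := fun _ => ℕ) (Bool.rec (motive := fun _ => ℕ) (ecol0 b) (Bool.rec (motive := fun _ => ℕ) (ecol1 b) (ecol2 b) (Nat.ble 2 c)) (Nat.ble 1 c)) (Bool.rec (motive := fun _ => ℕ) (Bool.rec (motive := fun _ => ℕ) (ecol3 b) (ecol4 b) (Nat.ble 4 c)) (Bool.rec (motive := fun _ => ℕ) (ecol5 b) (ecol6 b) (Nat.ble 6 c)) (Nat.ble 5 c)) (Nat.ble 3 c)) (Bool.rec (motive := fun _ => ℕ) (Bool.rec (motive := fun _ => ℕ) (ecol7 b) (Bool.rec (motive := fun _ => ℕ) (ecol8 b) (ecol9 b) (Nat.ble 9 c)) (Nat.ble 8 c)) (Bool.rec (motive := fun _ => ℕ) (Bool.rec (motive := fun _ => ℕ) (ecol10 b) (ecol11 b) (Nat.ble 11 c)) (Bool.rec (motive := fun _ => ℕ) (ecol12 b) (ecol13 b) (Nat.ble 13 c)) (Nat.ble 12 c)) (Nat.ble 10 c)) (Nat.ble 7 c)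
noncomputable def jT (c b : ℕ) : ℕ := Bool.rec (motive := fun _ => ℕ) (Bool.rec (motive := fun _ => ℕ) (Bool.rec (motive := fun _ => ℕ) (jcol0 b) (Bool.rec (motive := fun _ => ℕ) (jcol1 b) (jcol2 b) (Nat.ble 2 c)) (Nat.ble 1 c)) (Bool.rec (motive := fun _ => ℕ) (Bool.rec (motive := fun _ => ℕ) (jcol3 b) (jcol4 b) (Nat.ble 4 c)) (Bool.rec (motive := fun _ => ℕ) (jcol5 b) (jcol6 b) (Nat.ble 6 c)) (Nat.ble 5 c)) (Nat.ble 3 c)) (Bool.rec (motive := fun _ => ℕ) (Bool.rec (motive := fun _ => ℕ) (jcol7 b) (Bool.rec (motive := fun _ => ℕ) (jcol8 b) (jcol9 b) (Nat.ble 9 c)) (Nat.ble 8 c)) (Bool.rec (motive := fun _ => ℕ) (Bool.rec (motive := fun _ => ℕ) (jcol10 b) (jcol11 b) (Nat.ble 11 c)) (Bool.rec (motive := fun _ => ℕ) (jcol12 b) (jcol13 b) (Nat.ble 13 c)) (Nat.ble 12 c)) (Nat.ble 10 c)) (Nat.ble 7 c)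

def rw0 : List ℕ := [0]
def rw1 : List ℕ := [2]
def rw2 : List ℕ := [4, 4]
def rw3 : List ℕ := [8]
def rw4 : List ℕ := [10]
def rw5 : List ℕ := [12]
def rw6 : List ℕ := [6, 6]
def rw7 : List ℕ := [4, 6, 4, 6, 4, 6]
noncomputable def relW (i : ℕ) : List ℕ := Bool.rec (motive := fun _ => List ℕ) (Bool.rec (motive := fun _ => List ℕ) (Bool.rec (motive := fun _ => List ℕ) (rw0) (rw1) (Nat.ble 1 i)) (Bool.rec (motive := fun _ => List ℕ) (rw2) (rw3) (Nat.ble 3 i)) (Nat.ble 2 i)) (Bool.rec (motive := fun _ => List ℕ) (Bool.rec (motive := fun _ => List ℕ) (rw4) (rw5) (Nat.ble 5 i)) (Bool.rec (motive := fun _ => List ℕ) (rw6) (rw7) (Nat.ble 7 i)) (Nat.ble 6 i)) (Nat.ble 4 i)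
def sw0 : List ℕ := [6]
noncomputable def subW (i : ℕ) : List ℕ := sw0

noncomputable def data : Data where
  w := 11
  mask := 2047
  tw := 7
  tmask := 127
  hsh := 18
  lsh := 29
  ew := 25
  emask := 33554431
  mw := 37
  mmask := 137438953471
  jw := 32
  jmask := 4294967295
  bsh := 11
  bmask := 2047
  nc := 14
  fuel := 3
  E := eT
  J := jT
  Mg := mgT
  JM := jmT
  relW := relW
  nrot := 8
  subW := subW
  nsub := 1

def M : ℕ := 18
def n : ℕ := 3

def bases : List (List ℕ) := [
  [4, 4],
  [6, 4, 6, 4, 6, 4],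
  [4, 6, 4, 6, 4, 6],
  [6, 6],
  [0],
  [2],
  [8],
  [10],
  [12]
]

def rots : List (ℕ × ℕ) := [(4, 0), (5, 0), (0, 0), (6, 0), (7, 0), (8, 0), (3, 0), (1, 1)]

def subsL : List (List ℕ) := [
  [6]
]

end Cfsg.Agent.Helper4.TC.ONZ5
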