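import Cfsg.Prelude.Def_SporCoxeter

set_option autoImplicit false

/-! A presentation of a group of order 145926144000 (the Rudvalis group): the generators `v`, `u`, `s`,
`w`, `z` satisfy the relators of the presentation `Pres.F42` of `²F₄(2)`; the involution `t` normalises
the parabolic subgroup `⟨v,u,s,z⟩`, and the last three relators come from triangles of the rank three
graph on the 4060 cosets of `⟨v,u,s,w,z⟩`. -/

namespace Cfsg.Agent.Helper4.Pres.Ru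

inductive Gen
  | v
  | u
  | s
  | w
  | z
  | t
  deriving DecidableEq

abbrev v : FreeGroup Gen := FreeGroup.of Gen.v
abbrev u : FreeGroup Gen := FreeGroup.of Gen.u
abbrev s : FreeGroup Gen := FreeGroup.of Gen.s
abbrev w : FreeGroup Gen := FreeGroup.of Gen.w
abbrev z : FreeGroup Gen := FreeGroup.of Gen.z
abbrev t : FreeGroup Gen := FreeGroup.of Gen.t

def edges : List (Gen × ℕ × Gen) := []

def extra : List (FreeGroup Gen) := [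
  v * v,
  s⁻¹ * v * s * v,
  u * u * u * u,
  s * s * s * s,
  s⁻¹ * u * s⁻¹ * u * s⁻¹ * u * s⁻¹ * u,
  s⁻¹ * u * s⁻¹ * u⁻¹ * s * v * u * s * u⁻¹ * v,
  u⁻¹ * v * u⁻¹ * s * u⁻¹ * s⁻¹ * u * v * u * v * u * v,
  u * s⁻¹ * u * s * u * s * u⁻¹ * v * u * s * u * v,
  w * w,
  v * u⁻¹ * v * w * s * w,
  v * w * v * w * v * w,
  v * z⁻¹ * v * z,
  u * z * u * z,
  v * s⁻¹ * z⁻¹ * s * z,
  u⁻¹ * u⁻¹ * z⁻¹ * z⁻¹ * u * z⁻¹,
  u⁻¹ * z * u * u * v * w * v * u⁻¹ * z * u * u * v * w * v * u⁻¹ * z * u * u * v * w * v * u⁻¹ * z * u * u * v * w * v * u⁻¹ * z * u * u * v * w * v * u⁻¹ * z * u * u * v * w * v * u⁻¹ * z * u * u * v * w * v * u⁻¹ * z * u * u * v * w * v,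
  t * t,
  v * t * v * t,
  u⁻¹ * u⁻¹ * v * u * v * s⁻¹ * t * u * t,
  s * t * s * t,
  z⁻¹ * s * t * z * t,
  t * z * w * z⁻¹ * t * z * w * z⁻¹ * t * z * w * z⁻¹,
  t * z⁻¹ * w * z⁻¹ * w * z * t * z⁻¹ * w * z⁻¹ * w * z * t * z⁻¹ * w * z⁻¹ * w * z,
  t * s * z⁻¹ * u⁻¹ * w * z⁻¹ * w * z⁻¹ * w * z * s⁻¹ * t * s * z⁻¹ * u⁻¹ * w * z⁻¹ * w * z⁻¹ * w * z * s⁻¹ * t * s * z⁻¹ * u⁻¹ * w * z⁻¹ * w * z⁻¹ * w * z * s⁻¹ ]

end Cfsg.Agent.Helper4.Pres.Ru
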