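import Cfsg.Prelude.Def_SporCoxeter

set_option autoImplicit false

/-! A five-letter alphabet for a presentation of the sporadic Suzuki group on elements of order 7. -/

namespace Cfsg.Agent.Helper4.Pres

namespace SuzK

inductive Gen
  | p
  | q
  | r
  | s
  | t
  deriving DecidableEq

end SuzK

end Cfsg.Agent.Helper4.Pres
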