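import Cfsg.Prelude.Def_SporCoxeter

set_option autoImplicit false

/-! A three-letter alphabet for a presentation of `PSU₄(3)` on elements of order 7. -/

namespace Cfsg.Agent.Helper4.Pres

namespace U43K

inductive Gen
  | p
  | q
  | r
  deriving DecidableEq

end U43K

end Cfsg.Agent.Helper4.Pres
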