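import Cfsg.Agent.Lib.Helper4.TC.RuPSMain
import Cfsg.Agent.Lib.Helper4.TC.TitsPSMain
import Cfsg.Agent.Lib.Helper4.TC.Embed2
import Cfsg.Prelude.Def_Sporadic
import Cfsg.Prelude.Def_Exceptional

set_option autoImplicit false
set_option maxRecDepth 100000
set_option linter.unusedVariables false
set_option linter.style.haveILetI false

/-! The presented Rudvalis group as a transitive group on 4060 points, with a copy of the presented
Tits group inside a point stabiliser. -/

namespace Cfsg.Agent.Helper4.TC.RuT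

open Cfsg.Agent.Helper4.TC

abbrev Rset : Set (FreeGroup Cfsg.Agent.Helper4.Pres.Ru.Gen) := Cfsg.Spor.coxRelators Cfsg.Agent.Helper4.Pres.Ru.edges ∪ {r | r ∈ Cfsg.Agent.Helper4.Pres.Ru.extra}

def pts : List ℕ := [0, 1756, 2, 4]
def bw : List ℕ := [9, 0, 6, 2, 0, 2, 9, 3, 0, 8, 8, 3]
def aw : List ℕ := [2, 2]
def yw : List ℕ := [2, 2, 9, 0, 6, 2, 0, 2, 9, 3, 0, 8, 8, 2, 9, 0, 6, 2, 0, 2, 9, 3, 0, 8, 8, 2, 2, 9, 9, 0, 2, 8, 3, 0, 3, 6, 0, 8, 2, 2]

/-- the words of the generators of the Tits group -/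
def sig : Cfsg.Agent.Helper4.Pres.Tits.Gen → List ℕ
  | .b => bw
  | .a => aw
  | .y => yw

theorem chk : ∀ b ∈ TitsPP1755.bases, fixesB RuPG.mdata pts (substW sig TitsPP1755.dec b) = true := by decide +kernel

theorem haw : (∀ c ∈ aw, c < RuPG.mdata.nc) ∧ mtrace RuPG.mdata aw 4 ≠ 4 := by decide +kernel

theorem hfix : ∀ x, (∀ c ∈ sig x, c < RuPG.mdata.nc) ∧ mtrace RuPG.mdata (sig x) 0 = 0 := by
  intro x; cases x <;> decide +kernel

/-- the homomorphism from the presented Tits group into the presented Rudvalis group -/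
theorem exists_psi : ∃ ψ : PresentedGroup TitsPS.Rset →* PresentedGroup Rset,
    ∀ x, ψ (PresentedGroup.of x) = PresentedGroup.mk Rset (wordF RuPG.dec (sig x)) :=
  exists_hom_of_subst RuPG.coding RuPG.hR1 RuPG.model_ok 145926144000 (by norm_num) RuPS.card_top
    RuPS.specs RuPS.levels_ok (by decide) TitsPS.Rset TitsPP1755.bases TitsPP1755.hR1 sig pts rfl chk

/-- the permutation representation on 4060 points -/
noncomputable def phi : PresentedGroup Rset →* Equiv.Perm (Fin 4060) := modelHom RuPG.coding RuPG.hR1 RuPG.model_ok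

theorem phi_word (w : List ℕ) (hw : ∀ c ∈ w, c < RuPG.mdata.nc) (k : Fin 4060) :
    (phi (PresentedGroup.mk Rset (wordF RuPG.dec w)) k).val = mtrace RuPG.mdata w k.val :=
  modelHom_word RuPG.coding RuPG.hR1 RuPG.model_ok w hw k

theorem phi_trans : ∀ y : Fin 4060, ∃ g, phi g (0 : Fin 4060) = y :=
  modelHom_trans RuPG.coding RuPG.hR1 RuPG.model_ok

theorem hmove : phi (PresentedGroup.mk Rset (wordF RuPG.dec aw)) ≠ 1 := by
  intro h
  have h1 := phi_word aw haw.1 ⟨4, by decide⟩
  rw [h, Equiv.Perm.one_apply] at h1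
  exact haw.2 h1.symm

theorem s0459 : ∃ H : Subgroup (Equiv.Perm (Fin 4060)), Cfsg.IsRu H ∧ MulAction.IsPretransitive H (Fin 4060) ∧
    Nat.card (MulAction.stabilizer H (0 : Fin 4060)) = 35942400 ∧
    ∃ T : Subgroup (MulAction.stabilizer H (0 : Fin 4060)), Cfsg.IsTits T := by
  haveI : IsSimpleGroup (PresentedGroup TitsPS.Rset) := TitsPS.main.1
  haveI : IsSimpleGroup (PresentedGroup Rset) := RuPS.main.1
  haveI : Finite (PresentedGroup Rset) := RuPS.card_top.1
  obtain ⟨hs, hc, hpre, hst⟩ := range_facts (by decide : 2 ≤ 4060) phi (0 : Fin 4060) phi_trans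
  obtain ⟨ψ, hψ⟩ := exists_psi
  have hstab : Nat.card (MulAction.stabilizer phi.range (0 : Fin 4060)) = 35942400 := by
    have h1 := hst inferInstance
    rw [RuPS.main.2] at h1
    omega
  refine ⟨phi.range, ⟨hs, hc.trans RuPS.main.2⟩, hpre, hstab, ?_⟩
  set θ : PresentedGroup TitsPS.Rset →* phi.range := phi.rangeRestrict.comp ψ with hθ
  have hne : θ (PresentedGroup.of .a) ≠ 1 := by
    intro h
    apply hmove
    have h1 := congrArg Subtype.val h
    rw [hθ, MonoidHom.comp_apply, hψ] at h1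
    exact h1
  have hle : θ.range ≤ MulAction.stabilizer phi.range (0 : Fin 4060) := by
    refine range_le_of_gens θ _ fun x => ?_
    rw [MulAction.mem_stabilizer_iff, hθ, MonoidHom.comp_apply, hψ]
    show phi (PresentedGroup.mk Rset (wordF RuPG.dec (sig x))) (0 : Fin 4060) = 0
    exact Fin.ext ((phi_word (sig x) (hfix x).1 0).trans (hfix x).2)
  have hinj : Function.Injective θ := by
    rw [← MonoidHom.ker_eq_bot_iff]
    rcases IsSimpleGroup.eq_bot_or_eq_top_of_normal θ.ker inferInstance with h | h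
    · exact h
    · exfalso
      apply hne
      have : PresentedGroup.of .a ∈ θ.ker := by rw [h]; trivial
      exact this
  obtain ⟨e⟩ : Nonempty (↥(θ.range.subgroupOf (MulAction.stabilizer phi.range (0 : Fin 4060))) ≃*
      PresentedGroup TitsPS.Rset) :=
    ⟨(Subgroup.subgroupOfEquivOfLe hle).trans (MonoidHom.ofInjective hinj).symm⟩
  refine ⟨θ.range.subgroupOf (MulAction.stabilizer phi.range (0 : Fin 4060)), ?_, ?_⟩
  · exact MulEquiv.isSimpleGroup
      (G := ↥(θ.range.subgroupOf (MulAction.stabilizer phi.range (0 : Fin 4060))))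
      (H := PresentedGroup TitsPS.Rset) e
  · rw [Nat.card_congr e.toEquiv]
    exact TitsPS.main.2

end Cfsg.Agent.Helper4.TC.RuT
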