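import Cfsg.Agent.Lib.Helper4.TC.RuPGModel
import Cfsg.Agent.Lib.Helper4.TC.RuPGData
import Cfsg.Agent.Lib.Helper4.TC.Strict

set_option autoImplicit false
set_option maxRecDepth 100000
set_option linter.unusedVariables false
set_option Elab.async false

namespace Cfsg.Agent.Helper4.TC.RuPG

open Cfsg.Agent.Helper4.TC

theorem rel0 : relsRange mdata bases 344 0 = true := relsRange_strict mdata bases 344 0 (by decide +kernel)
theorem rel1 : relsRange mdata bases 344 344 = true := relsRange_strict mdata bases 344 344 (by decide +kernel)
theorem rel2 : relsRange mdata bases 344 688 = true := relsRange_strict mdata bases 344 688 (by decide +kernel)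
theorem rel3 : relsRange mdata bases 344 1032 = true := relsRange_strict mdata bases 344 1032 (by decide +kernel)
theorem rel4 : relsRange mdata bases 344 1376 = true := relsRange_strict mdata bases 344 1376 (by decide +kernel)
theorem rel5 : relsRange mdata bases 344 1720 = true := relsRange_strict mdata bases 344 1720 (by decide +kernel)
theorem rel6 : relsRange mdata bases 344 2064 = true := relsRange_strict mdata bases 344 2064 (by decide +kernel)
theorem rel7 : relsRange mdata bases 344 2408 = true := relsRange_strict mdata bases 344 2408 (by decide +kernel)

end Cfsg.Agent.Helper4.TC.RuPG
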