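import Cfsg.Agent.Lib.Helper4.TC.RuPGModel
import Cfsg.Agent.Lib.Helper4.TC.RuPGData
import Cfsg.Agent.Lib.Helper4.TC.Strict

set_option autoImplicit false
set_option maxRecDepth 100000
set_option linter.unusedVariables false
set_option Elab.async false

namespace Cfsg.Agent.Helper4.TC.RuPG

open Cfsg.Agent.Helper4.TC

theorem rel8 : relsRange mdata bases 344 2752 = true := relsRange_strict mdata bases 344 2752 (by decide +kernel)
theorem rel9 : relsRange mdata bases 344 3096 = true := relsRange_strict mdata bases 344 3096 (by decide +kernel)
theorem rel10 : relsRange mdata bases 344 3440 = true := relsRange_strict mdata bases 344 3440 (by decide +kernel)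
theorem rel11 : relsRange mdata bases 276 3784 = true := relsRange_strict mdata bases 276 3784 (by decide +kernel)
theorem inv0 : invRange mdata 2222 0 = true := invRange_strict mdata 2222 0 (by decide +kernel)
theorem inv1 : invRange mdata 1838 2222 = true := invRange_strict mdata 1838 2222 (by decide +kernel)
theorem tree0 : treeRange mdata 4059 1 = true := treeRange_strict mdata 4059 1 (by decide +kernel)
theorem closed1_0 : closedRange mdata subsL 1 1756 1755 1 = true := closedRange_strict mdata subsL 1 1756 1755 1 (by decide +kernel)

end Cfsg.Agent.Helper4.TC.RuPG
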