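import Cfsg.Agent.Lib.Helper4.TC.RuPGModel
import Cfsg.Agent.Lib.Helper4.TC.RuPGData
import Cfsg.Agent.Lib.Helper4.TC.Strict

set_option autoImplicit false
set_option maxRecDepth 100000
set_option linter.unusedVariables false
set_option Elab.async false

namespace Cfsg.Agent.Helper4.TC.RuPG

open Cfsg.Agent.Helper4.TC

theorem reach1_0 : reachRange mdata subsL 1 1754 2 = true := reachRange_strict mdata subsL 1 1754 2 (by decide +kernel)
theorem closed2_0 : closedRange mdata subsL 1756 4060 2304 1756 = true := closedRange_strict mdata subsL 1756 4060 2304 1756 (by decide +kernel)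
theorem reach2_0 : reachRange mdata subsL 1756 2303 1757 = true := reachRange_strict mdata subsL 1756 2303 1757 (by decide +kernel)
theorem sub0_ok : sub0OK mdata subsL = true := by decide +kernel
theorem relc_ok : wordsLettersOK 12 bases = true := by decide +kernel
theorem subc_ok : wordsLettersOK 12 subsL = true := by decide +kernel

end Cfsg.Agent.Helper4.TC.RuPG
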