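import Cfsg.Agent.Lib.Helper4.TC.RuPZ1D
import Cfsg.Agent.Lib.Helper4.TC.Strict

set_option autoImplicit false
set_option maxRecDepth 100000
set_option linter.unusedVariables false
set_option Elab.async false

namespace Cfsg.Agent.Helper4.TC.RuPZ1

open Cfsg.Agent.Helper4.TC

theorem cnt0 : countFinal data 31749 0 0 = 8775 := countFinal_strict data 31749 0 0 8775 (by decide +kernel)
theorem rows0 : rowsRange data 31749 2124 0 = true := rowsRange_strict data 31749 2124 0 (by decide +kernel)
theorem rows1 : rowsRange data 31749 2452 2124 = true := rowsRange_strict data 31749 2452 2124 (by decide +kernel)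
theorem rows2 : rowsRange data 31749 2155 4576 = true := rowsRange_strict data 31749 2155 4576 (by decide +kernel)
theorem rows3 : rowsRange data 31749 2447 6731 = true := rowsRange_strict data 31749 2447 6731 (by decide +kernel)
theorem rows4 : rowsRange data 31749 2688 9178 = true := rowsRange_strict data 31749 2688 9178 (by decide +kernel)
theorem rows5 : rowsRange data 31749 4321 11866 = true := rowsRange_strict data 31749 4321 11866 (by decide +kernel)
theorem rows6 : rowsRange data 31749 15562 16187 = true := rowsRange_strict data 31749 15562 16187 (by decide +kernel)

end Cfsg.Agent.Helper4.TC.RuPZ1
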