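import Cfsg.Agent.Lib.Helper4.TC.Perm
import Cfsg.Agent.Lib.Helper4.TC.RuPCod
import Cfsg.Agent.Lib.Helper4.TC.RuPZ1Fin
import Cfsg.Agent.Lib.Helper4.TC.RuPZ1CM
import Cfsg.Agent.Lib.Helper4.TC.RuPZ1CE0
import Cfsg.Agent.Lib.Helper4.TC.RuPZ1CE1
import Cfsg.Agent.Lib.Helper4.TC.RuPZ1CE2
import Cfsg.Agent.Lib.Helper4.TC.RuPZ1CE3
import Cfsg.Agent.Lib.Helper4.TC.RuPZ1CE4
import Cfsg.Agent.Lib.Helper4.TC.RuPZ1CE5
import Cfsg.Agent.Lib.Helper4.TC.RuPZ1CE6
import Cfsg.Agent.Lib.Helper4.TC.RuPZ1CE7
import Cfsg.Agent.Lib.Helper4.TC.RuPZ1CE8
import Cfsg.Agent.Lib.Helper4.TC.RuPZ1CE9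
import Cfsg.Agent.Lib.Helper4.TC.RuPZ1CE10
import Cfsg.Agent.Lib.Helper4.TC.RuPZ1CE11
import Cfsg.Agent.Lib.Helper4.TC.RuPZ1CF0

set_option autoImplicit false
set_option maxRecDepth 100000
set_option linter.unusedVariables false

namespace Cfsg.Agent.Helper4.TC.RuPZ1

open Cfsg.Agent.Helper4.TC

theorem allE0 : ∀ k, k < 32768 → justE data 0 k = true := by
  intro k hk
  by_cases hh1 : k < 15180
  · skip
    exact edgeRange_sound data 0 15180 0 e0_c0 k (by omega) (by omega)
  · skip
    exact edgeRange_sound data 0 17588 15180 e0_c1 k (by omega) (by omega)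

theorem allE1 : ∀ k, k < 32768 → justE data 1 k = true := by
  intro k hk
  by_cases hh1 : k < 20324
  · skip
    exact edgeRange_sound data 1 20324 0 e1_c0 k (by omega) (by omega)
  · skip
    exact edgeRange_sound data 1 12444 20324 e1_c1 k (by omega) (by omega)

theorem allE2 : ∀ k, k < 32768 → justE data 2 k = true := by
  intro k hk
  by_cases hh1 : k < 15490
  · skip
    exact edgeRange_sound data 2 15490 0 e2_c0 k (by omega) (by omega)
  · skip
    exact edgeRange_sound data 2 17278 15490 e2_c1 k (by omega) (by omega)

theorem allE3 : ∀ k, k < 32768 → justE data 3 k = true := by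
  intro k hk
  by_cases hh1 : k < 16559
  · skip
    exact edgeRange_sound data 3 16559 0 e3_c0 k (by omega) (by omega)
  · skip
    exact edgeRange_sound data 3 16209 16559 e3_c1 k (by omega) (by omega)

theorem allE4 : ∀ k, k < 32768 → justE data 4 k = true := by
  intro k hk
  by_cases hh1 : k < 14149
  · skip
    exact edgeRange_sound data 4 14149 0 e4_c0 k (by omega) (by omega)
  · skip
    by_cases hh2 : k < 30528
    · skip
      exact edgeRange_sound data 4 16379 14149 e4_c1 k (by omega) (by omega)
    · skip
      exact edgeRange_sound data 4 2240 30528 e4_c2 k (by omega) (by omega)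

theorem allE5 : ∀ k, k < 32768 → justE data 5 k = true := by
  intro k hk
  by_cases hh1 : k < 16684
  · skip
    exact edgeRange_sound data 5 16684 0 e5_c0 k (by omega) (by omega)
  · skip
    exact edgeRange_sound data 5 16084 16684 e5_c1 k (by omega) (by omega)

theorem allE6 : ∀ k, k < 32768 → justE data 6 k = true := by
  intro k hk
  by_cases hh1 : k < 19209
  · skip
    exact edgeRange_sound data 6 19209 0 e6_c0 k (by omega) (by omega)
  · skip
    exact edgeRange_sound data 6 13559 19209 e6_c1 k (by omega) (by omega)

theorem allE7 : ∀ k, k < 32768 → justE data 7 k = true := by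
  intro k hk
  by_cases hh1 : k < 21165
  · skip
    exact edgeRange_sound data 7 21165 0 e7_c0 k (by omega) (by omega)
  · skip
    exact edgeRange_sound data 7 11603 21165 e7_c1 k (by omega) (by omega)

theorem allE8 : ∀ k, k < 32768 → justE data 8 k = true := by
  intro k hk
  by_cases hh1 : k < 20566
  · skip
    exact edgeRange_sound data 8 20566 0 e8_c0 k (by omega) (by omega)
  · skip
    exact edgeRange_sound data 8 12202 20566 e8_c1 k (by omega) (by omega)

theorem allE9 : ∀ k, k < 32768 → justE data 9 k = true := by
  intro k hk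
  by_cases hh1 : k < 16773
  · skip
    exact edgeRange_sound data 9 16773 0 e9_c0 k (by omega) (by omega)
  · skip
    exact edgeRange_sound data 9 15995 16773 e9_c1 k (by omega) (by omega)

theorem allE10 : ∀ k, k < 32768 → justE data 10 k = true := by
  intro k hk
  by_cases hh1 : k < 25000
  · skip
    exact edgeRange_sound data 10 25000 0 e10_c0 k (by omega) (by omega)
  · skip
    exact edgeRange_sound data 10 7768 25000 e10_c1 k (by omega) (by omega)

theorem allE11 : ∀ k, k < 32768 → justE data 11 k = true := by
  intro k hk
  by_cases hh1 : k < 20707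
  · skip
    exact edgeRange_sound data 11 20707 0 e11_c0 k (by omega) (by omega)
  · skip
    exact edgeRange_sound data 11 12061 20707 e11_c1 k (by omega) (by omega)

theorem allE : ∀ c k, c < data.nc → k ≤ data.mask → justE data c k = true := by
  intro c k hc hk
  have hc' : c < 12 := hc
  have hk' : k < 32768 := Nat.lt_succ_of_le hk
  interval_cases c
  · exact allE0 k hk'
  · exact allE1 k hk'
  · exact allE2 k hk'
  · exact allE3 k hk'
  · exact allE4 k hk'
  · exact allE5 k hk'
  · exact allE6 k hk'
  · exact allE7 k hk'
  · exact allE8 k hk'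
  · exact allE9 k hk'
  · exact allE10 k hk'
  · exact allE11 k hk'

theorem allM : ∀ k, k ≤ data.mask → justM data k = true := by
  intro k hk
  have hk' : k < 32768 := Nat.lt_succ_of_le hk
  by_cases hh1 : k < 22504
  · skip
    exact mergeRange_sound data 22504 0 m_c0 k (by omega) (by omega)
  · skip
    exact mergeRange_sound data 10264 22504 m_c1 k (by omega) (by omega)

theorem rows_all : ∀ k, k < M → isFinal data k = true → rowOK data M k data.nc = true := by
  intro k hk
  have hk' : k < 31749 := hk
  by_cases hh1 : k < 6731
  · skip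
    by_cases hh2 : k < 2124
    · skip
      exact rowsRange_sound data M 2124 0 rows0 k (by omega) (by omega)
    · skip
      by_cases hh3 : k < 4576
      · skip
        exact rowsRange_sound data M 2452 2124 rows1 k (by omega) (by omega)
      · skip
        exact rowsRange_sound data M 2155 4576 rows2 k (by omega) (by omega)
  · skip
    by_cases hh4 : k < 11866
    · skip
      by_cases hh5 : k < 9178
      · skip
        exact rowsRange_sound data M 2447 6731 rows3 k (by omega) (by omega)
      · skip
        exact rowsRange_sound data M 2688 9178 rows4 k (by omega) (by omega)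
    · skip
      by_cases hh6 : k < 16187
      · skip
        exact rowsRange_sound data M 4321 11866 rows5 k (by omega) (by omega)
      · skip
        exact rowsRange_sound data M 15562 16187 rows6 k (by omega) (by omega)

theorem cnt_ok : countFinal data M 0 0 = n := by
  exact cnt0

/-- the index of the subgroup generated by `subsL` in the group with relators `bases` -/
theorem bound : Finite (PresentedGroup (relSet RuPCod.dec bases) ⧸ (Subgroup.closure (relSet RuPCod.dec subsL)).map (PresentedGroup.mk (relSet RuPCod.dec bases))) ∧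
    Nat.card (PresentedGroup (relSet RuPCod.dec bases) ⧸ (Subgroup.closure (relSet RuPCod.dec subsL)).map (PresentedGroup.mk (relSet RuPCod.dec bases))) ≤ n :=
  tc_bound data bases subsL rots RuPCod.coding (mem_relSet bases) (mem_relSet subsL) words_ok allE allM M n fin0_ok (by decide) (by decide) cnt_ok rows_all

end Cfsg.Agent.Helper4.TC.RuPZ1
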