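import Cfsg.Agent.Lib.Helper4.TC.RuPZ2D
import Cfsg.Agent.Lib.Helper4.TC.Perm
import Cfsg.Agent.Lib.Helper4.TC.RuPCod
import Cfsg.Agent.Lib.Helper4.TC.Strict

set_option autoImplicit false
set_option maxRecDepth 100000
set_option linter.unusedVariables false
set_option Elab.async false

namespace Cfsg.Agent.Helper4.TC.RuPZ2

open Cfsg.Agent.Helper4.TC

theorem e0_c0 : edgeRange data 0 20320 0 = true := edgeRange_strict data 0 20320 0 (by decide +kernel)
theorem e0_c1 : edgeRange data 0 12448 20320 = true := edgeRange_strict data 0 12448 20320 (by decide +kernel)
theorem e1_c0 : edgeRange data 1 28735 0 = true := edgeRange_strict data 1 28735 0 (by decide +kernel)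
theorem e1_c1 : edgeRange data 1 4033 28735 = true := edgeRange_strict data 1 4033 28735 (by decide +kernel)
theorem e2_c0 : edgeRange data 2 21776 0 = true := edgeRange_strict data 2 21776 0 (by decide +kernel)
theorem e2_c1 : edgeRange data 2 10992 21776 = true := edgeRange_strict data 2 10992 21776 (by decide +kernel)
theorem e3_c0 : edgeRange data 3 25259 0 = true := edgeRange_strict data 3 25259 0 (by decide +kernel)
theorem e3_c1 : edgeRange data 3 7509 25259 = true := edgeRange_strict data 3 7509 25259 (by decide +kernel)
theorem e4_c0 : edgeRange data 4 25076 0 = true := edgeRange_strict data 4 25076 0 (by decide +kernel)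
theorem e4_c1 : edgeRange data 4 7692 25076 = true := edgeRange_strict data 4 7692 25076 (by decide +kernel)
theorem e5_c0 : edgeRange data 5 26005 0 = true := edgeRange_strict data 5 26005 0 (by decide +kernel)
theorem e5_c1 : edgeRange data 5 6763 26005 = true := edgeRange_strict data 5 6763 26005 (by decide +kernel)
theorem e6_c0 : edgeRange data 6 32478 0 = true := edgeRange_strict data 6 32478 0 (by decide +kernel)
theorem e6_c1 : edgeRange data 6 290 32478 = true := edgeRange_strict data 6 290 32478 (by decide +kernel)
theorem e7_c0 : edgeRange data 7 28382 0 = true := edgeRange_strict data 7 28382 0 (by decide +kernel)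
theorem e7_c1 : edgeRange data 7 4386 28382 = true := edgeRange_strict data 7 4386 28382 (by decide +kernel)
theorem e8_c0 : edgeRange data 8 32478 0 = true := edgeRange_strict data 8 32478 0 (by decide +kernel)
theorem e8_c1 : edgeRange data 8 290 32478 = true := edgeRange_strict data 8 290 32478 (by decide +kernel)
theorem e9_c0 : edgeRange data 9 28382 0 = true := edgeRange_strict data 9 28382 0 (by decide +kernel)
theorem e9_c1 : edgeRange data 9 4386 28382 = true := edgeRange_strict data 9 4386 28382 (by decide +kernel)
theorem e10_c0 : edgeRange data 10 32478 0 = true := edgeRange_strict data 10 32478 0 (by decide +kernel)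
theorem e10_c1 : edgeRange data 10 290 32478 = true := edgeRange_strict data 10 290 32478 (by decide +kernel)
theorem e11_c0 : edgeRange data 11 28382 0 = true := edgeRange_strict data 11 28382 0 (by decide +kernel)
theorem e11_c1 : edgeRange data 11 4386 28382 = true := edgeRange_strict data 11 4386 28382 (by decide +kernel)
theorem m_c0 : mergeRange data 29428 0 = true := mergeRange_strict data 29428 0 (by decide +kernel)
theorem m_c1 : mergeRange data 3340 29428 = true := mergeRange_strict data 3340 29428 (by decide +kernel)
theorem cnt0 : countFinal data 17522 0 0 = 4096 := countFinal_strict data 17522 0 0 4096 (by decide +kernel)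
theorem rows0 : rowsRange data 17522 2824 0 = true := rowsRange_strict data 17522 2824 0 (by decide +kernel)
theorem rows1 : rowsRange data 17522 3744 2824 = true := rowsRange_strict data 17522 3744 2824 (by decide +kernel)
theorem rows2 : rowsRange data 17522 5860 6568 = true := rowsRange_strict data 17522 5860 6568 (by decide +kernel)
theorem rows3 : rowsRange data 17522 5094 12428 = true := rowsRange_strict data 17522 5094 12428 (by decide +kernel)
theorem words_ok : wordsCheck data bases subsL rots = true := by decide +kernel
theorem fin0_ok : isFinal data 0 = true := by decide +kernel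

theorem allE0 : ∀ k, k < 32768 → justE data 0 k = true := by
  intro k hk
  by_cases hh1 : k < 20320
  · skip
    exact edgeRange_sound data 0 20320 0 e0_c0 k (by omega) (by omega)
  · skip
    exact edgeRange_sound data 0 12448 20320 e0_c1 k (by omega) (by omega)

theorem allE1 : ∀ k, k < 32768 → justE data 1 k = true := by
  intro k hk
  by_cases hh1 : k < 28735
  · skip
    exact edgeRange_sound data 1 28735 0 e1_c0 k (by omega) (by omega)
  · skip
    exact edgeRange_sound data 1 4033 28735 e1_c1 k (by omega) (by omega)

theorem allE2 : ∀ k, k < 32768 → justE data 2 k = true := by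
  intro k hk
  by_cases hh1 : k < 21776
  · skip
    exact edgeRange_sound data 2 21776 0 e2_c0 k (by omega) (by omega)
  · skip
    exact edgeRange_sound data 2 10992 21776 e2_c1 k (by omega) (by omega)

theorem allE3 : ∀ k, k < 32768 → justE data 3 k = true := by
  intro k hk
  by_cases hh1 : k < 25259
  · skip
    exact edgeRange_sound data 3 25259 0 e3_c0 k (by omega) (by omega)
  · skip
    exact edgeRange_sound data 3 7509 25259 e3_c1 k (by omega) (by omega)

theorem allE4 : ∀ k, k < 32768 → justE data 4 k = true := by
  intro k hk
  by_cases hh1 : k < 25076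
  · skip
    exact edgeRange_sound data 4 25076 0 e4_c0 k (by omega) (by omega)
  · skip
    exact edgeRange_sound data 4 7692 25076 e4_c1 k (by omega) (by omega)

theorem allE5 : ∀ k, k < 32768 → justE data 5 k = true := by
  intro k hk
  by_cases hh1 : k < 26005
  · skip
    exact edgeRange_sound data 5 26005 0 e5_c0 k (by omega) (by omega)
  · skip
    exact edgeRange_sound data 5 6763 26005 e5_c1 k (by omega) (by omega)

theorem allE6 : ∀ k, k < 32768 → justE data 6 k = true := by
  intro k hk
  by_cases hh1 : k < 32478
  · skip
    exact edgeRange_sound data 6 32478 0 e6_c0 k (by omega) (by omega)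
  · skip
    exact edgeRange_sound data 6 290 32478 e6_c1 k (by omega) (by omega)

theorem allE7 : ∀ k, k < 32768 → justE data 7 k = true := by
  intro k hk
  by_cases hh1 : k < 28382
  · skip
    exact edgeRange_sound data 7 28382 0 e7_c0 k (by omega) (by omega)
  · skip
    exact edgeRange_sound data 7 4386 28382 e7_c1 k (by omega) (by omega)

theorem allE8 : ∀ k, k < 32768 → justE data 8 k = true := by
  intro k hk
  by_cases hh1 : k < 32478
  · skip
    exact edgeRange_sound data 8 32478 0 e8_c0 k (by omega) (by omega)
  · skip
    exact edgeRange_sound data 8 290 32478 e8_c1 k (by omega) (by omega)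

theorem allE9 : ∀ k, k < 32768 → justE data 9 k = true := by
  intro k hk
  by_cases hh1 : k < 28382
  · skip
    exact edgeRange_sound data 9 28382 0 e9_c0 k (by omega) (by omega)
  · skip
    exact edgeRange_sound data 9 4386 28382 e9_c1 k (by omega) (by omega)

theorem allE10 : ∀ k, k < 32768 → justE data 10 k = true := by
  intro k hk
  by_cases hh1 : k < 32478
  · skip
    exact edgeRange_sound data 10 32478 0 e10_c0 k (by omega) (by omega)
  · skip
    exact edgeRange_sound data 10 290 32478 e10_c1 k (by omega) (by omega)

theorem allE11 : ∀ k, k < 32768 → justE data 11 k = true := by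
  intro k hk
  by_cases hh1 : k < 28382
  · skip
    exact edgeRange_sound data 11 28382 0 e11_c0 k (by omega) (by omega)
  · skip
    exact edgeRange_sound data 11 4386 28382 e11_c1 k (by omega) (by omega)

theorem allE : ∀ c k, c < data.nc → k ≤ data.mask → justE data c k = true := by
  intro c k hc hk
  have hc' : c < 12 := hc
  have hk' : k < 32768 := Nat.lt_succ_of_le hk
  interval_cases c
  · exact allE0 k hk'
  · exact allE1 k hk'
  · exact allE2 k hk'
  · exact allE3 k hk'
  · exact allE4 k hk'
  · exact allE5 k hk'
  · exact allE6 k hk'
  · exact allE7 k hk'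
  · exact allE8 k hk'
  · exact allE9 k hk'
  · exact allE10 k hk'
  · exact allE11 k hk'

theorem allM : ∀ k, k ≤ data.mask → justM data k = true := by
  intro k hk
  have hk' : k < 32768 := Nat.lt_succ_of_le hk
  by_cases hh1 : k < 29428
  · skip
    exact mergeRange_sound data 29428 0 m_c0 k (by omega) (by omega)
  · skip
    exact mergeRange_sound data 3340 29428 m_c1 k (by omega) (by omega)

theorem rows_all : ∀ k, k < M → isFinal data k = true → rowOK data M k data.nc = true := by
  intro k hk
  have hk' : k < 17522 := hk
  by_cases hh1 : k < 6568
  · skip
    by_cases hh2 : k < 2824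
    · skip
      exact rowsRange_sound data M 2824 0 rows0 k (by omega) (by omega)
    · skip
      exact rowsRange_sound data M 3744 2824 rows1 k (by omega) (by omega)
  · skip
    by_cases hh3 : k < 12428
    · skip
      exact rowsRange_sound data M 5860 6568 rows2 k (by omega) (by omega)
    · skip
      exact rowsRange_sound data M 5094 12428 rows3 k (by omega) (by omega)

theorem cnt_ok : countFinal data M 0 0 = n := by
  exact cnt0

/-- the index of the subgroup generated by `subsL` in the group with relators `bases` -/
theorem bound : Finite (PresentedGroup (relSet RuPCod.dec bases) ⧸ (Subgroup.closure (relSet RuPCod.dec subsL)).map (PresentedGroup.mk (relSet RuPCod.dec bases))) ∧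
    Nat.card (PresentedGroup (relSet RuPCod.dec bases) ⧸ (Subgroup.closure (relSet RuPCod.dec subsL)).map (PresentedGroup.mk (relSet RuPCod.dec bases))) ≤ n :=
  tc_bound data bases subsL rots RuPCod.coding (mem_relSet bases) (mem_relSet subsL) words_ok allE allM M n fin0_ok (by decide) (by decide) cnt_ok rows_all

end Cfsg.Agent.Helper4.TC.RuPZ2
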