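import Cfsg.Agent.Lib.Helper4.TC.RuPSX
import Cfsg.Agent.Lib.Helper4.TC.RuPXB
import Cfsg.Agent.Lib.Helper4.TC.RuPZ0B
import Cfsg.Agent.Lib.Helper4.TC.RuPZ1B
import Cfsg.Agent.Lib.Helper4.TC.RuPZ2B

set_option autoImplicit false
set_option maxRecDepth 100000
set_option linter.unusedVariables false

namespace Cfsg.Agent.Helper4.TC.RuPS

open Cfsg.Agent.Helper4.TC

abbrev dec := RuPCod.dec
abbrev Rset : Set (FreeGroup Cfsg.Agent.Helper4.Pres.Ru.Gen) := Cfsg.Spor.coxRelators Cfsg.Agent.Helper4.Pres.Ru.edges ∪ {r | r ∈ Cfsg.Agent.Helper4.Pres.Ru.extra}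

theorem card2 : Finite (PresentedGroup (relSet dec RuPZ2.bases)) ∧ Nat.card (PresentedGroup (relSet dec RuPZ2.bases)) ≤ 4096 := by
  refine stage_bot _ _ ?_ _ RuPZ2.bound
  rintro s ⟨b, hb, _⟩
  simp [RuPZ2.subsL] at hb

theorem card1 : Finite (PresentedGroup (relSet dec RuPZ1.bases)) ∧ Nat.card (PresentedGroup (relSet dec RuPZ1.bases)) ≤ 35942400 := by
  have h := stage_bound (relSet dec RuPZ1.bases) (relSet dec RuPZ2.bases) (relSet dec RuPZ1.subsL) RuPZ1.bases RuPZ2.bases RuPZ1.subsL
    (fun x : Cfsg.Agent.Helper4.Pres.Ru.Gen => decide (x ∈ ([.v, .u, .s] : List Cfsg.Agent.Helper4.Pres.Ru.Gen))) (mem_relSet _) (fun r hr => hr) (fun s hs => hs) (by decide +kernel) (by decide +kernel) RuPZ1.n 4096 RuPZ1.bound card2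
  exact ⟨h.1, h.2.trans (by decide)⟩

theorem card0 : Finite (PresentedGroup (relSet dec RuPZ0.bases)) ∧ Nat.card (PresentedGroup (relSet dec RuPZ0.bases)) ≤ 145926144000 := by
  have h := stage_bound (relSet dec RuPZ0.bases) (relSet dec RuPZ1.bases) (relSet dec RuPZ0.subsL) RuPZ0.bases RuPZ1.bases RuPZ0.subsL
    (fun x : Cfsg.Agent.Helper4.Pres.Ru.Gen => decide (x ∈ ([.v, .u, .s, .w, .z] : List Cfsg.Agent.Helper4.Pres.Ru.Gen))) (mem_relSet _) (fun r hr => hr) (fun s hs => hs) (by decide +kernel) (by decide +kernel) RuPZ0.n 35942400 RuPZ0.bound card1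
  exact ⟨h.1, h.2.trans (by decide)⟩

theorem hRset : Rset = relSet dec RuPZ0.bases := by
  have hb : RuPG.bases = RuPZ0.bases := by decide
  ext r
  constructor
  · intro h
    obtain ⟨b, hb', e⟩ := RuPG.hR1 r h
    exact ⟨b, hb ▸ hb', e⟩
  · rintro ⟨b, hb', rfl⟩
    exact RuPG.hR2 b (hb ▸ hb')

theorem card_top : Finite (PresentedGroup Rset) ∧ Nat.card (PresentedGroup Rset) ≤ 145926144000 := by
  rw [hRset]
  exact card0

theorem cardX : Finite (PresentedGroup (relSet dec RuPX.bases)) ∧ Nat.card (PresentedGroup (relSet dec RuPX.bases)) ≤ 1 := by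
  refine stage_bot _ _ ?_ _ RuPX.bound
  rintro s ⟨b, hb, _⟩
  simp [RuPX.subsL] at hb

theorem hnc : Subgroup.normalClosure {PresentedGroup.mk Rset (wordF dec xw)} = ⊤ := by
  refine normalClosure_eq_top_of_trivial Rset (relSet dec RuPX.bases) (wordF dec xw) ?_ cardX
  rintro r ⟨b, hb, rfl⟩
  have hb' : b ∈ RuPG.bases ++ [xw] := (by decide : RuPX.bases = RuPG.bases ++ [xw]) ▸ hb
  rcases List.mem_append.mp hb' with h | h
  · exact Or.inl (RuPG.hR2 b h)
  · right
    rw [List.mem_singleton.mp h]

theorem hxp : ∀ j, j < RuPG.mdata.n → mtrace RuPG.mdata (wpow xw (29 ^ 1)) j = j := by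
  have e : wpow xw (29 ^ 1) = xpw := by decide
  rw [e]
  intro k hk
  have hk' : k < 4060 := hk
  by_cases hh1 : k < 1925
  · skip
    by_cases hh2 : k < 825
    · skip
      by_cases hh3 : k < 275
      · skip
        exact relsRange_sound RuPG.mdata [xpw] 275 0 xp_c0 k (by omega) (by omega) xpw List.mem_cons_self
      · skip
        by_cases hh4 : k < 550
        · skip
          exact relsRange_sound RuPG.mdata [xpw] 275 275 xp_c1 k (by omega) (by omega) xpw List.mem_cons_self
        · skip
          exact relsRange_sound RuPG.mdata [xpw] 275 550 xp_c2 k (by omega) (by omega) xpw List.mem_cons_self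
    · skip
      by_cases hh5 : k < 1375
      · skip
        by_cases hh6 : k < 1100
        · skip
          exact relsRange_sound RuPG.mdata [xpw] 275 825 xp_c3 k (by omega) (by omega) xpw List.mem_cons_self
        · skip
          exact relsRange_sound RuPG.mdata [xpw] 275 1100 xp_c4 k (by omega) (by omega) xpw List.mem_cons_self
      · skip
        by_cases hh7 : k < 1650
        · skip
          exact relsRange_sound RuPG.mdata [xpw] 275 1375 xp_c5 k (by omega) (by omega) xpw List.mem_cons_self
        · skip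
          exact relsRange_sound RuPG.mdata [xpw] 275 1650 xp_c6 k (by omega) (by omega) xpw List.mem_cons_self
  · skip
    by_cases hh8 : k < 3025
    · skip
      by_cases hh9 : k < 2475
      · skip
        by_cases hh10 : k < 2200
        · skip
          exact relsRange_sound RuPG.mdata [xpw] 275 1925 xp_c7 k (by omega) (by omega) xpw List.mem_cons_self
        · skip
          exact relsRange_sound RuPG.mdata [xpw] 275 2200 xp_c8 k (by omega) (by omega) xpw List.mem_cons_self
      · skip
        by_cases hh11 : k < 2750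
        · skip
          exact relsRange_sound RuPG.mdata [xpw] 275 2475 xp_c9 k (by omega) (by omega) xpw List.mem_cons_self
        · skip
          exact relsRange_sound RuPG.mdata [xpw] 275 2750 xp_c10 k (by omega) (by omega) xpw List.mem_cons_self
    · skip
      by_cases hh12 : k < 3575
      · skip
        by_cases hh13 : k < 3300
        · skip
          exact relsRange_sound RuPG.mdata [xpw] 275 3025 xp_c11 k (by omega) (by omega) xpw List.mem_cons_self
        · skip
          exact relsRange_sound RuPG.mdata [xpw] 275 3300 xp_c12 k (by omega) (by omega) xpw List.mem_cons_self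
      · skip
        by_cases hh14 : k < 3850
        · skip
          exact relsRange_sound RuPG.mdata [xpw] 275 3575 xp_c13 k (by omega) (by omega) xpw List.mem_cons_self
        · skip
          exact relsRange_sound RuPG.mdata [xpw] 210 3850 xp_c14 k (by omega) (by omega) xpw List.mem_cons_self

instance : Fact (Nat.Prime 29) := ⟨by norm_num⟩

theorem main : IsSimpleGroup (PresentedGroup Rset) ∧ Nat.card (PresentedGroup Rset) = 145926144000 := by
  refine simple_card_main RuPG.coding RuPG.hR1 RuPG.model_ok 145926144000 card_top specs levels_ok ?_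
    [(1, 1756), (1756, 4060)] (by decide) ?_ (by decide) (by decide) 29 ?_ xw (by decide) 1 hxp hnc
  · decide
  · intro r hr
    simp only [List.mem_cons, List.not_mem_nil, or_false] at hr
    rcases hr with rfl | rfl
    · exact RuPG.orb1
    · exact RuPG.orb2
  · exact factorization_eq_of _ _ 29 1 5031936000 140 (by norm_num) (by norm_num [RuPG.mdata]) (by norm_num [RuPG.mdata]) (by norm_num) (by norm_num)

end Cfsg.Agent.Helper4.TC.RuPS
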