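import Cfsg.Agent.Lib.Helper4.TC.RuPSLC
import Cfsg.Agent.Lib.Helper4.TC.Strict

set_option autoImplicit false
set_option maxRecDepth 100000
set_option linter.unusedVariables false
set_option Elab.async false

namespace Cfsg.Agent.Helper4.TC.RuPS

open Cfsg.Agent.Helper4.TC

def xw : List ℕ := [10, 9, 3, 3, 6, 9, 4, 6, 5, 3]
def xpw : List ℕ := [10, 9, 3, 3, 6, 9, 4, 6, 5, 3, 10, 9, 3, 3, 6, 9, 4, 6, 5, 3, 10, 9, 3, 3, 6, 9, 4, 6, 5, 3, 10, 9, 3, 3, 6, 9, 4, 6, 5, 3, 10, 9, 3, 3, 6, 9, 4, 6, 5, 3, 10, 9, 3, 3, 6, 9, 4, 6, 5, 3, 10, 9, 3, 3, 6, 9, 4, 6, 5, 3, 10, 9, 3, 3, 6, 9, 4, 6, 5, 3, 10, 9, 3, 3, 6, 9, 4, 6, 5, 3, 10, 9, 3, 3, 6, 9, 4, 6, 5, 3, 10, 9, 3, 3, 6, 9, 4, 6, 5, 3, 10, 9, 3, 3, 6, 9, 4, 6, 5, 3, 10, 9, 3, 3, 6, 9, 4, 6, 5, 3, 10, 9, 3, 3, 6, 9, 4, 6, 5, 3, 10, 9, 3, 3, 6, 9, 4, 6, 5, 3, 10, 9, 3, 3, 6, 9, 4, 6, 5, 3, 10, 9, 3, 3, 6, 9, 4, 6, 5,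 3, 10, 9, 3, 3, 6, 9, 4, 6, 5, 3, 10, 9, 3, 3, 6, 9, 4, 6, 5, 3, 10, 9, 3, 3, 6, 9, 4, 6, 5, 3, 10, 9, 3, 3, 6, 9, 4, 6, 5, 3, 10, 9, 3, 3, 6, 9, 4, 6, 5, 3, 10, 9, 3, 3, 6, 9, 4, 6, 5, 3, 10, 9, 3, 3, 6, 9, 4, 6, 5, 3, 10, 9, 3, 3, 6, 9, 4, 6, 5, 3, 10, 9, 3, 3, 6, 9, 4, 6, 5, 3, 10, 9, 3, 3, 6, 9, 4, 6, 5, 3, 10, 9, 3, 3, 6, 9, 4, 6, 5, 3, 10, 9, 3, 3, 6, 9, 4, 6, 5, 3]
theorem xp_c0 : relsRange RuPG.mdata [xpw] 275 0 = true := relsRange_strict RuPG.mdata [xpw] 275 0 (by decide +kernel)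
theorem xp_c1 : relsRange RuPG.mdata [xpw] 275 275 = true := relsRange_strict RuPG.mdata [xpw] 275 275 (by decide +kernel)
theorem xp_c2 : relsRange RuPG.mdata [xpw] 275 550 = true := relsRange_strict RuPG.mdata [xpw] 275 550 (by decide +kernel)
theorem xp_c3 : relsRange RuPG.mdata [xpw] 275 825 = true := relsRange_strict RuPG.mdata [xpw] 275 825 (by decide +kernel)
theorem xp_c4 : relsRange RuPG.mdata [xpw] 275 1100 = true := relsRange_strict RuPG.mdata [xpw] 275 1100 (by decide +kernel)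
theorem xp_c5 : relsRange RuPG.mdata [xpw] 275 1375 = true := relsRange_strict RuPG.mdata [xpw] 275 1375 (by decide +kernel)
theorem xp_c6 : relsRange RuPG.mdata [xpw] 275 1650 = true := relsRange_strict RuPG.mdata [xpw] 275 1650 (by decide +kernel)
theorem xp_c7 : relsRange RuPG.mdata [xpw] 275 1925 = true := relsRange_strict RuPG.mdata [xpw] 275 1925 (by decide +kernel)
theorem xp_c8 : relsRange RuPG.mdata [xpw] 275 2200 = true := relsRange_strict RuPG.mdata [xpw] 275 2200 (by decide +kernel)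
theorem xp_c9 : relsRange RuPG.mdata [xpw] 275 2475 = true := relsRange_strict RuPG.mdata [xpw] 275 2475 (by decide +kernel)
theorem xp_c10 : relsRange RuPG.mdata [xpw] 275 2750 = true := relsRange_strict RuPG.mdata [xpw] 275 2750 (by decide +kernel)
theorem xp_c11 : relsRange RuPG.mdata [xpw] 275 3025 = true := relsRange_strict RuPG.mdata [xpw] 275 3025 (by decide +kernel)
theorem xp_c12 : relsRange RuPG.mdata [xpw] 275 3300 = true := relsRange_strict RuPG.mdata [xpw] 275 3300 (by decide +kernel)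
theorem xp_c13 : relsRange RuPG.mdata [xpw] 275 3575 = true := relsRange_strict RuPG.mdata [xpw] 275 3575 (by decide +kernel)
theorem xp_c14 : relsRange RuPG.mdata [xpw] 210 3850 = true := relsRange_strict RuPG.mdata [xpw] 210 3850 (by decide +kernel)

end Cfsg.Agent.Helper4.TC.RuPS
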