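import Cfsg.Agent.Lib.Helper4.TC.Model

set_option autoImplicit false
set_option maxRecDepth 100000
set_option linter.unusedVariables false

namespace Cfsg.Agent.Helper4.TC.S44PO136

open Cfsg.Agent.Helper4.TC

def t0_0 : ℕ := 0x1c7f27202d28062b5d70183f5221711d1722327951800f107a3133021f7243690c567d5f05766f3c62374e0a6a1684823e1e0e084083423a364b124974585c3560656c6807470b4863610157344113544f855a156e24465e7c0d3b393d592c092a7375676d1104452930772f504d1b5314814c7b38645b261925866b2e0387554a23447e7866001a
noncomputable def tcol0 (b : ℕ) : ℕ := t0_0
def t1_0 : ℕ := 0x90d3659525816728604652f146f74031d62254b266a797e613323450c5b6844240246123f5f3e4764307f4911352a4a3c660838187b731b375d1a154e074c404231200569513a537c572b602d502c135e4f483b6d756e1e1c0b832980271f8285100e3206767a846b56788719000f7d775a3417394d227071552e67415c2854438163210a6c3d01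
noncomputable def tcol1 (b : ℕ) : ℕ := t1_0
def t2_0 : ℕ := 0x55136f433716093c7f1d3420465c49060b3a521c18411a668568114c235f3f6e4e700348530f04026a5e5d7a440a0125313987546375002f4f67226c4b2e79641b7b2b5b8427721f693e3d8008765624830c2c7d2932572d504a303545173328422658386b4d107c401e7e74477107732a82151486056d21620e0d36775a813b1978126165605951
noncomputable def tcol2 (b : ℕ) : ℕ := t2_0
def t3_0 : ℕ := 0x55136f433716093c7f1d3420465c49060b3a521c18411a668568114c235f3f6e4e700348530f04026a5e5d7a440a0125313987546375002f4f67226c4b2e79641b7b2b5b8427721f693e3d8008765624830c2c7d2932572d504a303545173328422658386b4d107c401e7e74477107732a82151486056d21620e0d36775a813b1978126165605951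
noncomputable def tcol3 (b : ℕ) : ℕ := t3_0
def a_0 : ℕ := 0x10601831c000900820d0104017d270003007b590108007a5201080079580008017806000401762b010801745d0006017370010401711800050271200106007014000602705c0103016f710107016e1d0005016d170104016c220108026b520004016b790102016a510005016980010202681a010501671001050266850107026468010502631100050063450107026223010602605f0105015f430006005f440107025c4e0006005c020105015b7d0004005b120105015a050004025a0f010601596f000400594701050058640108015537000701544e0105005349010500521101070051350102025001000700504a0106004f3c0107004e660107024d870108014c080004004c180107004b7b0101024a00010500491b0106014836010601474b000200471a0105014649010501457400060045070104024479000502446401030043420006014365010402422b0105004105010402408400020040510006003f3a0105003e530106013d630007003d5700020100010005023a8000060136340105023576000800312c0109022f240107012d4f0105012c850006002c480105022a7d010600286d00090128240107022757010802252d000600251c010702244a000701243b0107022335010301213d000301215901070220330108011f090003021f420003011e730108021d580108011c670006011c6d0003021b4d0105021a100004001a84010602194001080018560006011877010502167401040213470101001200000400120f01030211730104020f2a0108000e5a0006010e4c0005000d170109000c390103000b4d0004000b220104010a260003000a710108000955010800082e00060208360106020777010600065c0007010687010702053b00050205190107010423010402031200060003210106020265000502016000010100000000000000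
noncomputable def auxT (b : ℕ) : ℕ := a_0
noncomputable def tmT (c b : ℕ) : ℕ := Bool.rec (motive := fun _ => ℕ) (Bool.rec (motive := fun _ => ℕ) (tcol0 b) (tcol1 b) (Nat.ble 1 c)) (Bool.rec (motive := fun _ => ℕ) (tcol2 b) (tcol3 b) (Nat.ble 3 c)) (Nat.ble 2 c)

noncomputable def mdata : MData where
  n := 136
  w := 8
  mask := 255
  aw := 40
  amask := 1099511627775
  s1 := 8
  s2 := 16
  s3 := 24
  s4 := 32
  bsh := 11
  bmask := 2047
  nc := 4
  T := tmT
  A := auxT

end Cfsg.Agent.Helper4.TC.S44PO136
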