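import Cfsg.Agent.Lib.Helper4.TC.Perm

set_option autoImplicit false
set_option maxRecDepth 100000
set_option linter.unusedVariables false

namespace Cfsg.Agent.Helper4.TC.S44PS

open Cfsg.Agent.Helper4.TC

def l2_0 : ℕ := 0x1000c468700000c458601000b408500000b3e8401000b3d8301000b3c8200000b3b8100000b398001000b377f00000a367e01000a347d00000a347c01000a337b00000a337a01000a327901000a317800000a307701000a2f7601000a2e7500000a2e740100092d730000092c720100092b710100092a70010009296f010009276e010009266d000009266c010009256b010008236a010008226900000822680100081f670000081f660100081e650000081e640100081d630000081d620100071c610000071c600100071b5f010007185e000007175d010007165c010007155b010007145a010006135900000613580100061257010006115601000610550100060f540000060f530100060e520100060d510100050c500100050b4f0100050a4e0000050a4d010005094c010005084b000005084a0100040749000004074801000406470000040646010004054501000304440100030343000003034200000202410100020140010001003f000001003e000000003d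
noncomputable def lT2 (b : ℕ) : ℕ := l2_0
noncomputable def ld2 : LData where
  cnt := 75
  pmask := 255
  dmask := 65535
  ew := 40
  emask := 1099511627775
  s1 := 8
  s2 := 16
  s3 := 32
  bsh := 11
  bmask := 2047
  L := lT2

def W2 : List (List ℕ) := [
  [1, 1, 2, 0, 0],
  [1, 2, 1, 1, 2, 1, 2]
]

def l3_0 : ℕ := 0x300031586030002087d0000020a7b00000316780300020a740300030473030002096a0300030f6800000209670200020664010002086302000311610000020660020001005d010001005400000100530200030f510300010050000003044e020002084c010003154603000401440000030d43000000003e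
noncomputable def lT3 (b : ℕ) : ℕ := l3_0
noncomputable def ld3 : LData where
  cnt := 24
  pmask := 255
  dmask := 65535
  ew := 40
  emask := 1099511627775
  s1 := 8
  s2 := 16
  s3 := 32
  bsh := 11
  bmask := 2047
  L := lT3

def W3 : List (List ℕ) := [
  [0, 2, 0, 2, 1, 2, 0, 2, 0, 2, 0, 0, 2, 1, 2, 1, 3, 1, 3, 1, 1, 3, 0, 0, 3, 0, 3, 0, 0, 3, 0, 1, 1, 3, 0, 0, 3, 0, 3, 0, 0, 3, 0, 3, 0, 3, 0, 0, 3, 0, 1, 1, 3, 0, 0],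
  [1, 2, 0, 0, 2, 0, 2, 1, 2, 0, 2, 0, 0, 2, 0, 0, 0, 0, 0, 0, 3, 3, 0, 3, 0, 0, 3, 0, 3, 0, 3, 0, 0, 3, 0, 1, 1, 3, 0, 0, 3, 0, 3, 0, 0, 3, 0, 1, 1, 3, 0, 0, 3, 0, 3, 0, 0, 3, 0, 3, 0, 3, 0, 0, 3, 0, 3, 0, 3, 0, 0, 3, 0, 1, 1, 3, 0, 0, 3, 0, 3, 0, 0, 3, 0],
  [1, 1, 2, 1, 2, 1, 1, 2, 1, 1, 1, 1, 2, 1, 2, 1, 0, 3, 1, 1, 3, 0, 3, 0, 0, 3, 0],
  [1, 2, 1, 2, 1, 2, 1, 2, 0, 2, 0, 2, 0, 2, 1, 2, 1, 3, 0, 3, 0, 1, 1, 3, 0, 0, 3, 0, 3, 0, 0, 3, 0, 3, 0, 3, 0, 0, 3, 0, 3, 0, 3, 0, 0, 3, 0, 1, 1, 3, 0, 0]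
]

def l4_0 : ℕ := 0x100020137010001002500000100090000000001
noncomputable def lT4 (b : ℕ) : ℕ := l4_0
noncomputable def ld4 : LData where
  cnt := 4
  pmask := 255
  dmask := 65535
  ew := 40
  emask := 1099511627775
  s1 := 8
  s2 := 16
  s3 := 32
  bsh := 11
  bmask := 2047
  L := lT4

def W4 : List (List ℕ) := [
  [2, 0, 2, 0, 2, 1, 1, 1, 2, 1, 1, 1, 1, 1, 1, 2, 3, 1, 1, 3, 0, 3, 3, 0, 3, 0, 0, 3, 0, 3, 0, 3, 0, 0, 3, 0, 3, 0, 3, 0, 0, 3, 0, 3, 0, 3, 0, 0, 3, 0, 1, 1, 3, 0, 0, 3, 0, 3, 0, 0, 3, 0, 1, 1, 3, 0, 0, 3, 0, 3, 0, 0, 3, 0, 1, 1, 3, 0, 0, 1, 2, 1, 1, 2, 1, 2, 1, 1, 2, 0, 0, 1, 2, 1, 1, 2, 1, 2, 1, 2, 1, 1, 2, 1, 2, 1, 2, 1, 1, 2, 1, 2, 1, 1, 2, 0, 0, 1, 2, 1, 1, 2, 1, 2, 1, 1, 2, 0, 0, 1, 2, 1, 1, 2, 1, 2, 1, 2, 1, 1, 2, 1, 2, 2, 1, 1, 1, 1, 1, 1, 3, 1, 1, 3, 1, 3, 0, 3, 1, 3, 1, 1, 3, 0, 1, 1, 2, 0, 0, 1,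 2, 1, 1, 2, 1, 2, 1, 2, 1, 1, 2, 1, 2, 1, 1, 2, 0, 0, 1, 2, 1, 1, 2, 1, 2, 1, 1, 2, 0, 0, 2, 0, 2, 0, 3, 0, 3, 1, 1, 3, 1, 3, 1, 3, 0, 3, 1, 3, 1],
  [1, 2, 0, 0, 2, 1, 2, 0, 2, 1, 1, 2, 0, 2, 1, 2, 0, 3, 1, 1, 3, 0, 3, 0, 0, 3, 0, 3, 0, 3, 0, 0, 3, 0, 3, 0, 3, 0, 0, 3, 0, 3, 0, 3, 0, 0, 3, 0, 1, 1, 3, 0, 0, 1, 1, 2, 0, 0, 1, 2, 1, 1, 2, 1, 2, 1, 2, 1, 1, 2, 1, 2, 1, 2, 1, 1, 2, 1, 2, 1, 1, 2, 0, 0, 1, 2, 1, 2, 0, 3, 0, 3, 1, 3, 1, 3, 1, 3, 0, 3, 0, 3, 0, 3, 0]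
]

end Cfsg.Agent.Helper4.TC.S44PS
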