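import Cfsg.Agent.Lib.Helper4.TC.S44PSL
import Cfsg.Agent.Lib.Helper4.TC.S44PO136Glue
import Cfsg.Agent.Lib.Helper4.TC.Strict

set_option autoImplicit false
set_option maxRecDepth 100000
set_option linter.unusedVariables false
set_option Elab.async false

namespace Cfsg.Agent.Helper4.TC.S44PS

open Cfsg.Agent.Helper4.TC

theorem lvl2_c0 : lvlRange S44PO136.mdata ld2 W2 61 75 0 = true := lvlRange_strict S44PO136.mdata ld2 W2 61 75 0 (by decide +kernel)
theorem srt2_c0 : srtRange ld2 74 0 = true := srtRange_strict ld2 74 0 (by decide +kernel)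
theorem fix2 : ∀ w ∈ W2, (∀ c ∈ w, c < S44PO136.mdata.nc) ∧ ∀ q ∈ [0], mtrace S44PO136.mdata w q = q := by decide +kernel

theorem lvl3_c0 : lvlRange S44PO136.mdata ld3 W3 62 24 0 = true := lvlRange_strict S44PO136.mdata ld3 W3 62 24 0 (by decide +kernel)
theorem srt3_c0 : srtRange ld3 23 0 = true := srtRange_strict ld3 23 0 (by decide +kernel)
theorem fix3 : ∀ w ∈ W3, (∀ c ∈ w, c < S44PO136.mdata.nc) ∧ ∀ q ∈ [61, 0], mtrace S44PO136.mdata w q = q := by decide +kernel

theorem lvl4_c0 : lvlRange S44PO136.mdata ld4 W4 1 4 0 = true := lvlRange_strict S44PO136.mdata ld4 W4 1 4 0 (by decide +kernel)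
theorem srt4_c0 : srtRange ld4 3 0 = true := srtRange_strict ld4 3 0 (by decide +kernel)
theorem fix4 : ∀ w ∈ W4, (∀ c ∈ w, c < S44PO136.mdata.nc) ∧ ∀ q ∈ [62, 61, 0], mtrace S44PO136.mdata w q = q := by decide +kernel

theorem lvl2 : LevelOK S44PO136.mdata ld2 W2 61 := by
  refine ⟨?_, ?_⟩
  · intro k hk
    have hk' : k < 75 := hk
    exact lvlRange_sound S44PO136.mdata ld2 W2 61 75 0 lvl2_c0 k (by omega) (by omega)
  · intro k hk
    have hk' : k + 1 < 75 := hk
    exact srtRange_sound ld2 74 0 srt2_c0 k (by omega) (by omega)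

theorem lvl3 : LevelOK S44PO136.mdata ld3 W3 62 := by
  refine ⟨?_, ?_⟩
  · intro k hk
    have hk' : k < 24 := hk
    exact lvlRange_sound S44PO136.mdata ld3 W3 62 24 0 lvl3_c0 k (by omega) (by omega)
  · intro k hk
    have hk' : k + 1 < 24 := hk
    exact srtRange_sound ld3 23 0 srt3_c0 k (by omega) (by omega)

theorem lvl4 : LevelOK S44PO136.mdata ld4 W4 1 := by
  refine ⟨?_, ?_⟩
  · intro k hk
    have hk' : k < 4 := hk
    exact lvlRange_sound S44PO136.mdata ld4 W4 1 4 0 lvl4_c0 k (by omega) (by omega)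
  · intro k hk
    have hk' : k + 1 < 4 := hk
    exact srtRange_sound ld4 3 0 srt4_c0 k (by omega) (by omega)

noncomputable def specs : List LSpec := [⟨ld2, W2, 61⟩, ⟨ld3, W3, 62⟩, ⟨ld4, W4, 1⟩]

theorem levels_ok : LevelsOK S44PO136.mdata [0] specs := by
  refine levelsOK_cons S44PO136.mdata [0] ⟨ld2, W2, 61⟩ _ lvl2 (by decide) fix2 ?_
  refine levelsOK_cons S44PO136.mdata [61, 0] ⟨ld3, W3, 62⟩ _ lvl3 (by decide) fix3 ?_
  refine levelsOK_cons S44PO136.mdata [62, 61, 0] ⟨ld4, W4, 1⟩ _ lvl4 (by decide) fix4 ?_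
  exact levelsOK_nil _ _

end Cfsg.Agent.Helper4.TC.S44PS
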