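import Mathlib
import Cfsg.Agent.Lib.Helper4.TC.Perm

set_option autoImplicit false
set_option linter.unusedVariables false
set_option linter.unusedSectionVars false

/-! 3 × 3 matrices over `ZMod 7` as plain data, so that words in matrices of determinant one can
be evaluated by the kernel, and homomorphisms from presented groups to `PSL(3, 7)`. -/

namespace Cfsg.Agent.Helper4.TC

/-- 3 × 3 matrices over `ZMod 7` as data -/
structure M3 where
  (a00 a01 a02 a10 a11 a12 a20 a21 a22 : ZMod 7)
  deriving DecidableEq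

namespace M3

/-- the product -/
def mul (X Y : M3) : M3 :=
  ⟨X.a00 * Y.a00 + X.a01 * Y.a10 + X.a02 * Y.a20,
    X.a00 * Y.a01 + X.a01 * Y.a11 + X.a02 * Y.a21,
    X.a00 * Y.a02 + X.a01 * Y.a12 + X.a02 * Y.a22,
    X.a10 * Y.a00 + X.a11 * Y.a10 + X.a12 * Y.a20,
    X.a10 * Y.a01 + X.a11 * Y.a11 + X.a12 * Y.a21,
    X.a10 * Y.a02 + X.a11 * Y.a12 + X.a12 * Y.a22,
    X.a20 * Y.a00 + X.a21 * Y.a10 + X.a22 * Y.a20,
    X.a20 * Y.a01 + X.a21 * Y.a11 + X.a22 * Y.a21,
    X.a20 * Y.a02 + X.a21 * Y.a12 + X.a22 * Y.a22⟩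

/-- the identity -/
def one : M3 := ⟨1, 0, 0, 0, 1, 0, 0, 0, 1⟩

/-- the scalar matrices -/
def scal (c : ZMod 7) : M3 := ⟨c, 0, 0, 0, c, 0, 0, 0, c⟩

/-- the determinant -/
def det (X : M3) : ZMod 7 :=
  X.a00 * X.a11 * X.a22 - X.a00 * X.a12 * X.a21 - X.a01 * X.a10 * X.a22 + X.a01 * X.a12 * X.a20 +
    X.a02 * X.a10 * X.a21 - X.a02 * X.a11 * X.a20

/-- the matrix in Mathlib's sense -/
def toMat (X : M3) : Matrix (Fin 3) (Fin 3) (ZMod 7) := !![X.a00, X.a01, X.a02; X.a10, X.a11, X.a12; X.a20, X.a21, X.a22]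

theorem toMat_mul (X Y : M3) : (X.mul Y).toMat = X.toMat * Y.toMat := by
  ext i j
  fin_cases i <;> fin_cases j <;>
    simp [toMat, mul, Matrix.mul_apply, Fin.sum_univ_three]

theorem toMat_one : one.toMat = 1 := by
  ext i j
  fin_cases i <;> fin_cases j <;> simp [toMat, one, Matrix.one_apply]

theorem toMat_scal (c : ZMod 7) : (scal c).toMat = Matrix.scalar (Fin 3) c := by
  ext i j
  fin_cases i <;> fin_cases j <;> simp [toMat, scal, Matrix.scalar_apply, Matrix.diagonal_apply]

theorem det_toMat (X : M3) : X.toMat.det = X.det := by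
  rw [Matrix.det_fin_three]
  simp [toMat, det]

/-- one of the three scalar matrices of determinant one -/
def isScal (X : M3) : Bool := decide (X = scal 1) || decide (X = scal 2) || decide (X = scal 4)

theorem exists_of_isScal (X : M3) (h : X.isScal = true) : ∃ c : ZMod 7, c ^ 3 = 1 ∧ X = scal c := by
  unfold isScal at h
  simp only [Bool.or_eq_true, decide_eq_true_eq] at h
  rcases h with (h | h) | h
  · exact ⟨1, by decide, h⟩
  · exact ⟨2, by decide, h⟩
  · exact ⟨4, by decide, h⟩

end M3

/-- the special linear group of degree three over the field with seven elements -/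
abbrev SL37 : Type := Matrix.SpecialLinearGroup (Fin 3) (ZMod 7)

/-- the projective special linear group of degree three over the field with seven elements -/
abbrev PSL37 : Type := Matrix.ProjectiveSpecialLinearGroup (Fin 3) (ZMod 7)

section

variable {α : Type} (D D' : α → M3)
  (hdet : ∀ x, (D x).det = 1)
  (hinv : ∀ x, (D x).mul (D' x) = M3.one)

/-- the matrix of determinant one of a generator -/
def slOf (x : α) : SL37 := ⟨(D x).toMat, by rw [M3.det_toMat]; exact hdet x⟩

/-- the data of a letter -/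
def dl3 (l : Letter α) : M3 := if l.2 then D l.1 else D' l.1

/-- evaluation of a word at the level of data (the first letter acts first) -/
def evD3 (d : Letter α → M3) : List (Letter α) → M3
  | [] => M3.one
  | l :: ls => (evD3 d ls).mul (d l)

include hinv in
theorem coe_gl3 (l : Letter α) :
    ((gl (slOf D hdet) l : SL37) : Matrix (Fin 3) (Fin 3) (ZMod 7)) = (dl3 D D' l).toMat := by
  rcases l with ⟨x, s⟩
  cases s
  · show (((slOf D hdet x)⁻¹ : SL37) : Matrix (Fin 3) (Fin 3) (ZMod 7)) = (D' x).toMat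
    have h1 : (slOf D hdet x)⁻¹ = ⟨(D' x).toMat, by
        have h2 := congrArg M3.det (hinv x)
        have h3 : ((D x).toMat * (D' x).toMat).det = 1 := by
          rw [← M3.toMat_mul, hinv, M3.toMat_one, Matrix.det_one]
        rw [Matrix.det_mul, M3.det_toMat, hdet x, one_mul] at h3
        exact h3⟩ := by
      apply inv_eq_of_mul_eq_one_right
      apply Subtype.ext
      show (D x).toMat * (D' x).toMat = 1
      rw [← M3.toMat_mul, hinv, M3.toMat_one]
    rw [h1]
  · rfl

include hinv in
theorem coe_ev3 (ls : List (Letter α)) :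
    ((ev (slOf D hdet) ls : SL37) : Matrix (Fin 3) (Fin 3) (ZMod 7)) =
      (evD3 (dl3 D D') ls).toMat := by
  induction ls with
  | nil => exact M3.toMat_one.symm
  | cons l ls ih =>
    show ((ev (slOf D hdet) ls * gl (slOf D hdet) l : SL37) : Matrix (Fin 3) (Fin 3) (ZMod 7)) =
      ((evD3 (dl3 D D') ls).mul (dl3 D D' l)).toMat
    rw [M3.toMat_mul, ← ih, ← coe_gl3 D D' hdet hinv l]
    rfl

include hinv in
theorem ev_mem_center (ls : List (Letter α)) (h : (evD3 (dl3 D D') ls).isScal = true) :
    ev (slOf D hdet) ls ∈ Subgroup.center SL37 := by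
  obtain ⟨c, hc, hX⟩ := M3.exists_of_isScal _ h
  rw [Matrix.SpecialLinearGroup.mem_center_iff]
  refine ⟨c, by simpa using hc, ?_⟩
  rw [coe_ev3 D D' hdet hinv, hX, M3.toMat_scal]

theorem evc_map {P Q : Type*} [Group P] [Group Q] (θ : P →* Q) (f : α → P) (dec : ℕ → Letter α)
    (b : List ℕ) : θ (evc f dec b) = evc (fun x => θ (f x)) dec b := by
  induction b with
  | nil => exact map_one θ
  | cons c cs ih =>
    rw [evc_cons, evc_cons, map_mul, ih]
    congr 1
    unfold gl
    split_ifs
    · rfl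
    · exact map_inv θ _

include hinv in
/-- the homomorphism from a presented group given by matrices of determinant one, modulo
scalars -/
theorem exists_hom_psl (R : Set (FreeGroup α)) (dec : ℕ → Letter α) (bases : List (List ℕ))
    (hR1 : ∀ r ∈ R, ∃ b ∈ bases, r = wordF dec b)
    (hchk : ∀ b ∈ bases, (evD3 (dl3 D D') (b.map dec)).isScal = true) :
    ∃ φ : PresentedGroup R →* PSL37,
      ∀ x, φ (PresentedGroup.of x) = QuotientGroup.mk (slOf D hdet x) := by
  have hf : ∀ r ∈ R, FreeGroup.lift (fun x => (QuotientGroup.mk (slOf D hdet x) : PSL37)) r = 1 := by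
    intro r hr
    obtain ⟨b, hb, rfl⟩ := hR1 r hr
    rw [lift_wordF]
    have h1 := evc_map (QuotientGroup.mk' (Subgroup.center SL37)) (slOf D hdet) dec b
    rw [show (fun x => (QuotientGroup.mk (slOf D hdet x) : PSL37)) =
      fun x => (QuotientGroup.mk' (Subgroup.center SL37)) (slOf D hdet x) from rfl, ← h1]
    exact (QuotientGroup.eq_one_iff _).mpr (ev_mem_center D D' hdet hinv _ (hchk b hb))
  exact ⟨PresentedGroup.toGroup hf, fun x => PresentedGroup.toGroup.of hf⟩

end

end Cfsg.Agent.Helper4.TC
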