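import Cfsg.Agent.Lib.Helper4.TC.Main
import Cfsg.Prelude.Def_SporCoxeter

set_option autoImplicit false
set_option linter.unusedVariables false
set_option linter.unusedSectionVars false
set_option linter.style.haveILetI false

/-! The standard letter codes of a list of generators, and the relators of a Coxeter graph as a list. -/

namespace Cfsg.Agent.Helper4.TC

section Std

variable {α : Type} [DecidableEq α]

/-- the letter with code `c`: the generator number `c / 2`, inverted if `c` is odd -/
def stdDec (gens : List α) (x0 : α) (c : ℕ) : Letter α := (gens.getD (c / 2) x0, Nat.beq (c % 2) 0)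

def stdEnc (gens : List α) (x : α) : ℕ := 2 * gens.idxOf x

theorem xor_one_even (c : ℕ) (h : c % 2 = 0) : Nat.xor c 1 = c + 1 :=
  Nat.xor_one_of_even (Nat.even_iff.mpr h)

theorem xor_one_odd (c : ℕ) (h : c % 2 = 1) : Nat.xor c 1 = c - 1 :=
  Nat.xor_one_of_odd (Nat.odd_iff.mpr h)

theorem std_coding (gens : List α) (x0 : α) (hnd : gens.Nodup) (hall : ∀ x, x ∈ gens) (nc : ℕ)
    (hnc : nc = 2 * gens.length) : Coding (stdDec gens x0) (stdEnc gens) nc := by
  refine ⟨?_, ?_, ?_, ?_, ?_⟩
  · intro c
    unfold stdDec linv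
    rcases Nat.mod_two_eq_zero_or_one c with h | h
    · rw [xor_one_even c h]
      have h1 : (c + 1) / 2 = c / 2 := by omega
      have h2 : (c + 1) % 2 = 1 := by omega
      rw [h1, h2, h]
      rfl
    · rw [xor_one_odd c h]
      have h1 : (c - 1) / 2 = c / 2 := by omega
      have h2 : (c - 1) % 2 = 0 := by omega
      rw [h1, h2, h]
      rfl
  · intro c hc
    rcases Nat.mod_two_eq_zero_or_one c with h | h
    · rw [xor_one_even c h]; omega
    · rw [xor_one_odd c h]; omega
  · intro x
    unfold stdEnc
    have := List.idxOf_lt_length_of_mem (hall x)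
    omega
  · intro x
    unfold stdDec stdEnc
    have h1 : 2 * List.idxOf x gens / 2 = List.idxOf x gens := by omega
    have h2 : 2 * List.idxOf x gens % 2 = 0 := by omega
    have hlt := List.idxOf_lt_length_of_mem (hall x)
    rw [h1, h2, List.getD_eq_getElem _ _ hlt, List.getElem_idxOf hlt]
    rfl
  · intro c hc hb
    unfold stdDec at hb ⊢
    unfold stdEnc
    simp only at hb ⊢
    have h0 : c % 2 = 0 := Nat.eq_of_beq_eq_true hb
    have hlt : c / 2 < gens.length := by omega
    rw [List.getD_eq_getElem _ _ hlt, hnd.idxOf_getElem]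
    omega

/-- the relators of a Coxeter graph, as a list -/
def coxList (edges : List (α × ℕ × α)) : List (FreeGroup α) :=
  (Cfsg.Spor.coxNodes edges).flatMap fun x => (Cfsg.Spor.coxNodes edges).map fun y =>
    (FreeGroup.of x * FreeGroup.of y) ^ Cfsg.Spor.coxLabel edges x y

theorem mem_coxRelators_iff (edges : List (α × ℕ × α)) (r : FreeGroup α) :
    r ∈ Cfsg.Spor.coxRelators edges ↔ r ∈ coxList edges := by
  unfold Cfsg.Spor.coxRelators coxList
  simp only [Set.mem_setOf_eq, List.mem_flatMap, List.mem_map]
  constructor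
  · rintro ⟨x, hx, y, hy, rfl⟩
    exact ⟨x, hx, y, hy, rfl⟩
  · rintro ⟨x, hx, y, hy, rfl⟩
    exact ⟨x, hx, y, hy, rfl⟩

theorem mem_rels_iff (edges : List (α × ℕ × α)) (extra : List (FreeGroup α)) (r : FreeGroup α) :
    r ∈ Cfsg.Spor.coxRelators edges ∪ {r | r ∈ extra} ↔ r ∈ coxList edges ++ extra := by
  rw [Set.mem_union, mem_coxRelators_iff, List.mem_append]
  rfl

end Std

end Cfsg.Agent.Helper4.TC
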