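import Cfsg.Agent.Lib.Helper4.TC.SuzSMain
import Cfsg.Agent.Lib.Helper4.TC.SuzG24Glue
import Cfsg.Agent.Lib.Helper4.TC.G24Iso
import Cfsg.Agent.Lib.Helper4.TC.Embed2

set_option autoImplicit false
set_option maxRecDepth 100000
set_option maxHeartbeats 0
set_option linter.unusedVariables false

namespace Cfsg.Agent.Helper4.TC.SuzG2

open Cfsg.Agent.Helper4.TC

open Cfsg.Agent.Lib.Helper6.FFour

abbrev Rset : Set (FreeGroup Cfsg.Spor.Suz.Gen) := Cfsg.Spor.coxRelators Cfsg.Spor.Suz.edges ∪ {r | r ∈ Cfsg.Spor.Suz.extra}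
def pts : List ℕ := [0, 1575, 1, 16, 1417, 1463, 24, 2]

def sig : Cfsg.Agent.Helper4.Pres.G24.Gen → List ℕ
  | .a => [0]
  | .b => [2]
  | .c => [4]
  | .d => [6]
  | .e => [8]
  | .f => [10]

theorem chk : ∀ b ∈ G24PJ2.bases, fixesB SuzG24.mdata pts (substW sig G24PJ2.dec b) = true := by decide +kernel
def gensL : List Cfsg.Agent.Helper4.Pres.G24.Gen := [.a, .b, .c, .d, .e, .f]
theorem hsubs' : ∀ b ∈ SuzG24.subsL, b ∈ gensL.map sig := by decide
theorem hsubs (b : List ℕ) (hb : b ∈ SuzG24.subsL) : ∃ x, sig x = b := by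
  obtain ⟨x, _, hx⟩ := List.mem_map.mp (hsubs' b hb)
  exact ⟨x, hx⟩

theorem exists_psi : ∃ ψ : PresentedGroup G24PS.Rset →* PresentedGroup Rset,
    ∀ x, ψ (PresentedGroup.of x) = PresentedGroup.mk Rset (wordF SuzG24.dec (sig x)) :=
  exists_hom_of_subst SuzG24.coding SuzG24.hR1 SuzG24.model_ok 448345497600 (by norm_num) SuzS.card_top
    SuzS.specs SuzS.levels_ok (by decide) G24PS.Rset G24PJ2.bases G24PJ2.hR1 sig pts rfl chk

theorem s1679 : ∃ (K : Type) (_ : Field K) (_ : Fintype K), Fintype.card K = 4 ∧ Nonempty (((Subgroup.closure SuzG24.Sset).map (PresentedGroup.mk Rset)) ≃* Cfsg.Lie.chevG2.group K) := by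
  haveI : IsSimpleGroup (PresentedGroup G24PS.Rset) := G24PS.main.1
  haveI : Finite (PresentedGroup G24PS.Rset) := G24PS.card_top.1
  haveI : Finite (PresentedGroup Rset) := SuzS.card_top.1
  obtain ⟨ψ, hψ⟩ := exists_psi
  have hle : ((Subgroup.closure SuzG24.Sset).map (PresentedGroup.mk Rset)) ≤ ψ.range := by
    rw [Subgroup.map_le_iff_le_comap, Subgroup.closure_le]
    intro s hs
    obtain ⟨b, hb, rfl⟩ := SuzG24.hS1 s hs
    obtain ⟨x, hx⟩ := hsubs b hb
    refine ⟨PresentedGroup.of x, ?_⟩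
    rw [hψ, hx]
  have hcard : Nat.card ((Subgroup.closure SuzG24.Sset).map (PresentedGroup.mk Rset)) = Nat.card (PresentedGroup G24PS.Rset) := by
    have h1 := ((Subgroup.closure SuzG24.Sset).map (PresentedGroup.mk Rset)).card_mul_index
    rw [SuzG24.main.1, SuzS.main.2] at h1
    rw [G24PS.main.2]
    omega
  obtain ⟨e⟩ := equiv_of_le_range ψ _ hle hcard (by rw [G24PS.main.2]; norm_num)
  obtain ⟨e2⟩ := G24Iso.iso
  exact ⟨K4, inferInstance, inferInstance, by decide, ⟨e.trans e2⟩⟩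

end Cfsg.Agent.Helper4.TC.SuzG2
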