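set_option autoImplicit false

/-! Two central relators of the weak group on five elements of order 7: the first is a central
involution in the model on 65520 points and trivial in the model on 5346 points, the second is
trivial in the first model and has order 3 in the second. -/

namespace Cfsg.Agent.Helper4.TC.SuzKC6

def w1 : List Nat := [2, 7, 2, 7]
def w2 : List Nat := [6, 9, 6, 9, 6, 9, 6, 9, 6, 9, 6, 9, 6, 9, 6, 9]

end Cfsg.Agent.Helper4.TC.SuzKC6
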