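import Cfsg.Agent.Lib.Helper4.TC.SuzKSD

set_option autoImplicit false
set_option maxRecDepth 100000
set_option linter.unusedVariables false
set_option linter.style.haveILetI false

/-! The group on five generators with the weak relators has order at most six times the order of
the sporadic Suzuki group: four of the generators generate a quotient of the group with the weak
relators of `G2KSD` (of order at most 503193600), of index at most 5346. -/

namespace Cfsg.Agent.Helper4.TC.SuzKCard

open Cfsg Cfsg.Agent.Helper4.TC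
open Cfsg.Agent.Helper4.Pres.SuzK (Gen)

abbrev decK : ℕ → Letter Gen := SuzKCod.dec
abbrev dec4 : ℕ → Letter Cfsg.Agent.Helper4.Pres.HeK.Gen := HeKCod.dec

/-- the group with the weak relators -/
abbrev RW : Set (FreeGroup Gen) :=
  relSet decK (SuzKSD.exL ++ Schur.weakify0 SuzKSD.g5 SuzKSD.ceL)
abbrev PW : Type := PresentedGroup RW

/-- the group on four generators with the weak relators -/
abbrev RW4 : Set (FreeGroup Cfsg.Agent.Helper4.Pres.HeK.Gen) :=
  relSet dec4 (G2KSD.exL ++ Schur.weakify0 G2KSD.g4 G2KSD.ceL)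
abbrev PW4 : Type := PresentedGroup RW4

theorem card_PW4 : Finite PW4 ∧ Nat.card PW4 ≤ 503193600 := by
  have h := G2KSD.card4
  rw [G2KSD.hb4] at h
  exact h

/-- the four generators among the five -/
def sig : Cfsg.Agent.Helper4.Pres.HeK.Gen → List ℕ
  | .p => [0]
  | .q => [2]
  | .r => [4]
  | .s => [6]

theorem hsub : ∀ b ∈ G2KSD.exL ++ Schur.weakify0 G2KSD.g4 G2KSD.ceL,
    substW sig dec4 b ∈ SuzKSD.exL ++ Schur.weakify0 SuzKSD.g5 SuzKSD.ceL := by decide +kernel

/-- words in words -/
theorem evc_mk_subst {α β : Type} {R : Set (FreeGroup α)} {dec : ℕ → Letter α} {enc : α → ℕ}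
    {nc : ℕ} (hcod : Coding dec enc nc) {dec' : ℕ → Letter β} (σ : β → List ℕ) (b : List ℕ) :
    evc (fun x => PresentedGroup.mk R (wordF dec (σ x))) dec' b =
      PresentedGroup.mk R (wordF dec (substW σ dec' b)) := by
  have h2 : (fun x => PresentedGroup.mk R (wordF dec (σ x))) =
      fun x => evc (PresentedGroup.of (rels := R)) dec (σ x) := funext fun x => (evc_of R dec _).symm
  rw [h2, ← evc_substW _ hcod, evc_of]

theorem psi4_rel : ∀ r ∈ RW4,
    FreeGroup.lift (fun x => PresentedGroup.mk RW (wordF decK (sig x))) r = 1 := by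
  intro r hr
  obtain ⟨b, hb, rfl⟩ := hr
  rw [lift_wordF, evc_mk_subst SuzKCod.coding]
  exact PresentedGroup.one_of_mem (mem_relSet _ _ (hsub b hb))

noncomputable def ψ4 : PW4 →* PW := PresentedGroup.toGroup psi4_rel

theorem ψ4_of (x : Cfsg.Agent.Helper4.Pres.HeK.Gen) :
    ψ4 (PresentedGroup.of x) = PresentedGroup.mk RW (wordF decK (sig x)) :=
  PresentedGroup.toGroup.of _

theorem hle : (Subgroup.closure (relSet decK SuzKS5.subsL)).map (PresentedGroup.mk RW) ≤
    ψ4.range := by
  rw [MonoidHom.map_closure, Subgroup.closure_le]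
  rintro _ ⟨s, ⟨b, hb, rfl⟩, rfl⟩
  simp only [SuzKS5.subsL, List.mem_cons, List.not_mem_nil, or_false] at hb
  rcases hb with rfl | rfl | rfl | rfl
  · exact ⟨PresentedGroup.of .p, ψ4_of .p⟩
  · exact ⟨PresentedGroup.of .q, ψ4_of .q⟩
  · exact ⟨PresentedGroup.of .r, ψ4_of .r⟩
  · exact ⟨PresentedGroup.of .s, ψ4_of .s⟩

theorem card_PW : Finite PW ∧ Nat.card PW ≤ 2690072985600 := by
  have hidx := SuzKS5.bound
  rw [SuzKSD.hb5] at hidx
  have h := card_le_of_index_le _ SuzKS5.n 503193600 hidx
    (card_le_of_le_range ψ4 _ hle 503193600 card_PW4)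
  exact ⟨h.1, h.2.trans (by decide)⟩

instance : Finite PW := card_PW.1

end Cfsg.Agent.Helper4.TC.SuzKCard
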