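import Cfsg.Agent.Lib.Helper4.TC.SuzKM2Model
import Cfsg.Agent.Lib.Helper4.TC.Strict

set_option autoImplicit false
set_option maxRecDepth 100000
set_option linter.unusedVariables false
set_option Elab.async false

namespace Cfsg.Agent.Helper4.TC.SuzKM2

open Cfsg.Agent.Helper4.TC

theorem rel80 : relsRange mdata basesM 47 3760 = true := relsRange_strict mdata basesM 47 3760 (by decide +kernel)
theorem rel81 : relsRange mdata basesM 47 3807 = true := relsRange_strict mdata basesM 47 3807 (by decide +kernel)
theorem rel82 : relsRange mdata basesM 47 3854 = true := relsRange_strict mdata basesM 47 3854 (by decide +kernel)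
theorem rel83 : relsRange mdata basesM 47 3901 = true := relsRange_strict mdata basesM 47 3901 (by decide +kernel)
theorem rel84 : relsRange mdata basesM 47 3948 = true := relsRange_strict mdata basesM 47 3948 (by decide +kernel)
theorem rel85 : relsRange mdata basesM 47 3995 = true := relsRange_strict mdata basesM 47 3995 (by decide +kernel)
theorem rel86 : relsRange mdata basesM 47 4042 = true := relsRange_strict mdata basesM 47 4042 (by decide +kernel)
theorem rel87 : relsRange mdata basesM 47 4089 = true := relsRange_strict mdata basesM 47 4089 (by decide +kernel)

end Cfsg.Agent.Helper4.TC.SuzKM2
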