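import Cfsg.Agent.Lib.Helper4.TC.SuzKM2Model
import Cfsg.Agent.Lib.Helper4.TC.Strict

set_option autoImplicit false
set_option maxRecDepth 100000
set_option linter.unusedVariables false
set_option Elab.async false

namespace Cfsg.Agent.Helper4.TC.SuzKM2

open Cfsg.Agent.Helper4.TC

theorem rel800 : relsRange mdata basesM 47 37600 = true := relsRange_strict mdata basesM 47 37600 (by decide +kernel)
theorem rel801 : relsRange mdata basesM 47 37647 = true := relsRange_strict mdata basesM 47 37647 (by decide +kernel)
theorem rel802 : relsRange mdata basesM 47 37694 = true := relsRange_strict mdata basesM 47 37694 (by decide +kernel)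
theorem rel803 : relsRange mdata basesM 47 37741 = true := relsRange_strict mdata basesM 47 37741 (by decide +kernel)
theorem rel804 : relsRange mdata basesM 47 37788 = true := relsRange_strict mdata basesM 47 37788 (by decide +kernel)
theorem rel805 : relsRange mdata basesM 47 37835 = true := relsRange_strict mdata basesM 47 37835 (by decide +kernel)
theorem rel806 : relsRange mdata basesM 47 37882 = true := relsRange_strict mdata basesM 47 37882 (by decide +kernel)
theorem rel807 : relsRange mdata basesM 47 37929 = true := relsRange_strict mdata basesM 47 37929 (by decide +kernel)

end Cfsg.Agent.Helper4.TC.SuzKM2
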