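import Cfsg.Agent.Lib.Helper4.TC.SuzKM2Model
import Cfsg.Agent.Lib.Helper4.TC.Strict

set_option autoImplicit false
set_option maxRecDepth 100000
set_option linter.unusedVariables false
set_option Elab.async false

namespace Cfsg.Agent.Helper4.TC.SuzKM2

open Cfsg.Agent.Helper4.TC

theorem rel808 : relsRange mdata basesM 47 37976 = true := relsRange_strict mdata basesM 47 37976 (by decide +kernel)
theorem rel809 : relsRange mdata basesM 47 38023 = true := relsRange_strict mdata basesM 47 38023 (by decide +kernel)
theorem rel810 : relsRange mdata basesM 47 38070 = true := relsRange_strict mdata basesM 47 38070 (by decide +kernel)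
theorem rel811 : relsRange mdata basesM 47 38117 = true := relsRange_strict mdata basesM 47 38117 (by decide +kernel)
theorem rel812 : relsRange mdata basesM 47 38164 = true := relsRange_strict mdata basesM 47 38164 (by decide +kernel)
theorem rel813 : relsRange mdata basesM 47 38211 = true := relsRange_strict mdata basesM 47 38211 (by decide +kernel)
theorem rel814 : relsRange mdata basesM 47 38258 = true := relsRange_strict mdata basesM 47 38258 (by decide +kernel)
theorem rel815 : relsRange mdata basesM 47 38305 = true := relsRange_strict mdata basesM 47 38305 (by decide +kernel)

end Cfsg.Agent.Helper4.TC.SuzKM2
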