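import Cfsg.Agent.Lib.Helper4.TC.SuzKM2Model
import Cfsg.Agent.Lib.Helper4.TC.Strict

set_option autoImplicit false
set_option maxRecDepth 100000
set_option linter.unusedVariables false
set_option Elab.async false

namespace Cfsg.Agent.Helper4.TC.SuzKM2

open Cfsg.Agent.Helper4.TC

theorem rel816 : relsRange mdata basesM 47 38352 = true := relsRange_strict mdata basesM 47 38352 (by decide +kernel)
theorem rel817 : relsRange mdata basesM 47 38399 = true := relsRange_strict mdata basesM 47 38399 (by decide +kernel)
theorem rel818 : relsRange mdata basesM 47 38446 = true := relsRange_strict mdata basesM 47 38446 (by decide +kernel)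
theorem rel819 : relsRange mdata basesM 47 38493 = true := relsRange_strict mdata basesM 47 38493 (by decide +kernel)
theorem rel820 : relsRange mdata basesM 47 38540 = true := relsRange_strict mdata basesM 47 38540 (by decide +kernel)
theorem rel821 : relsRange mdata basesM 47 38587 = true := relsRange_strict mdata basesM 47 38587 (by decide +kernel)
theorem rel822 : relsRange mdata basesM 47 38634 = true := relsRange_strict mdata basesM 47 38634 (by decide +kernel)
theorem rel823 : relsRange mdata basesM 47 38681 = true := relsRange_strict mdata basesM 47 38681 (by decide +kernel)

end Cfsg.Agent.Helper4.TC.SuzKM2
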