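import Cfsg.Agent.Lib.Helper4.TC.SuzKM2Model
import Cfsg.Agent.Lib.Helper4.TC.Strict

set_option autoImplicit false
set_option maxRecDepth 100000
set_option linter.unusedVariables false
set_option Elab.async false

namespace Cfsg.Agent.Helper4.TC.SuzKM2

open Cfsg.Agent.Helper4.TC

theorem rel824 : relsRange mdata basesM 47 38728 = true := relsRange_strict mdata basesM 47 38728 (by decide +kernel)
theorem rel825 : relsRange mdata basesM 47 38775 = true := relsRange_strict mdata basesM 47 38775 (by decide +kernel)
theorem rel826 : relsRange mdata basesM 47 38822 = true := relsRange_strict mdata basesM 47 38822 (by decide +kernel)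
theorem rel827 : relsRange mdata basesM 47 38869 = true := relsRange_strict mdata basesM 47 38869 (by decide +kernel)
theorem rel828 : relsRange mdata basesM 47 38916 = true := relsRange_strict mdata basesM 47 38916 (by decide +kernel)
theorem rel829 : relsRange mdata basesM 47 38963 = true := relsRange_strict mdata basesM 47 38963 (by decide +kernel)
theorem rel830 : relsRange mdata basesM 47 39010 = true := relsRange_strict mdata basesM 47 39010 (by decide +kernel)
theorem rel831 : relsRange mdata basesM 47 39057 = true := relsRange_strict mdata basesM 47 39057 (by decide +kernel)

end Cfsg.Agent.Helper4.TC.SuzKM2
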