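import Cfsg.Agent.Lib.Helper4.TC.SuzKM2Model
import Cfsg.Agent.Lib.Helper4.TC.Strict

set_option autoImplicit false
set_option maxRecDepth 100000
set_option linter.unusedVariables false
set_option Elab.async false

namespace Cfsg.Agent.Helper4.TC.SuzKM2

open Cfsg.Agent.Helper4.TC

theorem rel832 : relsRange mdata basesM 47 39104 = true := relsRange_strict mdata basesM 47 39104 (by decide +kernel)
theorem rel833 : relsRange mdata basesM 47 39151 = true := relsRange_strict mdata basesM 47 39151 (by decide +kernel)
theorem rel834 : relsRange mdata basesM 47 39198 = true := relsRange_strict mdata basesM 47 39198 (by decide +kernel)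
theorem rel835 : relsRange mdata basesM 47 39245 = true := relsRange_strict mdata basesM 47 39245 (by decide +kernel)
theorem rel836 : relsRange mdata basesM 47 39292 = true := relsRange_strict mdata basesM 47 39292 (by decide +kernel)
theorem rel837 : relsRange mdata basesM 47 39339 = true := relsRange_strict mdata basesM 47 39339 (by decide +kernel)
theorem rel838 : relsRange mdata basesM 47 39386 = true := relsRange_strict mdata basesM 47 39386 (by decide +kernel)
theorem rel839 : relsRange mdata basesM 47 39433 = true := relsRange_strict mdata basesM 47 39433 (by decide +kernel)

end Cfsg.Agent.Helper4.TC.SuzKM2
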