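import Cfsg.Agent.Lib.Helper4.TC.SuzKM2Model
import Cfsg.Agent.Lib.Helper4.TC.Strict

set_option autoImplicit false
set_option maxRecDepth 100000
set_option linter.unusedVariables false
set_option Elab.async false

namespace Cfsg.Agent.Helper4.TC.SuzKM2

open Cfsg.Agent.Helper4.TC

theorem rel840 : relsRange mdata basesM 47 39480 = true := relsRange_strict mdata basesM 47 39480 (by decide +kernel)
theorem rel841 : relsRange mdata basesM 47 39527 = true := relsRange_strict mdata basesM 47 39527 (by decide +kernel)
theorem rel842 : relsRange mdata basesM 47 39574 = true := relsRange_strict mdata basesM 47 39574 (by decide +kernel)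
theorem rel843 : relsRange mdata basesM 47 39621 = true := relsRange_strict mdata basesM 47 39621 (by decide +kernel)
theorem rel844 : relsRange mdata basesM 47 39668 = true := relsRange_strict mdata basesM 47 39668 (by decide +kernel)
theorem rel845 : relsRange mdata basesM 47 39715 = true := relsRange_strict mdata basesM 47 39715 (by decide +kernel)
theorem rel846 : relsRange mdata basesM 47 39762 = true := relsRange_strict mdata basesM 47 39762 (by decide +kernel)
theorem rel847 : relsRange mdata basesM 47 39809 = true := relsRange_strict mdata basesM 47 39809 (by decide +kernel)

end Cfsg.Agent.Helper4.TC.SuzKM2
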