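import Cfsg.Agent.Lib.Helper4.TC.SuzKM2Model
import Cfsg.Agent.Lib.Helper4.TC.Strict

set_option autoImplicit false
set_option maxRecDepth 100000
set_option linter.unusedVariables false
set_option Elab.async false

namespace Cfsg.Agent.Helper4.TC.SuzKM2

open Cfsg.Agent.Helper4.TC

theorem rel848 : relsRange mdata basesM 47 39856 = true := relsRange_strict mdata basesM 47 39856 (by decide +kernel)
theorem rel849 : relsRange mdata basesM 47 39903 = true := relsRange_strict mdata basesM 47 39903 (by decide +kernel)
theorem rel850 : relsRange mdata basesM 47 39950 = true := relsRange_strict mdata basesM 47 39950 (by decide +kernel)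
theorem rel851 : relsRange mdata basesM 47 39997 = true := relsRange_strict mdata basesM 47 39997 (by decide +kernel)
theorem rel852 : relsRange mdata basesM 47 40044 = true := relsRange_strict mdata basesM 47 40044 (by decide +kernel)
theorem rel853 : relsRange mdata basesM 47 40091 = true := relsRange_strict mdata basesM 47 40091 (by decide +kernel)
theorem rel854 : relsRange mdata basesM 47 40138 = true := relsRange_strict mdata basesM 47 40138 (by decide +kernel)
theorem rel855 : relsRange mdata basesM 47 40185 = true := relsRange_strict mdata basesM 47 40185 (by decide +kernel)

end Cfsg.Agent.Helper4.TC.SuzKM2
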