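import Cfsg.Agent.Lib.Helper4.TC.SuzKM2Model
import Cfsg.Agent.Lib.Helper4.TC.Strict

set_option autoImplicit false
set_option maxRecDepth 100000
set_option linter.unusedVariables false
set_option Elab.async false

namespace Cfsg.Agent.Helper4.TC.SuzKM2

open Cfsg.Agent.Helper4.TC

theorem rel856 : relsRange mdata basesM 47 40232 = true := relsRange_strict mdata basesM 47 40232 (by decide +kernel)
theorem rel857 : relsRange mdata basesM 47 40279 = true := relsRange_strict mdata basesM 47 40279 (by decide +kernel)
theorem rel858 : relsRange mdata basesM 47 40326 = true := relsRange_strict mdata basesM 47 40326 (by decide +kernel)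
theorem rel859 : relsRange mdata basesM 47 40373 = true := relsRange_strict mdata basesM 47 40373 (by decide +kernel)
theorem rel860 : relsRange mdata basesM 47 40420 = true := relsRange_strict mdata basesM 47 40420 (by decide +kernel)
theorem rel861 : relsRange mdata basesM 47 40467 = true := relsRange_strict mdata basesM 47 40467 (by decide +kernel)
theorem rel862 : relsRange mdata basesM 47 40514 = true := relsRange_strict mdata basesM 47 40514 (by decide +kernel)
theorem rel863 : relsRange mdata basesM 47 40561 = true := relsRange_strict mdata basesM 47 40561 (by decide +kernel)

end Cfsg.Agent.Helper4.TC.SuzKM2
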