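import Cfsg.Agent.Lib.Helper4.TC.SuzKM2Model
import Cfsg.Agent.Lib.Helper4.TC.Strict

set_option autoImplicit false
set_option maxRecDepth 100000
set_option linter.unusedVariables false
set_option Elab.async false

namespace Cfsg.Agent.Helper4.TC.SuzKM2

open Cfsg.Agent.Helper4.TC

theorem rel864 : relsRange mdata basesM 47 40608 = true := relsRange_strict mdata basesM 47 40608 (by decide +kernel)
theorem rel865 : relsRange mdata basesM 47 40655 = true := relsRange_strict mdata basesM 47 40655 (by decide +kernel)
theorem rel866 : relsRange mdata basesM 47 40702 = true := relsRange_strict mdata basesM 47 40702 (by decide +kernel)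
theorem rel867 : relsRange mdata basesM 47 40749 = true := relsRange_strict mdata basesM 47 40749 (by decide +kernel)
theorem rel868 : relsRange mdata basesM 47 40796 = true := relsRange_strict mdata basesM 47 40796 (by decide +kernel)
theorem rel869 : relsRange mdata basesM 47 40843 = true := relsRange_strict mdata basesM 47 40843 (by decide +kernel)
theorem rel870 : relsRange mdata basesM 47 40890 = true := relsRange_strict mdata basesM 47 40890 (by decide +kernel)
theorem rel871 : relsRange mdata basesM 47 40937 = true := relsRange_strict mdata basesM 47 40937 (by decide +kernel)

end Cfsg.Agent.Helper4.TC.SuzKM2
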