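import Cfsg.Agent.Lib.Helper4.TC.SuzKM2Model
import Cfsg.Agent.Lib.Helper4.TC.Strict

set_option autoImplicit false
set_option maxRecDepth 100000
set_option linter.unusedVariables false
set_option Elab.async false

namespace Cfsg.Agent.Helper4.TC.SuzKM2

open Cfsg.Agent.Helper4.TC

theorem rel872 : relsRange mdata basesM 47 40984 = true := relsRange_strict mdata basesM 47 40984 (by decide +kernel)
theorem rel873 : relsRange mdata basesM 47 41031 = true := relsRange_strict mdata basesM 47 41031 (by decide +kernel)
theorem rel874 : relsRange mdata basesM 47 41078 = true := relsRange_strict mdata basesM 47 41078 (by decide +kernel)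
theorem rel875 : relsRange mdata basesM 47 41125 = true := relsRange_strict mdata basesM 47 41125 (by decide +kernel)
theorem rel876 : relsRange mdata basesM 47 41172 = true := relsRange_strict mdata basesM 47 41172 (by decide +kernel)
theorem rel877 : relsRange mdata basesM 47 41219 = true := relsRange_strict mdata basesM 47 41219 (by decide +kernel)
theorem rel878 : relsRange mdata basesM 47 41266 = true := relsRange_strict mdata basesM 47 41266 (by decide +kernel)
theorem rel879 : relsRange mdata basesM 47 41313 = true := relsRange_strict mdata basesM 47 41313 (by decide +kernel)

end Cfsg.Agent.Helper4.TC.SuzKM2
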