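import Cfsg.Agent.Lib.Helper4.TC.SuzKM2Model
import Cfsg.Agent.Lib.Helper4.TC.Strict

set_option autoImplicit false
set_option maxRecDepth 100000
set_option linter.unusedVariables false
set_option Elab.async false

namespace Cfsg.Agent.Helper4.TC.SuzKM2

open Cfsg.Agent.Helper4.TC

theorem rel88 : relsRange mdata basesM 47 4136 = true := relsRange_strict mdata basesM 47 4136 (by decide +kernel)
theorem rel89 : relsRange mdata basesM 47 4183 = true := relsRange_strict mdata basesM 47 4183 (by decide +kernel)
theorem rel90 : relsRange mdata basesM 47 4230 = true := relsRange_strict mdata basesM 47 4230 (by decide +kernel)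
theorem rel91 : relsRange mdata basesM 47 4277 = true := relsRange_strict mdata basesM 47 4277 (by decide +kernel)
theorem rel92 : relsRange mdata basesM 47 4324 = true := relsRange_strict mdata basesM 47 4324 (by decide +kernel)
theorem rel93 : relsRange mdata basesM 47 4371 = true := relsRange_strict mdata basesM 47 4371 (by decide +kernel)
theorem rel94 : relsRange mdata basesM 47 4418 = true := relsRange_strict mdata basesM 47 4418 (by decide +kernel)
theorem rel95 : relsRange mdata basesM 47 4465 = true := relsRange_strict mdata basesM 47 4465 (by decide +kernel)

end Cfsg.Agent.Helper4.TC.SuzKM2
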