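import Cfsg.Agent.Lib.Helper4.TC.SuzKM2Model
import Cfsg.Agent.Lib.Helper4.TC.Strict

set_option autoImplicit false
set_option maxRecDepth 100000
set_option linter.unusedVariables false
set_option Elab.async false

namespace Cfsg.Agent.Helper4.TC.SuzKM2

open Cfsg.Agent.Helper4.TC

theorem rel880 : relsRange mdata basesM 47 41360 = true := relsRange_strict mdata basesM 47 41360 (by decide +kernel)
theorem rel881 : relsRange mdata basesM 47 41407 = true := relsRange_strict mdata basesM 47 41407 (by decide +kernel)
theorem rel882 : relsRange mdata basesM 47 41454 = true := relsRange_strict mdata basesM 47 41454 (by decide +kernel)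
theorem rel883 : relsRange mdata basesM 47 41501 = true := relsRange_strict mdata basesM 47 41501 (by decide +kernel)
theorem rel884 : relsRange mdata basesM 47 41548 = true := relsRange_strict mdata basesM 47 41548 (by decide +kernel)
theorem rel885 : relsRange mdata basesM 47 41595 = true := relsRange_strict mdata basesM 47 41595 (by decide +kernel)
theorem rel886 : relsRange mdata basesM 47 41642 = true := relsRange_strict mdata basesM 47 41642 (by decide +kernel)
theorem rel887 : relsRange mdata basesM 47 41689 = true := relsRange_strict mdata basesM 47 41689 (by decide +kernel)

end Cfsg.Agent.Helper4.TC.SuzKM2
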