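import Cfsg.Agent.Lib.Helper4.TC.SuzKM2Model
import Cfsg.Agent.Lib.Helper4.TC.Strict

set_option autoImplicit false
set_option maxRecDepth 100000
set_option linter.unusedVariables false
set_option Elab.async false

namespace Cfsg.Agent.Helper4.TC.SuzKM2

open Cfsg.Agent.Helper4.TC

theorem rel888 : relsRange mdata basesM 47 41736 = true := relsRange_strict mdata basesM 47 41736 (by decide +kernel)
theorem rel889 : relsRange mdata basesM 47 41783 = true := relsRange_strict mdata basesM 47 41783 (by decide +kernel)
theorem rel890 : relsRange mdata basesM 47 41830 = true := relsRange_strict mdata basesM 47 41830 (by decide +kernel)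
theorem rel891 : relsRange mdata basesM 47 41877 = true := relsRange_strict mdata basesM 47 41877 (by decide +kernel)
theorem rel892 : relsRange mdata basesM 47 41924 = true := relsRange_strict mdata basesM 47 41924 (by decide +kernel)
theorem rel893 : relsRange mdata basesM 47 41971 = true := relsRange_strict mdata basesM 47 41971 (by decide +kernel)
theorem rel894 : relsRange mdata basesM 47 42018 = true := relsRange_strict mdata basesM 47 42018 (by decide +kernel)
theorem rel895 : relsRange mdata basesM 47 42065 = true := relsRange_strict mdata basesM 47 42065 (by decide +kernel)

end Cfsg.Agent.Helper4.TC.SuzKM2
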