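import Cfsg.Agent.Lib.Helper4.TC.SuzKM2Model
import Cfsg.Agent.Lib.Helper4.TC.Strict

set_option autoImplicit false
set_option maxRecDepth 100000
set_option linter.unusedVariables false
set_option Elab.async false

namespace Cfsg.Agent.Helper4.TC.SuzKM2

open Cfsg.Agent.Helper4.TC

theorem rel896 : relsRange mdata basesM 47 42112 = true := relsRange_strict mdata basesM 47 42112 (by decide +kernel)
theorem rel897 : relsRange mdata basesM 47 42159 = true := relsRange_strict mdata basesM 47 42159 (by decide +kernel)
theorem rel898 : relsRange mdata basesM 47 42206 = true := relsRange_strict mdata basesM 47 42206 (by decide +kernel)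
theorem rel899 : relsRange mdata basesM 47 42253 = true := relsRange_strict mdata basesM 47 42253 (by decide +kernel)
theorem rel900 : relsRange mdata basesM 47 42300 = true := relsRange_strict mdata basesM 47 42300 (by decide +kernel)
theorem rel901 : relsRange mdata basesM 47 42347 = true := relsRange_strict mdata basesM 47 42347 (by decide +kernel)
theorem rel902 : relsRange mdata basesM 47 42394 = true := relsRange_strict mdata basesM 47 42394 (by decide +kernel)
theorem rel903 : relsRange mdata basesM 47 42441 = true := relsRange_strict mdata basesM 47 42441 (by decide +kernel)

end Cfsg.Agent.Helper4.TC.SuzKM2
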