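import Cfsg.Agent.Lib.Helper4.TC.SuzKM2Model
import Cfsg.Agent.Lib.Helper4.TC.Strict

set_option autoImplicit false
set_option maxRecDepth 100000
set_option linter.unusedVariables false
set_option Elab.async false

namespace Cfsg.Agent.Helper4.TC.SuzKM2

open Cfsg.Agent.Helper4.TC

theorem rel904 : relsRange mdata basesM 47 42488 = true := relsRange_strict mdata basesM 47 42488 (by decide +kernel)
theorem rel905 : relsRange mdata basesM 47 42535 = true := relsRange_strict mdata basesM 47 42535 (by decide +kernel)
theorem rel906 : relsRange mdata basesM 47 42582 = true := relsRange_strict mdata basesM 47 42582 (by decide +kernel)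
theorem rel907 : relsRange mdata basesM 47 42629 = true := relsRange_strict mdata basesM 47 42629 (by decide +kernel)
theorem rel908 : relsRange mdata basesM 47 42676 = true := relsRange_strict mdata basesM 47 42676 (by decide +kernel)
theorem rel909 : relsRange mdata basesM 47 42723 = true := relsRange_strict mdata basesM 47 42723 (by decide +kernel)
theorem rel910 : relsRange mdata basesM 47 42770 = true := relsRange_strict mdata basesM 47 42770 (by decide +kernel)
theorem rel911 : relsRange mdata basesM 47 42817 = true := relsRange_strict mdata basesM 47 42817 (by decide +kernel)

end Cfsg.Agent.Helper4.TC.SuzKM2
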