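import Cfsg.Agent.Lib.Helper4.TC.SuzKM2Model
import Cfsg.Agent.Lib.Helper4.TC.Strict

set_option autoImplicit false
set_option maxRecDepth 100000
set_option linter.unusedVariables false
set_option Elab.async false

namespace Cfsg.Agent.Helper4.TC.SuzKM2

open Cfsg.Agent.Helper4.TC

theorem rel912 : relsRange mdata basesM 47 42864 = true := relsRange_strict mdata basesM 47 42864 (by decide +kernel)
theorem rel913 : relsRange mdata basesM 47 42911 = true := relsRange_strict mdata basesM 47 42911 (by decide +kernel)
theorem rel914 : relsRange mdata basesM 47 42958 = true := relsRange_strict mdata basesM 47 42958 (by decide +kernel)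
theorem rel915 : relsRange mdata basesM 47 43005 = true := relsRange_strict mdata basesM 47 43005 (by decide +kernel)
theorem rel916 : relsRange mdata basesM 47 43052 = true := relsRange_strict mdata basesM 47 43052 (by decide +kernel)
theorem rel917 : relsRange mdata basesM 47 43099 = true := relsRange_strict mdata basesM 47 43099 (by decide +kernel)
theorem rel918 : relsRange mdata basesM 47 43146 = true := relsRange_strict mdata basesM 47 43146 (by decide +kernel)
theorem rel919 : relsRange mdata basesM 47 43193 = true := relsRange_strict mdata basesM 47 43193 (by decide +kernel)

end Cfsg.Agent.Helper4.TC.SuzKM2
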