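import Cfsg.Agent.Lib.Helper4.TC.SuzKM2Model
import Cfsg.Agent.Lib.Helper4.TC.Strict

set_option autoImplicit false
set_option maxRecDepth 100000
set_option linter.unusedVariables false
set_option Elab.async false

namespace Cfsg.Agent.Helper4.TC.SuzKM2

open Cfsg.Agent.Helper4.TC

theorem rel920 : relsRange mdata basesM 47 43240 = true := relsRange_strict mdata basesM 47 43240 (by decide +kernel)
theorem rel921 : relsRange mdata basesM 47 43287 = true := relsRange_strict mdata basesM 47 43287 (by decide +kernel)
theorem rel922 : relsRange mdata basesM 47 43334 = true := relsRange_strict mdata basesM 47 43334 (by decide +kernel)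
theorem rel923 : relsRange mdata basesM 47 43381 = true := relsRange_strict mdata basesM 47 43381 (by decide +kernel)
theorem rel924 : relsRange mdata basesM 47 43428 = true := relsRange_strict mdata basesM 47 43428 (by decide +kernel)
theorem rel925 : relsRange mdata basesM 47 43475 = true := relsRange_strict mdata basesM 47 43475 (by decide +kernel)
theorem rel926 : relsRange mdata basesM 47 43522 = true := relsRange_strict mdata basesM 47 43522 (by decide +kernel)
theorem rel927 : relsRange mdata basesM 47 43569 = true := relsRange_strict mdata basesM 47 43569 (by decide +kernel)

end Cfsg.Agent.Helper4.TC.SuzKM2
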