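import Cfsg.Agent.Lib.Helper4.TC.SuzKM2Model
import Cfsg.Agent.Lib.Helper4.TC.Strict

set_option autoImplicit false
set_option maxRecDepth 100000
set_option linter.unusedVariables false
set_option Elab.async false

namespace Cfsg.Agent.Helper4.TC.SuzKM2

open Cfsg.Agent.Helper4.TC

theorem rel928 : relsRange mdata basesM 47 43616 = true := relsRange_strict mdata basesM 47 43616 (by decide +kernel)
theorem rel929 : relsRange mdata basesM 47 43663 = true := relsRange_strict mdata basesM 47 43663 (by decide +kernel)
theorem rel930 : relsRange mdata basesM 47 43710 = true := relsRange_strict mdata basesM 47 43710 (by decide +kernel)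
theorem rel931 : relsRange mdata basesM 47 43757 = true := relsRange_strict mdata basesM 47 43757 (by decide +kernel)
theorem rel932 : relsRange mdata basesM 47 43804 = true := relsRange_strict mdata basesM 47 43804 (by decide +kernel)
theorem rel933 : relsRange mdata basesM 47 43851 = true := relsRange_strict mdata basesM 47 43851 (by decide +kernel)
theorem rel934 : relsRange mdata basesM 47 43898 = true := relsRange_strict mdata basesM 47 43898 (by decide +kernel)
theorem rel935 : relsRange mdata basesM 47 43945 = true := relsRange_strict mdata basesM 47 43945 (by decide +kernel)

end Cfsg.Agent.Helper4.TC.SuzKM2
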