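import Cfsg.Agent.Lib.Helper4.TC.SuzKM2Model
import Cfsg.Agent.Lib.Helper4.TC.Strict

set_option autoImplicit false
set_option maxRecDepth 100000
set_option linter.unusedVariables false
set_option Elab.async false

namespace Cfsg.Agent.Helper4.TC.SuzKM2

open Cfsg.Agent.Helper4.TC

theorem rel936 : relsRange mdata basesM 47 43992 = true := relsRange_strict mdata basesM 47 43992 (by decide +kernel)
theorem rel937 : relsRange mdata basesM 47 44039 = true := relsRange_strict mdata basesM 47 44039 (by decide +kernel)
theorem rel938 : relsRange mdata basesM 47 44086 = true := relsRange_strict mdata basesM 47 44086 (by decide +kernel)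
theorem rel939 : relsRange mdata basesM 47 44133 = true := relsRange_strict mdata basesM 47 44133 (by decide +kernel)
theorem rel940 : relsRange mdata basesM 47 44180 = true := relsRange_strict mdata basesM 47 44180 (by decide +kernel)
theorem rel941 : relsRange mdata basesM 47 44227 = true := relsRange_strict mdata basesM 47 44227 (by decide +kernel)
theorem rel942 : relsRange mdata basesM 47 44274 = true := relsRange_strict mdata basesM 47 44274 (by decide +kernel)
theorem rel943 : relsRange mdata basesM 47 44321 = true := relsRange_strict mdata basesM 47 44321 (by decide +kernel)

end Cfsg.Agent.Helper4.TC.SuzKM2
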