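import Cfsg.Agent.Lib.Helper4.TC.SuzKM2Model
import Cfsg.Agent.Lib.Helper4.TC.Strict

set_option autoImplicit false
set_option maxRecDepth 100000
set_option linter.unusedVariables false
set_option Elab.async false

namespace Cfsg.Agent.Helper4.TC.SuzKM2

open Cfsg.Agent.Helper4.TC

theorem rel944 : relsRange mdata basesM 47 44368 = true := relsRange_strict mdata basesM 47 44368 (by decide +kernel)
theorem rel945 : relsRange mdata basesM 47 44415 = true := relsRange_strict mdata basesM 47 44415 (by decide +kernel)
theorem rel946 : relsRange mdata basesM 47 44462 = true := relsRange_strict mdata basesM 47 44462 (by decide +kernel)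
theorem rel947 : relsRange mdata basesM 47 44509 = true := relsRange_strict mdata basesM 47 44509 (by decide +kernel)
theorem rel948 : relsRange mdata basesM 47 44556 = true := relsRange_strict mdata basesM 47 44556 (by decide +kernel)
theorem rel949 : relsRange mdata basesM 47 44603 = true := relsRange_strict mdata basesM 47 44603 (by decide +kernel)
theorem rel950 : relsRange mdata basesM 47 44650 = true := relsRange_strict mdata basesM 47 44650 (by decide +kernel)
theorem rel951 : relsRange mdata basesM 47 44697 = true := relsRange_strict mdata basesM 47 44697 (by decide +kernel)

end Cfsg.Agent.Helper4.TC.SuzKM2
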