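import Cfsg.Agent.Lib.Helper4.TC.SuzKM2Model
import Cfsg.Agent.Lib.Helper4.TC.Strict

set_option autoImplicit false
set_option maxRecDepth 100000
set_option linter.unusedVariables false
set_option Elab.async false

namespace Cfsg.Agent.Helper4.TC.SuzKM2

open Cfsg.Agent.Helper4.TC

theorem rel960 : relsRange mdata basesM 47 45120 = true := relsRange_strict mdata basesM 47 45120 (by decide +kernel)
theorem rel961 : relsRange mdata basesM 47 45167 = true := relsRange_strict mdata basesM 47 45167 (by decide +kernel)
theorem rel962 : relsRange mdata basesM 47 45214 = true := relsRange_strict mdata basesM 47 45214 (by decide +kernel)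
theorem rel963 : relsRange mdata basesM 47 45261 = true := relsRange_strict mdata basesM 47 45261 (by decide +kernel)
theorem rel964 : relsRange mdata basesM 47 45308 = true := relsRange_strict mdata basesM 47 45308 (by decide +kernel)
theorem rel965 : relsRange mdata basesM 47 45355 = true := relsRange_strict mdata basesM 47 45355 (by decide +kernel)
theorem rel966 : relsRange mdata basesM 47 45402 = true := relsRange_strict mdata basesM 47 45402 (by decide +kernel)
theorem rel967 : relsRange mdata basesM 47 45449 = true := relsRange_strict mdata basesM 47 45449 (by decide +kernel)

end Cfsg.Agent.Helper4.TC.SuzKM2
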