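import Cfsg.Agent.Lib.Helper4.TC.SuzKM2Model
import Cfsg.Agent.Lib.Helper4.TC.Strict

set_option autoImplicit false
set_option maxRecDepth 100000
set_option linter.unusedVariables false
set_option Elab.async false

namespace Cfsg.Agent.Helper4.TC.SuzKM2

open Cfsg.Agent.Helper4.TC

theorem rel968 : relsRange mdata basesM 47 45496 = true := relsRange_strict mdata basesM 47 45496 (by decide +kernel)
theorem rel969 : relsRange mdata basesM 47 45543 = true := relsRange_strict mdata basesM 47 45543 (by decide +kernel)
theorem rel970 : relsRange mdata basesM 47 45590 = true := relsRange_strict mdata basesM 47 45590 (by decide +kernel)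
theorem rel971 : relsRange mdata basesM 47 45637 = true := relsRange_strict mdata basesM 47 45637 (by decide +kernel)
theorem rel972 : relsRange mdata basesM 47 45684 = true := relsRange_strict mdata basesM 47 45684 (by decide +kernel)
theorem rel973 : relsRange mdata basesM 47 45731 = true := relsRange_strict mdata basesM 47 45731 (by decide +kernel)
theorem rel974 : relsRange mdata basesM 47 45778 = true := relsRange_strict mdata basesM 47 45778 (by decide +kernel)
theorem rel975 : relsRange mdata basesM 47 45825 = true := relsRange_strict mdata basesM 47 45825 (by decide +kernel)

end Cfsg.Agent.Helper4.TC.SuzKM2
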