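import Cfsg.Agent.Lib.Helper4.TC.SuzKM2Model
import Cfsg.Agent.Lib.Helper4.TC.Strict

set_option autoImplicit false
set_option maxRecDepth 100000
set_option linter.unusedVariables false
set_option Elab.async false

namespace Cfsg.Agent.Helper4.TC.SuzKM2

open Cfsg.Agent.Helper4.TC

theorem rel976 : relsRange mdata basesM 47 45872 = true := relsRange_strict mdata basesM 47 45872 (by decide +kernel)
theorem rel977 : relsRange mdata basesM 47 45919 = true := relsRange_strict mdata basesM 47 45919 (by decide +kernel)
theorem rel978 : relsRange mdata basesM 47 45966 = true := relsRange_strict mdata basesM 47 45966 (by decide +kernel)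
theorem rel979 : relsRange mdata basesM 47 46013 = true := relsRange_strict mdata basesM 47 46013 (by decide +kernel)
theorem rel980 : relsRange mdata basesM 47 46060 = true := relsRange_strict mdata basesM 47 46060 (by decide +kernel)
theorem rel981 : relsRange mdata basesM 47 46107 = true := relsRange_strict mdata basesM 47 46107 (by decide +kernel)
theorem rel982 : relsRange mdata basesM 47 46154 = true := relsRange_strict mdata basesM 47 46154 (by decide +kernel)
theorem rel983 : relsRange mdata basesM 47 46201 = true := relsRange_strict mdata basesM 47 46201 (by decide +kernel)

end Cfsg.Agent.Helper4.TC.SuzKM2
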