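import Cfsg.Agent.Lib.Helper4.TC.SuzKM2Model
import Cfsg.Agent.Lib.Helper4.TC.Strict

set_option autoImplicit false
set_option maxRecDepth 100000
set_option linter.unusedVariables false
set_option Elab.async false

namespace Cfsg.Agent.Helper4.TC.SuzKM2

open Cfsg.Agent.Helper4.TC

theorem rel984 : relsRange mdata basesM 47 46248 = true := relsRange_strict mdata basesM 47 46248 (by decide +kernel)
theorem rel985 : relsRange mdata basesM 47 46295 = true := relsRange_strict mdata basesM 47 46295 (by decide +kernel)
theorem rel986 : relsRange mdata basesM 47 46342 = true := relsRange_strict mdata basesM 47 46342 (by decide +kernel)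
theorem rel987 : relsRange mdata basesM 47 46389 = true := relsRange_strict mdata basesM 47 46389 (by decide +kernel)
theorem rel988 : relsRange mdata basesM 47 46436 = true := relsRange_strict mdata basesM 47 46436 (by decide +kernel)
theorem rel989 : relsRange mdata basesM 47 46483 = true := relsRange_strict mdata basesM 47 46483 (by decide +kernel)
theorem rel990 : relsRange mdata basesM 47 46530 = true := relsRange_strict mdata basesM 47 46530 (by decide +kernel)
theorem rel991 : relsRange mdata basesM 47 46577 = true := relsRange_strict mdata basesM 47 46577 (by decide +kernel)

end Cfsg.Agent.Helper4.TC.SuzKM2
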