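import Cfsg.Agent.Lib.Helper4.TC.SuzKM2Model
import Cfsg.Agent.Lib.Helper4.TC.Strict

set_option autoImplicit false
set_option maxRecDepth 100000
set_option linter.unusedVariables false
set_option Elab.async false

namespace Cfsg.Agent.Helper4.TC.SuzKM2

open Cfsg.Agent.Helper4.TC

theorem rel992 : relsRange mdata basesM 47 46624 = true := relsRange_strict mdata basesM 47 46624 (by decide +kernel)
theorem rel993 : relsRange mdata basesM 47 46671 = true := relsRange_strict mdata basesM 47 46671 (by decide +kernel)
theorem rel994 : relsRange mdata basesM 47 46718 = true := relsRange_strict mdata basesM 47 46718 (by decide +kernel)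
theorem rel995 : relsRange mdata basesM 47 46765 = true := relsRange_strict mdata basesM 47 46765 (by decide +kernel)
theorem rel996 : relsRange mdata basesM 47 46812 = true := relsRange_strict mdata basesM 47 46812 (by decide +kernel)
theorem rel997 : relsRange mdata basesM 47 46859 = true := relsRange_strict mdata basesM 47 46859 (by decide +kernel)
theorem rel998 : relsRange mdata basesM 47 46906 = true := relsRange_strict mdata basesM 47 46906 (by decide +kernel)
theorem rel999 : relsRange mdata basesM 47 46953 = true := relsRange_strict mdata basesM 47 46953 (by decide +kernel)

end Cfsg.Agent.Helper4.TC.SuzKM2
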