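import Cfsg.Agent.Lib.Helper4.TC.SuzKM2Model
import Cfsg.Agent.Lib.Helper4.TC.Strict

set_option autoImplicit false
set_option maxRecDepth 100000
set_option linter.unusedVariables false
set_option Elab.async false

namespace Cfsg.Agent.Helper4.TC.SuzKM2

open Cfsg.Agent.Helper4.TC

theorem rel1000 : relsRange mdata basesM 47 47000 = true := relsRange_strict mdata basesM 47 47000 (by decide +kernel)
theorem rel1001 : relsRange mdata basesM 47 47047 = true := relsRange_strict mdata basesM 47 47047 (by decide +kernel)
theorem rel1002 : relsRange mdata basesM 47 47094 = true := relsRange_strict mdata basesM 47 47094 (by decide +kernel)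
theorem rel1003 : relsRange mdata basesM 47 47141 = true := relsRange_strict mdata basesM 47 47141 (by decide +kernel)
theorem rel1004 : relsRange mdata basesM 47 47188 = true := relsRange_strict mdata basesM 47 47188 (by decide +kernel)
theorem rel1005 : relsRange mdata basesM 47 47235 = true := relsRange_strict mdata basesM 47 47235 (by decide +kernel)
theorem rel1006 : relsRange mdata basesM 47 47282 = true := relsRange_strict mdata basesM 47 47282 (by decide +kernel)
theorem rel1007 : relsRange mdata basesM 47 47329 = true := relsRange_strict mdata basesM 47 47329 (by decide +kernel)

end Cfsg.Agent.Helper4.TC.SuzKM2
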