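import Cfsg.Agent.Lib.Helper4.TC.SuzKM2Model
import Cfsg.Agent.Lib.Helper4.TC.Strict

set_option autoImplicit false
set_option maxRecDepth 100000
set_option linter.unusedVariables false
set_option Elab.async false

namespace Cfsg.Agent.Helper4.TC.SuzKM2

open Cfsg.Agent.Helper4.TC

theorem rel1008 : relsRange mdata basesM 47 47376 = true := relsRange_strict mdata basesM 47 47376 (by decide +kernel)
theorem rel1009 : relsRange mdata basesM 47 47423 = true := relsRange_strict mdata basesM 47 47423 (by decide +kernel)
theorem rel1010 : relsRange mdata basesM 47 47470 = true := relsRange_strict mdata basesM 47 47470 (by decide +kernel)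
theorem rel1011 : relsRange mdata basesM 47 47517 = true := relsRange_strict mdata basesM 47 47517 (by decide +kernel)
theorem rel1012 : relsRange mdata basesM 47 47564 = true := relsRange_strict mdata basesM 47 47564 (by decide +kernel)
theorem rel1013 : relsRange mdata basesM 47 47611 = true := relsRange_strict mdata basesM 47 47611 (by decide +kernel)
theorem rel1014 : relsRange mdata basesM 47 47658 = true := relsRange_strict mdata basesM 47 47658 (by decide +kernel)
theorem rel1015 : relsRange mdata basesM 47 47705 = true := relsRange_strict mdata basesM 47 47705 (by decide +kernel)

end Cfsg.Agent.Helper4.TC.SuzKM2
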