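import Cfsg.Agent.Lib.Helper4.TC.SuzKM2Model
import Cfsg.Agent.Lib.Helper4.TC.Strict

set_option autoImplicit false
set_option maxRecDepth 100000
set_option linter.unusedVariables false
set_option Elab.async false

namespace Cfsg.Agent.Helper4.TC.SuzKM2

open Cfsg.Agent.Helper4.TC

theorem rel1016 : relsRange mdata basesM 47 47752 = true := relsRange_strict mdata basesM 47 47752 (by decide +kernel)
theorem rel1017 : relsRange mdata basesM 47 47799 = true := relsRange_strict mdata basesM 47 47799 (by decide +kernel)
theorem rel1018 : relsRange mdata basesM 47 47846 = true := relsRange_strict mdata basesM 47 47846 (by decide +kernel)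
theorem rel1019 : relsRange mdata basesM 47 47893 = true := relsRange_strict mdata basesM 47 47893 (by decide +kernel)
theorem rel1020 : relsRange mdata basesM 47 47940 = true := relsRange_strict mdata basesM 47 47940 (by decide +kernel)
theorem rel1021 : relsRange mdata basesM 47 47987 = true := relsRange_strict mdata basesM 47 47987 (by decide +kernel)
theorem rel1022 : relsRange mdata basesM 47 48034 = true := relsRange_strict mdata basesM 47 48034 (by decide +kernel)
theorem rel1023 : relsRange mdata basesM 47 48081 = true := relsRange_strict mdata basesM 47 48081 (by decide +kernel)

end Cfsg.Agent.Helper4.TC.SuzKM2
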