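import Cfsg.Agent.Lib.Helper4.TC.SuzKM2Model
import Cfsg.Agent.Lib.Helper4.TC.Strict

set_option autoImplicit false
set_option maxRecDepth 100000
set_option linter.unusedVariables false
set_option Elab.async false

namespace Cfsg.Agent.Helper4.TC.SuzKM2

open Cfsg.Agent.Helper4.TC

theorem rel1024 : relsRange mdata basesM 47 48128 = true := relsRange_strict mdata basesM 47 48128 (by decide +kernel)
theorem rel1025 : relsRange mdata basesM 47 48175 = true := relsRange_strict mdata basesM 47 48175 (by decide +kernel)
theorem rel1026 : relsRange mdata basesM 47 48222 = true := relsRange_strict mdata basesM 47 48222 (by decide +kernel)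
theorem rel1027 : relsRange mdata basesM 47 48269 = true := relsRange_strict mdata basesM 47 48269 (by decide +kernel)
theorem rel1028 : relsRange mdata basesM 47 48316 = true := relsRange_strict mdata basesM 47 48316 (by decide +kernel)
theorem rel1029 : relsRange mdata basesM 47 48363 = true := relsRange_strict mdata basesM 47 48363 (by decide +kernel)
theorem rel1030 : relsRange mdata basesM 47 48410 = true := relsRange_strict mdata basesM 47 48410 (by decide +kernel)
theorem rel1031 : relsRange mdata basesM 47 48457 = true := relsRange_strict mdata basesM 47 48457 (by decide +kernel)

end Cfsg.Agent.Helper4.TC.SuzKM2
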