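import Cfsg.Agent.Lib.Helper4.TC.SuzKM2Model
import Cfsg.Agent.Lib.Helper4.TC.Strict

set_option autoImplicit false
set_option maxRecDepth 100000
set_option linter.unusedVariables false
set_option Elab.async false

namespace Cfsg.Agent.Helper4.TC.SuzKM2

open Cfsg.Agent.Helper4.TC

theorem rel1032 : relsRange mdata basesM 47 48504 = true := relsRange_strict mdata basesM 47 48504 (by decide +kernel)
theorem rel1033 : relsRange mdata basesM 47 48551 = true := relsRange_strict mdata basesM 47 48551 (by decide +kernel)
theorem rel1034 : relsRange mdata basesM 47 48598 = true := relsRange_strict mdata basesM 47 48598 (by decide +kernel)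
theorem rel1035 : relsRange mdata basesM 47 48645 = true := relsRange_strict mdata basesM 47 48645 (by decide +kernel)
theorem rel1036 : relsRange mdata basesM 47 48692 = true := relsRange_strict mdata basesM 47 48692 (by decide +kernel)
theorem rel1037 : relsRange mdata basesM 47 48739 = true := relsRange_strict mdata basesM 47 48739 (by decide +kernel)
theorem rel1038 : relsRange mdata basesM 47 48786 = true := relsRange_strict mdata basesM 47 48786 (by decide +kernel)
theorem rel1039 : relsRange mdata basesM 47 48833 = true := relsRange_strict mdata basesM 47 48833 (by decide +kernel)

end Cfsg.Agent.Helper4.TC.SuzKM2
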