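import Cfsg.Agent.Lib.Helper4.TC.SuzKM2Model
import Cfsg.Agent.Lib.Helper4.TC.Strict

set_option autoImplicit false
set_option maxRecDepth 100000
set_option linter.unusedVariables false
set_option Elab.async false

namespace Cfsg.Agent.Helper4.TC.SuzKM2

open Cfsg.Agent.Helper4.TC

theorem rel104 : relsRange mdata basesM 47 4888 = true := relsRange_strict mdata basesM 47 4888 (by decide +kernel)
theorem rel105 : relsRange mdata basesM 47 4935 = true := relsRange_strict mdata basesM 47 4935 (by decide +kernel)
theorem rel106 : relsRange mdata basesM 47 4982 = true := relsRange_strict mdata basesM 47 4982 (by decide +kernel)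
theorem rel107 : relsRange mdata basesM 47 5029 = true := relsRange_strict mdata basesM 47 5029 (by decide +kernel)
theorem rel108 : relsRange mdata basesM 47 5076 = true := relsRange_strict mdata basesM 47 5076 (by decide +kernel)
theorem rel109 : relsRange mdata basesM 47 5123 = true := relsRange_strict mdata basesM 47 5123 (by decide +kernel)
theorem rel110 : relsRange mdata basesM 47 5170 = true := relsRange_strict mdata basesM 47 5170 (by decide +kernel)
theorem rel111 : relsRange mdata basesM 47 5217 = true := relsRange_strict mdata basesM 47 5217 (by decide +kernel)

end Cfsg.Agent.Helper4.TC.SuzKM2
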