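import Cfsg.Agent.Lib.Helper4.TC.SuzKM2Model
import Cfsg.Agent.Lib.Helper4.TC.Strict

set_option autoImplicit false
set_option maxRecDepth 100000
set_option linter.unusedVariables false
set_option Elab.async false

namespace Cfsg.Agent.Helper4.TC.SuzKM2

open Cfsg.Agent.Helper4.TC

theorem rel1040 : relsRange mdata basesM 47 48880 = true := relsRange_strict mdata basesM 47 48880 (by decide +kernel)
theorem rel1041 : relsRange mdata basesM 47 48927 = true := relsRange_strict mdata basesM 47 48927 (by decide +kernel)
theorem rel1042 : relsRange mdata basesM 47 48974 = true := relsRange_strict mdata basesM 47 48974 (by decide +kernel)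
theorem rel1043 : relsRange mdata basesM 47 49021 = true := relsRange_strict mdata basesM 47 49021 (by decide +kernel)
theorem rel1044 : relsRange mdata basesM 47 49068 = true := relsRange_strict mdata basesM 47 49068 (by decide +kernel)
theorem rel1045 : relsRange mdata basesM 47 49115 = true := relsRange_strict mdata basesM 47 49115 (by decide +kernel)
theorem rel1046 : relsRange mdata basesM 47 49162 = true := relsRange_strict mdata basesM 47 49162 (by decide +kernel)
theorem rel1047 : relsRange mdata basesM 47 49209 = true := relsRange_strict mdata basesM 47 49209 (by decide +kernel)

end Cfsg.Agent.Helper4.TC.SuzKM2
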