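import Cfsg.Agent.Lib.Helper4.TC.SuzKM2Model
import Cfsg.Agent.Lib.Helper4.TC.Strict

set_option autoImplicit false
set_option maxRecDepth 100000
set_option linter.unusedVariables false
set_option Elab.async false

namespace Cfsg.Agent.Helper4.TC.SuzKM2

open Cfsg.Agent.Helper4.TC

theorem rel1048 : relsRange mdata basesM 47 49256 = true := relsRange_strict mdata basesM 47 49256 (by decide +kernel)
theorem rel1049 : relsRange mdata basesM 47 49303 = true := relsRange_strict mdata basesM 47 49303 (by decide +kernel)
theorem rel1050 : relsRange mdata basesM 47 49350 = true := relsRange_strict mdata basesM 47 49350 (by decide +kernel)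
theorem rel1051 : relsRange mdata basesM 47 49397 = true := relsRange_strict mdata basesM 47 49397 (by decide +kernel)
theorem rel1052 : relsRange mdata basesM 47 49444 = true := relsRange_strict mdata basesM 47 49444 (by decide +kernel)
theorem rel1053 : relsRange mdata basesM 47 49491 = true := relsRange_strict mdata basesM 47 49491 (by decide +kernel)
theorem rel1054 : relsRange mdata basesM 47 49538 = true := relsRange_strict mdata basesM 47 49538 (by decide +kernel)
theorem rel1055 : relsRange mdata basesM 47 49585 = true := relsRange_strict mdata basesM 47 49585 (by decide +kernel)

end Cfsg.Agent.Helper4.TC.SuzKM2
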