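import Cfsg.Agent.Lib.Helper4.TC.SuzKM2Model
import Cfsg.Agent.Lib.Helper4.TC.Strict

set_option autoImplicit false
set_option maxRecDepth 100000
set_option linter.unusedVariables false
set_option Elab.async false

namespace Cfsg.Agent.Helper4.TC.SuzKM2

open Cfsg.Agent.Helper4.TC

theorem rel1056 : relsRange mdata basesM 47 49632 = true := relsRange_strict mdata basesM 47 49632 (by decide +kernel)
theorem rel1057 : relsRange mdata basesM 47 49679 = true := relsRange_strict mdata basesM 47 49679 (by decide +kernel)
theorem rel1058 : relsRange mdata basesM 47 49726 = true := relsRange_strict mdata basesM 47 49726 (by decide +kernel)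
theorem rel1059 : relsRange mdata basesM 47 49773 = true := relsRange_strict mdata basesM 47 49773 (by decide +kernel)
theorem rel1060 : relsRange mdata basesM 47 49820 = true := relsRange_strict mdata basesM 47 49820 (by decide +kernel)
theorem rel1061 : relsRange mdata basesM 47 49867 = true := relsRange_strict mdata basesM 47 49867 (by decide +kernel)
theorem rel1062 : relsRange mdata basesM 47 49914 = true := relsRange_strict mdata basesM 47 49914 (by decide +kernel)
theorem rel1063 : relsRange mdata basesM 47 49961 = true := relsRange_strict mdata basesM 47 49961 (by decide +kernel)

end Cfsg.Agent.Helper4.TC.SuzKM2
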