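import Cfsg.Agent.Lib.Helper4.TC.SuzKM2Model
import Cfsg.Agent.Lib.Helper4.TC.Strict

set_option autoImplicit false
set_option maxRecDepth 100000
set_option linter.unusedVariables false
set_option Elab.async false

namespace Cfsg.Agent.Helper4.TC.SuzKM2

open Cfsg.Agent.Helper4.TC

theorem rel1064 : relsRange mdata basesM 47 50008 = true := relsRange_strict mdata basesM 47 50008 (by decide +kernel)
theorem rel1065 : relsRange mdata basesM 47 50055 = true := relsRange_strict mdata basesM 47 50055 (by decide +kernel)
theorem rel1066 : relsRange mdata basesM 47 50102 = true := relsRange_strict mdata basesM 47 50102 (by decide +kernel)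
theorem rel1067 : relsRange mdata basesM 47 50149 = true := relsRange_strict mdata basesM 47 50149 (by decide +kernel)
theorem rel1068 : relsRange mdata basesM 47 50196 = true := relsRange_strict mdata basesM 47 50196 (by decide +kernel)
theorem rel1069 : relsRange mdata basesM 47 50243 = true := relsRange_strict mdata basesM 47 50243 (by decide +kernel)
theorem rel1070 : relsRange mdata basesM 47 50290 = true := relsRange_strict mdata basesM 47 50290 (by decide +kernel)
theorem rel1071 : relsRange mdata basesM 47 50337 = true := relsRange_strict mdata basesM 47 50337 (by decide +kernel)

end Cfsg.Agent.Helper4.TC.SuzKM2
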