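import Cfsg.Agent.Lib.Helper4.TC.SuzKM2Model
import Cfsg.Agent.Lib.Helper4.TC.Strict

set_option autoImplicit false
set_option maxRecDepth 100000
set_option linter.unusedVariables false
set_option Elab.async false

namespace Cfsg.Agent.Helper4.TC.SuzKM2

open Cfsg.Agent.Helper4.TC

theorem rel1072 : relsRange mdata basesM 47 50384 = true := relsRange_strict mdata basesM 47 50384 (by decide +kernel)
theorem rel1073 : relsRange mdata basesM 47 50431 = true := relsRange_strict mdata basesM 47 50431 (by decide +kernel)
theorem rel1074 : relsRange mdata basesM 47 50478 = true := relsRange_strict mdata basesM 47 50478 (by decide +kernel)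
theorem rel1075 : relsRange mdata basesM 47 50525 = true := relsRange_strict mdata basesM 47 50525 (by decide +kernel)
theorem rel1076 : relsRange mdata basesM 47 50572 = true := relsRange_strict mdata basesM 47 50572 (by decide +kernel)
theorem rel1077 : relsRange mdata basesM 47 50619 = true := relsRange_strict mdata basesM 47 50619 (by decide +kernel)
theorem rel1078 : relsRange mdata basesM 47 50666 = true := relsRange_strict mdata basesM 47 50666 (by decide +kernel)
theorem rel1079 : relsRange mdata basesM 47 50713 = true := relsRange_strict mdata basesM 47 50713 (by decide +kernel)

end Cfsg.Agent.Helper4.TC.SuzKM2
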