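import Cfsg.Agent.Lib.Helper4.TC.SuzKM2Model
import Cfsg.Agent.Lib.Helper4.TC.Strict

set_option autoImplicit false
set_option maxRecDepth 100000
set_option linter.unusedVariables false
set_option Elab.async false

namespace Cfsg.Agent.Helper4.TC.SuzKM2

open Cfsg.Agent.Helper4.TC

theorem rel1080 : relsRange mdata basesM 47 50760 = true := relsRange_strict mdata basesM 47 50760 (by decide +kernel)
theorem rel1081 : relsRange mdata basesM 47 50807 = true := relsRange_strict mdata basesM 47 50807 (by decide +kernel)
theorem rel1082 : relsRange mdata basesM 47 50854 = true := relsRange_strict mdata basesM 47 50854 (by decide +kernel)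
theorem rel1083 : relsRange mdata basesM 47 50901 = true := relsRange_strict mdata basesM 47 50901 (by decide +kernel)
theorem rel1084 : relsRange mdata basesM 47 50948 = true := relsRange_strict mdata basesM 47 50948 (by decide +kernel)
theorem rel1085 : relsRange mdata basesM 47 50995 = true := relsRange_strict mdata basesM 47 50995 (by decide +kernel)
theorem rel1086 : relsRange mdata basesM 47 51042 = true := relsRange_strict mdata basesM 47 51042 (by decide +kernel)
theorem rel1087 : relsRange mdata basesM 47 51089 = true := relsRange_strict mdata basesM 47 51089 (by decide +kernel)

end Cfsg.Agent.Helper4.TC.SuzKM2
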