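import Cfsg.Agent.Lib.Helper4.TC.SuzKM2Model
import Cfsg.Agent.Lib.Helper4.TC.Strict

set_option autoImplicit false
set_option maxRecDepth 100000
set_option linter.unusedVariables false
set_option Elab.async false

namespace Cfsg.Agent.Helper4.TC.SuzKM2

open Cfsg.Agent.Helper4.TC

theorem rel1088 : relsRange mdata basesM 47 51136 = true := relsRange_strict mdata basesM 47 51136 (by decide +kernel)
theorem rel1089 : relsRange mdata basesM 47 51183 = true := relsRange_strict mdata basesM 47 51183 (by decide +kernel)
theorem rel1090 : relsRange mdata basesM 47 51230 = true := relsRange_strict mdata basesM 47 51230 (by decide +kernel)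
theorem rel1091 : relsRange mdata basesM 47 51277 = true := relsRange_strict mdata basesM 47 51277 (by decide +kernel)
theorem rel1092 : relsRange mdata basesM 47 51324 = true := relsRange_strict mdata basesM 47 51324 (by decide +kernel)
theorem rel1093 : relsRange mdata basesM 47 51371 = true := relsRange_strict mdata basesM 47 51371 (by decide +kernel)
theorem rel1094 : relsRange mdata basesM 47 51418 = true := relsRange_strict mdata basesM 47 51418 (by decide +kernel)
theorem rel1095 : relsRange mdata basesM 47 51465 = true := relsRange_strict mdata basesM 47 51465 (by decide +kernel)

end Cfsg.Agent.Helper4.TC.SuzKM2
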