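import Cfsg.Agent.Lib.Helper4.TC.SuzKM2Model
import Cfsg.Agent.Lib.Helper4.TC.Strict

set_option autoImplicit false
set_option maxRecDepth 100000
set_option linter.unusedVariables false
set_option Elab.async false

namespace Cfsg.Agent.Helper4.TC.SuzKM2

open Cfsg.Agent.Helper4.TC

theorem rel1096 : relsRange mdata basesM 47 51512 = true := relsRange_strict mdata basesM 47 51512 (by decide +kernel)
theorem rel1097 : relsRange mdata basesM 47 51559 = true := relsRange_strict mdata basesM 47 51559 (by decide +kernel)
theorem rel1098 : relsRange mdata basesM 47 51606 = true := relsRange_strict mdata basesM 47 51606 (by decide +kernel)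
theorem rel1099 : relsRange mdata basesM 47 51653 = true := relsRange_strict mdata basesM 47 51653 (by decide +kernel)
theorem rel1100 : relsRange mdata basesM 47 51700 = true := relsRange_strict mdata basesM 47 51700 (by decide +kernel)
theorem rel1101 : relsRange mdata basesM 47 51747 = true := relsRange_strict mdata basesM 47 51747 (by decide +kernel)
theorem rel1102 : relsRange mdata basesM 47 51794 = true := relsRange_strict mdata basesM 47 51794 (by decide +kernel)
theorem rel1103 : relsRange mdata basesM 47 51841 = true := relsRange_strict mdata basesM 47 51841 (by decide +kernel)

end Cfsg.Agent.Helper4.TC.SuzKM2
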