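import Cfsg.Agent.Lib.Helper4.TC.SuzKM2Model
import Cfsg.Agent.Lib.Helper4.TC.Strict

set_option autoImplicit false
set_option maxRecDepth 100000
set_option linter.unusedVariables false
set_option Elab.async false

namespace Cfsg.Agent.Helper4.TC.SuzKM2

open Cfsg.Agent.Helper4.TC

theorem rel1104 : relsRange mdata basesM 47 51888 = true := relsRange_strict mdata basesM 47 51888 (by decide +kernel)
theorem rel1105 : relsRange mdata basesM 47 51935 = true := relsRange_strict mdata basesM 47 51935 (by decide +kernel)
theorem rel1106 : relsRange mdata basesM 47 51982 = true := relsRange_strict mdata basesM 47 51982 (by decide +kernel)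
theorem rel1107 : relsRange mdata basesM 47 52029 = true := relsRange_strict mdata basesM 47 52029 (by decide +kernel)
theorem rel1108 : relsRange mdata basesM 47 52076 = true := relsRange_strict mdata basesM 47 52076 (by decide +kernel)
theorem rel1109 : relsRange mdata basesM 47 52123 = true := relsRange_strict mdata basesM 47 52123 (by decide +kernel)
theorem rel1110 : relsRange mdata basesM 47 52170 = true := relsRange_strict mdata basesM 47 52170 (by decide +kernel)
theorem rel1111 : relsRange mdata basesM 47 52217 = true := relsRange_strict mdata basesM 47 52217 (by decide +kernel)

end Cfsg.Agent.Helper4.TC.SuzKM2
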