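import Cfsg.Agent.Lib.Helper4.TC.SuzKM2Model
import Cfsg.Agent.Lib.Helper4.TC.Strict

set_option autoImplicit false
set_option maxRecDepth 100000
set_option linter.unusedVariables false
set_option Elab.async false

namespace Cfsg.Agent.Helper4.TC.SuzKM2

open Cfsg.Agent.Helper4.TC

theorem rel112 : relsRange mdata basesM 47 5264 = true := relsRange_strict mdata basesM 47 5264 (by decide +kernel)
theorem rel113 : relsRange mdata basesM 47 5311 = true := relsRange_strict mdata basesM 47 5311 (by decide +kernel)
theorem rel114 : relsRange mdata basesM 47 5358 = true := relsRange_strict mdata basesM 47 5358 (by decide +kernel)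
theorem rel115 : relsRange mdata basesM 47 5405 = true := relsRange_strict mdata basesM 47 5405 (by decide +kernel)
theorem rel116 : relsRange mdata basesM 47 5452 = true := relsRange_strict mdata basesM 47 5452 (by decide +kernel)
theorem rel117 : relsRange mdata basesM 47 5499 = true := relsRange_strict mdata basesM 47 5499 (by decide +kernel)
theorem rel118 : relsRange mdata basesM 47 5546 = true := relsRange_strict mdata basesM 47 5546 (by decide +kernel)
theorem rel119 : relsRange mdata basesM 47 5593 = true := relsRange_strict mdata basesM 47 5593 (by decide +kernel)

end Cfsg.Agent.Helper4.TC.SuzKM2
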