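import Cfsg.Agent.Lib.Helper4.TC.SuzKM2Model
import Cfsg.Agent.Lib.Helper4.TC.Strict

set_option autoImplicit false
set_option maxRecDepth 100000
set_option linter.unusedVariables false
set_option Elab.async false

namespace Cfsg.Agent.Helper4.TC.SuzKM2

open Cfsg.Agent.Helper4.TC

theorem rel1120 : relsRange mdata basesM 47 52640 = true := relsRange_strict mdata basesM 47 52640 (by decide +kernel)
theorem rel1121 : relsRange mdata basesM 47 52687 = true := relsRange_strict mdata basesM 47 52687 (by decide +kernel)
theorem rel1122 : relsRange mdata basesM 47 52734 = true := relsRange_strict mdata basesM 47 52734 (by decide +kernel)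
theorem rel1123 : relsRange mdata basesM 47 52781 = true := relsRange_strict mdata basesM 47 52781 (by decide +kernel)
theorem rel1124 : relsRange mdata basesM 47 52828 = true := relsRange_strict mdata basesM 47 52828 (by decide +kernel)
theorem rel1125 : relsRange mdata basesM 47 52875 = true := relsRange_strict mdata basesM 47 52875 (by decide +kernel)
theorem rel1126 : relsRange mdata basesM 47 52922 = true := relsRange_strict mdata basesM 47 52922 (by decide +kernel)
theorem rel1127 : relsRange mdata basesM 47 52969 = true := relsRange_strict mdata basesM 47 52969 (by decide +kernel)

end Cfsg.Agent.Helper4.TC.SuzKM2
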