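import Cfsg.Agent.Lib.Helper4.TC.SuzKM2Model
import Cfsg.Agent.Lib.Helper4.TC.Strict

set_option autoImplicit false
set_option maxRecDepth 100000
set_option linter.unusedVariables false
set_option Elab.async false

namespace Cfsg.Agent.Helper4.TC.SuzKM2

open Cfsg.Agent.Helper4.TC

theorem rel1128 : relsRange mdata basesM 47 53016 = true := relsRange_strict mdata basesM 47 53016 (by decide +kernel)
theorem rel1129 : relsRange mdata basesM 47 53063 = true := relsRange_strict mdata basesM 47 53063 (by decide +kernel)
theorem rel1130 : relsRange mdata basesM 47 53110 = true := relsRange_strict mdata basesM 47 53110 (by decide +kernel)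
theorem rel1131 : relsRange mdata basesM 47 53157 = true := relsRange_strict mdata basesM 47 53157 (by decide +kernel)
theorem rel1132 : relsRange mdata basesM 47 53204 = true := relsRange_strict mdata basesM 47 53204 (by decide +kernel)
theorem rel1133 : relsRange mdata basesM 47 53251 = true := relsRange_strict mdata basesM 47 53251 (by decide +kernel)
theorem rel1134 : relsRange mdata basesM 47 53298 = true := relsRange_strict mdata basesM 47 53298 (by decide +kernel)
theorem rel1135 : relsRange mdata basesM 47 53345 = true := relsRange_strict mdata basesM 47 53345 (by decide +kernel)

end Cfsg.Agent.Helper4.TC.SuzKM2
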