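import Cfsg.Agent.Lib.Helper4.TC.SuzKM2Model
import Cfsg.Agent.Lib.Helper4.TC.Strict

set_option autoImplicit false
set_option maxRecDepth 100000
set_option linter.unusedVariables false
set_option Elab.async false

namespace Cfsg.Agent.Helper4.TC.SuzKM2

open Cfsg.Agent.Helper4.TC

theorem rel1136 : relsRange mdata basesM 47 53392 = true := relsRange_strict mdata basesM 47 53392 (by decide +kernel)
theorem rel1137 : relsRange mdata basesM 47 53439 = true := relsRange_strict mdata basesM 47 53439 (by decide +kernel)
theorem rel1138 : relsRange mdata basesM 47 53486 = true := relsRange_strict mdata basesM 47 53486 (by decide +kernel)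
theorem rel1139 : relsRange mdata basesM 47 53533 = true := relsRange_strict mdata basesM 47 53533 (by decide +kernel)
theorem rel1140 : relsRange mdata basesM 47 53580 = true := relsRange_strict mdata basesM 47 53580 (by decide +kernel)
theorem rel1141 : relsRange mdata basesM 47 53627 = true := relsRange_strict mdata basesM 47 53627 (by decide +kernel)
theorem rel1142 : relsRange mdata basesM 47 53674 = true := relsRange_strict mdata basesM 47 53674 (by decide +kernel)
theorem rel1143 : relsRange mdata basesM 47 53721 = true := relsRange_strict mdata basesM 47 53721 (by decide +kernel)

end Cfsg.Agent.Helper4.TC.SuzKM2
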