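import Cfsg.Agent.Lib.Helper4.TC.SuzKM2Model
import Cfsg.Agent.Lib.Helper4.TC.Strict

set_option autoImplicit false
set_option maxRecDepth 100000
set_option linter.unusedVariables false
set_option Elab.async false

namespace Cfsg.Agent.Helper4.TC.SuzKM2

open Cfsg.Agent.Helper4.TC

theorem rel1144 : relsRange mdata basesM 47 53768 = true := relsRange_strict mdata basesM 47 53768 (by decide +kernel)
theorem rel1145 : relsRange mdata basesM 47 53815 = true := relsRange_strict mdata basesM 47 53815 (by decide +kernel)
theorem rel1146 : relsRange mdata basesM 47 53862 = true := relsRange_strict mdata basesM 47 53862 (by decide +kernel)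
theorem rel1147 : relsRange mdata basesM 47 53909 = true := relsRange_strict mdata basesM 47 53909 (by decide +kernel)
theorem rel1148 : relsRange mdata basesM 47 53956 = true := relsRange_strict mdata basesM 47 53956 (by decide +kernel)
theorem rel1149 : relsRange mdata basesM 47 54003 = true := relsRange_strict mdata basesM 47 54003 (by decide +kernel)
theorem rel1150 : relsRange mdata basesM 47 54050 = true := relsRange_strict mdata basesM 47 54050 (by decide +kernel)
theorem rel1151 : relsRange mdata basesM 47 54097 = true := relsRange_strict mdata basesM 47 54097 (by decide +kernel)

end Cfsg.Agent.Helper4.TC.SuzKM2
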