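import Cfsg.Agent.Lib.Helper4.TC.SuzKM2Model
import Cfsg.Agent.Lib.Helper4.TC.Strict

set_option autoImplicit false
set_option maxRecDepth 100000
set_option linter.unusedVariables false
set_option Elab.async false

namespace Cfsg.Agent.Helper4.TC.SuzKM2

open Cfsg.Agent.Helper4.TC

theorem rel1152 : relsRange mdata basesM 47 54144 = true := relsRange_strict mdata basesM 47 54144 (by decide +kernel)
theorem rel1153 : relsRange mdata basesM 47 54191 = true := relsRange_strict mdata basesM 47 54191 (by decide +kernel)
theorem rel1154 : relsRange mdata basesM 47 54238 = true := relsRange_strict mdata basesM 47 54238 (by decide +kernel)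
theorem rel1155 : relsRange mdata basesM 47 54285 = true := relsRange_strict mdata basesM 47 54285 (by decide +kernel)
theorem rel1156 : relsRange mdata basesM 47 54332 = true := relsRange_strict mdata basesM 47 54332 (by decide +kernel)
theorem rel1157 : relsRange mdata basesM 47 54379 = true := relsRange_strict mdata basesM 47 54379 (by decide +kernel)
theorem rel1158 : relsRange mdata basesM 47 54426 = true := relsRange_strict mdata basesM 47 54426 (by decide +kernel)
theorem rel1159 : relsRange mdata basesM 47 54473 = true := relsRange_strict mdata basesM 47 54473 (by decide +kernel)

end Cfsg.Agent.Helper4.TC.SuzKM2
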