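import Cfsg.Agent.Lib.Helper4.TC.SuzKM2Model
import Cfsg.Agent.Lib.Helper4.TC.Strict

set_option autoImplicit false
set_option maxRecDepth 100000
set_option linter.unusedVariables false
set_option Elab.async false

namespace Cfsg.Agent.Helper4.TC.SuzKM2

open Cfsg.Agent.Helper4.TC

theorem rel1160 : relsRange mdata basesM 47 54520 = true := relsRange_strict mdata basesM 47 54520 (by decide +kernel)
theorem rel1161 : relsRange mdata basesM 47 54567 = true := relsRange_strict mdata basesM 47 54567 (by decide +kernel)
theorem rel1162 : relsRange mdata basesM 47 54614 = true := relsRange_strict mdata basesM 47 54614 (by decide +kernel)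
theorem rel1163 : relsRange mdata basesM 47 54661 = true := relsRange_strict mdata basesM 47 54661 (by decide +kernel)
theorem rel1164 : relsRange mdata basesM 47 54708 = true := relsRange_strict mdata basesM 47 54708 (by decide +kernel)
theorem rel1165 : relsRange mdata basesM 47 54755 = true := relsRange_strict mdata basesM 47 54755 (by decide +kernel)
theorem rel1166 : relsRange mdata basesM 47 54802 = true := relsRange_strict mdata basesM 47 54802 (by decide +kernel)
theorem rel1167 : relsRange mdata basesM 47 54849 = true := relsRange_strict mdata basesM 47 54849 (by decide +kernel)

end Cfsg.Agent.Helper4.TC.SuzKM2
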