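import Cfsg.Agent.Lib.Helper4.TC.SuzKM2Model
import Cfsg.Agent.Lib.Helper4.TC.Strict

set_option autoImplicit false
set_option maxRecDepth 100000
set_option linter.unusedVariables false
set_option Elab.async false

namespace Cfsg.Agent.Helper4.TC.SuzKM2

open Cfsg.Agent.Helper4.TC

theorem rel1176 : relsRange mdata basesM 47 55272 = true := relsRange_strict mdata basesM 47 55272 (by decide +kernel)
theorem rel1177 : relsRange mdata basesM 47 55319 = true := relsRange_strict mdata basesM 47 55319 (by decide +kernel)
theorem rel1178 : relsRange mdata basesM 47 55366 = true := relsRange_strict mdata basesM 47 55366 (by decide +kernel)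
theorem rel1179 : relsRange mdata basesM 47 55413 = true := relsRange_strict mdata basesM 47 55413 (by decide +kernel)
theorem rel1180 : relsRange mdata basesM 47 55460 = true := relsRange_strict mdata basesM 47 55460 (by decide +kernel)
theorem rel1181 : relsRange mdata basesM 47 55507 = true := relsRange_strict mdata basesM 47 55507 (by decide +kernel)
theorem rel1182 : relsRange mdata basesM 47 55554 = true := relsRange_strict mdata basesM 47 55554 (by decide +kernel)
theorem rel1183 : relsRange mdata basesM 47 55601 = true := relsRange_strict mdata basesM 47 55601 (by decide +kernel)

end Cfsg.Agent.Helper4.TC.SuzKM2
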