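import Cfsg.Agent.Lib.Helper4.TC.SuzKM2Model
import Cfsg.Agent.Lib.Helper4.TC.Strict

set_option autoImplicit false
set_option maxRecDepth 100000
set_option linter.unusedVariables false
set_option Elab.async false

namespace Cfsg.Agent.Helper4.TC.SuzKM2

open Cfsg.Agent.Helper4.TC

theorem rel1184 : relsRange mdata basesM 47 55648 = true := relsRange_strict mdata basesM 47 55648 (by decide +kernel)
theorem rel1185 : relsRange mdata basesM 47 55695 = true := relsRange_strict mdata basesM 47 55695 (by decide +kernel)
theorem rel1186 : relsRange mdata basesM 47 55742 = true := relsRange_strict mdata basesM 47 55742 (by decide +kernel)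
theorem rel1187 : relsRange mdata basesM 47 55789 = true := relsRange_strict mdata basesM 47 55789 (by decide +kernel)
theorem rel1188 : relsRange mdata basesM 47 55836 = true := relsRange_strict mdata basesM 47 55836 (by decide +kernel)
theorem rel1189 : relsRange mdata basesM 47 55883 = true := relsRange_strict mdata basesM 47 55883 (by decide +kernel)
theorem rel1190 : relsRange mdata basesM 47 55930 = true := relsRange_strict mdata basesM 47 55930 (by decide +kernel)
theorem rel1191 : relsRange mdata basesM 47 55977 = true := relsRange_strict mdata basesM 47 55977 (by decide +kernel)

end Cfsg.Agent.Helper4.TC.SuzKM2
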