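import Cfsg.Agent.Lib.Helper4.TC.SuzKM2Model
import Cfsg.Agent.Lib.Helper4.TC.Strict

set_option autoImplicit false
set_option maxRecDepth 100000
set_option linter.unusedVariables false
set_option Elab.async false

namespace Cfsg.Agent.Helper4.TC.SuzKM2

open Cfsg.Agent.Helper4.TC

theorem rel1192 : relsRange mdata basesM 47 56024 = true := relsRange_strict mdata basesM 47 56024 (by decide +kernel)
theorem rel1193 : relsRange mdata basesM 47 56071 = true := relsRange_strict mdata basesM 47 56071 (by decide +kernel)
theorem rel1194 : relsRange mdata basesM 47 56118 = true := relsRange_strict mdata basesM 47 56118 (by decide +kernel)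
theorem rel1195 : relsRange mdata basesM 47 56165 = true := relsRange_strict mdata basesM 47 56165 (by decide +kernel)
theorem rel1196 : relsRange mdata basesM 47 56212 = true := relsRange_strict mdata basesM 47 56212 (by decide +kernel)
theorem rel1197 : relsRange mdata basesM 47 56259 = true := relsRange_strict mdata basesM 47 56259 (by decide +kernel)
theorem rel1198 : relsRange mdata basesM 47 56306 = true := relsRange_strict mdata basesM 47 56306 (by decide +kernel)
theorem rel1199 : relsRange mdata basesM 47 56353 = true := relsRange_strict mdata basesM 47 56353 (by decide +kernel)

end Cfsg.Agent.Helper4.TC.SuzKM2
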