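import Cfsg.Agent.Lib.Helper4.TC.SuzKM2Model
import Cfsg.Agent.Lib.Helper4.TC.Strict

set_option autoImplicit false
set_option maxRecDepth 100000
set_option linter.unusedVariables false
set_option Elab.async false

namespace Cfsg.Agent.Helper4.TC.SuzKM2

open Cfsg.Agent.Helper4.TC

theorem rel1208 : relsRange mdata basesM 47 56776 = true := relsRange_strict mdata basesM 47 56776 (by decide +kernel)
theorem rel1209 : relsRange mdata basesM 47 56823 = true := relsRange_strict mdata basesM 47 56823 (by decide +kernel)
theorem rel1210 : relsRange mdata basesM 47 56870 = true := relsRange_strict mdata basesM 47 56870 (by decide +kernel)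
theorem rel1211 : relsRange mdata basesM 47 56917 = true := relsRange_strict mdata basesM 47 56917 (by decide +kernel)
theorem rel1212 : relsRange mdata basesM 47 56964 = true := relsRange_strict mdata basesM 47 56964 (by decide +kernel)
theorem rel1213 : relsRange mdata basesM 47 57011 = true := relsRange_strict mdata basesM 47 57011 (by decide +kernel)
theorem rel1214 : relsRange mdata basesM 47 57058 = true := relsRange_strict mdata basesM 47 57058 (by decide +kernel)
theorem rel1215 : relsRange mdata basesM 47 57105 = true := relsRange_strict mdata basesM 47 57105 (by decide +kernel)

end Cfsg.Agent.Helper4.TC.SuzKM2
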