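import Cfsg.Agent.Lib.Helper4.TC.SuzKM2Model
import Cfsg.Agent.Lib.Helper4.TC.Strict

set_option autoImplicit false
set_option maxRecDepth 100000
set_option linter.unusedVariables false
set_option Elab.async false

namespace Cfsg.Agent.Helper4.TC.SuzKM2

open Cfsg.Agent.Helper4.TC

theorem rel1216 : relsRange mdata basesM 47 57152 = true := relsRange_strict mdata basesM 47 57152 (by decide +kernel)
theorem rel1217 : relsRange mdata basesM 47 57199 = true := relsRange_strict mdata basesM 47 57199 (by decide +kernel)
theorem rel1218 : relsRange mdata basesM 47 57246 = true := relsRange_strict mdata basesM 47 57246 (by decide +kernel)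
theorem rel1219 : relsRange mdata basesM 47 57293 = true := relsRange_strict mdata basesM 47 57293 (by decide +kernel)
theorem rel1220 : relsRange mdata basesM 47 57340 = true := relsRange_strict mdata basesM 47 57340 (by decide +kernel)
theorem rel1221 : relsRange mdata basesM 47 57387 = true := relsRange_strict mdata basesM 47 57387 (by decide +kernel)
theorem rel1222 : relsRange mdata basesM 47 57434 = true := relsRange_strict mdata basesM 47 57434 (by decide +kernel)
theorem rel1223 : relsRange mdata basesM 47 57481 = true := relsRange_strict mdata basesM 47 57481 (by decide +kernel)

end Cfsg.Agent.Helper4.TC.SuzKM2
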