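import Cfsg.Agent.Lib.Helper4.TC.SuzKM2Model
import Cfsg.Agent.Lib.Helper4.TC.Strict

set_option autoImplicit false
set_option maxRecDepth 100000
set_option linter.unusedVariables false
set_option Elab.async false

namespace Cfsg.Agent.Helper4.TC.SuzKM2

open Cfsg.Agent.Helper4.TC

theorem rel1232 : relsRange mdata basesM 47 57904 = true := relsRange_strict mdata basesM 47 57904 (by decide +kernel)
theorem rel1233 : relsRange mdata basesM 47 57951 = true := relsRange_strict mdata basesM 47 57951 (by decide +kernel)
theorem rel1234 : relsRange mdata basesM 47 57998 = true := relsRange_strict mdata basesM 47 57998 (by decide +kernel)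
theorem rel1235 : relsRange mdata basesM 47 58045 = true := relsRange_strict mdata basesM 47 58045 (by decide +kernel)
theorem rel1236 : relsRange mdata basesM 47 58092 = true := relsRange_strict mdata basesM 47 58092 (by decide +kernel)
theorem rel1237 : relsRange mdata basesM 47 58139 = true := relsRange_strict mdata basesM 47 58139 (by decide +kernel)
theorem rel1238 : relsRange mdata basesM 47 58186 = true := relsRange_strict mdata basesM 47 58186 (by decide +kernel)
theorem rel1239 : relsRange mdata basesM 47 58233 = true := relsRange_strict mdata basesM 47 58233 (by decide +kernel)

end Cfsg.Agent.Helper4.TC.SuzKM2
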