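import Cfsg.Agent.Lib.Helper4.TC.SuzKM2Model
import Cfsg.Agent.Lib.Helper4.TC.Strict

set_option autoImplicit false
set_option maxRecDepth 100000
set_option linter.unusedVariables false
set_option Elab.async false

namespace Cfsg.Agent.Helper4.TC.SuzKM2

open Cfsg.Agent.Helper4.TC

theorem rel1240 : relsRange mdata basesM 47 58280 = true := relsRange_strict mdata basesM 47 58280 (by decide +kernel)
theorem rel1241 : relsRange mdata basesM 47 58327 = true := relsRange_strict mdata basesM 47 58327 (by decide +kernel)
theorem rel1242 : relsRange mdata basesM 47 58374 = true := relsRange_strict mdata basesM 47 58374 (by decide +kernel)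
theorem rel1243 : relsRange mdata basesM 47 58421 = true := relsRange_strict mdata basesM 47 58421 (by decide +kernel)
theorem rel1244 : relsRange mdata basesM 47 58468 = true := relsRange_strict mdata basesM 47 58468 (by decide +kernel)
theorem rel1245 : relsRange mdata basesM 47 58515 = true := relsRange_strict mdata basesM 47 58515 (by decide +kernel)
theorem rel1246 : relsRange mdata basesM 47 58562 = true := relsRange_strict mdata basesM 47 58562 (by decide +kernel)
theorem rel1247 : relsRange mdata basesM 47 58609 = true := relsRange_strict mdata basesM 47 58609 (by decide +kernel)

end Cfsg.Agent.Helper4.TC.SuzKM2
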