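import Cfsg.Agent.Lib.Helper4.TC.SuzKM2Model
import Cfsg.Agent.Lib.Helper4.TC.Strict

set_option autoImplicit false
set_option maxRecDepth 100000
set_option linter.unusedVariables false
set_option Elab.async false

namespace Cfsg.Agent.Helper4.TC.SuzKM2

open Cfsg.Agent.Helper4.TC

theorem rel1248 : relsRange mdata basesM 47 58656 = true := relsRange_strict mdata basesM 47 58656 (by decide +kernel)
theorem rel1249 : relsRange mdata basesM 47 58703 = true := relsRange_strict mdata basesM 47 58703 (by decide +kernel)
theorem rel1250 : relsRange mdata basesM 47 58750 = true := relsRange_strict mdata basesM 47 58750 (by decide +kernel)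
theorem rel1251 : relsRange mdata basesM 47 58797 = true := relsRange_strict mdata basesM 47 58797 (by decide +kernel)
theorem rel1252 : relsRange mdata basesM 47 58844 = true := relsRange_strict mdata basesM 47 58844 (by decide +kernel)
theorem rel1253 : relsRange mdata basesM 47 58891 = true := relsRange_strict mdata basesM 47 58891 (by decide +kernel)
theorem rel1254 : relsRange mdata basesM 47 58938 = true := relsRange_strict mdata basesM 47 58938 (by decide +kernel)
theorem rel1255 : relsRange mdata basesM 47 58985 = true := relsRange_strict mdata basesM 47 58985 (by decide +kernel)

end Cfsg.Agent.Helper4.TC.SuzKM2
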