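import Cfsg.Agent.Lib.Helper4.TC.SuzKM2Model
import Cfsg.Agent.Lib.Helper4.TC.Strict

set_option autoImplicit false
set_option maxRecDepth 100000
set_option linter.unusedVariables false
set_option Elab.async false

namespace Cfsg.Agent.Helper4.TC.SuzKM2

open Cfsg.Agent.Helper4.TC

theorem rel1256 : relsRange mdata basesM 47 59032 = true := relsRange_strict mdata basesM 47 59032 (by decide +kernel)
theorem rel1257 : relsRange mdata basesM 47 59079 = true := relsRange_strict mdata basesM 47 59079 (by decide +kernel)
theorem rel1258 : relsRange mdata basesM 47 59126 = true := relsRange_strict mdata basesM 47 59126 (by decide +kernel)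
theorem rel1259 : relsRange mdata basesM 47 59173 = true := relsRange_strict mdata basesM 47 59173 (by decide +kernel)
theorem rel1260 : relsRange mdata basesM 47 59220 = true := relsRange_strict mdata basesM 47 59220 (by decide +kernel)
theorem rel1261 : relsRange mdata basesM 47 59267 = true := relsRange_strict mdata basesM 47 59267 (by decide +kernel)
theorem rel1262 : relsRange mdata basesM 47 59314 = true := relsRange_strict mdata basesM 47 59314 (by decide +kernel)
theorem rel1263 : relsRange mdata basesM 47 59361 = true := relsRange_strict mdata basesM 47 59361 (by decide +kernel)

end Cfsg.Agent.Helper4.TC.SuzKM2
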