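import Cfsg.Agent.Lib.Helper4.TC.SuzKM2Model
import Cfsg.Agent.Lib.Helper4.TC.Strict

set_option autoImplicit false
set_option maxRecDepth 100000
set_option linter.unusedVariables false
set_option Elab.async false

namespace Cfsg.Agent.Helper4.TC.SuzKM2

open Cfsg.Agent.Helper4.TC

theorem rel1264 : relsRange mdata basesM 47 59408 = true := relsRange_strict mdata basesM 47 59408 (by decide +kernel)
theorem rel1265 : relsRange mdata basesM 47 59455 = true := relsRange_strict mdata basesM 47 59455 (by decide +kernel)
theorem rel1266 : relsRange mdata basesM 47 59502 = true := relsRange_strict mdata basesM 47 59502 (by decide +kernel)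
theorem rel1267 : relsRange mdata basesM 47 59549 = true := relsRange_strict mdata basesM 47 59549 (by decide +kernel)
theorem rel1268 : relsRange mdata basesM 47 59596 = true := relsRange_strict mdata basesM 47 59596 (by decide +kernel)
theorem rel1269 : relsRange mdata basesM 47 59643 = true := relsRange_strict mdata basesM 47 59643 (by decide +kernel)
theorem rel1270 : relsRange mdata basesM 47 59690 = true := relsRange_strict mdata basesM 47 59690 (by decide +kernel)
theorem rel1271 : relsRange mdata basesM 47 59737 = true := relsRange_strict mdata basesM 47 59737 (by decide +kernel)

end Cfsg.Agent.Helper4.TC.SuzKM2
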