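import Cfsg.Agent.Lib.Helper4.TC.SuzKM2Model
import Cfsg.Agent.Lib.Helper4.TC.Strict

set_option autoImplicit false
set_option maxRecDepth 100000
set_option linter.unusedVariables false
set_option Elab.async false

namespace Cfsg.Agent.Helper4.TC.SuzKM2

open Cfsg.Agent.Helper4.TC

theorem rel128 : relsRange mdata basesM 47 6016 = true := relsRange_strict mdata basesM 47 6016 (by decide +kernel)
theorem rel129 : relsRange mdata basesM 47 6063 = true := relsRange_strict mdata basesM 47 6063 (by decide +kernel)
theorem rel130 : relsRange mdata basesM 47 6110 = true := relsRange_strict mdata basesM 47 6110 (by decide +kernel)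
theorem rel131 : relsRange mdata basesM 47 6157 = true := relsRange_strict mdata basesM 47 6157 (by decide +kernel)
theorem rel132 : relsRange mdata basesM 47 6204 = true := relsRange_strict mdata basesM 47 6204 (by decide +kernel)
theorem rel133 : relsRange mdata basesM 47 6251 = true := relsRange_strict mdata basesM 47 6251 (by decide +kernel)
theorem rel134 : relsRange mdata basesM 47 6298 = true := relsRange_strict mdata basesM 47 6298 (by decide +kernel)
theorem rel135 : relsRange mdata basesM 47 6345 = true := relsRange_strict mdata basesM 47 6345 (by decide +kernel)

end Cfsg.Agent.Helper4.TC.SuzKM2
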