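import Cfsg.Agent.Lib.Helper4.TC.SuzKM2Model
import Cfsg.Agent.Lib.Helper4.TC.Strict

set_option autoImplicit false
set_option maxRecDepth 100000
set_option linter.unusedVariables false
set_option Elab.async false

namespace Cfsg.Agent.Helper4.TC.SuzKM2

open Cfsg.Agent.Helper4.TC

theorem rel1280 : relsRange mdata basesM 47 60160 = true := relsRange_strict mdata basesM 47 60160 (by decide +kernel)
theorem rel1281 : relsRange mdata basesM 47 60207 = true := relsRange_strict mdata basesM 47 60207 (by decide +kernel)
theorem rel1282 : relsRange mdata basesM 47 60254 = true := relsRange_strict mdata basesM 47 60254 (by decide +kernel)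
theorem rel1283 : relsRange mdata basesM 47 60301 = true := relsRange_strict mdata basesM 47 60301 (by decide +kernel)
theorem rel1284 : relsRange mdata basesM 47 60348 = true := relsRange_strict mdata basesM 47 60348 (by decide +kernel)
theorem rel1285 : relsRange mdata basesM 47 60395 = true := relsRange_strict mdata basesM 47 60395 (by decide +kernel)
theorem rel1286 : relsRange mdata basesM 47 60442 = true := relsRange_strict mdata basesM 47 60442 (by decide +kernel)
theorem rel1287 : relsRange mdata basesM 47 60489 = true := relsRange_strict mdata basesM 47 60489 (by decide +kernel)

end Cfsg.Agent.Helper4.TC.SuzKM2
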