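import Cfsg.Agent.Lib.Helper4.TC.SuzKM2Model
import Cfsg.Agent.Lib.Helper4.TC.Strict

set_option autoImplicit false
set_option maxRecDepth 100000
set_option linter.unusedVariables false
set_option Elab.async false

namespace Cfsg.Agent.Helper4.TC.SuzKM2

open Cfsg.Agent.Helper4.TC

theorem rel1296 : relsRange mdata basesM 47 60912 = true := relsRange_strict mdata basesM 47 60912 (by decide +kernel)
theorem rel1297 : relsRange mdata basesM 47 60959 = true := relsRange_strict mdata basesM 47 60959 (by decide +kernel)
theorem rel1298 : relsRange mdata basesM 47 61006 = true := relsRange_strict mdata basesM 47 61006 (by decide +kernel)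
theorem rel1299 : relsRange mdata basesM 47 61053 = true := relsRange_strict mdata basesM 47 61053 (by decide +kernel)
theorem rel1300 : relsRange mdata basesM 47 61100 = true := relsRange_strict mdata basesM 47 61100 (by decide +kernel)
theorem rel1301 : relsRange mdata basesM 47 61147 = true := relsRange_strict mdata basesM 47 61147 (by decide +kernel)
theorem rel1302 : relsRange mdata basesM 47 61194 = true := relsRange_strict mdata basesM 47 61194 (by decide +kernel)
theorem rel1303 : relsRange mdata basesM 47 61241 = true := relsRange_strict mdata basesM 47 61241 (by decide +kernel)

end Cfsg.Agent.Helper4.TC.SuzKM2
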