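import Cfsg.Agent.Lib.Helper4.TC.SuzKM2Model
import Cfsg.Agent.Lib.Helper4.TC.Strict

set_option autoImplicit false
set_option maxRecDepth 100000
set_option linter.unusedVariables false
set_option Elab.async false

namespace Cfsg.Agent.Helper4.TC.SuzKM2

open Cfsg.Agent.Helper4.TC

theorem rel1304 : relsRange mdata basesM 47 61288 = true := relsRange_strict mdata basesM 47 61288 (by decide +kernel)
theorem rel1305 : relsRange mdata basesM 47 61335 = true := relsRange_strict mdata basesM 47 61335 (by decide +kernel)
theorem rel1306 : relsRange mdata basesM 47 61382 = true := relsRange_strict mdata basesM 47 61382 (by decide +kernel)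
theorem rel1307 : relsRange mdata basesM 47 61429 = true := relsRange_strict mdata basesM 47 61429 (by decide +kernel)
theorem rel1308 : relsRange mdata basesM 47 61476 = true := relsRange_strict mdata basesM 47 61476 (by decide +kernel)
theorem rel1309 : relsRange mdata basesM 47 61523 = true := relsRange_strict mdata basesM 47 61523 (by decide +kernel)
theorem rel1310 : relsRange mdata basesM 47 61570 = true := relsRange_strict mdata basesM 47 61570 (by decide +kernel)
theorem rel1311 : relsRange mdata basesM 47 61617 = true := relsRange_strict mdata basesM 47 61617 (by decide +kernel)

end Cfsg.Agent.Helper4.TC.SuzKM2
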