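import Cfsg.Agent.Lib.Helper4.TC.SuzKM2Model
import Cfsg.Agent.Lib.Helper4.TC.Strict

set_option autoImplicit false
set_option maxRecDepth 100000
set_option linter.unusedVariables false
set_option Elab.async false

namespace Cfsg.Agent.Helper4.TC.SuzKM2

open Cfsg.Agent.Helper4.TC

theorem rel1312 : relsRange mdata basesM 47 61664 = true := relsRange_strict mdata basesM 47 61664 (by decide +kernel)
theorem rel1313 : relsRange mdata basesM 47 61711 = true := relsRange_strict mdata basesM 47 61711 (by decide +kernel)
theorem rel1314 : relsRange mdata basesM 47 61758 = true := relsRange_strict mdata basesM 47 61758 (by decide +kernel)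
theorem rel1315 : relsRange mdata basesM 47 61805 = true := relsRange_strict mdata basesM 47 61805 (by decide +kernel)
theorem rel1316 : relsRange mdata basesM 47 61852 = true := relsRange_strict mdata basesM 47 61852 (by decide +kernel)
theorem rel1317 : relsRange mdata basesM 47 61899 = true := relsRange_strict mdata basesM 47 61899 (by decide +kernel)
theorem rel1318 : relsRange mdata basesM 47 61946 = true := relsRange_strict mdata basesM 47 61946 (by decide +kernel)
theorem rel1319 : relsRange mdata basesM 47 61993 = true := relsRange_strict mdata basesM 47 61993 (by decide +kernel)

end Cfsg.Agent.Helper4.TC.SuzKM2
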