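import Cfsg.Agent.Lib.Helper4.TC.SuzKM2Model
import Cfsg.Agent.Lib.Helper4.TC.Strict

set_option autoImplicit false
set_option maxRecDepth 100000
set_option linter.unusedVariables false
set_option Elab.async false

namespace Cfsg.Agent.Helper4.TC.SuzKM2

open Cfsg.Agent.Helper4.TC

theorem rel1320 : relsRange mdata basesM 47 62040 = true := relsRange_strict mdata basesM 47 62040 (by decide +kernel)
theorem rel1321 : relsRange mdata basesM 47 62087 = true := relsRange_strict mdata basesM 47 62087 (by decide +kernel)
theorem rel1322 : relsRange mdata basesM 47 62134 = true := relsRange_strict mdata basesM 47 62134 (by decide +kernel)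
theorem rel1323 : relsRange mdata basesM 47 62181 = true := relsRange_strict mdata basesM 47 62181 (by decide +kernel)
theorem rel1324 : relsRange mdata basesM 47 62228 = true := relsRange_strict mdata basesM 47 62228 (by decide +kernel)
theorem rel1325 : relsRange mdata basesM 47 62275 = true := relsRange_strict mdata basesM 47 62275 (by decide +kernel)
theorem rel1326 : relsRange mdata basesM 47 62322 = true := relsRange_strict mdata basesM 47 62322 (by decide +kernel)
theorem rel1327 : relsRange mdata basesM 47 62369 = true := relsRange_strict mdata basesM 47 62369 (by decide +kernel)

end Cfsg.Agent.Helper4.TC.SuzKM2
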