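import Cfsg.Agent.Lib.Helper4.TC.SuzKM2Model
import Cfsg.Agent.Lib.Helper4.TC.Strict

set_option autoImplicit false
set_option maxRecDepth 100000
set_option linter.unusedVariables false
set_option Elab.async false

namespace Cfsg.Agent.Helper4.TC.SuzKM2

open Cfsg.Agent.Helper4.TC

theorem rel1328 : relsRange mdata basesM 47 62416 = true := relsRange_strict mdata basesM 47 62416 (by decide +kernel)
theorem rel1329 : relsRange mdata basesM 47 62463 = true := relsRange_strict mdata basesM 47 62463 (by decide +kernel)
theorem rel1330 : relsRange mdata basesM 47 62510 = true := relsRange_strict mdata basesM 47 62510 (by decide +kernel)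
theorem rel1331 : relsRange mdata basesM 47 62557 = true := relsRange_strict mdata basesM 47 62557 (by decide +kernel)
theorem rel1332 : relsRange mdata basesM 47 62604 = true := relsRange_strict mdata basesM 47 62604 (by decide +kernel)
theorem rel1333 : relsRange mdata basesM 47 62651 = true := relsRange_strict mdata basesM 47 62651 (by decide +kernel)
theorem rel1334 : relsRange mdata basesM 47 62698 = true := relsRange_strict mdata basesM 47 62698 (by decide +kernel)
theorem rel1335 : relsRange mdata basesM 47 62745 = true := relsRange_strict mdata basesM 47 62745 (by decide +kernel)

end Cfsg.Agent.Helper4.TC.SuzKM2
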