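import Cfsg.Agent.Lib.Helper4.TC.SuzKM2Model
import Cfsg.Agent.Lib.Helper4.TC.Strict

set_option autoImplicit false
set_option maxRecDepth 100000
set_option linter.unusedVariables false
set_option Elab.async false

namespace Cfsg.Agent.Helper4.TC.SuzKM2

open Cfsg.Agent.Helper4.TC

theorem rel1336 : relsRange mdata basesM 47 62792 = true := relsRange_strict mdata basesM 47 62792 (by decide +kernel)
theorem rel1337 : relsRange mdata basesM 47 62839 = true := relsRange_strict mdata basesM 47 62839 (by decide +kernel)
theorem rel1338 : relsRange mdata basesM 47 62886 = true := relsRange_strict mdata basesM 47 62886 (by decide +kernel)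
theorem rel1339 : relsRange mdata basesM 47 62933 = true := relsRange_strict mdata basesM 47 62933 (by decide +kernel)
theorem rel1340 : relsRange mdata basesM 47 62980 = true := relsRange_strict mdata basesM 47 62980 (by decide +kernel)
theorem rel1341 : relsRange mdata basesM 47 63027 = true := relsRange_strict mdata basesM 47 63027 (by decide +kernel)
theorem rel1342 : relsRange mdata basesM 47 63074 = true := relsRange_strict mdata basesM 47 63074 (by decide +kernel)
theorem rel1343 : relsRange mdata basesM 47 63121 = true := relsRange_strict mdata basesM 47 63121 (by decide +kernel)

end Cfsg.Agent.Helper4.TC.SuzKM2
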