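import Cfsg.Agent.Lib.Helper4.TC.SuzKM2Model
import Cfsg.Agent.Lib.Helper4.TC.Strict

set_option autoImplicit false
set_option maxRecDepth 100000
set_option linter.unusedVariables false
set_option Elab.async false

namespace Cfsg.Agent.Helper4.TC.SuzKM2

open Cfsg.Agent.Helper4.TC

theorem rel1344 : relsRange mdata basesM 47 63168 = true := relsRange_strict mdata basesM 47 63168 (by decide +kernel)
theorem rel1345 : relsRange mdata basesM 47 63215 = true := relsRange_strict mdata basesM 47 63215 (by decide +kernel)
theorem rel1346 : relsRange mdata basesM 47 63262 = true := relsRange_strict mdata basesM 47 63262 (by decide +kernel)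
theorem rel1347 : relsRange mdata basesM 47 63309 = true := relsRange_strict mdata basesM 47 63309 (by decide +kernel)
theorem rel1348 : relsRange mdata basesM 47 63356 = true := relsRange_strict mdata basesM 47 63356 (by decide +kernel)
theorem rel1349 : relsRange mdata basesM 47 63403 = true := relsRange_strict mdata basesM 47 63403 (by decide +kernel)
theorem rel1350 : relsRange mdata basesM 47 63450 = true := relsRange_strict mdata basesM 47 63450 (by decide +kernel)
theorem rel1351 : relsRange mdata basesM 47 63497 = true := relsRange_strict mdata basesM 47 63497 (by decide +kernel)

end Cfsg.Agent.Helper4.TC.SuzKM2
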