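import Cfsg.Agent.Lib.Helper4.TC.SuzKM2Model
import Cfsg.Agent.Lib.Helper4.TC.Strict

set_option autoImplicit false
set_option maxRecDepth 100000
set_option linter.unusedVariables false
set_option Elab.async false

namespace Cfsg.Agent.Helper4.TC.SuzKM2

open Cfsg.Agent.Helper4.TC

theorem rel1352 : relsRange mdata basesM 47 63544 = true := relsRange_strict mdata basesM 47 63544 (by decide +kernel)
theorem rel1353 : relsRange mdata basesM 47 63591 = true := relsRange_strict mdata basesM 47 63591 (by decide +kernel)
theorem rel1354 : relsRange mdata basesM 47 63638 = true := relsRange_strict mdata basesM 47 63638 (by decide +kernel)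
theorem rel1355 : relsRange mdata basesM 47 63685 = true := relsRange_strict mdata basesM 47 63685 (by decide +kernel)
theorem rel1356 : relsRange mdata basesM 47 63732 = true := relsRange_strict mdata basesM 47 63732 (by decide +kernel)
theorem rel1357 : relsRange mdata basesM 47 63779 = true := relsRange_strict mdata basesM 47 63779 (by decide +kernel)
theorem rel1358 : relsRange mdata basesM 47 63826 = true := relsRange_strict mdata basesM 47 63826 (by decide +kernel)
theorem rel1359 : relsRange mdata basesM 47 63873 = true := relsRange_strict mdata basesM 47 63873 (by decide +kernel)

end Cfsg.Agent.Helper4.TC.SuzKM2
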