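import Cfsg.Agent.Lib.Helper4.TC.SuzKM2Model
import Cfsg.Agent.Lib.Helper4.TC.Strict

set_option autoImplicit false
set_option maxRecDepth 100000
set_option linter.unusedVariables false
set_option Elab.async false

namespace Cfsg.Agent.Helper4.TC.SuzKM2

open Cfsg.Agent.Helper4.TC

theorem rel1376 : relsRange mdata basesM 47 64672 = true := relsRange_strict mdata basesM 47 64672 (by decide +kernel)
theorem rel1377 : relsRange mdata basesM 47 64719 = true := relsRange_strict mdata basesM 47 64719 (by decide +kernel)
theorem rel1378 : relsRange mdata basesM 47 64766 = true := relsRange_strict mdata basesM 47 64766 (by decide +kernel)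
theorem rel1379 : relsRange mdata basesM 47 64813 = true := relsRange_strict mdata basesM 47 64813 (by decide +kernel)
theorem rel1380 : relsRange mdata basesM 47 64860 = true := relsRange_strict mdata basesM 47 64860 (by decide +kernel)
theorem rel1381 : relsRange mdata basesM 47 64907 = true := relsRange_strict mdata basesM 47 64907 (by decide +kernel)
theorem rel1382 : relsRange mdata basesM 47 64954 = true := relsRange_strict mdata basesM 47 64954 (by decide +kernel)
theorem rel1383 : relsRange mdata basesM 47 65001 = true := relsRange_strict mdata basesM 47 65001 (by decide +kernel)

end Cfsg.Agent.Helper4.TC.SuzKM2
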