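import Cfsg.Agent.Lib.Helper4.TC.SuzKM2Model
import Cfsg.Agent.Lib.Helper4.TC.Strict

set_option autoImplicit false
set_option maxRecDepth 100000
set_option linter.unusedVariables false
set_option Elab.async false

namespace Cfsg.Agent.Helper4.TC.SuzKM2

open Cfsg.Agent.Helper4.TC

theorem rel1384 : relsRange mdata basesM 47 65048 = true := relsRange_strict mdata basesM 47 65048 (by decide +kernel)
theorem rel1385 : relsRange mdata basesM 47 65095 = true := relsRange_strict mdata basesM 47 65095 (by decide +kernel)
theorem rel1386 : relsRange mdata basesM 47 65142 = true := relsRange_strict mdata basesM 47 65142 (by decide +kernel)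
theorem rel1387 : relsRange mdata basesM 47 65189 = true := relsRange_strict mdata basesM 47 65189 (by decide +kernel)
theorem rel1388 : relsRange mdata basesM 47 65236 = true := relsRange_strict mdata basesM 47 65236 (by decide +kernel)
theorem rel1389 : relsRange mdata basesM 47 65283 = true := relsRange_strict mdata basesM 47 65283 (by decide +kernel)
theorem rel1390 : relsRange mdata basesM 47 65330 = true := relsRange_strict mdata basesM 47 65330 (by decide +kernel)
theorem rel1391 : relsRange mdata basesM 47 65377 = true := relsRange_strict mdata basesM 47 65377 (by decide +kernel)

end Cfsg.Agent.Helper4.TC.SuzKM2
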