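import Cfsg.Agent.Lib.Helper4.TC.SuzKM2Model
import Cfsg.Agent.Lib.Helper4.TC.Strict

set_option autoImplicit false
set_option maxRecDepth 100000
set_option linter.unusedVariables false
set_option Elab.async false

namespace Cfsg.Agent.Helper4.TC.SuzKM2

open Cfsg.Agent.Helper4.TC

theorem rel1392 : relsRange mdata basesM 47 65424 = true := relsRange_strict mdata basesM 47 65424 (by decide +kernel)
theorem rel1393 : relsRange mdata basesM 47 65471 = true := relsRange_strict mdata basesM 47 65471 (by decide +kernel)
theorem rel1394 : relsRange mdata basesM 2 65518 = true := relsRange_strict mdata basesM 2 65518 (by decide +kernel)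
theorem inv0 : invRange mdata 5333 0 = true := invRange_strict mdata 5333 0 (by decide +kernel)
theorem inv1 : invRange mdata 5333 5333 = true := invRange_strict mdata 5333 5333 (by decide +kernel)
theorem inv2 : invRange mdata 5333 10666 = true := invRange_strict mdata 5333 10666 (by decide +kernel)
theorem inv3 : invRange mdata 5333 15999 = true := invRange_strict mdata 5333 15999 (by decide +kernel)
theorem inv4 : invRange mdata 5333 21332 = true := invRange_strict mdata 5333 21332 (by decide +kernel)

end Cfsg.Agent.Helper4.TC.SuzKM2
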