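import Cfsg.Agent.Lib.Helper4.TC.SuzKM2Model
import Cfsg.Agent.Lib.Helper4.TC.Strict

set_option autoImplicit false
set_option maxRecDepth 100000
set_option linter.unusedVariables false
set_option Elab.async false

namespace Cfsg.Agent.Helper4.TC.SuzKM2

open Cfsg.Agent.Helper4.TC

theorem inv5 : invRange mdata 5333 26665 = true := invRange_strict mdata 5333 26665 (by decide +kernel)
theorem inv6 : invRange mdata 5333 31998 = true := invRange_strict mdata 5333 31998 (by decide +kernel)
theorem inv7 : invRange mdata 5333 37331 = true := invRange_strict mdata 5333 37331 (by decide +kernel)
theorem inv8 : invRange mdata 5333 42664 = true := invRange_strict mdata 5333 42664 (by decide +kernel)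
theorem inv9 : invRange mdata 5333 47997 = true := invRange_strict mdata 5333 47997 (by decide +kernel)
theorem inv10 : invRange mdata 5333 53330 = true := invRange_strict mdata 5333 53330 (by decide +kernel)
theorem inv11 : invRange mdata 5333 58663 = true := invRange_strict mdata 5333 58663 (by decide +kernel)
theorem inv12 : invRange mdata 1524 63996 = true := invRange_strict mdata 1524 63996 (by decide +kernel)

end Cfsg.Agent.Helper4.TC.SuzKM2
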