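import Cfsg.Agent.Lib.Helper4.TC.SuzKM2Model
import Cfsg.Agent.Lib.Helper4.TC.Strict

set_option autoImplicit false
set_option maxRecDepth 100000
set_option linter.unusedVariables false
set_option Elab.async false

namespace Cfsg.Agent.Helper4.TC.SuzKM2

open Cfsg.Agent.Helper4.TC

theorem rel144 : relsRange mdata basesM 47 6768 = true := relsRange_strict mdata basesM 47 6768 (by decide +kernel)
theorem rel145 : relsRange mdata basesM 47 6815 = true := relsRange_strict mdata basesM 47 6815 (by decide +kernel)
theorem rel146 : relsRange mdata basesM 47 6862 = true := relsRange_strict mdata basesM 47 6862 (by decide +kernel)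
theorem rel147 : relsRange mdata basesM 47 6909 = true := relsRange_strict mdata basesM 47 6909 (by decide +kernel)
theorem rel148 : relsRange mdata basesM 47 6956 = true := relsRange_strict mdata basesM 47 6956 (by decide +kernel)
theorem rel149 : relsRange mdata basesM 47 7003 = true := relsRange_strict mdata basesM 47 7003 (by decide +kernel)
theorem rel150 : relsRange mdata basesM 47 7050 = true := relsRange_strict mdata basesM 47 7050 (by decide +kernel)
theorem rel151 : relsRange mdata basesM 47 7097 = true := relsRange_strict mdata basesM 47 7097 (by decide +kernel)

end Cfsg.Agent.Helper4.TC.SuzKM2
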