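import Cfsg.Agent.Lib.Helper4.TC.SuzKM2Model
import Cfsg.Agent.Lib.Helper4.TC.Strict

set_option autoImplicit false
set_option maxRecDepth 100000
set_option linter.unusedVariables false
set_option Elab.async false

namespace Cfsg.Agent.Helper4.TC.SuzKM2

open Cfsg.Agent.Helper4.TC

theorem rel16 : relsRange mdata basesM 47 752 = true := relsRange_strict mdata basesM 47 752 (by decide +kernel)
theorem rel17 : relsRange mdata basesM 47 799 = true := relsRange_strict mdata basesM 47 799 (by decide +kernel)
theorem rel18 : relsRange mdata basesM 47 846 = true := relsRange_strict mdata basesM 47 846 (by decide +kernel)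
theorem rel19 : relsRange mdata basesM 47 893 = true := relsRange_strict mdata basesM 47 893 (by decide +kernel)
theorem rel20 : relsRange mdata basesM 47 940 = true := relsRange_strict mdata basesM 47 940 (by decide +kernel)
theorem rel21 : relsRange mdata basesM 47 987 = true := relsRange_strict mdata basesM 47 987 (by decide +kernel)
theorem rel22 : relsRange mdata basesM 47 1034 = true := relsRange_strict mdata basesM 47 1034 (by decide +kernel)
theorem rel23 : relsRange mdata basesM 47 1081 = true := relsRange_strict mdata basesM 47 1081 (by decide +kernel)

end Cfsg.Agent.Helper4.TC.SuzKM2
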