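import Cfsg.Agent.Lib.Helper4.TC.SuzKM2Model
import Cfsg.Agent.Lib.Helper4.TC.Strict

set_option autoImplicit false
set_option maxRecDepth 100000
set_option linter.unusedVariables false
set_option Elab.async false

namespace Cfsg.Agent.Helper4.TC.SuzKM2

open Cfsg.Agent.Helper4.TC

theorem rel160 : relsRange mdata basesM 47 7520 = true := relsRange_strict mdata basesM 47 7520 (by decide +kernel)
theorem rel161 : relsRange mdata basesM 47 7567 = true := relsRange_strict mdata basesM 47 7567 (by decide +kernel)
theorem rel162 : relsRange mdata basesM 47 7614 = true := relsRange_strict mdata basesM 47 7614 (by decide +kernel)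
theorem rel163 : relsRange mdata basesM 47 7661 = true := relsRange_strict mdata basesM 47 7661 (by decide +kernel)
theorem rel164 : relsRange mdata basesM 47 7708 = true := relsRange_strict mdata basesM 47 7708 (by decide +kernel)
theorem rel165 : relsRange mdata basesM 47 7755 = true := relsRange_strict mdata basesM 47 7755 (by decide +kernel)
theorem rel166 : relsRange mdata basesM 47 7802 = true := relsRange_strict mdata basesM 47 7802 (by decide +kernel)
theorem rel167 : relsRange mdata basesM 47 7849 = true := relsRange_strict mdata basesM 47 7849 (by decide +kernel)

end Cfsg.Agent.Helper4.TC.SuzKM2
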