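import Cfsg.Agent.Lib.Helper4.TC.SuzKM2Model
import Cfsg.Agent.Lib.Helper4.TC.Strict

set_option autoImplicit false
set_option maxRecDepth 100000
set_option linter.unusedVariables false
set_option Elab.async false

namespace Cfsg.Agent.Helper4.TC.SuzKM2

open Cfsg.Agent.Helper4.TC

theorem rel168 : relsRange mdata basesM 47 7896 = true := relsRange_strict mdata basesM 47 7896 (by decide +kernel)
theorem rel169 : relsRange mdata basesM 47 7943 = true := relsRange_strict mdata basesM 47 7943 (by decide +kernel)
theorem rel170 : relsRange mdata basesM 47 7990 = true := relsRange_strict mdata basesM 47 7990 (by decide +kernel)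
theorem rel171 : relsRange mdata basesM 47 8037 = true := relsRange_strict mdata basesM 47 8037 (by decide +kernel)
theorem rel172 : relsRange mdata basesM 47 8084 = true := relsRange_strict mdata basesM 47 8084 (by decide +kernel)
theorem rel173 : relsRange mdata basesM 47 8131 = true := relsRange_strict mdata basesM 47 8131 (by decide +kernel)
theorem rel174 : relsRange mdata basesM 47 8178 = true := relsRange_strict mdata basesM 47 8178 (by decide +kernel)
theorem rel175 : relsRange mdata basesM 47 8225 = true := relsRange_strict mdata basesM 47 8225 (by decide +kernel)

end Cfsg.Agent.Helper4.TC.SuzKM2
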