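import Cfsg.Agent.Lib.Helper4.TC.SuzKM2Model
import Cfsg.Agent.Lib.Helper4.TC.Strict

set_option autoImplicit false
set_option maxRecDepth 100000
set_option linter.unusedVariables false
set_option Elab.async false

namespace Cfsg.Agent.Helper4.TC.SuzKM2

open Cfsg.Agent.Helper4.TC

theorem rel176 : relsRange mdata basesM 47 8272 = true := relsRange_strict mdata basesM 47 8272 (by decide +kernel)
theorem rel177 : relsRange mdata basesM 47 8319 = true := relsRange_strict mdata basesM 47 8319 (by decide +kernel)
theorem rel178 : relsRange mdata basesM 47 8366 = true := relsRange_strict mdata basesM 47 8366 (by decide +kernel)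
theorem rel179 : relsRange mdata basesM 47 8413 = true := relsRange_strict mdata basesM 47 8413 (by decide +kernel)
theorem rel180 : relsRange mdata basesM 47 8460 = true := relsRange_strict mdata basesM 47 8460 (by decide +kernel)
theorem rel181 : relsRange mdata basesM 47 8507 = true := relsRange_strict mdata basesM 47 8507 (by decide +kernel)
theorem rel182 : relsRange mdata basesM 47 8554 = true := relsRange_strict mdata basesM 47 8554 (by decide +kernel)
theorem rel183 : relsRange mdata basesM 47 8601 = true := relsRange_strict mdata basesM 47 8601 (by decide +kernel)

end Cfsg.Agent.Helper4.TC.SuzKM2
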