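import Cfsg.Agent.Lib.Helper4.TC.SuzKM2Model
import Cfsg.Agent.Lib.Helper4.TC.Strict

set_option autoImplicit false
set_option maxRecDepth 100000
set_option linter.unusedVariables false
set_option Elab.async false

namespace Cfsg.Agent.Helper4.TC.SuzKM2

open Cfsg.Agent.Helper4.TC

theorem rel184 : relsRange mdata basesM 47 8648 = true := relsRange_strict mdata basesM 47 8648 (by decide +kernel)
theorem rel185 : relsRange mdata basesM 47 8695 = true := relsRange_strict mdata basesM 47 8695 (by decide +kernel)
theorem rel186 : relsRange mdata basesM 47 8742 = true := relsRange_strict mdata basesM 47 8742 (by decide +kernel)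
theorem rel187 : relsRange mdata basesM 47 8789 = true := relsRange_strict mdata basesM 47 8789 (by decide +kernel)
theorem rel188 : relsRange mdata basesM 47 8836 = true := relsRange_strict mdata basesM 47 8836 (by decide +kernel)
theorem rel189 : relsRange mdata basesM 47 8883 = true := relsRange_strict mdata basesM 47 8883 (by decide +kernel)
theorem rel190 : relsRange mdata basesM 47 8930 = true := relsRange_strict mdata basesM 47 8930 (by decide +kernel)
theorem rel191 : relsRange mdata basesM 47 8977 = true := relsRange_strict mdata basesM 47 8977 (by decide +kernel)

end Cfsg.Agent.Helper4.TC.SuzKM2
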