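import Cfsg.Agent.Lib.Helper4.TC.SuzKM2Model
import Cfsg.Agent.Lib.Helper4.TC.Strict

set_option autoImplicit false
set_option maxRecDepth 100000
set_option linter.unusedVariables false
set_option Elab.async false

namespace Cfsg.Agent.Helper4.TC.SuzKM2

open Cfsg.Agent.Helper4.TC

theorem rel192 : relsRange mdata basesM 47 9024 = true := relsRange_strict mdata basesM 47 9024 (by decide +kernel)
theorem rel193 : relsRange mdata basesM 47 9071 = true := relsRange_strict mdata basesM 47 9071 (by decide +kernel)
theorem rel194 : relsRange mdata basesM 47 9118 = true := relsRange_strict mdata basesM 47 9118 (by decide +kernel)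
theorem rel195 : relsRange mdata basesM 47 9165 = true := relsRange_strict mdata basesM 47 9165 (by decide +kernel)
theorem rel196 : relsRange mdata basesM 47 9212 = true := relsRange_strict mdata basesM 47 9212 (by decide +kernel)
theorem rel197 : relsRange mdata basesM 47 9259 = true := relsRange_strict mdata basesM 47 9259 (by decide +kernel)
theorem rel198 : relsRange mdata basesM 47 9306 = true := relsRange_strict mdata basesM 47 9306 (by decide +kernel)
theorem rel199 : relsRange mdata basesM 47 9353 = true := relsRange_strict mdata basesM 47 9353 (by decide +kernel)

end Cfsg.Agent.Helper4.TC.SuzKM2
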