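import Cfsg.Agent.Lib.Helper4.TC.SuzKM2Model
import Cfsg.Agent.Lib.Helper4.TC.Strict

set_option autoImplicit false
set_option maxRecDepth 100000
set_option linter.unusedVariables false
set_option Elab.async false

namespace Cfsg.Agent.Helper4.TC.SuzKM2

open Cfsg.Agent.Helper4.TC

theorem rel208 : relsRange mdata basesM 47 9776 = true := relsRange_strict mdata basesM 47 9776 (by decide +kernel)
theorem rel209 : relsRange mdata basesM 47 9823 = true := relsRange_strict mdata basesM 47 9823 (by decide +kernel)
theorem rel210 : relsRange mdata basesM 47 9870 = true := relsRange_strict mdata basesM 47 9870 (by decide +kernel)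
theorem rel211 : relsRange mdata basesM 47 9917 = true := relsRange_strict mdata basesM 47 9917 (by decide +kernel)
theorem rel212 : relsRange mdata basesM 47 9964 = true := relsRange_strict mdata basesM 47 9964 (by decide +kernel)
theorem rel213 : relsRange mdata basesM 47 10011 = true := relsRange_strict mdata basesM 47 10011 (by decide +kernel)
theorem rel214 : relsRange mdata basesM 47 10058 = true := relsRange_strict mdata basesM 47 10058 (by decide +kernel)
theorem rel215 : relsRange mdata basesM 47 10105 = true := relsRange_strict mdata basesM 47 10105 (by decide +kernel)

end Cfsg.Agent.Helper4.TC.SuzKM2
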