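import Cfsg.Agent.Lib.Helper4.TC.SuzKM2Model
import Cfsg.Agent.Lib.Helper4.TC.Strict

set_option autoImplicit false
set_option maxRecDepth 100000
set_option linter.unusedVariables false
set_option Elab.async false

namespace Cfsg.Agent.Helper4.TC.SuzKM2

open Cfsg.Agent.Helper4.TC

theorem rel216 : relsRange mdata basesM 47 10152 = true := relsRange_strict mdata basesM 47 10152 (by decide +kernel)
theorem rel217 : relsRange mdata basesM 47 10199 = true := relsRange_strict mdata basesM 47 10199 (by decide +kernel)
theorem rel218 : relsRange mdata basesM 47 10246 = true := relsRange_strict mdata basesM 47 10246 (by decide +kernel)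
theorem rel219 : relsRange mdata basesM 47 10293 = true := relsRange_strict mdata basesM 47 10293 (by decide +kernel)
theorem rel220 : relsRange mdata basesM 47 10340 = true := relsRange_strict mdata basesM 47 10340 (by decide +kernel)
theorem rel221 : relsRange mdata basesM 47 10387 = true := relsRange_strict mdata basesM 47 10387 (by decide +kernel)
theorem rel222 : relsRange mdata basesM 47 10434 = true := relsRange_strict mdata basesM 47 10434 (by decide +kernel)
theorem rel223 : relsRange mdata basesM 47 10481 = true := relsRange_strict mdata basesM 47 10481 (by decide +kernel)

end Cfsg.Agent.Helper4.TC.SuzKM2
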