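import Cfsg.Agent.Lib.Helper4.TC.SuzKM2Model
import Cfsg.Agent.Lib.Helper4.TC.Strict

set_option autoImplicit false
set_option maxRecDepth 100000
set_option linter.unusedVariables false
set_option Elab.async false

namespace Cfsg.Agent.Helper4.TC.SuzKM2

open Cfsg.Agent.Helper4.TC

theorem rel224 : relsRange mdata basesM 47 10528 = true := relsRange_strict mdata basesM 47 10528 (by decide +kernel)
theorem rel225 : relsRange mdata basesM 47 10575 = true := relsRange_strict mdata basesM 47 10575 (by decide +kernel)
theorem rel226 : relsRange mdata basesM 47 10622 = true := relsRange_strict mdata basesM 47 10622 (by decide +kernel)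
theorem rel227 : relsRange mdata basesM 47 10669 = true := relsRange_strict mdata basesM 47 10669 (by decide +kernel)
theorem rel228 : relsRange mdata basesM 47 10716 = true := relsRange_strict mdata basesM 47 10716 (by decide +kernel)
theorem rel229 : relsRange mdata basesM 47 10763 = true := relsRange_strict mdata basesM 47 10763 (by decide +kernel)
theorem rel230 : relsRange mdata basesM 47 10810 = true := relsRange_strict mdata basesM 47 10810 (by decide +kernel)
theorem rel231 : relsRange mdata basesM 47 10857 = true := relsRange_strict mdata basesM 47 10857 (by decide +kernel)

end Cfsg.Agent.Helper4.TC.SuzKM2
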