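import Cfsg.Agent.Lib.Helper4.TC.SuzKM2Model
import Cfsg.Agent.Lib.Helper4.TC.Strict

set_option autoImplicit false
set_option maxRecDepth 100000
set_option linter.unusedVariables false
set_option Elab.async false

namespace Cfsg.Agent.Helper4.TC.SuzKM2

open Cfsg.Agent.Helper4.TC

theorem rel232 : relsRange mdata basesM 47 10904 = true := relsRange_strict mdata basesM 47 10904 (by decide +kernel)
theorem rel233 : relsRange mdata basesM 47 10951 = true := relsRange_strict mdata basesM 47 10951 (by decide +kernel)
theorem rel234 : relsRange mdata basesM 47 10998 = true := relsRange_strict mdata basesM 47 10998 (by decide +kernel)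
theorem rel235 : relsRange mdata basesM 47 11045 = true := relsRange_strict mdata basesM 47 11045 (by decide +kernel)
theorem rel236 : relsRange mdata basesM 47 11092 = true := relsRange_strict mdata basesM 47 11092 (by decide +kernel)
theorem rel237 : relsRange mdata basesM 47 11139 = true := relsRange_strict mdata basesM 47 11139 (by decide +kernel)
theorem rel238 : relsRange mdata basesM 47 11186 = true := relsRange_strict mdata basesM 47 11186 (by decide +kernel)
theorem rel239 : relsRange mdata basesM 47 11233 = true := relsRange_strict mdata basesM 47 11233 (by decide +kernel)

end Cfsg.Agent.Helper4.TC.SuzKM2
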