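import Cfsg.Agent.Lib.Helper4.TC.SuzKM2Model
import Cfsg.Agent.Lib.Helper4.TC.Strict

set_option autoImplicit false
set_option maxRecDepth 100000
set_option linter.unusedVariables false
set_option Elab.async false

namespace Cfsg.Agent.Helper4.TC.SuzKM2

open Cfsg.Agent.Helper4.TC

theorem rel24 : relsRange mdata basesM 47 1128 = true := relsRange_strict mdata basesM 47 1128 (by decide +kernel)
theorem rel25 : relsRange mdata basesM 47 1175 = true := relsRange_strict mdata basesM 47 1175 (by decide +kernel)
theorem rel26 : relsRange mdata basesM 47 1222 = true := relsRange_strict mdata basesM 47 1222 (by decide +kernel)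
theorem rel27 : relsRange mdata basesM 47 1269 = true := relsRange_strict mdata basesM 47 1269 (by decide +kernel)
theorem rel28 : relsRange mdata basesM 47 1316 = true := relsRange_strict mdata basesM 47 1316 (by decide +kernel)
theorem rel29 : relsRange mdata basesM 47 1363 = true := relsRange_strict mdata basesM 47 1363 (by decide +kernel)
theorem rel30 : relsRange mdata basesM 47 1410 = true := relsRange_strict mdata basesM 47 1410 (by decide +kernel)
theorem rel31 : relsRange mdata basesM 47 1457 = true := relsRange_strict mdata basesM 47 1457 (by decide +kernel)

end Cfsg.Agent.Helper4.TC.SuzKM2
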