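import Cfsg.Agent.Lib.Helper4.TC.SuzKM2Model
import Cfsg.Agent.Lib.Helper4.TC.Strict

set_option autoImplicit false
set_option maxRecDepth 100000
set_option linter.unusedVariables false
set_option Elab.async false

namespace Cfsg.Agent.Helper4.TC.SuzKM2

open Cfsg.Agent.Helper4.TC

theorem rel240 : relsRange mdata basesM 47 11280 = true := relsRange_strict mdata basesM 47 11280 (by decide +kernel)
theorem rel241 : relsRange mdata basesM 47 11327 = true := relsRange_strict mdata basesM 47 11327 (by decide +kernel)
theorem rel242 : relsRange mdata basesM 47 11374 = true := relsRange_strict mdata basesM 47 11374 (by decide +kernel)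
theorem rel243 : relsRange mdata basesM 47 11421 = true := relsRange_strict mdata basesM 47 11421 (by decide +kernel)
theorem rel244 : relsRange mdata basesM 47 11468 = true := relsRange_strict mdata basesM 47 11468 (by decide +kernel)
theorem rel245 : relsRange mdata basesM 47 11515 = true := relsRange_strict mdata basesM 47 11515 (by decide +kernel)
theorem rel246 : relsRange mdata basesM 47 11562 = true := relsRange_strict mdata basesM 47 11562 (by decide +kernel)
theorem rel247 : relsRange mdata basesM 47 11609 = true := relsRange_strict mdata basesM 47 11609 (by decide +kernel)

end Cfsg.Agent.Helper4.TC.SuzKM2
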