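import Cfsg.Agent.Lib.Helper4.TC.SuzKM2Model
import Cfsg.Agent.Lib.Helper4.TC.Strict

set_option autoImplicit false
set_option maxRecDepth 100000
set_option linter.unusedVariables false
set_option Elab.async false

namespace Cfsg.Agent.Helper4.TC.SuzKM2

open Cfsg.Agent.Helper4.TC

theorem rel248 : relsRange mdata basesM 47 11656 = true := relsRange_strict mdata basesM 47 11656 (by decide +kernel)
theorem rel249 : relsRange mdata basesM 47 11703 = true := relsRange_strict mdata basesM 47 11703 (by decide +kernel)
theorem rel250 : relsRange mdata basesM 47 11750 = true := relsRange_strict mdata basesM 47 11750 (by decide +kernel)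
theorem rel251 : relsRange mdata basesM 47 11797 = true := relsRange_strict mdata basesM 47 11797 (by decide +kernel)
theorem rel252 : relsRange mdata basesM 47 11844 = true := relsRange_strict mdata basesM 47 11844 (by decide +kernel)
theorem rel253 : relsRange mdata basesM 47 11891 = true := relsRange_strict mdata basesM 47 11891 (by decide +kernel)
theorem rel254 : relsRange mdata basesM 47 11938 = true := relsRange_strict mdata basesM 47 11938 (by decide +kernel)
theorem rel255 : relsRange mdata basesM 47 11985 = true := relsRange_strict mdata basesM 47 11985 (by decide +kernel)

end Cfsg.Agent.Helper4.TC.SuzKM2
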