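import Cfsg.Agent.Lib.Helper4.TC.SuzKM2Model
import Cfsg.Agent.Lib.Helper4.TC.Strict

set_option autoImplicit false
set_option maxRecDepth 100000
set_option linter.unusedVariables false
set_option Elab.async false

namespace Cfsg.Agent.Helper4.TC.SuzKM2

open Cfsg.Agent.Helper4.TC

theorem rel256 : relsRange mdata basesM 47 12032 = true := relsRange_strict mdata basesM 47 12032 (by decide +kernel)
theorem rel257 : relsRange mdata basesM 47 12079 = true := relsRange_strict mdata basesM 47 12079 (by decide +kernel)
theorem rel258 : relsRange mdata basesM 47 12126 = true := relsRange_strict mdata basesM 47 12126 (by decide +kernel)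
theorem rel259 : relsRange mdata basesM 47 12173 = true := relsRange_strict mdata basesM 47 12173 (by decide +kernel)
theorem rel260 : relsRange mdata basesM 47 12220 = true := relsRange_strict mdata basesM 47 12220 (by decide +kernel)
theorem rel261 : relsRange mdata basesM 47 12267 = true := relsRange_strict mdata basesM 47 12267 (by decide +kernel)
theorem rel262 : relsRange mdata basesM 47 12314 = true := relsRange_strict mdata basesM 47 12314 (by decide +kernel)
theorem rel263 : relsRange mdata basesM 47 12361 = true := relsRange_strict mdata basesM 47 12361 (by decide +kernel)

end Cfsg.Agent.Helper4.TC.SuzKM2
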