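import Cfsg.Agent.Lib.Helper4.TC.SuzKM2Model
import Cfsg.Agent.Lib.Helper4.TC.Strict

set_option autoImplicit false
set_option maxRecDepth 100000
set_option linter.unusedVariables false
set_option Elab.async false

namespace Cfsg.Agent.Helper4.TC.SuzKM2

open Cfsg.Agent.Helper4.TC

theorem rel264 : relsRange mdata basesM 47 12408 = true := relsRange_strict mdata basesM 47 12408 (by decide +kernel)
theorem rel265 : relsRange mdata basesM 47 12455 = true := relsRange_strict mdata basesM 47 12455 (by decide +kernel)
theorem rel266 : relsRange mdata basesM 47 12502 = true := relsRange_strict mdata basesM 47 12502 (by decide +kernel)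
theorem rel267 : relsRange mdata basesM 47 12549 = true := relsRange_strict mdata basesM 47 12549 (by decide +kernel)
theorem rel268 : relsRange mdata basesM 47 12596 = true := relsRange_strict mdata basesM 47 12596 (by decide +kernel)
theorem rel269 : relsRange mdata basesM 47 12643 = true := relsRange_strict mdata basesM 47 12643 (by decide +kernel)
theorem rel270 : relsRange mdata basesM 47 12690 = true := relsRange_strict mdata basesM 47 12690 (by decide +kernel)
theorem rel271 : relsRange mdata basesM 47 12737 = true := relsRange_strict mdata basesM 47 12737 (by decide +kernel)

end Cfsg.Agent.Helper4.TC.SuzKM2
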