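import Cfsg.Agent.Lib.Helper4.TC.SuzKM2Model
import Cfsg.Agent.Lib.Helper4.TC.Strict

set_option autoImplicit false
set_option maxRecDepth 100000
set_option linter.unusedVariables false
set_option Elab.async false

namespace Cfsg.Agent.Helper4.TC.SuzKM2

open Cfsg.Agent.Helper4.TC

theorem rel272 : relsRange mdata basesM 47 12784 = true := relsRange_strict mdata basesM 47 12784 (by decide +kernel)
theorem rel273 : relsRange mdata basesM 47 12831 = true := relsRange_strict mdata basesM 47 12831 (by decide +kernel)
theorem rel274 : relsRange mdata basesM 47 12878 = true := relsRange_strict mdata basesM 47 12878 (by decide +kernel)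
theorem rel275 : relsRange mdata basesM 47 12925 = true := relsRange_strict mdata basesM 47 12925 (by decide +kernel)
theorem rel276 : relsRange mdata basesM 47 12972 = true := relsRange_strict mdata basesM 47 12972 (by decide +kernel)
theorem rel277 : relsRange mdata basesM 47 13019 = true := relsRange_strict mdata basesM 47 13019 (by decide +kernel)
theorem rel278 : relsRange mdata basesM 47 13066 = true := relsRange_strict mdata basesM 47 13066 (by decide +kernel)
theorem rel279 : relsRange mdata basesM 47 13113 = true := relsRange_strict mdata basesM 47 13113 (by decide +kernel)

end Cfsg.Agent.Helper4.TC.SuzKM2
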