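import Cfsg.Agent.Lib.Helper4.TC.SuzKM2Model
import Cfsg.Agent.Lib.Helper4.TC.Strict

set_option autoImplicit false
set_option maxRecDepth 100000
set_option linter.unusedVariables false
set_option Elab.async false

namespace Cfsg.Agent.Helper4.TC.SuzKM2

open Cfsg.Agent.Helper4.TC

theorem rel280 : relsRange mdata basesM 47 13160 = true := relsRange_strict mdata basesM 47 13160 (by decide +kernel)
theorem rel281 : relsRange mdata basesM 47 13207 = true := relsRange_strict mdata basesM 47 13207 (by decide +kernel)
theorem rel282 : relsRange mdata basesM 47 13254 = true := relsRange_strict mdata basesM 47 13254 (by decide +kernel)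
theorem rel283 : relsRange mdata basesM 47 13301 = true := relsRange_strict mdata basesM 47 13301 (by decide +kernel)
theorem rel284 : relsRange mdata basesM 47 13348 = true := relsRange_strict mdata basesM 47 13348 (by decide +kernel)
theorem rel285 : relsRange mdata basesM 47 13395 = true := relsRange_strict mdata basesM 47 13395 (by decide +kernel)
theorem rel286 : relsRange mdata basesM 47 13442 = true := relsRange_strict mdata basesM 47 13442 (by decide +kernel)
theorem rel287 : relsRange mdata basesM 47 13489 = true := relsRange_strict mdata basesM 47 13489 (by decide +kernel)

end Cfsg.Agent.Helper4.TC.SuzKM2
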