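import Cfsg.Agent.Lib.Helper4.TC.SuzKM2Model
import Cfsg.Agent.Lib.Helper4.TC.Strict

set_option autoImplicit false
set_option maxRecDepth 100000
set_option linter.unusedVariables false
set_option Elab.async false

namespace Cfsg.Agent.Helper4.TC.SuzKM2

open Cfsg.Agent.Helper4.TC

theorem rel288 : relsRange mdata basesM 47 13536 = true := relsRange_strict mdata basesM 47 13536 (by decide +kernel)
theorem rel289 : relsRange mdata basesM 47 13583 = true := relsRange_strict mdata basesM 47 13583 (by decide +kernel)
theorem rel290 : relsRange mdata basesM 47 13630 = true := relsRange_strict mdata basesM 47 13630 (by decide +kernel)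
theorem rel291 : relsRange mdata basesM 47 13677 = true := relsRange_strict mdata basesM 47 13677 (by decide +kernel)
theorem rel292 : relsRange mdata basesM 47 13724 = true := relsRange_strict mdata basesM 47 13724 (by decide +kernel)
theorem rel293 : relsRange mdata basesM 47 13771 = true := relsRange_strict mdata basesM 47 13771 (by decide +kernel)
theorem rel294 : relsRange mdata basesM 47 13818 = true := relsRange_strict mdata basesM 47 13818 (by decide +kernel)
theorem rel295 : relsRange mdata basesM 47 13865 = true := relsRange_strict mdata basesM 47 13865 (by decide +kernel)

end Cfsg.Agent.Helper4.TC.SuzKM2
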