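import Cfsg.Agent.Lib.Helper4.TC.SuzKM2Model
import Cfsg.Agent.Lib.Helper4.TC.Strict

set_option autoImplicit false
set_option maxRecDepth 100000
set_option linter.unusedVariables false
set_option Elab.async false

namespace Cfsg.Agent.Helper4.TC.SuzKM2

open Cfsg.Agent.Helper4.TC

theorem rel296 : relsRange mdata basesM 47 13912 = true := relsRange_strict mdata basesM 47 13912 (by decide +kernel)
theorem rel297 : relsRange mdata basesM 47 13959 = true := relsRange_strict mdata basesM 47 13959 (by decide +kernel)
theorem rel298 : relsRange mdata basesM 47 14006 = true := relsRange_strict mdata basesM 47 14006 (by decide +kernel)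
theorem rel299 : relsRange mdata basesM 47 14053 = true := relsRange_strict mdata basesM 47 14053 (by decide +kernel)
theorem rel300 : relsRange mdata basesM 47 14100 = true := relsRange_strict mdata basesM 47 14100 (by decide +kernel)
theorem rel301 : relsRange mdata basesM 47 14147 = true := relsRange_strict mdata basesM 47 14147 (by decide +kernel)
theorem rel302 : relsRange mdata basesM 47 14194 = true := relsRange_strict mdata basesM 47 14194 (by decide +kernel)
theorem rel303 : relsRange mdata basesM 47 14241 = true := relsRange_strict mdata basesM 47 14241 (by decide +kernel)

end Cfsg.Agent.Helper4.TC.SuzKM2
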