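import Cfsg.Agent.Lib.Helper4.TC.SuzKM2Model
import Cfsg.Agent.Lib.Helper4.TC.Strict

set_option autoImplicit false
set_option maxRecDepth 100000
set_option linter.unusedVariables false
set_option Elab.async false

namespace Cfsg.Agent.Helper4.TC.SuzKM2

open Cfsg.Agent.Helper4.TC

theorem rel304 : relsRange mdata basesM 47 14288 = true := relsRange_strict mdata basesM 47 14288 (by decide +kernel)
theorem rel305 : relsRange mdata basesM 47 14335 = true := relsRange_strict mdata basesM 47 14335 (by decide +kernel)
theorem rel306 : relsRange mdata basesM 47 14382 = true := relsRange_strict mdata basesM 47 14382 (by decide +kernel)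
theorem rel307 : relsRange mdata basesM 47 14429 = true := relsRange_strict mdata basesM 47 14429 (by decide +kernel)
theorem rel308 : relsRange mdata basesM 47 14476 = true := relsRange_strict mdata basesM 47 14476 (by decide +kernel)
theorem rel309 : relsRange mdata basesM 47 14523 = true := relsRange_strict mdata basesM 47 14523 (by decide +kernel)
theorem rel310 : relsRange mdata basesM 47 14570 = true := relsRange_strict mdata basesM 47 14570 (by decide +kernel)
theorem rel311 : relsRange mdata basesM 47 14617 = true := relsRange_strict mdata basesM 47 14617 (by decide +kernel)

end Cfsg.Agent.Helper4.TC.SuzKM2
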