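import Cfsg.Agent.Lib.Helper4.TC.SuzKM2Model
import Cfsg.Agent.Lib.Helper4.TC.Strict

set_option autoImplicit false
set_option maxRecDepth 100000
set_option linter.unusedVariables false
set_option Elab.async false

namespace Cfsg.Agent.Helper4.TC.SuzKM2

open Cfsg.Agent.Helper4.TC

theorem rel320 : relsRange mdata basesM 47 15040 = true := relsRange_strict mdata basesM 47 15040 (by decide +kernel)
theorem rel321 : relsRange mdata basesM 47 15087 = true := relsRange_strict mdata basesM 47 15087 (by decide +kernel)
theorem rel322 : relsRange mdata basesM 47 15134 = true := relsRange_strict mdata basesM 47 15134 (by decide +kernel)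
theorem rel323 : relsRange mdata basesM 47 15181 = true := relsRange_strict mdata basesM 47 15181 (by decide +kernel)
theorem rel324 : relsRange mdata basesM 47 15228 = true := relsRange_strict mdata basesM 47 15228 (by decide +kernel)
theorem rel325 : relsRange mdata basesM 47 15275 = true := relsRange_strict mdata basesM 47 15275 (by decide +kernel)
theorem rel326 : relsRange mdata basesM 47 15322 = true := relsRange_strict mdata basesM 47 15322 (by decide +kernel)
theorem rel327 : relsRange mdata basesM 47 15369 = true := relsRange_strict mdata basesM 47 15369 (by decide +kernel)

end Cfsg.Agent.Helper4.TC.SuzKM2
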