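import Cfsg.Agent.Lib.Helper4.TC.SuzKM2Model
import Cfsg.Agent.Lib.Helper4.TC.Strict

set_option autoImplicit false
set_option maxRecDepth 100000
set_option linter.unusedVariables false
set_option Elab.async false

namespace Cfsg.Agent.Helper4.TC.SuzKM2

open Cfsg.Agent.Helper4.TC

theorem rel328 : relsRange mdata basesM 47 15416 = true := relsRange_strict mdata basesM 47 15416 (by decide +kernel)
theorem rel329 : relsRange mdata basesM 47 15463 = true := relsRange_strict mdata basesM 47 15463 (by decide +kernel)
theorem rel330 : relsRange mdata basesM 47 15510 = true := relsRange_strict mdata basesM 47 15510 (by decide +kernel)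
theorem rel331 : relsRange mdata basesM 47 15557 = true := relsRange_strict mdata basesM 47 15557 (by decide +kernel)
theorem rel332 : relsRange mdata basesM 47 15604 = true := relsRange_strict mdata basesM 47 15604 (by decide +kernel)
theorem rel333 : relsRange mdata basesM 47 15651 = true := relsRange_strict mdata basesM 47 15651 (by decide +kernel)
theorem rel334 : relsRange mdata basesM 47 15698 = true := relsRange_strict mdata basesM 47 15698 (by decide +kernel)
theorem rel335 : relsRange mdata basesM 47 15745 = true := relsRange_strict mdata basesM 47 15745 (by decide +kernel)

end Cfsg.Agent.Helper4.TC.SuzKM2
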