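import Cfsg.Agent.Lib.Helper4.TC.SuzKM2Model
import Cfsg.Agent.Lib.Helper4.TC.Strict

set_option autoImplicit false
set_option maxRecDepth 100000
set_option linter.unusedVariables false
set_option Elab.async false

namespace Cfsg.Agent.Helper4.TC.SuzKM2

open Cfsg.Agent.Helper4.TC

theorem rel336 : relsRange mdata basesM 47 15792 = true := relsRange_strict mdata basesM 47 15792 (by decide +kernel)
theorem rel337 : relsRange mdata basesM 47 15839 = true := relsRange_strict mdata basesM 47 15839 (by decide +kernel)
theorem rel338 : relsRange mdata basesM 47 15886 = true := relsRange_strict mdata basesM 47 15886 (by decide +kernel)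
theorem rel339 : relsRange mdata basesM 47 15933 = true := relsRange_strict mdata basesM 47 15933 (by decide +kernel)
theorem rel340 : relsRange mdata basesM 47 15980 = true := relsRange_strict mdata basesM 47 15980 (by decide +kernel)
theorem rel341 : relsRange mdata basesM 47 16027 = true := relsRange_strict mdata basesM 47 16027 (by decide +kernel)
theorem rel342 : relsRange mdata basesM 47 16074 = true := relsRange_strict mdata basesM 47 16074 (by decide +kernel)
theorem rel343 : relsRange mdata basesM 47 16121 = true := relsRange_strict mdata basesM 47 16121 (by decide +kernel)

end Cfsg.Agent.Helper4.TC.SuzKM2
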