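import Cfsg.Agent.Lib.Helper4.TC.SuzKM2Model
import Cfsg.Agent.Lib.Helper4.TC.Strict

set_option autoImplicit false
set_option maxRecDepth 100000
set_option linter.unusedVariables false
set_option Elab.async false

namespace Cfsg.Agent.Helper4.TC.SuzKM2

open Cfsg.Agent.Helper4.TC

theorem rel352 : relsRange mdata basesM 47 16544 = true := relsRange_strict mdata basesM 47 16544 (by decide +kernel)
theorem rel353 : relsRange mdata basesM 47 16591 = true := relsRange_strict mdata basesM 47 16591 (by decide +kernel)
theorem rel354 : relsRange mdata basesM 47 16638 = true := relsRange_strict mdata basesM 47 16638 (by decide +kernel)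
theorem rel355 : relsRange mdata basesM 47 16685 = true := relsRange_strict mdata basesM 47 16685 (by decide +kernel)
theorem rel356 : relsRange mdata basesM 47 16732 = true := relsRange_strict mdata basesM 47 16732 (by decide +kernel)
theorem rel357 : relsRange mdata basesM 47 16779 = true := relsRange_strict mdata basesM 47 16779 (by decide +kernel)
theorem rel358 : relsRange mdata basesM 47 16826 = true := relsRange_strict mdata basesM 47 16826 (by decide +kernel)
theorem rel359 : relsRange mdata basesM 47 16873 = true := relsRange_strict mdata basesM 47 16873 (by decide +kernel)

end Cfsg.Agent.Helper4.TC.SuzKM2
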