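import Cfsg.Agent.Lib.Helper4.TC.SuzKM2Model
import Cfsg.Agent.Lib.Helper4.TC.Strict

set_option autoImplicit false
set_option maxRecDepth 100000
set_option linter.unusedVariables false
set_option Elab.async false

namespace Cfsg.Agent.Helper4.TC.SuzKM2

open Cfsg.Agent.Helper4.TC

theorem rel360 : relsRange mdata basesM 47 16920 = true := relsRange_strict mdata basesM 47 16920 (by decide +kernel)
theorem rel361 : relsRange mdata basesM 47 16967 = true := relsRange_strict mdata basesM 47 16967 (by decide +kernel)
theorem rel362 : relsRange mdata basesM 47 17014 = true := relsRange_strict mdata basesM 47 17014 (by decide +kernel)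
theorem rel363 : relsRange mdata basesM 47 17061 = true := relsRange_strict mdata basesM 47 17061 (by decide +kernel)
theorem rel364 : relsRange mdata basesM 47 17108 = true := relsRange_strict mdata basesM 47 17108 (by decide +kernel)
theorem rel365 : relsRange mdata basesM 47 17155 = true := relsRange_strict mdata basesM 47 17155 (by decide +kernel)
theorem rel366 : relsRange mdata basesM 47 17202 = true := relsRange_strict mdata basesM 47 17202 (by decide +kernel)
theorem rel367 : relsRange mdata basesM 47 17249 = true := relsRange_strict mdata basesM 47 17249 (by decide +kernel)

end Cfsg.Agent.Helper4.TC.SuzKM2
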