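import Cfsg.Agent.Lib.Helper4.TC.SuzKM2Model
import Cfsg.Agent.Lib.Helper4.TC.Strict

set_option autoImplicit false
set_option maxRecDepth 100000
set_option linter.unusedVariables false
set_option Elab.async false

namespace Cfsg.Agent.Helper4.TC.SuzKM2

open Cfsg.Agent.Helper4.TC

theorem rel368 : relsRange mdata basesM 47 17296 = true := relsRange_strict mdata basesM 47 17296 (by decide +kernel)
theorem rel369 : relsRange mdata basesM 47 17343 = true := relsRange_strict mdata basesM 47 17343 (by decide +kernel)
theorem rel370 : relsRange mdata basesM 47 17390 = true := relsRange_strict mdata basesM 47 17390 (by decide +kernel)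
theorem rel371 : relsRange mdata basesM 47 17437 = true := relsRange_strict mdata basesM 47 17437 (by decide +kernel)
theorem rel372 : relsRange mdata basesM 47 17484 = true := relsRange_strict mdata basesM 47 17484 (by decide +kernel)
theorem rel373 : relsRange mdata basesM 47 17531 = true := relsRange_strict mdata basesM 47 17531 (by decide +kernel)
theorem rel374 : relsRange mdata basesM 47 17578 = true := relsRange_strict mdata basesM 47 17578 (by decide +kernel)
theorem rel375 : relsRange mdata basesM 47 17625 = true := relsRange_strict mdata basesM 47 17625 (by decide +kernel)

end Cfsg.Agent.Helper4.TC.SuzKM2
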