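import Cfsg.Agent.Lib.Helper4.TC.SuzKM2Model
import Cfsg.Agent.Lib.Helper4.TC.Strict

set_option autoImplicit false
set_option maxRecDepth 100000
set_option linter.unusedVariables false
set_option Elab.async false

namespace Cfsg.Agent.Helper4.TC.SuzKM2

open Cfsg.Agent.Helper4.TC

theorem rel376 : relsRange mdata basesM 47 17672 = true := relsRange_strict mdata basesM 47 17672 (by decide +kernel)
theorem rel377 : relsRange mdata basesM 47 17719 = true := relsRange_strict mdata basesM 47 17719 (by decide +kernel)
theorem rel378 : relsRange mdata basesM 47 17766 = true := relsRange_strict mdata basesM 47 17766 (by decide +kernel)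
theorem rel379 : relsRange mdata basesM 47 17813 = true := relsRange_strict mdata basesM 47 17813 (by decide +kernel)
theorem rel380 : relsRange mdata basesM 47 17860 = true := relsRange_strict mdata basesM 47 17860 (by decide +kernel)
theorem rel381 : relsRange mdata basesM 47 17907 = true := relsRange_strict mdata basesM 47 17907 (by decide +kernel)
theorem rel382 : relsRange mdata basesM 47 17954 = true := relsRange_strict mdata basesM 47 17954 (by decide +kernel)
theorem rel383 : relsRange mdata basesM 47 18001 = true := relsRange_strict mdata basesM 47 18001 (by decide +kernel)

end Cfsg.Agent.Helper4.TC.SuzKM2
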