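import Cfsg.Agent.Lib.Helper4.TC.SuzKM2Model
import Cfsg.Agent.Lib.Helper4.TC.Strict

set_option autoImplicit false
set_option maxRecDepth 100000
set_option linter.unusedVariables false
set_option Elab.async false

namespace Cfsg.Agent.Helper4.TC.SuzKM2

open Cfsg.Agent.Helper4.TC

theorem rel384 : relsRange mdata basesM 47 18048 = true := relsRange_strict mdata basesM 47 18048 (by decide +kernel)
theorem rel385 : relsRange mdata basesM 47 18095 = true := relsRange_strict mdata basesM 47 18095 (by decide +kernel)
theorem rel386 : relsRange mdata basesM 47 18142 = true := relsRange_strict mdata basesM 47 18142 (by decide +kernel)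
theorem rel387 : relsRange mdata basesM 47 18189 = true := relsRange_strict mdata basesM 47 18189 (by decide +kernel)
theorem rel388 : relsRange mdata basesM 47 18236 = true := relsRange_strict mdata basesM 47 18236 (by decide +kernel)
theorem rel389 : relsRange mdata basesM 47 18283 = true := relsRange_strict mdata basesM 47 18283 (by decide +kernel)
theorem rel390 : relsRange mdata basesM 47 18330 = true := relsRange_strict mdata basesM 47 18330 (by decide +kernel)
theorem rel391 : relsRange mdata basesM 47 18377 = true := relsRange_strict mdata basesM 47 18377 (by decide +kernel)

end Cfsg.Agent.Helper4.TC.SuzKM2
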