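import Cfsg.Agent.Lib.Helper4.TC.SuzKM2Model
import Cfsg.Agent.Lib.Helper4.TC.Strict

set_option autoImplicit false
set_option maxRecDepth 100000
set_option linter.unusedVariables false
set_option Elab.async false

namespace Cfsg.Agent.Helper4.TC.SuzKM2

open Cfsg.Agent.Helper4.TC

theorem rel392 : relsRange mdata basesM 47 18424 = true := relsRange_strict mdata basesM 47 18424 (by decide +kernel)
theorem rel393 : relsRange mdata basesM 47 18471 = true := relsRange_strict mdata basesM 47 18471 (by decide +kernel)
theorem rel394 : relsRange mdata basesM 47 18518 = true := relsRange_strict mdata basesM 47 18518 (by decide +kernel)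
theorem rel395 : relsRange mdata basesM 47 18565 = true := relsRange_strict mdata basesM 47 18565 (by decide +kernel)
theorem rel396 : relsRange mdata basesM 47 18612 = true := relsRange_strict mdata basesM 47 18612 (by decide +kernel)
theorem rel397 : relsRange mdata basesM 47 18659 = true := relsRange_strict mdata basesM 47 18659 (by decide +kernel)
theorem rel398 : relsRange mdata basesM 47 18706 = true := relsRange_strict mdata basesM 47 18706 (by decide +kernel)
theorem rel399 : relsRange mdata basesM 47 18753 = true := relsRange_strict mdata basesM 47 18753 (by decide +kernel)

end Cfsg.Agent.Helper4.TC.SuzKM2
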