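import Cfsg.Agent.Lib.Helper4.TC.SuzKM2Model
import Cfsg.Agent.Lib.Helper4.TC.Strict

set_option autoImplicit false
set_option maxRecDepth 100000
set_option linter.unusedVariables false
set_option Elab.async false

namespace Cfsg.Agent.Helper4.TC.SuzKM2

open Cfsg.Agent.Helper4.TC

theorem rel40 : relsRange mdata basesM 47 1880 = true := relsRange_strict mdata basesM 47 1880 (by decide +kernel)
theorem rel41 : relsRange mdata basesM 47 1927 = true := relsRange_strict mdata basesM 47 1927 (by decide +kernel)
theorem rel42 : relsRange mdata basesM 47 1974 = true := relsRange_strict mdata basesM 47 1974 (by decide +kernel)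
theorem rel43 : relsRange mdata basesM 47 2021 = true := relsRange_strict mdata basesM 47 2021 (by decide +kernel)
theorem rel44 : relsRange mdata basesM 47 2068 = true := relsRange_strict mdata basesM 47 2068 (by decide +kernel)
theorem rel45 : relsRange mdata basesM 47 2115 = true := relsRange_strict mdata basesM 47 2115 (by decide +kernel)
theorem rel46 : relsRange mdata basesM 47 2162 = true := relsRange_strict mdata basesM 47 2162 (by decide +kernel)
theorem rel47 : relsRange mdata basesM 47 2209 = true := relsRange_strict mdata basesM 47 2209 (by decide +kernel)

end Cfsg.Agent.Helper4.TC.SuzKM2
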