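import Cfsg.Agent.Lib.Helper4.TC.SuzKM2Model
import Cfsg.Agent.Lib.Helper4.TC.Strict

set_option autoImplicit false
set_option maxRecDepth 100000
set_option linter.unusedVariables false
set_option Elab.async false

namespace Cfsg.Agent.Helper4.TC.SuzKM2

open Cfsg.Agent.Helper4.TC

theorem rel400 : relsRange mdata basesM 47 18800 = true := relsRange_strict mdata basesM 47 18800 (by decide +kernel)
theorem rel401 : relsRange mdata basesM 47 18847 = true := relsRange_strict mdata basesM 47 18847 (by decide +kernel)
theorem rel402 : relsRange mdata basesM 47 18894 = true := relsRange_strict mdata basesM 47 18894 (by decide +kernel)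
theorem rel403 : relsRange mdata basesM 47 18941 = true := relsRange_strict mdata basesM 47 18941 (by decide +kernel)
theorem rel404 : relsRange mdata basesM 47 18988 = true := relsRange_strict mdata basesM 47 18988 (by decide +kernel)
theorem rel405 : relsRange mdata basesM 47 19035 = true := relsRange_strict mdata basesM 47 19035 (by decide +kernel)
theorem rel406 : relsRange mdata basesM 47 19082 = true := relsRange_strict mdata basesM 47 19082 (by decide +kernel)
theorem rel407 : relsRange mdata basesM 47 19129 = true := relsRange_strict mdata basesM 47 19129 (by decide +kernel)

end Cfsg.Agent.Helper4.TC.SuzKM2
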