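import Cfsg.Agent.Lib.Helper4.TC.SuzKM2Model
import Cfsg.Agent.Lib.Helper4.TC.Strict

set_option autoImplicit false
set_option maxRecDepth 100000
set_option linter.unusedVariables false
set_option Elab.async false

namespace Cfsg.Agent.Helper4.TC.SuzKM2

open Cfsg.Agent.Helper4.TC

theorem rel408 : relsRange mdata basesM 47 19176 = true := relsRange_strict mdata basesM 47 19176 (by decide +kernel)
theorem rel409 : relsRange mdata basesM 47 19223 = true := relsRange_strict mdata basesM 47 19223 (by decide +kernel)
theorem rel410 : relsRange mdata basesM 47 19270 = true := relsRange_strict mdata basesM 47 19270 (by decide +kernel)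
theorem rel411 : relsRange mdata basesM 47 19317 = true := relsRange_strict mdata basesM 47 19317 (by decide +kernel)
theorem rel412 : relsRange mdata basesM 47 19364 = true := relsRange_strict mdata basesM 47 19364 (by decide +kernel)
theorem rel413 : relsRange mdata basesM 47 19411 = true := relsRange_strict mdata basesM 47 19411 (by decide +kernel)
theorem rel414 : relsRange mdata basesM 47 19458 = true := relsRange_strict mdata basesM 47 19458 (by decide +kernel)
theorem rel415 : relsRange mdata basesM 47 19505 = true := relsRange_strict mdata basesM 47 19505 (by decide +kernel)

end Cfsg.Agent.Helper4.TC.SuzKM2
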