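import Cfsg.Agent.Lib.Helper4.TC.SuzKM2Model
import Cfsg.Agent.Lib.Helper4.TC.Strict

set_option autoImplicit false
set_option maxRecDepth 100000
set_option linter.unusedVariables false
set_option Elab.async false

namespace Cfsg.Agent.Helper4.TC.SuzKM2

open Cfsg.Agent.Helper4.TC

theorem rel416 : relsRange mdata basesM 47 19552 = true := relsRange_strict mdata basesM 47 19552 (by decide +kernel)
theorem rel417 : relsRange mdata basesM 47 19599 = true := relsRange_strict mdata basesM 47 19599 (by decide +kernel)
theorem rel418 : relsRange mdata basesM 47 19646 = true := relsRange_strict mdata basesM 47 19646 (by decide +kernel)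
theorem rel419 : relsRange mdata basesM 47 19693 = true := relsRange_strict mdata basesM 47 19693 (by decide +kernel)
theorem rel420 : relsRange mdata basesM 47 19740 = true := relsRange_strict mdata basesM 47 19740 (by decide +kernel)
theorem rel421 : relsRange mdata basesM 47 19787 = true := relsRange_strict mdata basesM 47 19787 (by decide +kernel)
theorem rel422 : relsRange mdata basesM 47 19834 = true := relsRange_strict mdata basesM 47 19834 (by decide +kernel)
theorem rel423 : relsRange mdata basesM 47 19881 = true := relsRange_strict mdata basesM 47 19881 (by decide +kernel)

end Cfsg.Agent.Helper4.TC.SuzKM2
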