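import Cfsg.Agent.Lib.Helper4.TC.SuzKM2Model
import Cfsg.Agent.Lib.Helper4.TC.Strict

set_option autoImplicit false
set_option maxRecDepth 100000
set_option linter.unusedVariables false
set_option Elab.async false

namespace Cfsg.Agent.Helper4.TC.SuzKM2

open Cfsg.Agent.Helper4.TC

theorem rel424 : relsRange mdata basesM 47 19928 = true := relsRange_strict mdata basesM 47 19928 (by decide +kernel)
theorem rel425 : relsRange mdata basesM 47 19975 = true := relsRange_strict mdata basesM 47 19975 (by decide +kernel)
theorem rel426 : relsRange mdata basesM 47 20022 = true := relsRange_strict mdata basesM 47 20022 (by decide +kernel)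
theorem rel427 : relsRange mdata basesM 47 20069 = true := relsRange_strict mdata basesM 47 20069 (by decide +kernel)
theorem rel428 : relsRange mdata basesM 47 20116 = true := relsRange_strict mdata basesM 47 20116 (by decide +kernel)
theorem rel429 : relsRange mdata basesM 47 20163 = true := relsRange_strict mdata basesM 47 20163 (by decide +kernel)
theorem rel430 : relsRange mdata basesM 47 20210 = true := relsRange_strict mdata basesM 47 20210 (by decide +kernel)
theorem rel431 : relsRange mdata basesM 47 20257 = true := relsRange_strict mdata basesM 47 20257 (by decide +kernel)

end Cfsg.Agent.Helper4.TC.SuzKM2
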