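import Cfsg.Agent.Lib.Helper4.TC.SuzKM2Model
import Cfsg.Agent.Lib.Helper4.TC.Strict

set_option autoImplicit false
set_option maxRecDepth 100000
set_option linter.unusedVariables false
set_option Elab.async false

namespace Cfsg.Agent.Helper4.TC.SuzKM2

open Cfsg.Agent.Helper4.TC

theorem rel432 : relsRange mdata basesM 47 20304 = true := relsRange_strict mdata basesM 47 20304 (by decide +kernel)
theorem rel433 : relsRange mdata basesM 47 20351 = true := relsRange_strict mdata basesM 47 20351 (by decide +kernel)
theorem rel434 : relsRange mdata basesM 47 20398 = true := relsRange_strict mdata basesM 47 20398 (by decide +kernel)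
theorem rel435 : relsRange mdata basesM 47 20445 = true := relsRange_strict mdata basesM 47 20445 (by decide +kernel)
theorem rel436 : relsRange mdata basesM 47 20492 = true := relsRange_strict mdata basesM 47 20492 (by decide +kernel)
theorem rel437 : relsRange mdata basesM 47 20539 = true := relsRange_strict mdata basesM 47 20539 (by decide +kernel)
theorem rel438 : relsRange mdata basesM 47 20586 = true := relsRange_strict mdata basesM 47 20586 (by decide +kernel)
theorem rel439 : relsRange mdata basesM 47 20633 = true := relsRange_strict mdata basesM 47 20633 (by decide +kernel)

end Cfsg.Agent.Helper4.TC.SuzKM2
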