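import Cfsg.Agent.Lib.Helper4.TC.SuzKM2Model
import Cfsg.Agent.Lib.Helper4.TC.Strict

set_option autoImplicit false
set_option maxRecDepth 100000
set_option linter.unusedVariables false
set_option Elab.async false

namespace Cfsg.Agent.Helper4.TC.SuzKM2

open Cfsg.Agent.Helper4.TC

theorem rel440 : relsRange mdata basesM 47 20680 = true := relsRange_strict mdata basesM 47 20680 (by decide +kernel)
theorem rel441 : relsRange mdata basesM 47 20727 = true := relsRange_strict mdata basesM 47 20727 (by decide +kernel)
theorem rel442 : relsRange mdata basesM 47 20774 = true := relsRange_strict mdata basesM 47 20774 (by decide +kernel)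
theorem rel443 : relsRange mdata basesM 47 20821 = true := relsRange_strict mdata basesM 47 20821 (by decide +kernel)
theorem rel444 : relsRange mdata basesM 47 20868 = true := relsRange_strict mdata basesM 47 20868 (by decide +kernel)
theorem rel445 : relsRange mdata basesM 47 20915 = true := relsRange_strict mdata basesM 47 20915 (by decide +kernel)
theorem rel446 : relsRange mdata basesM 47 20962 = true := relsRange_strict mdata basesM 47 20962 (by decide +kernel)
theorem rel447 : relsRange mdata basesM 47 21009 = true := relsRange_strict mdata basesM 47 21009 (by decide +kernel)

end Cfsg.Agent.Helper4.TC.SuzKM2
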