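import Cfsg.Agent.Lib.Helper4.TC.SuzKM2Model
import Cfsg.Agent.Lib.Helper4.TC.Strict

set_option autoImplicit false
set_option maxRecDepth 100000
set_option linter.unusedVariables false
set_option Elab.async false

namespace Cfsg.Agent.Helper4.TC.SuzKM2

open Cfsg.Agent.Helper4.TC

theorem rel448 : relsRange mdata basesM 47 21056 = true := relsRange_strict mdata basesM 47 21056 (by decide +kernel)
theorem rel449 : relsRange mdata basesM 47 21103 = true := relsRange_strict mdata basesM 47 21103 (by decide +kernel)
theorem rel450 : relsRange mdata basesM 47 21150 = true := relsRange_strict mdata basesM 47 21150 (by decide +kernel)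
theorem rel451 : relsRange mdata basesM 47 21197 = true := relsRange_strict mdata basesM 47 21197 (by decide +kernel)
theorem rel452 : relsRange mdata basesM 47 21244 = true := relsRange_strict mdata basesM 47 21244 (by decide +kernel)
theorem rel453 : relsRange mdata basesM 47 21291 = true := relsRange_strict mdata basesM 47 21291 (by decide +kernel)
theorem rel454 : relsRange mdata basesM 47 21338 = true := relsRange_strict mdata basesM 47 21338 (by decide +kernel)
theorem rel455 : relsRange mdata basesM 47 21385 = true := relsRange_strict mdata basesM 47 21385 (by decide +kernel)

end Cfsg.Agent.Helper4.TC.SuzKM2
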