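import Cfsg.Agent.Lib.Helper4.TC.SuzKM2Model
import Cfsg.Agent.Lib.Helper4.TC.Strict

set_option autoImplicit false
set_option maxRecDepth 100000
set_option linter.unusedVariables false
set_option Elab.async false

namespace Cfsg.Agent.Helper4.TC.SuzKM2

open Cfsg.Agent.Helper4.TC

theorem rel456 : relsRange mdata basesM 47 21432 = true := relsRange_strict mdata basesM 47 21432 (by decide +kernel)
theorem rel457 : relsRange mdata basesM 47 21479 = true := relsRange_strict mdata basesM 47 21479 (by decide +kernel)
theorem rel458 : relsRange mdata basesM 47 21526 = true := relsRange_strict mdata basesM 47 21526 (by decide +kernel)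
theorem rel459 : relsRange mdata basesM 47 21573 = true := relsRange_strict mdata basesM 47 21573 (by decide +kernel)
theorem rel460 : relsRange mdata basesM 47 21620 = true := relsRange_strict mdata basesM 47 21620 (by decide +kernel)
theorem rel461 : relsRange mdata basesM 47 21667 = true := relsRange_strict mdata basesM 47 21667 (by decide +kernel)
theorem rel462 : relsRange mdata basesM 47 21714 = true := relsRange_strict mdata basesM 47 21714 (by decide +kernel)
theorem rel463 : relsRange mdata basesM 47 21761 = true := relsRange_strict mdata basesM 47 21761 (by decide +kernel)

end Cfsg.Agent.Helper4.TC.SuzKM2
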