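import Cfsg.Agent.Lib.Helper4.TC.SuzKM2Model
import Cfsg.Agent.Lib.Helper4.TC.Strict

set_option autoImplicit false
set_option maxRecDepth 100000
set_option linter.unusedVariables false
set_option Elab.async false

namespace Cfsg.Agent.Helper4.TC.SuzKM2

open Cfsg.Agent.Helper4.TC

theorem rel464 : relsRange mdata basesM 47 21808 = true := relsRange_strict mdata basesM 47 21808 (by decide +kernel)
theorem rel465 : relsRange mdata basesM 47 21855 = true := relsRange_strict mdata basesM 47 21855 (by decide +kernel)
theorem rel466 : relsRange mdata basesM 47 21902 = true := relsRange_strict mdata basesM 47 21902 (by decide +kernel)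
theorem rel467 : relsRange mdata basesM 47 21949 = true := relsRange_strict mdata basesM 47 21949 (by decide +kernel)
theorem rel468 : relsRange mdata basesM 47 21996 = true := relsRange_strict mdata basesM 47 21996 (by decide +kernel)
theorem rel469 : relsRange mdata basesM 47 22043 = true := relsRange_strict mdata basesM 47 22043 (by decide +kernel)
theorem rel470 : relsRange mdata basesM 47 22090 = true := relsRange_strict mdata basesM 47 22090 (by decide +kernel)
theorem rel471 : relsRange mdata basesM 47 22137 = true := relsRange_strict mdata basesM 47 22137 (by decide +kernel)

end Cfsg.Agent.Helper4.TC.SuzKM2
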