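import Cfsg.Agent.Lib.Helper4.TC.SuzKM2Model
import Cfsg.Agent.Lib.Helper4.TC.Strict

set_option autoImplicit false
set_option maxRecDepth 100000
set_option linter.unusedVariables false
set_option Elab.async false

namespace Cfsg.Agent.Helper4.TC.SuzKM2

open Cfsg.Agent.Helper4.TC

theorem rel48 : relsRange mdata basesM 47 2256 = true := relsRange_strict mdata basesM 47 2256 (by decide +kernel)
theorem rel49 : relsRange mdata basesM 47 2303 = true := relsRange_strict mdata basesM 47 2303 (by decide +kernel)
theorem rel50 : relsRange mdata basesM 47 2350 = true := relsRange_strict mdata basesM 47 2350 (by decide +kernel)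
theorem rel51 : relsRange mdata basesM 47 2397 = true := relsRange_strict mdata basesM 47 2397 (by decide +kernel)
theorem rel52 : relsRange mdata basesM 47 2444 = true := relsRange_strict mdata basesM 47 2444 (by decide +kernel)
theorem rel53 : relsRange mdata basesM 47 2491 = true := relsRange_strict mdata basesM 47 2491 (by decide +kernel)
theorem rel54 : relsRange mdata basesM 47 2538 = true := relsRange_strict mdata basesM 47 2538 (by decide +kernel)
theorem rel55 : relsRange mdata basesM 47 2585 = true := relsRange_strict mdata basesM 47 2585 (by decide +kernel)

end Cfsg.Agent.Helper4.TC.SuzKM2
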