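import Cfsg.Agent.Lib.Helper4.TC.SuzKM2Model
import Cfsg.Agent.Lib.Helper4.TC.Strict

set_option autoImplicit false
set_option maxRecDepth 100000
set_option linter.unusedVariables false
set_option Elab.async false

namespace Cfsg.Agent.Helper4.TC.SuzKM2

open Cfsg.Agent.Helper4.TC

theorem rel480 : relsRange mdata basesM 47 22560 = true := relsRange_strict mdata basesM 47 22560 (by decide +kernel)
theorem rel481 : relsRange mdata basesM 47 22607 = true := relsRange_strict mdata basesM 47 22607 (by decide +kernel)
theorem rel482 : relsRange mdata basesM 47 22654 = true := relsRange_strict mdata basesM 47 22654 (by decide +kernel)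
theorem rel483 : relsRange mdata basesM 47 22701 = true := relsRange_strict mdata basesM 47 22701 (by decide +kernel)
theorem rel484 : relsRange mdata basesM 47 22748 = true := relsRange_strict mdata basesM 47 22748 (by decide +kernel)
theorem rel485 : relsRange mdata basesM 47 22795 = true := relsRange_strict mdata basesM 47 22795 (by decide +kernel)
theorem rel486 : relsRange mdata basesM 47 22842 = true := relsRange_strict mdata basesM 47 22842 (by decide +kernel)
theorem rel487 : relsRange mdata basesM 47 22889 = true := relsRange_strict mdata basesM 47 22889 (by decide +kernel)

end Cfsg.Agent.Helper4.TC.SuzKM2
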