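import Cfsg.Agent.Lib.Helper4.TC.SuzKM2Model
import Cfsg.Agent.Lib.Helper4.TC.Strict

set_option autoImplicit false
set_option maxRecDepth 100000
set_option linter.unusedVariables false
set_option Elab.async false

namespace Cfsg.Agent.Helper4.TC.SuzKM2

open Cfsg.Agent.Helper4.TC

theorem rel488 : relsRange mdata basesM 47 22936 = true := relsRange_strict mdata basesM 47 22936 (by decide +kernel)
theorem rel489 : relsRange mdata basesM 47 22983 = true := relsRange_strict mdata basesM 47 22983 (by decide +kernel)
theorem rel490 : relsRange mdata basesM 47 23030 = true := relsRange_strict mdata basesM 47 23030 (by decide +kernel)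
theorem rel491 : relsRange mdata basesM 47 23077 = true := relsRange_strict mdata basesM 47 23077 (by decide +kernel)
theorem rel492 : relsRange mdata basesM 47 23124 = true := relsRange_strict mdata basesM 47 23124 (by decide +kernel)
theorem rel493 : relsRange mdata basesM 47 23171 = true := relsRange_strict mdata basesM 47 23171 (by decide +kernel)
theorem rel494 : relsRange mdata basesM 47 23218 = true := relsRange_strict mdata basesM 47 23218 (by decide +kernel)
theorem rel495 : relsRange mdata basesM 47 23265 = true := relsRange_strict mdata basesM 47 23265 (by decide +kernel)

end Cfsg.Agent.Helper4.TC.SuzKM2
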