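import Cfsg.Agent.Lib.Helper4.TC.SuzKM2Model
import Cfsg.Agent.Lib.Helper4.TC.Strict

set_option autoImplicit false
set_option maxRecDepth 100000
set_option linter.unusedVariables false
set_option Elab.async false

namespace Cfsg.Agent.Helper4.TC.SuzKM2

open Cfsg.Agent.Helper4.TC

theorem rel496 : relsRange mdata basesM 47 23312 = true := relsRange_strict mdata basesM 47 23312 (by decide +kernel)
theorem rel497 : relsRange mdata basesM 47 23359 = true := relsRange_strict mdata basesM 47 23359 (by decide +kernel)
theorem rel498 : relsRange mdata basesM 47 23406 = true := relsRange_strict mdata basesM 47 23406 (by decide +kernel)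
theorem rel499 : relsRange mdata basesM 47 23453 = true := relsRange_strict mdata basesM 47 23453 (by decide +kernel)
theorem rel500 : relsRange mdata basesM 47 23500 = true := relsRange_strict mdata basesM 47 23500 (by decide +kernel)
theorem rel501 : relsRange mdata basesM 47 23547 = true := relsRange_strict mdata basesM 47 23547 (by decide +kernel)
theorem rel502 : relsRange mdata basesM 47 23594 = true := relsRange_strict mdata basesM 47 23594 (by decide +kernel)
theorem rel503 : relsRange mdata basesM 47 23641 = true := relsRange_strict mdata basesM 47 23641 (by decide +kernel)

end Cfsg.Agent.Helper4.TC.SuzKM2
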