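import Cfsg.Agent.Lib.Helper4.TC.SuzKM2Model
import Cfsg.Agent.Lib.Helper4.TC.Strict

set_option autoImplicit false
set_option maxRecDepth 100000
set_option linter.unusedVariables false
set_option Elab.async false

namespace Cfsg.Agent.Helper4.TC.SuzKM2

open Cfsg.Agent.Helper4.TC

theorem rel504 : relsRange mdata basesM 47 23688 = true := relsRange_strict mdata basesM 47 23688 (by decide +kernel)
theorem rel505 : relsRange mdata basesM 47 23735 = true := relsRange_strict mdata basesM 47 23735 (by decide +kernel)
theorem rel506 : relsRange mdata basesM 47 23782 = true := relsRange_strict mdata basesM 47 23782 (by decide +kernel)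
theorem rel507 : relsRange mdata basesM 47 23829 = true := relsRange_strict mdata basesM 47 23829 (by decide +kernel)
theorem rel508 : relsRange mdata basesM 47 23876 = true := relsRange_strict mdata basesM 47 23876 (by decide +kernel)
theorem rel509 : relsRange mdata basesM 47 23923 = true := relsRange_strict mdata basesM 47 23923 (by decide +kernel)
theorem rel510 : relsRange mdata basesM 47 23970 = true := relsRange_strict mdata basesM 47 23970 (by decide +kernel)
theorem rel511 : relsRange mdata basesM 47 24017 = true := relsRange_strict mdata basesM 47 24017 (by decide +kernel)

end Cfsg.Agent.Helper4.TC.SuzKM2
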