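import Cfsg.Agent.Lib.Helper4.TC.SuzKM2Model
import Cfsg.Agent.Lib.Helper4.TC.Strict

set_option autoImplicit false
set_option maxRecDepth 100000
set_option linter.unusedVariables false
set_option Elab.async false

namespace Cfsg.Agent.Helper4.TC.SuzKM2

open Cfsg.Agent.Helper4.TC

theorem rel512 : relsRange mdata basesM 47 24064 = true := relsRange_strict mdata basesM 47 24064 (by decide +kernel)
theorem rel513 : relsRange mdata basesM 47 24111 = true := relsRange_strict mdata basesM 47 24111 (by decide +kernel)
theorem rel514 : relsRange mdata basesM 47 24158 = true := relsRange_strict mdata basesM 47 24158 (by decide +kernel)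
theorem rel515 : relsRange mdata basesM 47 24205 = true := relsRange_strict mdata basesM 47 24205 (by decide +kernel)
theorem rel516 : relsRange mdata basesM 47 24252 = true := relsRange_strict mdata basesM 47 24252 (by decide +kernel)
theorem rel517 : relsRange mdata basesM 47 24299 = true := relsRange_strict mdata basesM 47 24299 (by decide +kernel)
theorem rel518 : relsRange mdata basesM 47 24346 = true := relsRange_strict mdata basesM 47 24346 (by decide +kernel)
theorem rel519 : relsRange mdata basesM 47 24393 = true := relsRange_strict mdata basesM 47 24393 (by decide +kernel)

end Cfsg.Agent.Helper4.TC.SuzKM2
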