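import Cfsg.Agent.Lib.Helper4.TC.SuzKM2Model
import Cfsg.Agent.Lib.Helper4.TC.Strict

set_option autoImplicit false
set_option maxRecDepth 100000
set_option linter.unusedVariables false
set_option Elab.async false

namespace Cfsg.Agent.Helper4.TC.SuzKM2

open Cfsg.Agent.Helper4.TC

theorem rel520 : relsRange mdata basesM 47 24440 = true := relsRange_strict mdata basesM 47 24440 (by decide +kernel)
theorem rel521 : relsRange mdata basesM 47 24487 = true := relsRange_strict mdata basesM 47 24487 (by decide +kernel)
theorem rel522 : relsRange mdata basesM 47 24534 = true := relsRange_strict mdata basesM 47 24534 (by decide +kernel)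
theorem rel523 : relsRange mdata basesM 47 24581 = true := relsRange_strict mdata basesM 47 24581 (by decide +kernel)
theorem rel524 : relsRange mdata basesM 47 24628 = true := relsRange_strict mdata basesM 47 24628 (by decide +kernel)
theorem rel525 : relsRange mdata basesM 47 24675 = true := relsRange_strict mdata basesM 47 24675 (by decide +kernel)
theorem rel526 : relsRange mdata basesM 47 24722 = true := relsRange_strict mdata basesM 47 24722 (by decide +kernel)
theorem rel527 : relsRange mdata basesM 47 24769 = true := relsRange_strict mdata basesM 47 24769 (by decide +kernel)

end Cfsg.Agent.Helper4.TC.SuzKM2
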