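import Cfsg.Agent.Lib.Helper4.TC.SuzKM2Model
import Cfsg.Agent.Lib.Helper4.TC.Strict

set_option autoImplicit false
set_option maxRecDepth 100000
set_option linter.unusedVariables false
set_option Elab.async false

namespace Cfsg.Agent.Helper4.TC.SuzKM2

open Cfsg.Agent.Helper4.TC

theorem rel528 : relsRange mdata basesM 47 24816 = true := relsRange_strict mdata basesM 47 24816 (by decide +kernel)
theorem rel529 : relsRange mdata basesM 47 24863 = true := relsRange_strict mdata basesM 47 24863 (by decide +kernel)
theorem rel530 : relsRange mdata basesM 47 24910 = true := relsRange_strict mdata basesM 47 24910 (by decide +kernel)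
theorem rel531 : relsRange mdata basesM 47 24957 = true := relsRange_strict mdata basesM 47 24957 (by decide +kernel)
theorem rel532 : relsRange mdata basesM 47 25004 = true := relsRange_strict mdata basesM 47 25004 (by decide +kernel)
theorem rel533 : relsRange mdata basesM 47 25051 = true := relsRange_strict mdata basesM 47 25051 (by decide +kernel)
theorem rel534 : relsRange mdata basesM 47 25098 = true := relsRange_strict mdata basesM 47 25098 (by decide +kernel)
theorem rel535 : relsRange mdata basesM 47 25145 = true := relsRange_strict mdata basesM 47 25145 (by decide +kernel)

end Cfsg.Agent.Helper4.TC.SuzKM2
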