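import Cfsg.Agent.Lib.Helper4.TC.SuzKM2Model
import Cfsg.Agent.Lib.Helper4.TC.Strict

set_option autoImplicit false
set_option maxRecDepth 100000
set_option linter.unusedVariables false
set_option Elab.async false

namespace Cfsg.Agent.Helper4.TC.SuzKM2

open Cfsg.Agent.Helper4.TC

theorem rel536 : relsRange mdata basesM 47 25192 = true := relsRange_strict mdata basesM 47 25192 (by decide +kernel)
theorem rel537 : relsRange mdata basesM 47 25239 = true := relsRange_strict mdata basesM 47 25239 (by decide +kernel)
theorem rel538 : relsRange mdata basesM 47 25286 = true := relsRange_strict mdata basesM 47 25286 (by decide +kernel)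
theorem rel539 : relsRange mdata basesM 47 25333 = true := relsRange_strict mdata basesM 47 25333 (by decide +kernel)
theorem rel540 : relsRange mdata basesM 47 25380 = true := relsRange_strict mdata basesM 47 25380 (by decide +kernel)
theorem rel541 : relsRange mdata basesM 47 25427 = true := relsRange_strict mdata basesM 47 25427 (by decide +kernel)
theorem rel542 : relsRange mdata basesM 47 25474 = true := relsRange_strict mdata basesM 47 25474 (by decide +kernel)
theorem rel543 : relsRange mdata basesM 47 25521 = true := relsRange_strict mdata basesM 47 25521 (by decide +kernel)

end Cfsg.Agent.Helper4.TC.SuzKM2
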