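import Cfsg.Agent.Lib.Helper4.TC.SuzKM2Model
import Cfsg.Agent.Lib.Helper4.TC.Strict

set_option autoImplicit false
set_option maxRecDepth 100000
set_option linter.unusedVariables false
set_option Elab.async false

namespace Cfsg.Agent.Helper4.TC.SuzKM2

open Cfsg.Agent.Helper4.TC

theorem rel544 : relsRange mdata basesM 47 25568 = true := relsRange_strict mdata basesM 47 25568 (by decide +kernel)
theorem rel545 : relsRange mdata basesM 47 25615 = true := relsRange_strict mdata basesM 47 25615 (by decide +kernel)
theorem rel546 : relsRange mdata basesM 47 25662 = true := relsRange_strict mdata basesM 47 25662 (by decide +kernel)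
theorem rel547 : relsRange mdata basesM 47 25709 = true := relsRange_strict mdata basesM 47 25709 (by decide +kernel)
theorem rel548 : relsRange mdata basesM 47 25756 = true := relsRange_strict mdata basesM 47 25756 (by decide +kernel)
theorem rel549 : relsRange mdata basesM 47 25803 = true := relsRange_strict mdata basesM 47 25803 (by decide +kernel)
theorem rel550 : relsRange mdata basesM 47 25850 = true := relsRange_strict mdata basesM 47 25850 (by decide +kernel)
theorem rel551 : relsRange mdata basesM 47 25897 = true := relsRange_strict mdata basesM 47 25897 (by decide +kernel)

end Cfsg.Agent.Helper4.TC.SuzKM2
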