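import Cfsg.Agent.Lib.Helper4.TC.SuzKM2Model
import Cfsg.Agent.Lib.Helper4.TC.Strict

set_option autoImplicit false
set_option maxRecDepth 100000
set_option linter.unusedVariables false
set_option Elab.async false

namespace Cfsg.Agent.Helper4.TC.SuzKM2

open Cfsg.Agent.Helper4.TC

theorem rel552 : relsRange mdata basesM 47 25944 = true := relsRange_strict mdata basesM 47 25944 (by decide +kernel)
theorem rel553 : relsRange mdata basesM 47 25991 = true := relsRange_strict mdata basesM 47 25991 (by decide +kernel)
theorem rel554 : relsRange mdata basesM 47 26038 = true := relsRange_strict mdata basesM 47 26038 (by decide +kernel)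
theorem rel555 : relsRange mdata basesM 47 26085 = true := relsRange_strict mdata basesM 47 26085 (by decide +kernel)
theorem rel556 : relsRange mdata basesM 47 26132 = true := relsRange_strict mdata basesM 47 26132 (by decide +kernel)
theorem rel557 : relsRange mdata basesM 47 26179 = true := relsRange_strict mdata basesM 47 26179 (by decide +kernel)
theorem rel558 : relsRange mdata basesM 47 26226 = true := relsRange_strict mdata basesM 47 26226 (by decide +kernel)
theorem rel559 : relsRange mdata basesM 47 26273 = true := relsRange_strict mdata basesM 47 26273 (by decide +kernel)

end Cfsg.Agent.Helper4.TC.SuzKM2
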