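import Cfsg.Agent.Lib.Helper4.TC.SuzKM2Model
import Cfsg.Agent.Lib.Helper4.TC.Strict

set_option autoImplicit false
set_option maxRecDepth 100000
set_option linter.unusedVariables false
set_option Elab.async false

namespace Cfsg.Agent.Helper4.TC.SuzKM2

open Cfsg.Agent.Helper4.TC

theorem rel56 : relsRange mdata basesM 47 2632 = true := relsRange_strict mdata basesM 47 2632 (by decide +kernel)
theorem rel57 : relsRange mdata basesM 47 2679 = true := relsRange_strict mdata basesM 47 2679 (by decide +kernel)
theorem rel58 : relsRange mdata basesM 47 2726 = true := relsRange_strict mdata basesM 47 2726 (by decide +kernel)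
theorem rel59 : relsRange mdata basesM 47 2773 = true := relsRange_strict mdata basesM 47 2773 (by decide +kernel)
theorem rel60 : relsRange mdata basesM 47 2820 = true := relsRange_strict mdata basesM 47 2820 (by decide +kernel)
theorem rel61 : relsRange mdata basesM 47 2867 = true := relsRange_strict mdata basesM 47 2867 (by decide +kernel)
theorem rel62 : relsRange mdata basesM 47 2914 = true := relsRange_strict mdata basesM 47 2914 (by decide +kernel)
theorem rel63 : relsRange mdata basesM 47 2961 = true := relsRange_strict mdata basesM 47 2961 (by decide +kernel)

end Cfsg.Agent.Helper4.TC.SuzKM2
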