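import Cfsg.Agent.Lib.Helper4.TC.SuzKM2Model
import Cfsg.Agent.Lib.Helper4.TC.Strict

set_option autoImplicit false
set_option maxRecDepth 100000
set_option linter.unusedVariables false
set_option Elab.async false

namespace Cfsg.Agent.Helper4.TC.SuzKM2

open Cfsg.Agent.Helper4.TC

theorem rel560 : relsRange mdata basesM 47 26320 = true := relsRange_strict mdata basesM 47 26320 (by decide +kernel)
theorem rel561 : relsRange mdata basesM 47 26367 = true := relsRange_strict mdata basesM 47 26367 (by decide +kernel)
theorem rel562 : relsRange mdata basesM 47 26414 = true := relsRange_strict mdata basesM 47 26414 (by decide +kernel)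
theorem rel563 : relsRange mdata basesM 47 26461 = true := relsRange_strict mdata basesM 47 26461 (by decide +kernel)
theorem rel564 : relsRange mdata basesM 47 26508 = true := relsRange_strict mdata basesM 47 26508 (by decide +kernel)
theorem rel565 : relsRange mdata basesM 47 26555 = true := relsRange_strict mdata basesM 47 26555 (by decide +kernel)
theorem rel566 : relsRange mdata basesM 47 26602 = true := relsRange_strict mdata basesM 47 26602 (by decide +kernel)
theorem rel567 : relsRange mdata basesM 47 26649 = true := relsRange_strict mdata basesM 47 26649 (by decide +kernel)

end Cfsg.Agent.Helper4.TC.SuzKM2
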