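import Cfsg.Agent.Lib.Helper4.TC.SuzKM2Model
import Cfsg.Agent.Lib.Helper4.TC.Strict

set_option autoImplicit false
set_option maxRecDepth 100000
set_option linter.unusedVariables false
set_option Elab.async false

namespace Cfsg.Agent.Helper4.TC.SuzKM2

open Cfsg.Agent.Helper4.TC

theorem rel568 : relsRange mdata basesM 47 26696 = true := relsRange_strict mdata basesM 47 26696 (by decide +kernel)
theorem rel569 : relsRange mdata basesM 47 26743 = true := relsRange_strict mdata basesM 47 26743 (by decide +kernel)
theorem rel570 : relsRange mdata basesM 47 26790 = true := relsRange_strict mdata basesM 47 26790 (by decide +kernel)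
theorem rel571 : relsRange mdata basesM 47 26837 = true := relsRange_strict mdata basesM 47 26837 (by decide +kernel)
theorem rel572 : relsRange mdata basesM 47 26884 = true := relsRange_strict mdata basesM 47 26884 (by decide +kernel)
theorem rel573 : relsRange mdata basesM 47 26931 = true := relsRange_strict mdata basesM 47 26931 (by decide +kernel)
theorem rel574 : relsRange mdata basesM 47 26978 = true := relsRange_strict mdata basesM 47 26978 (by decide +kernel)
theorem rel575 : relsRange mdata basesM 47 27025 = true := relsRange_strict mdata basesM 47 27025 (by decide +kernel)

end Cfsg.Agent.Helper4.TC.SuzKM2
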