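import Cfsg.Agent.Lib.Helper4.TC.SuzKM2Model
import Cfsg.Agent.Lib.Helper4.TC.Strict

set_option autoImplicit false
set_option maxRecDepth 100000
set_option linter.unusedVariables false
set_option Elab.async false

namespace Cfsg.Agent.Helper4.TC.SuzKM2

open Cfsg.Agent.Helper4.TC

theorem rel576 : relsRange mdata basesM 47 27072 = true := relsRange_strict mdata basesM 47 27072 (by decide +kernel)
theorem rel577 : relsRange mdata basesM 47 27119 = true := relsRange_strict mdata basesM 47 27119 (by decide +kernel)
theorem rel578 : relsRange mdata basesM 47 27166 = true := relsRange_strict mdata basesM 47 27166 (by decide +kernel)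
theorem rel579 : relsRange mdata basesM 47 27213 = true := relsRange_strict mdata basesM 47 27213 (by decide +kernel)
theorem rel580 : relsRange mdata basesM 47 27260 = true := relsRange_strict mdata basesM 47 27260 (by decide +kernel)
theorem rel581 : relsRange mdata basesM 47 27307 = true := relsRange_strict mdata basesM 47 27307 (by decide +kernel)
theorem rel582 : relsRange mdata basesM 47 27354 = true := relsRange_strict mdata basesM 47 27354 (by decide +kernel)
theorem rel583 : relsRange mdata basesM 47 27401 = true := relsRange_strict mdata basesM 47 27401 (by decide +kernel)

end Cfsg.Agent.Helper4.TC.SuzKM2
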