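import Cfsg.Agent.Lib.Helper4.TC.SuzKM2Model
import Cfsg.Agent.Lib.Helper4.TC.Strict

set_option autoImplicit false
set_option maxRecDepth 100000
set_option linter.unusedVariables false
set_option Elab.async false

namespace Cfsg.Agent.Helper4.TC.SuzKM2

open Cfsg.Agent.Helper4.TC

theorem rel584 : relsRange mdata basesM 47 27448 = true := relsRange_strict mdata basesM 47 27448 (by decide +kernel)
theorem rel585 : relsRange mdata basesM 47 27495 = true := relsRange_strict mdata basesM 47 27495 (by decide +kernel)
theorem rel586 : relsRange mdata basesM 47 27542 = true := relsRange_strict mdata basesM 47 27542 (by decide +kernel)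
theorem rel587 : relsRange mdata basesM 47 27589 = true := relsRange_strict mdata basesM 47 27589 (by decide +kernel)
theorem rel588 : relsRange mdata basesM 47 27636 = true := relsRange_strict mdata basesM 47 27636 (by decide +kernel)
theorem rel589 : relsRange mdata basesM 47 27683 = true := relsRange_strict mdata basesM 47 27683 (by decide +kernel)
theorem rel590 : relsRange mdata basesM 47 27730 = true := relsRange_strict mdata basesM 47 27730 (by decide +kernel)
theorem rel591 : relsRange mdata basesM 47 27777 = true := relsRange_strict mdata basesM 47 27777 (by decide +kernel)

end Cfsg.Agent.Helper4.TC.SuzKM2
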