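import Cfsg.Agent.Lib.Helper4.TC.SuzKM2Model
import Cfsg.Agent.Lib.Helper4.TC.Strict

set_option autoImplicit false
set_option maxRecDepth 100000
set_option linter.unusedVariables false
set_option Elab.async false

namespace Cfsg.Agent.Helper4.TC.SuzKM2

open Cfsg.Agent.Helper4.TC

theorem rel592 : relsRange mdata basesM 47 27824 = true := relsRange_strict mdata basesM 47 27824 (by decide +kernel)
theorem rel593 : relsRange mdata basesM 47 27871 = true := relsRange_strict mdata basesM 47 27871 (by decide +kernel)
theorem rel594 : relsRange mdata basesM 47 27918 = true := relsRange_strict mdata basesM 47 27918 (by decide +kernel)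
theorem rel595 : relsRange mdata basesM 47 27965 = true := relsRange_strict mdata basesM 47 27965 (by decide +kernel)
theorem rel596 : relsRange mdata basesM 47 28012 = true := relsRange_strict mdata basesM 47 28012 (by decide +kernel)
theorem rel597 : relsRange mdata basesM 47 28059 = true := relsRange_strict mdata basesM 47 28059 (by decide +kernel)
theorem rel598 : relsRange mdata basesM 47 28106 = true := relsRange_strict mdata basesM 47 28106 (by decide +kernel)
theorem rel599 : relsRange mdata basesM 47 28153 = true := relsRange_strict mdata basesM 47 28153 (by decide +kernel)

end Cfsg.Agent.Helper4.TC.SuzKM2
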