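import Cfsg.Agent.Lib.Helper4.TC.SuzKM2Model
import Cfsg.Agent.Lib.Helper4.TC.Strict

set_option autoImplicit false
set_option maxRecDepth 100000
set_option linter.unusedVariables false
set_option Elab.async false

namespace Cfsg.Agent.Helper4.TC.SuzKM2

open Cfsg.Agent.Helper4.TC

theorem rel600 : relsRange mdata basesM 47 28200 = true := relsRange_strict mdata basesM 47 28200 (by decide +kernel)
theorem rel601 : relsRange mdata basesM 47 28247 = true := relsRange_strict mdata basesM 47 28247 (by decide +kernel)
theorem rel602 : relsRange mdata basesM 47 28294 = true := relsRange_strict mdata basesM 47 28294 (by decide +kernel)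
theorem rel603 : relsRange mdata basesM 47 28341 = true := relsRange_strict mdata basesM 47 28341 (by decide +kernel)
theorem rel604 : relsRange mdata basesM 47 28388 = true := relsRange_strict mdata basesM 47 28388 (by decide +kernel)
theorem rel605 : relsRange mdata basesM 47 28435 = true := relsRange_strict mdata basesM 47 28435 (by decide +kernel)
theorem rel606 : relsRange mdata basesM 47 28482 = true := relsRange_strict mdata basesM 47 28482 (by decide +kernel)
theorem rel607 : relsRange mdata basesM 47 28529 = true := relsRange_strict mdata basesM 47 28529 (by decide +kernel)

end Cfsg.Agent.Helper4.TC.SuzKM2
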