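import Cfsg.Agent.Lib.Helper4.TC.SuzKM2Model
import Cfsg.Agent.Lib.Helper4.TC.Strict

set_option autoImplicit false
set_option maxRecDepth 100000
set_option linter.unusedVariables false
set_option Elab.async false

namespace Cfsg.Agent.Helper4.TC.SuzKM2

open Cfsg.Agent.Helper4.TC

theorem rel608 : relsRange mdata basesM 47 28576 = true := relsRange_strict mdata basesM 47 28576 (by decide +kernel)
theorem rel609 : relsRange mdata basesM 47 28623 = true := relsRange_strict mdata basesM 47 28623 (by decide +kernel)
theorem rel610 : relsRange mdata basesM 47 28670 = true := relsRange_strict mdata basesM 47 28670 (by decide +kernel)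
theorem rel611 : relsRange mdata basesM 47 28717 = true := relsRange_strict mdata basesM 47 28717 (by decide +kernel)
theorem rel612 : relsRange mdata basesM 47 28764 = true := relsRange_strict mdata basesM 47 28764 (by decide +kernel)
theorem rel613 : relsRange mdata basesM 47 28811 = true := relsRange_strict mdata basesM 47 28811 (by decide +kernel)
theorem rel614 : relsRange mdata basesM 47 28858 = true := relsRange_strict mdata basesM 47 28858 (by decide +kernel)
theorem rel615 : relsRange mdata basesM 47 28905 = true := relsRange_strict mdata basesM 47 28905 (by decide +kernel)

end Cfsg.Agent.Helper4.TC.SuzKM2
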