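import Cfsg.Agent.Lib.Helper4.TC.SuzKM2Model
import Cfsg.Agent.Lib.Helper4.TC.Strict

set_option autoImplicit false
set_option maxRecDepth 100000
set_option linter.unusedVariables false
set_option Elab.async false

namespace Cfsg.Agent.Helper4.TC.SuzKM2

open Cfsg.Agent.Helper4.TC

theorem rel616 : relsRange mdata basesM 47 28952 = true := relsRange_strict mdata basesM 47 28952 (by decide +kernel)
theorem rel617 : relsRange mdata basesM 47 28999 = true := relsRange_strict mdata basesM 47 28999 (by decide +kernel)
theorem rel618 : relsRange mdata basesM 47 29046 = true := relsRange_strict mdata basesM 47 29046 (by decide +kernel)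
theorem rel619 : relsRange mdata basesM 47 29093 = true := relsRange_strict mdata basesM 47 29093 (by decide +kernel)
theorem rel620 : relsRange mdata basesM 47 29140 = true := relsRange_strict mdata basesM 47 29140 (by decide +kernel)
theorem rel621 : relsRange mdata basesM 47 29187 = true := relsRange_strict mdata basesM 47 29187 (by decide +kernel)
theorem rel622 : relsRange mdata basesM 47 29234 = true := relsRange_strict mdata basesM 47 29234 (by decide +kernel)
theorem rel623 : relsRange mdata basesM 47 29281 = true := relsRange_strict mdata basesM 47 29281 (by decide +kernel)

end Cfsg.Agent.Helper4.TC.SuzKM2
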