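import Cfsg.Agent.Lib.Helper4.TC.SuzKM2Model
import Cfsg.Agent.Lib.Helper4.TC.Strict

set_option autoImplicit false
set_option maxRecDepth 100000
set_option linter.unusedVariables false
set_option Elab.async false

namespace Cfsg.Agent.Helper4.TC.SuzKM2

open Cfsg.Agent.Helper4.TC

theorem rel624 : relsRange mdata basesM 47 29328 = true := relsRange_strict mdata basesM 47 29328 (by decide +kernel)
theorem rel625 : relsRange mdata basesM 47 29375 = true := relsRange_strict mdata basesM 47 29375 (by decide +kernel)
theorem rel626 : relsRange mdata basesM 47 29422 = true := relsRange_strict mdata basesM 47 29422 (by decide +kernel)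
theorem rel627 : relsRange mdata basesM 47 29469 = true := relsRange_strict mdata basesM 47 29469 (by decide +kernel)
theorem rel628 : relsRange mdata basesM 47 29516 = true := relsRange_strict mdata basesM 47 29516 (by decide +kernel)
theorem rel629 : relsRange mdata basesM 47 29563 = true := relsRange_strict mdata basesM 47 29563 (by decide +kernel)
theorem rel630 : relsRange mdata basesM 47 29610 = true := relsRange_strict mdata basesM 47 29610 (by decide +kernel)
theorem rel631 : relsRange mdata basesM 47 29657 = true := relsRange_strict mdata basesM 47 29657 (by decide +kernel)

end Cfsg.Agent.Helper4.TC.SuzKM2
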