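import Cfsg.Agent.Lib.Helper4.TC.SuzKM2Model
import Cfsg.Agent.Lib.Helper4.TC.Strict

set_option autoImplicit false
set_option maxRecDepth 100000
set_option linter.unusedVariables false
set_option Elab.async false

namespace Cfsg.Agent.Helper4.TC.SuzKM2

open Cfsg.Agent.Helper4.TC

theorem rel640 : relsRange mdata basesM 47 30080 = true := relsRange_strict mdata basesM 47 30080 (by decide +kernel)
theorem rel641 : relsRange mdata basesM 47 30127 = true := relsRange_strict mdata basesM 47 30127 (by decide +kernel)
theorem rel642 : relsRange mdata basesM 47 30174 = true := relsRange_strict mdata basesM 47 30174 (by decide +kernel)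
theorem rel643 : relsRange mdata basesM 47 30221 = true := relsRange_strict mdata basesM 47 30221 (by decide +kernel)
theorem rel644 : relsRange mdata basesM 47 30268 = true := relsRange_strict mdata basesM 47 30268 (by decide +kernel)
theorem rel645 : relsRange mdata basesM 47 30315 = true := relsRange_strict mdata basesM 47 30315 (by decide +kernel)
theorem rel646 : relsRange mdata basesM 47 30362 = true := relsRange_strict mdata basesM 47 30362 (by decide +kernel)
theorem rel647 : relsRange mdata basesM 47 30409 = true := relsRange_strict mdata basesM 47 30409 (by decide +kernel)

end Cfsg.Agent.Helper4.TC.SuzKM2
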