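import Cfsg.Agent.Lib.Helper4.TC.SuzKM2Model
import Cfsg.Agent.Lib.Helper4.TC.Strict

set_option autoImplicit false
set_option maxRecDepth 100000
set_option linter.unusedVariables false
set_option Elab.async false

namespace Cfsg.Agent.Helper4.TC.SuzKM2

open Cfsg.Agent.Helper4.TC

theorem rel648 : relsRange mdata basesM 47 30456 = true := relsRange_strict mdata basesM 47 30456 (by decide +kernel)
theorem rel649 : relsRange mdata basesM 47 30503 = true := relsRange_strict mdata basesM 47 30503 (by decide +kernel)
theorem rel650 : relsRange mdata basesM 47 30550 = true := relsRange_strict mdata basesM 47 30550 (by decide +kernel)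
theorem rel651 : relsRange mdata basesM 47 30597 = true := relsRange_strict mdata basesM 47 30597 (by decide +kernel)
theorem rel652 : relsRange mdata basesM 47 30644 = true := relsRange_strict mdata basesM 47 30644 (by decide +kernel)
theorem rel653 : relsRange mdata basesM 47 30691 = true := relsRange_strict mdata basesM 47 30691 (by decide +kernel)
theorem rel654 : relsRange mdata basesM 47 30738 = true := relsRange_strict mdata basesM 47 30738 (by decide +kernel)
theorem rel655 : relsRange mdata basesM 47 30785 = true := relsRange_strict mdata basesM 47 30785 (by decide +kernel)

end Cfsg.Agent.Helper4.TC.SuzKM2
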