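import Cfsg.Agent.Lib.Helper4.TC.SuzKM2Model
import Cfsg.Agent.Lib.Helper4.TC.Strict

set_option autoImplicit false
set_option maxRecDepth 100000
set_option linter.unusedVariables false
set_option Elab.async false

namespace Cfsg.Agent.Helper4.TC.SuzKM2

open Cfsg.Agent.Helper4.TC

theorem rel656 : relsRange mdata basesM 47 30832 = true := relsRange_strict mdata basesM 47 30832 (by decide +kernel)
theorem rel657 : relsRange mdata basesM 47 30879 = true := relsRange_strict mdata basesM 47 30879 (by decide +kernel)
theorem rel658 : relsRange mdata basesM 47 30926 = true := relsRange_strict mdata basesM 47 30926 (by decide +kernel)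
theorem rel659 : relsRange mdata basesM 47 30973 = true := relsRange_strict mdata basesM 47 30973 (by decide +kernel)
theorem rel660 : relsRange mdata basesM 47 31020 = true := relsRange_strict mdata basesM 47 31020 (by decide +kernel)
theorem rel661 : relsRange mdata basesM 47 31067 = true := relsRange_strict mdata basesM 47 31067 (by decide +kernel)
theorem rel662 : relsRange mdata basesM 47 31114 = true := relsRange_strict mdata basesM 47 31114 (by decide +kernel)
theorem rel663 : relsRange mdata basesM 47 31161 = true := relsRange_strict mdata basesM 47 31161 (by decide +kernel)

end Cfsg.Agent.Helper4.TC.SuzKM2
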