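import Cfsg.Agent.Lib.Helper4.TC.SuzKM2Model
import Cfsg.Agent.Lib.Helper4.TC.Strict

set_option autoImplicit false
set_option maxRecDepth 100000
set_option linter.unusedVariables false
set_option Elab.async false

namespace Cfsg.Agent.Helper4.TC.SuzKM2

open Cfsg.Agent.Helper4.TC

theorem rel664 : relsRange mdata basesM 47 31208 = true := relsRange_strict mdata basesM 47 31208 (by decide +kernel)
theorem rel665 : relsRange mdata basesM 47 31255 = true := relsRange_strict mdata basesM 47 31255 (by decide +kernel)
theorem rel666 : relsRange mdata basesM 47 31302 = true := relsRange_strict mdata basesM 47 31302 (by decide +kernel)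
theorem rel667 : relsRange mdata basesM 47 31349 = true := relsRange_strict mdata basesM 47 31349 (by decide +kernel)
theorem rel668 : relsRange mdata basesM 47 31396 = true := relsRange_strict mdata basesM 47 31396 (by decide +kernel)
theorem rel669 : relsRange mdata basesM 47 31443 = true := relsRange_strict mdata basesM 47 31443 (by decide +kernel)
theorem rel670 : relsRange mdata basesM 47 31490 = true := relsRange_strict mdata basesM 47 31490 (by decide +kernel)
theorem rel671 : relsRange mdata basesM 47 31537 = true := relsRange_strict mdata basesM 47 31537 (by decide +kernel)

end Cfsg.Agent.Helper4.TC.SuzKM2
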