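import Cfsg.Agent.Lib.Helper4.TC.SuzKM2Model
import Cfsg.Agent.Lib.Helper4.TC.Strict

set_option autoImplicit false
set_option maxRecDepth 100000
set_option linter.unusedVariables false
set_option Elab.async false

namespace Cfsg.Agent.Helper4.TC.SuzKM2

open Cfsg.Agent.Helper4.TC

theorem rel672 : relsRange mdata basesM 47 31584 = true := relsRange_strict mdata basesM 47 31584 (by decide +kernel)
theorem rel673 : relsRange mdata basesM 47 31631 = true := relsRange_strict mdata basesM 47 31631 (by decide +kernel)
theorem rel674 : relsRange mdata basesM 47 31678 = true := relsRange_strict mdata basesM 47 31678 (by decide +kernel)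
theorem rel675 : relsRange mdata basesM 47 31725 = true := relsRange_strict mdata basesM 47 31725 (by decide +kernel)
theorem rel676 : relsRange mdata basesM 47 31772 = true := relsRange_strict mdata basesM 47 31772 (by decide +kernel)
theorem rel677 : relsRange mdata basesM 47 31819 = true := relsRange_strict mdata basesM 47 31819 (by decide +kernel)
theorem rel678 : relsRange mdata basesM 47 31866 = true := relsRange_strict mdata basesM 47 31866 (by decide +kernel)
theorem rel679 : relsRange mdata basesM 47 31913 = true := relsRange_strict mdata basesM 47 31913 (by decide +kernel)

end Cfsg.Agent.Helper4.TC.SuzKM2
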