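import Cfsg.Agent.Lib.Helper4.TC.SuzKM2Model
import Cfsg.Agent.Lib.Helper4.TC.Strict

set_option autoImplicit false
set_option maxRecDepth 100000
set_option linter.unusedVariables false
set_option Elab.async false

namespace Cfsg.Agent.Helper4.TC.SuzKM2

open Cfsg.Agent.Helper4.TC

theorem rel680 : relsRange mdata basesM 47 31960 = true := relsRange_strict mdata basesM 47 31960 (by decide +kernel)
theorem rel681 : relsRange mdata basesM 47 32007 = true := relsRange_strict mdata basesM 47 32007 (by decide +kernel)
theorem rel682 : relsRange mdata basesM 47 32054 = true := relsRange_strict mdata basesM 47 32054 (by decide +kernel)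
theorem rel683 : relsRange mdata basesM 47 32101 = true := relsRange_strict mdata basesM 47 32101 (by decide +kernel)
theorem rel684 : relsRange mdata basesM 47 32148 = true := relsRange_strict mdata basesM 47 32148 (by decide +kernel)
theorem rel685 : relsRange mdata basesM 47 32195 = true := relsRange_strict mdata basesM 47 32195 (by decide +kernel)
theorem rel686 : relsRange mdata basesM 47 32242 = true := relsRange_strict mdata basesM 47 32242 (by decide +kernel)
theorem rel687 : relsRange mdata basesM 47 32289 = true := relsRange_strict mdata basesM 47 32289 (by decide +kernel)

end Cfsg.Agent.Helper4.TC.SuzKM2
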