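import Cfsg.Agent.Lib.Helper4.TC.SuzKM2Model
import Cfsg.Agent.Lib.Helper4.TC.Strict

set_option autoImplicit false
set_option maxRecDepth 100000
set_option linter.unusedVariables false
set_option Elab.async false

namespace Cfsg.Agent.Helper4.TC.SuzKM2

open Cfsg.Agent.Helper4.TC

theorem rel688 : relsRange mdata basesM 47 32336 = true := relsRange_strict mdata basesM 47 32336 (by decide +kernel)
theorem rel689 : relsRange mdata basesM 47 32383 = true := relsRange_strict mdata basesM 47 32383 (by decide +kernel)
theorem rel690 : relsRange mdata basesM 47 32430 = true := relsRange_strict mdata basesM 47 32430 (by decide +kernel)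
theorem rel691 : relsRange mdata basesM 47 32477 = true := relsRange_strict mdata basesM 47 32477 (by decide +kernel)
theorem rel692 : relsRange mdata basesM 47 32524 = true := relsRange_strict mdata basesM 47 32524 (by decide +kernel)
theorem rel693 : relsRange mdata basesM 47 32571 = true := relsRange_strict mdata basesM 47 32571 (by decide +kernel)
theorem rel694 : relsRange mdata basesM 47 32618 = true := relsRange_strict mdata basesM 47 32618 (by decide +kernel)
theorem rel695 : relsRange mdata basesM 47 32665 = true := relsRange_strict mdata basesM 47 32665 (by decide +kernel)

end Cfsg.Agent.Helper4.TC.SuzKM2
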