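import Cfsg.Agent.Lib.Helper4.TC.SuzKM2Model
import Cfsg.Agent.Lib.Helper4.TC.Strict

set_option autoImplicit false
set_option maxRecDepth 100000
set_option linter.unusedVariables false
set_option Elab.async false

namespace Cfsg.Agent.Helper4.TC.SuzKM2

open Cfsg.Agent.Helper4.TC

theorem rel696 : relsRange mdata basesM 47 32712 = true := relsRange_strict mdata basesM 47 32712 (by decide +kernel)
theorem rel697 : relsRange mdata basesM 47 32759 = true := relsRange_strict mdata basesM 47 32759 (by decide +kernel)
theorem rel698 : relsRange mdata basesM 47 32806 = true := relsRange_strict mdata basesM 47 32806 (by decide +kernel)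
theorem rel699 : relsRange mdata basesM 47 32853 = true := relsRange_strict mdata basesM 47 32853 (by decide +kernel)
theorem rel700 : relsRange mdata basesM 47 32900 = true := relsRange_strict mdata basesM 47 32900 (by decide +kernel)
theorem rel701 : relsRange mdata basesM 47 32947 = true := relsRange_strict mdata basesM 47 32947 (by decide +kernel)
theorem rel702 : relsRange mdata basesM 47 32994 = true := relsRange_strict mdata basesM 47 32994 (by decide +kernel)
theorem rel703 : relsRange mdata basesM 47 33041 = true := relsRange_strict mdata basesM 47 33041 (by decide +kernel)

end Cfsg.Agent.Helper4.TC.SuzKM2
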