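import Cfsg.Agent.Lib.Helper4.TC.SuzKM2Model
import Cfsg.Agent.Lib.Helper4.TC.Strict

set_option autoImplicit false
set_option maxRecDepth 100000
set_option linter.unusedVariables false
set_option Elab.async false

namespace Cfsg.Agent.Helper4.TC.SuzKM2

open Cfsg.Agent.Helper4.TC

theorem rel704 : relsRange mdata basesM 47 33088 = true := relsRange_strict mdata basesM 47 33088 (by decide +kernel)
theorem rel705 : relsRange mdata basesM 47 33135 = true := relsRange_strict mdata basesM 47 33135 (by decide +kernel)
theorem rel706 : relsRange mdata basesM 47 33182 = true := relsRange_strict mdata basesM 47 33182 (by decide +kernel)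
theorem rel707 : relsRange mdata basesM 47 33229 = true := relsRange_strict mdata basesM 47 33229 (by decide +kernel)
theorem rel708 : relsRange mdata basesM 47 33276 = true := relsRange_strict mdata basesM 47 33276 (by decide +kernel)
theorem rel709 : relsRange mdata basesM 47 33323 = true := relsRange_strict mdata basesM 47 33323 (by decide +kernel)
theorem rel710 : relsRange mdata basesM 47 33370 = true := relsRange_strict mdata basesM 47 33370 (by decide +kernel)
theorem rel711 : relsRange mdata basesM 47 33417 = true := relsRange_strict mdata basesM 47 33417 (by decide +kernel)

end Cfsg.Agent.Helper4.TC.SuzKM2
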