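import Cfsg.Agent.Lib.Helper4.TC.SuzKM2Model
import Cfsg.Agent.Lib.Helper4.TC.Strict

set_option autoImplicit false
set_option maxRecDepth 100000
set_option linter.unusedVariables false
set_option Elab.async false

namespace Cfsg.Agent.Helper4.TC.SuzKM2

open Cfsg.Agent.Helper4.TC

theorem rel712 : relsRange mdata basesM 47 33464 = true := relsRange_strict mdata basesM 47 33464 (by decide +kernel)
theorem rel713 : relsRange mdata basesM 47 33511 = true := relsRange_strict mdata basesM 47 33511 (by decide +kernel)
theorem rel714 : relsRange mdata basesM 47 33558 = true := relsRange_strict mdata basesM 47 33558 (by decide +kernel)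
theorem rel715 : relsRange mdata basesM 47 33605 = true := relsRange_strict mdata basesM 47 33605 (by decide +kernel)
theorem rel716 : relsRange mdata basesM 47 33652 = true := relsRange_strict mdata basesM 47 33652 (by decide +kernel)
theorem rel717 : relsRange mdata basesM 47 33699 = true := relsRange_strict mdata basesM 47 33699 (by decide +kernel)
theorem rel718 : relsRange mdata basesM 47 33746 = true := relsRange_strict mdata basesM 47 33746 (by decide +kernel)
theorem rel719 : relsRange mdata basesM 47 33793 = true := relsRange_strict mdata basesM 47 33793 (by decide +kernel)

end Cfsg.Agent.Helper4.TC.SuzKM2
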