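import Cfsg.Agent.Lib.Helper4.TC.SuzKM2Model
import Cfsg.Agent.Lib.Helper4.TC.Strict

set_option autoImplicit false
set_option maxRecDepth 100000
set_option linter.unusedVariables false
set_option Elab.async false

namespace Cfsg.Agent.Helper4.TC.SuzKM2

open Cfsg.Agent.Helper4.TC

theorem rel72 : relsRange mdata basesM 47 3384 = true := relsRange_strict mdata basesM 47 3384 (by decide +kernel)
theorem rel73 : relsRange mdata basesM 47 3431 = true := relsRange_strict mdata basesM 47 3431 (by decide +kernel)
theorem rel74 : relsRange mdata basesM 47 3478 = true := relsRange_strict mdata basesM 47 3478 (by decide +kernel)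
theorem rel75 : relsRange mdata basesM 47 3525 = true := relsRange_strict mdata basesM 47 3525 (by decide +kernel)
theorem rel76 : relsRange mdata basesM 47 3572 = true := relsRange_strict mdata basesM 47 3572 (by decide +kernel)
theorem rel77 : relsRange mdata basesM 47 3619 = true := relsRange_strict mdata basesM 47 3619 (by decide +kernel)
theorem rel78 : relsRange mdata basesM 47 3666 = true := relsRange_strict mdata basesM 47 3666 (by decide +kernel)
theorem rel79 : relsRange mdata basesM 47 3713 = true := relsRange_strict mdata basesM 47 3713 (by decide +kernel)

end Cfsg.Agent.Helper4.TC.SuzKM2
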