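import Cfsg.Agent.Lib.Helper4.TC.SuzKM2Model
import Cfsg.Agent.Lib.Helper4.TC.Strict

set_option autoImplicit false
set_option maxRecDepth 100000
set_option linter.unusedVariables false
set_option Elab.async false

namespace Cfsg.Agent.Helper4.TC.SuzKM2

open Cfsg.Agent.Helper4.TC

theorem rel720 : relsRange mdata basesM 47 33840 = true := relsRange_strict mdata basesM 47 33840 (by decide +kernel)
theorem rel721 : relsRange mdata basesM 47 33887 = true := relsRange_strict mdata basesM 47 33887 (by decide +kernel)
theorem rel722 : relsRange mdata basesM 47 33934 = true := relsRange_strict mdata basesM 47 33934 (by decide +kernel)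
theorem rel723 : relsRange mdata basesM 47 33981 = true := relsRange_strict mdata basesM 47 33981 (by decide +kernel)
theorem rel724 : relsRange mdata basesM 47 34028 = true := relsRange_strict mdata basesM 47 34028 (by decide +kernel)
theorem rel725 : relsRange mdata basesM 47 34075 = true := relsRange_strict mdata basesM 47 34075 (by decide +kernel)
theorem rel726 : relsRange mdata basesM 47 34122 = true := relsRange_strict mdata basesM 47 34122 (by decide +kernel)
theorem rel727 : relsRange mdata basesM 47 34169 = true := relsRange_strict mdata basesM 47 34169 (by decide +kernel)

end Cfsg.Agent.Helper4.TC.SuzKM2
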