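import Cfsg.Agent.Lib.Helper4.TC.SuzKM2Model
import Cfsg.Agent.Lib.Helper4.TC.Strict

set_option autoImplicit false
set_option maxRecDepth 100000
set_option linter.unusedVariables false
set_option Elab.async false

namespace Cfsg.Agent.Helper4.TC.SuzKM2

open Cfsg.Agent.Helper4.TC

theorem rel728 : relsRange mdata basesM 47 34216 = true := relsRange_strict mdata basesM 47 34216 (by decide +kernel)
theorem rel729 : relsRange mdata basesM 47 34263 = true := relsRange_strict mdata basesM 47 34263 (by decide +kernel)
theorem rel730 : relsRange mdata basesM 47 34310 = true := relsRange_strict mdata basesM 47 34310 (by decide +kernel)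
theorem rel731 : relsRange mdata basesM 47 34357 = true := relsRange_strict mdata basesM 47 34357 (by decide +kernel)
theorem rel732 : relsRange mdata basesM 47 34404 = true := relsRange_strict mdata basesM 47 34404 (by decide +kernel)
theorem rel733 : relsRange mdata basesM 47 34451 = true := relsRange_strict mdata basesM 47 34451 (by decide +kernel)
theorem rel734 : relsRange mdata basesM 47 34498 = true := relsRange_strict mdata basesM 47 34498 (by decide +kernel)
theorem rel735 : relsRange mdata basesM 47 34545 = true := relsRange_strict mdata basesM 47 34545 (by decide +kernel)

end Cfsg.Agent.Helper4.TC.SuzKM2
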