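import Cfsg.Agent.Lib.Helper4.TC.SuzKM2Model
import Cfsg.Agent.Lib.Helper4.TC.Strict

set_option autoImplicit false
set_option maxRecDepth 100000
set_option linter.unusedVariables false
set_option Elab.async false

namespace Cfsg.Agent.Helper4.TC.SuzKM2

open Cfsg.Agent.Helper4.TC

theorem rel736 : relsRange mdata basesM 47 34592 = true := relsRange_strict mdata basesM 47 34592 (by decide +kernel)
theorem rel737 : relsRange mdata basesM 47 34639 = true := relsRange_strict mdata basesM 47 34639 (by decide +kernel)
theorem rel738 : relsRange mdata basesM 47 34686 = true := relsRange_strict mdata basesM 47 34686 (by decide +kernel)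
theorem rel739 : relsRange mdata basesM 47 34733 = true := relsRange_strict mdata basesM 47 34733 (by decide +kernel)
theorem rel740 : relsRange mdata basesM 47 34780 = true := relsRange_strict mdata basesM 47 34780 (by decide +kernel)
theorem rel741 : relsRange mdata basesM 47 34827 = true := relsRange_strict mdata basesM 47 34827 (by decide +kernel)
theorem rel742 : relsRange mdata basesM 47 34874 = true := relsRange_strict mdata basesM 47 34874 (by decide +kernel)
theorem rel743 : relsRange mdata basesM 47 34921 = true := relsRange_strict mdata basesM 47 34921 (by decide +kernel)

end Cfsg.Agent.Helper4.TC.SuzKM2
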