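import Cfsg.Agent.Lib.Helper4.TC.SuzKM2Model
import Cfsg.Agent.Lib.Helper4.TC.Strict

set_option autoImplicit false
set_option maxRecDepth 100000
set_option linter.unusedVariables false
set_option Elab.async false

namespace Cfsg.Agent.Helper4.TC.SuzKM2

open Cfsg.Agent.Helper4.TC

theorem rel744 : relsRange mdata basesM 47 34968 = true := relsRange_strict mdata basesM 47 34968 (by decide +kernel)
theorem rel745 : relsRange mdata basesM 47 35015 = true := relsRange_strict mdata basesM 47 35015 (by decide +kernel)
theorem rel746 : relsRange mdata basesM 47 35062 = true := relsRange_strict mdata basesM 47 35062 (by decide +kernel)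
theorem rel747 : relsRange mdata basesM 47 35109 = true := relsRange_strict mdata basesM 47 35109 (by decide +kernel)
theorem rel748 : relsRange mdata basesM 47 35156 = true := relsRange_strict mdata basesM 47 35156 (by decide +kernel)
theorem rel749 : relsRange mdata basesM 47 35203 = true := relsRange_strict mdata basesM 47 35203 (by decide +kernel)
theorem rel750 : relsRange mdata basesM 47 35250 = true := relsRange_strict mdata basesM 47 35250 (by decide +kernel)
theorem rel751 : relsRange mdata basesM 47 35297 = true := relsRange_strict mdata basesM 47 35297 (by decide +kernel)

end Cfsg.Agent.Helper4.TC.SuzKM2
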