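import Cfsg.Agent.Lib.Helper4.TC.SuzKM2Model
import Cfsg.Agent.Lib.Helper4.TC.Strict

set_option autoImplicit false
set_option maxRecDepth 100000
set_option linter.unusedVariables false
set_option Elab.async false

namespace Cfsg.Agent.Helper4.TC.SuzKM2

open Cfsg.Agent.Helper4.TC

theorem rel752 : relsRange mdata basesM 47 35344 = true := relsRange_strict mdata basesM 47 35344 (by decide +kernel)
theorem rel753 : relsRange mdata basesM 47 35391 = true := relsRange_strict mdata basesM 47 35391 (by decide +kernel)
theorem rel754 : relsRange mdata basesM 47 35438 = true := relsRange_strict mdata basesM 47 35438 (by decide +kernel)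
theorem rel755 : relsRange mdata basesM 47 35485 = true := relsRange_strict mdata basesM 47 35485 (by decide +kernel)
theorem rel756 : relsRange mdata basesM 47 35532 = true := relsRange_strict mdata basesM 47 35532 (by decide +kernel)
theorem rel757 : relsRange mdata basesM 47 35579 = true := relsRange_strict mdata basesM 47 35579 (by decide +kernel)
theorem rel758 : relsRange mdata basesM 47 35626 = true := relsRange_strict mdata basesM 47 35626 (by decide +kernel)
theorem rel759 : relsRange mdata basesM 47 35673 = true := relsRange_strict mdata basesM 47 35673 (by decide +kernel)

end Cfsg.Agent.Helper4.TC.SuzKM2
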