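import Cfsg.Agent.Lib.Helper4.TC.SuzKM2Model
import Cfsg.Agent.Lib.Helper4.TC.Strict

set_option autoImplicit false
set_option maxRecDepth 100000
set_option linter.unusedVariables false
set_option Elab.async false

namespace Cfsg.Agent.Helper4.TC.SuzKM2

open Cfsg.Agent.Helper4.TC

theorem rel760 : relsRange mdata basesM 47 35720 = true := relsRange_strict mdata basesM 47 35720 (by decide +kernel)
theorem rel761 : relsRange mdata basesM 47 35767 = true := relsRange_strict mdata basesM 47 35767 (by decide +kernel)
theorem rel762 : relsRange mdata basesM 47 35814 = true := relsRange_strict mdata basesM 47 35814 (by decide +kernel)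
theorem rel763 : relsRange mdata basesM 47 35861 = true := relsRange_strict mdata basesM 47 35861 (by decide +kernel)
theorem rel764 : relsRange mdata basesM 47 35908 = true := relsRange_strict mdata basesM 47 35908 (by decide +kernel)
theorem rel765 : relsRange mdata basesM 47 35955 = true := relsRange_strict mdata basesM 47 35955 (by decide +kernel)
theorem rel766 : relsRange mdata basesM 47 36002 = true := relsRange_strict mdata basesM 47 36002 (by decide +kernel)
theorem rel767 : relsRange mdata basesM 47 36049 = true := relsRange_strict mdata basesM 47 36049 (by decide +kernel)

end Cfsg.Agent.Helper4.TC.SuzKM2
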