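import Cfsg.Agent.Lib.Helper4.TC.SuzKM2Model
import Cfsg.Agent.Lib.Helper4.TC.Strict

set_option autoImplicit false
set_option maxRecDepth 100000
set_option linter.unusedVariables false
set_option Elab.async false

namespace Cfsg.Agent.Helper4.TC.SuzKM2

open Cfsg.Agent.Helper4.TC

theorem rel768 : relsRange mdata basesM 47 36096 = true := relsRange_strict mdata basesM 47 36096 (by decide +kernel)
theorem rel769 : relsRange mdata basesM 47 36143 = true := relsRange_strict mdata basesM 47 36143 (by decide +kernel)
theorem rel770 : relsRange mdata basesM 47 36190 = true := relsRange_strict mdata basesM 47 36190 (by decide +kernel)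
theorem rel771 : relsRange mdata basesM 47 36237 = true := relsRange_strict mdata basesM 47 36237 (by decide +kernel)
theorem rel772 : relsRange mdata basesM 47 36284 = true := relsRange_strict mdata basesM 47 36284 (by decide +kernel)
theorem rel773 : relsRange mdata basesM 47 36331 = true := relsRange_strict mdata basesM 47 36331 (by decide +kernel)
theorem rel774 : relsRange mdata basesM 47 36378 = true := relsRange_strict mdata basesM 47 36378 (by decide +kernel)
theorem rel775 : relsRange mdata basesM 47 36425 = true := relsRange_strict mdata basesM 47 36425 (by decide +kernel)

end Cfsg.Agent.Helper4.TC.SuzKM2
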