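import Cfsg.Agent.Lib.Helper4.TC.SuzKM2Model
import Cfsg.Agent.Lib.Helper4.TC.Strict

set_option autoImplicit false
set_option maxRecDepth 100000
set_option linter.unusedVariables false
set_option Elab.async false

namespace Cfsg.Agent.Helper4.TC.SuzKM2

open Cfsg.Agent.Helper4.TC

theorem rel776 : relsRange mdata basesM 47 36472 = true := relsRange_strict mdata basesM 47 36472 (by decide +kernel)
theorem rel777 : relsRange mdata basesM 47 36519 = true := relsRange_strict mdata basesM 47 36519 (by decide +kernel)
theorem rel778 : relsRange mdata basesM 47 36566 = true := relsRange_strict mdata basesM 47 36566 (by decide +kernel)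
theorem rel779 : relsRange mdata basesM 47 36613 = true := relsRange_strict mdata basesM 47 36613 (by decide +kernel)
theorem rel780 : relsRange mdata basesM 47 36660 = true := relsRange_strict mdata basesM 47 36660 (by decide +kernel)
theorem rel781 : relsRange mdata basesM 47 36707 = true := relsRange_strict mdata basesM 47 36707 (by decide +kernel)
theorem rel782 : relsRange mdata basesM 47 36754 = true := relsRange_strict mdata basesM 47 36754 (by decide +kernel)
theorem rel783 : relsRange mdata basesM 47 36801 = true := relsRange_strict mdata basesM 47 36801 (by decide +kernel)

end Cfsg.Agent.Helper4.TC.SuzKM2
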