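import Cfsg.Agent.Lib.Helper4.TC.SuzKM2Model
import Cfsg.Agent.Lib.Helper4.TC.Strict

set_option autoImplicit false
set_option maxRecDepth 100000
set_option linter.unusedVariables false
set_option Elab.async false

namespace Cfsg.Agent.Helper4.TC.SuzKM2

open Cfsg.Agent.Helper4.TC

theorem rel784 : relsRange mdata basesM 47 36848 = true := relsRange_strict mdata basesM 47 36848 (by decide +kernel)
theorem rel785 : relsRange mdata basesM 47 36895 = true := relsRange_strict mdata basesM 47 36895 (by decide +kernel)
theorem rel786 : relsRange mdata basesM 47 36942 = true := relsRange_strict mdata basesM 47 36942 (by decide +kernel)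
theorem rel787 : relsRange mdata basesM 47 36989 = true := relsRange_strict mdata basesM 47 36989 (by decide +kernel)
theorem rel788 : relsRange mdata basesM 47 37036 = true := relsRange_strict mdata basesM 47 37036 (by decide +kernel)
theorem rel789 : relsRange mdata basesM 47 37083 = true := relsRange_strict mdata basesM 47 37083 (by decide +kernel)
theorem rel790 : relsRange mdata basesM 47 37130 = true := relsRange_strict mdata basesM 47 37130 (by decide +kernel)
theorem rel791 : relsRange mdata basesM 47 37177 = true := relsRange_strict mdata basesM 47 37177 (by decide +kernel)

end Cfsg.Agent.Helper4.TC.SuzKM2
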