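import Cfsg.Agent.Lib.Helper4.TC.SuzKM2MC0
import Cfsg.Agent.Lib.Helper4.TC.SuzKM2MC1
import Cfsg.Agent.Lib.Helper4.TC.SuzKM2MC2
import Cfsg.Agent.Lib.Helper4.TC.SuzKM2MC3
import Cfsg.Agent.Lib.Helper4.TC.SuzKM2MC4
import Cfsg.Agent.Lib.Helper4.TC.SuzKM2MC5
import Cfsg.Agent.Lib.Helper4.TC.SuzKM2MC6
import Cfsg.Agent.Lib.Helper4.TC.SuzKM2MC7
import Cfsg.Agent.Lib.Helper4.TC.SuzKM2MC8
import Cfsg.Agent.Lib.Helper4.TC.SuzKM2MC9
import Cfsg.Agent.Lib.Helper4.TC.SuzKM2MC10
import Cfsg.Agent.Lib.Helper4.TC.SuzKM2MC11
import Cfsg.Agent.Lib.Helper4.TC.SuzKM2MC12
import Cfsg.Agent.Lib.Helper4.TC.SuzKM2MC13
import Cfsg.Agent.Lib.Helper4.TC.SuzKM2MC14
import Cfsg.Agent.Lib.Helper4.TC.SuzKM2MC15
import Cfsg.Agent.Lib.Helper4.TC.SuzKM2MC16
import Cfsg.Agent.Lib.Helper4.TC.SuzKM2MC17
import Cfsg.Agent.Lib.Helper4.TC.SuzKM2MC18
import Cfsg.Agent.Lib.Helper4.TC.SuzKM2MC19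
import Cfsg.Agent.Lib.Helper4.TC.SuzKM2MC20
import Cfsg.Agent.Lib.Helper4.TC.SuzKM2MC21
import Cfsg.Agent.Lib.Helper4.TC.SuzKM2MC22
import Cfsg.Agent.Lib.Helper4.TC.SuzKM2MC23
import Cfsg.Agent.Lib.Helper4.TC.SuzKM2MC24
import Cfsg.Agent.Lib.Helper4.TC.SuzKM2MC25
import Cfsg.Agent.Lib.Helper4.TC.SuzKM2MC26
import Cfsg.Agent.Lib.Helper4.TC.SuzKM2MC27
import Cfsg.Agent.Lib.Helper4.TC.SuzKM2MC28
import Cfsg.Agent.Lib.Helper4.TC.SuzKM2MC29
import Cfsg.Agent.Lib.Helper4.TC.SuzKM2MC30
import Cfsg.Agent.Lib.Helper4.TC.SuzKM2MC31
import Cfsg.Agent.Lib.Helper4.TC.SuzKM2MC32
import Cfsg.Agent.Lib.Helper4.TC.SuzKM2MC33
import Cfsg.Agent.Lib.Helper4.TC.SuzKM2MC34
import Cfsg.Agent.Lib.Helper4.TC.SuzKM2MC35
import Cfsg.Agent.Lib.Helper4.TC.SuzKM2MC36
import Cfsg.Agent.Lib.Helper4.TC.SuzKM2MC37
import Cfsg.Agent.Lib.Helper4.TC.SuzKM2MC38
import Cfsg.Agent.Lib.Helper4.TC.SuzKM2MC39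
import Cfsg.Agent.Lib.Helper4.TC.SuzKM2MC40
import Cfsg.Agent.Lib.Helper4.TC.SuzKM2MC41
import Cfsg.Agent.Lib.Helper4.TC.SuzKM2MC42
import Cfsg.Agent.Lib.Helper4.TC.SuzKM2MC43
import Cfsg.Agent.Lib.Helper4.TC.SuzKM2MC44
import Cfsg.Agent.Lib.Helper4.TC.SuzKM2MC45
import Cfsg.Agent.Lib.Helper4.TC.SuzKM2MC46
import Cfsg.Agent.Lib.Helper4.TC.SuzKM2MC47
import Cfsg.Agent.Lib.Helper4.TC.SuzKM2MC48
import Cfsg.Agent.Lib.Helper4.TC.SuzKM2MC49
import Cfsg.Agent.Lib.Helper4.TC.SuzKM2MC50
import Cfsg.Agent.Lib.Helper4.TC.SuzKM2MC51
import Cfsg.Agent.Lib.Helper4.TC.SuzKM2MC52
import Cfsg.Agent.Lib.Helper4.TC.SuzKM2MC53
import Cfsg.Agent.Lib.Helper4.TC.SuzKM2MC54
import Cfsg.Agent.Lib.Helper4.TC.SuzKM2MC55
import Cfsg.Agent.Lib.Helper4.TC.SuzKM2MC56
import Cfsg.Agent.Lib.Helper4.TC.SuzKM2MC57
import Cfsg.Agent.Lib.Helper4.TC.SuzKM2MC58
import Cfsg.Agent.Lib.Helper4.TC.SuzKM2MC59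
import Cfsg.Agent.Lib.Helper4.TC.SuzKM2MC60
import Cfsg.Agent.Lib.Helper4.TC.SuzKM2MC61
import Cfsg.Agent.Lib.Helper4.TC.SuzKM2MC62
import Cfsg.Agent.Lib.Helper4.TC.SuzKM2MC63
import Cfsg.Agent.Lib.Helper4.TC.SuzKM2MC64
import Cfsg.Agent.Lib.Helper4.TC.SuzKM2MC65
import Cfsg.Agent.Lib.Helper4.TC.SuzKM2MC66
import Cfsg.Agent.Lib.Helper4.TC.SuzKM2MC67
import Cfsg.Agent.Lib.Helper4.TC.SuzKM2MC68
import Cfsg.Agent.Lib.Helper4.TC.SuzKM2MC69
import Cfsg.Agent.Lib.Helper4.TC.SuzKM2MC70
import Cfsg.Agent.Lib.Helper4.TC.SuzKM2MC71
import Cfsg.Agent.Lib.Helper4.TC.SuzKM2MC72
import Cfsg.Agent.Lib.Helper4.TC.SuzKM2MC73
import Cfsg.Agent.Lib.Helper4.TC.SuzKM2MC74
import Cfsg.Agent.Lib.Helper4.TC.SuzKM2MC75
import Cfsg.Agent.Lib.Helper4.TC.SuzKM2MC76
import Cfsg.Agent.Lib.Helper4.TC.SuzKM2MC77
import Cfsg.Agent.Lib.Helper4.TC.SuzKM2MC78
import Cfsg.Agent.Lib.Helper4.TC.SuzKM2MC79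
import Cfsg.Agent.Lib.Helper4.TC.SuzKM2MC80
import Cfsg.Agent.Lib.Helper4.TC.SuzKM2MC81
import Cfsg.Agent.Lib.Helper4.TC.SuzKM2MC82
import Cfsg.Agent.Lib.Helper4.TC.SuzKM2MC83
import Cfsg.Agent.Lib.Helper4.TC.SuzKM2MC84
import Cfsg.Agent.Lib.Helper4.TC.SuzKM2MC85
import Cfsg.Agent.Lib.Helper4.TC.SuzKM2MC86
import Cfsg.Agent.Lib.Helper4.TC.SuzKM2MC87
import Cfsg.Agent.Lib.Helper4.TC.SuzKM2MC88
import Cfsg.Agent.Lib.Helper4.TC.SuzKM2MC89
import Cfsg.Agent.Lib.Helper4.TC.SuzKM2MC90
import Cfsg.Agent.Lib.Helper4.TC.SuzKM2MC91
import Cfsg.Agent.Lib.Helper4.TC.SuzKM2MC92
import Cfsg.Agent.Lib.Helper4.TC.SuzKM2MC93
import Cfsg.Agent.Lib.Helper4.TC.SuzKM2MC94
import Cfsg.Agent.Lib.Helper4.TC.SuzKM2MC95
import Cfsg.Agent.Lib.Helper4.TC.SuzKM2MC96
import Cfsg.Agent.Lib.Helper4.TC.SuzKM2MC97
import Cfsg.Agent.Lib.Helper4.TC.SuzKM2MC98
import Cfsg.Agent.Lib.Helper4.TC.SuzKM2MC99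
import Cfsg.Agent.Lib.Helper4.TC.SuzKM2MC100
import Cfsg.Agent.Lib.Helper4.TC.SuzKM2MC101
import Cfsg.Agent.Lib.Helper4.TC.SuzKM2MC102
import Cfsg.Agent.Lib.Helper4.TC.SuzKM2MC103
import Cfsg.Agent.Lib.Helper4.TC.SuzKM2MC104
import Cfsg.Agent.Lib.Helper4.TC.SuzKM2MC105
import Cfsg.Agent.Lib.Helper4.TC.SuzKM2MC106
import Cfsg.Agent.Lib.Helper4.TC.SuzKM2MC107
import Cfsg.Agent.Lib.Helper4.TC.SuzKM2MC108
import Cfsg.Agent.Lib.Helper4.TC.SuzKM2MC109
import Cfsg.Agent.Lib.Helper4.TC.SuzKM2MC110
import Cfsg.Agent.Lib.Helper4.TC.SuzKM2MC111
import Cfsg.Agent.Lib.Helper4.TC.SuzKM2MC112
import Cfsg.Agent.Lib.Helper4.TC.SuzKM2MC113
import Cfsg.Agent.Lib.Helper4.TC.SuzKM2MC114
import Cfsg.Agent.Lib.Helper4.TC.SuzKM2MC115
import Cfsg.Agent.Lib.Helper4.TC.SuzKM2MC116
import Cfsg.Agent.Lib.Helper4.TC.SuzKM2MC117
import Cfsg.Agent.Lib.Helper4.TC.SuzKM2MC118
import Cfsg.Agent.Lib.Helper4.TC.SuzKM2MC119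
import Cfsg.Agent.Lib.Helper4.TC.SuzKM2MC120
import Cfsg.Agent.Lib.Helper4.TC.SuzKM2MC121
import Cfsg.Agent.Lib.Helper4.TC.SuzKM2MC122
import Cfsg.Agent.Lib.Helper4.TC.SuzKM2MC123
import Cfsg.Agent.Lib.Helper4.TC.SuzKM2MC124
import Cfsg.Agent.Lib.Helper4.TC.SuzKM2MC125
import Cfsg.Agent.Lib.Helper4.TC.SuzKM2MC126
import Cfsg.Agent.Lib.Helper4.TC.SuzKM2MC127
import Cfsg.Agent.Lib.Helper4.TC.SuzKM2MC128
import Cfsg.Agent.Lib.Helper4.TC.SuzKM2MC129
import Cfsg.Agent.Lib.Helper4.TC.SuzKM2MC130
import Cfsg.Agent.Lib.Helper4.TC.SuzKM2MC131
import Cfsg.Agent.Lib.Helper4.TC.SuzKM2MC132
import Cfsg.Agent.Lib.Helper4.TC.SuzKM2MC133
import Cfsg.Agent.Lib.Helper4.TC.SuzKM2MC134
import Cfsg.Agent.Lib.Helper4.TC.SuzKM2MC135
import Cfsg.Agent.Lib.Helper4.TC.SuzKM2MC136
import Cfsg.Agent.Lib.Helper4.TC.SuzKM2MC137
import Cfsg.Agent.Lib.Helper4.TC.SuzKM2MC138
import Cfsg.Agent.Lib.Helper4.TC.SuzKM2MC139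
import Cfsg.Agent.Lib.Helper4.TC.SuzKM2MC140
import Cfsg.Agent.Lib.Helper4.TC.SuzKM2MC141
import Cfsg.Agent.Lib.Helper4.TC.SuzKM2MC142
import Cfsg.Agent.Lib.Helper4.TC.SuzKM2MC143
import Cfsg.Agent.Lib.Helper4.TC.SuzKM2MC144
import Cfsg.Agent.Lib.Helper4.TC.SuzKM2MC145
import Cfsg.Agent.Lib.Helper4.TC.SuzKM2MC146
import Cfsg.Agent.Lib.Helper4.TC.SuzKM2MC147
import Cfsg.Agent.Lib.Helper4.TC.SuzKM2MC148
import Cfsg.Agent.Lib.Helper4.TC.SuzKM2MC149
import Cfsg.Agent.Lib.Helper4.TC.SuzKM2MC150
import Cfsg.Agent.Lib.Helper4.TC.SuzKM2MC151
import Cfsg.Agent.Lib.Helper4.TC.SuzKM2MC152
import Cfsg.Agent.Lib.Helper4.TC.SuzKM2MC153
import Cfsg.Agent.Lib.Helper4.TC.SuzKM2MC154
import Cfsg.Agent.Lib.Helper4.TC.SuzKM2MC155
import Cfsg.Agent.Lib.Helper4.TC.SuzKM2MC156
import Cfsg.Agent.Lib.Helper4.TC.SuzKM2MC157
import Cfsg.Agent.Lib.Helper4.TC.SuzKM2MC158
import Cfsg.Agent.Lib.Helper4.TC.SuzKM2MC159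
import Cfsg.Agent.Lib.Helper4.TC.SuzKM2MC160
import Cfsg.Agent.Lib.Helper4.TC.SuzKM2MC161
import Cfsg.Agent.Lib.Helper4.TC.SuzKM2MC162
import Cfsg.Agent.Lib.Helper4.TC.SuzKM2MC163
import Cfsg.Agent.Lib.Helper4.TC.SuzKM2MC164
import Cfsg.Agent.Lib.Helper4.TC.SuzKM2MC165
import Cfsg.Agent.Lib.Helper4.TC.SuzKM2MC166
import Cfsg.Agent.Lib.Helper4.TC.SuzKM2MC167
import Cfsg.Agent.Lib.Helper4.TC.SuzKM2MC168
import Cfsg.Agent.Lib.Helper4.TC.SuzKM2MC169
import Cfsg.Agent.Lib.Helper4.TC.SuzKM2MC170
import Cfsg.Agent.Lib.Helper4.TC.SuzKM2MC171
import Cfsg.Agent.Lib.Helper4.TC.SuzKM2MC172
import Cfsg.Agent.Lib.Helper4.TC.SuzKM2MC173
import Cfsg.Agent.Lib.Helper4.TC.SuzKM2MC174
import Cfsg.Agent.Lib.Helper4.TC.SuzKM2MC175
import Cfsg.Agent.Lib.Helper4.TC.SuzKM2MC176
import Cfsg.Agent.Lib.Helper4.TC.Perm

set_option autoImplicit false
set_option maxRecDepth 100000
set_option linter.unusedVariables false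

namespace Cfsg.Agent.Helper4.TC.SuzKM2

open Cfsg.Agent.Helper4.TC

theorem model_ok : ModelOK mdata basesM [] := by
  refine ⟨by decide, ?_, ?_, wordsLettersOK_sound _ _ relc_ok, ?_, ?_, ?_⟩
  · intro k hk
    have hk' : k < 65520 := hk
    by_cases hh1 : k < 31998
    · skip
      by_cases hh2 : k < 15999
      · skip
        by_cases hh3 : k < 5333
        · skip
          exact invRange_sound mdata 5333 0 inv0 k (by omega) (by omega)
        · skip
          by_cases hh4 : k < 10666
          · skip
            exact invRange_sound mdata 5333 5333 inv1 k (by omega) (by omega)
          · skip
            exact invRange_sound mdata 5333 10666 inv2 k (by omega) (by omega)
      · skip
        by_cases hh5 : k < 21332
        · skip
          exact invRange_sound mdata 5333 15999 inv3 k (by omega) (by omega)
        · skip
          by_cases hh6 : k < 26665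
          · skip
            exact invRange_sound mdata 5333 21332 inv4 k (by omega) (by omega)
          · skip
            exact invRange_sound mdata 5333 26665 inv5 k (by omega) (by omega)
    · skip
      by_cases hh7 : k < 47997
      · skip
        by_cases hh8 : k < 37331
        · skip
          exact invRange_sound mdata 5333 31998 inv6 k (by omega) (by omega)
        · skip
          by_cases hh9 : k < 42664
          · skip
            exact invRange_sound mdata 5333 37331 inv7 k (by omega) (by omega)
          · skip
            exact invRange_sound mdata 5333 42664 inv8 k (by omega) (by omega)
      · skip
        by_cases hh10 : k < 58663
        · skip
          by_cases hh11 : k < 53330
          · skip
            exact invRange_sound mdata 5333 47997 inv9 k (by omega) (by omega)
          · skip
            exact invRange_sound mdata 5333 53330 inv10 k (by omega) (by omega)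
        · skip
          by_cases hh12 : k < 63996
          · skip
            exact invRange_sound mdata 5333 58663 inv11 k (by omega) (by omega)
          · skip
            exact invRange_sound mdata 1524 63996 inv12 k (by omega) (by omega)
  · intro k hk
    have hk' : k < 65520 := hk
    by_cases hh1 : k < 32759
    · skip
      by_cases hh2 : k < 16356
      · skip
        by_cases hh3 : k < 8178
        · skip
          by_cases hh4 : k < 4089
          · skip
            by_cases hh5 : k < 2021
            · skip
              by_cases hh6 : k < 987
              · skip
                by_cases hh7 : k < 470
                · skip
                  by_cases hh8 : k < 235
                  · skip
                    by_cases hh9 : k < 94
                    · skip
                      by_cases hh10 : k < 47
                      · skip
                        exact relsRange_sound mdata basesM 47 0 rel0 k (by omega) (by omega)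
                      · skip
                        exact relsRange_sound mdata basesM 47 47 rel1 k (by omega) (by omega)
                    · skip
                      by_cases hh11 : k < 141
                      · skip
                        exact relsRange_sound mdata basesM 47 94 rel2 k (by omega) (by omega)
                      · skip
                        by_cases hh12 : k < 188
                        · skip
                          exact relsRange_sound mdata basesM 47 141 rel3 k (by omega) (by omega)
                        · skip
                          exact relsRange_sound mdata basesM 47 188 rel4 k (by omega) (by omega)
                  · skip
                    by_cases hh13 : k < 329
                    · skip
                      by_cases hh14 : k < 282
                      · skip
                        exact relsRange_sound mdata basesM 47 235 rel5 k (by omega) (by omega)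
                      · skip
                        exact relsRange_sound mdata basesM 47 282 rel6 k (by omega) (by omega)
                    · skip
                      by_cases hh15 : k < 376
                      · skip
                        exact relsRange_sound mdata basesM 47 329 rel7 k (by omega) (by omega)
                      · skip
                        by_cases hh16 : k < 423
                        · skip
                          exact relsRange_sound mdata basesM 47 376 rel8 k (by omega) (by omega)
                        · skip
                          exact relsRange_sound mdata basesM 47 423 rel9 k (by omega) (by omega)
                · skip
                  by_cases hh17 : k < 705
                  · skip
                    by_cases hh18 : k < 564
                    · skip
                      by_cases hh19 : k < 517
                      · skip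
                        exact relsRange_sound mdata basesM 47 470 rel10 k (by omega) (by omega)
                      · skip
                        exact relsRange_sound mdata basesM 47 517 rel11 k (by omega) (by omega)
                    · skip
                      by_cases hh20 : k < 611
                      · skip
                        exact relsRange_sound mdata basesM 47 564 rel12 k (by omega) (by omega)
                      · skip
                        by_cases hh21 : k < 658
                        · skip
                          exact relsRange_sound mdata basesM 47 611 rel13 k (by omega) (by omega)
                        · skip
                          exact relsRange_sound mdata basesM 47 658 rel14 k (by omega) (by omega)
                  · skip
                    by_cases hh22 : k < 846
                    · skip
                      by_cases hh23 : k < 752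
                      · skip
                        exact relsRange_sound mdata basesM 47 705 rel15 k (by omega) (by omega)
                      · skip
                        by_cases hh24 : k < 799
                        · skip
                          exact relsRange_sound mdata basesM 47 752 rel16 k (by omega) (by omega)
                        · skip
                          exact relsRange_sound mdata basesM 47 799 rel17 k (by omega) (by omega)
                    · skip
                      by_cases hh25 : k < 893
                      · skip
                        exact relsRange_sound mdata basesM 47 846 rel18 k (by omega) (by omega)
                      · skip
                        by_cases hh26 : k < 940
                        · skip
                          exact relsRange_sound mdata basesM 47 893 rel19 k (by omega) (by omega)
                        · skip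
                          exact relsRange_sound mdata basesM 47 940 rel20 k (by omega) (by omega)
              · skip
                by_cases hh27 : k < 1504
                · skip
                  by_cases hh28 : k < 1222
                  · skip
                    by_cases hh29 : k < 1081
                    · skip
                      by_cases hh30 : k < 1034
                      · skip
                        exact relsRange_sound mdata basesM 47 987 rel21 k (by omega) (by omega)
                      · skip
                        exact relsRange_sound mdata basesM 47 1034 rel22 k (by omega) (by omega)
                    · skip
                      by_cases hh31 : k < 1128
                      · skip
                        exact relsRange_sound mdata basesM 47 1081 rel23 k (by omega) (by omega)
                      · skip
                        by_cases hh32 : k < 1175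
                        · skip
                          exact relsRange_sound mdata basesM 47 1128 rel24 k (by omega) (by omega)
                        · skip
                          exact relsRange_sound mdata basesM 47 1175 rel25 k (by omega) (by omega)
                  · skip
                    by_cases hh33 : k < 1363
                    · skip
                      by_cases hh34 : k < 1269
                      · skip
                        exact relsRange_sound mdata basesM 47 1222 rel26 k (by omega) (by omega)
                      · skip
                        by_cases hh35 : k < 1316
                        · skip
                          exact relsRange_sound mdata basesM 47 1269 rel27 k (by omega) (by omega)
                        · skip
                          exact relsRange_sound mdata basesM 47 1316 rel28 k (by omega) (by omega)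
                    · skip
                      by_cases hh36 : k < 1410
                      · skip
                        exact relsRange_sound mdata basesM 47 1363 rel29 k (by omega) (by omega)
                      · skip
                        by_cases hh37 : k < 1457
                        · skip
                          exact relsRange_sound mdata basesM 47 1410 rel30 k (by omega) (by omega)
                        · skip
                          exact relsRange_sound mdata basesM 47 1457 rel31 k (by omega) (by omega)
                · skip
                  by_cases hh38 : k < 1739
                  · skip
                    by_cases hh39 : k < 1598
                    · skip
                      by_cases hh40 : k < 1551
                      · skip
                        exact relsRange_sound mdata basesM 47 1504 rel32 k (by omega) (by omega)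
                      · skip
                        exact relsRange_sound mdata basesM 47 1551 rel33 k (by omega) (by omega)
                    · skip
                      by_cases hh41 : k < 1645
                      · skip
                        exact relsRange_sound mdata basesM 47 1598 rel34 k (by omega) (by omega)
                      · skip
                        by_cases hh42 : k < 1692
                        · skip
                          exact relsRange_sound mdata basesM 47 1645 rel35 k (by omega) (by omega)
                        · skip
                          exact relsRange_sound mdata basesM 47 1692 rel36 k (by omega) (by omega)
                  · skip
                    by_cases hh43 : k < 1880
                    · skip
                      by_cases hh44 : k < 1786
                      · skip
                        exact relsRange_sound mdata basesM 47 1739 rel37 k (by omega) (by omega)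
                      · skip
                        by_cases hh45 : k < 1833
                        · skip
                          exact relsRange_sound mdata basesM 47 1786 rel38 k (by omega) (by omega)
                        · skip
                          exact relsRange_sound mdata basesM 47 1833 rel39 k (by omega) (by omega)
                    · skip
                      by_cases hh46 : k < 1927
                      · skip
                        exact relsRange_sound mdata basesM 47 1880 rel40 k (by omega) (by omega)
                      · skip
                        by_cases hh47 : k < 1974
                        · skip
                          exact relsRange_sound mdata basesM 47 1927 rel41 k (by omega) (by omega)
                        · skip
                          exact relsRange_sound mdata basesM 47 1974 rel42 k (by omega) (by omega)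
            · skip
              by_cases hh48 : k < 3055
              · skip
                by_cases hh49 : k < 2538
                · skip
                  by_cases hh50 : k < 2256
                  · skip
                    by_cases hh51 : k < 2115
                    · skip
                      by_cases hh52 : k < 2068
                      · skip
                        exact relsRange_sound mdata basesM 47 2021 rel43 k (by omega) (by omega)
                      · skip
                        exact relsRange_sound mdata basesM 47 2068 rel44 k (by omega) (by omega)
                    · skip
                      by_cases hh53 : k < 2162
                      · skip
                        exact relsRange_sound mdata basesM 47 2115 rel45 k (by omega) (by omega)
                      · skip
                        by_cases hh54 : k < 2209
                        · skip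
                          exact relsRange_sound mdata basesM 47 2162 rel46 k (by omega) (by omega)
                        · skip
                          exact relsRange_sound mdata basesM 47 2209 rel47 k (by omega) (by omega)
                  · skip
                    by_cases hh55 : k < 2397
                    · skip
                      by_cases hh56 : k < 2303
                      · skip
                        exact relsRange_sound mdata basesM 47 2256 rel48 k (by omega) (by omega)
                      · skip
                        by_cases hh57 : k < 2350
                        · skip
                          exact relsRange_sound mdata basesM 47 2303 rel49 k (by omega) (by omega)
                        · skip
                          exact relsRange_sound mdata basesM 47 2350 rel50 k (by omega) (by omega)
                    · skip
                      by_cases hh58 : k < 2444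
                      · skip
                        exact relsRange_sound mdata basesM 47 2397 rel51 k (by omega) (by omega)
                      · skip
                        by_cases hh59 : k < 2491
                        · skip
                          exact relsRange_sound mdata basesM 47 2444 rel52 k (by omega) (by omega)
                        · skip
                          exact relsRange_sound mdata basesM 47 2491 rel53 k (by omega) (by omega)
                · skip
                  by_cases hh60 : k < 2773
                  · skip
                    by_cases hh61 : k < 2632
                    · skip
                      by_cases hh62 : k < 2585
                      · skip
                        exact relsRange_sound mdata basesM 47 2538 rel54 k (by omega) (by omega)
                      · skip
                        exact relsRange_sound mdata basesM 47 2585 rel55 k (by omega) (by omega)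
                    · skip
                      by_cases hh63 : k < 2679
                      · skip
                        exact relsRange_sound mdata basesM 47 2632 rel56 k (by omega) (by omega)
                      · skip
                        by_cases hh64 : k < 2726
                        · skip
                          exact relsRange_sound mdata basesM 47 2679 rel57 k (by omega) (by omega)
                        · skip
                          exact relsRange_sound mdata basesM 47 2726 rel58 k (by omega) (by omega)
                  · skip
                    by_cases hh65 : k < 2914
                    · skip
                      by_cases hh66 : k < 2820
                      · skip
                        exact relsRange_sound mdata basesM 47 2773 rel59 k (by omega) (by omega)
                      · skip
                        by_cases hh67 : k < 2867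
                        · skip
                          exact relsRange_sound mdata basesM 47 2820 rel60 k (by omega) (by omega)
                        · skip
                          exact relsRange_sound mdata basesM 47 2867 rel61 k (by omega) (by omega)
                    · skip
                      by_cases hh68 : k < 2961
                      · skip
                        exact relsRange_sound mdata basesM 47 2914 rel62 k (by omega) (by omega)
                      · skip
                        by_cases hh69 : k < 3008
                        · skip
                          exact relsRange_sound mdata basesM 47 2961 rel63 k (by omega) (by omega)
                        · skip
                          exact relsRange_sound mdata basesM 47 3008 rel64 k (by omega) (by omega)
              · skip
                by_cases hh70 : k < 3572
                · skip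
                  by_cases hh71 : k < 3290
                  · skip
                    by_cases hh72 : k < 3149
                    · skip
                      by_cases hh73 : k < 3102
                      · skip
                        exact relsRange_sound mdata basesM 47 3055 rel65 k (by omega) (by omega)
                      · skip
                        exact relsRange_sound mdata basesM 47 3102 rel66 k (by omega) (by omega)
                    · skip
                      by_cases hh74 : k < 3196
                      · skip
                        exact relsRange_sound mdata basesM 47 3149 rel67 k (by omega) (by omega)
                      · skip
                        by_cases hh75 : k < 3243
                        · skip
                          exact relsRange_sound mdata basesM 47 3196 rel68 k (by omega) (by omega)
                        · skip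
                          exact relsRange_sound mdata basesM 47 3243 rel69 k (by omega) (by omega)
                  · skip
                    by_cases hh76 : k < 3431
                    · skip
                      by_cases hh77 : k < 3337
                      · skip
                        exact relsRange_sound mdata basesM 47 3290 rel70 k (by omega) (by omega)
                      · skip
                        by_cases hh78 : k < 3384
                        · skip
                          exact relsRange_sound mdata basesM 47 3337 rel71 k (by omega) (by omega)
                        · skip
                          exact relsRange_sound mdata basesM 47 3384 rel72 k (by omega) (by omega)
                    · skip
                      by_cases hh79 : k < 3478
                      · skip
                        exact relsRange_sound mdata basesM 47 3431 rel73 k (by omega) (by omega)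
                      · skip
                        by_cases hh80 : k < 3525
                        · skip
                          exact relsRange_sound mdata basesM 47 3478 rel74 k (by omega) (by omega)
                        · skip
                          exact relsRange_sound mdata basesM 47 3525 rel75 k (by omega) (by omega)
                · skip
                  by_cases hh81 : k < 3807
                  · skip
                    by_cases hh82 : k < 3666
                    · skip
                      by_cases hh83 : k < 3619
                      · skip
                        exact relsRange_sound mdata basesM 47 3572 rel76 k (by omega) (by omega)
                      · skip
                        exact relsRange_sound mdata basesM 47 3619 rel77 k (by omega) (by omega)
                    · skip
                      by_cases hh84 : k < 3713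
                      · skip
                        exact relsRange_sound mdata basesM 47 3666 rel78 k (by omega) (by omega)
                      · skip
                        by_cases hh85 : k < 3760
                        · skip
                          exact relsRange_sound mdata basesM 47 3713 rel79 k (by omega) (by omega)
                        · skip
                          exact relsRange_sound mdata basesM 47 3760 rel80 k (by omega) (by omega)
                  · skip
                    by_cases hh86 : k < 3948
                    · skip
                      by_cases hh87 : k < 3854
                      · skip
                        exact relsRange_sound mdata basesM 47 3807 rel81 k (by omega) (by omega)
                      · skip
                        by_cases hh88 : k < 3901
                        · skip
                          exact relsRange_sound mdata basesM 47 3854 rel82 k (by omega) (by omega)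
                        · skip
                          exact relsRange_sound mdata basesM 47 3901 rel83 k (by omega) (by omega)
                    · skip
                      by_cases hh89 : k < 3995
                      · skip
                        exact relsRange_sound mdata basesM 47 3948 rel84 k (by omega) (by omega)
                      · skip
                        by_cases hh90 : k < 4042
                        · skip
                          exact relsRange_sound mdata basesM 47 3995 rel85 k (by omega) (by omega)
                        · skip
                          exact relsRange_sound mdata basesM 47 4042 rel86 k (by omega) (by omega)
          · skip
            by_cases hh91 : k < 6110
            · skip
              by_cases hh92 : k < 5076
              · skip
                by_cases hh93 : k < 4559
                · skip
                  by_cases hh94 : k < 4324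
                  · skip
                    by_cases hh95 : k < 4183
                    · skip
                      by_cases hh96 : k < 4136
                      · skip
                        exact relsRange_sound mdata basesM 47 4089 rel87 k (by omega) (by omega)
                      · skip
                        exact relsRange_sound mdata basesM 47 4136 rel88 k (by omega) (by omega)
                    · skip
                      by_cases hh97 : k < 4230
                      · skip
                        exact relsRange_sound mdata basesM 47 4183 rel89 k (by omega) (by omega)
                      · skip
                        by_cases hh98 : k < 4277
                        · skip
                          exact relsRange_sound mdata basesM 47 4230 rel90 k (by omega) (by omega)
                        · skip
                          exact relsRange_sound mdata basesM 47 4277 rel91 k (by omega) (by omega)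
                  · skip
                    by_cases hh99 : k < 4418
                    · skip
                      by_cases hh100 : k < 4371
                      · skip
                        exact relsRange_sound mdata basesM 47 4324 rel92 k (by omega) (by omega)
                      · skip
                        exact relsRange_sound mdata basesM 47 4371 rel93 k (by omega) (by omega)
                    · skip
                      by_cases hh101 : k < 4465
                      · skip
                        exact relsRange_sound mdata basesM 47 4418 rel94 k (by omega) (by omega)
                      · skip
                        by_cases hh102 : k < 4512
                        · skip
                          exact relsRange_sound mdata basesM 47 4465 rel95 k (by omega) (by omega)
                        · skip
                          exact relsRange_sound mdata basesM 47 4512 rel96 k (by omega) (by omega)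
                · skip
                  by_cases hh103 : k < 4794
                  · skip
                    by_cases hh104 : k < 4653
                    · skip
                      by_cases hh105 : k < 4606
                      · skip
                        exact relsRange_sound mdata basesM 47 4559 rel97 k (by omega) (by omega)
                      · skip
                        exact relsRange_sound mdata basesM 47 4606 rel98 k (by omega) (by omega)
                    · skip
                      by_cases hh106 : k < 4700
                      · skip
                        exact relsRange_sound mdata basesM 47 4653 rel99 k (by omega) (by omega)
                      · skip
                        by_cases hh107 : k < 4747
                        · skip
                          exact relsRange_sound mdata basesM 47 4700 rel100 k (by omega) (by omega)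
                        · skip
                          exact relsRange_sound mdata basesM 47 4747 rel101 k (by omega) (by omega)
                  · skip
                    by_cases hh108 : k < 4935
                    · skip
                      by_cases hh109 : k < 4841
                      · skip
                        exact relsRange_sound mdata basesM 47 4794 rel102 k (by omega) (by omega)
                      · skip
                        by_cases hh110 : k < 4888
                        · skip
                          exact relsRange_sound mdata basesM 47 4841 rel103 k (by omega) (by omega)
                        · skip
                          exact relsRange_sound mdata basesM 47 4888 rel104 k (by omega) (by omega)
                    · skip
                      by_cases hh111 : k < 4982
                      · skip
                        exact relsRange_sound mdata basesM 47 4935 rel105 k (by omega) (by omega)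
                      · skip
                        by_cases hh112 : k < 5029
                        · skip
                          exact relsRange_sound mdata basesM 47 4982 rel106 k (by omega) (by omega)
                        · skip
                          exact relsRange_sound mdata basesM 47 5029 rel107 k (by omega) (by omega)
              · skip
                by_cases hh113 : k < 5593
                · skip
                  by_cases hh114 : k < 5311
                  · skip
                    by_cases hh115 : k < 5170
                    · skip
                      by_cases hh116 : k < 5123
                      · skip
                        exact relsRange_sound mdata basesM 47 5076 rel108 k (by omega) (by omega)
                      · skip
                        exact relsRange_sound mdata basesM 47 5123 rel109 k (by omega) (by omega)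
                    · skip
                      by_cases hh117 : k < 5217
                      · skip
                        exact relsRange_sound mdata basesM 47 5170 rel110 k (by omega) (by omega)
                      · skip
                        by_cases hh118 : k < 5264
                        · skip
                          exact relsRange_sound mdata basesM 47 5217 rel111 k (by omega) (by omega)
                        · skip
                          exact relsRange_sound mdata basesM 47 5264 rel112 k (by omega) (by omega)
                  · skip
                    by_cases hh119 : k < 5452
                    · skip
                      by_cases hh120 : k < 5358
                      · skip
                        exact relsRange_sound mdata basesM 47 5311 rel113 k (by omega) (by omega)
                      · skip
                        by_cases hh121 : k < 5405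
                        · skip
                          exact relsRange_sound mdata basesM 47 5358 rel114 k (by omega) (by omega)
                        · skip
                          exact relsRange_sound mdata basesM 47 5405 rel115 k (by omega) (by omega)
                    · skip
                      by_cases hh122 : k < 5499
                      · skip
                        exact relsRange_sound mdata basesM 47 5452 rel116 k (by omega) (by omega)
                      · skip
                        by_cases hh123 : k < 5546
                        · skip
                          exact relsRange_sound mdata basesM 47 5499 rel117 k (by omega) (by omega)
                        · skip
                          exact relsRange_sound mdata basesM 47 5546 rel118 k (by omega) (by omega)
                · skip
                  by_cases hh124 : k < 5828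
                  · skip
                    by_cases hh125 : k < 5687
                    · skip
                      by_cases hh126 : k < 5640
                      · skip
                        exact relsRange_sound mdata basesM 47 5593 rel119 k (by omega) (by omega)
                      · skip
                        exact relsRange_sound mdata basesM 47 5640 rel120 k (by omega) (by omega)
                    · skip
                      by_cases hh127 : k < 5734
                      · skip
                        exact relsRange_sound mdata basesM 47 5687 rel121 k (by omega) (by omega)
                      · skip
                        by_cases hh128 : k < 5781
                        · skip
                          exact relsRange_sound mdata basesM 47 5734 rel122 k (by omega) (by omega)
                        · skip
                          exact relsRange_sound mdata basesM 47 5781 rel123 k (by omega) (by omega)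
                  · skip
                    by_cases hh129 : k < 5969
                    · skip
                      by_cases hh130 : k < 5875
                      · skip
                        exact relsRange_sound mdata basesM 47 5828 rel124 k (by omega) (by omega)
                      · skip
                        by_cases hh131 : k < 5922
                        · skip
                          exact relsRange_sound mdata basesM 47 5875 rel125 k (by omega) (by omega)
                        · skip
                          exact relsRange_sound mdata basesM 47 5922 rel126 k (by omega) (by omega)
                    · skip
                      by_cases hh132 : k < 6016
                      · skip
                        exact relsRange_sound mdata basesM 47 5969 rel127 k (by omega) (by omega)
                      · skip
                        by_cases hh133 : k < 6063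
                        · skip
                          exact relsRange_sound mdata basesM 47 6016 rel128 k (by omega) (by omega)
                        · skip
                          exact relsRange_sound mdata basesM 47 6063 rel129 k (by omega) (by omega)
            · skip
              by_cases hh134 : k < 7144
              · skip
                by_cases hh135 : k < 6627
                · skip
                  by_cases hh136 : k < 6345
                  · skip
                    by_cases hh137 : k < 6204
                    · skip
                      by_cases hh138 : k < 6157
                      · skip
                        exact relsRange_sound mdata basesM 47 6110 rel130 k (by omega) (by omega)
                      · skip
                        exact relsRange_sound mdata basesM 47 6157 rel131 k (by omega) (by omega)
                    · skip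
                      by_cases hh139 : k < 6251
                      · skip
                        exact relsRange_sound mdata basesM 47 6204 rel132 k (by omega) (by omega)
                      · skip
                        by_cases hh140 : k < 6298
                        · skip
                          exact relsRange_sound mdata basesM 47 6251 rel133 k (by omega) (by omega)
                        · skip
                          exact relsRange_sound mdata basesM 47 6298 rel134 k (by omega) (by omega)
                  · skip
                    by_cases hh141 : k < 6486
                    · skip
                      by_cases hh142 : k < 6392
                      · skip
                        exact relsRange_sound mdata basesM 47 6345 rel135 k (by omega) (by omega)
                      · skip
                        by_cases hh143 : k < 6439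
                        · skip
                          exact relsRange_sound mdata basesM 47 6392 rel136 k (by omega) (by omega)
                        · skip
                          exact relsRange_sound mdata basesM 47 6439 rel137 k (by omega) (by omega)
                    · skip
                      by_cases hh144 : k < 6533
                      · skip
                        exact relsRange_sound mdata basesM 47 6486 rel138 k (by omega) (by omega)
                      · skip
                        by_cases hh145 : k < 6580
                        · skip
                          exact relsRange_sound mdata basesM 47 6533 rel139 k (by omega) (by omega)
                        · skip
                          exact relsRange_sound mdata basesM 47 6580 rel140 k (by omega) (by omega)
                · skip
                  by_cases hh146 : k < 6862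
                  · skip
                    by_cases hh147 : k < 6721
                    · skip
                      by_cases hh148 : k < 6674
                      · skip
                        exact relsRange_sound mdata basesM 47 6627 rel141 k (by omega) (by omega)
                      · skip
                        exact relsRange_sound mdata basesM 47 6674 rel142 k (by omega) (by omega)
                    · skip
                      by_cases hh149 : k < 6768
                      · skip
                        exact relsRange_sound mdata basesM 47 6721 rel143 k (by omega) (by omega)
                      · skip
                        by_cases hh150 : k < 6815
                        · skip
                          exact relsRange_sound mdata basesM 47 6768 rel144 k (by omega) (by omega)
                        · skip
                          exact relsRange_sound mdata basesM 47 6815 rel145 k (by omega) (by omega)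
                  · skip
                    by_cases hh151 : k < 7003
                    · skip
                      by_cases hh152 : k < 6909
                      · skip
                        exact relsRange_sound mdata basesM 47 6862 rel146 k (by omega) (by omega)
                      · skip
                        by_cases hh153 : k < 6956
                        · skip
                          exact relsRange_sound mdata basesM 47 6909 rel147 k (by omega) (by omega)
                        · skip
                          exact relsRange_sound mdata basesM 47 6956 rel148 k (by omega) (by omega)
                    · skip
                      by_cases hh154 : k < 7050
                      · skip
                        exact relsRange_sound mdata basesM 47 7003 rel149 k (by omega) (by omega)
                      · skip
                        by_cases hh155 : k < 7097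
                        · skip
                          exact relsRange_sound mdata basesM 47 7050 rel150 k (by omega) (by omega)
                        · skip
                          exact relsRange_sound mdata basesM 47 7097 rel151 k (by omega) (by omega)
              · skip
                by_cases hh156 : k < 7661
                · skip
                  by_cases hh157 : k < 7379
                  · skip
                    by_cases hh158 : k < 7238
                    · skip
                      by_cases hh159 : k < 7191
                      · skip
                        exact relsRange_sound mdata basesM 47 7144 rel152 k (by omega) (by omega)
                      · skip
                        exact relsRange_sound mdata basesM 47 7191 rel153 k (by omega) (by omega)
                    · skip
                      by_cases hh160 : k < 7285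
                      · skip
                        exact relsRange_sound mdata basesM 47 7238 rel154 k (by omega) (by omega)
                      · skip
                        by_cases hh161 : k < 7332
                        · skip
                          exact relsRange_sound mdata basesM 47 7285 rel155 k (by omega) (by omega)
                        · skip
                          exact relsRange_sound mdata basesM 47 7332 rel156 k (by omega) (by omega)
                  · skip
                    by_cases hh162 : k < 7520
                    · skip
                      by_cases hh163 : k < 7426
                      · skip
                        exact relsRange_sound mdata basesM 47 7379 rel157 k (by omega) (by omega)
                      · skip
                        by_cases hh164 : k < 7473
                        · skip
                          exact relsRange_sound mdata basesM 47 7426 rel158 k (by omega) (by omega)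
                        · skip
                          exact relsRange_sound mdata basesM 47 7473 rel159 k (by omega) (by omega)
                    · skip
                      by_cases hh165 : k < 7567
                      · skip
                        exact relsRange_sound mdata basesM 47 7520 rel160 k (by omega) (by omega)
                      · skip
                        by_cases hh166 : k < 7614
                        · skip
                          exact relsRange_sound mdata basesM 47 7567 rel161 k (by omega) (by omega)
                        · skip
                          exact relsRange_sound mdata basesM 47 7614 rel162 k (by omega) (by omega)
                · skip
                  by_cases hh167 : k < 7896
                  · skip
                    by_cases hh168 : k < 7755
                    · skip
                      by_cases hh169 : k < 7708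
                      · skip
                        exact relsRange_sound mdata basesM 47 7661 rel163 k (by omega) (by omega)
                      · skip
                        exact relsRange_sound mdata basesM 47 7708 rel164 k (by omega) (by omega)
                    · skip
                      by_cases hh170 : k < 7802
                      · skip
                        exact relsRange_sound mdata basesM 47 7755 rel165 k (by omega) (by omega)
                      · skip
                        by_cases hh171 : k < 7849
                        · skip
                          exact relsRange_sound mdata basesM 47 7802 rel166 k (by omega) (by omega)
                        · skip
                          exact relsRange_sound mdata basesM 47 7849 rel167 k (by omega) (by omega)
                  · skip
                    by_cases hh172 : k < 8037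
                    · skip
                      by_cases hh173 : k < 7943
                      · skip
                        exact relsRange_sound mdata basesM 47 7896 rel168 k (by omega) (by omega)
                      · skip
                        by_cases hh174 : k < 7990
                        · skip
                          exact relsRange_sound mdata basesM 47 7943 rel169 k (by omega) (by omega)
                        · skip
                          exact relsRange_sound mdata basesM 47 7990 rel170 k (by omega) (by omega)
                    · skip
                      by_cases hh175 : k < 8084
                      · skip
                        exact relsRange_sound mdata basesM 47 8037 rel171 k (by omega) (by omega)
                      · skip
                        by_cases hh176 : k < 8131
                        · skip
                          exact relsRange_sound mdata basesM 47 8084 rel172 k (by omega) (by omega)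
                        · skip
                          exact relsRange_sound mdata basesM 47 8131 rel173 k (by omega) (by omega)
        · skip
          by_cases hh177 : k < 12267
          · skip
            by_cases hh178 : k < 10199
            · skip
              by_cases hh179 : k < 9165
              · skip
                by_cases hh180 : k < 8648
                · skip
                  by_cases hh181 : k < 8413
                  · skip
                    by_cases hh182 : k < 8272
                    · skip
                      by_cases hh183 : k < 8225
                      · skip
                        exact relsRange_sound mdata basesM 47 8178 rel174 k (by omega) (by omega)
                      · skip
                        exact relsRange_sound mdata basesM 47 8225 rel175 k (by omega) (by omega)
                    · skip
                      by_cases hh184 : k < 8319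
                      · skip
                        exact relsRange_sound mdata basesM 47 8272 rel176 k (by omega) (by omega)
                      · skip
                        by_cases hh185 : k < 8366
                        · skip
                          exact relsRange_sound mdata basesM 47 8319 rel177 k (by omega) (by omega)
                        · skip
                          exact relsRange_sound mdata basesM 47 8366 rel178 k (by omega) (by omega)
                  · skip
                    by_cases hh186 : k < 8507
                    · skip
                      by_cases hh187 : k < 8460
                      · skip
                        exact relsRange_sound mdata basesM 47 8413 rel179 k (by omega) (by omega)
                      · skip
                        exact relsRange_sound mdata basesM 47 8460 rel180 k (by omega) (by omega)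
                    · skip
                      by_cases hh188 : k < 8554
                      · skip
                        exact relsRange_sound mdata basesM 47 8507 rel181 k (by omega) (by omega)
                      · skip
                        by_cases hh189 : k < 8601
                        · skip
                          exact relsRange_sound mdata basesM 47 8554 rel182 k (by omega) (by omega)
                        · skip
                          exact relsRange_sound mdata basesM 47 8601 rel183 k (by omega) (by omega)
                · skip
                  by_cases hh190 : k < 8883
                  · skip
                    by_cases hh191 : k < 8742
                    · skip
                      by_cases hh192 : k < 8695
                      · skip
                        exact relsRange_sound mdata basesM 47 8648 rel184 k (by omega) (by omega)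
                      · skip
                        exact relsRange_sound mdata basesM 47 8695 rel185 k (by omega) (by omega)
                    · skip
                      by_cases hh193 : k < 8789
                      · skip
                        exact relsRange_sound mdata basesM 47 8742 rel186 k (by omega) (by omega)
                      · skip
                        by_cases hh194 : k < 8836
                        · skip
                          exact relsRange_sound mdata basesM 47 8789 rel187 k (by omega) (by omega)
                        · skip
                          exact relsRange_sound mdata basesM 47 8836 rel188 k (by omega) (by omega)
                  · skip
                    by_cases hh195 : k < 9024
                    · skip
                      by_cases hh196 : k < 8930
                      · skip
                        exact relsRange_sound mdata basesM 47 8883 rel189 k (by omega) (by omega)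
                      · skip
                        by_cases hh197 : k < 8977
                        · skip
                          exact relsRange_sound mdata basesM 47 8930 rel190 k (by omega) (by omega)
                        · skip
                          exact relsRange_sound mdata basesM 47 8977 rel191 k (by omega) (by omega)
                    · skip
                      by_cases hh198 : k < 9071
                      · skip
                        exact relsRange_sound mdata basesM 47 9024 rel192 k (by omega) (by omega)
                      · skip
                        by_cases hh199 : k < 9118
                        · skip
                          exact relsRange_sound mdata basesM 47 9071 rel193 k (by omega) (by omega)
                        · skip
                          exact relsRange_sound mdata basesM 47 9118 rel194 k (by omega) (by omega)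
              · skip
                by_cases hh200 : k < 9682
                · skip
                  by_cases hh201 : k < 9400
                  · skip
                    by_cases hh202 : k < 9259
                    · skip
                      by_cases hh203 : k < 9212
                      · skip
                        exact relsRange_sound mdata basesM 47 9165 rel195 k (by omega) (by omega)
                      · skip
                        exact relsRange_sound mdata basesM 47 9212 rel196 k (by omega) (by omega)
                    · skip
                      by_cases hh204 : k < 9306
                      · skip
                        exact relsRange_sound mdata basesM 47 9259 rel197 k (by omega) (by omega)
                      · skip
                        by_cases hh205 : k < 9353
                        · skip
                          exact relsRange_sound mdata basesM 47 9306 rel198 k (by omega) (by omega)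
                        · skip
                          exact relsRange_sound mdata basesM 47 9353 rel199 k (by omega) (by omega)
                  · skip
                    by_cases hh206 : k < 9541
                    · skip
                      by_cases hh207 : k < 9447
                      · skip
                        exact relsRange_sound mdata basesM 47 9400 rel200 k (by omega) (by omega)
                      · skip
                        by_cases hh208 : k < 9494
                        · skip
                          exact relsRange_sound mdata basesM 47 9447 rel201 k (by omega) (by omega)
                        · skip
                          exact relsRange_sound mdata basesM 47 9494 rel202 k (by omega) (by omega)
                    · skip
                      by_cases hh209 : k < 9588
                      · skip
                        exact relsRange_sound mdata basesM 47 9541 rel203 k (by omega) (by omega)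
                      · skip
                        by_cases hh210 : k < 9635
                        · skip
                          exact relsRange_sound mdata basesM 47 9588 rel204 k (by omega) (by omega)
                        · skip
                          exact relsRange_sound mdata basesM 47 9635 rel205 k (by omega) (by omega)
                · skip
                  by_cases hh211 : k < 9917
                  · skip
                    by_cases hh212 : k < 9776
                    · skip
                      by_cases hh213 : k < 9729
                      · skip
                        exact relsRange_sound mdata basesM 47 9682 rel206 k (by omega) (by omega)
                      · skip
                        exact relsRange_sound mdata basesM 47 9729 rel207 k (by omega) (by omega)
                    · skip
                      by_cases hh214 : k < 9823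
                      · skip
                        exact relsRange_sound mdata basesM 47 9776 rel208 k (by omega) (by omega)
                      · skip
                        by_cases hh215 : k < 9870
                        · skip
                          exact relsRange_sound mdata basesM 47 9823 rel209 k (by omega) (by omega)
                        · skip
                          exact relsRange_sound mdata basesM 47 9870 rel210 k (by omega) (by omega)
                  · skip
                    by_cases hh216 : k < 10058
                    · skip
                      by_cases hh217 : k < 9964
                      · skip
                        exact relsRange_sound mdata basesM 47 9917 rel211 k (by omega) (by omega)
                      · skip
                        by_cases hh218 : k < 10011
                        · skip
                          exact relsRange_sound mdata basesM 47 9964 rel212 k (by omega) (by omega)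
                        · skip
                          exact relsRange_sound mdata basesM 47 10011 rel213 k (by omega) (by omega)
                    · skip
                      by_cases hh219 : k < 10105
                      · skip
                        exact relsRange_sound mdata basesM 47 10058 rel214 k (by omega) (by omega)
                      · skip
                        by_cases hh220 : k < 10152
                        · skip
                          exact relsRange_sound mdata basesM 47 10105 rel215 k (by omega) (by omega)
                        · skip
                          exact relsRange_sound mdata basesM 47 10152 rel216 k (by omega) (by omega)
            · skip
              by_cases hh221 : k < 11233
              · skip
                by_cases hh222 : k < 10716
                · skip
                  by_cases hh223 : k < 10434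
                  · skip
                    by_cases hh224 : k < 10293
                    · skip
                      by_cases hh225 : k < 10246
                      · skip
                        exact relsRange_sound mdata basesM 47 10199 rel217 k (by omega) (by omega)
                      · skip
                        exact relsRange_sound mdata basesM 47 10246 rel218 k (by omega) (by omega)
                    · skip
                      by_cases hh226 : k < 10340
                      · skip
                        exact relsRange_sound mdata basesM 47 10293 rel219 k (by omega) (by omega)
                      · skip
                        by_cases hh227 : k < 10387
                        · skip
                          exact relsRange_sound mdata basesM 47 10340 rel220 k (by omega) (by omega)
                        · skip
                          exact relsRange_sound mdata basesM 47 10387 rel221 k (by omega) (by omega)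
                  · skip
                    by_cases hh228 : k < 10575
                    · skip
                      by_cases hh229 : k < 10481
                      · skip
                        exact relsRange_sound mdata basesM 47 10434 rel222 k (by omega) (by omega)
                      · skip
                        by_cases hh230 : k < 10528
                        · skip
                          exact relsRange_sound mdata basesM 47 10481 rel223 k (by omega) (by omega)
                        · skip
                          exact relsRange_sound mdata basesM 47 10528 rel224 k (by omega) (by omega)
                    · skip
                      by_cases hh231 : k < 10622
                      · skip
                        exact relsRange_sound mdata basesM 47 10575 rel225 k (by omega) (by omega)
                      · skip
                        by_cases hh232 : k < 10669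
                        · skip
                          exact relsRange_sound mdata basesM 47 10622 rel226 k (by omega) (by omega)
                        · skip
                          exact relsRange_sound mdata basesM 47 10669 rel227 k (by omega) (by omega)
                · skip
                  by_cases hh233 : k < 10951
                  · skip
                    by_cases hh234 : k < 10810
                    · skip
                      by_cases hh235 : k < 10763
                      · skip
                        exact relsRange_sound mdata basesM 47 10716 rel228 k (by omega) (by omega)
                      · skip
                        exact relsRange_sound mdata basesM 47 10763 rel229 k (by omega) (by omega)
                    · skip
                      by_cases hh236 : k < 10857
                      · skip
                        exact relsRange_sound mdata basesM 47 10810 rel230 k (by omega) (by omega)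
                      · skip
                        by_cases hh237 : k < 10904
                        · skip
                          exact relsRange_sound mdata basesM 47 10857 rel231 k (by omega) (by omega)
                        · skip
                          exact relsRange_sound mdata basesM 47 10904 rel232 k (by omega) (by omega)
                  · skip
                    by_cases hh238 : k < 11092
                    · skip
                      by_cases hh239 : k < 10998
                      · skip
                        exact relsRange_sound mdata basesM 47 10951 rel233 k (by omega) (by omega)
                      · skip
                        by_cases hh240 : k < 11045
                        · skip
                          exact relsRange_sound mdata basesM 47 10998 rel234 k (by omega) (by omega)
                        · skip
                          exact relsRange_sound mdata basesM 47 11045 rel235 k (by omega) (by omega)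
                    · skip
                      by_cases hh241 : k < 11139
                      · skip
                        exact relsRange_sound mdata basesM 47 11092 rel236 k (by omega) (by omega)
                      · skip
                        by_cases hh242 : k < 11186
                        · skip
                          exact relsRange_sound mdata basesM 47 11139 rel237 k (by omega) (by omega)
                        · skip
                          exact relsRange_sound mdata basesM 47 11186 rel238 k (by omega) (by omega)
              · skip
                by_cases hh243 : k < 11750
                · skip
                  by_cases hh244 : k < 11468
                  · skip
                    by_cases hh245 : k < 11327
                    · skip
                      by_cases hh246 : k < 11280
                      · skip
                        exact relsRange_sound mdata basesM 47 11233 rel239 k (by omega) (by omega)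
                      · skip
                        exact relsRange_sound mdata basesM 47 11280 rel240 k (by omega) (by omega)
                    · skip
                      by_cases hh247 : k < 11374
                      · skip
                        exact relsRange_sound mdata basesM 47 11327 rel241 k (by omega) (by omega)
                      · skip
                        by_cases hh248 : k < 11421
                        · skip
                          exact relsRange_sound mdata basesM 47 11374 rel242 k (by omega) (by omega)
                        · skip
                          exact relsRange_sound mdata basesM 47 11421 rel243 k (by omega) (by omega)
                  · skip
                    by_cases hh249 : k < 11609
                    · skip
                      by_cases hh250 : k < 11515
                      · skip
                        exact relsRange_sound mdata basesM 47 11468 rel244 k (by omega) (by omega)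
                      · skip
                        by_cases hh251 : k < 11562
                        · skip
                          exact relsRange_sound mdata basesM 47 11515 rel245 k (by omega) (by omega)
                        · skip
                          exact relsRange_sound mdata basesM 47 11562 rel246 k (by omega) (by omega)
                    · skip
                      by_cases hh252 : k < 11656
                      · skip
                        exact relsRange_sound mdata basesM 47 11609 rel247 k (by omega) (by omega)
                      · skip
                        by_cases hh253 : k < 11703
                        · skip
                          exact relsRange_sound mdata basesM 47 11656 rel248 k (by omega) (by omega)
                        · skip
                          exact relsRange_sound mdata basesM 47 11703 rel249 k (by omega) (by omega)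
                · skip
                  by_cases hh254 : k < 11985
                  · skip
                    by_cases hh255 : k < 11844
                    · skip
                      by_cases hh256 : k < 11797
                      · skip
                        exact relsRange_sound mdata basesM 47 11750 rel250 k (by omega) (by omega)
                      · skip
                        exact relsRange_sound mdata basesM 47 11797 rel251 k (by omega) (by omega)
                    · skip
                      by_cases hh257 : k < 11891
                      · skip
                        exact relsRange_sound mdata basesM 47 11844 rel252 k (by omega) (by omega)
                      · skip
                        by_cases hh258 : k < 11938
                        · skip
                          exact relsRange_sound mdata basesM 47 11891 rel253 k (by omega) (by omega)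
                        · skip
                          exact relsRange_sound mdata basesM 47 11938 rel254 k (by omega) (by omega)
                  · skip
                    by_cases hh259 : k < 12126
                    · skip
                      by_cases hh260 : k < 12032
                      · skip
                        exact relsRange_sound mdata basesM 47 11985 rel255 k (by omega) (by omega)
                      · skip
                        by_cases hh261 : k < 12079
                        · skip
                          exact relsRange_sound mdata basesM 47 12032 rel256 k (by omega) (by omega)
                        · skip
                          exact relsRange_sound mdata basesM 47 12079 rel257 k (by omega) (by omega)
                    · skip
                      by_cases hh262 : k < 12173
                      · skip
                        exact relsRange_sound mdata basesM 47 12126 rel258 k (by omega) (by omega)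
                      · skip
                        by_cases hh263 : k < 12220
                        · skip
                          exact relsRange_sound mdata basesM 47 12173 rel259 k (by omega) (by omega)
                        · skip
                          exact relsRange_sound mdata basesM 47 12220 rel260 k (by omega) (by omega)
          · skip
            by_cases hh264 : k < 14288
            · skip
              by_cases hh265 : k < 13254
              · skip
                by_cases hh266 : k < 12737
                · skip
                  by_cases hh267 : k < 12502
                  · skip
                    by_cases hh268 : k < 12361
                    · skip
                      by_cases hh269 : k < 12314
                      · skip
                        exact relsRange_sound mdata basesM 47 12267 rel261 k (by omega) (by omega)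
                      · skip
                        exact relsRange_sound mdata basesM 47 12314 rel262 k (by omega) (by omega)
                    · skip
                      by_cases hh270 : k < 12408
                      · skip
                        exact relsRange_sound mdata basesM 47 12361 rel263 k (by omega) (by omega)
                      · skip
                        by_cases hh271 : k < 12455
                        · skip
                          exact relsRange_sound mdata basesM 47 12408 rel264 k (by omega) (by omega)
                        · skip
                          exact relsRange_sound mdata basesM 47 12455 rel265 k (by omega) (by omega)
                  · skip
                    by_cases hh272 : k < 12596
                    · skip
                      by_cases hh273 : k < 12549
                      · skip
                        exact relsRange_sound mdata basesM 47 12502 rel266 k (by omega) (by omega)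
                      · skip
                        exact relsRange_sound mdata basesM 47 12549 rel267 k (by omega) (by omega)
                    · skip
                      by_cases hh274 : k < 12643
                      · skip
                        exact relsRange_sound mdata basesM 47 12596 rel268 k (by omega) (by omega)
                      · skip
                        by_cases hh275 : k < 12690
                        · skip
                          exact relsRange_sound mdata basesM 47 12643 rel269 k (by omega) (by omega)
                        · skip
                          exact relsRange_sound mdata basesM 47 12690 rel270 k (by omega) (by omega)
                · skip
                  by_cases hh276 : k < 12972
                  · skip
                    by_cases hh277 : k < 12831
                    · skip
                      by_cases hh278 : k < 12784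
                      · skip
                        exact relsRange_sound mdata basesM 47 12737 rel271 k (by omega) (by omega)
                      · skip
                        exact relsRange_sound mdata basesM 47 12784 rel272 k (by omega) (by omega)
                    · skip
                      by_cases hh279 : k < 12878
                      · skip
                        exact relsRange_sound mdata basesM 47 12831 rel273 k (by omega) (by omega)
                      · skip
                        by_cases hh280 : k < 12925
                        · skip
                          exact relsRange_sound mdata basesM 47 12878 rel274 k (by omega) (by omega)
                        · skip
                          exact relsRange_sound mdata basesM 47 12925 rel275 k (by omega) (by omega)
                  · skip
                    by_cases hh281 : k < 13113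
                    · skip
                      by_cases hh282 : k < 13019
                      · skip
                        exact relsRange_sound mdata basesM 47 12972 rel276 k (by omega) (by omega)
                      · skip
                        by_cases hh283 : k < 13066
                        · skip
                          exact relsRange_sound mdata basesM 47 13019 rel277 k (by omega) (by omega)
                        · skip
                          exact relsRange_sound mdata basesM 47 13066 rel278 k (by omega) (by omega)
                    · skip
                      by_cases hh284 : k < 13160
                      · skip
                        exact relsRange_sound mdata basesM 47 13113 rel279 k (by omega) (by omega)
                      · skip
                        by_cases hh285 : k < 13207
                        · skip
                          exact relsRange_sound mdata basesM 47 13160 rel280 k (by omega) (by omega)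
                        · skip
                          exact relsRange_sound mdata basesM 47 13207 rel281 k (by omega) (by omega)
              · skip
                by_cases hh286 : k < 13771
                · skip
                  by_cases hh287 : k < 13489
                  · skip
                    by_cases hh288 : k < 13348
                    · skip
                      by_cases hh289 : k < 13301
                      · skip
                        exact relsRange_sound mdata basesM 47 13254 rel282 k (by omega) (by omega)
                      · skip
                        exact relsRange_sound mdata basesM 47 13301 rel283 k (by omega) (by omega)
                    · skip
                      by_cases hh290 : k < 13395
                      · skip
                        exact relsRange_sound mdata basesM 47 13348 rel284 k (by omega) (by omega)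
                      · skip
                        by_cases hh291 : k < 13442
                        · skip
                          exact relsRange_sound mdata basesM 47 13395 rel285 k (by omega) (by omega)
                        · skip
                          exact relsRange_sound mdata basesM 47 13442 rel286 k (by omega) (by omega)
                  · skip
                    by_cases hh292 : k < 13630
                    · skip
                      by_cases hh293 : k < 13536
                      · skip
                        exact relsRange_sound mdata basesM 47 13489 rel287 k (by omega) (by omega)
                      · skip
                        by_cases hh294 : k < 13583
                        · skip
                          exact relsRange_sound mdata basesM 47 13536 rel288 k (by omega) (by omega)
                        · skip
                          exact relsRange_sound mdata basesM 47 13583 rel289 k (by omega) (by omega)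
                    · skip
                      by_cases hh295 : k < 13677
                      · skip
                        exact relsRange_sound mdata basesM 47 13630 rel290 k (by omega) (by omega)
                      · skip
                        by_cases hh296 : k < 13724
                        · skip
                          exact relsRange_sound mdata basesM 47 13677 rel291 k (by omega) (by omega)
                        · skip
                          exact relsRange_sound mdata basesM 47 13724 rel292 k (by omega) (by omega)
                · skip
                  by_cases hh297 : k < 14006
                  · skip
                    by_cases hh298 : k < 13865
                    · skip
                      by_cases hh299 : k < 13818
                      · skip
                        exact relsRange_sound mdata basesM 47 13771 rel293 k (by omega) (by omega)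
                      · skip
                        exact relsRange_sound mdata basesM 47 13818 rel294 k (by omega) (by omega)
                    · skip
                      by_cases hh300 : k < 13912
                      · skip
                        exact relsRange_sound mdata basesM 47 13865 rel295 k (by omega) (by omega)
                      · skip
                        by_cases hh301 : k < 13959
                        · skip
                          exact relsRange_sound mdata basesM 47 13912 rel296 k (by omega) (by omega)
                        · skip
                          exact relsRange_sound mdata basesM 47 13959 rel297 k (by omega) (by omega)
                  · skip
                    by_cases hh302 : k < 14147
                    · skip
                      by_cases hh303 : k < 14053
                      · skip
                        exact relsRange_sound mdata basesM 47 14006 rel298 k (by omega) (by omega)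
                      · skip
                        by_cases hh304 : k < 14100
                        · skip
                          exact relsRange_sound mdata basesM 47 14053 rel299 k (by omega) (by omega)
                        · skip
                          exact relsRange_sound mdata basesM 47 14100 rel300 k (by omega) (by omega)
                    · skip
                      by_cases hh305 : k < 14194
                      · skip
                        exact relsRange_sound mdata basesM 47 14147 rel301 k (by omega) (by omega)
                      · skip
                        by_cases hh306 : k < 14241
                        · skip
                          exact relsRange_sound mdata basesM 47 14194 rel302 k (by omega) (by omega)
                        · skip
                          exact relsRange_sound mdata basesM 47 14241 rel303 k (by omega) (by omega)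
            · skip
              by_cases hh307 : k < 15322
              · skip
                by_cases hh308 : k < 14805
                · skip
                  by_cases hh309 : k < 14523
                  · skip
                    by_cases hh310 : k < 14382
                    · skip
                      by_cases hh311 : k < 14335
                      · skip
                        exact relsRange_sound mdata basesM 47 14288 rel304 k (by omega) (by omega)
                      · skip
                        exact relsRange_sound mdata basesM 47 14335 rel305 k (by omega) (by omega)
                    · skip
                      by_cases hh312 : k < 14429
                      · skip
                        exact relsRange_sound mdata basesM 47 14382 rel306 k (by omega) (by omega)
                      · skip
                        by_cases hh313 : k < 14476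
                        · skip
                          exact relsRange_sound mdata basesM 47 14429 rel307 k (by omega) (by omega)
                        · skip
                          exact relsRange_sound mdata basesM 47 14476 rel308 k (by omega) (by omega)
                  · skip
                    by_cases hh314 : k < 14664
                    · skip
                      by_cases hh315 : k < 14570
                      · skip
                        exact relsRange_sound mdata basesM 47 14523 rel309 k (by omega) (by omega)
                      · skip
                        by_cases hh316 : k < 14617
                        · skip
                          exact relsRange_sound mdata basesM 47 14570 rel310 k (by omega) (by omega)
                        · skip
                          exact relsRange_sound mdata basesM 47 14617 rel311 k (by omega) (by omega)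
                    · skip
                      by_cases hh317 : k < 14711
                      · skip
                        exact relsRange_sound mdata basesM 47 14664 rel312 k (by omega) (by omega)
                      · skip
                        by_cases hh318 : k < 14758
                        · skip
                          exact relsRange_sound mdata basesM 47 14711 rel313 k (by omega) (by omega)
                        · skip
                          exact relsRange_sound mdata basesM 47 14758 rel314 k (by omega) (by omega)
                · skip
                  by_cases hh319 : k < 15040
                  · skip
                    by_cases hh320 : k < 14899
                    · skip
                      by_cases hh321 : k < 14852
                      · skip
                        exact relsRange_sound mdata basesM 47 14805 rel315 k (by omega) (by omega)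
                      · skip
                        exact relsRange_sound mdata basesM 47 14852 rel316 k (by omega) (by omega)
                    · skip
                      by_cases hh322 : k < 14946
                      · skip
                        exact relsRange_sound mdata basesM 47 14899 rel317 k (by omega) (by omega)
                      · skip
                        by_cases hh323 : k < 14993
                        · skip
                          exact relsRange_sound mdata basesM 47 14946 rel318 k (by omega) (by omega)
                        · skip
                          exact relsRange_sound mdata basesM 47 14993 rel319 k (by omega) (by omega)
                  · skip
                    by_cases hh324 : k < 15181
                    · skip
                      by_cases hh325 : k < 15087
                      · skip
                        exact relsRange_sound mdata basesM 47 15040 rel320 k (by omega) (by omega)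
                      · skip
                        by_cases hh326 : k < 15134
                        · skip
                          exact relsRange_sound mdata basesM 47 15087 rel321 k (by omega) (by omega)
                        · skip
                          exact relsRange_sound mdata basesM 47 15134 rel322 k (by omega) (by omega)
                    · skip
                      by_cases hh327 : k < 15228
                      · skip
                        exact relsRange_sound mdata basesM 47 15181 rel323 k (by omega) (by omega)
                      · skip
                        by_cases hh328 : k < 15275
                        · skip
                          exact relsRange_sound mdata basesM 47 15228 rel324 k (by omega) (by omega)
                        · skip
                          exact relsRange_sound mdata basesM 47 15275 rel325 k (by omega) (by omega)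
              · skip
                by_cases hh329 : k < 15839
                · skip
                  by_cases hh330 : k < 15557
                  · skip
                    by_cases hh331 : k < 15416
                    · skip
                      by_cases hh332 : k < 15369
                      · skip
                        exact relsRange_sound mdata basesM 47 15322 rel326 k (by omega) (by omega)
                      · skip
                        exact relsRange_sound mdata basesM 47 15369 rel327 k (by omega) (by omega)
                    · skip
                      by_cases hh333 : k < 15463
                      · skip
                        exact relsRange_sound mdata basesM 47 15416 rel328 k (by omega) (by omega)
                      · skip
                        by_cases hh334 : k < 15510
                        · skip
                          exact relsRange_sound mdata basesM 47 15463 rel329 k (by omega) (by omega)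
                        · skip
                          exact relsRange_sound mdata basesM 47 15510 rel330 k (by omega) (by omega)
                  · skip
                    by_cases hh335 : k < 15698
                    · skip
                      by_cases hh336 : k < 15604
                      · skip
                        exact relsRange_sound mdata basesM 47 15557 rel331 k (by omega) (by omega)
                      · skip
                        by_cases hh337 : k < 15651
                        · skip
                          exact relsRange_sound mdata basesM 47 15604 rel332 k (by omega) (by omega)
                        · skip
                          exact relsRange_sound mdata basesM 47 15651 rel333 k (by omega) (by omega)
                    · skip
                      by_cases hh338 : k < 15745
                      · skip
                        exact relsRange_sound mdata basesM 47 15698 rel334 k (by omega) (by omega)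
                      · skip
                        by_cases hh339 : k < 15792
                        · skip
                          exact relsRange_sound mdata basesM 47 15745 rel335 k (by omega) (by omega)
                        · skip
                          exact relsRange_sound mdata basesM 47 15792 rel336 k (by omega) (by omega)
                · skip
                  by_cases hh340 : k < 16074
                  · skip
                    by_cases hh341 : k < 15933
                    · skip
                      by_cases hh342 : k < 15886
                      · skip
                        exact relsRange_sound mdata basesM 47 15839 rel337 k (by omega) (by omega)
                      · skip
                        exact relsRange_sound mdata basesM 47 15886 rel338 k (by omega) (by omega)
                    · skip
                      by_cases hh343 : k < 15980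
                      · skip
                        exact relsRange_sound mdata basesM 47 15933 rel339 k (by omega) (by omega)
                      · skip
                        by_cases hh344 : k < 16027
                        · skip
                          exact relsRange_sound mdata basesM 47 15980 rel340 k (by omega) (by omega)
                        · skip
                          exact relsRange_sound mdata basesM 47 16027 rel341 k (by omega) (by omega)
                  · skip
                    by_cases hh345 : k < 16215
                    · skip
                      by_cases hh346 : k < 16121
                      · skip
                        exact relsRange_sound mdata basesM 47 16074 rel342 k (by omega) (by omega)
                      · skip
                        by_cases hh347 : k < 16168
                        · skip
                          exact relsRange_sound mdata basesM 47 16121 rel343 k (by omega) (by omega)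
                        · skip
                          exact relsRange_sound mdata basesM 47 16168 rel344 k (by omega) (by omega)
                    · skip
                      by_cases hh348 : k < 16262
                      · skip
                        exact relsRange_sound mdata basesM 47 16215 rel345 k (by omega) (by omega)
                      · skip
                        by_cases hh349 : k < 16309
                        · skip
                          exact relsRange_sound mdata basesM 47 16262 rel346 k (by omega) (by omega)
                        · skip
                          exact relsRange_sound mdata basesM 47 16309 rel347 k (by omega) (by omega)
      · skip
        by_cases hh350 : k < 24534
        · skip
          by_cases hh351 : k < 20445
          · skip
            by_cases hh352 : k < 18377
            · skip
              by_cases hh353 : k < 17343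
              · skip
                by_cases hh354 : k < 16826
                · skip
                  by_cases hh355 : k < 16591
                  · skip
                    by_cases hh356 : k < 16450
                    · skip
                      by_cases hh357 : k < 16403
                      · skip
                        exact relsRange_sound mdata basesM 47 16356 rel348 k (by omega) (by omega)
                      · skip
                        exact relsRange_sound mdata basesM 47 16403 rel349 k (by omega) (by omega)
                    · skip
                      by_cases hh358 : k < 16497
                      · skip
                        exact relsRange_sound mdata basesM 47 16450 rel350 k (by omega) (by omega)
                      · skip
                        by_cases hh359 : k < 16544
                        · skip
                          exact relsRange_sound mdata basesM 47 16497 rel351 k (by omega) (by omega)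
                        · skip
                          exact relsRange_sound mdata basesM 47 16544 rel352 k (by omega) (by omega)
                  · skip
                    by_cases hh360 : k < 16685
                    · skip
                      by_cases hh361 : k < 16638
                      · skip
                        exact relsRange_sound mdata basesM 47 16591 rel353 k (by omega) (by omega)
                      · skip
                        exact relsRange_sound mdata basesM 47 16638 rel354 k (by omega) (by omega)
                    · skip
                      by_cases hh362 : k < 16732
                      · skip
                        exact relsRange_sound mdata basesM 47 16685 rel355 k (by omega) (by omega)
                      · skip
                        by_cases hh363 : k < 16779
                        · skip
                          exact relsRange_sound mdata basesM 47 16732 rel356 k (by omega) (by omega)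
                        · skip
                          exact relsRange_sound mdata basesM 47 16779 rel357 k (by omega) (by omega)
                · skip
                  by_cases hh364 : k < 17061
                  · skip
                    by_cases hh365 : k < 16920
                    · skip
                      by_cases hh366 : k < 16873
                      · skip
                        exact relsRange_sound mdata basesM 47 16826 rel358 k (by omega) (by omega)
                      · skip
                        exact relsRange_sound mdata basesM 47 16873 rel359 k (by omega) (by omega)
                    · skip
                      by_cases hh367 : k < 16967
                      · skip
                        exact relsRange_sound mdata basesM 47 16920 rel360 k (by omega) (by omega)
                      · skip
                        by_cases hh368 : k < 17014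
                        · skip
                          exact relsRange_sound mdata basesM 47 16967 rel361 k (by omega) (by omega)
                        · skip
                          exact relsRange_sound mdata basesM 47 17014 rel362 k (by omega) (by omega)
                  · skip
                    by_cases hh369 : k < 17202
                    · skip
                      by_cases hh370 : k < 17108
                      · skip
                        exact relsRange_sound mdata basesM 47 17061 rel363 k (by omega) (by omega)
                      · skip
                        by_cases hh371 : k < 17155
                        · skip
                          exact relsRange_sound mdata basesM 47 17108 rel364 k (by omega) (by omega)
                        · skip
                          exact relsRange_sound mdata basesM 47 17155 rel365 k (by omega) (by omega)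
                    · skip
                      by_cases hh372 : k < 17249
                      · skip
                        exact relsRange_sound mdata basesM 47 17202 rel366 k (by omega) (by omega)
                      · skip
                        by_cases hh373 : k < 17296
                        · skip
                          exact relsRange_sound mdata basesM 47 17249 rel367 k (by omega) (by omega)
                        · skip
                          exact relsRange_sound mdata basesM 47 17296 rel368 k (by omega) (by omega)
              · skip
                by_cases hh374 : k < 17860
                · skip
                  by_cases hh375 : k < 17578
                  · skip
                    by_cases hh376 : k < 17437
                    · skip
                      by_cases hh377 : k < 17390
                      · skip
                        exact relsRange_sound mdata basesM 47 17343 rel369 k (by omega) (by omega)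
                      · skip
                        exact relsRange_sound mdata basesM 47 17390 rel370 k (by omega) (by omega)
                    · skip
                      by_cases hh378 : k < 17484
                      · skip
                        exact relsRange_sound mdata basesM 47 17437 rel371 k (by omega) (by omega)
                      · skip
                        by_cases hh379 : k < 17531
                        · skip
                          exact relsRange_sound mdata basesM 47 17484 rel372 k (by omega) (by omega)
                        · skip
                          exact relsRange_sound mdata basesM 47 17531 rel373 k (by omega) (by omega)
                  · skip
                    by_cases hh380 : k < 17719
                    · skip
                      by_cases hh381 : k < 17625
                      · skip
                        exact relsRange_sound mdata basesM 47 17578 rel374 k (by omega) (by omega)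
                      · skip
                        by_cases hh382 : k < 17672
                        · skip
                          exact relsRange_sound mdata basesM 47 17625 rel375 k (by omega) (by omega)
                        · skip
                          exact relsRange_sound mdata basesM 47 17672 rel376 k (by omega) (by omega)
                    · skip
                      by_cases hh383 : k < 17766
                      · skip
                        exact relsRange_sound mdata basesM 47 17719 rel377 k (by omega) (by omega)
                      · skip
                        by_cases hh384 : k < 17813
                        · skip
                          exact relsRange_sound mdata basesM 47 17766 rel378 k (by omega) (by omega)
                        · skip
                          exact relsRange_sound mdata basesM 47 17813 rel379 k (by omega) (by omega)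
                · skip
                  by_cases hh385 : k < 18095
                  · skip
                    by_cases hh386 : k < 17954
                    · skip
                      by_cases hh387 : k < 17907
                      · skip
                        exact relsRange_sound mdata basesM 47 17860 rel380 k (by omega) (by omega)
                      · skip
                        exact relsRange_sound mdata basesM 47 17907 rel381 k (by omega) (by omega)
                    · skip
                      by_cases hh388 : k < 18001
                      · skip
                        exact relsRange_sound mdata basesM 47 17954 rel382 k (by omega) (by omega)
                      · skip
                        by_cases hh389 : k < 18048
                        · skip
                          exact relsRange_sound mdata basesM 47 18001 rel383 k (by omega) (by omega)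
                        · skip
                          exact relsRange_sound mdata basesM 47 18048 rel384 k (by omega) (by omega)
                  · skip
                    by_cases hh390 : k < 18236
                    · skip
                      by_cases hh391 : k < 18142
                      · skip
                        exact relsRange_sound mdata basesM 47 18095 rel385 k (by omega) (by omega)
                      · skip
                        by_cases hh392 : k < 18189
                        · skip
                          exact relsRange_sound mdata basesM 47 18142 rel386 k (by omega) (by omega)
                        · skip
                          exact relsRange_sound mdata basesM 47 18189 rel387 k (by omega) (by omega)
                    · skip
                      by_cases hh393 : k < 18283
                      · skip
                        exact relsRange_sound mdata basesM 47 18236 rel388 k (by omega) (by omega)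
                      · skip
                        by_cases hh394 : k < 18330
                        · skip
                          exact relsRange_sound mdata basesM 47 18283 rel389 k (by omega) (by omega)
                        · skip
                          exact relsRange_sound mdata basesM 47 18330 rel390 k (by omega) (by omega)
            · skip
              by_cases hh395 : k < 19411
              · skip
                by_cases hh396 : k < 18894
                · skip
                  by_cases hh397 : k < 18612
                  · skip
                    by_cases hh398 : k < 18471
                    · skip
                      by_cases hh399 : k < 18424
                      · skip
                        exact relsRange_sound mdata basesM 47 18377 rel391 k (by omega) (by omega)
                      · skip
                        exact relsRange_sound mdata basesM 47 18424 rel392 k (by omega) (by omega)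
                    · skip
                      by_cases hh400 : k < 18518
                      · skip
                        exact relsRange_sound mdata basesM 47 18471 rel393 k (by omega) (by omega)
                      · skip
                        by_cases hh401 : k < 18565
                        · skip
                          exact relsRange_sound mdata basesM 47 18518 rel394 k (by omega) (by omega)
                        · skip
                          exact relsRange_sound mdata basesM 47 18565 rel395 k (by omega) (by omega)
                  · skip
                    by_cases hh402 : k < 18753
                    · skip
                      by_cases hh403 : k < 18659
                      · skip
                        exact relsRange_sound mdata basesM 47 18612 rel396 k (by omega) (by omega)
                      · skip
                        by_cases hh404 : k < 18706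
                        · skip
                          exact relsRange_sound mdata basesM 47 18659 rel397 k (by omega) (by omega)
                        · skip
                          exact relsRange_sound mdata basesM 47 18706 rel398 k (by omega) (by omega)
                    · skip
                      by_cases hh405 : k < 18800
                      · skip
                        exact relsRange_sound mdata basesM 47 18753 rel399 k (by omega) (by omega)
                      · skip
                        by_cases hh406 : k < 18847
                        · skip
                          exact relsRange_sound mdata basesM 47 18800 rel400 k (by omega) (by omega)
                        · skip
                          exact relsRange_sound mdata basesM 47 18847 rel401 k (by omega) (by omega)
                · skip
                  by_cases hh407 : k < 19129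
                  · skip
                    by_cases hh408 : k < 18988
                    · skip
                      by_cases hh409 : k < 18941
                      · skip
                        exact relsRange_sound mdata basesM 47 18894 rel402 k (by omega) (by omega)
                      · skip
                        exact relsRange_sound mdata basesM 47 18941 rel403 k (by omega) (by omega)
                    · skip
                      by_cases hh410 : k < 19035
                      · skip
                        exact relsRange_sound mdata basesM 47 18988 rel404 k (by omega) (by omega)
                      · skip
                        by_cases hh411 : k < 19082
                        · skip
                          exact relsRange_sound mdata basesM 47 19035 rel405 k (by omega) (by omega)
                        · skip
                          exact relsRange_sound mdata basesM 47 19082 rel406 k (by omega) (by omega)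
                  · skip
                    by_cases hh412 : k < 19270
                    · skip
                      by_cases hh413 : k < 19176
                      · skip
                        exact relsRange_sound mdata basesM 47 19129 rel407 k (by omega) (by omega)
                      · skip
                        by_cases hh414 : k < 19223
                        · skip
                          exact relsRange_sound mdata basesM 47 19176 rel408 k (by omega) (by omega)
                        · skip
                          exact relsRange_sound mdata basesM 47 19223 rel409 k (by omega) (by omega)
                    · skip
                      by_cases hh415 : k < 19317
                      · skip
                        exact relsRange_sound mdata basesM 47 19270 rel410 k (by omega) (by omega)
                      · skip
                        by_cases hh416 : k < 19364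
                        · skip
                          exact relsRange_sound mdata basesM 47 19317 rel411 k (by omega) (by omega)
                        · skip
                          exact relsRange_sound mdata basesM 47 19364 rel412 k (by omega) (by omega)
              · skip
                by_cases hh417 : k < 19928
                · skip
                  by_cases hh418 : k < 19646
                  · skip
                    by_cases hh419 : k < 19505
                    · skip
                      by_cases hh420 : k < 19458
                      · skip
                        exact relsRange_sound mdata basesM 47 19411 rel413 k (by omega) (by omega)
                      · skip
                        exact relsRange_sound mdata basesM 47 19458 rel414 k (by omega) (by omega)
                    · skip
                      by_cases hh421 : k < 19552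
                      · skip
                        exact relsRange_sound mdata basesM 47 19505 rel415 k (by omega) (by omega)
                      · skip
                        by_cases hh422 : k < 19599
                        · skip
                          exact relsRange_sound mdata basesM 47 19552 rel416 k (by omega) (by omega)
                        · skip
                          exact relsRange_sound mdata basesM 47 19599 rel417 k (by omega) (by omega)
                  · skip
                    by_cases hh423 : k < 19787
                    · skip
                      by_cases hh424 : k < 19693
                      · skip
                        exact relsRange_sound mdata basesM 47 19646 rel418 k (by omega) (by omega)
                      · skip
                        by_cases hh425 : k < 19740
                        · skip
                          exact relsRange_sound mdata basesM 47 19693 rel419 k (by omega) (by omega)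
                        · skip
                          exact relsRange_sound mdata basesM 47 19740 rel420 k (by omega) (by omega)
                    · skip
                      by_cases hh426 : k < 19834
                      · skip
                        exact relsRange_sound mdata basesM 47 19787 rel421 k (by omega) (by omega)
                      · skip
                        by_cases hh427 : k < 19881
                        · skip
                          exact relsRange_sound mdata basesM 47 19834 rel422 k (by omega) (by omega)
                        · skip
                          exact relsRange_sound mdata basesM 47 19881 rel423 k (by omega) (by omega)
                · skip
                  by_cases hh428 : k < 20163
                  · skip
                    by_cases hh429 : k < 20022
                    · skip
                      by_cases hh430 : k < 19975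
                      · skip
                        exact relsRange_sound mdata basesM 47 19928 rel424 k (by omega) (by omega)
                      · skip
                        exact relsRange_sound mdata basesM 47 19975 rel425 k (by omega) (by omega)
                    · skip
                      by_cases hh431 : k < 20069
                      · skip
                        exact relsRange_sound mdata basesM 47 20022 rel426 k (by omega) (by omega)
                      · skip
                        by_cases hh432 : k < 20116
                        · skip
                          exact relsRange_sound mdata basesM 47 20069 rel427 k (by omega) (by omega)
                        · skip
                          exact relsRange_sound mdata basesM 47 20116 rel428 k (by omega) (by omega)
                  · skip
                    by_cases hh433 : k < 20304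
                    · skip
                      by_cases hh434 : k < 20210
                      · skip
                        exact relsRange_sound mdata basesM 47 20163 rel429 k (by omega) (by omega)
                      · skip
                        by_cases hh435 : k < 20257
                        · skip
                          exact relsRange_sound mdata basesM 47 20210 rel430 k (by omega) (by omega)
                        · skip
                          exact relsRange_sound mdata basesM 47 20257 rel431 k (by omega) (by omega)
                    · skip
                      by_cases hh436 : k < 20351
                      · skip
                        exact relsRange_sound mdata basesM 47 20304 rel432 k (by omega) (by omega)
                      · skip
                        by_cases hh437 : k < 20398
                        · skip
                          exact relsRange_sound mdata basesM 47 20351 rel433 k (by omega) (by omega)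
                        · skip
                          exact relsRange_sound mdata basesM 47 20398 rel434 k (by omega) (by omega)
          · skip
            by_cases hh438 : k < 22466
            · skip
              by_cases hh439 : k < 21432
              · skip
                by_cases hh440 : k < 20915
                · skip
                  by_cases hh441 : k < 20680
                  · skip
                    by_cases hh442 : k < 20539
                    · skip
                      by_cases hh443 : k < 20492
                      · skip
                        exact relsRange_sound mdata basesM 47 20445 rel435 k (by omega) (by omega)
                      · skip
                        exact relsRange_sound mdata basesM 47 20492 rel436 k (by omega) (by omega)
                    · skip
                      by_cases hh444 : k < 20586
                      · skip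
                        exact relsRange_sound mdata basesM 47 20539 rel437 k (by omega) (by omega)
                      · skip
                        by_cases hh445 : k < 20633
                        · skip
                          exact relsRange_sound mdata basesM 47 20586 rel438 k (by omega) (by omega)
                        · skip
                          exact relsRange_sound mdata basesM 47 20633 rel439 k (by omega) (by omega)
                  · skip
                    by_cases hh446 : k < 20774
                    · skip
                      by_cases hh447 : k < 20727
                      · skip
                        exact relsRange_sound mdata basesM 47 20680 rel440 k (by omega) (by omega)
                      · skip
                        exact relsRange_sound mdata basesM 47 20727 rel441 k (by omega) (by omega)
                    · skip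
                      by_cases hh448 : k < 20821
                      · skip
                        exact relsRange_sound mdata basesM 47 20774 rel442 k (by omega) (by omega)
                      · skip
                        by_cases hh449 : k < 20868
                        · skip
                          exact relsRange_sound mdata basesM 47 20821 rel443 k (by omega) (by omega)
                        · skip
                          exact relsRange_sound mdata basesM 47 20868 rel444 k (by omega) (by omega)
                · skip
                  by_cases hh450 : k < 21150
                  · skip
                    by_cases hh451 : k < 21009
                    · skip
                      by_cases hh452 : k < 20962
                      · skip
                        exact relsRange_sound mdata basesM 47 20915 rel445 k (by omega) (by omega)
                      · skip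
                        exact relsRange_sound mdata basesM 47 20962 rel446 k (by omega) (by omega)
                    · skip
                      by_cases hh453 : k < 21056
                      · skip
                        exact relsRange_sound mdata basesM 47 21009 rel447 k (by omega) (by omega)
                      · skip
                        by_cases hh454 : k < 21103
                        · skip
                          exact relsRange_sound mdata basesM 47 21056 rel448 k (by omega) (by omega)
                        · skip
                          exact relsRange_sound mdata basesM 47 21103 rel449 k (by omega) (by omega)
                  · skip
                    by_cases hh455 : k < 21291
                    · skip
                      by_cases hh456 : k < 21197
                      · skip
                        exact relsRange_sound mdata basesM 47 21150 rel450 k (by omega) (by omega)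
                      · skip
                        by_cases hh457 : k < 21244
                        · skip
                          exact relsRange_sound mdata basesM 47 21197 rel451 k (by omega) (by omega)
                        · skip
                          exact relsRange_sound mdata basesM 47 21244 rel452 k (by omega) (by omega)
                    · skip
                      by_cases hh458 : k < 21338
                      · skip
                        exact relsRange_sound mdata basesM 47 21291 rel453 k (by omega) (by omega)
                      · skip
                        by_cases hh459 : k < 21385
                        · skip
                          exact relsRange_sound mdata basesM 47 21338 rel454 k (by omega) (by omega)
                        · skip
                          exact relsRange_sound mdata basesM 47 21385 rel455 k (by omega) (by omega)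
              · skip
                by_cases hh460 : k < 21949
                · skip
                  by_cases hh461 : k < 21667
                  · skip
                    by_cases hh462 : k < 21526
                    · skip
                      by_cases hh463 : k < 21479
                      · skip
                        exact relsRange_sound mdata basesM 47 21432 rel456 k (by omega) (by omega)
                      · skip
                        exact relsRange_sound mdata basesM 47 21479 rel457 k (by omega) (by omega)
                    · skip
                      by_cases hh464 : k < 21573
                      · skip
                        exact relsRange_sound mdata basesM 47 21526 rel458 k (by omega) (by omega)
                      · skip
                        by_cases hh465 : k < 21620
                        · skip
                          exact relsRange_sound mdata basesM 47 21573 rel459 k (by omega) (by omega)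
                        · skip
                          exact relsRange_sound mdata basesM 47 21620 rel460 k (by omega) (by omega)
                  · skip
                    by_cases hh466 : k < 21808
                    · skip
                      by_cases hh467 : k < 21714
                      · skip
                        exact relsRange_sound mdata basesM 47 21667 rel461 k (by omega) (by omega)
                      · skip
                        by_cases hh468 : k < 21761
                        · skip
                          exact relsRange_sound mdata basesM 47 21714 rel462 k (by omega) (by omega)
                        · skip
                          exact relsRange_sound mdata basesM 47 21761 rel463 k (by omega) (by omega)
                    · skip
                      by_cases hh469 : k < 21855
                      · skip
                        exact relsRange_sound mdata basesM 47 21808 rel464 k (by omega) (by omega)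
                      · skip
                        by_cases hh470 : k < 21902
                        · skip
                          exact relsRange_sound mdata basesM 47 21855 rel465 k (by omega) (by omega)
                        · skip
                          exact relsRange_sound mdata basesM 47 21902 rel466 k (by omega) (by omega)
                · skip
                  by_cases hh471 : k < 22184
                  · skip
                    by_cases hh472 : k < 22043
                    · skip
                      by_cases hh473 : k < 21996
                      · skip
                        exact relsRange_sound mdata basesM 47 21949 rel467 k (by omega) (by omega)
                      · skip
                        exact relsRange_sound mdata basesM 47 21996 rel468 k (by omega) (by omega)
                    · skip
                      by_cases hh474 : k < 22090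
                      · skip
                        exact relsRange_sound mdata basesM 47 22043 rel469 k (by omega) (by omega)
                      · skip
                        by_cases hh475 : k < 22137
                        · skip
                          exact relsRange_sound mdata basesM 47 22090 rel470 k (by omega) (by omega)
                        · skip
                          exact relsRange_sound mdata basesM 47 22137 rel471 k (by omega) (by omega)
                  · skip
                    by_cases hh476 : k < 22325
                    · skip
                      by_cases hh477 : k < 22231
                      · skip
                        exact relsRange_sound mdata basesM 47 22184 rel472 k (by omega) (by omega)
                      · skip
                        by_cases hh478 : k < 22278
                        · skip
                          exact relsRange_sound mdata basesM 47 22231 rel473 k (by omega) (by omega)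
                        · skip
                          exact relsRange_sound mdata basesM 47 22278 rel474 k (by omega) (by omega)
                    · skip
                      by_cases hh479 : k < 22372
                      · skip
                        exact relsRange_sound mdata basesM 47 22325 rel475 k (by omega) (by omega)
                      · skip
                        by_cases hh480 : k < 22419
                        · skip
                          exact relsRange_sound mdata basesM 47 22372 rel476 k (by omega) (by omega)
                        · skip
                          exact relsRange_sound mdata basesM 47 22419 rel477 k (by omega) (by omega)
            · skip
              by_cases hh481 : k < 23500
              · skip
                by_cases hh482 : k < 22983
                · skip
                  by_cases hh483 : k < 22701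
                  · skip
                    by_cases hh484 : k < 22560
                    · skip
                      by_cases hh485 : k < 22513
                      · skip
                        exact relsRange_sound mdata basesM 47 22466 rel478 k (by omega) (by omega)
                      · skip
                        exact relsRange_sound mdata basesM 47 22513 rel479 k (by omega) (by omega)
                    · skip
                      by_cases hh486 : k < 22607
                      · skip
                        exact relsRange_sound mdata basesM 47 22560 rel480 k (by omega) (by omega)
                      · skip
                        by_cases hh487 : k < 22654
                        · skip
                          exact relsRange_sound mdata basesM 47 22607 rel481 k (by omega) (by omega)
                        · skip
                          exact relsRange_sound mdata basesM 47 22654 rel482 k (by omega) (by omega)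
                  · skip
                    by_cases hh488 : k < 22842
                    · skip
                      by_cases hh489 : k < 22748
                      · skip
                        exact relsRange_sound mdata basesM 47 22701 rel483 k (by omega) (by omega)
                      · skip
                        by_cases hh490 : k < 22795
                        · skip
                          exact relsRange_sound mdata basesM 47 22748 rel484 k (by omega) (by omega)
                        · skip
                          exact relsRange_sound mdata basesM 47 22795 rel485 k (by omega) (by omega)
                    · skip
                      by_cases hh491 : k < 22889
                      · skip
                        exact relsRange_sound mdata basesM 47 22842 rel486 k (by omega) (by omega)
                      · skip
                        by_cases hh492 : k < 22936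
                        · skip
                          exact relsRange_sound mdata basesM 47 22889 rel487 k (by omega) (by omega)
                        · skip
                          exact relsRange_sound mdata basesM 47 22936 rel488 k (by omega) (by omega)
                · skip
                  by_cases hh493 : k < 23218
                  · skip
                    by_cases hh494 : k < 23077
                    · skip
                      by_cases hh495 : k < 23030
                      · skip
                        exact relsRange_sound mdata basesM 47 22983 rel489 k (by omega) (by omega)
                      · skip
                        exact relsRange_sound mdata basesM 47 23030 rel490 k (by omega) (by omega)
                    · skip
                      by_cases hh496 : k < 23124
                      · skip
                        exact relsRange_sound mdata basesM 47 23077 rel491 k (by omega) (by omega)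
                      · skip
                        by_cases hh497 : k < 23171
                        · skip
                          exact relsRange_sound mdata basesM 47 23124 rel492 k (by omega) (by omega)
                        · skip
                          exact relsRange_sound mdata basesM 47 23171 rel493 k (by omega) (by omega)
                  · skip
                    by_cases hh498 : k < 23359
                    · skip
                      by_cases hh499 : k < 23265
                      · skip
                        exact relsRange_sound mdata basesM 47 23218 rel494 k (by omega) (by omega)
                      · skip
                        by_cases hh500 : k < 23312
                        · skip
                          exact relsRange_sound mdata basesM 47 23265 rel495 k (by omega) (by omega)
                        · skip
                          exact relsRange_sound mdata basesM 47 23312 rel496 k (by omega) (by omega)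
                    · skip
                      by_cases hh501 : k < 23406
                      · skip
                        exact relsRange_sound mdata basesM 47 23359 rel497 k (by omega) (by omega)
                      · skip
                        by_cases hh502 : k < 23453
                        · skip
                          exact relsRange_sound mdata basesM 47 23406 rel498 k (by omega) (by omega)
                        · skip
                          exact relsRange_sound mdata basesM 47 23453 rel499 k (by omega) (by omega)
              · skip
                by_cases hh503 : k < 24017
                · skip
                  by_cases hh504 : k < 23735
                  · skip
                    by_cases hh505 : k < 23594
                    · skip
                      by_cases hh506 : k < 23547
                      · skip
                        exact relsRange_sound mdata basesM 47 23500 rel500 k (by omega) (by omega)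
                      · skip
                        exact relsRange_sound mdata basesM 47 23547 rel501 k (by omega) (by omega)
                    · skip
                      by_cases hh507 : k < 23641
                      · skip
                        exact relsRange_sound mdata basesM 47 23594 rel502 k (by omega) (by omega)
                      · skip
                        by_cases hh508 : k < 23688
                        · skip
                          exact relsRange_sound mdata basesM 47 23641 rel503 k (by omega) (by omega)
                        · skip
                          exact relsRange_sound mdata basesM 47 23688 rel504 k (by omega) (by omega)
                  · skip
                    by_cases hh509 : k < 23876
                    · skip
                      by_cases hh510 : k < 23782
                      · skip
                        exact relsRange_sound mdata basesM 47 23735 rel505 k (by omega) (by omega)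
                      · skip
                        by_cases hh511 : k < 23829
                        · skip
                          exact relsRange_sound mdata basesM 47 23782 rel506 k (by omega) (by omega)
                        · skip
                          exact relsRange_sound mdata basesM 47 23829 rel507 k (by omega) (by omega)
                    · skip
                      by_cases hh512 : k < 23923
                      · skip
                        exact relsRange_sound mdata basesM 47 23876 rel508 k (by omega) (by omega)
                      · skip
                        by_cases hh513 : k < 23970
                        · skip
                          exact relsRange_sound mdata basesM 47 23923 rel509 k (by omega) (by omega)
                        · skip
                          exact relsRange_sound mdata basesM 47 23970 rel510 k (by omega) (by omega)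
                · skip
                  by_cases hh514 : k < 24252
                  · skip
                    by_cases hh515 : k < 24111
                    · skip
                      by_cases hh516 : k < 24064
                      · skip
                        exact relsRange_sound mdata basesM 47 24017 rel511 k (by omega) (by omega)
                      · skip
                        exact relsRange_sound mdata basesM 47 24064 rel512 k (by omega) (by omega)
                    · skip
                      by_cases hh517 : k < 24158
                      · skip
                        exact relsRange_sound mdata basesM 47 24111 rel513 k (by omega) (by omega)
                      · skip
                        by_cases hh518 : k < 24205
                        · skip
                          exact relsRange_sound mdata basesM 47 24158 rel514 k (by omega) (by omega)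
                        · skip
                          exact relsRange_sound mdata basesM 47 24205 rel515 k (by omega) (by omega)
                  · skip
                    by_cases hh519 : k < 24393
                    · skip
                      by_cases hh520 : k < 24299
                      · skip
                        exact relsRange_sound mdata basesM 47 24252 rel516 k (by omega) (by omega)
                      · skip
                        by_cases hh521 : k < 24346
                        · skip
                          exact relsRange_sound mdata basesM 47 24299 rel517 k (by omega) (by omega)
                        · skip
                          exact relsRange_sound mdata basesM 47 24346 rel518 k (by omega) (by omega)
                    · skip
                      by_cases hh522 : k < 24440
                      · skip
                        exact relsRange_sound mdata basesM 47 24393 rel519 k (by omega) (by omega)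
                      · skip
                        by_cases hh523 : k < 24487
                        · skip
                          exact relsRange_sound mdata basesM 47 24440 rel520 k (by omega) (by omega)
                        · skip
                          exact relsRange_sound mdata basesM 47 24487 rel521 k (by omega) (by omega)
        · skip
          by_cases hh524 : k < 28623
          · skip
            by_cases hh525 : k < 26555
            · skip
              by_cases hh526 : k < 25521
              · skip
                by_cases hh527 : k < 25004
                · skip
                  by_cases hh528 : k < 24769
                  · skip
                    by_cases hh529 : k < 24628
                    · skip
                      by_cases hh530 : k < 24581
                      · skip
                        exact relsRange_sound mdata basesM 47 24534 rel522 k (by omega) (by omega)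
                      · skip
                        exact relsRange_sound mdata basesM 47 24581 rel523 k (by omega) (by omega)
                    · skip
                      by_cases hh531 : k < 24675
                      · skip
                        exact relsRange_sound mdata basesM 47 24628 rel524 k (by omega) (by omega)
                      · skip
                        by_cases hh532 : k < 24722
                        · skip
                          exact relsRange_sound mdata basesM 47 24675 rel525 k (by omega) (by omega)
                        · skip
                          exact relsRange_sound mdata basesM 47 24722 rel526 k (by omega) (by omega)
                  · skip
                    by_cases hh533 : k < 24863
                    · skip
                      by_cases hh534 : k < 24816
                      · skip
                        exact relsRange_sound mdata basesM 47 24769 rel527 k (by omega) (by omega)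
                      · skip
                        exact relsRange_sound mdata basesM 47 24816 rel528 k (by omega) (by omega)
                    · skip
                      by_cases hh535 : k < 24910
                      · skip
                        exact relsRange_sound mdata basesM 47 24863 rel529 k (by omega) (by omega)
                      · skip
                        by_cases hh536 : k < 24957
                        · skip
                          exact relsRange_sound mdata basesM 47 24910 rel530 k (by omega) (by omega)
                        · skip
                          exact relsRange_sound mdata basesM 47 24957 rel531 k (by omega) (by omega)
                · skip
                  by_cases hh537 : k < 25239
                  · skip
                    by_cases hh538 : k < 25098
                    · skip
                      by_cases hh539 : k < 25051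
                      · skip
                        exact relsRange_sound mdata basesM 47 25004 rel532 k (by omega) (by omega)
                      · skip
                        exact relsRange_sound mdata basesM 47 25051 rel533 k (by omega) (by omega)
                    · skip
                      by_cases hh540 : k < 25145
                      · skip
                        exact relsRange_sound mdata basesM 47 25098 rel534 k (by omega) (by omega)
                      · skip
                        by_cases hh541 : k < 25192
                        · skip
                          exact relsRange_sound mdata basesM 47 25145 rel535 k (by omega) (by omega)
                        · skip
                          exact relsRange_sound mdata basesM 47 25192 rel536 k (by omega) (by omega)
                  · skip
                    by_cases hh542 : k < 25380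
                    · skip
                      by_cases hh543 : k < 25286
                      · skip
                        exact relsRange_sound mdata basesM 47 25239 rel537 k (by omega) (by omega)
                      · skip
                        by_cases hh544 : k < 25333
                        · skip
                          exact relsRange_sound mdata basesM 47 25286 rel538 k (by omega) (by omega)
                        · skip
                          exact relsRange_sound mdata basesM 47 25333 rel539 k (by omega) (by omega)
                    · skip
                      by_cases hh545 : k < 25427
                      · skip
                        exact relsRange_sound mdata basesM 47 25380 rel540 k (by omega) (by omega)
                      · skip
                        by_cases hh546 : k < 25474
                        · skip
                          exact relsRange_sound mdata basesM 47 25427 rel541 k (by omega) (by omega)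
                        · skip
                          exact relsRange_sound mdata basesM 47 25474 rel542 k (by omega) (by omega)
              · skip
                by_cases hh547 : k < 26038
                · skip
                  by_cases hh548 : k < 25756
                  · skip
                    by_cases hh549 : k < 25615
                    · skip
                      by_cases hh550 : k < 25568
                      · skip
                        exact relsRange_sound mdata basesM 47 25521 rel543 k (by omega) (by omega)
                      · skip
                        exact relsRange_sound mdata basesM 47 25568 rel544 k (by omega) (by omega)
                    · skip
                      by_cases hh551 : k < 25662
                      · skip
                        exact relsRange_sound mdata basesM 47 25615 rel545 k (by omega) (by omega)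
                      · skip
                        by_cases hh552 : k < 25709
                        · skip
                          exact relsRange_sound mdata basesM 47 25662 rel546 k (by omega) (by omega)
                        · skip
                          exact relsRange_sound mdata basesM 47 25709 rel547 k (by omega) (by omega)
                  · skip
                    by_cases hh553 : k < 25897
                    · skip
                      by_cases hh554 : k < 25803
                      · skip
                        exact relsRange_sound mdata basesM 47 25756 rel548 k (by omega) (by omega)
                      · skip
                        by_cases hh555 : k < 25850
                        · skip
                          exact relsRange_sound mdata basesM 47 25803 rel549 k (by omega) (by omega)
                        · skip
                          exact relsRange_sound mdata basesM 47 25850 rel550 k (by omega) (by omega)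
                    · skip
                      by_cases hh556 : k < 25944
                      · skip
                        exact relsRange_sound mdata basesM 47 25897 rel551 k (by omega) (by omega)
                      · skip
                        by_cases hh557 : k < 25991
                        · skip
                          exact relsRange_sound mdata basesM 47 25944 rel552 k (by omega) (by omega)
                        · skip
                          exact relsRange_sound mdata basesM 47 25991 rel553 k (by omega) (by omega)
                · skip
                  by_cases hh558 : k < 26273
                  · skip
                    by_cases hh559 : k < 26132
                    · skip
                      by_cases hh560 : k < 26085
                      · skip
                        exact relsRange_sound mdata basesM 47 26038 rel554 k (by omega) (by omega)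
                      · skip
                        exact relsRange_sound mdata basesM 47 26085 rel555 k (by omega) (by omega)
                    · skip
                      by_cases hh561 : k < 26179
                      · skip
                        exact relsRange_sound mdata basesM 47 26132 rel556 k (by omega) (by omega)
                      · skip
                        by_cases hh562 : k < 26226
                        · skip
                          exact relsRange_sound mdata basesM 47 26179 rel557 k (by omega) (by omega)
                        · skip
                          exact relsRange_sound mdata basesM 47 26226 rel558 k (by omega) (by omega)
                  · skip
                    by_cases hh563 : k < 26414
                    · skip
                      by_cases hh564 : k < 26320
                      · skip
                        exact relsRange_sound mdata basesM 47 26273 rel559 k (by omega) (by omega)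
                      · skip
                        by_cases hh565 : k < 26367
                        · skip
                          exact relsRange_sound mdata basesM 47 26320 rel560 k (by omega) (by omega)
                        · skip
                          exact relsRange_sound mdata basesM 47 26367 rel561 k (by omega) (by omega)
                    · skip
                      by_cases hh566 : k < 26461
                      · skip
                        exact relsRange_sound mdata basesM 47 26414 rel562 k (by omega) (by omega)
                      · skip
                        by_cases hh567 : k < 26508
                        · skip
                          exact relsRange_sound mdata basesM 47 26461 rel563 k (by omega) (by omega)
                        · skip
                          exact relsRange_sound mdata basesM 47 26508 rel564 k (by omega) (by omega)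
            · skip
              by_cases hh568 : k < 27589
              · skip
                by_cases hh569 : k < 27072
                · skip
                  by_cases hh570 : k < 26790
                  · skip
                    by_cases hh571 : k < 26649
                    · skip
                      by_cases hh572 : k < 26602
                      · skip
                        exact relsRange_sound mdata basesM 47 26555 rel565 k (by omega) (by omega)
                      · skip
                        exact relsRange_sound mdata basesM 47 26602 rel566 k (by omega) (by omega)
                    · skip
                      by_cases hh573 : k < 26696
                      · skip
                        exact relsRange_sound mdata basesM 47 26649 rel567 k (by omega) (by omega)
                      · skip
                        by_cases hh574 : k < 26743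
                        · skip
                          exact relsRange_sound mdata basesM 47 26696 rel568 k (by omega) (by omega)
                        · skip
                          exact relsRange_sound mdata basesM 47 26743 rel569 k (by omega) (by omega)
                  · skip
                    by_cases hh575 : k < 26931
                    · skip
                      by_cases hh576 : k < 26837
                      · skip
                        exact relsRange_sound mdata basesM 47 26790 rel570 k (by omega) (by omega)
                      · skip
                        by_cases hh577 : k < 26884
                        · skip
                          exact relsRange_sound mdata basesM 47 26837 rel571 k (by omega) (by omega)
                        · skip
                          exact relsRange_sound mdata basesM 47 26884 rel572 k (by omega) (by omega)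
                    · skip
                      by_cases hh578 : k < 26978
                      · skip
                        exact relsRange_sound mdata basesM 47 26931 rel573 k (by omega) (by omega)
                      · skip
                        by_cases hh579 : k < 27025
                        · skip
                          exact relsRange_sound mdata basesM 47 26978 rel574 k (by omega) (by omega)
                        · skip
                          exact relsRange_sound mdata basesM 47 27025 rel575 k (by omega) (by omega)
                · skip
                  by_cases hh580 : k < 27307
                  · skip
                    by_cases hh581 : k < 27166
                    · skip
                      by_cases hh582 : k < 27119
                      · skip
                        exact relsRange_sound mdata basesM 47 27072 rel576 k (by omega) (by omega)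
                      · skip
                        exact relsRange_sound mdata basesM 47 27119 rel577 k (by omega) (by omega)
                    · skip
                      by_cases hh583 : k < 27213
                      · skip
                        exact relsRange_sound mdata basesM 47 27166 rel578 k (by omega) (by omega)
                      · skip
                        by_cases hh584 : k < 27260
                        · skip
                          exact relsRange_sound mdata basesM 47 27213 rel579 k (by omega) (by omega)
                        · skip
                          exact relsRange_sound mdata basesM 47 27260 rel580 k (by omega) (by omega)
                  · skip
                    by_cases hh585 : k < 27448
                    · skip
                      by_cases hh586 : k < 27354
                      · skip
                        exact relsRange_sound mdata basesM 47 27307 rel581 k (by omega) (by omega)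
                      · skip
                        by_cases hh587 : k < 27401
                        · skip
                          exact relsRange_sound mdata basesM 47 27354 rel582 k (by omega) (by omega)
                        · skip
                          exact relsRange_sound mdata basesM 47 27401 rel583 k (by omega) (by omega)
                    · skip
                      by_cases hh588 : k < 27495
                      · skip
                        exact relsRange_sound mdata basesM 47 27448 rel584 k (by omega) (by omega)
                      · skip
                        by_cases hh589 : k < 27542
                        · skip
                          exact relsRange_sound mdata basesM 47 27495 rel585 k (by omega) (by omega)
                        · skip
                          exact relsRange_sound mdata basesM 47 27542 rel586 k (by omega) (by omega)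
              · skip
                by_cases hh590 : k < 28106
                · skip
                  by_cases hh591 : k < 27824
                  · skip
                    by_cases hh592 : k < 27683
                    · skip
                      by_cases hh593 : k < 27636
                      · skip
                        exact relsRange_sound mdata basesM 47 27589 rel587 k (by omega) (by omega)
                      · skip
                        exact relsRange_sound mdata basesM 47 27636 rel588 k (by omega) (by omega)
                    · skip
                      by_cases hh594 : k < 27730
                      · skip
                        exact relsRange_sound mdata basesM 47 27683 rel589 k (by omega) (by omega)
                      · skip
                        by_cases hh595 : k < 27777
                        · skip
                          exact relsRange_sound mdata basesM 47 27730 rel590 k (by omega) (by omega)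
                        · skip
                          exact relsRange_sound mdata basesM 47 27777 rel591 k (by omega) (by omega)
                  · skip
                    by_cases hh596 : k < 27965
                    · skip
                      by_cases hh597 : k < 27871
                      · skip
                        exact relsRange_sound mdata basesM 47 27824 rel592 k (by omega) (by omega)
                      · skip
                        by_cases hh598 : k < 27918
                        · skip
                          exact relsRange_sound mdata basesM 47 27871 rel593 k (by omega) (by omega)
                        · skip
                          exact relsRange_sound mdata basesM 47 27918 rel594 k (by omega) (by omega)
                    · skip
                      by_cases hh599 : k < 28012
                      · skip
                        exact relsRange_sound mdata basesM 47 27965 rel595 k (by omega) (by omega)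
                      · skip
                        by_cases hh600 : k < 28059
                        · skip
                          exact relsRange_sound mdata basesM 47 28012 rel596 k (by omega) (by omega)
                        · skip
                          exact relsRange_sound mdata basesM 47 28059 rel597 k (by omega) (by omega)
                · skip
                  by_cases hh601 : k < 28341
                  · skip
                    by_cases hh602 : k < 28200
                    · skip
                      by_cases hh603 : k < 28153
                      · skip
                        exact relsRange_sound mdata basesM 47 28106 rel598 k (by omega) (by omega)
                      · skip
                        exact relsRange_sound mdata basesM 47 28153 rel599 k (by omega) (by omega)
                    · skip
                      by_cases hh604 : k < 28247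
                      · skip
                        exact relsRange_sound mdata basesM 47 28200 rel600 k (by omega) (by omega)
                      · skip
                        by_cases hh605 : k < 28294
                        · skip
                          exact relsRange_sound mdata basesM 47 28247 rel601 k (by omega) (by omega)
                        · skip
                          exact relsRange_sound mdata basesM 47 28294 rel602 k (by omega) (by omega)
                  · skip
                    by_cases hh606 : k < 28482
                    · skip
                      by_cases hh607 : k < 28388
                      · skip
                        exact relsRange_sound mdata basesM 47 28341 rel603 k (by omega) (by omega)
                      · skip
                        by_cases hh608 : k < 28435
                        · skip
                          exact relsRange_sound mdata basesM 47 28388 rel604 k (by omega) (by omega)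
                        · skip
                          exact relsRange_sound mdata basesM 47 28435 rel605 k (by omega) (by omega)
                    · skip
                      by_cases hh609 : k < 28529
                      · skip
                        exact relsRange_sound mdata basesM 47 28482 rel606 k (by omega) (by omega)
                      · skip
                        by_cases hh610 : k < 28576
                        · skip
                          exact relsRange_sound mdata basesM 47 28529 rel607 k (by omega) (by omega)
                        · skip
                          exact relsRange_sound mdata basesM 47 28576 rel608 k (by omega) (by omega)
          · skip
            by_cases hh611 : k < 30691
            · skip
              by_cases hh612 : k < 29657
              · skip
                by_cases hh613 : k < 29140
                · skip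
                  by_cases hh614 : k < 28858
                  · skip
                    by_cases hh615 : k < 28717
                    · skip
                      by_cases hh616 : k < 28670
                      · skip
                        exact relsRange_sound mdata basesM 47 28623 rel609 k (by omega) (by omega)
                      · skip
                        exact relsRange_sound mdata basesM 47 28670 rel610 k (by omega) (by omega)
                    · skip
                      by_cases hh617 : k < 28764
                      · skip
                        exact relsRange_sound mdata basesM 47 28717 rel611 k (by omega) (by omega)
                      · skip
                        by_cases hh618 : k < 28811
                        · skip
                          exact relsRange_sound mdata basesM 47 28764 rel612 k (by omega) (by omega)
                        · skip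
                          exact relsRange_sound mdata basesM 47 28811 rel613 k (by omega) (by omega)
                  · skip
                    by_cases hh619 : k < 28999
                    · skip
                      by_cases hh620 : k < 28905
                      · skip
                        exact relsRange_sound mdata basesM 47 28858 rel614 k (by omega) (by omega)
                      · skip
                        by_cases hh621 : k < 28952
                        · skip
                          exact relsRange_sound mdata basesM 47 28905 rel615 k (by omega) (by omega)
                        · skip
                          exact relsRange_sound mdata basesM 47 28952 rel616 k (by omega) (by omega)
                    · skip
                      by_cases hh622 : k < 29046
                      · skip
                        exact relsRange_sound mdata basesM 47 28999 rel617 k (by omega) (by omega)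
                      · skip
                        by_cases hh623 : k < 29093
                        · skip
                          exact relsRange_sound mdata basesM 47 29046 rel618 k (by omega) (by omega)
                        · skip
                          exact relsRange_sound mdata basesM 47 29093 rel619 k (by omega) (by omega)
                · skip
                  by_cases hh624 : k < 29375
                  · skip
                    by_cases hh625 : k < 29234
                    · skip
                      by_cases hh626 : k < 29187
                      · skip
                        exact relsRange_sound mdata basesM 47 29140 rel620 k (by omega) (by omega)
                      · skip
                        exact relsRange_sound mdata basesM 47 29187 rel621 k (by omega) (by omega)
                    · skip
                      by_cases hh627 : k < 29281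
                      · skip
                        exact relsRange_sound mdata basesM 47 29234 rel622 k (by omega) (by omega)
                      · skip
                        by_cases hh628 : k < 29328
                        · skip
                          exact relsRange_sound mdata basesM 47 29281 rel623 k (by omega) (by omega)
                        · skip
                          exact relsRange_sound mdata basesM 47 29328 rel624 k (by omega) (by omega)
                  · skip
                    by_cases hh629 : k < 29516
                    · skip
                      by_cases hh630 : k < 29422
                      · skip
                        exact relsRange_sound mdata basesM 47 29375 rel625 k (by omega) (by omega)
                      · skip
                        by_cases hh631 : k < 29469
                        · skip
                          exact relsRange_sound mdata basesM 47 29422 rel626 k (by omega) (by omega)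
                        · skip
                          exact relsRange_sound mdata basesM 47 29469 rel627 k (by omega) (by omega)
                    · skip
                      by_cases hh632 : k < 29563
                      · skip
                        exact relsRange_sound mdata basesM 47 29516 rel628 k (by omega) (by omega)
                      · skip
                        by_cases hh633 : k < 29610
                        · skip
                          exact relsRange_sound mdata basesM 47 29563 rel629 k (by omega) (by omega)
                        · skip
                          exact relsRange_sound mdata basesM 47 29610 rel630 k (by omega) (by omega)
              · skip
                by_cases hh634 : k < 30174
                · skip
                  by_cases hh635 : k < 29892
                  · skip
                    by_cases hh636 : k < 29751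
                    · skip
                      by_cases hh637 : k < 29704
                      · skip
                        exact relsRange_sound mdata basesM 47 29657 rel631 k (by omega) (by omega)
                      · skip
                        exact relsRange_sound mdata basesM 47 29704 rel632 k (by omega) (by omega)
                    · skip
                      by_cases hh638 : k < 29798
                      · skip
                        exact relsRange_sound mdata basesM 47 29751 rel633 k (by omega) (by omega)
                      · skip
                        by_cases hh639 : k < 29845
                        · skip
                          exact relsRange_sound mdata basesM 47 29798 rel634 k (by omega) (by omega)
                        · skip
                          exact relsRange_sound mdata basesM 47 29845 rel635 k (by omega) (by omega)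
                  · skip
                    by_cases hh640 : k < 30033
                    · skip
                      by_cases hh641 : k < 29939
                      · skip
                        exact relsRange_sound mdata basesM 47 29892 rel636 k (by omega) (by omega)
                      · skip
                        by_cases hh642 : k < 29986
                        · skip
                          exact relsRange_sound mdata basesM 47 29939 rel637 k (by omega) (by omega)
                        · skip
                          exact relsRange_sound mdata basesM 47 29986 rel638 k (by omega) (by omega)
                    · skip
                      by_cases hh643 : k < 30080
                      · skip
                        exact relsRange_sound mdata basesM 47 30033 rel639 k (by omega) (by omega)
                      · skip
                        by_cases hh644 : k < 30127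
                        · skip
                          exact relsRange_sound mdata basesM 47 30080 rel640 k (by omega) (by omega)
                        · skip
                          exact relsRange_sound mdata basesM 47 30127 rel641 k (by omega) (by omega)
                · skip
                  by_cases hh645 : k < 30409
                  · skip
                    by_cases hh646 : k < 30268
                    · skip
                      by_cases hh647 : k < 30221
                      · skip
                        exact relsRange_sound mdata basesM 47 30174 rel642 k (by omega) (by omega)
                      · skip
                        exact relsRange_sound mdata basesM 47 30221 rel643 k (by omega) (by omega)
                    · skip
                      by_cases hh648 : k < 30315
                      · skip
                        exact relsRange_sound mdata basesM 47 30268 rel644 k (by omega) (by omega)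
                      · skip
                        by_cases hh649 : k < 30362
                        · skip
                          exact relsRange_sound mdata basesM 47 30315 rel645 k (by omega) (by omega)
                        · skip
                          exact relsRange_sound mdata basesM 47 30362 rel646 k (by omega) (by omega)
                  · skip
                    by_cases hh650 : k < 30550
                    · skip
                      by_cases hh651 : k < 30456
                      · skip
                        exact relsRange_sound mdata basesM 47 30409 rel647 k (by omega) (by omega)
                      · skip
                        by_cases hh652 : k < 30503
                        · skip
                          exact relsRange_sound mdata basesM 47 30456 rel648 k (by omega) (by omega)
                        · skip
                          exact relsRange_sound mdata basesM 47 30503 rel649 k (by omega) (by omega)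
                    · skip
                      by_cases hh653 : k < 30597
                      · skip
                        exact relsRange_sound mdata basesM 47 30550 rel650 k (by omega) (by omega)
                      · skip
                        by_cases hh654 : k < 30644
                        · skip
                          exact relsRange_sound mdata basesM 47 30597 rel651 k (by omega) (by omega)
                        · skip
                          exact relsRange_sound mdata basesM 47 30644 rel652 k (by omega) (by omega)
            · skip
              by_cases hh655 : k < 31725
              · skip
                by_cases hh656 : k < 31208
                · skip
                  by_cases hh657 : k < 30926
                  · skip
                    by_cases hh658 : k < 30785
                    · skip
                      by_cases hh659 : k < 30738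
                      · skip
                        exact relsRange_sound mdata basesM 47 30691 rel653 k (by omega) (by omega)
                      · skip
                        exact relsRange_sound mdata basesM 47 30738 rel654 k (by omega) (by omega)
                    · skip
                      by_cases hh660 : k < 30832
                      · skip
                        exact relsRange_sound mdata basesM 47 30785 rel655 k (by omega) (by omega)
                      · skip
                        by_cases hh661 : k < 30879
                        · skip
                          exact relsRange_sound mdata basesM 47 30832 rel656 k (by omega) (by omega)
                        · skip
                          exact relsRange_sound mdata basesM 47 30879 rel657 k (by omega) (by omega)
                  · skip
                    by_cases hh662 : k < 31067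
                    · skip
                      by_cases hh663 : k < 30973
                      · skip
                        exact relsRange_sound mdata basesM 47 30926 rel658 k (by omega) (by omega)
                      · skip
                        by_cases hh664 : k < 31020
                        · skip
                          exact relsRange_sound mdata basesM 47 30973 rel659 k (by omega) (by omega)
                        · skip
                          exact relsRange_sound mdata basesM 47 31020 rel660 k (by omega) (by omega)
                    · skip
                      by_cases hh665 : k < 31114
                      · skip
                        exact relsRange_sound mdata basesM 47 31067 rel661 k (by omega) (by omega)
                      · skip
                        by_cases hh666 : k < 31161
                        · skip
                          exact relsRange_sound mdata basesM 47 31114 rel662 k (by omega) (by omega)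
                        · skip
                          exact relsRange_sound mdata basesM 47 31161 rel663 k (by omega) (by omega)
                · skip
                  by_cases hh667 : k < 31443
                  · skip
                    by_cases hh668 : k < 31302
                    · skip
                      by_cases hh669 : k < 31255
                      · skip
                        exact relsRange_sound mdata basesM 47 31208 rel664 k (by omega) (by omega)
                      · skip
                        exact relsRange_sound mdata basesM 47 31255 rel665 k (by omega) (by omega)
                    · skip
                      by_cases hh670 : k < 31349
                      · skip
                        exact relsRange_sound mdata basesM 47 31302 rel666 k (by omega) (by omega)
                      · skip
                        by_cases hh671 : k < 31396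
                        · skip
                          exact relsRange_sound mdata basesM 47 31349 rel667 k (by omega) (by omega)
                        · skip
                          exact relsRange_sound mdata basesM 47 31396 rel668 k (by omega) (by omega)
                  · skip
                    by_cases hh672 : k < 31584
                    · skip
                      by_cases hh673 : k < 31490
                      · skip
                        exact relsRange_sound mdata basesM 47 31443 rel669 k (by omega) (by omega)
                      · skip
                        by_cases hh674 : k < 31537
                        · skip
                          exact relsRange_sound mdata basesM 47 31490 rel670 k (by omega) (by omega)
                        · skip
                          exact relsRange_sound mdata basesM 47 31537 rel671 k (by omega) (by omega)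
                    · skip
                      by_cases hh675 : k < 31631
                      · skip
                        exact relsRange_sound mdata basesM 47 31584 rel672 k (by omega) (by omega)
                      · skip
                        by_cases hh676 : k < 31678
                        · skip
                          exact relsRange_sound mdata basesM 47 31631 rel673 k (by omega) (by omega)
                        · skip
                          exact relsRange_sound mdata basesM 47 31678 rel674 k (by omega) (by omega)
              · skip
                by_cases hh677 : k < 32242
                · skip
                  by_cases hh678 : k < 31960
                  · skip
                    by_cases hh679 : k < 31819
                    · skip
                      by_cases hh680 : k < 31772
                      · skip
                        exact relsRange_sound mdata basesM 47 31725 rel675 k (by omega) (by omega)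
                      · skip
                        exact relsRange_sound mdata basesM 47 31772 rel676 k (by omega) (by omega)
                    · skip
                      by_cases hh681 : k < 31866
                      · skip
                        exact relsRange_sound mdata basesM 47 31819 rel677 k (by omega) (by omega)
                      · skip
                        by_cases hh682 : k < 31913
                        · skip
                          exact relsRange_sound mdata basesM 47 31866 rel678 k (by omega) (by omega)
                        · skip
                          exact relsRange_sound mdata basesM 47 31913 rel679 k (by omega) (by omega)
                  · skip
                    by_cases hh683 : k < 32101
                    · skip
                      by_cases hh684 : k < 32007
                      · skip
                        exact relsRange_sound mdata basesM 47 31960 rel680 k (by omega) (by omega)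
                      · skip
                        by_cases hh685 : k < 32054
                        · skip
                          exact relsRange_sound mdata basesM 47 32007 rel681 k (by omega) (by omega)
                        · skip
                          exact relsRange_sound mdata basesM 47 32054 rel682 k (by omega) (by omega)
                    · skip
                      by_cases hh686 : k < 32148
                      · skip
                        exact relsRange_sound mdata basesM 47 32101 rel683 k (by omega) (by omega)
                      · skip
                        by_cases hh687 : k < 32195
                        · skip
                          exact relsRange_sound mdata basesM 47 32148 rel684 k (by omega) (by omega)
                        · skip
                          exact relsRange_sound mdata basesM 47 32195 rel685 k (by omega) (by omega)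
                · skip
                  by_cases hh688 : k < 32477
                  · skip
                    by_cases hh689 : k < 32336
                    · skip
                      by_cases hh690 : k < 32289
                      · skip
                        exact relsRange_sound mdata basesM 47 32242 rel686 k (by omega) (by omega)
                      · skip
                        exact relsRange_sound mdata basesM 47 32289 rel687 k (by omega) (by omega)
                    · skip
                      by_cases hh691 : k < 32383
                      · skip
                        exact relsRange_sound mdata basesM 47 32336 rel688 k (by omega) (by omega)
                      · skip
                        by_cases hh692 : k < 32430
                        · skip
                          exact relsRange_sound mdata basesM 47 32383 rel689 k (by omega) (by omega)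
                        · skip
                          exact relsRange_sound mdata basesM 47 32430 rel690 k (by omega) (by omega)
                  · skip
                    by_cases hh693 : k < 32618
                    · skip
                      by_cases hh694 : k < 32524
                      · skip
                        exact relsRange_sound mdata basesM 47 32477 rel691 k (by omega) (by omega)
                      · skip
                        by_cases hh695 : k < 32571
                        · skip
                          exact relsRange_sound mdata basesM 47 32524 rel692 k (by omega) (by omega)
                        · skip
                          exact relsRange_sound mdata basesM 47 32571 rel693 k (by omega) (by omega)
                    · skip
                      by_cases hh696 : k < 32665
                      · skip
                        exact relsRange_sound mdata basesM 47 32618 rel694 k (by omega) (by omega)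
                      · skip
                        by_cases hh697 : k < 32712
                        · skip
                          exact relsRange_sound mdata basesM 47 32665 rel695 k (by omega) (by omega)
                        · skip
                          exact relsRange_sound mdata basesM 47 32712 rel696 k (by omega) (by omega)
    · skip
      by_cases hh698 : k < 49162
      · skip
        by_cases hh699 : k < 40937
        · skip
          by_cases hh700 : k < 36848
          · skip
            by_cases hh701 : k < 34780
            · skip
              by_cases hh702 : k < 33746
              · skip
                by_cases hh703 : k < 33229
                · skip
                  by_cases hh704 : k < 32994
                  · skip
                    by_cases hh705 : k < 32853
                    · skip
                      by_cases hh706 : k < 32806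
                      · skip
                        exact relsRange_sound mdata basesM 47 32759 rel697 k (by omega) (by omega)
                      · skip
                        exact relsRange_sound mdata basesM 47 32806 rel698 k (by omega) (by omega)
                    · skip
                      by_cases hh707 : k < 32900
                      · skip
                        exact relsRange_sound mdata basesM 47 32853 rel699 k (by omega) (by omega)
                      · skip
                        by_cases hh708 : k < 32947
                        · skip
                          exact relsRange_sound mdata basesM 47 32900 rel700 k (by omega) (by omega)
                        · skip
                          exact relsRange_sound mdata basesM 47 32947 rel701 k (by omega) (by omega)
                  · skip
                    by_cases hh709 : k < 33088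
                    · skip
                      by_cases hh710 : k < 33041
                      · skip
                        exact relsRange_sound mdata basesM 47 32994 rel702 k (by omega) (by omega)
                      · skip
                        exact relsRange_sound mdata basesM 47 33041 rel703 k (by omega) (by omega)
                    · skip
                      by_cases hh711 : k < 33135
                      · skip
                        exact relsRange_sound mdata basesM 47 33088 rel704 k (by omega) (by omega)
                      · skip
                        by_cases hh712 : k < 33182
                        · skip
                          exact relsRange_sound mdata basesM 47 33135 rel705 k (by omega) (by omega)
                        · skip
                          exact relsRange_sound mdata basesM 47 33182 rel706 k (by omega) (by omega)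
                · skip
                  by_cases hh713 : k < 33464
                  · skip
                    by_cases hh714 : k < 33323
                    · skip
                      by_cases hh715 : k < 33276
                      · skip
                        exact relsRange_sound mdata basesM 47 33229 rel707 k (by omega) (by omega)
                      · skip
                        exact relsRange_sound mdata basesM 47 33276 rel708 k (by omega) (by omega)
                    · skip
                      by_cases hh716 : k < 33370
                      · skip
                        exact relsRange_sound mdata basesM 47 33323 rel709 k (by omega) (by omega)
                      · skip
                        by_cases hh717 : k < 33417
                        · skip
                          exact relsRange_sound mdata basesM 47 33370 rel710 k (by omega) (by omega)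
                        · skip
                          exact relsRange_sound mdata basesM 47 33417 rel711 k (by omega) (by omega)
                  · skip
                    by_cases hh718 : k < 33605
                    · skip
                      by_cases hh719 : k < 33511
                      · skip
                        exact relsRange_sound mdata basesM 47 33464 rel712 k (by omega) (by omega)
                      · skip
                        by_cases hh720 : k < 33558
                        · skip
                          exact relsRange_sound mdata basesM 47 33511 rel713 k (by omega) (by omega)
                        · skip
                          exact relsRange_sound mdata basesM 47 33558 rel714 k (by omega) (by omega)
                    · skip
                      by_cases hh721 : k < 33652
                      · skip
                        exact relsRange_sound mdata basesM 47 33605 rel715 k (by omega) (by omega)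
                      · skip
                        by_cases hh722 : k < 33699
                        · skip
                          exact relsRange_sound mdata basesM 47 33652 rel716 k (by omega) (by omega)
                        · skip
                          exact relsRange_sound mdata basesM 47 33699 rel717 k (by omega) (by omega)
              · skip
                by_cases hh723 : k < 34263
                · skip
                  by_cases hh724 : k < 33981
                  · skip
                    by_cases hh725 : k < 33840
                    · skip
                      by_cases hh726 : k < 33793
                      · skip
                        exact relsRange_sound mdata basesM 47 33746 rel718 k (by omega) (by omega)
                      · skip
                        exact relsRange_sound mdata basesM 47 33793 rel719 k (by omega) (by omega)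
                    · skip
                      by_cases hh727 : k < 33887
                      · skip
                        exact relsRange_sound mdata basesM 47 33840 rel720 k (by omega) (by omega)
                      · skip
                        by_cases hh728 : k < 33934
                        · skip
                          exact relsRange_sound mdata basesM 47 33887 rel721 k (by omega) (by omega)
                        · skip
                          exact relsRange_sound mdata basesM 47 33934 rel722 k (by omega) (by omega)
                  · skip
                    by_cases hh729 : k < 34122
                    · skip
                      by_cases hh730 : k < 34028
                      · skip
                        exact relsRange_sound mdata basesM 47 33981 rel723 k (by omega) (by omega)
                      · skip
                        by_cases hh731 : k < 34075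
                        · skip
                          exact relsRange_sound mdata basesM 47 34028 rel724 k (by omega) (by omega)
                        · skip
                          exact relsRange_sound mdata basesM 47 34075 rel725 k (by omega) (by omega)
                    · skip
                      by_cases hh732 : k < 34169
                      · skip
                        exact relsRange_sound mdata basesM 47 34122 rel726 k (by omega) (by omega)
                      · skip
                        by_cases hh733 : k < 34216
                        · skip
                          exact relsRange_sound mdata basesM 47 34169 rel727 k (by omega) (by omega)
                        · skip
                          exact relsRange_sound mdata basesM 47 34216 rel728 k (by omega) (by omega)
                · skip
                  by_cases hh734 : k < 34498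
                  · skip
                    by_cases hh735 : k < 34357
                    · skip
                      by_cases hh736 : k < 34310
                      · skip
                        exact relsRange_sound mdata basesM 47 34263 rel729 k (by omega) (by omega)
                      · skip
                        exact relsRange_sound mdata basesM 47 34310 rel730 k (by omega) (by omega)
                    · skip
                      by_cases hh737 : k < 34404
                      · skip
                        exact relsRange_sound mdata basesM 47 34357 rel731 k (by omega) (by omega)
                      · skip
                        by_cases hh738 : k < 34451
                        · skip
                          exact relsRange_sound mdata basesM 47 34404 rel732 k (by omega) (by omega)
                        · skip
                          exact relsRange_sound mdata basesM 47 34451 rel733 k (by omega) (by omega)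
                  · skip
                    by_cases hh739 : k < 34639
                    · skip
                      by_cases hh740 : k < 34545
                      · skip
                        exact relsRange_sound mdata basesM 47 34498 rel734 k (by omega) (by omega)
                      · skip
                        by_cases hh741 : k < 34592
                        · skip
                          exact relsRange_sound mdata basesM 47 34545 rel735 k (by omega) (by omega)
                        · skip
                          exact relsRange_sound mdata basesM 47 34592 rel736 k (by omega) (by omega)
                    · skip
                      by_cases hh742 : k < 34686
                      · skip
                        exact relsRange_sound mdata basesM 47 34639 rel737 k (by omega) (by omega)
                      · skip
                        by_cases hh743 : k < 34733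
                        · skip
                          exact relsRange_sound mdata basesM 47 34686 rel738 k (by omega) (by omega)
                        · skip
                          exact relsRange_sound mdata basesM 47 34733 rel739 k (by omega) (by omega)
            · skip
              by_cases hh744 : k < 35814
              · skip
                by_cases hh745 : k < 35297
                · skip
                  by_cases hh746 : k < 35015
                  · skip
                    by_cases hh747 : k < 34874
                    · skip
                      by_cases hh748 : k < 34827
                      · skip
                        exact relsRange_sound mdata basesM 47 34780 rel740 k (by omega) (by omega)
                      · skip
                        exact relsRange_sound mdata basesM 47 34827 rel741 k (by omega) (by omega)
                    · skip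
                      by_cases hh749 : k < 34921
                      · skip
                        exact relsRange_sound mdata basesM 47 34874 rel742 k (by omega) (by omega)
                      · skip
                        by_cases hh750 : k < 34968
                        · skip
                          exact relsRange_sound mdata basesM 47 34921 rel743 k (by omega) (by omega)
                        · skip
                          exact relsRange_sound mdata basesM 47 34968 rel744 k (by omega) (by omega)
                  · skip
                    by_cases hh751 : k < 35156
                    · skip
                      by_cases hh752 : k < 35062
                      · skip
                        exact relsRange_sound mdata basesM 47 35015 rel745 k (by omega) (by omega)
                      · skip
                        by_cases hh753 : k < 35109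
                        · skip
                          exact relsRange_sound mdata basesM 47 35062 rel746 k (by omega) (by omega)
                        · skip
                          exact relsRange_sound mdata basesM 47 35109 rel747 k (by omega) (by omega)
                    · skip
                      by_cases hh754 : k < 35203
                      · skip
                        exact relsRange_sound mdata basesM 47 35156 rel748 k (by omega) (by omega)
                      · skip
                        by_cases hh755 : k < 35250
                        · skip
                          exact relsRange_sound mdata basesM 47 35203 rel749 k (by omega) (by omega)
                        · skip
                          exact relsRange_sound mdata basesM 47 35250 rel750 k (by omega) (by omega)
                · skip
                  by_cases hh756 : k < 35532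
                  · skip
                    by_cases hh757 : k < 35391
                    · skip
                      by_cases hh758 : k < 35344
                      · skip
                        exact relsRange_sound mdata basesM 47 35297 rel751 k (by omega) (by omega)
                      · skip
                        exact relsRange_sound mdata basesM 47 35344 rel752 k (by omega) (by omega)
                    · skip
                      by_cases hh759 : k < 35438
                      · skip
                        exact relsRange_sound mdata basesM 47 35391 rel753 k (by omega) (by omega)
                      · skip
                        by_cases hh760 : k < 35485
                        · skip
                          exact relsRange_sound mdata basesM 47 35438 rel754 k (by omega) (by omega)
                        · skip
                          exact relsRange_sound mdata basesM 47 35485 rel755 k (by omega) (by omega)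
                  · skip
                    by_cases hh761 : k < 35673
                    · skip
                      by_cases hh762 : k < 35579
                      · skip
                        exact relsRange_sound mdata basesM 47 35532 rel756 k (by omega) (by omega)
                      · skip
                        by_cases hh763 : k < 35626
                        · skip
                          exact relsRange_sound mdata basesM 47 35579 rel757 k (by omega) (by omega)
                        · skip
                          exact relsRange_sound mdata basesM 47 35626 rel758 k (by omega) (by omega)
                    · skip
                      by_cases hh764 : k < 35720
                      · skip
                        exact relsRange_sound mdata basesM 47 35673 rel759 k (by omega) (by omega)
                      · skip
                        by_cases hh765 : k < 35767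
                        · skip
                          exact relsRange_sound mdata basesM 47 35720 rel760 k (by omega) (by omega)
                        · skip
                          exact relsRange_sound mdata basesM 47 35767 rel761 k (by omega) (by omega)
              · skip
                by_cases hh766 : k < 36331
                · skip
                  by_cases hh767 : k < 36049
                  · skip
                    by_cases hh768 : k < 35908
                    · skip
                      by_cases hh769 : k < 35861
                      · skip
                        exact relsRange_sound mdata basesM 47 35814 rel762 k (by omega) (by omega)
                      · skip
                        exact relsRange_sound mdata basesM 47 35861 rel763 k (by omega) (by omega)
                    · skip
                      by_cases hh770 : k < 35955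
                      · skip
                        exact relsRange_sound mdata basesM 47 35908 rel764 k (by omega) (by omega)
                      · skip
                        by_cases hh771 : k < 36002
                        · skip
                          exact relsRange_sound mdata basesM 47 35955 rel765 k (by omega) (by omega)
                        · skip
                          exact relsRange_sound mdata basesM 47 36002 rel766 k (by omega) (by omega)
                  · skip
                    by_cases hh772 : k < 36190
                    · skip
                      by_cases hh773 : k < 36096
                      · skip
                        exact relsRange_sound mdata basesM 47 36049 rel767 k (by omega) (by omega)
                      · skip
                        by_cases hh774 : k < 36143
                        · skip
                          exact relsRange_sound mdata basesM 47 36096 rel768 k (by omega) (by omega)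
                        · skip
                          exact relsRange_sound mdata basesM 47 36143 rel769 k (by omega) (by omega)
                    · skip
                      by_cases hh775 : k < 36237
                      · skip
                        exact relsRange_sound mdata basesM 47 36190 rel770 k (by omega) (by omega)
                      · skip
                        by_cases hh776 : k < 36284
                        · skip
                          exact relsRange_sound mdata basesM 47 36237 rel771 k (by omega) (by omega)
                        · skip
                          exact relsRange_sound mdata basesM 47 36284 rel772 k (by omega) (by omega)
                · skip
                  by_cases hh777 : k < 36566
                  · skip
                    by_cases hh778 : k < 36425
                    · skip
                      by_cases hh779 : k < 36378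
                      · skip
                        exact relsRange_sound mdata basesM 47 36331 rel773 k (by omega) (by omega)
                      · skip
                        exact relsRange_sound mdata basesM 47 36378 rel774 k (by omega) (by omega)
                    · skip
                      by_cases hh780 : k < 36472
                      · skip
                        exact relsRange_sound mdata basesM 47 36425 rel775 k (by omega) (by omega)
                      · skip
                        by_cases hh781 : k < 36519
                        · skip
                          exact relsRange_sound mdata basesM 47 36472 rel776 k (by omega) (by omega)
                        · skip
                          exact relsRange_sound mdata basesM 47 36519 rel777 k (by omega) (by omega)
                  · skip
                    by_cases hh782 : k < 36707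
                    · skip
                      by_cases hh783 : k < 36613
                      · skip
                        exact relsRange_sound mdata basesM 47 36566 rel778 k (by omega) (by omega)
                      · skip
                        by_cases hh784 : k < 36660
                        · skip
                          exact relsRange_sound mdata basesM 47 36613 rel779 k (by omega) (by omega)
                        · skip
                          exact relsRange_sound mdata basesM 47 36660 rel780 k (by omega) (by omega)
                    · skip
                      by_cases hh785 : k < 36754
                      · skip
                        exact relsRange_sound mdata basesM 47 36707 rel781 k (by omega) (by omega)
                      · skip
                        by_cases hh786 : k < 36801
                        · skip
                          exact relsRange_sound mdata basesM 47 36754 rel782 k (by omega) (by omega)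
                        · skip
                          exact relsRange_sound mdata basesM 47 36801 rel783 k (by omega) (by omega)
          · skip
            by_cases hh787 : k < 38869
            · skip
              by_cases hh788 : k < 37835
              · skip
                by_cases hh789 : k < 37318
                · skip
                  by_cases hh790 : k < 37083
                  · skip
                    by_cases hh791 : k < 36942
                    · skip
                      by_cases hh792 : k < 36895
                      · skip
                        exact relsRange_sound mdata basesM 47 36848 rel784 k (by omega) (by omega)
                      · skip
                        exact relsRange_sound mdata basesM 47 36895 rel785 k (by omega) (by omega)
                    · skip
                      by_cases hh793 : k < 36989
                      · skip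
                        exact relsRange_sound mdata basesM 47 36942 rel786 k (by omega) (by omega)
                      · skip
                        by_cases hh794 : k < 37036
                        · skip
                          exact relsRange_sound mdata basesM 47 36989 rel787 k (by omega) (by omega)
                        · skip
                          exact relsRange_sound mdata basesM 47 37036 rel788 k (by omega) (by omega)
                  · skip
                    by_cases hh795 : k < 37177
                    · skip
                      by_cases hh796 : k < 37130
                      · skip
                        exact relsRange_sound mdata basesM 47 37083 rel789 k (by omega) (by omega)
                      · skip
                        exact relsRange_sound mdata basesM 47 37130 rel790 k (by omega) (by omega)
                    · skip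
                      by_cases hh797 : k < 37224
                      · skip
                        exact relsRange_sound mdata basesM 47 37177 rel791 k (by omega) (by omega)
                      · skip
                        by_cases hh798 : k < 37271
                        · skip
                          exact relsRange_sound mdata basesM 47 37224 rel792 k (by omega) (by omega)
                        · skip
                          exact relsRange_sound mdata basesM 47 37271 rel793 k (by omega) (by omega)
                · skip
                  by_cases hh799 : k < 37553
                  · skip
                    by_cases hh800 : k < 37412
                    · skip
                      by_cases hh801 : k < 37365
                      · skip
                        exact relsRange_sound mdata basesM 47 37318 rel794 k (by omega) (by omega)
                      · skip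
                        exact relsRange_sound mdata basesM 47 37365 rel795 k (by omega) (by omega)
                    · skip
                      by_cases hh802 : k < 37459
                      · skip
                        exact relsRange_sound mdata basesM 47 37412 rel796 k (by omega) (by omega)
                      · skip
                        by_cases hh803 : k < 37506
                        · skip
                          exact relsRange_sound mdata basesM 47 37459 rel797 k (by omega) (by omega)
                        · skip
                          exact relsRange_sound mdata basesM 47 37506 rel798 k (by omega) (by omega)
                  · skip
                    by_cases hh804 : k < 37694
                    · skip
                      by_cases hh805 : k < 37600
                      · skip
                        exact relsRange_sound mdata basesM 47 37553 rel799 k (by omega) (by omega)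
                      · skip
                        by_cases hh806 : k < 37647
                        · skip
                          exact relsRange_sound mdata basesM 47 37600 rel800 k (by omega) (by omega)
                        · skip
                          exact relsRange_sound mdata basesM 47 37647 rel801 k (by omega) (by omega)
                    · skip
                      by_cases hh807 : k < 37741
                      · skip
                        exact relsRange_sound mdata basesM 47 37694 rel802 k (by omega) (by omega)
                      · skip
                        by_cases hh808 : k < 37788
                        · skip
                          exact relsRange_sound mdata basesM 47 37741 rel803 k (by omega) (by omega)
                        · skip
                          exact relsRange_sound mdata basesM 47 37788 rel804 k (by omega) (by omega)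
              · skip
                by_cases hh809 : k < 38352
                · skip
                  by_cases hh810 : k < 38070
                  · skip
                    by_cases hh811 : k < 37929
                    · skip
                      by_cases hh812 : k < 37882
                      · skip
                        exact relsRange_sound mdata basesM 47 37835 rel805 k (by omega) (by omega)
                      · skip
                        exact relsRange_sound mdata basesM 47 37882 rel806 k (by omega) (by omega)
                    · skip
                      by_cases hh813 : k < 37976
                      · skip
                        exact relsRange_sound mdata basesM 47 37929 rel807 k (by omega) (by omega)
                      · skip
                        by_cases hh814 : k < 38023
                        · skip
                          exact relsRange_sound mdata basesM 47 37976 rel808 k (by omega) (by omega)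
                        · skip
                          exact relsRange_sound mdata basesM 47 38023 rel809 k (by omega) (by omega)
                  · skip
                    by_cases hh815 : k < 38211
                    · skip
                      by_cases hh816 : k < 38117
                      · skip
                        exact relsRange_sound mdata basesM 47 38070 rel810 k (by omega) (by omega)
                      · skip
                        by_cases hh817 : k < 38164
                        · skip
                          exact relsRange_sound mdata basesM 47 38117 rel811 k (by omega) (by omega)
                        · skip
                          exact relsRange_sound mdata basesM 47 38164 rel812 k (by omega) (by omega)
                    · skip
                      by_cases hh818 : k < 38258
                      · skip
                        exact relsRange_sound mdata basesM 47 38211 rel813 k (by omega) (by omega)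
                      · skip
                        by_cases hh819 : k < 38305
                        · skip
                          exact relsRange_sound mdata basesM 47 38258 rel814 k (by omega) (by omega)
                        · skip
                          exact relsRange_sound mdata basesM 47 38305 rel815 k (by omega) (by omega)
                · skip
                  by_cases hh820 : k < 38587
                  · skip
                    by_cases hh821 : k < 38446
                    · skip
                      by_cases hh822 : k < 38399
                      · skip
                        exact relsRange_sound mdata basesM 47 38352 rel816 k (by omega) (by omega)
                      · skip
                        exact relsRange_sound mdata basesM 47 38399 rel817 k (by omega) (by omega)
                    · skip
                      by_cases hh823 : k < 38493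
                      · skip
                        exact relsRange_sound mdata basesM 47 38446 rel818 k (by omega) (by omega)
                      · skip
                        by_cases hh824 : k < 38540
                        · skip
                          exact relsRange_sound mdata basesM 47 38493 rel819 k (by omega) (by omega)
                        · skip
                          exact relsRange_sound mdata basesM 47 38540 rel820 k (by omega) (by omega)
                  · skip
                    by_cases hh825 : k < 38728
                    · skip
                      by_cases hh826 : k < 38634
                      · skip
                        exact relsRange_sound mdata basesM 47 38587 rel821 k (by omega) (by omega)
                      · skip
                        by_cases hh827 : k < 38681
                        · skip
                          exact relsRange_sound mdata basesM 47 38634 rel822 k (by omega) (by omega)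
                        · skip
                          exact relsRange_sound mdata basesM 47 38681 rel823 k (by omega) (by omega)
                    · skip
                      by_cases hh828 : k < 38775
                      · skip
                        exact relsRange_sound mdata basesM 47 38728 rel824 k (by omega) (by omega)
                      · skip
                        by_cases hh829 : k < 38822
                        · skip
                          exact relsRange_sound mdata basesM 47 38775 rel825 k (by omega) (by omega)
                        · skip
                          exact relsRange_sound mdata basesM 47 38822 rel826 k (by omega) (by omega)
            · skip
              by_cases hh830 : k < 39903
              · skip
                by_cases hh831 : k < 39386
                · skip
                  by_cases hh832 : k < 39104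
                  · skip
                    by_cases hh833 : k < 38963
                    · skip
                      by_cases hh834 : k < 38916
                      · skip
                        exact relsRange_sound mdata basesM 47 38869 rel827 k (by omega) (by omega)
                      · skip
                        exact relsRange_sound mdata basesM 47 38916 rel828 k (by omega) (by omega)
                    · skip
                      by_cases hh835 : k < 39010
                      · skip
                        exact relsRange_sound mdata basesM 47 38963 rel829 k (by omega) (by omega)
                      · skip
                        by_cases hh836 : k < 39057
                        · skip
                          exact relsRange_sound mdata basesM 47 39010 rel830 k (by omega) (by omega)
                        · skip
                          exact relsRange_sound mdata basesM 47 39057 rel831 k (by omega) (by omega)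
                  · skip
                    by_cases hh837 : k < 39245
                    · skip
                      by_cases hh838 : k < 39151
                      · skip
                        exact relsRange_sound mdata basesM 47 39104 rel832 k (by omega) (by omega)
                      · skip
                        by_cases hh839 : k < 39198
                        · skip
                          exact relsRange_sound mdata basesM 47 39151 rel833 k (by omega) (by omega)
                        · skip
                          exact relsRange_sound mdata basesM 47 39198 rel834 k (by omega) (by omega)
                    · skip
                      by_cases hh840 : k < 39292
                      · skip
                        exact relsRange_sound mdata basesM 47 39245 rel835 k (by omega) (by omega)
                      · skip
                        by_cases hh841 : k < 39339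
                        · skip
                          exact relsRange_sound mdata basesM 47 39292 rel836 k (by omega) (by omega)
                        · skip
                          exact relsRange_sound mdata basesM 47 39339 rel837 k (by omega) (by omega)
                · skip
                  by_cases hh842 : k < 39621
                  · skip
                    by_cases hh843 : k < 39480
                    · skip
                      by_cases hh844 : k < 39433
                      · skip
                        exact relsRange_sound mdata basesM 47 39386 rel838 k (by omega) (by omega)
                      · skip
                        exact relsRange_sound mdata basesM 47 39433 rel839 k (by omega) (by omega)
                    · skip
                      by_cases hh845 : k < 39527
                      · skip
                        exact relsRange_sound mdata basesM 47 39480 rel840 k (by omega) (by omega)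
                      · skip
                        by_cases hh846 : k < 39574
                        · skip
                          exact relsRange_sound mdata basesM 47 39527 rel841 k (by omega) (by omega)
                        · skip
                          exact relsRange_sound mdata basesM 47 39574 rel842 k (by omega) (by omega)
                  · skip
                    by_cases hh847 : k < 39762
                    · skip
                      by_cases hh848 : k < 39668
                      · skip
                        exact relsRange_sound mdata basesM 47 39621 rel843 k (by omega) (by omega)
                      · skip
                        by_cases hh849 : k < 39715
                        · skip
                          exact relsRange_sound mdata basesM 47 39668 rel844 k (by omega) (by omega)
                        · skip
                          exact relsRange_sound mdata basesM 47 39715 rel845 k (by omega) (by omega)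
                    · skip
                      by_cases hh850 : k < 39809
                      · skip
                        exact relsRange_sound mdata basesM 47 39762 rel846 k (by omega) (by omega)
                      · skip
                        by_cases hh851 : k < 39856
                        · skip
                          exact relsRange_sound mdata basesM 47 39809 rel847 k (by omega) (by omega)
                        · skip
                          exact relsRange_sound mdata basesM 47 39856 rel848 k (by omega) (by omega)
              · skip
                by_cases hh852 : k < 40420
                · skip
                  by_cases hh853 : k < 40138
                  · skip
                    by_cases hh854 : k < 39997
                    · skip
                      by_cases hh855 : k < 39950
                      · skip
                        exact relsRange_sound mdata basesM 47 39903 rel849 k (by omega) (by omega)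
                      · skip
                        exact relsRange_sound mdata basesM 47 39950 rel850 k (by omega) (by omega)
                    · skip
                      by_cases hh856 : k < 40044
                      · skip
                        exact relsRange_sound mdata basesM 47 39997 rel851 k (by omega) (by omega)
                      · skip
                        by_cases hh857 : k < 40091
                        · skip
                          exact relsRange_sound mdata basesM 47 40044 rel852 k (by omega) (by omega)
                        · skip
                          exact relsRange_sound mdata basesM 47 40091 rel853 k (by omega) (by omega)
                  · skip
                    by_cases hh858 : k < 40279
                    · skip
                      by_cases hh859 : k < 40185
                      · skip
                        exact relsRange_sound mdata basesM 47 40138 rel854 k (by omega) (by omega)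
                      · skip
                        by_cases hh860 : k < 40232
                        · skip
                          exact relsRange_sound mdata basesM 47 40185 rel855 k (by omega) (by omega)
                        · skip
                          exact relsRange_sound mdata basesM 47 40232 rel856 k (by omega) (by omega)
                    · skip
                      by_cases hh861 : k < 40326
                      · skip
                        exact relsRange_sound mdata basesM 47 40279 rel857 k (by omega) (by omega)
                      · skip
                        by_cases hh862 : k < 40373
                        · skip
                          exact relsRange_sound mdata basesM 47 40326 rel858 k (by omega) (by omega)
                        · skip
                          exact relsRange_sound mdata basesM 47 40373 rel859 k (by omega) (by omega)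
                · skip
                  by_cases hh863 : k < 40655
                  · skip
                    by_cases hh864 : k < 40514
                    · skip
                      by_cases hh865 : k < 40467
                      · skip
                        exact relsRange_sound mdata basesM 47 40420 rel860 k (by omega) (by omega)
                      · skip
                        exact relsRange_sound mdata basesM 47 40467 rel861 k (by omega) (by omega)
                    · skip
                      by_cases hh866 : k < 40561
                      · skip
                        exact relsRange_sound mdata basesM 47 40514 rel862 k (by omega) (by omega)
                      · skip
                        by_cases hh867 : k < 40608
                        · skip
                          exact relsRange_sound mdata basesM 47 40561 rel863 k (by omega) (by omega)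
                        · skip
                          exact relsRange_sound mdata basesM 47 40608 rel864 k (by omega) (by omega)
                  · skip
                    by_cases hh868 : k < 40796
                    · skip
                      by_cases hh869 : k < 40702
                      · skip
                        exact relsRange_sound mdata basesM 47 40655 rel865 k (by omega) (by omega)
                      · skip
                        by_cases hh870 : k < 40749
                        · skip
                          exact relsRange_sound mdata basesM 47 40702 rel866 k (by omega) (by omega)
                        · skip
                          exact relsRange_sound mdata basesM 47 40749 rel867 k (by omega) (by omega)
                    · skip
                      by_cases hh871 : k < 40843
                      · skip
                        exact relsRange_sound mdata basesM 47 40796 rel868 k (by omega) (by omega)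
                      · skip
                        by_cases hh872 : k < 40890
                        · skip
                          exact relsRange_sound mdata basesM 47 40843 rel869 k (by omega) (by omega)
                        · skip
                          exact relsRange_sound mdata basesM 47 40890 rel870 k (by omega) (by omega)
        · skip
          by_cases hh873 : k < 45026
          · skip
            by_cases hh874 : k < 42958
            · skip
              by_cases hh875 : k < 41924
              · skip
                by_cases hh876 : k < 41407
                · skip
                  by_cases hh877 : k < 41172
                  · skip
                    by_cases hh878 : k < 41031
                    · skip
                      by_cases hh879 : k < 40984
                      · skip
                        exact relsRange_sound mdata basesM 47 40937 rel871 k (by omega) (by omega)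
                      · skip
                        exact relsRange_sound mdata basesM 47 40984 rel872 k (by omega) (by omega)
                    · skip
                      by_cases hh880 : k < 41078
                      · skip
                        exact relsRange_sound mdata basesM 47 41031 rel873 k (by omega) (by omega)
                      · skip
                        by_cases hh881 : k < 41125
                        · skip
                          exact relsRange_sound mdata basesM 47 41078 rel874 k (by omega) (by omega)
                        · skip
                          exact relsRange_sound mdata basesM 47 41125 rel875 k (by omega) (by omega)
                  · skip
                    by_cases hh882 : k < 41266
                    · skip
                      by_cases hh883 : k < 41219
                      · skip
                        exact relsRange_sound mdata basesM 47 41172 rel876 k (by omega) (by omega)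
                      · skip
                        exact relsRange_sound mdata basesM 47 41219 rel877 k (by omega) (by omega)
                    · skip
                      by_cases hh884 : k < 41313
                      · skip
                        exact relsRange_sound mdata basesM 47 41266 rel878 k (by omega) (by omega)
                      · skip
                        by_cases hh885 : k < 41360
                        · skip
                          exact relsRange_sound mdata basesM 47 41313 rel879 k (by omega) (by omega)
                        · skip
                          exact relsRange_sound mdata basesM 47 41360 rel880 k (by omega) (by omega)
                · skip
                  by_cases hh886 : k < 41642
                  · skip
                    by_cases hh887 : k < 41501
                    · skip
                      by_cases hh888 : k < 41454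
                      · skip
                        exact relsRange_sound mdata basesM 47 41407 rel881 k (by omega) (by omega)
                      · skip
                        exact relsRange_sound mdata basesM 47 41454 rel882 k (by omega) (by omega)
                    · skip
                      by_cases hh889 : k < 41548
                      · skip
                        exact relsRange_sound mdata basesM 47 41501 rel883 k (by omega) (by omega)
                      · skip
                        by_cases hh890 : k < 41595
                        · skip
                          exact relsRange_sound mdata basesM 47 41548 rel884 k (by omega) (by omega)
                        · skip
                          exact relsRange_sound mdata basesM 47 41595 rel885 k (by omega) (by omega)
                  · skip
                    by_cases hh891 : k < 41783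
                    · skip
                      by_cases hh892 : k < 41689
                      · skip
                        exact relsRange_sound mdata basesM 47 41642 rel886 k (by omega) (by omega)
                      · skip
                        by_cases hh893 : k < 41736
                        · skip
                          exact relsRange_sound mdata basesM 47 41689 rel887 k (by omega) (by omega)
                        · skip
                          exact relsRange_sound mdata basesM 47 41736 rel888 k (by omega) (by omega)
                    · skip
                      by_cases hh894 : k < 41830
                      · skip
                        exact relsRange_sound mdata basesM 47 41783 rel889 k (by omega) (by omega)
                      · skip
                        by_cases hh895 : k < 41877
                        · skip
                          exact relsRange_sound mdata basesM 47 41830 rel890 k (by omega) (by omega)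
                        · skip
                          exact relsRange_sound mdata basesM 47 41877 rel891 k (by omega) (by omega)
              · skip
                by_cases hh896 : k < 42441
                · skip
                  by_cases hh897 : k < 42159
                  · skip
                    by_cases hh898 : k < 42018
                    · skip
                      by_cases hh899 : k < 41971
                      · skip
                        exact relsRange_sound mdata basesM 47 41924 rel892 k (by omega) (by omega)
                      · skip
                        exact relsRange_sound mdata basesM 47 41971 rel893 k (by omega) (by omega)
                    · skip
                      by_cases hh900 : k < 42065
                      · skip
                        exact relsRange_sound mdata basesM 47 42018 rel894 k (by omega) (by omega)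
                      · skip
                        by_cases hh901 : k < 42112
                        · skip
                          exact relsRange_sound mdata basesM 47 42065 rel895 k (by omega) (by omega)
                        · skip
                          exact relsRange_sound mdata basesM 47 42112 rel896 k (by omega) (by omega)
                  · skip
                    by_cases hh902 : k < 42300
                    · skip
                      by_cases hh903 : k < 42206
                      · skip
                        exact relsRange_sound mdata basesM 47 42159 rel897 k (by omega) (by omega)
                      · skip
                        by_cases hh904 : k < 42253
                        · skip
                          exact relsRange_sound mdata basesM 47 42206 rel898 k (by omega) (by omega)
                        · skip
                          exact relsRange_sound mdata basesM 47 42253 rel899 k (by omega) (by omega)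
                    · skip
                      by_cases hh905 : k < 42347
                      · skip
                        exact relsRange_sound mdata basesM 47 42300 rel900 k (by omega) (by omega)
                      · skip
                        by_cases hh906 : k < 42394
                        · skip
                          exact relsRange_sound mdata basesM 47 42347 rel901 k (by omega) (by omega)
                        · skip
                          exact relsRange_sound mdata basesM 47 42394 rel902 k (by omega) (by omega)
                · skip
                  by_cases hh907 : k < 42676
                  · skip
                    by_cases hh908 : k < 42535
                    · skip
                      by_cases hh909 : k < 42488
                      · skip
                        exact relsRange_sound mdata basesM 47 42441 rel903 k (by omega) (by omega)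
                      · skip
                        exact relsRange_sound mdata basesM 47 42488 rel904 k (by omega) (by omega)
                    · skip
                      by_cases hh910 : k < 42582
                      · skip
                        exact relsRange_sound mdata basesM 47 42535 rel905 k (by omega) (by omega)
                      · skip
                        by_cases hh911 : k < 42629
                        · skip
                          exact relsRange_sound mdata basesM 47 42582 rel906 k (by omega) (by omega)
                        · skip
                          exact relsRange_sound mdata basesM 47 42629 rel907 k (by omega) (by omega)
                  · skip
                    by_cases hh912 : k < 42817
                    · skip
                      by_cases hh913 : k < 42723
                      · skip
                        exact relsRange_sound mdata basesM 47 42676 rel908 k (by omega) (by omega)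
                      · skip
                        by_cases hh914 : k < 42770
                        · skip
                          exact relsRange_sound mdata basesM 47 42723 rel909 k (by omega) (by omega)
                        · skip
                          exact relsRange_sound mdata basesM 47 42770 rel910 k (by omega) (by omega)
                    · skip
                      by_cases hh915 : k < 42864
                      · skip
                        exact relsRange_sound mdata basesM 47 42817 rel911 k (by omega) (by omega)
                      · skip
                        by_cases hh916 : k < 42911
                        · skip
                          exact relsRange_sound mdata basesM 47 42864 rel912 k (by omega) (by omega)
                        · skip
                          exact relsRange_sound mdata basesM 47 42911 rel913 k (by omega) (by omega)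
            · skip
              by_cases hh917 : k < 43992
              · skip
                by_cases hh918 : k < 43475
                · skip
                  by_cases hh919 : k < 43193
                  · skip
                    by_cases hh920 : k < 43052
                    · skip
                      by_cases hh921 : k < 43005
                      · skip
                        exact relsRange_sound mdata basesM 47 42958 rel914 k (by omega) (by omega)
                      · skip
                        exact relsRange_sound mdata basesM 47 43005 rel915 k (by omega) (by omega)
                    · skip
                      by_cases hh922 : k < 43099
                      · skip
                        exact relsRange_sound mdata basesM 47 43052 rel916 k (by omega) (by omega)
                      · skip
                        by_cases hh923 : k < 43146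
                        · skip
                          exact relsRange_sound mdata basesM 47 43099 rel917 k (by omega) (by omega)
                        · skip
                          exact relsRange_sound mdata basesM 47 43146 rel918 k (by omega) (by omega)
                  · skip
                    by_cases hh924 : k < 43334
                    · skip
                      by_cases hh925 : k < 43240
                      · skip
                        exact relsRange_sound mdata basesM 47 43193 rel919 k (by omega) (by omega)
                      · skip
                        by_cases hh926 : k < 43287
                        · skip
                          exact relsRange_sound mdata basesM 47 43240 rel920 k (by omega) (by omega)
                        · skip
                          exact relsRange_sound mdata basesM 47 43287 rel921 k (by omega) (by omega)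
                    · skip
                      by_cases hh927 : k < 43381
                      · skip
                        exact relsRange_sound mdata basesM 47 43334 rel922 k (by omega) (by omega)
                      · skip
                        by_cases hh928 : k < 43428
                        · skip
                          exact relsRange_sound mdata basesM 47 43381 rel923 k (by omega) (by omega)
                        · skip
                          exact relsRange_sound mdata basesM 47 43428 rel924 k (by omega) (by omega)
                · skip
                  by_cases hh929 : k < 43710
                  · skip
                    by_cases hh930 : k < 43569
                    · skip
                      by_cases hh931 : k < 43522
                      · skip
                        exact relsRange_sound mdata basesM 47 43475 rel925 k (by omega) (by omega)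
                      · skip
                        exact relsRange_sound mdata basesM 47 43522 rel926 k (by omega) (by omega)
                    · skip
                      by_cases hh932 : k < 43616
                      · skip
                        exact relsRange_sound mdata basesM 47 43569 rel927 k (by omega) (by omega)
                      · skip
                        by_cases hh933 : k < 43663
                        · skip
                          exact relsRange_sound mdata basesM 47 43616 rel928 k (by omega) (by omega)
                        · skip
                          exact relsRange_sound mdata basesM 47 43663 rel929 k (by omega) (by omega)
                  · skip
                    by_cases hh934 : k < 43851
                    · skip
                      by_cases hh935 : k < 43757
                      · skip
                        exact relsRange_sound mdata basesM 47 43710 rel930 k (by omega) (by omega)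
                      · skip
                        by_cases hh936 : k < 43804
                        · skip
                          exact relsRange_sound mdata basesM 47 43757 rel931 k (by omega) (by omega)
                        · skip
                          exact relsRange_sound mdata basesM 47 43804 rel932 k (by omega) (by omega)
                    · skip
                      by_cases hh937 : k < 43898
                      · skip
                        exact relsRange_sound mdata basesM 47 43851 rel933 k (by omega) (by omega)
                      · skip
                        by_cases hh938 : k < 43945
                        · skip
                          exact relsRange_sound mdata basesM 47 43898 rel934 k (by omega) (by omega)
                        · skip
                          exact relsRange_sound mdata basesM 47 43945 rel935 k (by omega) (by omega)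
              · skip
                by_cases hh939 : k < 44509
                · skip
                  by_cases hh940 : k < 44227
                  · skip
                    by_cases hh941 : k < 44086
                    · skip
                      by_cases hh942 : k < 44039
                      · skip
                        exact relsRange_sound mdata basesM 47 43992 rel936 k (by omega) (by omega)
                      · skip
                        exact relsRange_sound mdata basesM 47 44039 rel937 k (by omega) (by omega)
                    · skip
                      by_cases hh943 : k < 44133
                      · skip
                        exact relsRange_sound mdata basesM 47 44086 rel938 k (by omega) (by omega)
                      · skip
                        by_cases hh944 : k < 44180
                        · skip
                          exact relsRange_sound mdata basesM 47 44133 rel939 k (by omega) (by omega)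
                        · skip
                          exact relsRange_sound mdata basesM 47 44180 rel940 k (by omega) (by omega)
                  · skip
                    by_cases hh945 : k < 44368
                    · skip
                      by_cases hh946 : k < 44274
                      · skip
                        exact relsRange_sound mdata basesM 47 44227 rel941 k (by omega) (by omega)
                      · skip
                        by_cases hh947 : k < 44321
                        · skip
                          exact relsRange_sound mdata basesM 47 44274 rel942 k (by omega) (by omega)
                        · skip
                          exact relsRange_sound mdata basesM 47 44321 rel943 k (by omega) (by omega)
                    · skip
                      by_cases hh948 : k < 44415
                      · skip
                        exact relsRange_sound mdata basesM 47 44368 rel944 k (by omega) (by omega)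
                      · skip
                        by_cases hh949 : k < 44462
                        · skip
                          exact relsRange_sound mdata basesM 47 44415 rel945 k (by omega) (by omega)
                        · skip
                          exact relsRange_sound mdata basesM 47 44462 rel946 k (by omega) (by omega)
                · skip
                  by_cases hh950 : k < 44744
                  · skip
                    by_cases hh951 : k < 44603
                    · skip
                      by_cases hh952 : k < 44556
                      · skip
                        exact relsRange_sound mdata basesM 47 44509 rel947 k (by omega) (by omega)
                      · skip
                        exact relsRange_sound mdata basesM 47 44556 rel948 k (by omega) (by omega)
                    · skip
                      by_cases hh953 : k < 44650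
                      · skip
                        exact relsRange_sound mdata basesM 47 44603 rel949 k (by omega) (by omega)
                      · skip
                        by_cases hh954 : k < 44697
                        · skip
                          exact relsRange_sound mdata basesM 47 44650 rel950 k (by omega) (by omega)
                        · skip
                          exact relsRange_sound mdata basesM 47 44697 rel951 k (by omega) (by omega)
                  · skip
                    by_cases hh955 : k < 44885
                    · skip
                      by_cases hh956 : k < 44791
                      · skip
                        exact relsRange_sound mdata basesM 47 44744 rel952 k (by omega) (by omega)
                      · skip
                        by_cases hh957 : k < 44838
                        · skip
                          exact relsRange_sound mdata basesM 47 44791 rel953 k (by omega) (by omega)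
                        · skip
                          exact relsRange_sound mdata basesM 47 44838 rel954 k (by omega) (by omega)
                    · skip
                      by_cases hh958 : k < 44932
                      · skip
                        exact relsRange_sound mdata basesM 47 44885 rel955 k (by omega) (by omega)
                      · skip
                        by_cases hh959 : k < 44979
                        · skip
                          exact relsRange_sound mdata basesM 47 44932 rel956 k (by omega) (by omega)
                        · skip
                          exact relsRange_sound mdata basesM 47 44979 rel957 k (by omega) (by omega)
          · skip
            by_cases hh960 : k < 47094
            · skip
              by_cases hh961 : k < 46060
              · skip
                by_cases hh962 : k < 45543
                · skip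
                  by_cases hh963 : k < 45261
                  · skip
                    by_cases hh964 : k < 45120
                    · skip
                      by_cases hh965 : k < 45073
                      · skip
                        exact relsRange_sound mdata basesM 47 45026 rel958 k (by omega) (by omega)
                      · skip
                        exact relsRange_sound mdata basesM 47 45073 rel959 k (by omega) (by omega)
                    · skip
                      by_cases hh966 : k < 45167
                      · skip
                        exact relsRange_sound mdata basesM 47 45120 rel960 k (by omega) (by omega)
                      · skip
                        by_cases hh967 : k < 45214
                        · skip
                          exact relsRange_sound mdata basesM 47 45167 rel961 k (by omega) (by omega)
                        · skip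
                          exact relsRange_sound mdata basesM 47 45214 rel962 k (by omega) (by omega)
                  · skip
                    by_cases hh968 : k < 45402
                    · skip
                      by_cases hh969 : k < 45308
                      · skip
                        exact relsRange_sound mdata basesM 47 45261 rel963 k (by omega) (by omega)
                      · skip
                        by_cases hh970 : k < 45355
                        · skip
                          exact relsRange_sound mdata basesM 47 45308 rel964 k (by omega) (by omega)
                        · skip
                          exact relsRange_sound mdata basesM 47 45355 rel965 k (by omega) (by omega)
                    · skip
                      by_cases hh971 : k < 45449
                      · skip
                        exact relsRange_sound mdata basesM 47 45402 rel966 k (by omega) (by omega)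
                      · skip
                        by_cases hh972 : k < 45496
                        · skip
                          exact relsRange_sound mdata basesM 47 45449 rel967 k (by omega) (by omega)
                        · skip
                          exact relsRange_sound mdata basesM 47 45496 rel968 k (by omega) (by omega)
                · skip
                  by_cases hh973 : k < 45778
                  · skip
                    by_cases hh974 : k < 45637
                    · skip
                      by_cases hh975 : k < 45590
                      · skip
                        exact relsRange_sound mdata basesM 47 45543 rel969 k (by omega) (by omega)
                      · skip
                        exact relsRange_sound mdata basesM 47 45590 rel970 k (by omega) (by omega)
                    · skip
                      by_cases hh976 : k < 45684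
                      · skip
                        exact relsRange_sound mdata basesM 47 45637 rel971 k (by omega) (by omega)
                      · skip
                        by_cases hh977 : k < 45731
                        · skip
                          exact relsRange_sound mdata basesM 47 45684 rel972 k (by omega) (by omega)
                        · skip
                          exact relsRange_sound mdata basesM 47 45731 rel973 k (by omega) (by omega)
                  · skip
                    by_cases hh978 : k < 45919
                    · skip
                      by_cases hh979 : k < 45825
                      · skip
                        exact relsRange_sound mdata basesM 47 45778 rel974 k (by omega) (by omega)
                      · skip
                        by_cases hh980 : k < 45872
                        · skip
                          exact relsRange_sound mdata basesM 47 45825 rel975 k (by omega) (by omega)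
                        · skip
                          exact relsRange_sound mdata basesM 47 45872 rel976 k (by omega) (by omega)
                    · skip
                      by_cases hh981 : k < 45966
                      · skip
                        exact relsRange_sound mdata basesM 47 45919 rel977 k (by omega) (by omega)
                      · skip
                        by_cases hh982 : k < 46013
                        · skip
                          exact relsRange_sound mdata basesM 47 45966 rel978 k (by omega) (by omega)
                        · skip
                          exact relsRange_sound mdata basesM 47 46013 rel979 k (by omega) (by omega)
              · skip
                by_cases hh983 : k < 46577
                · skip
                  by_cases hh984 : k < 46295
                  · skip
                    by_cases hh985 : k < 46154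
                    · skip
                      by_cases hh986 : k < 46107
                      · skip
                        exact relsRange_sound mdata basesM 47 46060 rel980 k (by omega) (by omega)
                      · skip
                        exact relsRange_sound mdata basesM 47 46107 rel981 k (by omega) (by omega)
                    · skip
                      by_cases hh987 : k < 46201
                      · skip
                        exact relsRange_sound mdata basesM 47 46154 rel982 k (by omega) (by omega)
                      · skip
                        by_cases hh988 : k < 46248
                        · skip
                          exact relsRange_sound mdata basesM 47 46201 rel983 k (by omega) (by omega)
                        · skip
                          exact relsRange_sound mdata basesM 47 46248 rel984 k (by omega) (by omega)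
                  · skip
                    by_cases hh989 : k < 46436
                    · skip
                      by_cases hh990 : k < 46342
                      · skip
                        exact relsRange_sound mdata basesM 47 46295 rel985 k (by omega) (by omega)
                      · skip
                        by_cases hh991 : k < 46389
                        · skip
                          exact relsRange_sound mdata basesM 47 46342 rel986 k (by omega) (by omega)
                        · skip
                          exact relsRange_sound mdata basesM 47 46389 rel987 k (by omega) (by omega)
                    · skip
                      by_cases hh992 : k < 46483
                      · skip
                        exact relsRange_sound mdata basesM 47 46436 rel988 k (by omega) (by omega)
                      · skip
                        by_cases hh993 : k < 46530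
                        · skip
                          exact relsRange_sound mdata basesM 47 46483 rel989 k (by omega) (by omega)
                        · skip
                          exact relsRange_sound mdata basesM 47 46530 rel990 k (by omega) (by omega)
                · skip
                  by_cases hh994 : k < 46812
                  · skip
                    by_cases hh995 : k < 46671
                    · skip
                      by_cases hh996 : k < 46624
                      · skip
                        exact relsRange_sound mdata basesM 47 46577 rel991 k (by omega) (by omega)
                      · skip
                        exact relsRange_sound mdata basesM 47 46624 rel992 k (by omega) (by omega)
                    · skip
                      by_cases hh997 : k < 46718
                      · skip
                        exact relsRange_sound mdata basesM 47 46671 rel993 k (by omega) (by omega)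
                      · skip
                        by_cases hh998 : k < 46765
                        · skip
                          exact relsRange_sound mdata basesM 47 46718 rel994 k (by omega) (by omega)
                        · skip
                          exact relsRange_sound mdata basesM 47 46765 rel995 k (by omega) (by omega)
                  · skip
                    by_cases hh999 : k < 46953
                    · skip
                      by_cases hh1000 : k < 46859
                      · skip
                        exact relsRange_sound mdata basesM 47 46812 rel996 k (by omega) (by omega)
                      · skip
                        by_cases hh1001 : k < 46906
                        · skip
                          exact relsRange_sound mdata basesM 47 46859 rel997 k (by omega) (by omega)
                        · skip
                          exact relsRange_sound mdata basesM 47 46906 rel998 k (by omega) (by omega)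
                    · skip
                      by_cases hh1002 : k < 47000
                      · skip
                        exact relsRange_sound mdata basesM 47 46953 rel999 k (by omega) (by omega)
                      · skip
                        by_cases hh1003 : k < 47047
                        · skip
                          exact relsRange_sound mdata basesM 47 47000 rel1000 k (by omega) (by omega)
                        · skip
                          exact relsRange_sound mdata basesM 47 47047 rel1001 k (by omega) (by omega)
            · skip
              by_cases hh1004 : k < 48128
              · skip
                by_cases hh1005 : k < 47611
                · skip
                  by_cases hh1006 : k < 47329
                  · skip
                    by_cases hh1007 : k < 47188
                    · skip
                      by_cases hh1008 : k < 47141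
                      · skip
                        exact relsRange_sound mdata basesM 47 47094 rel1002 k (by omega) (by omega)
                      · skip
                        exact relsRange_sound mdata basesM 47 47141 rel1003 k (by omega) (by omega)
                    · skip
                      by_cases hh1009 : k < 47235
                      · skip
                        exact relsRange_sound mdata basesM 47 47188 rel1004 k (by omega) (by omega)
                      · skip
                        by_cases hh1010 : k < 47282
                        · skip
                          exact relsRange_sound mdata basesM 47 47235 rel1005 k (by omega) (by omega)
                        · skip
                          exact relsRange_sound mdata basesM 47 47282 rel1006 k (by omega) (by omega)
                  · skip
                    by_cases hh1011 : k < 47470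
                    · skip
                      by_cases hh1012 : k < 47376
                      · skip
                        exact relsRange_sound mdata basesM 47 47329 rel1007 k (by omega) (by omega)
                      · skip
                        by_cases hh1013 : k < 47423
                        · skip
                          exact relsRange_sound mdata basesM 47 47376 rel1008 k (by omega) (by omega)
                        · skip
                          exact relsRange_sound mdata basesM 47 47423 rel1009 k (by omega) (by omega)
                    · skip
                      by_cases hh1014 : k < 47517
                      · skip
                        exact relsRange_sound mdata basesM 47 47470 rel1010 k (by omega) (by omega)
                      · skip
                        by_cases hh1015 : k < 47564
                        · skip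
                          exact relsRange_sound mdata basesM 47 47517 rel1011 k (by omega) (by omega)
                        · skip
                          exact relsRange_sound mdata basesM 47 47564 rel1012 k (by omega) (by omega)
                · skip
                  by_cases hh1016 : k < 47846
                  · skip
                    by_cases hh1017 : k < 47705
                    · skip
                      by_cases hh1018 : k < 47658
                      · skip
                        exact relsRange_sound mdata basesM 47 47611 rel1013 k (by omega) (by omega)
                      · skip
                        exact relsRange_sound mdata basesM 47 47658 rel1014 k (by omega) (by omega)
                    · skip
                      by_cases hh1019 : k < 47752
                      · skip
                        exact relsRange_sound mdata basesM 47 47705 rel1015 k (by omega) (by omega)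
                      · skip
                        by_cases hh1020 : k < 47799
                        · skip
                          exact relsRange_sound mdata basesM 47 47752 rel1016 k (by omega) (by omega)
                        · skip
                          exact relsRange_sound mdata basesM 47 47799 rel1017 k (by omega) (by omega)
                  · skip
                    by_cases hh1021 : k < 47987
                    · skip
                      by_cases hh1022 : k < 47893
                      · skip
                        exact relsRange_sound mdata basesM 47 47846 rel1018 k (by omega) (by omega)
                      · skip
                        by_cases hh1023 : k < 47940
                        · skip
                          exact relsRange_sound mdata basesM 47 47893 rel1019 k (by omega) (by omega)
                        · skip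
                          exact relsRange_sound mdata basesM 47 47940 rel1020 k (by omega) (by omega)
                    · skip
                      by_cases hh1024 : k < 48034
                      · skip
                        exact relsRange_sound mdata basesM 47 47987 rel1021 k (by omega) (by omega)
                      · skip
                        by_cases hh1025 : k < 48081
                        · skip
                          exact relsRange_sound mdata basesM 47 48034 rel1022 k (by omega) (by omega)
                        · skip
                          exact relsRange_sound mdata basesM 47 48081 rel1023 k (by omega) (by omega)
              · skip
                by_cases hh1026 : k < 48645
                · skip
                  by_cases hh1027 : k < 48363
                  · skip
                    by_cases hh1028 : k < 48222
                    · skip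
                      by_cases hh1029 : k < 48175
                      · skip
                        exact relsRange_sound mdata basesM 47 48128 rel1024 k (by omega) (by omega)
                      · skip
                        exact relsRange_sound mdata basesM 47 48175 rel1025 k (by omega) (by omega)
                    · skip
                      by_cases hh1030 : k < 48269
                      · skip
                        exact relsRange_sound mdata basesM 47 48222 rel1026 k (by omega) (by omega)
                      · skip
                        by_cases hh1031 : k < 48316
                        · skip
                          exact relsRange_sound mdata basesM 47 48269 rel1027 k (by omega) (by omega)
                        · skip
                          exact relsRange_sound mdata basesM 47 48316 rel1028 k (by omega) (by omega)
                  · skip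
                    by_cases hh1032 : k < 48504
                    · skip
                      by_cases hh1033 : k < 48410
                      · skip
                        exact relsRange_sound mdata basesM 47 48363 rel1029 k (by omega) (by omega)
                      · skip
                        by_cases hh1034 : k < 48457
                        · skip
                          exact relsRange_sound mdata basesM 47 48410 rel1030 k (by omega) (by omega)
                        · skip
                          exact relsRange_sound mdata basesM 47 48457 rel1031 k (by omega) (by omega)
                    · skip
                      by_cases hh1035 : k < 48551
                      · skip
                        exact relsRange_sound mdata basesM 47 48504 rel1032 k (by omega) (by omega)
                      · skip
                        by_cases hh1036 : k < 48598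
                        · skip
                          exact relsRange_sound mdata basesM 47 48551 rel1033 k (by omega) (by omega)
                        · skip
                          exact relsRange_sound mdata basesM 47 48598 rel1034 k (by omega) (by omega)
                · skip
                  by_cases hh1037 : k < 48880
                  · skip
                    by_cases hh1038 : k < 48739
                    · skip
                      by_cases hh1039 : k < 48692
                      · skip
                        exact relsRange_sound mdata basesM 47 48645 rel1035 k (by omega) (by omega)
                      · skip
                        exact relsRange_sound mdata basesM 47 48692 rel1036 k (by omega) (by omega)
                    · skip
                      by_cases hh1040 : k < 48786
                      · skip
                        exact relsRange_sound mdata basesM 47 48739 rel1037 k (by omega) (by omega)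
                      · skip
                        by_cases hh1041 : k < 48833
                        · skip
                          exact relsRange_sound mdata basesM 47 48786 rel1038 k (by omega) (by omega)
                        · skip
                          exact relsRange_sound mdata basesM 47 48833 rel1039 k (by omega) (by omega)
                  · skip
                    by_cases hh1042 : k < 49021
                    · skip
                      by_cases hh1043 : k < 48927
                      · skip
                        exact relsRange_sound mdata basesM 47 48880 rel1040 k (by omega) (by omega)
                      · skip
                        by_cases hh1044 : k < 48974
                        · skip
                          exact relsRange_sound mdata basesM 47 48927 rel1041 k (by omega) (by omega)
                        · skip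
                          exact relsRange_sound mdata basesM 47 48974 rel1042 k (by omega) (by omega)
                    · skip
                      by_cases hh1045 : k < 49068
                      · skip
                        exact relsRange_sound mdata basesM 47 49021 rel1043 k (by omega) (by omega)
                      · skip
                        by_cases hh1046 : k < 49115
                        · skip
                          exact relsRange_sound mdata basesM 47 49068 rel1044 k (by omega) (by omega)
                        · skip
                          exact relsRange_sound mdata basesM 47 49115 rel1045 k (by omega) (by omega)
      · skip
        by_cases hh1047 : k < 57340
        · skip
          by_cases hh1048 : k < 53251
          · skip
            by_cases hh1049 : k < 51183
            · skip
              by_cases hh1050 : k < 50149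
              · skip
                by_cases hh1051 : k < 49632
                · skip
                  by_cases hh1052 : k < 49397
                  · skip
                    by_cases hh1053 : k < 49256
                    · skip
                      by_cases hh1054 : k < 49209
                      · skip
                        exact relsRange_sound mdata basesM 47 49162 rel1046 k (by omega) (by omega)
                      · skip
                        exact relsRange_sound mdata basesM 47 49209 rel1047 k (by omega) (by omega)
                    · skip
                      by_cases hh1055 : k < 49303
                      · skip
                        exact relsRange_sound mdata basesM 47 49256 rel1048 k (by omega) (by omega)
                      · skip
                        by_cases hh1056 : k < 49350
                        · skip
                          exact relsRange_sound mdata basesM 47 49303 rel1049 k (by omega) (by omega)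
                        · skip
                          exact relsRange_sound mdata basesM 47 49350 rel1050 k (by omega) (by omega)
                  · skip
                    by_cases hh1057 : k < 49491
                    · skip
                      by_cases hh1058 : k < 49444
                      · skip
                        exact relsRange_sound mdata basesM 47 49397 rel1051 k (by omega) (by omega)
                      · skip
                        exact relsRange_sound mdata basesM 47 49444 rel1052 k (by omega) (by omega)
                    · skip
                      by_cases hh1059 : k < 49538
                      · skip
                        exact relsRange_sound mdata basesM 47 49491 rel1053 k (by omega) (by omega)
                      · skip
                        by_cases hh1060 : k < 49585
                        · skip
                          exact relsRange_sound mdata basesM 47 49538 rel1054 k (by omega) (by omega)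
                        · skip
                          exact relsRange_sound mdata basesM 47 49585 rel1055 k (by omega) (by omega)
                · skip
                  by_cases hh1061 : k < 49867
                  · skip
                    by_cases hh1062 : k < 49726
                    · skip
                      by_cases hh1063 : k < 49679
                      · skip
                        exact relsRange_sound mdata basesM 47 49632 rel1056 k (by omega) (by omega)
                      · skip
                        exact relsRange_sound mdata basesM 47 49679 rel1057 k (by omega) (by omega)
                    · skip
                      by_cases hh1064 : k < 49773
                      · skip
                        exact relsRange_sound mdata basesM 47 49726 rel1058 k (by omega) (by omega)
                      · skip
                        by_cases hh1065 : k < 49820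
                        · skip
                          exact relsRange_sound mdata basesM 47 49773 rel1059 k (by omega) (by omega)
                        · skip
                          exact relsRange_sound mdata basesM 47 49820 rel1060 k (by omega) (by omega)
                  · skip
                    by_cases hh1066 : k < 50008
                    · skip
                      by_cases hh1067 : k < 49914
                      · skip
                        exact relsRange_sound mdata basesM 47 49867 rel1061 k (by omega) (by omega)
                      · skip
                        by_cases hh1068 : k < 49961
                        · skip
                          exact relsRange_sound mdata basesM 47 49914 rel1062 k (by omega) (by omega)
                        · skip
                          exact relsRange_sound mdata basesM 47 49961 rel1063 k (by omega) (by omega)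
                    · skip
                      by_cases hh1069 : k < 50055
                      · skip
                        exact relsRange_sound mdata basesM 47 50008 rel1064 k (by omega) (by omega)
                      · skip
                        by_cases hh1070 : k < 50102
                        · skip
                          exact relsRange_sound mdata basesM 47 50055 rel1065 k (by omega) (by omega)
                        · skip
                          exact relsRange_sound mdata basesM 47 50102 rel1066 k (by omega) (by omega)
              · skip
                by_cases hh1071 : k < 50666
                · skip
                  by_cases hh1072 : k < 50384
                  · skip
                    by_cases hh1073 : k < 50243
                    · skip
                      by_cases hh1074 : k < 50196
                      · skip
                        exact relsRange_sound mdata basesM 47 50149 rel1067 k (by omega) (by omega)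
                      · skip
                        exact relsRange_sound mdata basesM 47 50196 rel1068 k (by omega) (by omega)
                    · skip
                      by_cases hh1075 : k < 50290
                      · skip
                        exact relsRange_sound mdata basesM 47 50243 rel1069 k (by omega) (by omega)
                      · skip
                        by_cases hh1076 : k < 50337
                        · skip
                          exact relsRange_sound mdata basesM 47 50290 rel1070 k (by omega) (by omega)
                        · skip
                          exact relsRange_sound mdata basesM 47 50337 rel1071 k (by omega) (by omega)
                  · skip
                    by_cases hh1077 : k < 50525
                    · skip
                      by_cases hh1078 : k < 50431
                      · skip
                        exact relsRange_sound mdata basesM 47 50384 rel1072 k (by omega) (by omega)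
                      · skip
                        by_cases hh1079 : k < 50478
                        · skip
                          exact relsRange_sound mdata basesM 47 50431 rel1073 k (by omega) (by omega)
                        · skip
                          exact relsRange_sound mdata basesM 47 50478 rel1074 k (by omega) (by omega)
                    · skip
                      by_cases hh1080 : k < 50572
                      · skip
                        exact relsRange_sound mdata basesM 47 50525 rel1075 k (by omega) (by omega)
                      · skip
                        by_cases hh1081 : k < 50619
                        · skip
                          exact relsRange_sound mdata basesM 47 50572 rel1076 k (by omega) (by omega)
                        · skip
                          exact relsRange_sound mdata basesM 47 50619 rel1077 k (by omega) (by omega)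
                · skip
                  by_cases hh1082 : k < 50901
                  · skip
                    by_cases hh1083 : k < 50760
                    · skip
                      by_cases hh1084 : k < 50713
                      · skip
                        exact relsRange_sound mdata basesM 47 50666 rel1078 k (by omega) (by omega)
                      · skip
                        exact relsRange_sound mdata basesM 47 50713 rel1079 k (by omega) (by omega)
                    · skip
                      by_cases hh1085 : k < 50807
                      · skip
                        exact relsRange_sound mdata basesM 47 50760 rel1080 k (by omega) (by omega)
                      · skip
                        by_cases hh1086 : k < 50854
                        · skip
                          exact relsRange_sound mdata basesM 47 50807 rel1081 k (by omega) (by omega)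
                        · skip
                          exact relsRange_sound mdata basesM 47 50854 rel1082 k (by omega) (by omega)
                  · skip
                    by_cases hh1087 : k < 51042
                    · skip
                      by_cases hh1088 : k < 50948
                      · skip
                        exact relsRange_sound mdata basesM 47 50901 rel1083 k (by omega) (by omega)
                      · skip
                        by_cases hh1089 : k < 50995
                        · skip
                          exact relsRange_sound mdata basesM 47 50948 rel1084 k (by omega) (by omega)
                        · skip
                          exact relsRange_sound mdata basesM 47 50995 rel1085 k (by omega) (by omega)
                    · skip
                      by_cases hh1090 : k < 51089
                      · skip
                        exact relsRange_sound mdata basesM 47 51042 rel1086 k (by omega) (by omega)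
                      · skip
                        by_cases hh1091 : k < 51136
                        · skip
                          exact relsRange_sound mdata basesM 47 51089 rel1087 k (by omega) (by omega)
                        · skip
                          exact relsRange_sound mdata basesM 47 51136 rel1088 k (by omega) (by omega)
            · skip
              by_cases hh1092 : k < 52217
              · skip
                by_cases hh1093 : k < 51700
                · skip
                  by_cases hh1094 : k < 51418
                  · skip
                    by_cases hh1095 : k < 51277
                    · skip
                      by_cases hh1096 : k < 51230
                      · skip
                        exact relsRange_sound mdata basesM 47 51183 rel1089 k (by omega) (by omega)
                      · skip
                        exact relsRange_sound mdata basesM 47 51230 rel1090 k (by omega) (by omega)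
                    · skip
                      by_cases hh1097 : k < 51324
                      · skip
                        exact relsRange_sound mdata basesM 47 51277 rel1091 k (by omega) (by omega)
                      · skip
                        by_cases hh1098 : k < 51371
                        · skip
                          exact relsRange_sound mdata basesM 47 51324 rel1092 k (by omega) (by omega)
                        · skip
                          exact relsRange_sound mdata basesM 47 51371 rel1093 k (by omega) (by omega)
                  · skip
                    by_cases hh1099 : k < 51559
                    · skip
                      by_cases hh1100 : k < 51465
                      · skip
                        exact relsRange_sound mdata basesM 47 51418 rel1094 k (by omega) (by omega)
                      · skip
                        by_cases hh1101 : k < 51512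
                        · skip
                          exact relsRange_sound mdata basesM 47 51465 rel1095 k (by omega) (by omega)
                        · skip
                          exact relsRange_sound mdata basesM 47 51512 rel1096 k (by omega) (by omega)
                    · skip
                      by_cases hh1102 : k < 51606
                      · skip
                        exact relsRange_sound mdata basesM 47 51559 rel1097 k (by omega) (by omega)
                      · skip
                        by_cases hh1103 : k < 51653
                        · skip
                          exact relsRange_sound mdata basesM 47 51606 rel1098 k (by omega) (by omega)
                        · skip
                          exact relsRange_sound mdata basesM 47 51653 rel1099 k (by omega) (by omega)
                · skip
                  by_cases hh1104 : k < 51935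
                  · skip
                    by_cases hh1105 : k < 51794
                    · skip
                      by_cases hh1106 : k < 51747
                      · skip
                        exact relsRange_sound mdata basesM 47 51700 rel1100 k (by omega) (by omega)
                      · skip
                        exact relsRange_sound mdata basesM 47 51747 rel1101 k (by omega) (by omega)
                    · skip
                      by_cases hh1107 : k < 51841
                      · skip
                        exact relsRange_sound mdata basesM 47 51794 rel1102 k (by omega) (by omega)
                      · skip
                        by_cases hh1108 : k < 51888
                        · skip
                          exact relsRange_sound mdata basesM 47 51841 rel1103 k (by omega) (by omega)
                        · skip
                          exact relsRange_sound mdata basesM 47 51888 rel1104 k (by omega) (by omega)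
                  · skip
                    by_cases hh1109 : k < 52076
                    · skip
                      by_cases hh1110 : k < 51982
                      · skip
                        exact relsRange_sound mdata basesM 47 51935 rel1105 k (by omega) (by omega)
                      · skip
                        by_cases hh1111 : k < 52029
                        · skip
                          exact relsRange_sound mdata basesM 47 51982 rel1106 k (by omega) (by omega)
                        · skip
                          exact relsRange_sound mdata basesM 47 52029 rel1107 k (by omega) (by omega)
                    · skip
                      by_cases hh1112 : k < 52123
                      · skip
                        exact relsRange_sound mdata basesM 47 52076 rel1108 k (by omega) (by omega)
                      · skip
                        by_cases hh1113 : k < 52170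
                        · skip
                          exact relsRange_sound mdata basesM 47 52123 rel1109 k (by omega) (by omega)
                        · skip
                          exact relsRange_sound mdata basesM 47 52170 rel1110 k (by omega) (by omega)
              · skip
                by_cases hh1114 : k < 52734
                · skip
                  by_cases hh1115 : k < 52452
                  · skip
                    by_cases hh1116 : k < 52311
                    · skip
                      by_cases hh1117 : k < 52264
                      · skip
                        exact relsRange_sound mdata basesM 47 52217 rel1111 k (by omega) (by omega)
                      · skip
                        exact relsRange_sound mdata basesM 47 52264 rel1112 k (by omega) (by omega)
                    · skip
                      by_cases hh1118 : k < 52358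
                      · skip
                        exact relsRange_sound mdata basesM 47 52311 rel1113 k (by omega) (by omega)
                      · skip
                        by_cases hh1119 : k < 52405
                        · skip
                          exact relsRange_sound mdata basesM 47 52358 rel1114 k (by omega) (by omega)
                        · skip
                          exact relsRange_sound mdata basesM 47 52405 rel1115 k (by omega) (by omega)
                  · skip
                    by_cases hh1120 : k < 52593
                    · skip
                      by_cases hh1121 : k < 52499
                      · skip
                        exact relsRange_sound mdata basesM 47 52452 rel1116 k (by omega) (by omega)
                      · skip
                        by_cases hh1122 : k < 52546
                        · skip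
                          exact relsRange_sound mdata basesM 47 52499 rel1117 k (by omega) (by omega)
                        · skip
                          exact relsRange_sound mdata basesM 47 52546 rel1118 k (by omega) (by omega)
                    · skip
                      by_cases hh1123 : k < 52640
                      · skip
                        exact relsRange_sound mdata basesM 47 52593 rel1119 k (by omega) (by omega)
                      · skip
                        by_cases hh1124 : k < 52687
                        · skip
                          exact relsRange_sound mdata basesM 47 52640 rel1120 k (by omega) (by omega)
                        · skip
                          exact relsRange_sound mdata basesM 47 52687 rel1121 k (by omega) (by omega)
                · skip
                  by_cases hh1125 : k < 52969
                  · skip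
                    by_cases hh1126 : k < 52828
                    · skip
                      by_cases hh1127 : k < 52781
                      · skip
                        exact relsRange_sound mdata basesM 47 52734 rel1122 k (by omega) (by omega)
                      · skip
                        exact relsRange_sound mdata basesM 47 52781 rel1123 k (by omega) (by omega)
                    · skip
                      by_cases hh1128 : k < 52875
                      · skip
                        exact relsRange_sound mdata basesM 47 52828 rel1124 k (by omega) (by omega)
                      · skip
                        by_cases hh1129 : k < 52922
                        · skip
                          exact relsRange_sound mdata basesM 47 52875 rel1125 k (by omega) (by omega)
                        · skip
                          exact relsRange_sound mdata basesM 47 52922 rel1126 k (by omega) (by omega)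
                  · skip
                    by_cases hh1130 : k < 53110
                    · skip
                      by_cases hh1131 : k < 53016
                      · skip
                        exact relsRange_sound mdata basesM 47 52969 rel1127 k (by omega) (by omega)
                      · skip
                        by_cases hh1132 : k < 53063
                        · skip
                          exact relsRange_sound mdata basesM 47 53016 rel1128 k (by omega) (by omega)
                        · skip
                          exact relsRange_sound mdata basesM 47 53063 rel1129 k (by omega) (by omega)
                    · skip
                      by_cases hh1133 : k < 53157
                      · skip
                        exact relsRange_sound mdata basesM 47 53110 rel1130 k (by omega) (by omega)
                      · skip
                        by_cases hh1134 : k < 53204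
                        · skip
                          exact relsRange_sound mdata basesM 47 53157 rel1131 k (by omega) (by omega)
                        · skip
                          exact relsRange_sound mdata basesM 47 53204 rel1132 k (by omega) (by omega)
          · skip
            by_cases hh1135 : k < 55272
            · skip
              by_cases hh1136 : k < 54238
              · skip
                by_cases hh1137 : k < 53721
                · skip
                  by_cases hh1138 : k < 53486
                  · skip
                    by_cases hh1139 : k < 53345
                    · skip
                      by_cases hh1140 : k < 53298
                      · skip
                        exact relsRange_sound mdata basesM 47 53251 rel1133 k (by omega) (by omega)
                      · skip
                        exact relsRange_sound mdata basesM 47 53298 rel1134 k (by omega) (by omega)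
                    · skip
                      by_cases hh1141 : k < 53392
                      · skip
                        exact relsRange_sound mdata basesM 47 53345 rel1135 k (by omega) (by omega)
                      · skip
                        by_cases hh1142 : k < 53439
                        · skip
                          exact relsRange_sound mdata basesM 47 53392 rel1136 k (by omega) (by omega)
                        · skip
                          exact relsRange_sound mdata basesM 47 53439 rel1137 k (by omega) (by omega)
                  · skip
                    by_cases hh1143 : k < 53580
                    · skip
                      by_cases hh1144 : k < 53533
                      · skip
                        exact relsRange_sound mdata basesM 47 53486 rel1138 k (by omega) (by omega)
                      · skip
                        exact relsRange_sound mdata basesM 47 53533 rel1139 k (by omega) (by omega)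
                    · skip
                      by_cases hh1145 : k < 53627
                      · skip
                        exact relsRange_sound mdata basesM 47 53580 rel1140 k (by omega) (by omega)
                      · skip
                        by_cases hh1146 : k < 53674
                        · skip
                          exact relsRange_sound mdata basesM 47 53627 rel1141 k (by omega) (by omega)
                        · skip
                          exact relsRange_sound mdata basesM 47 53674 rel1142 k (by omega) (by omega)
                · skip
                  by_cases hh1147 : k < 53956
                  · skip
                    by_cases hh1148 : k < 53815
                    · skip
                      by_cases hh1149 : k < 53768
                      · skip
                        exact relsRange_sound mdata basesM 47 53721 rel1143 k (by omega) (by omega)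
                      · skip
                        exact relsRange_sound mdata basesM 47 53768 rel1144 k (by omega) (by omega)
                    · skip
                      by_cases hh1150 : k < 53862
                      · skip
                        exact relsRange_sound mdata basesM 47 53815 rel1145 k (by omega) (by omega)
                      · skip
                        by_cases hh1151 : k < 53909
                        · skip
                          exact relsRange_sound mdata basesM 47 53862 rel1146 k (by omega) (by omega)
                        · skip
                          exact relsRange_sound mdata basesM 47 53909 rel1147 k (by omega) (by omega)
                  · skip
                    by_cases hh1152 : k < 54097
                    · skip
                      by_cases hh1153 : k < 54003
                      · skip
                        exact relsRange_sound mdata basesM 47 53956 rel1148 k (by omega) (by omega)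
                      · skip
                        by_cases hh1154 : k < 54050
                        · skip
                          exact relsRange_sound mdata basesM 47 54003 rel1149 k (by omega) (by omega)
                        · skip
                          exact relsRange_sound mdata basesM 47 54050 rel1150 k (by omega) (by omega)
                    · skip
                      by_cases hh1155 : k < 54144
                      · skip
                        exact relsRange_sound mdata basesM 47 54097 rel1151 k (by omega) (by omega)
                      · skip
                        by_cases hh1156 : k < 54191
                        · skip
                          exact relsRange_sound mdata basesM 47 54144 rel1152 k (by omega) (by omega)
                        · skip
                          exact relsRange_sound mdata basesM 47 54191 rel1153 k (by omega) (by omega)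
              · skip
                by_cases hh1157 : k < 54755
                · skip
                  by_cases hh1158 : k < 54473
                  · skip
                    by_cases hh1159 : k < 54332
                    · skip
                      by_cases hh1160 : k < 54285
                      · skip
                        exact relsRange_sound mdata basesM 47 54238 rel1154 k (by omega) (by omega)
                      · skip
                        exact relsRange_sound mdata basesM 47 54285 rel1155 k (by omega) (by omega)
                    · skip
                      by_cases hh1161 : k < 54379
                      · skip
                        exact relsRange_sound mdata basesM 47 54332 rel1156 k (by omega) (by omega)
                      · skip
                        by_cases hh1162 : k < 54426
                        · skip
                          exact relsRange_sound mdata basesM 47 54379 rel1157 k (by omega) (by omega)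
                        · skip
                          exact relsRange_sound mdata basesM 47 54426 rel1158 k (by omega) (by omega)
                  · skip
                    by_cases hh1163 : k < 54614
                    · skip
                      by_cases hh1164 : k < 54520
                      · skip
                        exact relsRange_sound mdata basesM 47 54473 rel1159 k (by omega) (by omega)
                      · skip
                        by_cases hh1165 : k < 54567
                        · skip
                          exact relsRange_sound mdata basesM 47 54520 rel1160 k (by omega) (by omega)
                        · skip
                          exact relsRange_sound mdata basesM 47 54567 rel1161 k (by omega) (by omega)
                    · skip
                      by_cases hh1166 : k < 54661
                      · skip
                        exact relsRange_sound mdata basesM 47 54614 rel1162 k (by omega) (by omega)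
                      · skip
                        by_cases hh1167 : k < 54708
                        · skip
                          exact relsRange_sound mdata basesM 47 54661 rel1163 k (by omega) (by omega)
                        · skip
                          exact relsRange_sound mdata basesM 47 54708 rel1164 k (by omega) (by omega)
                · skip
                  by_cases hh1168 : k < 54990
                  · skip
                    by_cases hh1169 : k < 54849
                    · skip
                      by_cases hh1170 : k < 54802
                      · skip
                        exact relsRange_sound mdata basesM 47 54755 rel1165 k (by omega) (by omega)
                      · skip
                        exact relsRange_sound mdata basesM 47 54802 rel1166 k (by omega) (by omega)
                    · skip
                      by_cases hh1171 : k < 54896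
                      · skip
                        exact relsRange_sound mdata basesM 47 54849 rel1167 k (by omega) (by omega)
                      · skip
                        by_cases hh1172 : k < 54943
                        · skip
                          exact relsRange_sound mdata basesM 47 54896 rel1168 k (by omega) (by omega)
                        · skip
                          exact relsRange_sound mdata basesM 47 54943 rel1169 k (by omega) (by omega)
                  · skip
                    by_cases hh1173 : k < 55131
                    · skip
                      by_cases hh1174 : k < 55037
                      · skip
                        exact relsRange_sound mdata basesM 47 54990 rel1170 k (by omega) (by omega)
                      · skip
                        by_cases hh1175 : k < 55084
                        · skip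
                          exact relsRange_sound mdata basesM 47 55037 rel1171 k (by omega) (by omega)
                        · skip
                          exact relsRange_sound mdata basesM 47 55084 rel1172 k (by omega) (by omega)
                    · skip
                      by_cases hh1176 : k < 55178
                      · skip
                        exact relsRange_sound mdata basesM 47 55131 rel1173 k (by omega) (by omega)
                      · skip
                        by_cases hh1177 : k < 55225
                        · skip
                          exact relsRange_sound mdata basesM 47 55178 rel1174 k (by omega) (by omega)
                        · skip
                          exact relsRange_sound mdata basesM 47 55225 rel1175 k (by omega) (by omega)
            · skip
              by_cases hh1178 : k < 56306
              · skip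
                by_cases hh1179 : k < 55789
                · skip
                  by_cases hh1180 : k < 55507
                  · skip
                    by_cases hh1181 : k < 55366
                    · skip
                      by_cases hh1182 : k < 55319
                      · skip
                        exact relsRange_sound mdata basesM 47 55272 rel1176 k (by omega) (by omega)
                      · skip
                        exact relsRange_sound mdata basesM 47 55319 rel1177 k (by omega) (by omega)
                    · skip
                      by_cases hh1183 : k < 55413
                      · skip
                        exact relsRange_sound mdata basesM 47 55366 rel1178 k (by omega) (by omega)
                      · skip
                        by_cases hh1184 : k < 55460
                        · skip
                          exact relsRange_sound mdata basesM 47 55413 rel1179 k (by omega) (by omega)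
                        · skip
                          exact relsRange_sound mdata basesM 47 55460 rel1180 k (by omega) (by omega)
                  · skip
                    by_cases hh1185 : k < 55648
                    · skip
                      by_cases hh1186 : k < 55554
                      · skip
                        exact relsRange_sound mdata basesM 47 55507 rel1181 k (by omega) (by omega)
                      · skip
                        by_cases hh1187 : k < 55601
                        · skip
                          exact relsRange_sound mdata basesM 47 55554 rel1182 k (by omega) (by omega)
                        · skip
                          exact relsRange_sound mdata basesM 47 55601 rel1183 k (by omega) (by omega)
                    · skip
                      by_cases hh1188 : k < 55695
                      · skip
                        exact relsRange_sound mdata basesM 47 55648 rel1184 k (by omega) (by omega)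
                      · skip
                        by_cases hh1189 : k < 55742
                        · skip
                          exact relsRange_sound mdata basesM 47 55695 rel1185 k (by omega) (by omega)
                        · skip
                          exact relsRange_sound mdata basesM 47 55742 rel1186 k (by omega) (by omega)
                · skip
                  by_cases hh1190 : k < 56024
                  · skip
                    by_cases hh1191 : k < 55883
                    · skip
                      by_cases hh1192 : k < 55836
                      · skip
                        exact relsRange_sound mdata basesM 47 55789 rel1187 k (by omega) (by omega)
                      · skip
                        exact relsRange_sound mdata basesM 47 55836 rel1188 k (by omega) (by omega)
                    · skip
                      by_cases hh1193 : k < 55930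
                      · skip
                        exact relsRange_sound mdata basesM 47 55883 rel1189 k (by omega) (by omega)
                      · skip
                        by_cases hh1194 : k < 55977
                        · skip
                          exact relsRange_sound mdata basesM 47 55930 rel1190 k (by omega) (by omega)
                        · skip
                          exact relsRange_sound mdata basesM 47 55977 rel1191 k (by omega) (by omega)
                  · skip
                    by_cases hh1195 : k < 56165
                    · skip
                      by_cases hh1196 : k < 56071
                      · skip
                        exact relsRange_sound mdata basesM 47 56024 rel1192 k (by omega) (by omega)
                      · skip
                        by_cases hh1197 : k < 56118
                        · skip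
                          exact relsRange_sound mdata basesM 47 56071 rel1193 k (by omega) (by omega)
                        · skip
                          exact relsRange_sound mdata basesM 47 56118 rel1194 k (by omega) (by omega)
                    · skip
                      by_cases hh1198 : k < 56212
                      · skip
                        exact relsRange_sound mdata basesM 47 56165 rel1195 k (by omega) (by omega)
                      · skip
                        by_cases hh1199 : k < 56259
                        · skip
                          exact relsRange_sound mdata basesM 47 56212 rel1196 k (by omega) (by omega)
                        · skip
                          exact relsRange_sound mdata basesM 47 56259 rel1197 k (by omega) (by omega)
              · skip
                by_cases hh1200 : k < 56823
                · skip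
                  by_cases hh1201 : k < 56541
                  · skip
                    by_cases hh1202 : k < 56400
                    · skip
                      by_cases hh1203 : k < 56353
                      · skip
                        exact relsRange_sound mdata basesM 47 56306 rel1198 k (by omega) (by omega)
                      · skip
                        exact relsRange_sound mdata basesM 47 56353 rel1199 k (by omega) (by omega)
                    · skip
                      by_cases hh1204 : k < 56447
                      · skip
                        exact relsRange_sound mdata basesM 47 56400 rel1200 k (by omega) (by omega)
                      · skip
                        by_cases hh1205 : k < 56494
                        · skip
                          exact relsRange_sound mdata basesM 47 56447 rel1201 k (by omega) (by omega)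
                        · skip
                          exact relsRange_sound mdata basesM 47 56494 rel1202 k (by omega) (by omega)
                  · skip
                    by_cases hh1206 : k < 56682
                    · skip
                      by_cases hh1207 : k < 56588
                      · skip
                        exact relsRange_sound mdata basesM 47 56541 rel1203 k (by omega) (by omega)
                      · skip
                        by_cases hh1208 : k < 56635
                        · skip
                          exact relsRange_sound mdata basesM 47 56588 rel1204 k (by omega) (by omega)
                        · skip
                          exact relsRange_sound mdata basesM 47 56635 rel1205 k (by omega) (by omega)
                    · skip
                      by_cases hh1209 : k < 56729
                      · skip
                        exact relsRange_sound mdata basesM 47 56682 rel1206 k (by omega) (by omega)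
                      · skip
                        by_cases hh1210 : k < 56776
                        · skip
                          exact relsRange_sound mdata basesM 47 56729 rel1207 k (by omega) (by omega)
                        · skip
                          exact relsRange_sound mdata basesM 47 56776 rel1208 k (by omega) (by omega)
                · skip
                  by_cases hh1211 : k < 57058
                  · skip
                    by_cases hh1212 : k < 56917
                    · skip
                      by_cases hh1213 : k < 56870
                      · skip
                        exact relsRange_sound mdata basesM 47 56823 rel1209 k (by omega) (by omega)
                      · skip
                        exact relsRange_sound mdata basesM 47 56870 rel1210 k (by omega) (by omega)
                    · skip
                      by_cases hh1214 : k < 56964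
                      · skip
                        exact relsRange_sound mdata basesM 47 56917 rel1211 k (by omega) (by omega)
                      · skip
                        by_cases hh1215 : k < 57011
                        · skip
                          exact relsRange_sound mdata basesM 47 56964 rel1212 k (by omega) (by omega)
                        · skip
                          exact relsRange_sound mdata basesM 47 57011 rel1213 k (by omega) (by omega)
                  · skip
                    by_cases hh1216 : k < 57199
                    · skip
                      by_cases hh1217 : k < 57105
                      · skip
                        exact relsRange_sound mdata basesM 47 57058 rel1214 k (by omega) (by omega)
                      · skip
                        by_cases hh1218 : k < 57152
                        · skip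
                          exact relsRange_sound mdata basesM 47 57105 rel1215 k (by omega) (by omega)
                        · skip
                          exact relsRange_sound mdata basesM 47 57152 rel1216 k (by omega) (by omega)
                    · skip
                      by_cases hh1219 : k < 57246
                      · skip
                        exact relsRange_sound mdata basesM 47 57199 rel1217 k (by omega) (by omega)
                      · skip
                        by_cases hh1220 : k < 57293
                        · skip
                          exact relsRange_sound mdata basesM 47 57246 rel1218 k (by omega) (by omega)
                        · skip
                          exact relsRange_sound mdata basesM 47 57293 rel1219 k (by omega) (by omega)
        · skip
          by_cases hh1221 : k < 61429
          · skip
            by_cases hh1222 : k < 59361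
            · skip
              by_cases hh1223 : k < 58327
              · skip
                by_cases hh1224 : k < 57810
                · skip
                  by_cases hh1225 : k < 57575
                  · skip
                    by_cases hh1226 : k < 57434
                    · skip
                      by_cases hh1227 : k < 57387
                      · skip
                        exact relsRange_sound mdata basesM 47 57340 rel1220 k (by omega) (by omega)
                      · skip
                        exact relsRange_sound mdata basesM 47 57387 rel1221 k (by omega) (by omega)
                    · skip
                      by_cases hh1228 : k < 57481
                      · skip
                        exact relsRange_sound mdata basesM 47 57434 rel1222 k (by omega) (by omega)
                      · skip
                        by_cases hh1229 : k < 57528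
                        · skip
                          exact relsRange_sound mdata basesM 47 57481 rel1223 k (by omega) (by omega)
                        · skip
                          exact relsRange_sound mdata basesM 47 57528 rel1224 k (by omega) (by omega)
                  · skip
                    by_cases hh1230 : k < 57669
                    · skip
                      by_cases hh1231 : k < 57622
                      · skip
                        exact relsRange_sound mdata basesM 47 57575 rel1225 k (by omega) (by omega)
                      · skip
                        exact relsRange_sound mdata basesM 47 57622 rel1226 k (by omega) (by omega)
                    · skip
                      by_cases hh1232 : k < 57716
                      · skip
                        exact relsRange_sound mdata basesM 47 57669 rel1227 k (by omega) (by omega)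
                      · skip
                        by_cases hh1233 : k < 57763
                        · skip
                          exact relsRange_sound mdata basesM 47 57716 rel1228 k (by omega) (by omega)
                        · skip
                          exact relsRange_sound mdata basesM 47 57763 rel1229 k (by omega) (by omega)
                · skip
                  by_cases hh1234 : k < 58045
                  · skip
                    by_cases hh1235 : k < 57904
                    · skip
                      by_cases hh1236 : k < 57857
                      · skip
                        exact relsRange_sound mdata basesM 47 57810 rel1230 k (by omega) (by omega)
                      · skip
                        exact relsRange_sound mdata basesM 47 57857 rel1231 k (by omega) (by omega)
                    · skip
                      by_cases hh1237 : k < 57951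
                      · skip
                        exact relsRange_sound mdata basesM 47 57904 rel1232 k (by omega) (by omega)
                      · skip
                        by_cases hh1238 : k < 57998
                        · skip
                          exact relsRange_sound mdata basesM 47 57951 rel1233 k (by omega) (by omega)
                        · skip
                          exact relsRange_sound mdata basesM 47 57998 rel1234 k (by omega) (by omega)
                  · skip
                    by_cases hh1239 : k < 58186
                    · skip
                      by_cases hh1240 : k < 58092
                      · skip
                        exact relsRange_sound mdata basesM 47 58045 rel1235 k (by omega) (by omega)
                      · skip
                        by_cases hh1241 : k < 58139
                        · skip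
                          exact relsRange_sound mdata basesM 47 58092 rel1236 k (by omega) (by omega)
                        · skip
                          exact relsRange_sound mdata basesM 47 58139 rel1237 k (by omega) (by omega)
                    · skip
                      by_cases hh1242 : k < 58233
                      · skip
                        exact relsRange_sound mdata basesM 47 58186 rel1238 k (by omega) (by omega)
                      · skip
                        by_cases hh1243 : k < 58280
                        · skip
                          exact relsRange_sound mdata basesM 47 58233 rel1239 k (by omega) (by omega)
                        · skip
                          exact relsRange_sound mdata basesM 47 58280 rel1240 k (by omega) (by omega)
              · skip
                by_cases hh1244 : k < 58844
                · skip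
                  by_cases hh1245 : k < 58562
                  · skip
                    by_cases hh1246 : k < 58421
                    · skip
                      by_cases hh1247 : k < 58374
                      · skip
                        exact relsRange_sound mdata basesM 47 58327 rel1241 k (by omega) (by omega)
                      · skip
                        exact relsRange_sound mdata basesM 47 58374 rel1242 k (by omega) (by omega)
                    · skip
                      by_cases hh1248 : k < 58468
                      · skip
                        exact relsRange_sound mdata basesM 47 58421 rel1243 k (by omega) (by omega)
                      · skip
                        by_cases hh1249 : k < 58515
                        · skip
                          exact relsRange_sound mdata basesM 47 58468 rel1244 k (by omega) (by omega)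
                        · skip
                          exact relsRange_sound mdata basesM 47 58515 rel1245 k (by omega) (by omega)
                  · skip
                    by_cases hh1250 : k < 58703
                    · skip
                      by_cases hh1251 : k < 58609
                      · skip
                        exact relsRange_sound mdata basesM 47 58562 rel1246 k (by omega) (by omega)
                      · skip
                        by_cases hh1252 : k < 58656
                        · skip
                          exact relsRange_sound mdata basesM 47 58609 rel1247 k (by omega) (by omega)
                        · skip
                          exact relsRange_sound mdata basesM 47 58656 rel1248 k (by omega) (by omega)
                    · skip
                      by_cases hh1253 : k < 58750
                      · skip
                        exact relsRange_sound mdata basesM 47 58703 rel1249 k (by omega) (by omega)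
                      · skip
                        by_cases hh1254 : k < 58797
                        · skip
                          exact relsRange_sound mdata basesM 47 58750 rel1250 k (by omega) (by omega)
                        · skip
                          exact relsRange_sound mdata basesM 47 58797 rel1251 k (by omega) (by omega)
                · skip
                  by_cases hh1255 : k < 59079
                  · skip
                    by_cases hh1256 : k < 58938
                    · skip
                      by_cases hh1257 : k < 58891
                      · skip
                        exact relsRange_sound mdata basesM 47 58844 rel1252 k (by omega) (by omega)
                      · skip
                        exact relsRange_sound mdata basesM 47 58891 rel1253 k (by omega) (by omega)
                    · skip
                      by_cases hh1258 : k < 58985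
                      · skip
                        exact relsRange_sound mdata basesM 47 58938 rel1254 k (by omega) (by omega)
                      · skip
                        by_cases hh1259 : k < 59032
                        · skip
                          exact relsRange_sound mdata basesM 47 58985 rel1255 k (by omega) (by omega)
                        · skip
                          exact relsRange_sound mdata basesM 47 59032 rel1256 k (by omega) (by omega)
                  · skip
                    by_cases hh1260 : k < 59220
                    · skip
                      by_cases hh1261 : k < 59126
                      · skip
                        exact relsRange_sound mdata basesM 47 59079 rel1257 k (by omega) (by omega)
                      · skip
                        by_cases hh1262 : k < 59173
                        · skip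
                          exact relsRange_sound mdata basesM 47 59126 rel1258 k (by omega) (by omega)
                        · skip
                          exact relsRange_sound mdata basesM 47 59173 rel1259 k (by omega) (by omega)
                    · skip
                      by_cases hh1263 : k < 59267
                      · skip
                        exact relsRange_sound mdata basesM 47 59220 rel1260 k (by omega) (by omega)
                      · skip
                        by_cases hh1264 : k < 59314
                        · skip
                          exact relsRange_sound mdata basesM 47 59267 rel1261 k (by omega) (by omega)
                        · skip
                          exact relsRange_sound mdata basesM 47 59314 rel1262 k (by omega) (by omega)
            · skip
              by_cases hh1265 : k < 60395
              · skip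
                by_cases hh1266 : k < 59878
                · skip
                  by_cases hh1267 : k < 59596
                  · skip
                    by_cases hh1268 : k < 59455
                    · skip
                      by_cases hh1269 : k < 59408
                      · skip
                        exact relsRange_sound mdata basesM 47 59361 rel1263 k (by omega) (by omega)
                      · skip
                        exact relsRange_sound mdata basesM 47 59408 rel1264 k (by omega) (by omega)
                    · skip
                      by_cases hh1270 : k < 59502
                      · skip
                        exact relsRange_sound mdata basesM 47 59455 rel1265 k (by omega) (by omega)
                      · skip
                        by_cases hh1271 : k < 59549
                        · skip
                          exact relsRange_sound mdata basesM 47 59502 rel1266 k (by omega) (by omega)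
                        · skip
                          exact relsRange_sound mdata basesM 47 59549 rel1267 k (by omega) (by omega)
                  · skip
                    by_cases hh1272 : k < 59737
                    · skip
                      by_cases hh1273 : k < 59643
                      · skip
                        exact relsRange_sound mdata basesM 47 59596 rel1268 k (by omega) (by omega)
                      · skip
                        by_cases hh1274 : k < 59690
                        · skip
                          exact relsRange_sound mdata basesM 47 59643 rel1269 k (by omega) (by omega)
                        · skip
                          exact relsRange_sound mdata basesM 47 59690 rel1270 k (by omega) (by omega)
                    · skip
                      by_cases hh1275 : k < 59784
                      · skip
                        exact relsRange_sound mdata basesM 47 59737 rel1271 k (by omega) (by omega)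
                      · skip
                        by_cases hh1276 : k < 59831
                        · skip
                          exact relsRange_sound mdata basesM 47 59784 rel1272 k (by omega) (by omega)
                        · skip
                          exact relsRange_sound mdata basesM 47 59831 rel1273 k (by omega) (by omega)
                · skip
                  by_cases hh1277 : k < 60113
                  · skip
                    by_cases hh1278 : k < 59972
                    · skip
                      by_cases hh1279 : k < 59925
                      · skip
                        exact relsRange_sound mdata basesM 47 59878 rel1274 k (by omega) (by omega)
                      · skip
                        exact relsRange_sound mdata basesM 47 59925 rel1275 k (by omega) (by omega)
                    · skip
                      by_cases hh1280 : k < 60019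
                      · skip
                        exact relsRange_sound mdata basesM 47 59972 rel1276 k (by omega) (by omega)
                      · skip
                        by_cases hh1281 : k < 60066
                        · skip
                          exact relsRange_sound mdata basesM 47 60019 rel1277 k (by omega) (by omega)
                        · skip
                          exact relsRange_sound mdata basesM 47 60066 rel1278 k (by omega) (by omega)
                  · skip
                    by_cases hh1282 : k < 60254
                    · skip
                      by_cases hh1283 : k < 60160
                      · skip
                        exact relsRange_sound mdata basesM 47 60113 rel1279 k (by omega) (by omega)
                      · skip
                        by_cases hh1284 : k < 60207
                        · skip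
                          exact relsRange_sound mdata basesM 47 60160 rel1280 k (by omega) (by omega)
                        · skip
                          exact relsRange_sound mdata basesM 47 60207 rel1281 k (by omega) (by omega)
                    · skip
                      by_cases hh1285 : k < 60301
                      · skip
                        exact relsRange_sound mdata basesM 47 60254 rel1282 k (by omega) (by omega)
                      · skip
                        by_cases hh1286 : k < 60348
                        · skip
                          exact relsRange_sound mdata basesM 47 60301 rel1283 k (by omega) (by omega)
                        · skip
                          exact relsRange_sound mdata basesM 47 60348 rel1284 k (by omega) (by omega)
              · skip
                by_cases hh1287 : k < 60912
                · skip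
                  by_cases hh1288 : k < 60630
                  · skip
                    by_cases hh1289 : k < 60489
                    · skip
                      by_cases hh1290 : k < 60442
                      · skip
                        exact relsRange_sound mdata basesM 47 60395 rel1285 k (by omega) (by omega)
                      · skip
                        exact relsRange_sound mdata basesM 47 60442 rel1286 k (by omega) (by omega)
                    · skip
                      by_cases hh1291 : k < 60536
                      · skip
                        exact relsRange_sound mdata basesM 47 60489 rel1287 k (by omega) (by omega)
                      · skip
                        by_cases hh1292 : k < 60583
                        · skip
                          exact relsRange_sound mdata basesM 47 60536 rel1288 k (by omega) (by omega)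
                        · skip
                          exact relsRange_sound mdata basesM 47 60583 rel1289 k (by omega) (by omega)
                  · skip
                    by_cases hh1293 : k < 60771
                    · skip
                      by_cases hh1294 : k < 60677
                      · skip
                        exact relsRange_sound mdata basesM 47 60630 rel1290 k (by omega) (by omega)
                      · skip
                        by_cases hh1295 : k < 60724
                        · skip
                          exact relsRange_sound mdata basesM 47 60677 rel1291 k (by omega) (by omega)
                        · skip
                          exact relsRange_sound mdata basesM 47 60724 rel1292 k (by omega) (by omega)
                    · skip
                      by_cases hh1296 : k < 60818
                      · skip
                        exact relsRange_sound mdata basesM 47 60771 rel1293 k (by omega) (by omega)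
                      · skip
                        by_cases hh1297 : k < 60865
                        · skip
                          exact relsRange_sound mdata basesM 47 60818 rel1294 k (by omega) (by omega)
                        · skip
                          exact relsRange_sound mdata basesM 47 60865 rel1295 k (by omega) (by omega)
                · skip
                  by_cases hh1298 : k < 61147
                  · skip
                    by_cases hh1299 : k < 61006
                    · skip
                      by_cases hh1300 : k < 60959
                      · skip
                        exact relsRange_sound mdata basesM 47 60912 rel1296 k (by omega) (by omega)
                      · skip
                        exact relsRange_sound mdata basesM 47 60959 rel1297 k (by omega) (by omega)
                    · skip
                      by_cases hh1301 : k < 61053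
                      · skip
                        exact relsRange_sound mdata basesM 47 61006 rel1298 k (by omega) (by omega)
                      · skip
                        by_cases hh1302 : k < 61100
                        · skip
                          exact relsRange_sound mdata basesM 47 61053 rel1299 k (by omega) (by omega)
                        · skip
                          exact relsRange_sound mdata basesM 47 61100 rel1300 k (by omega) (by omega)
                  · skip
                    by_cases hh1303 : k < 61288
                    · skip
                      by_cases hh1304 : k < 61194
                      · skip
                        exact relsRange_sound mdata basesM 47 61147 rel1301 k (by omega) (by omega)
                      · skip
                        by_cases hh1305 : k < 61241
                        · skip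
                          exact relsRange_sound mdata basesM 47 61194 rel1302 k (by omega) (by omega)
                        · skip
                          exact relsRange_sound mdata basesM 47 61241 rel1303 k (by omega) (by omega)
                    · skip
                      by_cases hh1306 : k < 61335
                      · skip
                        exact relsRange_sound mdata basesM 47 61288 rel1304 k (by omega) (by omega)
                      · skip
                        by_cases hh1307 : k < 61382
                        · skip
                          exact relsRange_sound mdata basesM 47 61335 rel1305 k (by omega) (by omega)
                        · skip
                          exact relsRange_sound mdata basesM 47 61382 rel1306 k (by omega) (by omega)
          · skip
            by_cases hh1308 : k < 63497
            · skip
              by_cases hh1309 : k < 62463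
              · skip
                by_cases hh1310 : k < 61946
                · skip
                  by_cases hh1311 : k < 61664
                  · skip
                    by_cases hh1312 : k < 61523
                    · skip
                      by_cases hh1313 : k < 61476
                      · skip
                        exact relsRange_sound mdata basesM 47 61429 rel1307 k (by omega) (by omega)
                      · skip
                        exact relsRange_sound mdata basesM 47 61476 rel1308 k (by omega) (by omega)
                    · skip
                      by_cases hh1314 : k < 61570
                      · skip
                        exact relsRange_sound mdata basesM 47 61523 rel1309 k (by omega) (by omega)
                      · skip
                        by_cases hh1315 : k < 61617
                        · skip
                          exact relsRange_sound mdata basesM 47 61570 rel1310 k (by omega) (by omega)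
                        · skip
                          exact relsRange_sound mdata basesM 47 61617 rel1311 k (by omega) (by omega)
                  · skip
                    by_cases hh1316 : k < 61805
                    · skip
                      by_cases hh1317 : k < 61711
                      · skip
                        exact relsRange_sound mdata basesM 47 61664 rel1312 k (by omega) (by omega)
                      · skip
                        by_cases hh1318 : k < 61758
                        · skip
                          exact relsRange_sound mdata basesM 47 61711 rel1313 k (by omega) (by omega)
                        · skip
                          exact relsRange_sound mdata basesM 47 61758 rel1314 k (by omega) (by omega)
                    · skip
                      by_cases hh1319 : k < 61852
                      · skip
                        exact relsRange_sound mdata basesM 47 61805 rel1315 k (by omega) (by omega)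
                      · skip
                        by_cases hh1320 : k < 61899
                        · skip
                          exact relsRange_sound mdata basesM 47 61852 rel1316 k (by omega) (by omega)
                        · skip
                          exact relsRange_sound mdata basesM 47 61899 rel1317 k (by omega) (by omega)
                · skip
                  by_cases hh1321 : k < 62181
                  · skip
                    by_cases hh1322 : k < 62040
                    · skip
                      by_cases hh1323 : k < 61993
                      · skip
                        exact relsRange_sound mdata basesM 47 61946 rel1318 k (by omega) (by omega)
                      · skip
                        exact relsRange_sound mdata basesM 47 61993 rel1319 k (by omega) (by omega)
                    · skip
                      by_cases hh1324 : k < 62087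
                      · skip
                        exact relsRange_sound mdata basesM 47 62040 rel1320 k (by omega) (by omega)
                      · skip
                        by_cases hh1325 : k < 62134
                        · skip
                          exact relsRange_sound mdata basesM 47 62087 rel1321 k (by omega) (by omega)
                        · skip
                          exact relsRange_sound mdata basesM 47 62134 rel1322 k (by omega) (by omega)
                  · skip
                    by_cases hh1326 : k < 62322
                    · skip
                      by_cases hh1327 : k < 62228
                      · skip
                        exact relsRange_sound mdata basesM 47 62181 rel1323 k (by omega) (by omega)
                      · skip
                        by_cases hh1328 : k < 62275
                        · skip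
                          exact relsRange_sound mdata basesM 47 62228 rel1324 k (by omega) (by omega)
                        · skip
                          exact relsRange_sound mdata basesM 47 62275 rel1325 k (by omega) (by omega)
                    · skip
                      by_cases hh1329 : k < 62369
                      · skip
                        exact relsRange_sound mdata basesM 47 62322 rel1326 k (by omega) (by omega)
                      · skip
                        by_cases hh1330 : k < 62416
                        · skip
                          exact relsRange_sound mdata basesM 47 62369 rel1327 k (by omega) (by omega)
                        · skip
                          exact relsRange_sound mdata basesM 47 62416 rel1328 k (by omega) (by omega)
              · skip
                by_cases hh1331 : k < 62980
                · skip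
                  by_cases hh1332 : k < 62698
                  · skip
                    by_cases hh1333 : k < 62557
                    · skip
                      by_cases hh1334 : k < 62510
                      · skip
                        exact relsRange_sound mdata basesM 47 62463 rel1329 k (by omega) (by omega)
                      · skip
                        exact relsRange_sound mdata basesM 47 62510 rel1330 k (by omega) (by omega)
                    · skip
                      by_cases hh1335 : k < 62604
                      · skip
                        exact relsRange_sound mdata basesM 47 62557 rel1331 k (by omega) (by omega)
                      · skip
                        by_cases hh1336 : k < 62651
                        · skip
                          exact relsRange_sound mdata basesM 47 62604 rel1332 k (by omega) (by omega)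
                        · skip
                          exact relsRange_sound mdata basesM 47 62651 rel1333 k (by omega) (by omega)
                  · skip
                    by_cases hh1337 : k < 62839
                    · skip
                      by_cases hh1338 : k < 62745
                      · skip
                        exact relsRange_sound mdata basesM 47 62698 rel1334 k (by omega) (by omega)
                      · skip
                        by_cases hh1339 : k < 62792
                        · skip
                          exact relsRange_sound mdata basesM 47 62745 rel1335 k (by omega) (by omega)
                        · skip
                          exact relsRange_sound mdata basesM 47 62792 rel1336 k (by omega) (by omega)
                    · skip
                      by_cases hh1340 : k < 62886
                      · skip
                        exact relsRange_sound mdata basesM 47 62839 rel1337 k (by omega) (by omega)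
                      · skip
                        by_cases hh1341 : k < 62933
                        · skip
                          exact relsRange_sound mdata basesM 47 62886 rel1338 k (by omega) (by omega)
                        · skip
                          exact relsRange_sound mdata basesM 47 62933 rel1339 k (by omega) (by omega)
                · skip
                  by_cases hh1342 : k < 63215
                  · skip
                    by_cases hh1343 : k < 63074
                    · skip
                      by_cases hh1344 : k < 63027
                      · skip
                        exact relsRange_sound mdata basesM 47 62980 rel1340 k (by omega) (by omega)
                      · skip
                        exact relsRange_sound mdata basesM 47 63027 rel1341 k (by omega) (by omega)
                    · skip
                      by_cases hh1345 : k < 63121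
                      · skip
                        exact relsRange_sound mdata basesM 47 63074 rel1342 k (by omega) (by omega)
                      · skip
                        by_cases hh1346 : k < 63168
                        · skip
                          exact relsRange_sound mdata basesM 47 63121 rel1343 k (by omega) (by omega)
                        · skip
                          exact relsRange_sound mdata basesM 47 63168 rel1344 k (by omega) (by omega)
                  · skip
                    by_cases hh1347 : k < 63356
                    · skip
                      by_cases hh1348 : k < 63262
                      · skip
                        exact relsRange_sound mdata basesM 47 63215 rel1345 k (by omega) (by omega)
                      · skip
                        by_cases hh1349 : k < 63309
                        · skip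
                          exact relsRange_sound mdata basesM 47 63262 rel1346 k (by omega) (by omega)
                        · skip
                          exact relsRange_sound mdata basesM 47 63309 rel1347 k (by omega) (by omega)
                    · skip
                      by_cases hh1350 : k < 63403
                      · skip
                        exact relsRange_sound mdata basesM 47 63356 rel1348 k (by omega) (by omega)
                      · skip
                        by_cases hh1351 : k < 63450
                        · skip
                          exact relsRange_sound mdata basesM 47 63403 rel1349 k (by omega) (by omega)
                        · skip
                          exact relsRange_sound mdata basesM 47 63450 rel1350 k (by omega) (by omega)
            · skip
              by_cases hh1352 : k < 64531
              · skip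
                by_cases hh1353 : k < 64014
                · skip
                  by_cases hh1354 : k < 63732
                  · skip
                    by_cases hh1355 : k < 63591
                    · skip
                      by_cases hh1356 : k < 63544
                      · skip
                        exact relsRange_sound mdata basesM 47 63497 rel1351 k (by omega) (by omega)
                      · skip
                        exact relsRange_sound mdata basesM 47 63544 rel1352 k (by omega) (by omega)
                    · skip
                      by_cases hh1357 : k < 63638
                      · skip
                        exact relsRange_sound mdata basesM 47 63591 rel1353 k (by omega) (by omega)
                      · skip
                        by_cases hh1358 : k < 63685
                        · skip
                          exact relsRange_sound mdata basesM 47 63638 rel1354 k (by omega) (by omega)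
                        · skip
                          exact relsRange_sound mdata basesM 47 63685 rel1355 k (by omega) (by omega)
                  · skip
                    by_cases hh1359 : k < 63873
                    · skip
                      by_cases hh1360 : k < 63779
                      · skip
                        exact relsRange_sound mdata basesM 47 63732 rel1356 k (by omega) (by omega)
                      · skip
                        by_cases hh1361 : k < 63826
                        · skip
                          exact relsRange_sound mdata basesM 47 63779 rel1357 k (by omega) (by omega)
                        · skip
                          exact relsRange_sound mdata basesM 47 63826 rel1358 k (by omega) (by omega)
                    · skip
                      by_cases hh1362 : k < 63920
                      · skip
                        exact relsRange_sound mdata basesM 47 63873 rel1359 k (by omega) (by omega)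
                      · skip
                        by_cases hh1363 : k < 63967
                        · skip
                          exact relsRange_sound mdata basesM 47 63920 rel1360 k (by omega) (by omega)
                        · skip
                          exact relsRange_sound mdata basesM 47 63967 rel1361 k (by omega) (by omega)
                · skip
                  by_cases hh1364 : k < 64249
                  · skip
                    by_cases hh1365 : k < 64108
                    · skip
                      by_cases hh1366 : k < 64061
                      · skip
                        exact relsRange_sound mdata basesM 47 64014 rel1362 k (by omega) (by omega)
                      · skip
                        exact relsRange_sound mdata basesM 47 64061 rel1363 k (by omega) (by omega)
                    · skip
                      by_cases hh1367 : k < 64155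
                      · skip
                        exact relsRange_sound mdata basesM 47 64108 rel1364 k (by omega) (by omega)
                      · skip
                        by_cases hh1368 : k < 64202
                        · skip
                          exact relsRange_sound mdata basesM 47 64155 rel1365 k (by omega) (by omega)
                        · skip
                          exact relsRange_sound mdata basesM 47 64202 rel1366 k (by omega) (by omega)
                  · skip
                    by_cases hh1369 : k < 64390
                    · skip
                      by_cases hh1370 : k < 64296
                      · skip
                        exact relsRange_sound mdata basesM 47 64249 rel1367 k (by omega) (by omega)
                      · skip
                        by_cases hh1371 : k < 64343
                        · skip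
                          exact relsRange_sound mdata basesM 47 64296 rel1368 k (by omega) (by omega)
                        · skip
                          exact relsRange_sound mdata basesM 47 64343 rel1369 k (by omega) (by omega)
                    · skip
                      by_cases hh1372 : k < 64437
                      · skip
                        exact relsRange_sound mdata basesM 47 64390 rel1370 k (by omega) (by omega)
                      · skip
                        by_cases hh1373 : k < 64484
                        · skip
                          exact relsRange_sound mdata basesM 47 64437 rel1371 k (by omega) (by omega)
                        · skip
                          exact relsRange_sound mdata basesM 47 64484 rel1372 k (by omega) (by omega)
              · skip
                by_cases hh1374 : k < 65048
                · skip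
                  by_cases hh1375 : k < 64766
                  · skip
                    by_cases hh1376 : k < 64625
                    · skip
                      by_cases hh1377 : k < 64578
                      · skip
                        exact relsRange_sound mdata basesM 47 64531 rel1373 k (by omega) (by omega)
                      · skip
                        exact relsRange_sound mdata basesM 47 64578 rel1374 k (by omega) (by omega)
                    · skip
                      by_cases hh1378 : k < 64672
                      · skip
                        exact relsRange_sound mdata basesM 47 64625 rel1375 k (by omega) (by omega)
                      · skip
                        by_cases hh1379 : k < 64719
                        · skip
                          exact relsRange_sound mdata basesM 47 64672 rel1376 k (by omega) (by omega)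
                        · skip
                          exact relsRange_sound mdata basesM 47 64719 rel1377 k (by omega) (by omega)
                  · skip
                    by_cases hh1380 : k < 64907
                    · skip
                      by_cases hh1381 : k < 64813
                      · skip
                        exact relsRange_sound mdata basesM 47 64766 rel1378 k (by omega) (by omega)
                      · skip
                        by_cases hh1382 : k < 64860
                        · skip
                          exact relsRange_sound mdata basesM 47 64813 rel1379 k (by omega) (by omega)
                        · skip
                          exact relsRange_sound mdata basesM 47 64860 rel1380 k (by omega) (by omega)
                    · skip
                      by_cases hh1383 : k < 64954
                      · skip
                        exact relsRange_sound mdata basesM 47 64907 rel1381 k (by omega) (by omega)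
                      · skip
                        by_cases hh1384 : k < 65001
                        · skip
                          exact relsRange_sound mdata basesM 47 64954 rel1382 k (by omega) (by omega)
                        · skip
                          exact relsRange_sound mdata basesM 47 65001 rel1383 k (by omega) (by omega)
                · skip
                  by_cases hh1385 : k < 65283
                  · skip
                    by_cases hh1386 : k < 65142
                    · skip
                      by_cases hh1387 : k < 65095
                      · skip
                        exact relsRange_sound mdata basesM 47 65048 rel1384 k (by omega) (by omega)
                      · skip
                        exact relsRange_sound mdata basesM 47 65095 rel1385 k (by omega) (by omega)
                    · skip
                      by_cases hh1388 : k < 65189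
                      · skip
                        exact relsRange_sound mdata basesM 47 65142 rel1386 k (by omega) (by omega)
                      · skip
                        by_cases hh1389 : k < 65236
                        · skip
                          exact relsRange_sound mdata basesM 47 65189 rel1387 k (by omega) (by omega)
                        · skip
                          exact relsRange_sound mdata basesM 47 65236 rel1388 k (by omega) (by omega)
                  · skip
                    by_cases hh1390 : k < 65424
                    · skip
                      by_cases hh1391 : k < 65330
                      · skip
                        exact relsRange_sound mdata basesM 47 65283 rel1389 k (by omega) (by omega)
                      · skip
                        by_cases hh1392 : k < 65377
                        · skip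
                          exact relsRange_sound mdata basesM 47 65330 rel1390 k (by omega) (by omega)
                        · skip
                          exact relsRange_sound mdata basesM 47 65377 rel1391 k (by omega) (by omega)
                    · skip
                      by_cases hh1393 : k < 65471
                      · skip
                        exact relsRange_sound mdata basesM 47 65424 rel1392 k (by omega) (by omega)
                      · skip
                        by_cases hh1394 : k < 65518
                        · skip
                          exact relsRange_sound mdata basesM 47 65471 rel1393 k (by omega) (by omega)
                        · skip
                          exact relsRange_sound mdata basesM 2 65518 rel1394 k (by omega) (by omega)
  · intro s hs
    cases hs
  · intro s hs
    cases hs
  · intro k h1 h2
    have h2' : k < 1 + (65520 - 1) := h2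
    by_cases hh1 : k < 26667
    · skip
      exact treeRange_sound mdata 26666 1 tree0 k (by omega) (by omega)
    · skip
      by_cases hh2 : k < 53333
      · skip
        exact treeRange_sound mdata 26666 26667 tree1 k (by omega) (by omega)
      · skip
        exact treeRange_sound mdata 12187 53333 tree2 k (by omega) (by omega)

end Cfsg.Agent.Helper4.TC.SuzKM2
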