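import Cfsg.Agent.Lib.Helper4.TC.SuzKM3Model
import Cfsg.Agent.Lib.Helper4.TC.Strict

set_option autoImplicit false
set_option maxRecDepth 100000
set_option linter.unusedVariables false
set_option Elab.async false

namespace Cfsg.Agent.Helper4.TC.SuzKM3

open Cfsg.Agent.Helper4.TC

theorem rel8 : relsRange mdata basesM 52 416 = true := relsRange_strict mdata basesM 52 416 (by decide +kernel)
theorem rel9 : relsRange mdata basesM 52 468 = true := relsRange_strict mdata basesM 52 468 (by decide +kernel)
theorem rel10 : relsRange mdata basesM 52 520 = true := relsRange_strict mdata basesM 52 520 (by decide +kernel)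
theorem rel11 : relsRange mdata basesM 52 572 = true := relsRange_strict mdata basesM 52 572 (by decide +kernel)
theorem rel12 : relsRange mdata basesM 52 624 = true := relsRange_strict mdata basesM 52 624 (by decide +kernel)
theorem rel13 : relsRange mdata basesM 52 676 = true := relsRange_strict mdata basesM 52 676 (by decide +kernel)
theorem rel14 : relsRange mdata basesM 52 728 = true := relsRange_strict mdata basesM 52 728 (by decide +kernel)
theorem rel15 : relsRange mdata basesM 52 780 = true := relsRange_strict mdata basesM 52 780 (by decide +kernel)

end Cfsg.Agent.Helper4.TC.SuzKM3
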