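import Cfsg.Agent.Lib.Helper4.TC.SuzKM3Model
import Cfsg.Agent.Lib.Helper4.TC.Strict

set_option autoImplicit false
set_option maxRecDepth 100000
set_option linter.unusedVariables false
set_option Elab.async false

namespace Cfsg.Agent.Helper4.TC.SuzKM3

open Cfsg.Agent.Helper4.TC

theorem rel80 : relsRange mdata basesM 52 4160 = true := relsRange_strict mdata basesM 52 4160 (by decide +kernel)
theorem rel81 : relsRange mdata basesM 52 4212 = true := relsRange_strict mdata basesM 52 4212 (by decide +kernel)
theorem rel82 : relsRange mdata basesM 52 4264 = true := relsRange_strict mdata basesM 52 4264 (by decide +kernel)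
theorem rel83 : relsRange mdata basesM 52 4316 = true := relsRange_strict mdata basesM 52 4316 (by decide +kernel)
theorem rel84 : relsRange mdata basesM 52 4368 = true := relsRange_strict mdata basesM 52 4368 (by decide +kernel)
theorem rel85 : relsRange mdata basesM 52 4420 = true := relsRange_strict mdata basesM 52 4420 (by decide +kernel)
theorem rel86 : relsRange mdata basesM 52 4472 = true := relsRange_strict mdata basesM 52 4472 (by decide +kernel)
theorem rel87 : relsRange mdata basesM 52 4524 = true := relsRange_strict mdata basesM 52 4524 (by decide +kernel)

end Cfsg.Agent.Helper4.TC.SuzKM3
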