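import Cfsg.Agent.Lib.Helper4.TC.SuzKM3Model
import Cfsg.Agent.Lib.Helper4.TC.Strict

set_option autoImplicit false
set_option maxRecDepth 100000
set_option linter.unusedVariables false
set_option Elab.async false

namespace Cfsg.Agent.Helper4.TC.SuzKM3

open Cfsg.Agent.Helper4.TC

theorem rel88 : relsRange mdata basesM 52 4576 = true := relsRange_strict mdata basesM 52 4576 (by decide +kernel)
theorem rel89 : relsRange mdata basesM 52 4628 = true := relsRange_strict mdata basesM 52 4628 (by decide +kernel)
theorem rel90 : relsRange mdata basesM 52 4680 = true := relsRange_strict mdata basesM 52 4680 (by decide +kernel)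
theorem rel91 : relsRange mdata basesM 52 4732 = true := relsRange_strict mdata basesM 52 4732 (by decide +kernel)
theorem rel92 : relsRange mdata basesM 52 4784 = true := relsRange_strict mdata basesM 52 4784 (by decide +kernel)
theorem rel93 : relsRange mdata basesM 52 4836 = true := relsRange_strict mdata basesM 52 4836 (by decide +kernel)
theorem rel94 : relsRange mdata basesM 52 4888 = true := relsRange_strict mdata basesM 52 4888 (by decide +kernel)
theorem rel95 : relsRange mdata basesM 52 4940 = true := relsRange_strict mdata basesM 52 4940 (by decide +kernel)

end Cfsg.Agent.Helper4.TC.SuzKM3
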