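import Cfsg.Agent.Lib.Helper4.TC.SuzKM3Model
import Cfsg.Agent.Lib.Helper4.TC.Strict

set_option autoImplicit false
set_option maxRecDepth 100000
set_option linter.unusedVariables false
set_option Elab.async false

namespace Cfsg.Agent.Helper4.TC.SuzKM3

open Cfsg.Agent.Helper4.TC

theorem rel96 : relsRange mdata basesM 52 4992 = true := relsRange_strict mdata basesM 52 4992 (by decide +kernel)
theorem rel97 : relsRange mdata basesM 52 5044 = true := relsRange_strict mdata basesM 52 5044 (by decide +kernel)
theorem rel98 : relsRange mdata basesM 52 5096 = true := relsRange_strict mdata basesM 52 5096 (by decide +kernel)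
theorem rel99 : relsRange mdata basesM 52 5148 = true := relsRange_strict mdata basesM 52 5148 (by decide +kernel)
theorem rel100 : relsRange mdata basesM 52 5200 = true := relsRange_strict mdata basesM 52 5200 (by decide +kernel)
theorem rel101 : relsRange mdata basesM 52 5252 = true := relsRange_strict mdata basesM 52 5252 (by decide +kernel)
theorem rel102 : relsRange mdata basesM 42 5304 = true := relsRange_strict mdata basesM 42 5304 (by decide +kernel)
theorem inv0 : invRange mdata 5333 0 = true := invRange_strict mdata 5333 0 (by decide +kernel)

end Cfsg.Agent.Helper4.TC.SuzKM3
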