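import Cfsg.Agent.Lib.Helper4.TC.SuzKM3Model
import Cfsg.Agent.Lib.Helper4.TC.Strict

set_option autoImplicit false
set_option maxRecDepth 100000
set_option linter.unusedVariables false
set_option Elab.async false

namespace Cfsg.Agent.Helper4.TC.SuzKM3

open Cfsg.Agent.Helper4.TC

theorem inv1 : invRange mdata 13 5333 = true := invRange_strict mdata 13 5333 (by decide +kernel)
theorem tree0 : treeRange mdata 5345 1 = true := treeRange_strict mdata 5345 1 (by decide +kernel)
theorem relc_ok : wordsLettersOK 10 basesM = true := by decide +kernel

end Cfsg.Agent.Helper4.TC.SuzKM3
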