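import Cfsg.Agent.Lib.Helper4.TC.SuzKM3Model
import Cfsg.Agent.Lib.Helper4.TC.Strict

set_option autoImplicit false
set_option maxRecDepth 100000
set_option linter.unusedVariables false
set_option Elab.async false

namespace Cfsg.Agent.Helper4.TC.SuzKM3

open Cfsg.Agent.Helper4.TC

theorem rel16 : relsRange mdata basesM 52 832 = true := relsRange_strict mdata basesM 52 832 (by decide +kernel)
theorem rel17 : relsRange mdata basesM 52 884 = true := relsRange_strict mdata basesM 52 884 (by decide +kernel)
theorem rel18 : relsRange mdata basesM 52 936 = true := relsRange_strict mdata basesM 52 936 (by decide +kernel)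
theorem rel19 : relsRange mdata basesM 52 988 = true := relsRange_strict mdata basesM 52 988 (by decide +kernel)
theorem rel20 : relsRange mdata basesM 52 1040 = true := relsRange_strict mdata basesM 52 1040 (by decide +kernel)
theorem rel21 : relsRange mdata basesM 52 1092 = true := relsRange_strict mdata basesM 52 1092 (by decide +kernel)
theorem rel22 : relsRange mdata basesM 52 1144 = true := relsRange_strict mdata basesM 52 1144 (by decide +kernel)
theorem rel23 : relsRange mdata basesM 52 1196 = true := relsRange_strict mdata basesM 52 1196 (by decide +kernel)

end Cfsg.Agent.Helper4.TC.SuzKM3
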