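import Cfsg.Agent.Lib.Helper4.TC.SuzKM3Model
import Cfsg.Agent.Lib.Helper4.TC.Strict

set_option autoImplicit false
set_option maxRecDepth 100000
set_option linter.unusedVariables false
set_option Elab.async false

namespace Cfsg.Agent.Helper4.TC.SuzKM3

open Cfsg.Agent.Helper4.TC

theorem rel24 : relsRange mdata basesM 52 1248 = true := relsRange_strict mdata basesM 52 1248 (by decide +kernel)
theorem rel25 : relsRange mdata basesM 52 1300 = true := relsRange_strict mdata basesM 52 1300 (by decide +kernel)
theorem rel26 : relsRange mdata basesM 52 1352 = true := relsRange_strict mdata basesM 52 1352 (by decide +kernel)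
theorem rel27 : relsRange mdata basesM 52 1404 = true := relsRange_strict mdata basesM 52 1404 (by decide +kernel)
theorem rel28 : relsRange mdata basesM 52 1456 = true := relsRange_strict mdata basesM 52 1456 (by decide +kernel)
theorem rel29 : relsRange mdata basesM 52 1508 = true := relsRange_strict mdata basesM 52 1508 (by decide +kernel)
theorem rel30 : relsRange mdata basesM 52 1560 = true := relsRange_strict mdata basesM 52 1560 (by decide +kernel)
theorem rel31 : relsRange mdata basesM 52 1612 = true := relsRange_strict mdata basesM 52 1612 (by decide +kernel)

end Cfsg.Agent.Helper4.TC.SuzKM3
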