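import Cfsg.Agent.Lib.Helper4.TC.SuzKM3Model
import Cfsg.Agent.Lib.Helper4.TC.Strict

set_option autoImplicit false
set_option maxRecDepth 100000
set_option linter.unusedVariables false
set_option Elab.async false

namespace Cfsg.Agent.Helper4.TC.SuzKM3

open Cfsg.Agent.Helper4.TC

theorem rel40 : relsRange mdata basesM 52 2080 = true := relsRange_strict mdata basesM 52 2080 (by decide +kernel)
theorem rel41 : relsRange mdata basesM 52 2132 = true := relsRange_strict mdata basesM 52 2132 (by decide +kernel)
theorem rel42 : relsRange mdata basesM 52 2184 = true := relsRange_strict mdata basesM 52 2184 (by decide +kernel)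
theorem rel43 : relsRange mdata basesM 52 2236 = true := relsRange_strict mdata basesM 52 2236 (by decide +kernel)
theorem rel44 : relsRange mdata basesM 52 2288 = true := relsRange_strict mdata basesM 52 2288 (by decide +kernel)
theorem rel45 : relsRange mdata basesM 52 2340 = true := relsRange_strict mdata basesM 52 2340 (by decide +kernel)
theorem rel46 : relsRange mdata basesM 52 2392 = true := relsRange_strict mdata basesM 52 2392 (by decide +kernel)
theorem rel47 : relsRange mdata basesM 52 2444 = true := relsRange_strict mdata basesM 52 2444 (by decide +kernel)

end Cfsg.Agent.Helper4.TC.SuzKM3
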