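import Cfsg.Agent.Lib.Helper4.TC.SuzKM3Model
import Cfsg.Agent.Lib.Helper4.TC.Strict

set_option autoImplicit false
set_option maxRecDepth 100000
set_option linter.unusedVariables false
set_option Elab.async false

namespace Cfsg.Agent.Helper4.TC.SuzKM3

open Cfsg.Agent.Helper4.TC

theorem rel56 : relsRange mdata basesM 52 2912 = true := relsRange_strict mdata basesM 52 2912 (by decide +kernel)
theorem rel57 : relsRange mdata basesM 52 2964 = true := relsRange_strict mdata basesM 52 2964 (by decide +kernel)
theorem rel58 : relsRange mdata basesM 52 3016 = true := relsRange_strict mdata basesM 52 3016 (by decide +kernel)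
theorem rel59 : relsRange mdata basesM 52 3068 = true := relsRange_strict mdata basesM 52 3068 (by decide +kernel)
theorem rel60 : relsRange mdata basesM 52 3120 = true := relsRange_strict mdata basesM 52 3120 (by decide +kernel)
theorem rel61 : relsRange mdata basesM 52 3172 = true := relsRange_strict mdata basesM 52 3172 (by decide +kernel)
theorem rel62 : relsRange mdata basesM 52 3224 = true := relsRange_strict mdata basesM 52 3224 (by decide +kernel)
theorem rel63 : relsRange mdata basesM 52 3276 = true := relsRange_strict mdata basesM 52 3276 (by decide +kernel)

end Cfsg.Agent.Helper4.TC.SuzKM3
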