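import Cfsg.Agent.Lib.Helper4.TC.SuzKM3Model
import Cfsg.Agent.Lib.Helper4.TC.Strict

set_option autoImplicit false
set_option maxRecDepth 100000
set_option linter.unusedVariables false
set_option Elab.async false

namespace Cfsg.Agent.Helper4.TC.SuzKM3

open Cfsg.Agent.Helper4.TC

theorem rel64 : relsRange mdata basesM 52 3328 = true := relsRange_strict mdata basesM 52 3328 (by decide +kernel)
theorem rel65 : relsRange mdata basesM 52 3380 = true := relsRange_strict mdata basesM 52 3380 (by decide +kernel)
theorem rel66 : relsRange mdata basesM 52 3432 = true := relsRange_strict mdata basesM 52 3432 (by decide +kernel)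
theorem rel67 : relsRange mdata basesM 52 3484 = true := relsRange_strict mdata basesM 52 3484 (by decide +kernel)
theorem rel68 : relsRange mdata basesM 52 3536 = true := relsRange_strict mdata basesM 52 3536 (by decide +kernel)
theorem rel69 : relsRange mdata basesM 52 3588 = true := relsRange_strict mdata basesM 52 3588 (by decide +kernel)
theorem rel70 : relsRange mdata basesM 52 3640 = true := relsRange_strict mdata basesM 52 3640 (by decide +kernel)
theorem rel71 : relsRange mdata basesM 52 3692 = true := relsRange_strict mdata basesM 52 3692 (by decide +kernel)

end Cfsg.Agent.Helper4.TC.SuzKM3
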