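import Cfsg.Agent.Lib.Helper4.TC.SuzKM3MC0
import Cfsg.Agent.Lib.Helper4.TC.SuzKM3MC1
import Cfsg.Agent.Lib.Helper4.TC.SuzKM3MC2
import Cfsg.Agent.Lib.Helper4.TC.SuzKM3MC3
import Cfsg.Agent.Lib.Helper4.TC.SuzKM3MC4
import Cfsg.Agent.Lib.Helper4.TC.SuzKM3MC5
import Cfsg.Agent.Lib.Helper4.TC.SuzKM3MC6
import Cfsg.Agent.Lib.Helper4.TC.SuzKM3MC7
import Cfsg.Agent.Lib.Helper4.TC.SuzKM3MC8
import Cfsg.Agent.Lib.Helper4.TC.SuzKM3MC9
import Cfsg.Agent.Lib.Helper4.TC.SuzKM3MC10
import Cfsg.Agent.Lib.Helper4.TC.SuzKM3MC11
import Cfsg.Agent.Lib.Helper4.TC.SuzKM3MC12
import Cfsg.Agent.Lib.Helper4.TC.SuzKM3MC13
import Cfsg.Agent.Lib.Helper4.TC.Perm

set_option autoImplicit false
set_option maxRecDepth 100000
set_option linter.unusedVariables false

namespace Cfsg.Agent.Helper4.TC.SuzKM3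

open Cfsg.Agent.Helper4.TC

theorem model_ok : ModelOK mdata basesM [] := by
  refine ⟨by decide, ?_, ?_, wordsLettersOK_sound _ _ relc_ok, ?_, ?_, ?_⟩
  · intro k hk
    have hk' : k < 5346 := hk
    by_cases hh1 : k < 5333
    · skip
      exact invRange_sound mdata 5333 0 inv0 k (by omega) (by omega)
    · skip
      exact invRange_sound mdata 13 5333 inv1 k (by omega) (by omega)
  · intro k hk
    have hk' : k < 5346 := hk
    by_cases hh1 : k < 2652
    · skip
      by_cases hh2 : k < 1300
      · skip
        by_cases hh3 : k < 624
        · skip
          by_cases hh4 : k < 312
          · skip
            by_cases hh5 : k < 156
            · skip
              by_cases hh6 : k < 52
              · skip
                exact relsRange_sound mdata basesM 52 0 rel0 k (by omega) (by omega)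
              · skip
                by_cases hh7 : k < 104
                · skip
                  exact relsRange_sound mdata basesM 52 52 rel1 k (by omega) (by omega)
                · skip
                  exact relsRange_sound mdata basesM 52 104 rel2 k (by omega) (by omega)
            · skip
              by_cases hh8 : k < 208
              · skip
                exact relsRange_sound mdata basesM 52 156 rel3 k (by omega) (by omega)
              · skip
                by_cases hh9 : k < 260
                · skip
                  exact relsRange_sound mdata basesM 52 208 rel4 k (by omega) (by omega)
                · skip
                  exact relsRange_sound mdata basesM 52 260 rel5 k (by omega) (by omega)
          · skip
            by_cases hh10 : k < 468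
            · skip
              by_cases hh11 : k < 364
              · skip
                exact relsRange_sound mdata basesM 52 312 rel6 k (by omega) (by omega)
              · skip
                by_cases hh12 : k < 416
                · skip
                  exact relsRange_sound mdata basesM 52 364 rel7 k (by omega) (by omega)
                · skip
                  exact relsRange_sound mdata basesM 52 416 rel8 k (by omega) (by omega)
            · skip
              by_cases hh13 : k < 520
              · skip
                exact relsRange_sound mdata basesM 52 468 rel9 k (by omega) (by omega)
              · skip
                by_cases hh14 : k < 572
                · skip
                  exact relsRange_sound mdata basesM 52 520 rel10 k (by omega) (by omega)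
                · skip
                  exact relsRange_sound mdata basesM 52 572 rel11 k (by omega) (by omega)
        · skip
          by_cases hh15 : k < 936
          · skip
            by_cases hh16 : k < 780
            · skip
              by_cases hh17 : k < 676
              · skip
                exact relsRange_sound mdata basesM 52 624 rel12 k (by omega) (by omega)
              · skip
                by_cases hh18 : k < 728
                · skip
                  exact relsRange_sound mdata basesM 52 676 rel13 k (by omega) (by omega)
                · skip
                  exact relsRange_sound mdata basesM 52 728 rel14 k (by omega) (by omega)
            · skip
              by_cases hh19 : k < 832
              · skip
                exact relsRange_sound mdata basesM 52 780 rel15 k (by omega) (by omega)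
              · skip
                by_cases hh20 : k < 884
                · skip
                  exact relsRange_sound mdata basesM 52 832 rel16 k (by omega) (by omega)
                · skip
                  exact relsRange_sound mdata basesM 52 884 rel17 k (by omega) (by omega)
          · skip
            by_cases hh21 : k < 1092
            · skip
              by_cases hh22 : k < 988
              · skip
                exact relsRange_sound mdata basesM 52 936 rel18 k (by omega) (by omega)
              · skip
                by_cases hh23 : k < 1040
                · skip
                  exact relsRange_sound mdata basesM 52 988 rel19 k (by omega) (by omega)
                · skip
                  exact relsRange_sound mdata basesM 52 1040 rel20 k (by omega) (by omega)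
            · skip
              by_cases hh24 : k < 1196
              · skip
                by_cases hh25 : k < 1144
                · skip
                  exact relsRange_sound mdata basesM 52 1092 rel21 k (by omega) (by omega)
                · skip
                  exact relsRange_sound mdata basesM 52 1144 rel22 k (by omega) (by omega)
              · skip
                by_cases hh26 : k < 1248
                · skip
                  exact relsRange_sound mdata basesM 52 1196 rel23 k (by omega) (by omega)
                · skip
                  exact relsRange_sound mdata basesM 52 1248 rel24 k (by omega) (by omega)
      · skip
        by_cases hh27 : k < 1976
        · skip
          by_cases hh28 : k < 1612
          · skip
            by_cases hh29 : k < 1456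
            · skip
              by_cases hh30 : k < 1352
              · skip
                exact relsRange_sound mdata basesM 52 1300 rel25 k (by omega) (by omega)
              · skip
                by_cases hh31 : k < 1404
                · skip
                  exact relsRange_sound mdata basesM 52 1352 rel26 k (by omega) (by omega)
                · skip
                  exact relsRange_sound mdata basesM 52 1404 rel27 k (by omega) (by omega)
            · skip
              by_cases hh32 : k < 1508
              · skip
                exact relsRange_sound mdata basesM 52 1456 rel28 k (by omega) (by omega)
              · skip
                by_cases hh33 : k < 1560
                · skip
                  exact relsRange_sound mdata basesM 52 1508 rel29 k (by omega) (by omega)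
                · skip
                  exact relsRange_sound mdata basesM 52 1560 rel30 k (by omega) (by omega)
          · skip
            by_cases hh34 : k < 1768
            · skip
              by_cases hh35 : k < 1664
              · skip
                exact relsRange_sound mdata basesM 52 1612 rel31 k (by omega) (by omega)
              · skip
                by_cases hh36 : k < 1716
                · skip
                  exact relsRange_sound mdata basesM 52 1664 rel32 k (by omega) (by omega)
                · skip
                  exact relsRange_sound mdata basesM 52 1716 rel33 k (by omega) (by omega)
            · skip
              by_cases hh37 : k < 1872
              · skip
                by_cases hh38 : k < 1820
                · skip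
                  exact relsRange_sound mdata basesM 52 1768 rel34 k (by omega) (by omega)
                · skip
                  exact relsRange_sound mdata basesM 52 1820 rel35 k (by omega) (by omega)
              · skip
                by_cases hh39 : k < 1924
                · skip
                  exact relsRange_sound mdata basesM 52 1872 rel36 k (by omega) (by omega)
                · skip
                  exact relsRange_sound mdata basesM 52 1924 rel37 k (by omega) (by omega)
        · skip
          by_cases hh40 : k < 2288
          · skip
            by_cases hh41 : k < 2132
            · skip
              by_cases hh42 : k < 2028
              · skip
                exact relsRange_sound mdata basesM 52 1976 rel38 k (by omega) (by omega)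
              · skip
                by_cases hh43 : k < 2080
                · skip
                  exact relsRange_sound mdata basesM 52 2028 rel39 k (by omega) (by omega)
                · skip
                  exact relsRange_sound mdata basesM 52 2080 rel40 k (by omega) (by omega)
            · skip
              by_cases hh44 : k < 2184
              · skip
                exact relsRange_sound mdata basesM 52 2132 rel41 k (by omega) (by omega)
              · skip
                by_cases hh45 : k < 2236
                · skip
                  exact relsRange_sound mdata basesM 52 2184 rel42 k (by omega) (by omega)
                · skip
                  exact relsRange_sound mdata basesM 52 2236 rel43 k (by omega) (by omega)
          · skip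
            by_cases hh46 : k < 2444
            · skip
              by_cases hh47 : k < 2340
              · skip
                exact relsRange_sound mdata basesM 52 2288 rel44 k (by omega) (by omega)
              · skip
                by_cases hh48 : k < 2392
                · skip
                  exact relsRange_sound mdata basesM 52 2340 rel45 k (by omega) (by omega)
                · skip
                  exact relsRange_sound mdata basesM 52 2392 rel46 k (by omega) (by omega)
            · skip
              by_cases hh49 : k < 2548
              · skip
                by_cases hh50 : k < 2496
                · skip
                  exact relsRange_sound mdata basesM 52 2444 rel47 k (by omega) (by omega)
                · skip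
                  exact relsRange_sound mdata basesM 52 2496 rel48 k (by omega) (by omega)
              · skip
                by_cases hh51 : k < 2600
                · skip
                  exact relsRange_sound mdata basesM 52 2548 rel49 k (by omega) (by omega)
                · skip
                  exact relsRange_sound mdata basesM 52 2600 rel50 k (by omega) (by omega)
    · skip
      by_cases hh52 : k < 4004
      · skip
        by_cases hh53 : k < 3328
        · skip
          by_cases hh54 : k < 2964
          · skip
            by_cases hh55 : k < 2808
            · skip
              by_cases hh56 : k < 2704
              · skip
                exact relsRange_sound mdata basesM 52 2652 rel51 k (by omega) (by omega)
              · skip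
                by_cases hh57 : k < 2756
                · skip
                  exact relsRange_sound mdata basesM 52 2704 rel52 k (by omega) (by omega)
                · skip
                  exact relsRange_sound mdata basesM 52 2756 rel53 k (by omega) (by omega)
            · skip
              by_cases hh58 : k < 2860
              · skip
                exact relsRange_sound mdata basesM 52 2808 rel54 k (by omega) (by omega)
              · skip
                by_cases hh59 : k < 2912
                · skip
                  exact relsRange_sound mdata basesM 52 2860 rel55 k (by omega) (by omega)
                · skip
                  exact relsRange_sound mdata basesM 52 2912 rel56 k (by omega) (by omega)
          · skip
            by_cases hh60 : k < 3120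
            · skip
              by_cases hh61 : k < 3016
              · skip
                exact relsRange_sound mdata basesM 52 2964 rel57 k (by omega) (by omega)
              · skip
                by_cases hh62 : k < 3068
                · skip
                  exact relsRange_sound mdata basesM 52 3016 rel58 k (by omega) (by omega)
                · skip
                  exact relsRange_sound mdata basesM 52 3068 rel59 k (by omega) (by omega)
            · skip
              by_cases hh63 : k < 3224
              · skip
                by_cases hh64 : k < 3172
                · skip
                  exact relsRange_sound mdata basesM 52 3120 rel60 k (by omega) (by omega)
                · skip
                  exact relsRange_sound mdata basesM 52 3172 rel61 k (by omega) (by omega)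
              · skip
                by_cases hh65 : k < 3276
                · skip
                  exact relsRange_sound mdata basesM 52 3224 rel62 k (by omega) (by omega)
                · skip
                  exact relsRange_sound mdata basesM 52 3276 rel63 k (by omega) (by omega)
        · skip
          by_cases hh66 : k < 3640
          · skip
            by_cases hh67 : k < 3484
            · skip
              by_cases hh68 : k < 3380
              · skip
                exact relsRange_sound mdata basesM 52 3328 rel64 k (by omega) (by omega)
              · skip
                by_cases hh69 : k < 3432
                · skip
                  exact relsRange_sound mdata basesM 52 3380 rel65 k (by omega) (by omega)
                · skip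
                  exact relsRange_sound mdata basesM 52 3432 rel66 k (by omega) (by omega)
            · skip
              by_cases hh70 : k < 3536
              · skip
                exact relsRange_sound mdata basesM 52 3484 rel67 k (by omega) (by omega)
              · skip
                by_cases hh71 : k < 3588
                · skip
                  exact relsRange_sound mdata basesM 52 3536 rel68 k (by omega) (by omega)
                · skip
                  exact relsRange_sound mdata basesM 52 3588 rel69 k (by omega) (by omega)
          · skip
            by_cases hh72 : k < 3796
            · skip
              by_cases hh73 : k < 3692
              · skip
                exact relsRange_sound mdata basesM 52 3640 rel70 k (by omega) (by omega)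
              · skip
                by_cases hh74 : k < 3744
                · skip
                  exact relsRange_sound mdata basesM 52 3692 rel71 k (by omega) (by omega)
                · skip
                  exact relsRange_sound mdata basesM 52 3744 rel72 k (by omega) (by omega)
            · skip
              by_cases hh75 : k < 3900
              · skip
                by_cases hh76 : k < 3848
                · skip
                  exact relsRange_sound mdata basesM 52 3796 rel73 k (by omega) (by omega)
                · skip
                  exact relsRange_sound mdata basesM 52 3848 rel74 k (by omega) (by omega)
              · skip
                by_cases hh77 : k < 3952
                · skip
                  exact relsRange_sound mdata basesM 52 3900 rel75 k (by omega) (by omega)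
                · skip
                  exact relsRange_sound mdata basesM 52 3952 rel76 k (by omega) (by omega)
      · skip
        by_cases hh78 : k < 4680
        · skip
          by_cases hh79 : k < 4316
          · skip
            by_cases hh80 : k < 4160
            · skip
              by_cases hh81 : k < 4056
              · skip
                exact relsRange_sound mdata basesM 52 4004 rel77 k (by omega) (by omega)
              · skip
                by_cases hh82 : k < 4108
                · skip
                  exact relsRange_sound mdata basesM 52 4056 rel78 k (by omega) (by omega)
                · skip
                  exact relsRange_sound mdata basesM 52 4108 rel79 k (by omega) (by omega)
            · skip
              by_cases hh83 : k < 4212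
              · skip
                exact relsRange_sound mdata basesM 52 4160 rel80 k (by omega) (by omega)
              · skip
                by_cases hh84 : k < 4264
                · skip
                  exact relsRange_sound mdata basesM 52 4212 rel81 k (by omega) (by omega)
                · skip
                  exact relsRange_sound mdata basesM 52 4264 rel82 k (by omega) (by omega)
          · skip
            by_cases hh85 : k < 4472
            · skip
              by_cases hh86 : k < 4368
              · skip
                exact relsRange_sound mdata basesM 52 4316 rel83 k (by omega) (by omega)
              · skip
                by_cases hh87 : k < 4420
                · skip
                  exact relsRange_sound mdata basesM 52 4368 rel84 k (by omega) (by omega)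
                · skip
                  exact relsRange_sound mdata basesM 52 4420 rel85 k (by omega) (by omega)
            · skip
              by_cases hh88 : k < 4576
              · skip
                by_cases hh89 : k < 4524
                · skip
                  exact relsRange_sound mdata basesM 52 4472 rel86 k (by omega) (by omega)
                · skip
                  exact relsRange_sound mdata basesM 52 4524 rel87 k (by omega) (by omega)
              · skip
                by_cases hh90 : k < 4628
                · skip
                  exact relsRange_sound mdata basesM 52 4576 rel88 k (by omega) (by omega)
                · skip
                  exact relsRange_sound mdata basesM 52 4628 rel89 k (by omega) (by omega)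
        · skip
          by_cases hh91 : k < 4992
          · skip
            by_cases hh92 : k < 4836
            · skip
              by_cases hh93 : k < 4732
              · skip
                exact relsRange_sound mdata basesM 52 4680 rel90 k (by omega) (by omega)
              · skip
                by_cases hh94 : k < 4784
                · skip
                  exact relsRange_sound mdata basesM 52 4732 rel91 k (by omega) (by omega)
                · skip
                  exact relsRange_sound mdata basesM 52 4784 rel92 k (by omega) (by omega)
            · skip
              by_cases hh95 : k < 4888
              · skip
                exact relsRange_sound mdata basesM 52 4836 rel93 k (by omega) (by omega)
              · skip
                by_cases hh96 : k < 4940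
                · skip
                  exact relsRange_sound mdata basesM 52 4888 rel94 k (by omega) (by omega)
                · skip
                  exact relsRange_sound mdata basesM 52 4940 rel95 k (by omega) (by omega)
          · skip
            by_cases hh97 : k < 5148
            · skip
              by_cases hh98 : k < 5044
              · skip
                exact relsRange_sound mdata basesM 52 4992 rel96 k (by omega) (by omega)
              · skip
                by_cases hh99 : k < 5096
                · skip
                  exact relsRange_sound mdata basesM 52 5044 rel97 k (by omega) (by omega)
                · skip
                  exact relsRange_sound mdata basesM 52 5096 rel98 k (by omega) (by omega)
            · skip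
              by_cases hh100 : k < 5252
              · skip
                by_cases hh101 : k < 5200
                · skip
                  exact relsRange_sound mdata basesM 52 5148 rel99 k (by omega) (by omega)
                · skip
                  exact relsRange_sound mdata basesM 52 5200 rel100 k (by omega) (by omega)
              · skip
                by_cases hh102 : k < 5304
                · skip
                  exact relsRange_sound mdata basesM 52 5252 rel101 k (by omega) (by omega)
                · skip
                  exact relsRange_sound mdata basesM 42 5304 rel102 k (by omega) (by omega)
  · intro s hs
    cases hs
  · intro s hs
    cases hs
  · intro k h1 h2
    have h2' : k < 1 + (5346 - 1) := h2
    exact treeRange_sound mdata 5345 1 tree0 k (by omega) (by omega)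

end Cfsg.Agent.Helper4.TC.SuzKM3
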