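import Cfsg.Agent.Lib.Helper4.TC.SuzKSchur
import Cfsg.Agent.Lib.Helper4.TC.SuzKM2Glue
import Cfsg.Agent.Lib.Helper4.TC.SuzKM3Glue
import Cfsg.Agent.Lib.Helper4.TC.SuzKC6
import Cfsg.Agent.Lib.Helper4.TC.Cover
import Cfsg.Agent.Lib.Helper4.TC.MatGL
import Cfsg.Agent.Lib.Helper3.SuzMKC
import Cfsg.Agent.Lib.Helper21.U43MPF

set_option autoImplicit false
set_option maxRecDepth 100000
set_option linter.unusedVariables false
set_option linter.style.haveILetI false

/-! The group with the weak relators is a stem extension of the sporadic Suzuki group with kernel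
cyclic of order 6: a central word has six different powers in a pair of permutation models, on
65520 points (where a central involution moves the points) and on 5346 points (where a central
element of order 3 moves the points). -/

namespace Cfsg.Agent.Helper4.TC.SuzKEx

open Cfsg Cfsg.Agent.Helper4.TC Cfsg.Agent.Helper4.TC.SuzKIso
open Cfsg.Agent.Helper4.Pres.SuzK (Gen)

abbrev RW : Set (FreeGroup Gen) := SuzKCard.RW
abbrev PW : Type := PresentedGroup RW

theorem card_PW : Finite PW ∧ Nat.card PW ≤ 2690072985600 := SuzKCard.card_PW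

instance : Finite PW := card_PW.1

theorem relW_one (b : List ℕ) (hb : b ∈ SuzKSD.exL ++ Schur.weakify0 SuzKSD.g5 SuzKSD.ceL) :
    evc (PresentedGroup.of (rels := RW)) decK b = 1 := by
  rw [evc_of]
  exact PresentedGroup.one_of_mem (mem_relSet _ b hb)

/-! ### the homomorphism onto the group -/

theorem exists_tau : ∃ τ : PW →* P, ∀ x, τ (PresentedGroup.of x) = PresentedGroup.of x :=
  Schur.exists_hom_weak0 SuzKCod.coding (⊥ : Subgroup P) bot_le (PresentedGroup.of (rels := RP))
    SuzKSD.exL SuzKSD.ceL SuzKSD.g5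
    (fun b hb => SuzKSchur.rel_one b (SuzKSchur.mem_allL_of_exL b hb))
    (fun ρ hρ => by
      rw [Subgroup.mem_bot]
      exact SuzKSchur.rel_one ρ (SuzKSchur.mem_allL_of_ceL ρ hρ))

/-- a commutator word which is trivial: the two elements commute -/
theorem commute_of_comm_word {Q : Type*} [Group Q] (f : Gen → Q) (x ρ : List ℕ)
    (h : evc f decK (invW x ++ invW ρ ++ x ++ ρ) = 1) :
    evc f decK ρ * evc f decK x = evc f decK x * evc f decK ρ := by
  rw [evc_append, evc_append, evc_append, evc_invW f SuzKCod.coding,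
    evc_invW f SuzKCod.coding] at h
  have h2 : evc f decK ρ * evc f decK x * (evc f decK ρ)⁻¹ * (evc f decK x)⁻¹ = 1 := by
    rw [← h]
    group
  calc evc f decK ρ * evc f decK x
      = (evc f decK ρ * evc f decK x * (evc f decK ρ)⁻¹ * (evc f decK x)⁻¹) *
          (evc f decK x * evc f decK ρ) := by group
    _ = evc f decK x * evc f decK ρ := by rw [h2, one_mul]

theorem evc_letter {Q : Type*} [Group Q] (f : Gen → Q) (c : ℕ) :
    evc f decK [c] = gl f (decK c) := by
  rw [evc_cons, evc_nil, one_mul]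

/-- the words of the generators -/
def gw : Gen → List ℕ
  | .p => [0]
  | .q => [2]
  | .r => [4]
  | .s => [6]
  | .t => [8]

theorem evc_gw {Q : Type*} [Group Q] (f : Gen → Q) (k : Gen) : evc f decK (gw k) = f k := by
  cases k <;> rw [gw, evc_letter] <;> rfl

theorem gw_mem (k : Gen) : gw k ∈ SuzKSD.g5 := by
  cases k <;> decide

theorem comm_word_mem (k : Gen) (ρ : List ℕ) (L : List (List ℕ)) (hρ : ρ ∈ L) :
    invW (gw k) ++ invW ρ ++ gw k ++ ρ ∈ Schur.weakify0 SuzKSD.g5 L :=
  List.mem_flatMap.mpr ⟨ρ, hρ, List.mem_map.mpr ⟨gw k, gw_mem k, rfl⟩⟩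

/-! ### a permutation model -/

section ModelSec

variable {m : MData} {basesM repL : List (List ℕ)} (hm : ModelOK m basesM [])
  (hc : Coding decK SuzKCod.enc m.nc)
  (hexM : ∀ b ∈ SuzKSD.exL, b ∈ basesM)
  (hceM : ∀ ρ ∈ SuzKSD.ceL, ρ ∈ basesM ∨ ρ ∈ repL ∨ ∃ w ∈ repL, (ρ ++ invW w) ∈ basesM)
  (hcoM : ∀ b ∈ Schur.weakify0 SuzKSD.g5 repL, b ∈ basesM)

theorem hwordG (b : List ℕ) (hb : ∀ c ∈ b, c < m.nc) (k : Fin m.n) :
    (evc (permG hm hc) decK b k).val = mtrace m b k.val :=
  evc_permG_apply hm hc b hb k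

theorem relM_oneG (b : List ℕ) (hb : b ∈ basesM) : evc (permG hm hc) decK b = 1 := by
  apply Equiv.ext
  intro k
  apply Fin.ext
  rw [hwordG hm hc b (hm.relc b hb) k, hm.rel k.val k.2 b hb]
  rfl

include hcoM in
/-- the words of `repL` commute with the generators in the model -/
theorem rep_commG (w : List ℕ) (hw : w ∈ repL) (k : Gen) :
    evc (permG hm hc) decK w * permG hm hc k = permG hm hc k * evc (permG hm hc) decK w := by
  have h := commute_of_comm_word (permG hm hc) (gw k) w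
    (relM_oneG hm hc _ (hcoM _ (comm_word_mem k w repL hw)))
  rw [evc_gw] at h
  exact h

include hceM hcoM in
/-- the central words commute with the generators in the model -/
theorem ce_commG (ρ : List ℕ) (hρ : ρ ∈ SuzKSD.ceL) (k : Gen) :
    evc (permG hm hc) decK ρ * permG hm hc k = permG hm hc k * evc (permG hm hc) decK ρ := by
  rcases hceM ρ hρ with h | h | ⟨w, hw, h⟩
  · rw [relM_oneG hm hc ρ h, one_mul, mul_one]
  · exact rep_commG hm hc hcoM ρ h k
  · have h2 := relM_oneG hm hc _ h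
    rw [evc_append, evc_invW (permG hm hc) SuzKCod.coding] at h2
    have h3 : evc (permG hm hc) decK ρ = evc (permG hm hc) decK w := (inv_mul_eq_one.mp h2).symm
    rw [h3]
    exact rep_commG hm hc hcoM w hw k

end ModelSec

/-! ### the two models -/

noncomputable abbrev n2 : ℕ := SuzKM2.mdata.n
noncomputable abbrev n3 : ℕ := SuzKM3.mdata.n

noncomputable def f2 : Gen → Equiv.Perm (Fin n2) := permG SuzKM2.model_ok SuzKCod.coding
noncomputable def f3 : Gen → Equiv.Perm (Fin n3) := permG SuzKM3.model_ok SuzKCod.coding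

theorem hexM2 : ∀ b ∈ SuzKSD.exL, b ∈ SuzKM2.basesM := by decide +kernel
theorem hceM2 : ∀ ρ ∈ SuzKSD.ceL, ρ ∈ SuzKM2.basesM ∨ ρ ∈ SuzKM2.repL ∨
    ∃ w ∈ SuzKM2.repL, (ρ ++ invW w) ∈ SuzKM2.basesM := by decide +kernel
theorem hcoM2 : ∀ b ∈ Schur.weakify0 SuzKSD.g5 SuzKM2.repL, b ∈ SuzKM2.basesM := by
  decide +kernel
theorem hexM3 : ∀ b ∈ SuzKSD.exL, b ∈ SuzKM3.basesM := by decide +kernel
theorem hceM3 : ∀ ρ ∈ SuzKSD.ceL, ρ ∈ SuzKM3.basesM ∨ ρ ∈ SuzKM3.repL ∨
    ∃ w ∈ SuzKM3.repL, (ρ ++ invW w) ∈ SuzKM3.basesM := by decide +kernel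
theorem hcoM3 : ∀ b ∈ Schur.weakify0 SuzKSD.g5 SuzKM3.repL, b ∈ SuzKM3.basesM := by
  decide +kernel

/-- the pair of permutations of a generator -/
noncomputable def fM (k : Gen) : Equiv.Perm (Fin n2) × Equiv.Perm (Fin n3) := (f2 k, f3 k)

theorem evc_fM (b : List ℕ) : evc fM decK b = (evc f2 decK b, evc f3 decK b) := by
  have h1 := Schur.map_evc (dec := decK)
    (MonoidHom.fst (Equiv.Perm (Fin n2)) (Equiv.Perm (Fin n3))) fM b
  have h2 := Schur.map_evc (dec := decK)
    (MonoidHom.snd (Equiv.Perm (Fin n2)) (Equiv.Perm (Fin n3))) fM b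
  exact Prod.ext h1 h2

theorem relM_one (b : List ℕ) (hb : b ∈ SuzKSD.exL) : evc fM decK b = 1 := by
  rw [evc_fM]
  exact Prod.ext (relM_oneG SuzKM2.model_ok SuzKCod.coding b (hexM2 b hb))
    (relM_oneG SuzKM3.model_ok SuzKCod.coding b (hexM3 b hb))

/-- the central words commute with the generators in the models -/
theorem ce_comm (ρ : List ℕ) (hρ : ρ ∈ SuzKSD.ceL) (k : Gen) :
    evc fM decK ρ * fM k = fM k * evc fM decK ρ := by
  rw [evc_fM]
  exact Prod.ext (ce_commG SuzKM2.model_ok SuzKCod.coding hceM2 hcoM2 ρ hρ k)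
    (ce_commG SuzKM3.model_ok SuzKCod.coding hceM3 hcoM3 ρ hρ k)

/-- the group generated by the permutations of the models -/
noncomputable abbrev Δ : Subgroup (Equiv.Perm (Fin n2) × Equiv.Perm (Fin n3)) :=
  Subgroup.closure (Set.range fM)

noncomputable def fΔ (k : Gen) : Δ := ⟨fM k, Subgroup.subset_closure ⟨k, rfl⟩⟩

theorem coe_evc_fΔ (b : List ℕ) :
    ((evc fΔ decK b : Δ) : Equiv.Perm (Fin n2) × Equiv.Perm (Fin n3)) = evc fM decK b := by
  have h := Schur.map_evc (dec := decK) (Subgroup.subtype Δ) fΔ b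
  exact h

/-- an element of the group of the models which commutes with the generators is central -/
theorem center_of_comm (g : Δ)
    (hg : ∀ k, (g : Equiv.Perm (Fin n2) × Equiv.Perm (Fin n3)) * fM k = fM k * g) :
    g ∈ Subgroup.center Δ := by
  have h : Δ ≤ Subgroup.centralizer {(g : Equiv.Perm (Fin n2) × Equiv.Perm (Fin n3))} := by
    rw [Subgroup.closure_le]
    rintro _ ⟨k, rfl⟩
    rw [SetLike.mem_coe, Subgroup.mem_centralizer_iff]
    intro h hh
    rw [Set.mem_singleton_iff.mp hh]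
    exact hg k
  rw [Subgroup.mem_center_iff]
  intro x
  apply Subtype.ext
  have hx := Subgroup.mem_centralizer_iff.mp (h x.2)
    (g : Equiv.Perm (Fin n2) × Equiv.Perm (Fin n3)) (Set.mem_singleton _)
  show (x : Equiv.Perm (Fin n2) × Equiv.Perm (Fin n3)) * g = g * x
  exact hx.symm

theorem exists_phi : ∃ φ : PW →* Δ, ∀ x, φ (PresentedGroup.of x) = fΔ x := by
  refine Schur.exists_hom_weak0 SuzKCod.coding (Subgroup.center Δ) le_rfl fΔ SuzKSD.exL
    SuzKSD.ceL SuzKSD.g5 ?_ ?_
  · intro b hb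
    apply Subtype.ext
    rw [coe_evc_fΔ]
    exact relM_one b hb
  · intro ρ hρ
    refine center_of_comm _ ?_
    intro k
    rw [coe_evc_fΔ]
    exact ce_comm ρ hρ k

/-! ### the central element of order 6 -/

theorem hw1 : SuzKC6.w1 ∈ SuzKSD.ceL := by decide +kernel
theorem hw2 : SuzKC6.w2 ∈ SuzKSD.ceL := by decide +kernel

/-- the central word: the concatenation of two central relators -/
def c6 : List ℕ := SuzKC6.w1 ++ SuzKC6.w2

noncomputable def cW (w : List ℕ) : PW := PresentedGroup.mk RW (wordF decK w)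

theorem cW_eq (w : List ℕ) : cW w = evc (PresentedGroup.of (rels := RW)) decK w := by
  unfold cW
  rw [evc_of]

theorem cW_comm (ρ : List ℕ) (hρ : ρ ∈ SuzKSD.ceL) (k : Gen) :
    cW ρ * PresentedGroup.of k = PresentedGroup.of k * cW ρ := by
  have h := commute_of_comm_word (PresentedGroup.of (rels := RW)) (gw k) ρ
    (relW_one _ (List.mem_append_right _ (comm_word_mem k ρ SuzKSD.ceL hρ)))
  rw [evc_gw, ← cW_eq] at h
  exact h

theorem center_of_comm_W (g : PW) (hg : ∀ k, g * PresentedGroup.of k = PresentedGroup.of k * g) :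
    g ∈ Subgroup.center PW := by
  have h : (⊤ : Subgroup PW) ≤ Subgroup.centralizer {g} := by
    rw [← PresentedGroup.closure_range_of RW, Subgroup.closure_le]
    rintro _ ⟨k, rfl⟩
    rw [SetLike.mem_coe, Subgroup.mem_centralizer_iff]
    intro h hh
    rw [Set.mem_singleton_iff.mp hh]
    exact hg k
  rw [Subgroup.mem_center_iff]
  intro x
  have hx := Subgroup.mem_centralizer_iff.mp (h (Subgroup.mem_top x)) g (Set.mem_singleton _)
  exact hx.symm

theorem cW_center (ρ : List ℕ) (hρ : ρ ∈ SuzKSD.ceL) : cW ρ ∈ Subgroup.center PW :=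
  center_of_comm_W _ (cW_comm ρ hρ)

theorem cW_append (u v : List ℕ) : cW (u ++ v) = cW v * cW u := by
  rw [cW_eq, cW_eq, cW_eq, evc_append]

noncomputable def cE : PW := cW c6

theorem cE_center : cE ∈ Subgroup.center PW := by
  unfold cE c6
  rw [cW_append]
  exact Subgroup.mul_mem _ (cW_center _ hw2) (cW_center _ hw1)

theorem tau_cW (τ : PW →* P) (hτ : ∀ x, τ (PresentedGroup.of x) = PresentedGroup.of x)
    (w : List ℕ) : τ (cW w) = evc (PresentedGroup.of (rels := RP)) decK w := by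
  unfold cW
  rw [hom_word]
  have h2 : (fun x => τ (PresentedGroup.of x)) = PresentedGroup.of (rels := RP) := funext hτ
  rw [h2]

theorem cW_mem_ker (τ : PW →* P) (hτ : ∀ x, τ (PresentedGroup.of x) = PresentedGroup.of x)
    (ρ : List ℕ) (hρ : ρ ∈ SuzKSD.ceL) : cW ρ ∈ τ.ker := by
  rw [MonoidHom.mem_ker, tau_cW τ hτ]
  exact SuzKSchur.rel_one ρ (SuzKSchur.mem_allL_of_ceL ρ hρ)

theorem cE_mem_ker (τ : PW →* P) (hτ : ∀ x, τ (PresentedGroup.of x) = PresentedGroup.of x) :
    cE ∈ τ.ker := by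
  unfold cE c6
  rw [cW_append]
  exact Subgroup.mul_mem _ (cW_mem_ker τ hτ _ hw2) (cW_mem_ker τ hτ _ hw1)

theorem phi_cW (φ : PW →* Δ) (hφ : ∀ x, φ (PresentedGroup.of x) = fΔ x) (w : List ℕ) :
    ((φ (cW w) : Δ) : Equiv.Perm (Fin n2) × Equiv.Perm (Fin n3)) = evc fM decK w := by
  unfold cW
  rw [hom_word]
  have h2 : (fun x => φ (PresentedGroup.of x)) = fΔ := funext hφ
  rw [h2, coe_evc_fΔ]

theorem c6_letters : ∀ i : Fin 6, ∀ c ∈ wpow c6 i.val, c < 10 := by decide +kernel

theorem c6_inj : ∀ i j : Fin 6,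
    mtrace SuzKM2.mdata (wpow c6 i.val) 0 = mtrace SuzKM2.mdata (wpow c6 j.val) 0 →
    mtrace SuzKM3.mdata (wpow c6 i.val) 0 = mtrace SuzKM3.mdata (wpow c6 j.val) 0 → i = j := by
  decide +kernel

theorem phi_inj (φ : PW →* Δ) (hφ : ∀ x, φ (PresentedGroup.of x) = fΔ x) :
    Function.Injective (fun i : Fin 6 => φ cE ^ i.val) := by
  have hval : ∀ i : Fin 6,
      ((φ cE ^ i.val : Δ) : Equiv.Perm (Fin n2) × Equiv.Perm (Fin n3)) =
        (evc f2 decK (wpow c6 i.val), evc f3 decK (wpow c6 i.val)) := by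
    intro i
    unfold cE
    rw [Subgroup.coe_pow, phi_cW φ hφ, ← evc_wpow, evc_fM]
  intro i j hij
  have hij' : (φ cE ^ i.val : Δ) = φ cE ^ j.val := hij
  have h0 := congrArg (fun z : Δ => (z : Equiv.Perm (Fin n2) × Equiv.Perm (Fin n3))) hij'
  simp only [hval] at h0
  have h2 := congrArg (fun z : Equiv.Perm (Fin n2) × Equiv.Perm (Fin n3) =>
    (z.1 ⟨0, SuzKM2.model_ok.npos⟩).val) h0
  have h3 := congrArg (fun z : Equiv.Perm (Fin n2) × Equiv.Perm (Fin n3) =>
    (z.2 ⟨0, SuzKM3.model_ok.npos⟩).val) h0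
  simp only at h2 h3
  unfold f2 at h2
  unfold f3 at h3
  rw [hwordG SuzKM2.model_ok SuzKCod.coding _ (c6_letters i),
    hwordG SuzKM2.model_ok SuzKCod.coding _ (c6_letters j)] at h2
  rw [hwordG SuzKM3.model_ok SuzKCod.coding _ (c6_letters i),
    hwordG SuzKM3.model_ok SuzKCod.coding _ (c6_letters j)] at h3
  exact c6_inj i j h2 h3

/-! ### the stem extension -/

theorem of_pow7 (k : Gen) : (PresentedGroup.of k : PW) ^ 7 = 1 := by
  cases k
  · have h := relW_one (wpow [0] 7) (List.mem_append_left _ (by decide))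
    rw [SuzKSchur.evc_pow7] at h
    exact h
  · have h := relW_one (wpow [2] 7) (List.mem_append_left _ (by decide))
    rw [SuzKSchur.evc_pow7] at h
    exact h
  · have h := relW_one (wpow [4] 7) (List.mem_append_left _ (by decide))
    rw [SuzKSchur.evc_pow7] at h
    exact h
  · have h := relW_one (wpow [6] 7) (List.mem_append_left _ (by decide))
    rw [SuzKSchur.evc_pow7] at h
    exact h
  · have h := relW_one (wpow [8] 7) (List.mem_append_left _ (by decide))
    rw [SuzKSchur.evc_pow7] at h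
    exact h

theorem commutator_eq_top_of_equiv {A B : Type*} [Group A] [Group B] (e : A ≃* B)
    (h : commutator A = ⊤) : commutator B = ⊤ := by
  have h1 : (commutator A).map e.toMonoidHom = commutator B := by
    rw [commutator_def, Subgroup.map_commutator,
      Subgroup.map_top_of_surjective _ e.surjective, ← commutator_def]
  rw [← h1, h, Subgroup.map_top_of_surjective _ e.surjective]

theorem perfect_P : commutator P = ⊤ := by
  haveI : IsSimpleGroup H := SuzS.main.1
  have hna : ∃ a b : H, a * b ≠ b * a :=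
    not_comm_of_simple_of_not_prime (by rw [SuzS.main.2]; norm_num)
  exact commutator_eq_top_of_equiv iso (commutator_eq_top_of_simple hna)

theorem card_A : Nat.card (Multiplicative (ZMod 6)) = 6 := by
  rw [Nat.card_eq_fintype_card]
  rfl

/-- the group with the weak relators is a stem extension with kernel cyclic of order 6 -/
theorem exists_stem : ∃ τ : PW →* P, IsStemExtension τ ∧
    Nonempty (τ.ker ≃* Multiplicative (ZMod 6)) := by
  obtain ⟨τ, hτ⟩ := exists_tau
  obtain ⟨φ, hφ⟩ := exists_phi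
  have hsurj : Function.Surjective τ := by
    rw [← MonoidHom.range_eq_top, eq_top_iff, ← PresentedGroup.closure_range_of RP,
      Subgroup.closure_le]
    rintro _ ⟨k, rfl⟩
    exact ⟨PresentedGroup.of k, hτ k⟩
  have hcardK : Nat.card τ.ker ≤ 6 := by
    have h1 := SchurTwo.card_eq_ker_mul τ hsurj
    have h2 := card_PW.2
    rw [h1, card_P] at h2
    omega
  obtain ⟨hgen, ⟨e⟩⟩ := Cfsg.Agent.Lib.Helper4.SuzM.kernel_cyclic_six τ.ker hcardK φ cE
    (cE_mem_ker τ hτ) (phi_inj φ hφ)
  have hcen : τ.ker ≤ Subgroup.center PW := by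
    intro g hg
    obtain ⟨i, rfl⟩ := hgen g hg
    exact Subgroup.pow_mem _ cE_center i
  have hcard6 : Nat.card τ.ker = 6 := by
    rw [Nat.card_congr e.toEquiv, card_A]
  have hcomm : τ.ker ≤ commutator PW :=
    Cfsg.Agent.Lib.Helper4.U43M.ker_le_commutator_of_pow τ hsurj perfect_P hcen 7
      (by rw [hcard6]; norm_num) (Set.range (PresentedGroup.of (rels := RW)))
      (PresentedGroup.closure_range_of RW) (by
        rintro _ ⟨k, rfl⟩
        exact of_pow7 k)
  exact ⟨τ, ⟨hsurj, hcen, hcomm⟩, ⟨e⟩⟩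

end Cfsg.Agent.Helper4.TC.SuzKEx
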