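import Cfsg.Agent.Lib.Helper4.TC.SuzSL
import Cfsg.Agent.Lib.Helper4.TC.SuzG24Glue

set_option autoImplicit false
set_option maxRecDepth 100000
set_option linter.unusedVariables false
set_option Elab.async false

namespace Cfsg.Agent.Helper4.TC.SuzS

open Cfsg.Agent.Helper4.TC

theorem lvl2_c0 : lvlRange SuzG24.mdata ld2 W2 1575 416 0 = true := by decide +kernel
theorem srt2_c0 : srtRange ld2 415 0 = true := by decide +kernel
theorem fix2 : ∀ w ∈ W2, (∀ c ∈ w, c < SuzG24.mdata.nc) ∧ ∀ q ∈ [0], mtrace SuzG24.mdata w q = q := by decide +kernel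

theorem lvl3_c0 : lvlRange SuzG24.mdata ld3 W3 1 315 0 = true := by decide +kernel
theorem srt3_c0 : srtRange ld3 314 0 = true := by decide +kernel
theorem fix3 : ∀ w ∈ W3, (∀ c ∈ w, c < SuzG24.mdata.nc) ∧ ∀ q ∈ [1575, 0], mtrace SuzG24.mdata w q = q := by decide +kernel

theorem lvl4_c0 : lvlRange SuzG24.mdata ld4 W4 16 10 0 = true := by decide +kernel
theorem srt4_c0 : srtRange ld4 9 0 = true := by decide +kernel
theorem fix4 : ∀ w ∈ W4, (∀ c ∈ w, c < SuzG24.mdata.nc) ∧ ∀ q ∈ [1, 1575, 0], mtrace SuzG24.mdata w q = q := by decide +kernel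

theorem lvl5_c0 : lvlRange SuzG24.mdata ld5 W5 1417 12 0 = true := by decide +kernel
theorem srt5_c0 : srtRange ld5 11 0 = true := by decide +kernel
theorem fix5 : ∀ w ∈ W5, (∀ c ∈ w, c < SuzG24.mdata.nc) ∧ ∀ q ∈ [16, 1, 1575, 0], mtrace SuzG24.mdata w q = q := by decide +kernel

theorem lvl6_c0 : lvlRange SuzG24.mdata ld6 W6 1463 4 0 = true := by decide +kernel
theorem srt6_c0 : srtRange ld6 3 0 = true := by decide +kernel
theorem fix6 : ∀ w ∈ W6, (∀ c ∈ w, c < SuzG24.mdata.nc) ∧ ∀ q ∈ [1417, 16, 1, 1575, 0], mtrace SuzG24.mdata w q = q := by decide +kernel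

theorem lvl7_c0 : lvlRange SuzG24.mdata ld7 W7 24 2 0 = true := by decide +kernel
theorem srt7_c0 : srtRange ld7 1 0 = true := by decide +kernel
theorem fix7 : ∀ w ∈ W7, (∀ c ∈ w, c < SuzG24.mdata.nc) ∧ ∀ q ∈ [1463, 1417, 16, 1, 1575, 0], mtrace SuzG24.mdata w q = q := by decide +kernel

theorem lvl8_c0 : lvlRange SuzG24.mdata ld8 W8 2 2 0 = true := by decide +kernel
theorem srt8_c0 : srtRange ld8 1 0 = true := by decide +kernel
theorem fix8 : ∀ w ∈ W8, (∀ c ∈ w, c < SuzG24.mdata.nc) ∧ ∀ q ∈ [24, 1463, 1417, 16, 1, 1575, 0], mtrace SuzG24.mdata w q = q := by decide +kernel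

theorem lvl2 : LevelOK SuzG24.mdata ld2 W2 1575 := by
  refine ⟨?_, ?_⟩
  · intro k hk
    have hk' : k < 416 := hk
    exact lvlRange_sound SuzG24.mdata ld2 W2 1575 416 0 lvl2_c0 k (by omega) (by omega)
  · intro k hk
    have hk' : k + 1 < 416 := hk
    exact srtRange_sound ld2 415 0 srt2_c0 k (by omega) (by omega)

theorem lvl3 : LevelOK SuzG24.mdata ld3 W3 1 := by
  refine ⟨?_, ?_⟩
  · intro k hk
    have hk' : k < 315 := hk
    exact lvlRange_sound SuzG24.mdata ld3 W3 1 315 0 lvl3_c0 k (by omega) (by omega)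
  · intro k hk
    have hk' : k + 1 < 315 := hk
    exact srtRange_sound ld3 314 0 srt3_c0 k (by omega) (by omega)

theorem lvl4 : LevelOK SuzG24.mdata ld4 W4 16 := by
  refine ⟨?_, ?_⟩
  · intro k hk
    have hk' : k < 10 := hk
    exact lvlRange_sound SuzG24.mdata ld4 W4 16 10 0 lvl4_c0 k (by omega) (by omega)
  · intro k hk
    have hk' : k + 1 < 10 := hk
    exact srtRange_sound ld4 9 0 srt4_c0 k (by omega) (by omega)

theorem lvl5 : LevelOK SuzG24.mdata ld5 W5 1417 := by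
  refine ⟨?_, ?_⟩
  · intro k hk
    have hk' : k < 12 := hk
    exact lvlRange_sound SuzG24.mdata ld5 W5 1417 12 0 lvl5_c0 k (by omega) (by omega)
  · intro k hk
    have hk' : k + 1 < 12 := hk
    exact srtRange_sound ld5 11 0 srt5_c0 k (by omega) (by omega)

theorem lvl6 : LevelOK SuzG24.mdata ld6 W6 1463 := by
  refine ⟨?_, ?_⟩
  · intro k hk
    have hk' : k < 4 := hk
    exact lvlRange_sound SuzG24.mdata ld6 W6 1463 4 0 lvl6_c0 k (by omega) (by omega)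
  · intro k hk
    have hk' : k + 1 < 4 := hk
    exact srtRange_sound ld6 3 0 srt6_c0 k (by omega) (by omega)

theorem lvl7 : LevelOK SuzG24.mdata ld7 W7 24 := by
  refine ⟨?_, ?_⟩
  · intro k hk
    have hk' : k < 2 := hk
    exact lvlRange_sound SuzG24.mdata ld7 W7 24 2 0 lvl7_c0 k (by omega) (by omega)
  · intro k hk
    have hk' : k + 1 < 2 := hk
    exact srtRange_sound ld7 1 0 srt7_c0 k (by omega) (by omega)

theorem lvl8 : LevelOK SuzG24.mdata ld8 W8 2 := by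
  refine ⟨?_, ?_⟩
  · intro k hk
    have hk' : k < 2 := hk
    exact lvlRange_sound SuzG24.mdata ld8 W8 2 2 0 lvl8_c0 k (by omega) (by omega)
  · intro k hk
    have hk' : k + 1 < 2 := hk
    exact srtRange_sound ld8 1 0 srt8_c0 k (by omega) (by omega)

noncomputable def specs : List LSpec := [⟨ld2, W2, 1575⟩, ⟨ld3, W3, 1⟩, ⟨ld4, W4, 16⟩, ⟨ld5, W5, 1417⟩, ⟨ld6, W6, 1463⟩, ⟨ld7, W7, 24⟩, ⟨ld8, W8, 2⟩]

theorem levels_ok : LevelsOK SuzG24.mdata [0] specs := by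
  refine levelsOK_cons SuzG24.mdata [0] ⟨ld2, W2, 1575⟩ _ lvl2 (by decide) fix2 ?_
  refine levelsOK_cons SuzG24.mdata [1575, 0] ⟨ld3, W3, 1⟩ _ lvl3 (by decide) fix3 ?_
  refine levelsOK_cons SuzG24.mdata [1, 1575, 0] ⟨ld4, W4, 16⟩ _ lvl4 (by decide) fix4 ?_
  refine levelsOK_cons SuzG24.mdata [16, 1, 1575, 0] ⟨ld5, W5, 1417⟩ _ lvl5 (by decide) fix5 ?_
  refine levelsOK_cons SuzG24.mdata [1417, 16, 1, 1575, 0] ⟨ld6, W6, 1463⟩ _ lvl6 (by decide) fix6 ?_
  refine levelsOK_cons SuzG24.mdata [1463, 1417, 16, 1, 1575, 0] ⟨ld7, W7, 24⟩ _ lvl7 (by decide) fix7 ?_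
  refine levelsOK_cons SuzG24.mdata [24, 1463, 1417, 16, 1, 1575, 0] ⟨ld8, W8, 2⟩ _ lvl8 (by decide) fix8 ?_
  exact levelsOK_nil _ _

end Cfsg.Agent.Helper4.TC.SuzS
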