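import Cfsg.Agent.Lib.Helper4.TC.SuzKM2Model
import Cfsg.Agent.Lib.Helper4.TC.Strict

set_option autoImplicit false
set_option maxRecDepth 100000
set_option linter.unusedVariables false
set_option Elab.async false

namespace Cfsg.Agent.Helper4.TC.SuzKM2

open Cfsg.Agent.Helper4.TC

theorem rel952 : relsRange mdata basesM 47 44744 = true := relsRange_strict mdata basesM 47 44744 (by decide +kernel)
theorem rel953 : relsRange mdata basesM 47 44791 = true := relsRange_strict mdata basesM 47 44791 (by decide +kernel)
theorem rel954 : relsRange mdata basesM 47 44838 = true := relsRange_strict mdata basesM 47 44838 (by decide +kernel)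
theorem rel955 : relsRange mdata basesM 47 44885 = true := relsRange_strict mdata basesM 47 44885 (by decide +kernel)
theorem rel956 : relsRange mdata basesM 47 44932 = true := relsRange_strict mdata basesM 47 44932 (by decide +kernel)
theorem rel957 : relsRange mdata basesM 47 44979 = true := relsRange_strict mdata basesM 47 44979 (by decide +kernel)
theorem rel958 : relsRange mdata basesM 47 45026 = true := relsRange_strict mdata basesM 47 45026 (by decide +kernel)
theorem rel959 : relsRange mdata basesM 47 45073 = true := relsRange_strict mdata basesM 47 45073 (by decide +kernel)

end Cfsg.Agent.Helper4.TC.SuzKM2
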