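import Cfsg.Agent.Lib.Helper4.TC.SuzKM2Model
import Cfsg.Agent.Lib.Helper4.TC.Strict

set_option autoImplicit false
set_option maxRecDepth 100000
set_option linter.unusedVariables false
set_option Elab.async false

namespace Cfsg.Agent.Helper4.TC.SuzKM2

open Cfsg.Agent.Helper4.TC

theorem rel1112 : relsRange mdata basesM 47 52264 = true := relsRange_strict mdata basesM 47 52264 (by decide +kernel)
theorem rel1113 : relsRange mdata basesM 47 52311 = true := relsRange_strict mdata basesM 47 52311 (by decide +kernel)
theorem rel1114 : relsRange mdata basesM 47 52358 = true := relsRange_strict mdata basesM 47 52358 (by decide +kernel)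
theorem rel1115 : relsRange mdata basesM 47 52405 = true := relsRange_strict mdata basesM 47 52405 (by decide +kernel)
theorem rel1116 : relsRange mdata basesM 47 52452 = true := relsRange_strict mdata basesM 47 52452 (by decide +kernel)
theorem rel1117 : relsRange mdata basesM 47 52499 = true := relsRange_strict mdata basesM 47 52499 (by decide +kernel)
theorem rel1118 : relsRange mdata basesM 47 52546 = true := relsRange_strict mdata basesM 47 52546 (by decide +kernel)
theorem rel1119 : relsRange mdata basesM 47 52593 = true := relsRange_strict mdata basesM 47 52593 (by decide +kernel)

end Cfsg.Agent.Helper4.TC.SuzKM2
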