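import Cfsg.Agent.Lib.Helper4.TC.SuzKM2Model
import Cfsg.Agent.Lib.Helper4.TC.Strict

set_option autoImplicit false
set_option maxRecDepth 100000
set_option linter.unusedVariables false
set_option Elab.async false

namespace Cfsg.Agent.Helper4.TC.SuzKM2

open Cfsg.Agent.Helper4.TC

theorem rel152 : relsRange mdata basesM 47 7144 = true := relsRange_strict mdata basesM 47 7144 (by decide +kernel)
theorem rel153 : relsRange mdata basesM 47 7191 = true := relsRange_strict mdata basesM 47 7191 (by decide +kernel)
theorem rel154 : relsRange mdata basesM 47 7238 = true := relsRange_strict mdata basesM 47 7238 (by decide +kernel)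
theorem rel155 : relsRange mdata basesM 47 7285 = true := relsRange_strict mdata basesM 47 7285 (by decide +kernel)
theorem rel156 : relsRange mdata basesM 47 7332 = true := relsRange_strict mdata basesM 47 7332 (by decide +kernel)
theorem rel157 : relsRange mdata basesM 47 7379 = true := relsRange_strict mdata basesM 47 7379 (by decide +kernel)
theorem rel158 : relsRange mdata basesM 47 7426 = true := relsRange_strict mdata basesM 47 7426 (by decide +kernel)
theorem rel159 : relsRange mdata basesM 47 7473 = true := relsRange_strict mdata basesM 47 7473 (by decide +kernel)

end Cfsg.Agent.Helper4.TC.SuzKM2
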