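import Cfsg.Agent.Lib.Helper4.TC.SuzKM2Model
import Cfsg.Agent.Lib.Helper4.TC.Strict

set_option autoImplicit false
set_option maxRecDepth 100000
set_option linter.unusedVariables false
set_option Elab.async false

namespace Cfsg.Agent.Helper4.TC.SuzKM2

open Cfsg.Agent.Helper4.TC

theorem rel312 : relsRange mdata basesM 47 14664 = true := relsRange_strict mdata basesM 47 14664 (by decide +kernel)
theorem rel313 : relsRange mdata basesM 47 14711 = true := relsRange_strict mdata basesM 47 14711 (by decide +kernel)
theorem rel314 : relsRange mdata basesM 47 14758 = true := relsRange_strict mdata basesM 47 14758 (by decide +kernel)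
theorem rel315 : relsRange mdata basesM 47 14805 = true := relsRange_strict mdata basesM 47 14805 (by decide +kernel)
theorem rel316 : relsRange mdata basesM 47 14852 = true := relsRange_strict mdata basesM 47 14852 (by decide +kernel)
theorem rel317 : relsRange mdata basesM 47 14899 = true := relsRange_strict mdata basesM 47 14899 (by decide +kernel)
theorem rel318 : relsRange mdata basesM 47 14946 = true := relsRange_strict mdata basesM 47 14946 (by decide +kernel)
theorem rel319 : relsRange mdata basesM 47 14993 = true := relsRange_strict mdata basesM 47 14993 (by decide +kernel)

end Cfsg.Agent.Helper4.TC.SuzKM2
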