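import Cfsg.Agent.Lib.Helper4.TC.SuzKM2Model
import Cfsg.Agent.Lib.Helper4.TC.Strict

set_option autoImplicit false
set_option maxRecDepth 100000
set_option linter.unusedVariables false
set_option Elab.async false

namespace Cfsg.Agent.Helper4.TC.SuzKM2

open Cfsg.Agent.Helper4.TC

theorem rel472 : relsRange mdata basesM 47 22184 = true := relsRange_strict mdata basesM 47 22184 (by decide +kernel)
theorem rel473 : relsRange mdata basesM 47 22231 = true := relsRange_strict mdata basesM 47 22231 (by decide +kernel)
theorem rel474 : relsRange mdata basesM 47 22278 = true := relsRange_strict mdata basesM 47 22278 (by decide +kernel)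
theorem rel475 : relsRange mdata basesM 47 22325 = true := relsRange_strict mdata basesM 47 22325 (by decide +kernel)
theorem rel476 : relsRange mdata basesM 47 22372 = true := relsRange_strict mdata basesM 47 22372 (by decide +kernel)
theorem rel477 : relsRange mdata basesM 47 22419 = true := relsRange_strict mdata basesM 47 22419 (by decide +kernel)
theorem rel478 : relsRange mdata basesM 47 22466 = true := relsRange_strict mdata basesM 47 22466 (by decide +kernel)
theorem rel479 : relsRange mdata basesM 47 22513 = true := relsRange_strict mdata basesM 47 22513 (by decide +kernel)

end Cfsg.Agent.Helper4.TC.SuzKM2
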