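import Cfsg.Agent.Lib.Helper4.TC.SuzKM2Model
import Cfsg.Agent.Lib.Helper4.TC.Strict

set_option autoImplicit false
set_option maxRecDepth 100000
set_option linter.unusedVariables false
set_option Elab.async false

namespace Cfsg.Agent.Helper4.TC.SuzKM2

open Cfsg.Agent.Helper4.TC

theorem rel632 : relsRange mdata basesM 47 29704 = true := relsRange_strict mdata basesM 47 29704 (by decide +kernel)
theorem rel633 : relsRange mdata basesM 47 29751 = true := relsRange_strict mdata basesM 47 29751 (by decide +kernel)
theorem rel634 : relsRange mdata basesM 47 29798 = true := relsRange_strict mdata basesM 47 29798 (by decide +kernel)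
theorem rel635 : relsRange mdata basesM 47 29845 = true := relsRange_strict mdata basesM 47 29845 (by decide +kernel)
theorem rel636 : relsRange mdata basesM 47 29892 = true := relsRange_strict mdata basesM 47 29892 (by decide +kernel)
theorem rel637 : relsRange mdata basesM 47 29939 = true := relsRange_strict mdata basesM 47 29939 (by decide +kernel)
theorem rel638 : relsRange mdata basesM 47 29986 = true := relsRange_strict mdata basesM 47 29986 (by decide +kernel)
theorem rel639 : relsRange mdata basesM 47 30033 = true := relsRange_strict mdata basesM 47 30033 (by decide +kernel)

end Cfsg.Agent.Helper4.TC.SuzKM2
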