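import Cfsg.Agent.Lib.Helper4.TC.SuzKM2Model
import Cfsg.Agent.Lib.Helper4.TC.Strict

set_option autoImplicit false
set_option maxRecDepth 100000
set_option linter.unusedVariables false
set_option Elab.async false

namespace Cfsg.Agent.Helper4.TC.SuzKM2

open Cfsg.Agent.Helper4.TC

theorem rel792 : relsRange mdata basesM 47 37224 = true := relsRange_strict mdata basesM 47 37224 (by decide +kernel)
theorem rel793 : relsRange mdata basesM 47 37271 = true := relsRange_strict mdata basesM 47 37271 (by decide +kernel)
theorem rel794 : relsRange mdata basesM 47 37318 = true := relsRange_strict mdata basesM 47 37318 (by decide +kernel)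
theorem rel795 : relsRange mdata basesM 47 37365 = true := relsRange_strict mdata basesM 47 37365 (by decide +kernel)
theorem rel796 : relsRange mdata basesM 47 37412 = true := relsRange_strict mdata basesM 47 37412 (by decide +kernel)
theorem rel797 : relsRange mdata basesM 47 37459 = true := relsRange_strict mdata basesM 47 37459 (by decide +kernel)
theorem rel798 : relsRange mdata basesM 47 37506 = true := relsRange_strict mdata basesM 47 37506 (by decide +kernel)
theorem rel799 : relsRange mdata basesM 47 37553 = true := relsRange_strict mdata basesM 47 37553 (by decide +kernel)

end Cfsg.Agent.Helper4.TC.SuzKM2
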