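import Cfsg.Agent.Lib.Helper4.TC.SuzKM3Model
import Cfsg.Agent.Lib.Helper4.TC.Strict

set_option autoImplicit false
set_option maxRecDepth 100000
set_option linter.unusedVariables false
set_option Elab.async false

namespace Cfsg.Agent.Helper4.TC.SuzKM3

open Cfsg.Agent.Helper4.TC

theorem rel0 : relsRange mdata basesM 52 0 = true := relsRange_strict mdata basesM 52 0 (by decide +kernel)
theorem rel1 : relsRange mdata basesM 52 52 = true := relsRange_strict mdata basesM 52 52 (by decide +kernel)
theorem rel2 : relsRange mdata basesM 52 104 = true := relsRange_strict mdata basesM 52 104 (by decide +kernel)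
theorem rel3 : relsRange mdata basesM 52 156 = true := relsRange_strict mdata basesM 52 156 (by decide +kernel)
theorem rel4 : relsRange mdata basesM 52 208 = true := relsRange_strict mdata basesM 52 208 (by decide +kernel)
theorem rel5 : relsRange mdata basesM 52 260 = true := relsRange_strict mdata basesM 52 260 (by decide +kernel)
theorem rel6 : relsRange mdata basesM 52 312 = true := relsRange_strict mdata basesM 52 312 (by decide +kernel)
theorem rel7 : relsRange mdata basesM 52 364 = true := relsRange_strict mdata basesM 52 364 (by decide +kernel)

end Cfsg.Agent.Helper4.TC.SuzKM3
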