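import Cfsg.Agent.Lib.Helper4.TC.SuzKEx
import Cfsg.Agent.Lib.Helper23.L34T
import Cfsg.Agent.Lib.Helper17.O73MultUT

set_option autoImplicit false
set_option linter.unusedVariables false

/-! The Schur multiplier of the sporadic Suzuki group is cyclic of order 6. -/

namespace Cfsg.Agent.Helper4.TC.SuzKMain

open Cfsg Cfsg.Agent.Helper4.TC

/-- the group presented on five elements of order 7 -/
theorem hasMult_P : HasSchurMultiplier SuzKIso.P (Multiplicative (ZMod 6)) := by
  obtain ⟨τ, hτ, he⟩ := SuzKEx.exists_stem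
  refine Cfsg.Agent.Lib.Helper7.L34.hasSchurMultiplier_of_card_le
    ⟨SuzKEx.PW, inferInstance, inferInstance, τ, hτ, he⟩ ?_
  intro Γ _ _ σ hσ
  rw [SuzKEx.card_A]
  exact SuzKSchur.card_ker_le σ hσ

theorem main : HasCyclicSchurMultiplier Cfsg.Spor.Suz 6 :=
  Cfsg.Agent.Lib.Helper2.O73Mult.hasSchurMultiplier_of_mulEquiv SuzKIso.iso hasMult_P

end Cfsg.Agent.Helper4.TC.SuzKMain
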