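import Cfsg.Agent.Lib.Helper4.TC.SuzKS5D
import Cfsg.Agent.Lib.Helper4.TC.Strict

set_option autoImplicit false
set_option maxRecDepth 100000
set_option linter.unusedVariables false
set_option Elab.async false

namespace Cfsg.Agent.Helper4.TC.SuzKS5

open Cfsg.Agent.Helper4.TC

theorem e0_c0 : edgeRange data 0 20442 0 = true := edgeRange_strict data 0 20442 0 (by decide +kernel)
theorem e0_c1 : edgeRange data 0 15187 20442 = true := edgeRange_strict data 0 15187 20442 (by decide +kernel)
theorem e0_c2 : edgeRange data 0 15914 35629 = true := edgeRange_strict data 0 15914 35629 (by decide +kernel)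
theorem e0_c3 : edgeRange data 0 16484 51543 = true := edgeRange_strict data 0 16484 51543 (by decide +kernel)
theorem e0_c4 : edgeRange data 0 36358 68027 = true := edgeRange_strict data 0 36358 68027 (by decide +kernel)
theorem e0_c5 : edgeRange data 0 26687 104385 = true := edgeRange_strict data 0 26687 104385 (by decide +kernel)

end Cfsg.Agent.Helper4.TC.SuzKS5
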