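import Cfsg.Agent.Lib.Helper4.TC.SuzKS5D
import Cfsg.Agent.Lib.Helper4.TC.Strict

set_option autoImplicit false
set_option maxRecDepth 100000
set_option linter.unusedVariables false
set_option Elab.async false

namespace Cfsg.Agent.Helper4.TC.SuzKS5

open Cfsg.Agent.Helper4.TC

theorem e1_c0 : edgeRange data 1 20746 0 = true := edgeRange_strict data 1 20746 0 (by decide +kernel)
theorem e1_c1 : edgeRange data 1 15200 20746 = true := edgeRange_strict data 1 15200 20746 (by decide +kernel)
theorem e1_c2 : edgeRange data 1 15705 35946 = true := edgeRange_strict data 1 15705 35946 (by decide +kernel)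
theorem e1_c3 : edgeRange data 1 16831 51651 = true := edgeRange_strict data 1 16831 51651 (by decide +kernel)
theorem e1_c4 : edgeRange data 1 37888 68482 = true := edgeRange_strict data 1 37888 68482 (by decide +kernel)
theorem e1_c5 : edgeRange data 1 24702 106370 = true := edgeRange_strict data 1 24702 106370 (by decide +kernel)

end Cfsg.Agent.Helper4.TC.SuzKS5
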