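import Cfsg.Agent.Lib.Helper4.TC.SuzKS5D
import Cfsg.Agent.Lib.Helper4.TC.Strict

set_option autoImplicit false
set_option maxRecDepth 100000
set_option linter.unusedVariables false
set_option Elab.async false

namespace Cfsg.Agent.Helper4.TC.SuzKS5

open Cfsg.Agent.Helper4.TC

theorem e2_c0 : edgeRange data 2 18274 0 = true := edgeRange_strict data 2 18274 0 (by decide +kernel)
theorem e2_c1 : edgeRange data 2 14596 18274 = true := edgeRange_strict data 2 14596 18274 (by decide +kernel)
theorem e2_c2 : edgeRange data 2 15189 32870 = true := edgeRange_strict data 2 15189 32870 (by decide +kernel)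
theorem e2_c3 : edgeRange data 2 14797 48059 = true := edgeRange_strict data 2 14797 48059 (by decide +kernel)
theorem e2_c4 : edgeRange data 2 24792 62856 = true := edgeRange_strict data 2 24792 62856 (by decide +kernel)
theorem e2_c5 : edgeRange data 2 43424 87648 = true := edgeRange_strict data 2 43424 87648 (by decide +kernel)

end Cfsg.Agent.Helper4.TC.SuzKS5
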