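import Cfsg.Agent.Lib.Helper4.TC.SuzKS5D
import Cfsg.Agent.Lib.Helper4.TC.Strict

set_option autoImplicit false
set_option maxRecDepth 100000
set_option linter.unusedVariables false
set_option Elab.async false

namespace Cfsg.Agent.Helper4.TC.SuzKS5

open Cfsg.Agent.Helper4.TC

theorem e3_c0 : edgeRange data 3 17477 0 = true := edgeRange_strict data 3 17477 0 (by decide +kernel)
theorem e3_c1 : edgeRange data 3 14537 17477 = true := edgeRange_strict data 3 14537 17477 (by decide +kernel)
theorem e3_c2 : edgeRange data 3 14421 32014 = true := edgeRange_strict data 3 14421 32014 (by decide +kernel)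
theorem e3_c3 : edgeRange data 3 15142 46435 = true := edgeRange_strict data 3 15142 46435 (by decide +kernel)
theorem e3_c4 : edgeRange data 3 22374 61577 = true := edgeRange_strict data 3 22374 61577 (by decide +kernel)
theorem e3_c5 : edgeRange data 3 47121 83951 = true := edgeRange_strict data 3 47121 83951 (by decide +kernel)

end Cfsg.Agent.Helper4.TC.SuzKS5
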