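import Cfsg.Agent.Lib.Helper4.TC.SuzKS5D
import Cfsg.Agent.Lib.Helper4.TC.Strict

set_option autoImplicit false
set_option maxRecDepth 100000
set_option linter.unusedVariables false
set_option Elab.async false

namespace Cfsg.Agent.Helper4.TC.SuzKS5

open Cfsg.Agent.Helper4.TC

theorem e5_c0 : edgeRange data 5 19955 0 = true := edgeRange_strict data 5 19955 0 (by decide +kernel)
theorem e5_c1 : edgeRange data 5 15178 19955 = true := edgeRange_strict data 5 15178 19955 (by decide +kernel)
theorem e5_c2 : edgeRange data 5 15901 35133 = true := edgeRange_strict data 5 15901 35133 (by decide +kernel)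
theorem e5_c3 : edgeRange data 5 16717 51034 = true := edgeRange_strict data 5 16717 51034 (by decide +kernel)
theorem e5_c4 : edgeRange data 5 36657 67751 = true := edgeRange_strict data 5 36657 67751 (by decide +kernel)
theorem e5_c5 : edgeRange data 5 26664 104408 = true := edgeRange_strict data 5 26664 104408 (by decide +kernel)

end Cfsg.Agent.Helper4.TC.SuzKS5
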