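import Cfsg.Agent.Lib.Helper4.TC.SuzKS5D
import Cfsg.Agent.Lib.Helper4.TC.Strict

set_option autoImplicit false
set_option maxRecDepth 100000
set_option linter.unusedVariables false
set_option Elab.async false

namespace Cfsg.Agent.Helper4.TC.SuzKS5

open Cfsg.Agent.Helper4.TC

theorem e6_c0 : edgeRange data 6 21829 0 = true := edgeRange_strict data 6 21829 0 (by decide +kernel)
theorem e6_c1 : edgeRange data 6 16251 21829 = true := edgeRange_strict data 6 16251 21829 (by decide +kernel)
theorem e6_c2 : edgeRange data 6 17420 38080 = true := edgeRange_strict data 6 17420 38080 (by decide +kernel)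
theorem e6_c3 : edgeRange data 6 18244 55500 = true := edgeRange_strict data 6 18244 55500 (by decide +kernel)
theorem e6_c4 : edgeRange data 6 47417 73744 = true := edgeRange_strict data 6 47417 73744 (by decide +kernel)
theorem e6_c5 : edgeRange data 6 9911 121161 = true := edgeRange_strict data 6 9911 121161 (by decide +kernel)

end Cfsg.Agent.Helper4.TC.SuzKS5
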