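import Cfsg.Agent.Lib.Helper4.TC.SuzKS5D
import Cfsg.Agent.Lib.Helper4.TC.Strict

set_option autoImplicit false
set_option maxRecDepth 100000
set_option linter.unusedVariables false
set_option Elab.async false

namespace Cfsg.Agent.Helper4.TC.SuzKS5

open Cfsg.Agent.Helper4.TC

theorem cnt0 : countFinal data 50000 0 0 = 4987 := countFinal_strict data 50000 0 0 4987 (by decide +kernel)
theorem cnt1 : countFinal data 24870 50000 0 = 359 := countFinal_strict data 24870 50000 0 359 (by decide +kernel)
theorem rows0 : rowsRange data 74870 5691 0 = true := rowsRange_strict data 74870 5691 0 (by decide +kernel)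
theorem rows1 : rowsRange data 74870 10436 5691 = true := rowsRange_strict data 74870 10436 5691 (by decide +kernel)
theorem rows2 : rowsRange data 74870 12620 16127 = true := rowsRange_strict data 74870 12620 16127 (by decide +kernel)
theorem rows3 : rowsRange data 74870 21560 28747 = true := rowsRange_strict data 74870 21560 28747 (by decide +kernel)
theorem rows4 : rowsRange data 74870 24563 50307 = true := rowsRange_strict data 74870 24563 50307 (by decide +kernel)

end Cfsg.Agent.Helper4.TC.SuzKS5
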