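import Cfsg.Agent.Lib.Helper4.TC.SuzKS5D
import Cfsg.Agent.Lib.Helper4.TC.Strict

set_option autoImplicit false
set_option maxRecDepth 100000
set_option linter.unusedVariables false
set_option Elab.async false

namespace Cfsg.Agent.Helper4.TC.SuzKS5

open Cfsg.Agent.Helper4.TC

theorem m_c0 : mergeRange data 20160 0 = true := mergeRange_strict data 20160 0 (by decide +kernel)
theorem m_c1 : mergeRange data 10229 20160 = true := mergeRange_strict data 10229 20160 (by decide +kernel)
theorem m_c2 : mergeRange data 7868 30389 = true := mergeRange_strict data 7868 30389 (by decide +kernel)
theorem m_c3 : mergeRange data 6338 38257 = true := mergeRange_strict data 6338 38257 (by decide +kernel)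
theorem m_c4 : mergeRange data 6311 44595 = true := mergeRange_strict data 6311 44595 (by decide +kernel)
theorem m_c5 : mergeRange data 5747 50906 = true := mergeRange_strict data 5747 50906 (by decide +kernel)
theorem m_c6 : mergeRange data 5962 56653 = true := mergeRange_strict data 5962 56653 (by decide +kernel)
theorem m_c7 : mergeRange data 5444 62615 = true := mergeRange_strict data 5444 62615 (by decide +kernel)
theorem m_c8 : mergeRange data 5429 68059 = true := mergeRange_strict data 5429 68059 (by decide +kernel)
theorem m_c9 : mergeRange data 40253 73488 = true := mergeRange_strict data 40253 73488 (by decide +kernel)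
theorem m_c10 : mergeRange data 17331 113741 = true := mergeRange_strict data 17331 113741 (by decide +kernel)

end Cfsg.Agent.Helper4.TC.SuzKS5
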