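import Cfsg.Agent.Lib.Helper4.TC.Perm
import Cfsg.Agent.Lib.Helper4.TC.SuzKCod
import Cfsg.Agent.Lib.Helper4.TC.SuzKS5Fin
import Cfsg.Agent.Lib.Helper4.TC.SuzKS5CM
import Cfsg.Agent.Lib.Helper4.TC.SuzKS5CE0
import Cfsg.Agent.Lib.Helper4.TC.SuzKS5CE1
import Cfsg.Agent.Lib.Helper4.TC.SuzKS5CE2
import Cfsg.Agent.Lib.Helper4.TC.SuzKS5CE3
import Cfsg.Agent.Lib.Helper4.TC.SuzKS5CE4
import Cfsg.Agent.Lib.Helper4.TC.SuzKS5CE5
import Cfsg.Agent.Lib.Helper4.TC.SuzKS5CE6
import Cfsg.Agent.Lib.Helper4.TC.SuzKS5CE7
import Cfsg.Agent.Lib.Helper4.TC.SuzKS5CE8
import Cfsg.Agent.Lib.Helper4.TC.SuzKS5CE9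
import Cfsg.Agent.Lib.Helper4.TC.SuzKS5CF0

set_option autoImplicit false
set_option maxRecDepth 100000
set_option linter.unusedVariables false

namespace Cfsg.Agent.Helper4.TC.SuzKS5

open Cfsg.Agent.Helper4.TC

theorem allE0 : ∀ k, k < 131072 → justE data 0 k = true := by
  intro k hk
  by_cases hh1 : k < 51543
  · skip
    by_cases hh2 : k < 20442
    · skip
      exact edgeRange_sound data 0 20442 0 e0_c0 k (by omega) (by omega)
    · skip
      by_cases hh3 : k < 35629
      · skip
        exact edgeRange_sound data 0 15187 20442 e0_c1 k (by omega) (by omega)
      · skip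
        exact edgeRange_sound data 0 15914 35629 e0_c2 k (by omega) (by omega)
  · skip
    by_cases hh4 : k < 68027
    · skip
      exact edgeRange_sound data 0 16484 51543 e0_c3 k (by omega) (by omega)
    · skip
      by_cases hh5 : k < 104385
      · skip
        exact edgeRange_sound data 0 36358 68027 e0_c4 k (by omega) (by omega)
      · skip
        exact edgeRange_sound data 0 26687 104385 e0_c5 k (by omega) (by omega)

theorem allE1 : ∀ k, k < 131072 → justE data 1 k = true := by
  intro k hk
  by_cases hh1 : k < 51651
  · skip
    by_cases hh2 : k < 20746
    · skip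
      exact edgeRange_sound data 1 20746 0 e1_c0 k (by omega) (by omega)
    · skip
      by_cases hh3 : k < 35946
      · skip
        exact edgeRange_sound data 1 15200 20746 e1_c1 k (by omega) (by omega)
      · skip
        exact edgeRange_sound data 1 15705 35946 e1_c2 k (by omega) (by omega)
  · skip
    by_cases hh4 : k < 68482
    · skip
      exact edgeRange_sound data 1 16831 51651 e1_c3 k (by omega) (by omega)
    · skip
      by_cases hh5 : k < 106370
      · skip
        exact edgeRange_sound data 1 37888 68482 e1_c4 k (by omega) (by omega)
      · skip
        exact edgeRange_sound data 1 24702 106370 e1_c5 k (by omega) (by omega)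

theorem allE2 : ∀ k, k < 131072 → justE data 2 k = true := by
  intro k hk
  by_cases hh1 : k < 48059
  · skip
    by_cases hh2 : k < 18274
    · skip
      exact edgeRange_sound data 2 18274 0 e2_c0 k (by omega) (by omega)
    · skip
      by_cases hh3 : k < 32870
      · skip
        exact edgeRange_sound data 2 14596 18274 e2_c1 k (by omega) (by omega)
      · skip
        exact edgeRange_sound data 2 15189 32870 e2_c2 k (by omega) (by omega)
  · skip
    by_cases hh4 : k < 62856
    · skip
      exact edgeRange_sound data 2 14797 48059 e2_c3 k (by omega) (by omega)
    · skip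
      by_cases hh5 : k < 87648
      · skip
        exact edgeRange_sound data 2 24792 62856 e2_c4 k (by omega) (by omega)
      · skip
        exact edgeRange_sound data 2 43424 87648 e2_c5 k (by omega) (by omega)

theorem allE3 : ∀ k, k < 131072 → justE data 3 k = true := by
  intro k hk
  by_cases hh1 : k < 46435
  · skip
    by_cases hh2 : k < 17477
    · skip
      exact edgeRange_sound data 3 17477 0 e3_c0 k (by omega) (by omega)
    · skip
      by_cases hh3 : k < 32014
      · skip
        exact edgeRange_sound data 3 14537 17477 e3_c1 k (by omega) (by omega)
      · skip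
        exact edgeRange_sound data 3 14421 32014 e3_c2 k (by omega) (by omega)
  · skip
    by_cases hh4 : k < 61577
    · skip
      exact edgeRange_sound data 3 15142 46435 e3_c3 k (by omega) (by omega)
    · skip
      by_cases hh5 : k < 83951
      · skip
        exact edgeRange_sound data 3 22374 61577 e3_c4 k (by omega) (by omega)
      · skip
        exact edgeRange_sound data 3 47121 83951 e3_c5 k (by omega) (by omega)

theorem allE4 : ∀ k, k < 131072 → justE data 4 k = true := by
  intro k hk
  by_cases hh1 : k < 49804
  · skip
    by_cases hh2 : k < 19238
    · skip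
      exact edgeRange_sound data 4 19238 0 e4_c0 k (by omega) (by omega)
    · skip
      by_cases hh3 : k < 34442
      · skip
        exact edgeRange_sound data 4 15204 19238 e4_c1 k (by omega) (by omega)
      · skip
        exact edgeRange_sound data 4 15362 34442 e4_c2 k (by omega) (by omega)
  · skip
    by_cases hh4 : k < 66228
    · skip
      exact edgeRange_sound data 4 16424 49804 e4_c3 k (by omega) (by omega)
    · skip
      by_cases hh5 : k < 98444
      · skip
        exact edgeRange_sound data 4 32216 66228 e4_c4 k (by omega) (by omega)
      · skip
        exact edgeRange_sound data 4 32628 98444 e4_c5 k (by omega) (by omega)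

theorem allE5 : ∀ k, k < 131072 → justE data 5 k = true := by
  intro k hk
  by_cases hh1 : k < 51034
  · skip
    by_cases hh2 : k < 19955
    · skip
      exact edgeRange_sound data 5 19955 0 e5_c0 k (by omega) (by omega)
    · skip
      by_cases hh3 : k < 35133
      · skip
        exact edgeRange_sound data 5 15178 19955 e5_c1 k (by omega) (by omega)
      · skip
        exact edgeRange_sound data 5 15901 35133 e5_c2 k (by omega) (by omega)
  · skip
    by_cases hh4 : k < 67751
    · skip
      exact edgeRange_sound data 5 16717 51034 e5_c3 k (by omega) (by omega)
    · skip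
      by_cases hh5 : k < 104408
      · skip
        exact edgeRange_sound data 5 36657 67751 e5_c4 k (by omega) (by omega)
      · skip
        exact edgeRange_sound data 5 26664 104408 e5_c5 k (by omega) (by omega)

theorem allE6 : ∀ k, k < 131072 → justE data 6 k = true := by
  intro k hk
  by_cases hh1 : k < 55500
  · skip
    by_cases hh2 : k < 21829
    · skip
      exact edgeRange_sound data 6 21829 0 e6_c0 k (by omega) (by omega)
    · skip
      by_cases hh3 : k < 38080
      · skip
        exact edgeRange_sound data 6 16251 21829 e6_c1 k (by omega) (by omega)
      · skip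
        exact edgeRange_sound data 6 17420 38080 e6_c2 k (by omega) (by omega)
  · skip
    by_cases hh4 : k < 73744
    · skip
      exact edgeRange_sound data 6 18244 55500 e6_c3 k (by omega) (by omega)
    · skip
      by_cases hh5 : k < 121161
      · skip
        exact edgeRange_sound data 6 47417 73744 e6_c4 k (by omega) (by omega)
      · skip
        exact edgeRange_sound data 6 9911 121161 e6_c5 k (by omega) (by omega)

theorem allE7 : ∀ k, k < 131072 → justE data 7 k = true := by
  intro k hk
  by_cases hh1 : k < 56233
  · skip
    by_cases hh2 : k < 21768
    · skip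
      exact edgeRange_sound data 7 21768 0 e7_c0 k (by omega) (by omega)
    · skip
      by_cases hh3 : k < 38278
      · skip
        exact edgeRange_sound data 7 16510 21768 e7_c1 k (by omega) (by omega)
      · skip
        exact edgeRange_sound data 7 17955 38278 e7_c2 k (by omega) (by omega)
  · skip
    by_cases hh4 : k < 74819
    · skip
      exact edgeRange_sound data 7 18586 56233 e7_c3 k (by omega) (by omega)
    · skip
      by_cases hh5 : k < 124405
      · skip
        exact edgeRange_sound data 7 49586 74819 e7_c4 k (by omega) (by omega)
      · skip
        exact edgeRange_sound data 7 6667 124405 e7_c5 k (by omega) (by omega)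

theorem allE8 : ∀ k, k < 131072 → justE data 8 k = true := by
  intro k hk
  by_cases hh1 : k < 43789
  · skip
    by_cases hh2 : k < 24223
    · skip
      exact edgeRange_sound data 8 24223 0 e8_c0 k (by omega) (by omega)
    · skip
      exact edgeRange_sound data 8 19566 24223 e8_c1 k (by omega) (by omega)
  · skip
    by_cases hh3 : k < 65885
    · skip
      exact edgeRange_sound data 8 22096 43789 e8_c2 k (by omega) (by omega)
    · skip
      by_cases hh4 : k < 105122
      · skip
        exact edgeRange_sound data 8 39237 65885 e8_c3 k (by omega) (by omega)
      · skip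
        exact edgeRange_sound data 8 25950 105122 e8_c4 k (by omega) (by omega)

theorem allE9 : ∀ k, k < 131072 → justE data 9 k = true := by
  intro k hk
  by_cases hh1 : k < 44014
  · skip
    by_cases hh2 : k < 24242
    · skip
      exact edgeRange_sound data 9 24242 0 e9_c0 k (by omega) (by omega)
    · skip
      exact edgeRange_sound data 9 19772 24242 e9_c1 k (by omega) (by omega)
  · skip
    by_cases hh3 : k < 66089
    · skip
      exact edgeRange_sound data 9 22075 44014 e9_c2 k (by omega) (by omega)
    · skip
      by_cases hh4 : k < 105553
      · skip
        exact edgeRange_sound data 9 39464 66089 e9_c3 k (by omega) (by omega)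
      · skip
        exact edgeRange_sound data 9 25519 105553 e9_c4 k (by omega) (by omega)

theorem allE : ∀ c k, c < data.nc → k ≤ data.mask → justE data c k = true := by
  intro c k hc hk
  have hc' : c < 10 := hc
  have hk' : k < 131072 := Nat.lt_succ_of_le hk
  interval_cases c
  · exact allE0 k hk'
  · exact allE1 k hk'
  · exact allE2 k hk'
  · exact allE3 k hk'
  · exact allE4 k hk'
  · exact allE5 k hk'
  · exact allE6 k hk'
  · exact allE7 k hk'
  · exact allE8 k hk'
  · exact allE9 k hk'

theorem allM : ∀ k, k ≤ data.mask → justM data k = true := by
  intro k hk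
  have hk' : k < 131072 := Nat.lt_succ_of_le hk
  by_cases hh1 : k < 50906
  · skip
    by_cases hh2 : k < 30389
    · skip
      by_cases hh3 : k < 20160
      · skip
        exact mergeRange_sound data 20160 0 m_c0 k (by omega) (by omega)
      · skip
        exact mergeRange_sound data 10229 20160 m_c1 k (by omega) (by omega)
    · skip
      by_cases hh4 : k < 38257
      · skip
        exact mergeRange_sound data 7868 30389 m_c2 k (by omega) (by omega)
      · skip
        by_cases hh5 : k < 44595
        · skip
          exact mergeRange_sound data 6338 38257 m_c3 k (by omega) (by omega)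
        · skip
          exact mergeRange_sound data 6311 44595 m_c4 k (by omega) (by omega)
  · skip
    by_cases hh6 : k < 68059
    · skip
      by_cases hh7 : k < 56653
      · skip
        exact mergeRange_sound data 5747 50906 m_c5 k (by omega) (by omega)
      · skip
        by_cases hh8 : k < 62615
        · skip
          exact mergeRange_sound data 5962 56653 m_c6 k (by omega) (by omega)
        · skip
          exact mergeRange_sound data 5444 62615 m_c7 k (by omega) (by omega)
    · skip
      by_cases hh9 : k < 73488
      · skip
        exact mergeRange_sound data 5429 68059 m_c8 k (by omega) (by omega)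
      · skip
        by_cases hh10 : k < 113741
        · skip
          exact mergeRange_sound data 40253 73488 m_c9 k (by omega) (by omega)
        · skip
          exact mergeRange_sound data 17331 113741 m_c10 k (by omega) (by omega)

theorem rows_all : ∀ k, k < M → isFinal data k = true → rowOK data M k data.nc = true := by
  intro k hk
  have hk' : k < 74870 := hk
  by_cases hh1 : k < 16127
  · skip
    by_cases hh2 : k < 5691
    · skip
      exact rowsRange_sound data M 5691 0 rows0 k (by omega) (by omega)
    · skip
      exact rowsRange_sound data M 10436 5691 rows1 k (by omega) (by omega)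
  · skip
    by_cases hh3 : k < 28747
    · skip
      exact rowsRange_sound data M 12620 16127 rows2 k (by omega) (by omega)
    · skip
      by_cases hh4 : k < 50307
      · skip
        exact rowsRange_sound data M 21560 28747 rows3 k (by omega) (by omega)
      · skip
        exact rowsRange_sound data M 24563 50307 rows4 k (by omega) (by omega)

theorem cnt_ok : countFinal data M 0 0 = n := by
  have c0 : countFinal data 50000 0 0 = 4987 := cnt0
  have c1 : countFinal data (50000 + 24870) 0 0 = 4987 + 359 :=
    countFinal_split data (50000) 24870 0 50000 (4987) 359 (by norm_num) c0 cnt1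
  have e1 : 50000 + 24870 = M := by norm_num [M]
  have e2 : 4987 + 359 = n := by norm_num [n]
  rw [← e1, ← e2]
  exact c1

/-- the index of the subgroup generated by `subsL` in the group with relators `bases` -/
theorem bound : Finite (PresentedGroup (relSet SuzKCod.dec bases) ⧸ (Subgroup.closure (relSet SuzKCod.dec subsL)).map (PresentedGroup.mk (relSet SuzKCod.dec bases))) ∧
    Nat.card (PresentedGroup (relSet SuzKCod.dec bases) ⧸ (Subgroup.closure (relSet SuzKCod.dec subsL)).map (PresentedGroup.mk (relSet SuzKCod.dec bases))) ≤ n :=
  tc_bound data bases subsL rots SuzKCod.coding (mem_relSet bases) (mem_relSet subsL) words_ok allE allM M n fin0_ok (by decide) (by decide) cnt_ok rows_all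

end Cfsg.Agent.Helper4.TC.SuzKS5
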