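import Cfsg.Agent.Lib.Helper4.TC.SuzKS5D
import Cfsg.Agent.Lib.Helper4.TC.Strict

set_option autoImplicit false
set_option maxRecDepth 100000
set_option linter.unusedVariables false
set_option Elab.async false

namespace Cfsg.Agent.Helper4.TC.SuzKS5

open Cfsg.Agent.Helper4.TC

theorem e9_c0 : edgeRange data 9 24242 0 = true := edgeRange_strict data 9 24242 0 (by decide +kernel)
theorem e9_c1 : edgeRange data 9 19772 24242 = true := edgeRange_strict data 9 19772 24242 (by decide +kernel)
theorem e9_c2 : edgeRange data 9 22075 44014 = true := edgeRange_strict data 9 22075 44014 (by decide +kernel)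
theorem e9_c3 : edgeRange data 9 39464 66089 = true := edgeRange_strict data 9 39464 66089 (by decide +kernel)
theorem e9_c4 : edgeRange data 9 25519 105553 = true := edgeRange_strict data 9 25519 105553 (by decide +kernel)

end Cfsg.Agent.Helper4.TC.SuzKS5
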