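import Cfsg.Agent.Lib.Helper4.TC.SuzKS5B
import Cfsg.Agent.Lib.Helper4.TC.G2KSD
import Cfsg.Agent.Lib.Helper4.TC.Schur3
import Cfsg.Agent.Lib.Helper4.TC.SuzSMain

set_option autoImplicit false
set_option maxRecDepth 100000
set_option linter.unusedVariables false

namespace Cfsg.Agent.Helper4.TC.SuzKSD

open Cfsg.Agent.Helper4.TC

/-- the relators which hold exactly for the lifts: products of two conjugates of powers of generators -/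
def exD : List (List ℕ × ℕ × ℕ × List ℕ × ℕ × ℕ) := [([2, 0, 3, 3, 0, 2, 0, 3], 0, 1, [], 1, 2),
  ([1, 1, 2, 2, 1, 2, 2, 0, 0, 3], 0, 1, [], 2, 1),
  ([3, 3, 5, 5, 0, 2], 4, 1, [], 1, 2),
  ([4, 2, 7, 5, 2, 5, 5, 3], 6, 1, [], 3, 2),
  ([3, 5, 9, 9, 5, 5, 9, 2], 4, 1, [], 9, 1),
  ([], 4, 1, [8, 4, 8], 5, 1),
  ([], 4, 2, [8, 4, 8], 5, 2),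
  ([4, 8, 4], 8, 2, [], 9, 2)]
def pwL : List (List ℕ) := [[0, 0, 0, 0, 0, 0, 0],
  [2, 2, 2, 2, 2, 2, 2],
  [4, 4, 4, 4, 4, 4, 4],
  [6, 6, 6, 6, 6, 6, 6],
  [8, 8, 8, 8, 8, 8, 8]]
def exL : List (List ℕ) := pwL ++ exD.map Schur.pairW
def ceL : List (List ℕ) := [[0, 2, 0, 2, 0, 2],
  [0, 0, 2, 2, 0, 0, 2, 2],
  [0, 3, 0, 3, 0, 3, 0, 3],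
  [0, 0, 2, 1, 3, 1, 3, 0, 2, 2],
  [0, 0, 2, 2, 0, 3, 1, 3, 1, 2],
  [0, 0, 0, 0, 0, 0, 3, 1, 3, 1, 3],
  [0, 0, 0, 0, 0, 3, 3, 1, 1, 3, 3],
  [0, 0, 2, 2, 0, 0, 3, 3, 3, 3, 3],
  [0, 2, 0, 2, 0, 3, 3, 3, 3, 3, 3],
  [0, 0, 2, 0, 2, 0, 0, 3, 0, 3, 0, 3],
  [0, 0, 2, 1, 3, 0, 2, 2, 0, 3, 1, 2],
  [0, 2, 0, 2, 1, 3, 0, 2, 0, 2, 1, 3],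
  [0, 2, 0, 2, 2, 1, 2, 1, 2, 1, 2, 2],
  [0, 2, 0, 3, 1, 2, 0, 2, 0, 3, 1, 2],
  [0, 2, 1, 3, 0, 2, 1, 3, 0, 2, 1, 3],
  [0, 0, 0, 0, 0, 0, 2, 1, 2, 1, 2, 1, 2],
  [0, 0, 0, 0, 0, 3, 0, 2, 0, 2, 1, 3, 3],
  [0, 0, 0, 0, 0, 3, 3, 1, 2, 0, 2, 0, 3],
  [0, 0, 0, 2, 1, 2, 0, 0, 3, 0, 2, 1, 3],
  [0, 0, 0, 3, 1, 2, 0, 3, 0, 0, 2, 1, 2],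
  [0, 0, 2, 1, 3, 1, 3, 0, 3, 3, 3, 3, 3],
  [0, 0, 3, 3, 3, 3, 3, 0, 3, 1, 3, 1, 2],
  [0, 2, 1, 2, 2, 0, 3, 0, 2, 2, 2, 1, 3],
  [0, 2, 1, 3, 0, 3, 3, 1, 2, 1, 3, 3, 3],
  [0, 2, 2, 2, 2, 2, 2, 0, 3, 0, 3, 0, 3],
  [0, 4, 3, 0, 4, 3],
  [0, 5, 0, 5, 0, 5],
  [0, 3, 0, 5, 2, 5, 2, 5],
  [0, 0, 2, 0, 5, 0, 3, 3, 1, 5],
  [0, 0, 2, 4, 1, 4, 3, 3, 1, 5],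
  [0, 0, 3, 0, 3, 4, 1, 2, 4, 3],
  [0, 0, 3, 0, 5, 2, 5, 0, 4, 3],
  [0, 0, 4, 3, 0, 4, 0, 2, 0, 2],
  [0, 0, 5, 0, 3, 4, 3, 4, 4, 3],
  [0, 0, 5, 2, 1, 2, 5, 2, 4, 3],
  [0, 0, 5, 2, 4, 3, 0, 2, 4, 3],
  [0, 2, 0, 2, 2, 5, 1, 2, 5, 2],
  [0, 2, 1, 2, 1, 4, 1, 2, 4, 3],
  [0, 2, 1, 2, 5, 0, 5, 2, 4, 3],
  [0, 2, 1, 4, 0, 2, 2, 1, 4, 2],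
  [0, 2, 5, 0, 3, 0, 5, 0, 4, 3],
  [0, 2, 5, 0, 3, 4, 1, 4, 4, 3],
  [0, 2, 5, 2, 5, 2, 1, 2, 4, 3],
  [0, 3, 0, 3, 0, 5, 1, 2, 5, 3],
  [0, 3, 0, 3, 4, 1, 2, 1, 2, 5],
  [0, 3, 0, 3, 4, 3, 0, 3, 0, 5],
  [0, 3, 0, 3, 4, 3, 4, 3, 4, 3],
  [0, 3, 4, 1, 4, 1, 2, 5, 2, 5],
  [0, 3, 4, 3, 4, 1, 2, 5, 0, 5],
  [0, 3, 5, 0, 4, 0, 3, 5, 0, 4],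
  [0, 5, 6, 1, 6, 3, 4, 3],
  [0, 3, 4, 1, 2, 5, 0, 7, 0, 7],
  [0, 5, 2, 7, 4, 7, 2, 6, 5, 6],
  [0, 5, 0, 5, 0, 7, 7, 4, 7, 7],
  [0, 3, 7, 4, 7, 7, 0, 7, 2, 5],
  [0, 3, 4, 1, 6, 1, 6, 5],
  [0, 0, 3, 4, 7, 0, 7, 2, 4, 3],
  [0, 5, 2, 7, 4, 3, 4, 7],
  [0, 3, 0, 3, 7, 4, 7, 3, 0, 5],
  [0, 5, 6, 3, 7, 4, 7, 1, 4, 7],
  [0, 3, 0, 3, 4, 1, 2, 6, 5, 6],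
  [0, 3, 0, 3, 6, 1, 2, 1, 6, 3],
  [0, 3, 4, 7, 0, 7, 2, 1, 2, 5],
  [0, 2, 1, 4, 7, 2, 1, 6, 4, 3],
  [0, 4, 7, 2, 7, 0, 4, 7, 2, 7],
  [2, 6, 6, 6, 6, 6, 6, 2, 7],
  [0, 5, 0, 7, 0, 5, 0, 7],
  [0, 3, 0, 3, 6, 5, 6, 3, 0, 5],
  [4, 7, 7, 4, 7, 7],
  [0, 2, 6, 5, 6, 0, 5, 2, 4, 3],
  [0, 3, 0, 3, 0, 5, 6, 5, 6, 3],
  [0, 3, 4, 3, 4, 3, 6, 5, 6, 3],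
  [2, 7, 2, 7],
  [0, 3, 6, 1, 4, 3, 0, 5, 0, 7],
  [0, 5, 2, 6, 5, 6, 2, 6, 5, 6],
  [0, 0, 3, 6, 5, 0, 7, 0, 4, 3],
  [0, 0, 2, 2, 0, 0, 2, 6, 3, 6],
  [0, 3, 4, 3, 0, 7, 0, 3, 6, 5],
  [0, 5, 0, 7, 4, 1, 4, 7],
  [0, 0, 5, 6, 3, 4, 7, 2, 4, 3],
  [0, 4, 3, 0, 6, 1, 4, 7, 0, 5],
  [0, 7, 4, 7, 4, 3],
  [0, 3, 4, 7, 2, 1, 6, 3, 0, 5],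
  [0, 5, 0, 7, 4, 1, 6, 6, 5, 6],
  [0, 3, 0, 7, 0, 5, 7, 4, 7, 7],
  [0, 6, 5, 6, 4, 3],
  [0, 5, 0, 6, 5, 6, 6, 1, 4, 7],
  [4, 4, 6, 4, 4, 6, 4, 4, 6],
  [0, 2, 7, 4, 7, 0, 5, 2, 4, 3],
  [0, 3, 4, 7, 0, 7, 2, 6, 5, 6],
  [0, 3, 3, 4, 7, 0, 6, 3, 0, 3, 4, 0, 7],
  [0, 0, 2, 6, 3, 1, 3, 3, 6, 0, 2, 6, 3],
  [0, 5, 2, 6, 5, 7, 7, 7, 7, 7, 3, 4, 7],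
  [0, 2, 5, 2, 1, 6, 0, 7, 0, 3, 3, 4, 7],
  [0, 7, 4, 6, 5, 7, 5, 6, 6, 5, 7, 7, 3],
  [0, 3, 0, 7, 0, 6, 6, 6, 6, 6, 4, 7, 5],
  [0, 3, 4, 1, 6, 1, 7, 4, 6, 6, 6, 6, 6],
  [0, 0, 3, 3, 3, 3, 3, 0, 0, 6, 3, 6, 2],
  [0, 2, 0, 2, 2, 4, 4, 4, 4, 4, 6, 1, 6],
  [0, 7, 5, 7, 5, 5, 7, 5, 5, 7, 7, 4, 3],
  [0, 4, 2, 2, 2, 6, 3, 6, 2, 2, 0, 4, 3],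
  [4, 4, 6, 4, 4, 6, 6, 6, 5, 6, 6, 4, 6],
  [0, 5, 2, 5, 6, 1, 7, 7, 7, 7, 7, 5, 6],
  [0, 2, 6, 5, 1, 7, 2, 5, 5, 7, 7, 5, 7],
  [0, 0, 6, 5, 1, 3, 7, 1, 3, 7, 4, 2, 2],
  [0, 7, 4, 6, 4, 4, 4, 4, 4, 4, 6, 2, 7],
  [0, 0, 0, 0, 0, 0, 2, 7, 1, 2, 5, 5, 6],
  [0, 2, 4, 7, 2, 0, 2, 6, 1, 4, 0, 2, 6],
  [0, 5, 6, 5, 0, 7, 1, 2, 4, 4, 4, 4, 4],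
  [0, 6, 6, 6, 6, 6, 6, 2, 5, 0, 7, 2, 5],
  [0, 3, 4, 1, 6, 1, 7, 7, 7, 7, 7, 7, 5],
  [0, 3, 6, 3, 4, 7, 5, 5, 5, 5, 5, 5, 3],
  [0, 0, 0, 0, 0, 0, 6, 5, 2, 1, 6, 5, 2],
  [0, 0, 2, 2, 7, 1, 3, 7, 2, 0, 2, 6, 3],
  [0, 3, 5, 5, 5, 5, 5, 5, 1, 6, 1, 6, 5],
  [0, 4, 7, 2, 2, 0, 6, 2, 0, 6, 1, 4, 2],
  [0, 6, 3, 0, 7, 7, 5, 5, 7, 5, 5, 7, 3],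
  [0, 0, 7, 0, 3, 3, 4, 3, 6, 5, 3, 4, 7],
  [0, 0, 0, 0, 0, 2, 5, 5, 2, 1, 6, 1, 6],
  [0, 5, 0, 7, 4, 1, 7, 7, 7, 7, 7, 5, 6],
  [0, 2, 0, 2, 0, 3, 3, 3, 7, 2, 7, 3, 3],
  [0, 4, 6, 4, 4, 6, 4, 4, 6, 0, 5, 0, 5],
  [0, 4, 4, 4, 4, 4, 4, 6, 1, 4, 1, 6, 5],
  [0, 3, 3, 4, 3, 6, 5, 1, 6, 5, 2, 0, 7],
  [0, 2, 5, 0, 2, 7, 3, 3, 6, 1, 2, 0, 6],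
  [0, 3, 3, 4, 3, 6, 5, 5, 6, 3, 4, 0, 7],
  [0, 5, 6, 5, 0, 5, 7, 4, 6, 6, 6, 6, 6],
  [0, 3, 7, 7, 7, 7, 7, 7, 5, 0, 7, 2, 5],
  [0, 0, 2, 6, 0, 2, 0, 3, 6, 0, 2, 2, 7],
  [0, 0, 7, 0, 3, 5, 2, 1, 2, 7, 3, 4, 7],
  [0, 0, 5, 6, 2, 0, 6, 2, 0, 4, 7, 2, 2],
  [0, 3, 4, 4, 4, 0, 4, 6, 5, 2, 7, 3, 3],
  [0, 3, 0, 7, 0, 7, 1, 2, 4, 4, 4, 4, 4],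
  [0, 6, 2, 4, 4, 3, 7, 4, 2, 7, 1, 3, 7],
  [0, 2, 2, 2, 2, 2, 2, 4, 1, 6, 1, 6, 5],
  [0, 6, 1, 6, 4, 2, 2, 2, 2, 4, 3, 4, 2],
  [0, 0, 0, 0, 0, 0, 3, 1, 7, 2, 7, 1, 3],
  [0, 2, 7, 5, 6, 2, 5, 5, 3, 7, 1, 6, 2],
  [0, 0, 4, 0, 5, 2, 4, 4, 2, 7, 0, 7, 2],
  [0, 6, 5, 5, 3, 0, 6, 5, 5, 5, 7, 5, 3],
  [0, 2, 2, 2, 2, 2, 2, 6, 5, 0, 7, 2, 5],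
  [0, 7, 4, 4, 4, 6, 4, 4, 6, 4, 4, 4, 3],
  [0, 3, 7, 7, 7, 7, 7, 7, 3, 4, 7, 4, 3],
  [0, 0, 2, 2, 7, 1, 3, 7, 1, 3, 1, 2, 7],
  [0, 2, 1, 6, 1, 3, 4, 3, 6, 5, 3, 4, 7],
  [0, 3, 4, 1, 6, 1, 6, 4, 4, 4, 4, 4, 4],
  [0, 4, 4, 4, 4, 4, 4, 0, 7, 0, 5, 0, 7],
  [0, 4, 2, 2, 2, 2, 2, 2, 0, 4, 7, 2, 7],
  [0, 5, 0, 6, 6, 6, 6, 6, 6, 0, 5, 0, 7],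
  [0, 2, 1, 6, 1, 5, 2, 1, 2, 7, 3, 4, 7],
  [0, 0, 0, 0, 0, 0, 6, 5, 0, 3, 4, 1, 6],
  [4, 4, 4, 6, 4, 4, 6, 4, 4, 7, 4, 7, 7],
  [0, 3, 6, 5, 0, 7, 3, 3, 3, 3, 3, 3, 5],
  [0, 3, 3, 4, 6, 0, 4, 1, 3, 4, 7, 7, 3],
  [0, 0, 0, 0, 0, 2, 5, 3, 7, 4, 7, 3, 4],
  [0, 0, 2, 2, 6, 3, 3, 1, 3, 6, 2, 0, 6],
  [0, 3, 3, 4, 7, 0, 4, 3, 6, 5, 2, 0, 7],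
  [0, 5, 6, 3, 4, 3, 5, 5, 5, 5, 5, 5, 7],
  [0, 2, 1, 6, 1, 3, 4, 7, 2, 5, 3, 4, 7],
  [0, 3, 0, 7, 0, 5, 7, 7, 7, 7, 7, 7, 5],
  [0, 0, 0, 0, 0, 0, 2, 7, 7, 4, 7, 5, 6],
  [0, 2, 7, 0, 7, 7, 5, 5, 7, 5, 5, 7, 3],
  [0, 0, 0, 0, 0, 0, 4, 3, 6, 1, 4, 7, 2],
  [0, 0, 7, 0, 3, 5, 2, 1, 6, 3, 3, 4, 7],
  [0, 3, 4, 7, 0, 3, 7, 7, 7, 7, 7, 5, 6],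
  [0, 3, 4, 4, 4, 0, 4, 6, 5, 6, 3, 3, 3],
  [0, 3, 4, 3, 5, 6, 3, 4, 0, 7, 0, 3, 7],
  [0, 5, 0, 5, 0, 6, 4, 4, 6, 4, 4, 6, 4],
  [0, 3, 6, 5, 0, 3, 7, 4, 6, 6, 6, 6, 6],
  [0, 0, 2, 2, 7, 1, 3, 3, 6, 0, 2, 6, 3],
  [0, 4, 2, 2, 6, 3, 6, 2, 2, 2, 0, 4, 3],
  [0, 6, 5, 6, 4, 2, 2, 6, 3, 6, 2, 2, 2],
  [0, 0, 2, 6, 3, 6, 0, 0, 3, 3, 3, 3, 3],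
  [0, 0, 0, 0, 0, 0, 2, 5, 3, 6, 3, 4, 7],
  [0, 0, 2, 6, 0, 2, 0, 7, 1, 3, 1, 6, 3],
  [0, 3, 4, 0, 7, 0, 3, 5, 2, 7, 4, 6, 3],
  [0, 5, 2, 7, 5, 5, 5, 5, 5, 5, 3, 4, 7],
  [0, 7, 5, 7, 5, 5, 7, 5, 5, 5, 6, 2, 7],
  [0, 5, 6, 1, 6, 3, 4, 2, 2, 2, 2, 2, 2],
  [0, 3, 3, 4, 6, 0, 4, 1, 3, 6, 6, 5, 3],
  [0, 7, 5, 7, 5, 5, 7, 5, 5, 5, 6, 6, 3],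
  [0, 3, 4, 3, 5, 2, 7, 4, 2, 1, 6, 1, 7],
  [0, 2, 0, 3, 5, 6, 2, 0, 6, 2, 0, 6, 4],
  [2, 6, 5, 7, 5, 6, 6, 5, 7, 7, 5, 2, 7],
  [0, 0, 4, 0, 5, 2, 4, 6, 1, 6, 3, 5, 2],
  [0, 3, 6, 5, 0, 6, 6, 6, 6, 6, 6, 2, 5],
  [0, 3, 4, 6, 6, 6, 6, 6, 6, 0, 3, 4, 7],
  [0, 0, 0, 0, 0, 0, 2, 1, 6, 1, 2, 1, 6],
  [0, 2, 2, 2, 2, 2, 2, 0, 7, 0, 3, 0, 7],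
  [0, 6, 6, 4, 4, 6, 4, 4, 6, 4, 6, 4, 3],
  [2, 9, 5, 2, 9, 5],
  [2, 7, 4, 8, 3, 4, 8, 7],
  [0, 0, 2, 9, 1, 9, 4, 8, 1, 5],
  [0, 0, 3, 9, 5, 0, 0, 3, 9, 5],
  [0, 2, 0, 2, 0, 4, 8, 3, 4, 8],
  [0, 2, 5, 0, 8, 0, 8, 3, 9, 3],
  [0, 2, 9, 5, 2, 9, 3, 0, 4, 3],
  [0, 3, 0, 5, 2, 8, 3, 4, 8, 5],
  [0, 3, 0, 8, 3, 4, 8, 5, 2, 5],
  [0, 3, 3, 9, 5, 3, 0, 4, 8, 2],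
  [0, 3, 3, 9, 5, 5, 1, 2, 8, 2],
  [0, 3, 3, 9, 5, 8, 0, 8, 0, 5],
  [0, 3, 4, 7, 0, 9, 5, 2, 9, 7],
  [0, 3, 6, 9, 5, 2, 9, 7, 4, 3],
  [0, 4, 3, 0, 4, 9, 5, 2, 9, 5],
  [0, 4, 8, 0, 8, 0, 5, 3, 9, 3],
  [0, 4, 8, 2, 0, 5, 3, 9, 5, 5],
  [0, 4, 8, 2, 4, 1, 9, 1, 9, 3],
  [0, 4, 8, 2, 6, 5, 3, 9, 5, 7],
  [0, 4, 8, 2, 9, 1, 9, 3, 0, 5],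
  [0, 5, 0, 5, 0, 8, 3, 4, 8, 3],
  [0, 5, 2, 7, 4, 9, 5, 2, 9, 7],
  [0, 5, 2, 8, 0, 8, 3, 9, 5, 5],
  [0, 5, 3, 0, 8, 0, 5, 3, 0, 8],
  [0, 5, 6, 1, 6, 9, 5, 2, 9, 3],
  [0, 5, 6, 3, 4, 9, 5, 2, 9, 7],
  [0, 5, 6, 9, 5, 2, 9, 3, 4, 7],
  [0, 5, 9, 1, 9, 3, 4, 4, 8, 2],
  [0, 5, 9, 1, 9, 4, 8, 2, 2, 5],
  [0, 6, 5, 6, 2, 9, 5, 2, 9, 3],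
  [0, 6, 5, 6, 4, 9, 5, 2, 9, 5],
  [0, 6, 8, 3, 4, 8, 3, 6, 4, 3],
  [0, 6, 8, 3, 4, 8, 7, 2, 4, 3],
  [0, 7, 0, 8, 3, 4, 8, 1, 4, 7],
  [0, 7, 2, 9, 5, 2, 9, 7, 4, 3],
  [0, 7, 4, 7, 2, 9, 5, 2, 9, 3],
  [0, 7, 4, 7, 4, 9, 5, 2, 9, 5],
  [0, 7, 4, 9, 5, 2, 9, 1, 6, 5],
  [0, 7, 9, 1, 9, 5, 6, 8, 0, 8],
  [0, 8, 3, 4, 8, 7, 4, 3, 4, 7],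
  [2, 2, 5, 3, 9, 5, 5, 2, 4, 8],
  [2, 4, 8, 5, 9, 5, 9, 2, 9, 5],
  [2, 4, 9, 5, 9, 5, 8, 2, 9, 5],
  [2, 5, 9, 5, 9, 4, 8, 2, 9, 5],
  [2, 6, 5, 6, 6, 8, 3, 4, 8, 7],
  [2, 7, 4, 8, 7, 2, 7, 4, 8, 7],
  [2, 9, 5, 2, 9, 7, 7, 4, 7, 7],
  [4, 9, 4, 9, 4, 9, 4, 9, 4, 9],
  [2, 2, 2, 2, 2, 2, 4, 8, 3, 4, 8],
  [2, 8, 8, 8, 8, 8, 8, 5, 2, 9, 5],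
  [2, 9, 4, 4, 4, 4, 4, 4, 2, 9, 5],
  [6, 9, 6, 9, 6, 9, 6, 9, 6, 9, 6, 9, 6, 9, 6, 9]]
def g5 : List (List ℕ) := [[0], [2], [4], [6], [8]]

/-- the generators as words in the seven involutions of the presented group -/
def wups : Cfsg.Agent.Helper4.Pres.SuzK.Gen → List ℕ
  | .p => [0, 2, 4, 2, 6, 4, 2, 8, 6]
  | .q => [0, 4, 2, 6, 4, 8, 6, 4, 2]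
  | .r => [0, 2, 4, 2, 6, 4, 6, 2, 8]
  | .s => [0, 2, 4, 2, 6, 8, 10, 2]
  | .t => [12, 4, 0, 2, 4, 2, 6, 4, 6, 2, 8, 4, 12]
/-- the seven involutions of the presented group as words in the generators -/
def vups : Cfsg.Spor.Suz.Gen → List ℕ
  | .a => [3, 5, 0, 0, 5, 0, 3, 1]
  | .b => [0, 2, 4, 4, 2, 2, 5, 2, 1, 1]
  | .c => [2, 0, 5, 0, 0, 5, 0, 0]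
  | .d => [4, 4, 0, 4, 2, 0, 5, 3]
  | .e => [2, 0, 5, 3, 3, 0, 5, 1, 1]
  | .f => [4, 0, 2, 4, 1, 7, 7, 3, 5, 0]
  | .g => [0, 9, 5, 5, 9, 9, 5, 1]

theorem hb5 : SuzKS5.bases = exL ++ Schur.weakify0 g5 ceL := by decide +kernel

end Cfsg.Agent.Helper4.TC.SuzKSD
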