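import Cfsg.Agent.Lib.Helper4.TC.SuzSLC

set_option autoImplicit false
set_option maxRecDepth 100000
set_option linter.unusedVariables false
set_option Elab.async false

namespace Cfsg.Agent.Helper4.TC.SuzS

open Cfsg.Agent.Helper4.TC

def xw : List ℕ := [2, 4, 6, 8, 10, 12]
def xpw : List ℕ := [2, 4, 6, 8, 10, 12, 2, 4, 6, 8, 10, 12, 2, 4, 6, 8, 10, 12, 2, 4, 6, 8, 10, 12, 2, 4, 6, 8, 10, 12, 2, 4, 6, 8, 10, 12, 2, 4, 6, 8, 10, 12, 2, 4, 6, 8, 10, 12, 2, 4, 6, 8, 10, 12, 2, 4, 6, 8, 10, 12, 2, 4, 6, 8, 10, 12]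
theorem xp_c0 : relsRange SuzG24.mdata [xpw] 1212 0 = true := by decide +kernel
theorem xp_c1 : relsRange SuzG24.mdata [xpw] 570 1212 = true := by decide +kernel

end Cfsg.Agent.Helper4.TC.SuzS
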