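import Cfsg.Agent.Lib.Helper4.TC.SuzU43Data

set_option autoImplicit false
set_option maxRecDepth 100000
set_option linter.unusedVariables false
set_option Elab.async false

namespace Cfsg.Agent.Helper4.TC.SuzU43

open Cfsg.Agent.Helper4.TC

theorem rows15 : rowsRange data 28032 1194 22433 = true := by decide +kernel
theorem rows16 : rowsRange data 28032 1178 23627 = true := by decide +kernel
theorem rows17 : rowsRange data 28032 1163 24805 = true := by decide +kernel
theorem rows18 : rowsRange data 28032 1167 25968 = true := by decide +kernel
theorem rows19 : rowsRange data 28032 897 27135 = true := by decide +kernel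

end Cfsg.Agent.Helper4.TC.SuzU43
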