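import Cfsg.Agent.Lib.Helper4.TC.SuzU43Model
import Cfsg.Agent.Lib.Helper4.TC.SuzU43Data

set_option autoImplicit false
set_option maxRecDepth 100000
set_option linter.unusedVariables false
set_option Elab.async false

namespace Cfsg.Agent.Helper4.TC.SuzU43

open Cfsg.Agent.Helper4.TC

theorem rel96 : relsRange mdata bases 216 20736 = true := by decide +kernel
theorem rel97 : relsRange mdata bases 216 20952 = true := by decide +kernel
theorem rel98 : relsRange mdata bases 216 21168 = true := by decide +kernel
theorem rel99 : relsRange mdata bases 216 21384 = true := by decide +kernel
theorem rel100 : relsRange mdata bases 216 21600 = true := by decide +kernel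
theorem rel101 : relsRange mdata bases 216 21816 = true := by decide +kernel
theorem rel102 : relsRange mdata bases 216 22032 = true := by decide +kernel
theorem rel103 : relsRange mdata bases 216 22248 = true := by decide +kernel

end Cfsg.Agent.Helper4.TC.SuzU43
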