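import Cfsg.Agent.Lib.Helper4.TC.SuzU43Model
import Cfsg.Agent.Lib.Helper4.TC.SuzU43Data

set_option autoImplicit false
set_option maxRecDepth 100000
set_option linter.unusedVariables false
set_option Elab.async false

namespace Cfsg.Agent.Helper4.TC.SuzU43

open Cfsg.Agent.Helper4.TC

theorem rel104 : relsRange mdata bases 216 22464 = true := by decide +kernel
theorem rel105 : relsRange mdata bases 200 22680 = true := by decide +kernel
theorem inv0 : invRange mdata 1904 0 = true := by decide +kernel
theorem inv1 : invRange mdata 1904 1904 = true := by decide +kernel
theorem inv2 : invRange mdata 1904 3808 = true := by decide +kernel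
theorem inv3 : invRange mdata 1904 5712 = true := by decide +kernel
theorem inv4 : invRange mdata 1904 7616 = true := by decide +kernel
theorem inv5 : invRange mdata 1904 9520 = true := by decide +kernel

end Cfsg.Agent.Helper4.TC.SuzU43
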