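import Cfsg.Agent.Lib.Helper4.TC.SuzU43Model
import Cfsg.Agent.Lib.Helper4.TC.SuzU43Data

set_option autoImplicit false
set_option maxRecDepth 100000
set_option linter.unusedVariables false
set_option Elab.async false

namespace Cfsg.Agent.Helper4.TC.SuzU43

open Cfsg.Agent.Helper4.TC

theorem inv6 : invRange mdata 1904 11424 = true := by decide +kernel
theorem inv7 : invRange mdata 1904 13328 = true := by decide +kernel
theorem inv8 : invRange mdata 1904 15232 = true := by decide +kernel
theorem inv9 : invRange mdata 1904 17136 = true := by decide +kernel
theorem inv10 : invRange mdata 1904 19040 = true := by decide +kernel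
theorem inv11 : invRange mdata 1904 20944 = true := by decide +kernel
theorem inv12 : invRange mdata 32 22848 = true := by decide +kernel
theorem tree0 : treeRange mdata 13333 1 = true := by decide +kernel

end Cfsg.Agent.Helper4.TC.SuzU43
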