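import Cfsg.Agent.Lib.Helper4.TC.SuzU43Model
import Cfsg.Agent.Lib.Helper4.TC.SuzU43Data

set_option autoImplicit false
set_option maxRecDepth 100000
set_option linter.unusedVariables false
set_option Elab.async false

namespace Cfsg.Agent.Helper4.TC.SuzU43

open Cfsg.Agent.Helper4.TC

theorem tree1 : treeRange mdata 9546 13334 = true := by decide +kernel
theorem closed1_0 : closedRange mdata subsL 1 487 486 1 = true := by decide +kernel
theorem reach1_0 : reachRange mdata subsL 1 485 2 = true := by decide +kernel
theorem closed2_0 : closedRange mdata subsL 487 8992 6666 487 = true := by decide +kernel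
theorem closed2_1 : closedRange mdata subsL 487 8992 1839 7153 = true := by decide +kernel
theorem reach2_0 : reachRange mdata subsL 487 8504 488 = true := by decide +kernel
theorem closed3_0 : closedRange mdata subsL 8992 22600 6666 8992 = true := by decide +kernel
theorem closed3_1 : closedRange mdata subsL 8992 22600 6666 15658 = true := by decide +kernel

end Cfsg.Agent.Helper4.TC.SuzU43
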