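import Cfsg.Agent.Lib.Helper4.TC.SuzU43Model
import Cfsg.Agent.Lib.Helper4.TC.SuzU43Data

set_option autoImplicit false
set_option maxRecDepth 100000
set_option linter.unusedVariables false
set_option Elab.async false

namespace Cfsg.Agent.Helper4.TC.SuzU43

open Cfsg.Agent.Helper4.TC

theorem rel24 : relsRange mdata bases 216 5184 = true := by decide +kernel
theorem rel25 : relsRange mdata bases 216 5400 = true := by decide +kernel
theorem rel26 : relsRange mdata bases 216 5616 = true := by decide +kernel
theorem rel27 : relsRange mdata bases 216 5832 = true := by decide +kernel
theorem rel28 : relsRange mdata bases 216 6048 = true := by decide +kernel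
theorem rel29 : relsRange mdata bases 216 6264 = true := by decide +kernel
theorem rel30 : relsRange mdata bases 216 6480 = true := by decide +kernel
theorem rel31 : relsRange mdata bases 216 6696 = true := by decide +kernel

end Cfsg.Agent.Helper4.TC.SuzU43
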