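import Cfsg.Agent.Lib.Helper4.TC.SuzU43Model
import Cfsg.Agent.Lib.Helper4.TC.SuzU43Data

set_option autoImplicit false
set_option maxRecDepth 100000
set_option linter.unusedVariables false
set_option Elab.async false

namespace Cfsg.Agent.Helper4.TC.SuzU43

open Cfsg.Agent.Helper4.TC

theorem rel32 : relsRange mdata bases 216 6912 = true := by decide +kernel
theorem rel33 : relsRange mdata bases 216 7128 = true := by decide +kernel
theorem rel34 : relsRange mdata bases 216 7344 = true := by decide +kernel
theorem rel35 : relsRange mdata bases 216 7560 = true := by decide +kernel
theorem rel36 : relsRange mdata bases 216 7776 = true := by decide +kernel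
theorem rel37 : relsRange mdata bases 216 7992 = true := by decide +kernel
theorem rel38 : relsRange mdata bases 216 8208 = true := by decide +kernel
theorem rel39 : relsRange mdata bases 216 8424 = true := by decide +kernel

end Cfsg.Agent.Helper4.TC.SuzU43
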