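import Cfsg.Agent.Lib.Helper4.TC.SuzU43Model
import Cfsg.Agent.Lib.Helper4.TC.SuzU43Data

set_option autoImplicit false
set_option maxRecDepth 100000
set_option linter.unusedVariables false
set_option Elab.async false

namespace Cfsg.Agent.Helper4.TC.SuzU43

open Cfsg.Agent.Helper4.TC

theorem rel40 : relsRange mdata bases 216 8640 = true := by decide +kernel
theorem rel41 : relsRange mdata bases 216 8856 = true := by decide +kernel
theorem rel42 : relsRange mdata bases 216 9072 = true := by decide +kernel
theorem rel43 : relsRange mdata bases 216 9288 = true := by decide +kernel
theorem rel44 : relsRange mdata bases 216 9504 = true := by decide +kernel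
theorem rel45 : relsRange mdata bases 216 9720 = true := by decide +kernel
theorem rel46 : relsRange mdata bases 216 9936 = true := by decide +kernel
theorem rel47 : relsRange mdata bases 216 10152 = true := by decide +kernel

end Cfsg.Agent.Helper4.TC.SuzU43
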