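import Cfsg.Agent.Lib.Helper4.TC.SuzU43Model
import Cfsg.Agent.Lib.Helper4.TC.SuzU43Data

set_option autoImplicit false
set_option maxRecDepth 100000
set_option linter.unusedVariables false
set_option Elab.async false

namespace Cfsg.Agent.Helper4.TC.SuzU43

open Cfsg.Agent.Helper4.TC

theorem rel48 : relsRange mdata bases 216 10368 = true := by decide +kernel
theorem rel49 : relsRange mdata bases 216 10584 = true := by decide +kernel
theorem rel50 : relsRange mdata bases 216 10800 = true := by decide +kernel
theorem rel51 : relsRange mdata bases 216 11016 = true := by decide +kernel
theorem rel52 : relsRange mdata bases 216 11232 = true := by decide +kernel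
theorem rel53 : relsRange mdata bases 216 11448 = true := by decide +kernel
theorem rel54 : relsRange mdata bases 216 11664 = true := by decide +kernel
theorem rel55 : relsRange mdata bases 216 11880 = true := by decide +kernel

end Cfsg.Agent.Helper4.TC.SuzU43
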