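import Cfsg.Agent.Lib.Helper4.TC.SuzU43Model
import Cfsg.Agent.Lib.Helper4.TC.SuzU43Data

set_option autoImplicit false
set_option maxRecDepth 100000
set_option linter.unusedVariables false
set_option Elab.async false

namespace Cfsg.Agent.Helper4.TC.SuzU43

open Cfsg.Agent.Helper4.TC

theorem rel56 : relsRange mdata bases 216 12096 = true := by decide +kernel
theorem rel57 : relsRange mdata bases 216 12312 = true := by decide +kernel
theorem rel58 : relsRange mdata bases 216 12528 = true := by decide +kernel
theorem rel59 : relsRange mdata bases 216 12744 = true := by decide +kernel
theorem rel60 : relsRange mdata bases 216 12960 = true := by decide +kernel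
theorem rel61 : relsRange mdata bases 216 13176 = true := by decide +kernel
theorem rel62 : relsRange mdata bases 216 13392 = true := by decide +kernel
theorem rel63 : relsRange mdata bases 216 13608 = true := by decide +kernel

end Cfsg.Agent.Helper4.TC.SuzU43
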