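import Cfsg.Agent.Lib.Helper4.TC.SuzU43Model
import Cfsg.Agent.Lib.Helper4.TC.SuzU43Data

set_option autoImplicit false
set_option maxRecDepth 100000
set_option linter.unusedVariables false
set_option Elab.async false

namespace Cfsg.Agent.Helper4.TC.SuzU43

open Cfsg.Agent.Helper4.TC

theorem rel72 : relsRange mdata bases 216 15552 = true := by decide +kernel
theorem rel73 : relsRange mdata bases 216 15768 = true := by decide +kernel
theorem rel74 : relsRange mdata bases 216 15984 = true := by decide +kernel
theorem rel75 : relsRange mdata bases 216 16200 = true := by decide +kernel
theorem rel76 : relsRange mdata bases 216 16416 = true := by decide +kernel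
theorem rel77 : relsRange mdata bases 216 16632 = true := by decide +kernel
theorem rel78 : relsRange mdata bases 216 16848 = true := by decide +kernel
theorem rel79 : relsRange mdata bases 216 17064 = true := by decide +kernel

end Cfsg.Agent.Helper4.TC.SuzU43
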