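import Cfsg.Agent.Lib.Helper4.TC.Std
import Cfsg.Agent.Lib.Helper4.TC.SuzU43Fin
import Cfsg.Agent.Lib.Helper4.TC.SuzU43CM
import Cfsg.Agent.Lib.Helper4.TC.SuzU43CE0
import Cfsg.Agent.Lib.Helper4.TC.SuzU43CE1
import Cfsg.Agent.Lib.Helper4.TC.SuzU43CE2
import Cfsg.Agent.Lib.Helper4.TC.SuzU43CE3
import Cfsg.Agent.Lib.Helper4.TC.SuzU43CE4
import Cfsg.Agent.Lib.Helper4.TC.SuzU43CE5
import Cfsg.Agent.Lib.Helper4.TC.SuzU43CE6
import Cfsg.Agent.Lib.Helper4.TC.SuzU43CE7
import Cfsg.Agent.Lib.Helper4.TC.SuzU43CE8
import Cfsg.Agent.Lib.Helper4.TC.SuzU43CE9
import Cfsg.Agent.Lib.Helper4.TC.SuzU43CE10
import Cfsg.Agent.Lib.Helper4.TC.SuzU43CE11
import Cfsg.Agent.Lib.Helper4.TC.SuzU43CE12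
import Cfsg.Agent.Lib.Helper4.TC.SuzU43CE13
import Cfsg.Agent.Lib.Helper4.TC.SuzU43CF0
import Cfsg.Agent.Lib.Helper4.TC.SuzU43CF1
import Cfsg.Agent.Lib.Helper4.TC.SuzU43CF2
import Cfsg.Agent.Lib.Helper4.TC.SuzU43MC0
import Cfsg.Agent.Lib.Helper4.TC.SuzU43MC1
import Cfsg.Agent.Lib.Helper4.TC.SuzU43MC2
import Cfsg.Agent.Lib.Helper4.TC.SuzU43MC3
import Cfsg.Agent.Lib.Helper4.TC.SuzU43MC4
import Cfsg.Agent.Lib.Helper4.TC.SuzU43MC5
import Cfsg.Agent.Lib.Helper4.TC.SuzU43MC6
import Cfsg.Agent.Lib.Helper4.TC.SuzU43MC7
import Cfsg.Agent.Lib.Helper4.TC.SuzU43MC8
import Cfsg.Agent.Lib.Helper4.TC.SuzU43MC9
import Cfsg.Agent.Lib.Helper4.TC.SuzU43MC10
import Cfsg.Agent.Lib.Helper4.TC.SuzU43MC11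
import Cfsg.Agent.Lib.Helper4.TC.SuzU43MC12
import Cfsg.Agent.Lib.Helper4.TC.SuzU43MC13
import Cfsg.Agent.Lib.Helper4.TC.SuzU43MC14
import Cfsg.Agent.Lib.Helper4.TC.SuzU43MC15
import Cfsg.Agent.Lib.Helper4.TC.SuzU43MC16
import Cfsg.Prelude.Def_Spor_Suz

set_option autoImplicit false
set_option maxRecDepth 100000
set_option linter.unusedVariables false

namespace Cfsg.Agent.Helper4.TC.SuzU43

open Cfsg.Agent.Helper4.TC

def gens : List Cfsg.Spor.Suz.Gen := [.a, .b, .c, .d, .e, .f, .g]

abbrev dec : ℕ → Letter Cfsg.Spor.Suz.Gen := stdDec gens .a
abbrev enc : Cfsg.Spor.Suz.Gen → ℕ := stdEnc gens

theorem coding : Coding dec enc 14 :=
  std_coding gens .a (by decide) (by intro x; cases x <;> decide) 14 (by decide)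

theorem allE0 : ∀ k, k < 32768 → justE data 0 k = true := by
  intro k hk
  by_cases hh1 : k < 12727
  · skip
    exact edgeRange_sound data 0 12727 0 e0_c0 k (by omega) (by omega)
  · skip
    by_cases hh2 : k < 22710
    · skip
      exact edgeRange_sound data 0 9983 12727 e0_c1 k (by omega) (by omega)
    · skip
      exact edgeRange_sound data 0 10058 22710 e0_c2 k (by omega) (by omega)

theorem allE1 : ∀ k, k < 32768 → justE data 1 k = true := by
  intro k hk
  by_cases hh1 : k < 18247
  · skip
    exact edgeRange_sound data 1 18247 0 e1_c0 k (by omega) (by omega)
  · skip
    exact edgeRange_sound data 1 14521 18247 e1_c1 k (by omega) (by omega)

theorem allE2 : ∀ k, k < 32768 → justE data 2 k = true := by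
  intro k hk
  by_cases hh1 : k < 13773
  · skip
    exact edgeRange_sound data 2 13773 0 e2_c0 k (by omega) (by omega)
  · skip
    by_cases hh2 : k < 23892
    · skip
      exact edgeRange_sound data 2 10119 13773 e2_c1 k (by omega) (by omega)
    · skip
      exact edgeRange_sound data 2 8876 23892 e2_c2 k (by omega) (by omega)

theorem allE3 : ∀ k, k < 32768 → justE data 3 k = true := by
  intro k hk
  by_cases hh1 : k < 18879
  · skip
    exact edgeRange_sound data 3 18879 0 e3_c0 k (by omega) (by omega)
  · skip
    exact edgeRange_sound data 3 13889 18879 e3_c1 k (by omega) (by omega)

theorem allE4 : ∀ k, k < 32768 → justE data 4 k = true := by
  intro k hk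
  by_cases hh1 : k < 14118
  · skip
    exact edgeRange_sound data 4 14118 0 e4_c0 k (by omega) (by omega)
  · skip
    by_cases hh2 : k < 25185
    · skip
      exact edgeRange_sound data 4 11067 14118 e4_c1 k (by omega) (by omega)
    · skip
      exact edgeRange_sound data 4 7583 25185 e4_c2 k (by omega) (by omega)

theorem allE5 : ∀ k, k < 32768 → justE data 5 k = true := by
  intro k hk
  by_cases hh1 : k < 17290
  · skip
    exact edgeRange_sound data 5 17290 0 e5_c0 k (by omega) (by omega)
  · skip
    exact edgeRange_sound data 5 15478 17290 e5_c1 k (by omega) (by omega)

theorem allE6 : ∀ k, k < 32768 → justE data 6 k = true := by
  intro k hk
  by_cases hh1 : k < 13249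
  · skip
    exact edgeRange_sound data 6 13249 0 e6_c0 k (by omega) (by omega)
  · skip
    by_cases hh2 : k < 23612
    · skip
      exact edgeRange_sound data 6 10363 13249 e6_c1 k (by omega) (by omega)
    · skip
      exact edgeRange_sound data 6 9156 23612 e6_c2 k (by omega) (by omega)

theorem allE7 : ∀ k, k < 32768 → justE data 7 k = true := by
  intro k hk
  by_cases hh1 : k < 17046
  · skip
    exact edgeRange_sound data 7 17046 0 e7_c0 k (by omega) (by omega)
  · skip
    exact edgeRange_sound data 7 15722 17046 e7_c1 k (by omega) (by omega)

theorem allE8 : ∀ k, k < 32768 → justE data 8 k = true := by
  intro k hk
  by_cases hh1 : k < 14616
  · skip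
    exact edgeRange_sound data 8 14616 0 e8_c0 k (by omega) (by omega)
  · skip
    by_cases hh2 : k < 27105
    · skip
      exact edgeRange_sound data 8 12489 14616 e8_c1 k (by omega) (by omega)
    · skip
      exact edgeRange_sound data 8 5663 27105 e8_c2 k (by omega) (by omega)

theorem allE9 : ∀ k, k < 32768 → justE data 9 k = true := by
  intro k hk
  by_cases hh1 : k < 17973
  · skip
    exact edgeRange_sound data 9 17973 0 e9_c0 k (by omega) (by omega)
  · skip
    exact edgeRange_sound data 9 14795 17973 e9_c1 k (by omega) (by omega)

theorem allE10 : ∀ k, k < 32768 → justE data 10 k = true := by
  intro k hk
  by_cases hh1 : k < 15918
  · skip
    exact edgeRange_sound data 10 15918 0 e10_c0 k (by omega) (by omega)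
  · skip
    by_cases hh2 : k < 29996
    · skip
      exact edgeRange_sound data 10 14078 15918 e10_c1 k (by omega) (by omega)
    · skip
      exact edgeRange_sound data 10 2772 29996 e10_c2 k (by omega) (by omega)

theorem allE11 : ∀ k, k < 32768 → justE data 11 k = true := by
  intro k hk
  by_cases hh1 : k < 16299
  · skip
    exact edgeRange_sound data 11 16299 0 e11_c0 k (by omega) (by omega)
  · skip
    exact edgeRange_sound data 11 16469 16299 e11_c1 k (by omega) (by omega)

theorem allE12 : ∀ k, k < 32768 → justE data 12 k = true := by
  intro k hk
  by_cases hh1 : k < 15931
  · skip
    exact edgeRange_sound data 12 15931 0 e12_c0 k (by omega) (by omega)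
  · skip
    by_cases hh2 : k < 29907
    · skip
      exact edgeRange_sound data 12 13976 15931 e12_c1 k (by omega) (by omega)
    · skip
      exact edgeRange_sound data 12 2861 29907 e12_c2 k (by omega) (by omega)

theorem allE13 : ∀ k, k < 32768 → justE data 13 k = true := by
  intro k hk
  by_cases hh1 : k < 16427
  · skip
    exact edgeRange_sound data 13 16427 0 e13_c0 k (by omega) (by omega)
  · skip
    exact edgeRange_sound data 13 16341 16427 e13_c1 k (by omega) (by omega)

theorem allE : ∀ c k, c < data.nc → k ≤ data.mask → justE data c k = true := by
  intro c k hc hk
  have hc' : c < 14 := hc
  have hk' : k < 32768 := Nat.lt_succ_of_le hk
  interval_cases c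
  · exact allE0 k hk'
  · exact allE1 k hk'
  · exact allE2 k hk'
  · exact allE3 k hk'
  · exact allE4 k hk'
  · exact allE5 k hk'
  · exact allE6 k hk'
  · exact allE7 k hk'
  · exact allE8 k hk'
  · exact allE9 k hk'
  · exact allE10 k hk'
  · exact allE11 k hk'
  · exact allE12 k hk'
  · exact allE13 k hk'

theorem allM : ∀ k, k ≤ data.mask → justM data k = true := by
  intro k hk
  have hk' : k < 32768 := Nat.lt_succ_of_le hk
  exact mergeRange_sound data 32768 0 m_c0 k (by omega) (by omega)

theorem rows_all : ∀ k, k < M → isFinal data k = true → rowOK data M k data.nc = true := by
  intro k hk
  have hk' : k < 28032 := hk
  by_cases hh1 : k < 16554
  · skip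
    by_cases hh2 : k < 9682
    · skip
      by_cases hh3 : k < 5390
      · skip
        by_cases hh4 : k < 2266
        · skip
          exact rowsRange_sound data M 2266 0 rows0 k (by omega) (by omega)
        · skip
          exact rowsRange_sound data M 3124 2266 rows1 k (by omega) (by omega)
      · skip
        by_cases hh5 : k < 6898
        · skip
          exact rowsRange_sound data M 1508 5390 rows2 k (by omega) (by omega)
        · skip
          by_cases hh6 : k < 8176
          · skip
            exact rowsRange_sound data M 1278 6898 rows3 k (by omega) (by omega)
          · skip
            exact rowsRange_sound data M 1506 8176 rows4 k (by omega) (by omega)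
    · skip
      by_cases hh7 : k < 12569
      · skip
        by_cases hh8 : k < 11209
        · skip
          exact rowsRange_sound data M 1527 9682 rows5 k (by omega) (by omega)
        · skip
          exact rowsRange_sound data M 1360 11209 rows6 k (by omega) (by omega)
      · skip
        by_cases hh9 : k < 14144
        · skip
          exact rowsRange_sound data M 1575 12569 rows7 k (by omega) (by omega)
        · skip
          by_cases hh10 : k < 15350
          · skip
            exact rowsRange_sound data M 1206 14144 rows8 k (by omega) (by omega)
          · skip
            exact rowsRange_sound data M 1204 15350 rows9 k (by omega) (by omega)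
  · skip
    by_cases hh11 : k < 22433
    · skip
      by_cases hh12 : k < 18909
      · skip
        by_cases hh13 : k < 17730
        · skip
          exact rowsRange_sound data M 1176 16554 rows10 k (by omega) (by omega)
        · skip
          exact rowsRange_sound data M 1179 17730 rows11 k (by omega) (by omega)
      · skip
        by_cases hh14 : k < 20088
        · skip
          exact rowsRange_sound data M 1179 18909 rows12 k (by omega) (by omega)
        · skip
          by_cases hh15 : k < 21266
          · skip
            exact rowsRange_sound data M 1178 20088 rows13 k (by omega) (by omega)
          · skip
            exact rowsRange_sound data M 1167 21266 rows14 k (by omega) (by omega)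
    · skip
      by_cases hh16 : k < 24805
      · skip
        by_cases hh17 : k < 23627
        · skip
          exact rowsRange_sound data M 1194 22433 rows15 k (by omega) (by omega)
        · skip
          exact rowsRange_sound data M 1178 23627 rows16 k (by omega) (by omega)
      · skip
        by_cases hh18 : k < 25968
        · skip
          exact rowsRange_sound data M 1163 24805 rows17 k (by omega) (by omega)
        · skip
          by_cases hh19 : k < 27135
          · skip
            exact rowsRange_sound data M 1167 25968 rows18 k (by omega) (by omega)
          · skip
            exact rowsRange_sound data M 897 27135 rows19 k (by omega) (by omega)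

theorem cnt_ok : countFinal data M 0 0 = n := by
  exact cnt0

abbrev Rset : Set (FreeGroup Cfsg.Spor.Suz.Gen) := Cfsg.Spor.coxRelators Cfsg.Spor.Suz.edges ∪ {r | r ∈ Cfsg.Spor.Suz.extra}
abbrev Sset : Set (FreeGroup Cfsg.Spor.Suz.Gen) := {Cfsg.Spor.Suz.a, Cfsg.Spor.Suz.b, Cfsg.Spor.Suz.c, Cfsg.Spor.Suz.d, Cfsg.Spor.Suz.f, Cfsg.Spor.Suz.g}
def SL : List (FreeGroup Cfsg.Spor.Suz.Gen) := [Cfsg.Spor.Suz.a, Cfsg.Spor.Suz.b, Cfsg.Spor.Suz.c, Cfsg.Spor.Suz.d, Cfsg.Spor.Suz.f, Cfsg.Spor.Suz.g]

theorem mem_S (s : FreeGroup Cfsg.Spor.Suz.Gen) : s ∈ Sset ↔ s ∈ SL := by
  simp only [Sset, SL, Set.mem_insert_iff, Set.mem_singleton_iff, List.mem_cons, List.not_mem_nil, or_false]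

theorem hR1 : ∀ r ∈ Rset, ∃ b ∈ bases, r = wordF dec b := by
  intro r hr
  rw [mem_rels_iff] at hr
  revert r
  decide +kernel

theorem hR2 : ∀ b ∈ bases, wordF dec b ∈ Rset := by
  intro b hb
  rw [mem_rels_iff]
  revert b
  decide +kernel

theorem hS1 : ∀ s ∈ Sset, ∃ b ∈ subsL, s = wordF dec b := by
  intro s hs
  rw [mem_S] at hs
  revert s
  decide +kernel

theorem hS2 : ∀ b ∈ subsL, wordF dec b ∈ Sset := by
  intro b hb
  rw [mem_S]
  revert b
  decide +kernel

theorem bound : Finite (PresentedGroup Rset ⧸ (Subgroup.closure Sset).map (PresentedGroup.mk Rset)) ∧
    Nat.card (PresentedGroup Rset ⧸ (Subgroup.closure Sset).map (PresentedGroup.mk Rset)) ≤ n :=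
  tc_bound data bases subsL rots coding hR2 hS2 words_ok allE allM M n fin0_ok (by decide) (by decide) cnt_ok rows_all

theorem model_ok : ModelOK mdata bases subsL := by
  refine ⟨by decide, ?_, ?_, wordsLettersOK_sound _ _ relc_ok, wordsLettersOK_sound _ _ subc_ok,
    sub0OK_sound _ _ sub0_ok, ?_⟩
  · intro k hk
    have hk' : k < 22880 := hk
    by_cases hh1 : k < 11424
    · skip
      by_cases hh2 : k < 5712
      · skip
        by_cases hh3 : k < 1904
        · skip
          exact invRange_sound mdata 1904 0 inv0 k (by omega) (by omega)
        · skip
          by_cases hh4 : k < 3808
          · skip
            exact invRange_sound mdata 1904 1904 inv1 k (by omega) (by omega)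
          · skip
            exact invRange_sound mdata 1904 3808 inv2 k (by omega) (by omega)
      · skip
        by_cases hh5 : k < 7616
        · skip
          exact invRange_sound mdata 1904 5712 inv3 k (by omega) (by omega)
        · skip
          by_cases hh6 : k < 9520
          · skip
            exact invRange_sound mdata 1904 7616 inv4 k (by omega) (by omega)
          · skip
            exact invRange_sound mdata 1904 9520 inv5 k (by omega) (by omega)
    · skip
      by_cases hh7 : k < 17136
      · skip
        by_cases hh8 : k < 13328
        · skip
          exact invRange_sound mdata 1904 11424 inv6 k (by omega) (by omega)
        · skip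
          by_cases hh9 : k < 15232
          · skip
            exact invRange_sound mdata 1904 13328 inv7 k (by omega) (by omega)
          · skip
            exact invRange_sound mdata 1904 15232 inv8 k (by omega) (by omega)
      · skip
        by_cases hh10 : k < 20944
        · skip
          by_cases hh11 : k < 19040
          · skip
            exact invRange_sound mdata 1904 17136 inv9 k (by omega) (by omega)
          · skip
            exact invRange_sound mdata 1904 19040 inv10 k (by omega) (by omega)
        · skip
          by_cases hh12 : k < 22848
          · skip
            exact invRange_sound mdata 1904 20944 inv11 k (by omega) (by omega)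
          · skip
            exact invRange_sound mdata 32 22848 inv12 k (by omega) (by omega)
  · intro k hk
    have hk' : k < 22880 := hk
    by_cases hh1 : k < 11448
    · skip
      by_cases hh2 : k < 5616
      · skip
        by_cases hh3 : k < 2808
        · skip
          by_cases hh4 : k < 1296
          · skip
            by_cases hh5 : k < 648
            · skip
              by_cases hh6 : k < 216
              · skip
                exact relsRange_sound mdata bases 216 0 rel0 k (by omega) (by omega)
              · skip
                by_cases hh7 : k < 432
                · skip
                  exact relsRange_sound mdata bases 216 216 rel1 k (by omega) (by omega)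
                · skip
                  exact relsRange_sound mdata bases 216 432 rel2 k (by omega) (by omega)
            · skip
              by_cases hh8 : k < 864
              · skip
                exact relsRange_sound mdata bases 216 648 rel3 k (by omega) (by omega)
              · skip
                by_cases hh9 : k < 1080
                · skip
                  exact relsRange_sound mdata bases 216 864 rel4 k (by omega) (by omega)
                · skip
                  exact relsRange_sound mdata bases 216 1080 rel5 k (by omega) (by omega)
          · skip
            by_cases hh10 : k < 1944
            · skip
              by_cases hh11 : k < 1512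
              · skip
                exact relsRange_sound mdata bases 216 1296 rel6 k (by omega) (by omega)
              · skip
                by_cases hh12 : k < 1728
                · skip
                  exact relsRange_sound mdata bases 216 1512 rel7 k (by omega) (by omega)
                · skip
                  exact relsRange_sound mdata bases 216 1728 rel8 k (by omega) (by omega)
            · skip
              by_cases hh13 : k < 2376
              · skip
                by_cases hh14 : k < 2160
                · skip
                  exact relsRange_sound mdata bases 216 1944 rel9 k (by omega) (by omega)
                · skip
                  exact relsRange_sound mdata bases 216 2160 rel10 k (by omega) (by omega)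
              · skip
                by_cases hh15 : k < 2592
                · skip
                  exact relsRange_sound mdata bases 216 2376 rel11 k (by omega) (by omega)
                · skip
                  exact relsRange_sound mdata bases 216 2592 rel12 k (by omega) (by omega)
        · skip
          by_cases hh16 : k < 4104
          · skip
            by_cases hh17 : k < 3456
            · skip
              by_cases hh18 : k < 3024
              · skip
                exact relsRange_sound mdata bases 216 2808 rel13 k (by omega) (by omega)
              · skip
                by_cases hh19 : k < 3240
                · skip
                  exact relsRange_sound mdata bases 216 3024 rel14 k (by omega) (by omega)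
                · skip
                  exact relsRange_sound mdata bases 216 3240 rel15 k (by omega) (by omega)
            · skip
              by_cases hh20 : k < 3672
              · skip
                exact relsRange_sound mdata bases 216 3456 rel16 k (by omega) (by omega)
              · skip
                by_cases hh21 : k < 3888
                · skip
                  exact relsRange_sound mdata bases 216 3672 rel17 k (by omega) (by omega)
                · skip
                  exact relsRange_sound mdata bases 216 3888 rel18 k (by omega) (by omega)
          · skip
            by_cases hh22 : k < 4752
            · skip
              by_cases hh23 : k < 4320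
              · skip
                exact relsRange_sound mdata bases 216 4104 rel19 k (by omega) (by omega)
              · skip
                by_cases hh24 : k < 4536
                · skip
                  exact relsRange_sound mdata bases 216 4320 rel20 k (by omega) (by omega)
                · skip
                  exact relsRange_sound mdata bases 216 4536 rel21 k (by omega) (by omega)
            · skip
              by_cases hh25 : k < 5184
              · skip
                by_cases hh26 : k < 4968
                · skip
                  exact relsRange_sound mdata bases 216 4752 rel22 k (by omega) (by omega)
                · skip
                  exact relsRange_sound mdata bases 216 4968 rel23 k (by omega) (by omega)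
              · skip
                by_cases hh27 : k < 5400
                · skip
                  exact relsRange_sound mdata bases 216 5184 rel24 k (by omega) (by omega)
                · skip
                  exact relsRange_sound mdata bases 216 5400 rel25 k (by omega) (by omega)
      · skip
        by_cases hh28 : k < 8424
        · skip
          by_cases hh29 : k < 6912
          · skip
            by_cases hh30 : k < 6264
            · skip
              by_cases hh31 : k < 5832
              · skip
                exact relsRange_sound mdata bases 216 5616 rel26 k (by omega) (by omega)
              · skip
                by_cases hh32 : k < 6048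
                · skip
                  exact relsRange_sound mdata bases 216 5832 rel27 k (by omega) (by omega)
                · skip
                  exact relsRange_sound mdata bases 216 6048 rel28 k (by omega) (by omega)
            · skip
              by_cases hh33 : k < 6480
              · skip
                exact relsRange_sound mdata bases 216 6264 rel29 k (by omega) (by omega)
              · skip
                by_cases hh34 : k < 6696
                · skip
                  exact relsRange_sound mdata bases 216 6480 rel30 k (by omega) (by omega)
                · skip
                  exact relsRange_sound mdata bases 216 6696 rel31 k (by omega) (by omega)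
          · skip
            by_cases hh35 : k < 7560
            · skip
              by_cases hh36 : k < 7128
              · skip
                exact relsRange_sound mdata bases 216 6912 rel32 k (by omega) (by omega)
              · skip
                by_cases hh37 : k < 7344
                · skip
                  exact relsRange_sound mdata bases 216 7128 rel33 k (by omega) (by omega)
                · skip
                  exact relsRange_sound mdata bases 216 7344 rel34 k (by omega) (by omega)
            · skip
              by_cases hh38 : k < 7992
              · skip
                by_cases hh39 : k < 7776
                · skip
                  exact relsRange_sound mdata bases 216 7560 rel35 k (by omega) (by omega)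
                · skip
                  exact relsRange_sound mdata bases 216 7776 rel36 k (by omega) (by omega)
              · skip
                by_cases hh40 : k < 8208
                · skip
                  exact relsRange_sound mdata bases 216 7992 rel37 k (by omega) (by omega)
                · skip
                  exact relsRange_sound mdata bases 216 8208 rel38 k (by omega) (by omega)
        · skip
          by_cases hh41 : k < 9936
          · skip
            by_cases hh42 : k < 9072
            · skip
              by_cases hh43 : k < 8640
              · skip
                exact relsRange_sound mdata bases 216 8424 rel39 k (by omega) (by omega)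
              · skip
                by_cases hh44 : k < 8856
                · skip
                  exact relsRange_sound mdata bases 216 8640 rel40 k (by omega) (by omega)
                · skip
                  exact relsRange_sound mdata bases 216 8856 rel41 k (by omega) (by omega)
            · skip
              by_cases hh45 : k < 9504
              · skip
                by_cases hh46 : k < 9288
                · skip
                  exact relsRange_sound mdata bases 216 9072 rel42 k (by omega) (by omega)
                · skip
                  exact relsRange_sound mdata bases 216 9288 rel43 k (by omega) (by omega)
              · skip
                by_cases hh47 : k < 9720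
                · skip
                  exact relsRange_sound mdata bases 216 9504 rel44 k (by omega) (by omega)
                · skip
                  exact relsRange_sound mdata bases 216 9720 rel45 k (by omega) (by omega)
          · skip
            by_cases hh48 : k < 10584
            · skip
              by_cases hh49 : k < 10152
              · skip
                exact relsRange_sound mdata bases 216 9936 rel46 k (by omega) (by omega)
              · skip
                by_cases hh50 : k < 10368
                · skip
                  exact relsRange_sound mdata bases 216 10152 rel47 k (by omega) (by omega)
                · skip
                  exact relsRange_sound mdata bases 216 10368 rel48 k (by omega) (by omega)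
            · skip
              by_cases hh51 : k < 11016
              · skip
                by_cases hh52 : k < 10800
                · skip
                  exact relsRange_sound mdata bases 216 10584 rel49 k (by omega) (by omega)
                · skip
                  exact relsRange_sound mdata bases 216 10800 rel50 k (by omega) (by omega)
              · skip
                by_cases hh53 : k < 11232
                · skip
                  exact relsRange_sound mdata bases 216 11016 rel51 k (by omega) (by omega)
                · skip
                  exact relsRange_sound mdata bases 216 11232 rel52 k (by omega) (by omega)
    · skip
      by_cases hh54 : k < 17064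
      · skip
        by_cases hh55 : k < 14256
        · skip
          by_cases hh56 : k < 12744
          · skip
            by_cases hh57 : k < 12096
            · skip
              by_cases hh58 : k < 11664
              · skip
                exact relsRange_sound mdata bases 216 11448 rel53 k (by omega) (by omega)
              · skip
                by_cases hh59 : k < 11880
                · skip
                  exact relsRange_sound mdata bases 216 11664 rel54 k (by omega) (by omega)
                · skip
                  exact relsRange_sound mdata bases 216 11880 rel55 k (by omega) (by omega)
            · skip
              by_cases hh60 : k < 12312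
              · skip
                exact relsRange_sound mdata bases 216 12096 rel56 k (by omega) (by omega)
              · skip
                by_cases hh61 : k < 12528
                · skip
                  exact relsRange_sound mdata bases 216 12312 rel57 k (by omega) (by omega)
                · skip
                  exact relsRange_sound mdata bases 216 12528 rel58 k (by omega) (by omega)
          · skip
            by_cases hh62 : k < 13392
            · skip
              by_cases hh63 : k < 12960
              · skip
                exact relsRange_sound mdata bases 216 12744 rel59 k (by omega) (by omega)
              · skip
                by_cases hh64 : k < 13176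
                · skip
                  exact relsRange_sound mdata bases 216 12960 rel60 k (by omega) (by omega)
                · skip
                  exact relsRange_sound mdata bases 216 13176 rel61 k (by omega) (by omega)
            · skip
              by_cases hh65 : k < 13824
              · skip
                by_cases hh66 : k < 13608
                · skip
                  exact relsRange_sound mdata bases 216 13392 rel62 k (by omega) (by omega)
                · skip
                  exact relsRange_sound mdata bases 216 13608 rel63 k (by omega) (by omega)
              · skip
                by_cases hh67 : k < 14040
                · skip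
                  exact relsRange_sound mdata bases 216 13824 rel64 k (by omega) (by omega)
                · skip
                  exact relsRange_sound mdata bases 216 14040 rel65 k (by omega) (by omega)
        · skip
          by_cases hh68 : k < 15552
          · skip
            by_cases hh69 : k < 14904
            · skip
              by_cases hh70 : k < 14472
              · skip
                exact relsRange_sound mdata bases 216 14256 rel66 k (by omega) (by omega)
              · skip
                by_cases hh71 : k < 14688
                · skip
                  exact relsRange_sound mdata bases 216 14472 rel67 k (by omega) (by omega)
                · skip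
                  exact relsRange_sound mdata bases 216 14688 rel68 k (by omega) (by omega)
            · skip
              by_cases hh72 : k < 15120
              · skip
                exact relsRange_sound mdata bases 216 14904 rel69 k (by omega) (by omega)
              · skip
                by_cases hh73 : k < 15336
                · skip
                  exact relsRange_sound mdata bases 216 15120 rel70 k (by omega) (by omega)
                · skip
                  exact relsRange_sound mdata bases 216 15336 rel71 k (by omega) (by omega)
          · skip
            by_cases hh74 : k < 16200
            · skip
              by_cases hh75 : k < 15768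
              · skip
                exact relsRange_sound mdata bases 216 15552 rel72 k (by omega) (by omega)
              · skip
                by_cases hh76 : k < 15984
                · skip
                  exact relsRange_sound mdata bases 216 15768 rel73 k (by omega) (by omega)
                · skip
                  exact relsRange_sound mdata bases 216 15984 rel74 k (by omega) (by omega)
            · skip
              by_cases hh77 : k < 16632
              · skip
                by_cases hh78 : k < 16416
                · skip
                  exact relsRange_sound mdata bases 216 16200 rel75 k (by omega) (by omega)
                · skip
                  exact relsRange_sound mdata bases 216 16416 rel76 k (by omega) (by omega)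
              · skip
                by_cases hh79 : k < 16848
                · skip
                  exact relsRange_sound mdata bases 216 16632 rel77 k (by omega) (by omega)
                · skip
                  exact relsRange_sound mdata bases 216 16848 rel78 k (by omega) (by omega)
      · skip
        by_cases hh80 : k < 19872
        · skip
          by_cases hh81 : k < 18360
          · skip
            by_cases hh82 : k < 17712
            · skip
              by_cases hh83 : k < 17280
              · skip
                exact relsRange_sound mdata bases 216 17064 rel79 k (by omega) (by omega)
              · skip
                by_cases hh84 : k < 17496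
                · skip
                  exact relsRange_sound mdata bases 216 17280 rel80 k (by omega) (by omega)
                · skip
                  exact relsRange_sound mdata bases 216 17496 rel81 k (by omega) (by omega)
            · skip
              by_cases hh85 : k < 17928
              · skip
                exact relsRange_sound mdata bases 216 17712 rel82 k (by omega) (by omega)
              · skip
                by_cases hh86 : k < 18144
                · skip
                  exact relsRange_sound mdata bases 216 17928 rel83 k (by omega) (by omega)
                · skip
                  exact relsRange_sound mdata bases 216 18144 rel84 k (by omega) (by omega)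
          · skip
            by_cases hh87 : k < 19008
            · skip
              by_cases hh88 : k < 18576
              · skip
                exact relsRange_sound mdata bases 216 18360 rel85 k (by omega) (by omega)
              · skip
                by_cases hh89 : k < 18792
                · skip
                  exact relsRange_sound mdata bases 216 18576 rel86 k (by omega) (by omega)
                · skip
                  exact relsRange_sound mdata bases 216 18792 rel87 k (by omega) (by omega)
            · skip
              by_cases hh90 : k < 19440
              · skip
                by_cases hh91 : k < 19224
                · skip
                  exact relsRange_sound mdata bases 216 19008 rel88 k (by omega) (by omega)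
                · skip
                  exact relsRange_sound mdata bases 216 19224 rel89 k (by omega) (by omega)
              · skip
                by_cases hh92 : k < 19656
                · skip
                  exact relsRange_sound mdata bases 216 19440 rel90 k (by omega) (by omega)
                · skip
                  exact relsRange_sound mdata bases 216 19656 rel91 k (by omega) (by omega)
        · skip
          by_cases hh93 : k < 21384
          · skip
            by_cases hh94 : k < 20520
            · skip
              by_cases hh95 : k < 20088
              · skip
                exact relsRange_sound mdata bases 216 19872 rel92 k (by omega) (by omega)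
              · skip
                by_cases hh96 : k < 20304
                · skip
                  exact relsRange_sound mdata bases 216 20088 rel93 k (by omega) (by omega)
                · skip
                  exact relsRange_sound mdata bases 216 20304 rel94 k (by omega) (by omega)
            · skip
              by_cases hh97 : k < 20952
              · skip
                by_cases hh98 : k < 20736
                · skip
                  exact relsRange_sound mdata bases 216 20520 rel95 k (by omega) (by omega)
                · skip
                  exact relsRange_sound mdata bases 216 20736 rel96 k (by omega) (by omega)
              · skip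
                by_cases hh99 : k < 21168
                · skip
                  exact relsRange_sound mdata bases 216 20952 rel97 k (by omega) (by omega)
                · skip
                  exact relsRange_sound mdata bases 216 21168 rel98 k (by omega) (by omega)
          · skip
            by_cases hh100 : k < 22032
            · skip
              by_cases hh101 : k < 21600
              · skip
                exact relsRange_sound mdata bases 216 21384 rel99 k (by omega) (by omega)
              · skip
                by_cases hh102 : k < 21816
                · skip
                  exact relsRange_sound mdata bases 216 21600 rel100 k (by omega) (by omega)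
                · skip
                  exact relsRange_sound mdata bases 216 21816 rel101 k (by omega) (by omega)
            · skip
              by_cases hh103 : k < 22464
              · skip
                by_cases hh104 : k < 22248
                · skip
                  exact relsRange_sound mdata bases 216 22032 rel102 k (by omega) (by omega)
                · skip
                  exact relsRange_sound mdata bases 216 22248 rel103 k (by omega) (by omega)
              · skip
                by_cases hh105 : k < 22680
                · skip
                  exact relsRange_sound mdata bases 216 22464 rel104 k (by omega) (by omega)
                · skip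
                  exact relsRange_sound mdata bases 200 22680 rel105 k (by omega) (by omega)
  · intro k h1 h2
    have h2' : k < 1 + (22880 - 1) := h2
    by_cases hh1 : k < 13334
    · skip
      exact treeRange_sound mdata 13333 1 tree0 k (by omega) (by omega)
    · skip
      exact treeRange_sound mdata 9546 13334 tree1 k (by omega) (by omega)

theorem orb1 : OrbOK mdata subsL 1 487 := by
  refine ⟨by decide, by decide, ?_, ?_⟩
  · intro k h1 h2
    exact closedRange_sound mdata subsL 1 487 486 1 closed1_0 k (by omega) (by omega)
  · intro k h1 h2
    exact reachRange_sound mdata subsL 1 485 2 reach1_0 k (by omega) (by omega)

theorem orb2 : OrbOK mdata subsL 487 8992 := by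
  refine ⟨by decide, by decide, ?_, ?_⟩
  · intro k h1 h2
    by_cases hh1 : k < 7153
    · skip
      exact closedRange_sound mdata subsL 487 8992 6666 487 closed2_0 k (by omega) (by omega)
    · skip
      exact closedRange_sound mdata subsL 487 8992 1839 7153 closed2_1 k (by omega) (by omega)
  · intro k h1 h2
    exact reachRange_sound mdata subsL 487 8504 488 reach2_0 k (by omega) (by omega)

theorem orb3 : OrbOK mdata subsL 8992 22600 := by
  refine ⟨by decide, by decide, ?_, ?_⟩
  · intro k h1 h2
    by_cases hh1 : k < 15658
    · skip
      exact closedRange_sound mdata subsL 8992 22600 6666 8992 closed3_0 k (by omega) (by omega)
    · skip
      by_cases hh2 : k < 22324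
      · skip
        exact closedRange_sound mdata subsL 8992 22600 6666 15658 closed3_1 k (by omega) (by omega)
      · skip
        exact closedRange_sound mdata subsL 8992 22600 276 22324 closed3_2 k (by omega) (by omega)
  · intro k h1 h2
    exact reachRange_sound mdata subsL 8992 13607 8993 reach3_0 k (by omega) (by omega)

theorem orb4 : OrbOK mdata subsL 22600 22880 := by
  refine ⟨by decide, by decide, ?_, ?_⟩
  · intro k h1 h2
    exact closedRange_sound mdata subsL 22600 22880 280 22600 closed4_0 k (by omega) (by omega)
  · intro k h1 h2
    exact reachRange_sound mdata subsL 22600 279 22601 reach4_0 k (by omega) (by omega)

theorem main : ((Subgroup.closure Sset).map (PresentedGroup.mk Rset)).index = 22880 ∧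
    ∃ e : (PresentedGroup Rset ⧸ (Subgroup.closure Sset).map (PresentedGroup.mk Rset)) ≃ Fin 22880,
      ∀ lo hi, OrbOK mdata subsL lo hi → ∀ q, (e q).val = lo →
        e '' (MulAction.orbit ((Subgroup.closure Sset).map (PresentedGroup.mk Rset)) q) =
          {x : Fin 22880 | lo ≤ x.val ∧ x.val < hi} :=
  model_main mdata bases subsL coding hR1 hS1 hS2 model_ok bound

end Cfsg.Agent.Helper4.TC.SuzU43
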