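import Cfsg.Agent.Lib.Helper4.TC.SuzU43Model
import Cfsg.Agent.Lib.Helper4.TC.SuzU43Data

set_option autoImplicit false
set_option maxRecDepth 100000
set_option linter.unusedVariables false
set_option Elab.async false

namespace Cfsg.Agent.Helper4.TC.SuzU43

open Cfsg.Agent.Helper4.TC

theorem rel88 : relsRange mdata bases 216 19008 = true := by decide +kernel
theorem rel89 : relsRange mdata bases 216 19224 = true := by decide +kernel
theorem rel90 : relsRange mdata bases 216 19440 = true := by decide +kernel
theorem rel91 : relsRange mdata bases 216 19656 = true := by decide +kernel
theorem rel92 : relsRange mdata bases 216 19872 = true := by decide +kernel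
theorem rel93 : relsRange mdata bases 216 20088 = true := by decide +kernel
theorem rel94 : relsRange mdata bases 216 20304 = true := by decide +kernel
theorem rel95 : relsRange mdata bases 216 20520 = true := by decide +kernel

end Cfsg.Agent.Helper4.TC.SuzU43
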