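import Cfsg.Agent.Lib.Helper4.TC.FieldFour
import Cfsg.Agent.Lib.Helper4.TC.Perm

set_option autoImplicit false
set_option linter.unusedVariables false
set_option linter.unusedSectionVars false

/-! Evaluation of words in symplectic 4 × 4 matrices over the field with four elements at
the level of data. -/

namespace Cfsg.Agent.Helper4.TC

/-- the symplectic group of degree four over the field with four elements -/
abbrev Sp44 : Type := ↥(Matrix.symplecticGroup (Fin 2) F4)

section

variable {α : Type} (D D' : α → M4)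
  (hsymp : ∀ x, ((D x).mul M4.jd).mul (D x).tr = M4.jd)
  (hinv : ∀ x, (D x).mul (D' x) = M4.one)

/-- the symplectic matrix of a generator -/
def spOf (x : α) : Sp44 := ⟨(D x).toMat, M4.mem_symplectic _ (hsymp x)⟩

/-- the data of a letter -/
def dl (l : Letter α) : M4 := if l.2 then D l.1 else D' l.1

/-- evaluation of a word at the level of data (the first letter acts first) -/
def evD (d : Letter α → M4) : List (Letter α) → M4
  | [] => M4.one
  | l :: ls => (evD d ls).mul (d l)

include hinv in
theorem coe_gl (l : Letter α) :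
    ((gl (spOf D hsymp) l : Sp44) : Matrix (Fin 2 ⊕ Fin 2) (Fin 2 ⊕ Fin 2) F4) = (dl D D' l).toMat := by
  rcases l with ⟨x, s⟩
  cases s
  · show (((spOf D hsymp x)⁻¹ : Sp44) : Matrix (Fin 2 ⊕ Fin 2) (Fin 2 ⊕ Fin 2) F4) = (D' x).toMat
    rw [SymplecticGroup.coe_inv']
    apply Matrix.inv_eq_right_inv
    show (D x).toMat * (D' x).toMat = 1
    rw [← M4.toMat_mul, hinv, M4.toMat_one]
  · rfl

include hinv in
theorem coe_ev (ls : List (Letter α)) :
    ((ev (spOf D hsymp) ls : Sp44) : Matrix (Fin 2 ⊕ Fin 2) (Fin 2 ⊕ Fin 2) F4) =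
      (evD (dl D D') ls).toMat := by
  induction ls with
  | nil => exact M4.toMat_one.symm
  | cons l ls ih =>
    show ((ev (spOf D hsymp) ls * gl (spOf D hsymp) l : Sp44) :
      Matrix (Fin 2 ⊕ Fin 2) (Fin 2 ⊕ Fin 2) F4) = ((evD (dl D D') ls).mul (dl D D' l)).toMat
    rw [M4.toMat_mul, ← ih, ← coe_gl D D' hsymp hinv l]
    rfl

include hinv in
theorem ev_eq_one (ls : List (Letter α)) (h : evD (dl D D') ls = M4.one) :
    ev (spOf D hsymp) ls = 1 := by
  apply Subtype.ext
  rw [coe_ev D D' hsymp hinv, h, M4.toMat_one]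
  rfl

include hinv in
/-- the homomorphism from a presented group given by symplectic matrices -/
theorem exists_hom_symp (R : Set (FreeGroup α)) (dec : ℕ → Letter α) (bases : List (List ℕ))
    (hR1 : ∀ r ∈ R, ∃ b ∈ bases, r = wordF dec b)
    (hchk : ∀ b ∈ bases, evD (dl D D') (b.map dec) = M4.one) :
    ∃ φ : PresentedGroup R →* Sp44, ∀ x, φ (PresentedGroup.of x) = spOf D hsymp x := by
  have hf : ∀ r ∈ R, FreeGroup.lift (spOf D hsymp) r = 1 := by
    intro r hr
    obtain ⟨b, hb, rfl⟩ := hR1 r hr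
    rw [lift_wordF]
    exact ev_eq_one D D' hsymp hinv _ (hchk b hb)
  exact ⟨PresentedGroup.toGroup hf, fun x => PresentedGroup.toGroup.of hf⟩

end

end Cfsg.Agent.Helper4.TC
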