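import Cfsg.Agent.Lib.Helper4.TC.TitsK2Z0D
import Cfsg.Agent.Lib.Helper4.TC.Perm
import Cfsg.Agent.Lib.Helper4.TC.TitsPP1755Glue
import Cfsg.Agent.Lib.Helper4.TC.Strict

set_option autoImplicit false
set_option maxRecDepth 100000
set_option linter.unusedVariables false
set_option Elab.async false

namespace Cfsg.Agent.Helper4.TC.TitsK2Z0

open Cfsg.Agent.Helper4.TC

theorem e0_c0 : edgeRange data 0 13418 0 = true := edgeRange_strict data 0 13418 0 (by decide +kernel)
theorem e0_c1 : edgeRange data 0 2966 13418 = true := edgeRange_strict data 0 2966 13418 (by decide +kernel)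
theorem e1_c0 : edgeRange data 1 16384 0 = true := edgeRange_strict data 1 16384 0 (by decide +kernel)
theorem e2_c0 : edgeRange data 2 14506 0 = true := edgeRange_strict data 2 14506 0 (by decide +kernel)
theorem e2_c1 : edgeRange data 2 1878 14506 = true := edgeRange_strict data 2 1878 14506 (by decide +kernel)
theorem e3_c0 : edgeRange data 3 16384 0 = true := edgeRange_strict data 3 16384 0 (by decide +kernel)
theorem e4_c0 : edgeRange data 4 16384 0 = true := edgeRange_strict data 4 16384 0 (by decide +kernel)
theorem e5_c0 : edgeRange data 5 16384 0 = true := edgeRange_strict data 5 16384 0 (by decide +kernel)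
theorem m_c0 : mergeRange data 12561 0 = true := mergeRange_strict data 12561 0 (by decide +kernel)
theorem m_c1 : mergeRange data 3823 12561 = true := mergeRange_strict data 3823 12561 (by decide +kernel)
theorem cnt0 : countFinal data 13442 0 0 = 3200 := countFinal_strict data 13442 0 0 3200 (by decide +kernel)
theorem rows0 : rowsRange data 13442 9868 0 = true := rowsRange_strict data 13442 9868 0 (by decide +kernel)
theorem rows1 : rowsRange data 13442 3574 9868 = true := rowsRange_strict data 13442 3574 9868 (by decide +kernel)
theorem words_ok : wordsCheck data bases subsL rots = true := by decide +kernel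
theorem fin0_ok : isFinal data 0 = true := by decide +kernel

theorem allE0 : ∀ k, k < 16384 → justE data 0 k = true := by
  intro k hk
  by_cases hh1 : k < 13418
  · skip
    exact edgeRange_sound data 0 13418 0 e0_c0 k (by omega) (by omega)
  · skip
    exact edgeRange_sound data 0 2966 13418 e0_c1 k (by omega) (by omega)

theorem allE1 : ∀ k, k < 16384 → justE data 1 k = true := by
  intro k hk
  exact edgeRange_sound data 1 16384 0 e1_c0 k (by omega) (by omega)

theorem allE2 : ∀ k, k < 16384 → justE data 2 k = true := by
  intro k hk
  by_cases hh1 : k < 14506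
  · skip
    exact edgeRange_sound data 2 14506 0 e2_c0 k (by omega) (by omega)
  · skip
    exact edgeRange_sound data 2 1878 14506 e2_c1 k (by omega) (by omega)

theorem allE3 : ∀ k, k < 16384 → justE data 3 k = true := by
  intro k hk
  exact edgeRange_sound data 3 16384 0 e3_c0 k (by omega) (by omega)

theorem allE4 : ∀ k, k < 16384 → justE data 4 k = true := by
  intro k hk
  exact edgeRange_sound data 4 16384 0 e4_c0 k (by omega) (by omega)

theorem allE5 : ∀ k, k < 16384 → justE data 5 k = true := by
  intro k hk
  exact edgeRange_sound data 5 16384 0 e5_c0 k (by omega) (by omega)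

theorem allE : ∀ c k, c < data.nc → k ≤ data.mask → justE data c k = true := by
  intro c k hc hk
  have hc' : c < 6 := hc
  have hk' : k < 16384 := Nat.lt_succ_of_le hk
  interval_cases c
  · exact allE0 k hk'
  · exact allE1 k hk'
  · exact allE2 k hk'
  · exact allE3 k hk'
  · exact allE4 k hk'
  · exact allE5 k hk'

theorem allM : ∀ k, k ≤ data.mask → justM data k = true := by
  intro k hk
  have hk' : k < 16384 := Nat.lt_succ_of_le hk
  by_cases hh1 : k < 12561
  · skip
    exact mergeRange_sound data 12561 0 m_c0 k (by omega) (by omega)
  · skip
    exact mergeRange_sound data 3823 12561 m_c1 k (by omega) (by omega)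

theorem rows_all : ∀ k, k < M → isFinal data k = true → rowOK data M k data.nc = true := by
  intro k hk
  have hk' : k < 13442 := hk
  by_cases hh1 : k < 9868
  · skip
    exact rowsRange_sound data M 9868 0 rows0 k (by omega) (by omega)
  · skip
    exact rowsRange_sound data M 3574 9868 rows1 k (by omega) (by omega)

theorem cnt_ok : countFinal data M 0 0 = n := by
  exact cnt0

/-- the index of the subgroup generated by `subsL` in the group with relators `bases` -/
theorem bound : Finite (PresentedGroup (relSet TitsPP1755.dec bases) ⧸ (Subgroup.closure (relSet TitsPP1755.dec subsL)).map (PresentedGroup.mk (relSet TitsPP1755.dec bases))) ∧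
    Nat.card (PresentedGroup (relSet TitsPP1755.dec bases) ⧸ (Subgroup.closure (relSet TitsPP1755.dec subsL)).map (PresentedGroup.mk (relSet TitsPP1755.dec bases))) ≤ n :=
  tc_bound data bases subsL rots TitsPP1755.coding (mem_relSet bases) (mem_relSet subsL) words_ok allE allM M n fin0_ok (by decide) (by decide) cnt_ok rows_all

end Cfsg.Agent.Helper4.TC.TitsK2Z0
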