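import Cfsg.Agent.Lib.Helper4.TC.TitsK5Z0D
import Cfsg.Agent.Lib.Helper4.TC.Perm
import Cfsg.Agent.Lib.Helper4.TC.TitsPP1755Glue
import Cfsg.Agent.Lib.Helper4.TC.Strict

set_option autoImplicit false
set_option maxRecDepth 100000
set_option linter.unusedVariables false
set_option Elab.async false

namespace Cfsg.Agent.Helper4.TC.TitsK5Z0

open Cfsg.Agent.Helper4.TC

theorem e0_c0 : edgeRange data 0 15916 0 = true := edgeRange_strict data 0 15916 0 (by decide +kernel)
theorem e0_c1 : edgeRange data 0 16852 15916 = true := edgeRange_strict data 0 16852 15916 (by decide +kernel)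
theorem e1_c0 : edgeRange data 1 17080 0 = true := edgeRange_strict data 1 17080 0 (by decide +kernel)
theorem e1_c1 : edgeRange data 1 15688 17080 = true := edgeRange_strict data 1 15688 17080 (by decide +kernel)
theorem e2_c0 : edgeRange data 2 15622 0 = true := edgeRange_strict data 2 15622 0 (by decide +kernel)
theorem e2_c1 : edgeRange data 2 17146 15622 = true := edgeRange_strict data 2 17146 15622 (by decide +kernel)
theorem e3_c0 : edgeRange data 3 16930 0 = true := edgeRange_strict data 3 16930 0 (by decide +kernel)
theorem e3_c1 : edgeRange data 3 15838 16930 = true := edgeRange_strict data 3 15838 16930 (by decide +kernel)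
theorem e4_c0 : edgeRange data 4 15129 0 = true := edgeRange_strict data 4 15129 0 (by decide +kernel)
theorem e4_c1 : edgeRange data 4 17639 15129 = true := edgeRange_strict data 4 17639 15129 (by decide +kernel)
theorem e5_c0 : edgeRange data 5 16840 0 = true := edgeRange_strict data 5 16840 0 (by decide +kernel)
theorem e5_c1 : edgeRange data 5 15928 16840 = true := edgeRange_strict data 5 15928 16840 (by decide +kernel)
theorem m_c0 : mergeRange data 16936 0 = true := mergeRange_strict data 16936 0 (by decide +kernel)
theorem m_c1 : mergeRange data 15832 16936 = true := mergeRange_strict data 15832 16936 (by decide +kernel)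
theorem cnt0 : countFinal data 22537 0 0 = 3200 := countFinal_strict data 22537 0 0 3200 (by decide +kernel)
theorem rows0 : rowsRange data 22537 6286 0 = true := rowsRange_strict data 22537 6286 0 (by decide +kernel)
theorem rows1 : rowsRange data 22537 16251 6286 = true := rowsRange_strict data 22537 16251 6286 (by decide +kernel)
theorem words_ok : wordsCheck data bases subsL rots = true := by decide +kernel
theorem fin0_ok : isFinal data 0 = true := by decide +kernel

theorem allE0 : ∀ k, k < 32768 → justE data 0 k = true := by
  intro k hk
  by_cases hh1 : k < 15916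
  · skip
    exact edgeRange_sound data 0 15916 0 e0_c0 k (by omega) (by omega)
  · skip
    exact edgeRange_sound data 0 16852 15916 e0_c1 k (by omega) (by omega)

theorem allE1 : ∀ k, k < 32768 → justE data 1 k = true := by
  intro k hk
  by_cases hh1 : k < 17080
  · skip
    exact edgeRange_sound data 1 17080 0 e1_c0 k (by omega) (by omega)
  · skip
    exact edgeRange_sound data 1 15688 17080 e1_c1 k (by omega) (by omega)

theorem allE2 : ∀ k, k < 32768 → justE data 2 k = true := by
  intro k hk
  by_cases hh1 : k < 15622
  · skip
    exact edgeRange_sound data 2 15622 0 e2_c0 k (by omega) (by omega)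
  · skip
    exact edgeRange_sound data 2 17146 15622 e2_c1 k (by omega) (by omega)

theorem allE3 : ∀ k, k < 32768 → justE data 3 k = true := by
  intro k hk
  by_cases hh1 : k < 16930
  · skip
    exact edgeRange_sound data 3 16930 0 e3_c0 k (by omega) (by omega)
  · skip
    exact edgeRange_sound data 3 15838 16930 e3_c1 k (by omega) (by omega)

theorem allE4 : ∀ k, k < 32768 → justE data 4 k = true := by
  intro k hk
  by_cases hh1 : k < 15129
  · skip
    exact edgeRange_sound data 4 15129 0 e4_c0 k (by omega) (by omega)
  · skip
    exact edgeRange_sound data 4 17639 15129 e4_c1 k (by omega) (by omega)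

theorem allE5 : ∀ k, k < 32768 → justE data 5 k = true := by
  intro k hk
  by_cases hh1 : k < 16840
  · skip
    exact edgeRange_sound data 5 16840 0 e5_c0 k (by omega) (by omega)
  · skip
    exact edgeRange_sound data 5 15928 16840 e5_c1 k (by omega) (by omega)

theorem allE : ∀ c k, c < data.nc → k ≤ data.mask → justE data c k = true := by
  intro c k hc hk
  have hc' : c < 6 := hc
  have hk' : k < 32768 := Nat.lt_succ_of_le hk
  interval_cases c
  · exact allE0 k hk'
  · exact allE1 k hk'
  · exact allE2 k hk'
  · exact allE3 k hk'
  · exact allE4 k hk'
  · exact allE5 k hk'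

theorem allM : ∀ k, k ≤ data.mask → justM data k = true := by
  intro k hk
  have hk' : k < 32768 := Nat.lt_succ_of_le hk
  by_cases hh1 : k < 16936
  · skip
    exact mergeRange_sound data 16936 0 m_c0 k (by omega) (by omega)
  · skip
    exact mergeRange_sound data 15832 16936 m_c1 k (by omega) (by omega)

theorem rows_all : ∀ k, k < M → isFinal data k = true → rowOK data M k data.nc = true := by
  intro k hk
  have hk' : k < 22537 := hk
  by_cases hh1 : k < 6286
  · skip
    exact rowsRange_sound data M 6286 0 rows0 k (by omega) (by omega)
  · skip
    exact rowsRange_sound data M 16251 6286 rows1 k (by omega) (by omega)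

theorem cnt_ok : countFinal data M 0 0 = n := by
  exact cnt0

/-- the index of the subgroup generated by `subsL` in the group with relators `bases` -/
theorem bound : Finite (PresentedGroup (relSet TitsPP1755.dec bases) ⧸ (Subgroup.closure (relSet TitsPP1755.dec subsL)).map (PresentedGroup.mk (relSet TitsPP1755.dec bases))) ∧
    Nat.card (PresentedGroup (relSet TitsPP1755.dec bases) ⧸ (Subgroup.closure (relSet TitsPP1755.dec subsL)).map (PresentedGroup.mk (relSet TitsPP1755.dec bases))) ≤ n :=
  tc_bound data bases subsL rots TitsPP1755.coding (mem_relSet bases) (mem_relSet subsL) words_ok allE allM M n fin0_ok (by decide) (by decide) cnt_ok rows_all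

end Cfsg.Agent.Helper4.TC.TitsK5Z0
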