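import Cfsg.Agent.Lib.Helper4.TC.TitsK2Z0B
import Cfsg.Agent.Lib.Helper4.TC.TitsW2Z0B
import Cfsg.Agent.Lib.Helper4.TC.TitsW2Z1B
import Cfsg.Agent.Lib.Helper4.TC.Schur

set_option autoImplicit false
set_option maxRecDepth 100000
set_option linter.unusedVariables false

namespace Cfsg.Agent.Helper4.TC.TitsSD2

open Cfsg.Agent.Helper4.TC

def exactL : List (List ℕ) := [[0, 0, 0],
  [2, 0, 2, 0, 2, 0, 2, 0, 2, 0, 2, 0, 2, 0, 2, 0, 2, 0, 2, 0, 2, 0, 2, 0, 2, 0],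
  [2, 0, 2, 0, 2, 1, 2, 5]]
def centL : List (List ℕ) := [[2, 2],
  [3, 1, 2, 0, 3, 1, 2, 0, 3, 1, 2, 0, 3, 1, 2, 0, 3, 1, 2, 0],
  [3, 1, 3, 1, 2, 0, 2, 0, 3, 1, 3, 1, 2, 0, 2, 0, 3, 1, 3, 1, 2, 0, 2, 0, 3, 1, 3, 1, 2, 0, 2, 0],
  [2, 0, 2, 0, 2, 0, 2, 0, 2, 1, 2, 0, 2, 0, 2, 0, 2, 0, 2, 1, 2, 0, 2, 0, 2, 0, 2, 0, 2, 1, 2, 0, 2, 0, 2, 0, 2, 0, 2, 1, 2, 0, 2, 0, 2, 0, 2, 0, 2, 1, 2, 0, 2, 0, 2, 0, 2, 0, 2, 1],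
  [4, 4, 4],
  [0, 5, 0, 5, 0, 5, 0, 5],
  [0, 4, 0, 4, 0, 4, 0, 4, 0, 4, 0, 4, 0, 4, 0, 4],
  [0, 4, 0, 4, 0, 5, 1, 5, 1, 4, 0, 4, 0, 4, 1, 5, 1, 5, 1, 5]]
def gensL : List (List ℕ) := [[0], [2]]
def pwL : List (List ℕ) := [[0, 0, 0],
  [2, 2, 2]]
def centHL : List (List ℕ) := [[0, 3, 0, 3, 0, 3, 0, 3],
  [0, 2, 0, 2, 0, 2, 0, 2, 0, 2, 0, 2, 0, 2, 0, 2],
  [0, 2, 0, 2, 0, 3, 1, 3, 1, 2, 0, 2, 0, 2, 1, 3, 1, 3, 1, 3]]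
def gensHL : List (List ℕ) := [[0], [2]]
def ups : Cfsg.Agent.Helper4.Pres.L33W.Gen → List ℕ
  | .u => [0]
  | .v => [4, 4, 4, 4]

theorem hbK : TitsK2Z0.bases = exactL ++ Schur.weakify 2 gensL centL := by decide +kernel
theorem hsK : TitsK2Z0.subsL = [ups .u, ups .v] := by decide +kernel
theorem hbW : TitsW2Z0.bases = pwL ++ Schur.weakify 2 gensHL centHL := by decide +kernel
theorem hcentL : ∀ ρ ∈ centL, ρ ∈ TitsPP1755.bases := by decide +kernel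
theorem hexactL : ∀ ρ ∈ exactL, ρ ∈ TitsPP1755.bases := by decide +kernel

theorem chk : ∀ b ∈ centHL, fixesB TitsPP1755.mdata [0, 1, 3] (substW ups L33WCod.dec b) = true := by decide +kernel

theorem cardW1 : Finite (PresentedGroup (relSet L33WCod.dec TitsW2Z1.bases)) ∧ Nat.card (PresentedGroup (relSet L33WCod.dec TitsW2Z1.bases)) ≤ 3 := by
  refine stage_bot _ _ ?_ _ TitsW2Z1.bound
  rintro s ⟨b, hb, _⟩
  simp [TitsW2Z1.subsL] at hb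

theorem cardW0 : Finite (PresentedGroup (relSet L33WCod.dec TitsW2Z0.bases)) ∧ Nat.card (PresentedGroup (relSet L33WCod.dec TitsW2Z0.bases)) ≤ 5616 := by
  have h := stage_bound (relSet L33WCod.dec TitsW2Z0.bases) (relSet L33WCod.dec TitsW2Z1.bases) (relSet L33WCod.dec TitsW2Z0.subsL) TitsW2Z0.bases TitsW2Z1.bases TitsW2Z0.subsL
    (fun x : Cfsg.Agent.Helper4.Pres.L33W.Gen => decide (x ∈ ([.u] : List Cfsg.Agent.Helper4.Pres.L33W.Gen))) (mem_relSet _) (fun r hr => hr) (fun s hs => hs) (by decide +kernel) (by decide +kernel) TitsW2Z0.n 3 TitsW2Z0.bound cardW1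
  exact ⟨h.1, h.2.trans (by decide)⟩

end Cfsg.Agent.Helper4.TC.TitsSD2
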