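import Cfsg.Agent.Lib.Helper4.TC.TitsPSMain
import Cfsg.Agent.Lib.Helper4.TC.L33WCod
import Cfsg.Agent.Lib.Helper4.TC.Schur

set_option autoImplicit false
set_option maxRecDepth 100000
set_option linter.unusedVariables false
set_option linter.style.haveILetI false

/-! Common facts for the stem extensions of the presented Tits group. -/

namespace Cfsg.Agent.Helper4.TC.TitsSchurLib

open Cfsg Cfsg.Agent.Helper4.TC
open Cfsg.Agent.Helper4.Pres.Tits (Gen)

abbrev P : Type := PresentedGroup TitsPP1755.Rset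
abbrev dec : ℕ → Letter Gen := TitsPP1755.dec

export Cfsg.Agent.Helper4.TC.Schur (map_pow_lift)

theorem rel_one (b : List ℕ) (hb : b ∈ TitsPP1755.bases) :
    evc (PresentedGroup.of (rels := TitsPP1755.Rset)) dec b = 1 := by
  rw [evc_of]
  exact PresentedGroup.one_of_mem (TitsPP1755.hR2 b hb)

section Ev

variable {Q : Type*} [Group Q] (f : Gen → Q)

theorem evc1 (c : ℕ) : evc f dec [c] = gl f (dec c) := by
  rw [evc_cons, evc_nil, one_mul]

theorem evc2 (c d : ℕ) : evc f dec [c, d] = gl f (dec d) * gl f (dec c) := by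
  rw [evc_cons, evc1]

theorem evc_ydef : evc f dec [2, 0, 2, 0, 2, 1, 2, 5] =
    1 * (f .y)⁻¹ * f .a * (f .b)⁻¹ * f .a * f .b * f .a * f .b * f .a := rfl

theorem evcW1 (h : Cfsg.Agent.Helper4.Pres.L33W.Gen → Q) (c : ℕ) :
    evc h L33WCod.dec [c] = gl h (L33WCod.dec c) := by
  rw [evc_cons, evc_nil, one_mul]

end Ev

theorem hA2 : (PresentedGroup.of Gen.a : P) ^ 2 = 1 := by
  have h := rel_one [2, 2] (by decide)
  rw [show ([2, 2] : List ℕ) = wpow [2] 2 from rfl, evc_wpow, evc1] at h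
  exact h

theorem hB3 : (PresentedGroup.of Gen.b : P) ^ 3 = 1 := by
  have h := rel_one [0, 0, 0] (by decide)
  rw [show ([0, 0, 0] : List ℕ) = wpow [0] 3 from rfl, evc_wpow, evc1] at h
  exact h

theorem hY3 : (PresentedGroup.of Gen.y : P) ^ 3 = 1 := by
  have h := rel_one [4, 4, 4] (by decide)
  rw [show ([4, 4, 4] : List ℕ) = wpow [4] 3 from rfl, evc_wpow, evc1] at h
  exact h

theorem hBA : ((PresentedGroup.of Gen.b : P) * PresentedGroup.of Gen.a) ^ 13 = 1 := by
  have h := rel_one [2, 0, 2, 0, 2, 0, 2, 0, 2, 0, 2, 0, 2, 0, 2, 0, 2, 0, 2, 0, 2, 0, 2, 0, 2, 0]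
    (by decide)
  rw [show ([2, 0, 2, 0, 2, 0, 2, 0, 2, 0, 2, 0, 2, 0, 2, 0, 2, 0, 2, 0, 2, 0, 2, 0, 2, 0] : List ℕ) =
    wpow [2, 0] 13 from rfl, evc_wpow, evc2] at h
  exact h

theorem hYB8 : ((PresentedGroup.of Gen.y : P) * PresentedGroup.of Gen.b) ^ 8 = 1 := by
  have h := rel_one [0, 4, 0, 4, 0, 4, 0, 4, 0, 4, 0, 4, 0, 4, 0, 4] (by decide)
  rw [show ([0, 4, 0, 4, 0, 4, 0, 4, 0, 4, 0, 4, 0, 4, 0, 4] : List ℕ) = wpow [0, 4] 8 from rfl,
    evc_wpow, evc2] at h
  exact h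

theorem hYiB4 : ((PresentedGroup.of Gen.y : P)⁻¹ * PresentedGroup.of Gen.b) ^ 4 = 1 := by
  have h := rel_one [0, 5, 0, 5, 0, 5, 0, 5] (by decide)
  rw [show ([0, 5, 0, 5, 0, 5, 0, 5] : List ℕ) = wpow [0, 5] 4 from rfl, evc_wpow, evc2] at h
  exact h

theorem hY : (PresentedGroup.of Gen.a : P) * (PresentedGroup.of Gen.b)⁻¹ * PresentedGroup.of Gen.a *
    PresentedGroup.of Gen.b * PresentedGroup.of Gen.a * PresentedGroup.of Gen.b *
    PresentedGroup.of Gen.a = PresentedGroup.of Gen.y := by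
  have h := rel_one [2, 0, 2, 0, 2, 1, 2, 5] (by decide)
  rw [evc_ydef] at h
  have h2 : (PresentedGroup.of Gen.y : P)⁻¹ * ((PresentedGroup.of Gen.a : P) *
      (PresentedGroup.of Gen.b)⁻¹ * PresentedGroup.of Gen.a * PresentedGroup.of Gen.b *
      PresentedGroup.of Gen.a * PresentedGroup.of Gen.b * PresentedGroup.of Gen.a) = 1 := by
    rw [← h]
    group
  exact (inv_mul_eq_one.mp h2).symm

/-- the relators of the auxiliary presentation hold for the images of its generators -/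
theorem hcH_of (centHL : List (List ℕ)) (ups : Cfsg.Agent.Helper4.Pres.L33W.Gen → List ℕ)
    (chk : ∀ b ∈ centHL, fixesB TitsPP1755.mdata [0, 1, 3] (substW ups L33WCod.dec b) = true) :
    ∀ ρ ∈ centHL, evc (fun k => PresentedGroup.mk TitsPP1755.Rset (wordF dec (ups k)))
      L33WCod.dec ρ = 1 := by
  obtain ⟨ψ, hψ⟩ := exists_hom_of_subst TitsPP1755.coding TitsPP1755.hR1 TitsPP1755.model_ok
    17971200 (by norm_num) TitsPS.card_top TitsPS.specs TitsPS.levels_ok (by decide)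
    (relSet L33WCod.dec centHL) centHL (fun r hr => hr) ups [0, 1, 3] rfl chk
  intro ρ hρ
  have h1 : (fun k => PresentedGroup.mk TitsPP1755.Rset (wordF dec (ups k))) =
      fun k => ψ (PresentedGroup.of k) := funext fun k => (hψ k).symm
  rw [h1, ← Schur.map_evc ψ, evc_of, PresentedGroup.one_of_mem (mem_relSet centHL ρ hρ), map_one]

end Cfsg.Agent.Helper4.TC.TitsSchurLib
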