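import Cfsg.Agent.Lib.Helper4.TC.TitsSD3
import Cfsg.Agent.Lib.Helper4.TC.TitsSchurLib

set_option autoImplicit false
set_option maxRecDepth 100000
set_option linter.unusedVariables false
set_option linter.style.haveILetI false

/-! No stem extension of the Tits group has a kernel of order divisible by three. -/

namespace Cfsg.Agent.Helper4.TC.TitsSchur3

open Cfsg Cfsg.Agent.Helper4.TC Cfsg.Agent.Helper4.TC.TitsSchurLib
open Cfsg.Agent.Helper4.Pres.Tits (Gen)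
open Cfsg.Agent.Helper4.Pres (L33W.Gen)

theorem card_le {Γ : Type*} [Group Γ] [Finite Γ] (σ : Γ →* P) (hσ : IsStemExtension σ)
    (hexp : ∀ z ∈ σ.ker, z ^ 3 = 1) : Nat.card Γ ≤ 17971200 := by
  choose l hl using fun x : Gen => hσ.1 (PresentedGroup.of x)
  obtain ⟨ga, hgadef⟩ : ∃ ga, ga = (l .a) ^ 3 := ⟨_, rfl⟩
  have hga : σ ga = PresentedGroup.of Gen.a := by
    rw [hgadef, map_pow_lift σ (l .a) 2 3 (by rw [hl]; exact hA2) (by norm_num), hl]
  have hga2 : ga ^ 2 = 1 := by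
    rw [hgadef]
    exact Schur.pow_lift_eq_one σ 3 hexp (l .a) 2 3 (by rw [hl]; exact hA2) (by norm_num)
  obtain ⟨ζ, hζdef⟩ : ∃ ζ, ζ = (l .b * ga) ^ 13 := ⟨_, rfl⟩
  have hζk : ζ ∈ σ.ker := by rw [hζdef, MonoidHom.mem_ker, map_pow, map_mul, hga, hl, hBA]
  have hζc := hσ.2.1 hζk
  have hζ3 : ζ ^ 3 = 1 := hexp ζ hζk
  obtain ⟨gb, hgbdef⟩ : ∃ gb, gb = l .b * ζ ^ 2 := ⟨_, rfl⟩
  have hgb : σ gb = PresentedGroup.of Gen.b := by
    rw [hgbdef, map_mul, map_pow, hl, MonoidHom.mem_ker.mp hζk, one_pow, mul_one]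
  have hba13 : (gb * ga) ^ 13 = 1 := by
    have hz2 : ζ ^ 2 ∈ Subgroup.center Γ := Subgroup.pow_mem _ hζc 2
    have h1 : gb * ga = (l .b * ga) * ζ ^ 2 := by
      rw [hgbdef, mul_assoc, mul_assoc, Subgroup.mem_center_iff.mp hz2 ga]
    have hc : Commute (l .b * ga) (ζ ^ 2) := Subgroup.mem_center_iff.mp hz2 (l .b * ga)
    rw [h1, hc.mul_pow, ← hζdef, ← pow_mul, ← pow_succ']
    calc ζ ^ 27 = (ζ ^ 3) ^ 9 := pow_mul ζ 3 9
      _ = 1 := by rw [hζ3, one_pow]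
  obtain ⟨gy, hgydef⟩ : ∃ gy, gy = ga * gb⁻¹ * ga * gb * ga * gb * ga := ⟨_, rfl⟩
  have hgy : σ gy = PresentedGroup.of Gen.y := by
    rw [hgydef]
    simp only [map_mul, map_inv, hga, hgb]
    exact hY
  let g : Gen → Γ := fun x => match x with
    | .b => gb
    | .a => ga
    | .y => gy
  have hg : ∀ x, σ (g x) = PresentedGroup.of x := by
    intro x
    cases x
    · exact hgb
    · exact hga
    · exact hgy
  have hex : ∀ b ∈ TitsSD3.exactL, evc g dec b = 1 := by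
    intro b hb
    simp only [TitsSD3.exactL, List.mem_cons, List.not_mem_nil, or_false] at hb
    rcases hb with rfl | rfl | rfl
    · rw [show ([2, 2] : List ℕ) = wpow [2] 2 from rfl, evc_wpow, evc1]
      exact hga2
    · rw [show ([2, 0, 2, 0, 2, 0, 2, 0, 2, 0, 2, 0, 2, 0, 2, 0, 2, 0, 2, 0, 2, 0, 2, 0, 2, 0] :
        List ℕ) = wpow [2, 0] 13 from rfl, evc_wpow, evc2]
      exact hba13
    · rw [evc_ydef]
      show 1 * gy⁻¹ * ga * gb⁻¹ * ga * gb * ga * gb * ga = 1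
      rw [hgydef]
      group
  have hK := TitsK3Z0.bound
  rw [TitsSD3.hbK, TitsSD3.hsK] at hK
  have hW := TitsSD3.cardW0
  rw [TitsSD3.hbW] at hW
  have hcH := hcH_of TitsSD3.centHL TitsSD3.ups TitsSD3.chk
  refine (Schur.card_le_of_weak TitsPP1755.coding σ hσ 3 hexp g hg TitsSD3.exactL TitsSD3.centL
    TitsSD3.gensL [TitsSD3.ups .u, TitsSD3.ups .v] hex
    (fun ρ hρ => TitsPP1755.hR2 ρ (TitsSD3.hcentL ρ hρ)) 3200 hK L33WCod.coding TitsSD3.pwL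
    TitsSD3.centHL TitsSD3.gensHL 5616 hW TitsSD3.ups ?_ ?_ hcH).trans (by norm_num)
  · intro s hs
    simp only [List.mem_cons, List.not_mem_nil, or_false] at hs
    rcases hs with rfl | rfl
    · exact ⟨.u, rfl⟩
    · exact ⟨.v, rfl⟩
  · intro b hb
    simp only [TitsSD3.pwL, List.mem_cons, List.not_mem_nil, or_false] at hb
    rcases hb with rfl | rfl
    · rw [show ([0, 0, 0, 0, 0, 0, 0, 0] : List ℕ) = wpow [0] 8 from rfl, evc_wpow, evcW1]
      show (evc g dec [0, 4, 0, 4, 0, 4, 0, 4, 0, 4, 0, 4, 0, 4, 0, 4, 0, 4]) ^ 8 = 1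
      rw [show ([0, 4, 0, 4, 0, 4, 0, 4, 0, 4, 0, 4, 0, 4, 0, 4, 0, 4] : List ℕ) =
        wpow [0, 4] 9 from rfl, evc_wpow, evc2]
      exact Schur.pow_lift_eq_one σ 3 hexp (gy * gb) 8 9
        (by rw [map_mul, hgy, hgb]; exact hYB8) (by norm_num)
    · rw [show ([2, 2, 2, 2] : List ℕ) = wpow [2] 4 from rfl, evc_wpow, evcW1]
      show (evc g dec [0, 5, 0, 5, 0, 5, 0, 5, 0, 5, 0, 5, 0, 5, 0, 5, 0, 5]) ^ 4 = 1
      rw [show ([0, 5, 0, 5, 0, 5, 0, 5, 0, 5, 0, 5, 0, 5, 0, 5, 0, 5] : List ℕ) =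
        wpow [0, 5] 9 from rfl, evc_wpow, evc2]
      exact Schur.pow_lift_eq_one σ 3 hexp (gy⁻¹ * gb) 4 9
        (by rw [map_mul, map_inv, hgy, hgb]; exact hYiB4) (by norm_num)

end Cfsg.Agent.Helper4.TC.TitsSchur3
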