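import Cfsg.Agent.Lib.Helper4.TC.TitsSD5
import Cfsg.Agent.Lib.Helper4.TC.TitsSchurLib

set_option autoImplicit false
set_option maxRecDepth 100000
set_option linter.unusedVariables false
set_option linter.style.haveILetI false

/-! No stem extension of the Tits group has a kernel of order divisible by five. -/

namespace Cfsg.Agent.Helper4.TC.TitsSchur5

open Cfsg Cfsg.Agent.Helper4.TC Cfsg.Agent.Helper4.TC.TitsSchurLib
open Cfsg.Agent.Helper4.Pres.Tits (Gen)
open Cfsg.Agent.Helper4.Pres (L33W.Gen)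

theorem card_le {Γ : Type*} [Group Γ] [Finite Γ] (σ : Γ →* P) (hσ : IsStemExtension σ)
    (hexp : ∀ z ∈ σ.ker, z ^ 5 = 1) : Nat.card Γ ≤ 17971200 := by
  choose l hl using fun x : Gen => hσ.1 (PresentedGroup.of x)
  obtain ⟨ga, hgadef⟩ : ∃ ga, ga = (l .a) ^ 5 := ⟨_, rfl⟩
  have hga : σ ga = PresentedGroup.of Gen.a := by
    rw [hgadef, map_pow_lift σ (l .a) 2 5 (by rw [hl]; exact hA2) (by norm_num), hl]
  have hga2 : ga ^ 2 = 1 := by
    rw [hgadef]
    exact Schur.pow_lift_eq_one σ 5 hexp (l .a) 2 5 (by rw [hl]; exact hA2) (by norm_num)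
  obtain ⟨gb, hgbdef⟩ : ∃ gb, gb = (l .b) ^ 10 := ⟨_, rfl⟩
  have hgb : σ gb = PresentedGroup.of Gen.b := by
    rw [hgbdef, map_pow_lift σ (l .b) 3 10 (by rw [hl]; exact hB3) (by norm_num), hl]
  have hgb3 : gb ^ 3 = 1 := by
    rw [hgbdef]
    exact Schur.pow_lift_eq_one σ 5 hexp (l .b) 3 10 (by rw [hl]; exact hB3) (by norm_num)
  obtain ⟨gy, hgydef⟩ : ∃ gy, gy = ga * gb⁻¹ * ga * gb * ga * gb * ga := ⟨_, rfl⟩
  have hgy : σ gy = PresentedGroup.of Gen.y := by
    rw [hgydef]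
    simp only [map_mul, map_inv, hga, hgb]
    exact hY
  let g : Gen → Γ := fun x => match x with
    | .b => gb
    | .a => ga
    | .y => gy
  have hg : ∀ x, σ (g x) = PresentedGroup.of x := by
    intro x
    cases x
    · exact hgb
    · exact hga
    · exact hgy
  have hex : ∀ b ∈ TitsSD5.exactL, evc g dec b = 1 := by
    intro b hb
    simp only [TitsSD5.exactL, List.mem_cons, List.not_mem_nil, or_false] at hb
    rcases hb with rfl | rfl | rfl
    · rw [show ([2, 2] : List ℕ) = wpow [2] 2 from rfl, evc_wpow, evc1]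
      exact hga2
    · rw [show ([0, 0, 0] : List ℕ) = wpow [0] 3 from rfl, evc_wpow, evc1]
      exact hgb3
    · rw [evc_ydef]
      show 1 * gy⁻¹ * ga * gb⁻¹ * ga * gb * ga * gb * ga = 1
      rw [hgydef]
      group
  have hK := TitsK5Z0.bound
  rw [TitsSD5.hbK, TitsSD5.hsK] at hK
  have hW := TitsSD5.cardW0
  rw [TitsSD5.hbW] at hW
  have hcH := hcH_of TitsSD5.centHL TitsSD5.ups TitsSD5.chk
  refine (Schur.card_le_of_weak TitsPP1755.coding σ hσ 5 hexp g hg TitsSD5.exactL TitsSD5.centL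
    TitsSD5.gensL [TitsSD5.ups .u, TitsSD5.ups .v] hex
    (fun ρ hρ => TitsPP1755.hR2 ρ (TitsSD5.hcentL ρ hρ)) 3200 hK L33WCod.coding TitsSD5.pwL
    TitsSD5.centHL TitsSD5.gensHL 5616 hW TitsSD5.ups ?_ ?_ hcH).trans (by norm_num)
  · intro s hs
    simp only [List.mem_cons, List.not_mem_nil, or_false] at hs
    rcases hs with rfl | rfl
    · exact ⟨.u, rfl⟩
    · exact ⟨.v, rfl⟩
  · intro b hb
    simp only [TitsSD5.pwL, List.mem_cons, List.not_mem_nil, or_false] at hb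
    rcases hb with rfl | rfl
    · rw [show ([0, 0, 0] : List ℕ) = wpow [0] 3 from rfl, evc_wpow, evcW1]
      show (evc g dec [0]) ^ 3 = 1
      rw [evc1]
      exact hgb3
    · rw [show ([2, 2, 2] : List ℕ) = wpow [2] 3 from rfl, evc_wpow, evcW1]
      show (evc g dec [4, 4, 4, 4, 4, 4, 4, 4, 4, 4]) ^ 3 = 1
      rw [show ([4, 4, 4, 4, 4, 4, 4, 4, 4, 4] : List ℕ) = wpow [4] 10 from rfl, evc_wpow, evc1]
      exact Schur.pow_lift_eq_one σ 5 hexp gy 3 10 (by rw [hgy]; exact hY3) (by norm_num)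

end Cfsg.Agent.Helper4.TC.TitsSchur5
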