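import Cfsg.Agent.Lib.Helper4.TC.TitsSchur2
import Cfsg.Agent.Lib.Helper4.TC.TitsSchur3
import Cfsg.Agent.Lib.Helper4.TC.TitsSchur5
import Cfsg.Agent.Lib.Helper4.TC.TitsMain
import Cfsg.Agent.S2117
import Cfsg.Agent.Lib.Helper21.StemExt

set_option autoImplicit false
set_option maxRecDepth 100000
set_option maxHeartbeats 0
set_option linter.unusedVariables false
set_option linter.style.haveILetI false

/-! The Schur multiplier of the Tits group is trivial. -/

namespace Cfsg.Agent.Helper4.TC.TitsSchurMain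

open Cfsg Cfsg.Agent.Helper4.TC Cfsg.Agent.Helper4.TC.TitsSchurLib

theorem card_P : Nat.card P = 17971200 := TitsPS.main.2

instance : Finite P := TitsPS.card_top.1

theorem ker_trivial_of_exp (p : ℕ) (hp : p = 2 ∨ p = 3 ∨ p = 5) {Γ : Type*} [Group Γ] [Finite Γ]
    (σ : Γ →* P) (hσ : IsStemExtension σ) (hexp : ∀ z ∈ σ.ker, z ^ p = 1) :
    ∀ z ∈ σ.ker, z = 1 := by
  have hle : Nat.card Γ ≤ 17971200 := by
    rcases hp with rfl | rfl | rfl
    · exact TitsSchur2.card_le σ hσ hexp
    · exact TitsSchur3.card_le σ hσ hexp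
    · exact TitsSchur5.card_le σ hσ hexp
  have h1 : Nat.card σ.ker * 17971200 = Nat.card Γ := by
    rw [← Subgroup.card_mul_index σ.ker, Subgroup.index_ker, MonoidHom.range_eq_top.mpr hσ.1,
      Subgroup.card_top, card_P]
  have hpos : 0 < Nat.card σ.ker := Nat.card_pos
  have h2 : Nat.card σ.ker = 1 := by nlinarith
  intro z hz
  have h3 := Subgroup.card_eq_one.mp h2
  rw [h3, Subgroup.mem_bot] at hz
  exact hz

theorem factorization_le_one {r : ℕ} (hr : r.Prime) (h235 : ¬ (r = 2 ∨ r = 3 ∨ r = 5)) :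
    (17971200 : ℕ).factorization r ≤ 1 := by
  by_contra hlt
  push Not at hlt
  have hd : r ^ 2 ∣ 17971200 :=
    (hr.pow_dvd_iff_le_factorization (by norm_num)).mpr hlt
  have hr1 : r ∣ 13 * (2 ^ 11 * (3 ^ 3 * 5 ^ 2)) := by
    refine dvd_trans (dvd_pow_self r two_ne_zero) (dvd_trans hd ?_)
    norm_num
  have h13 : r = 13 := by
    rcases hr.dvd_mul.mp hr1 with h | h
    · exact (Nat.prime_dvd_prime_iff_eq hr (by norm_num)).mp h
    · exfalso
      apply h235
      rcases hr.dvd_mul.mp h with h | h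
      · exact Or.inl ((Nat.prime_dvd_prime_iff_eq hr Nat.prime_two).mp (hr.dvd_of_dvd_pow h))
      · rcases hr.dvd_mul.mp h with h | h
        · exact Or.inr (Or.inl ((Nat.prime_dvd_prime_iff_eq hr Nat.prime_three).mp
            (hr.dvd_of_dvd_pow h)))
        · exact Or.inr (Or.inr ((Nat.prime_dvd_prime_iff_eq hr Nat.prime_five).mp
            (hr.dvd_of_dvd_pow h)))
  subst h13
  norm_num at hd

theorem other_case {Γ : Type} [Group Γ] [Finite Γ] (σ : Γ →* P) (hσ : IsStemExtension σ)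
    (r : ℕ) [Fact r.Prime] (h235 : ¬ (r = 2 ∨ r = 3 ∨ r = 5))
    (R : Sylow r Γ) (z : Γ) (hzR : z ∈ (R : Subgroup Γ)) (hzk : z ∈ σ.ker) : z = 1 := by
  have hr : r.Prime := Fact.out
  have hsurj := hσ.1
  have hT : ((R.mapSurjective hsurj : Sylow r P) : Subgroup P) =
      (R : Subgroup Γ).map σ := Sylow.coe_mapSurjective hsurj R
  have hTcard := (R.mapSurjective hsurj).card_eq_multiplicity
  rw [card_P] at hTcard
  have hf := factorization_le_one hr h235
  have hcyc : IsCyclic ((R : Subgroup Γ).map σ) := by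
    rw [← hT]
    have h01 : (17971200 : ℕ).factorization r = 0 ∨ (17971200 : ℕ).factorization r = 1 := by omega
    rcases h01 with h0 | h1
    · rw [h0, pow_zero] at hTcard
      haveI : Subsingleton ↥((R.mapSurjective hsurj : Sylow r P) : Subgroup P) :=
        (Nat.card_eq_one_iff_unique.mp hTcard).1
      exact isCyclic_of_subsingleton
    · rw [h1, pow_one] at hTcard
      exact isCyclic_of_prime_card hTcard
  obtain ⟨τ, hτ, hτker⟩ := Cfsg.Agent.S2117.sylow_stem σ hσ r R (MulEquiv.refl _)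
  have hbot := Cfsg.Agent.S2117.ker_eq_bot_of_cyclic τ hτ
  have hmem : (⟨z, hzR⟩ : (R : Subgroup Γ)) ∈ τ.ker := (hτker _).mpr hzk
  rw [hbot, Subgroup.mem_bot] at hmem
  exact congrArg Subtype.val hmem

theorem ker_eq_bot {Γ : Type} [Group Γ] [Finite Γ] (σ : Γ →* P) (hσ : IsStemExtension σ) :
    σ.ker = ⊥ := by
  classical
  by_contra hne
  have hcard : Nat.card σ.ker ≠ 1 := fun h => hne (Subgroup.card_eq_one.mp h)
  obtain ⟨r, hr, hrdvd⟩ := Nat.exists_prime_and_dvd hcard
  haveI : Fact r.Prime := ⟨hr⟩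
  by_cases h235 : r = 2 ∨ r = 3 ∨ r = 5
  · obtain ⟨Γ', _, _, σ', hσ', hexp', z, hz, hz1⟩ := Schur.exists_stem_exponent σ hσ r hrdvd
    exact hz1 (ker_trivial_of_exp r h235 σ' hσ' hexp' z hz)
  · refine Cfsg.Agent.S2117.not_dvd_of_sylow_trivial σ r ?_ hrdvd
    intro R a haR haker
    exact other_case σ hσ r h235 R a haR haker

open Cfsg.Agent.Helper4.TC.TitsMain in
/-- the Tits group is the presented group -/
theorem exists_iso : Nonempty (Cfsg.Lie.TitsGroup ≃* TitsSchurLib.P) := by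
  haveI : IsSimpleGroup TitsMain.P := TitsPS.main.1
  haveI : Finite TitsMain.P := TitsPS.card_top.1
  obtain ⟨θ, hθ⟩ := TitsMain.exists_theta
  haveI : Finite ↥TitsMain.G := Nat.finite_of_card_ne_zero (by rw [TitsMain.card_G]; norm_num)
  have hna : ∃ a b : TitsMain.P, a * b ≠ b * a :=
    not_comm_of_simple_of_not_prime (by rw [TitsPS.main.2]; norm_num)
  have hperf : commutator TitsMain.P = ⊤ := commutator_eq_top_of_simple hna
  have hcr : Nat.card θ.range = 17971200 := by
    rw [← TitsPS.main.2]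
    exact Nat.card_congr (MonoidHom.ofInjective hθ).symm.toEquiv
  have hidx : θ.range.index = 2 := by
    have h1 := θ.range.card_mul_index
    rw [hcr, TitsMain.card_G] at h1
    omega
  have hc := commutator_eq_range_of_index_two θ hperf hidx
  exact ⟨(MulEquiv.subgroupCongr hc).trans (MonoidHom.ofInjective hθ).symm⟩

theorem main : Cfsg.HasCyclicSchurMultiplier Cfsg.Lie.TitsGroup 1 := by
  obtain ⟨e⟩ := exists_iso
  haveI : Finite Cfsg.Lie.TitsGroup := Finite.of_equiv P e.symm.toEquiv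
  apply Cfsg.Agent.Lib.Helper21.hasCyclicSchurMultiplier_one_of
  intro Γ _ _ σ hσ
  have hk : (e.toMonoidHom.comp σ).ker = σ.ker := by
    ext x
    simp [MonoidHom.mem_ker]
  have hσ' : IsStemExtension (e.toMonoidHom.comp σ) := by
    refine ⟨e.surjective.comp hσ.1, ?_, ?_⟩
    · rw [hk]; exact hσ.2.1
    · rw [hk]; exact hσ.2.2
  rw [← hk]
  exact ker_eq_bot _ hσ'

end Cfsg.Agent.Helper4.TC.TitsSchurMain
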