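import Cfsg.Agent.Lib.Helper4.TC.Timed

set_option autoImplicit false
set_option maxRecDepth 100000
set_option linter.unusedVariables false

namespace Cfsg.Agent.Helper4.TC.TitsW5Z1

open Cfsg.Agent.Helper4.TC

def e0_0 : ℕ := 0x240001100409001
def j0_0 : ℕ := 0x20000000300000001
noncomputable def ecol0 (b : ℕ) : ℕ := e0_0
noncomputable def jcol0 (b : ℕ) : ℕ := j0_0

def e1_0 : ℕ := 0x200041200009002
def j1_0 : ℕ := 0xd0000000200000001
noncomputable def ecol1 (b : ℕ) : ℕ := e1_0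
noncomputable def jcol1 (b : ℕ) : ℕ := j1_0

def e2_0 : ℕ := 0x1e401572008f9003
def j2_0 : ℕ := 0x10000000100000001
noncomputable def ecol2 (b : ℕ) : ℕ := e2_0
noncomputable def jcol2 (b : ℕ) : ℕ := j2_0

def e3_0 : ℕ := 0x12004090010480000a0080900206800
def j3_0 : ℕ := 0x200000002000000020000002e000000260000001e
noncomputable def ecol3 (b : ℕ) : ℕ := e3_0
noncomputable def jcol3 (b : ℕ) : ℕ := j3_0

def m_0 : ℕ := 0x8011c0101001580102000f00002000000800000000800000000
def jm_0 : ℕ := 0x110000001100000011000000000000000000000000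

noncomputable def mgT (b : ℕ) : ℕ := m_0
noncomputable def jmT (b : ℕ) : ℕ := jm_0
noncomputable def eT (c b : ℕ) : ℕ := Bool.rec (motive := fun _ => ℕ) (Bool.rec (motive := fun _ => ℕ) (ecol0 b) (ecol1 b) (Nat.ble 1 c)) (Bool.rec (motive := fun _ => ℕ) (ecol2 b) (ecol3 b) (Nat.ble 3 c)) (Nat.ble 2 c)
noncomputable def jT (c b : ℕ) : ℕ := Bool.rec (motive := fun _ => ℕ) (Bool.rec (motive := fun _ => ℕ) (jcol0 b) (jcol1 b) (Nat.ble 1 c)) (Bool.rec (motive := fun _ => ℕ) (jcol2 b) (jcol3 b) (Nat.ble 3 c)) (Nat.ble 2 c)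

def rw0 : List ℕ := [0, 0, 0]
def rw1 : List ℕ := [2]
noncomputable def relW (i : ℕ) : List ℕ := Bool.rec (motive := fun _ => List ℕ) (rw0) (rw1) (Nat.ble 1 i)
noncomputable def subW (i : ℕ) : List ℕ := []

noncomputable def data : Data where
  w := 11
  mask := 2047
  tw := 5
  tmask := 31
  hsh := 16
  lsh := 27
  ew := 21
  emask := 2097151
  mw := 35
  mmask := 34359738367
  jw := 32
  jmask := 4294967295
  bsh := 11
  bmask := 2047
  nc := 4
  fuel := 3
  E := eT
  J := jT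
  Mg := mgT
  JM := jmT
  relW := relW
  nrot := 2
  subW := subW
  nsub := 0

def M : ℕ := 6
def n : ℕ := 3

def bases : List (List ℕ) := [
  [0, 0, 0],
  [2]
]

def rots : List (ℕ × ℕ) := [(0, 0), (1, 0)]

def subsL : List (List ℕ) := [

]

end Cfsg.Agent.Helper4.TC.TitsW5Z1
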