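import Cfsg.Agent.Lib.Helper4.TC.Model

set_option autoImplicit false
set_option maxRecDepth 100000
set_option linter.unusedVariables false

namespace Cfsg.Agent.Helper4.TC.U33PB28

open Cfsg.Agent.Helper4.TC

def t0_0 : ℕ := 0x1a4b5bb54e5e8d9b131443ce204e1b64641
noncomputable def tcol0 (b : ℕ) : ℕ := t0_0
def t1_0 : ℕ := 0x24a0dbbf0c30445552c39d74b4c72eda007
noncomputable def tcol1 (b : ℕ) : ℕ := t1_0
def t2_0 : ℕ := 0x3cd4e5d932d52117e0a0be6a4d89a81982c
noncomputable def tcol2 (b : ℕ) : ℕ := t2_0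
def t3_0 : ℕ := 0x3cd4e5d932d52117e0a0be6a4d89a81982c
noncomputable def tcol3 (b : ℕ) : ℕ := t3_0
def a_0 : ℕ := 0x10202b1c040c02b2000502aa80010067501060282c0018020f000302724040801ac0004026e80408018101060159800180579000500528040c0114000501460000408e000050034c041000b500020129c0410088400010120004140473010600164000c045b0102010b00014002800010000000000000
noncomputable def auxT (b : ℕ) : ℕ := a_0
noncomputable def tmT (c b : ℕ) : ℕ := Bool.rec (motive := fun _ => ℕ) (Bool.rec (motive := fun _ => ℕ) (tcol0 b) (tcol1 b) (Nat.ble 1 c)) (Bool.rec (motive := fun _ => ℕ) (tcol2 b) (tcol3 b) (Nat.ble 3 c)) (Nat.ble 2 c)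

noncomputable def mdata : MData where
  n := 28
  w := 5
  mask := 31
  aw := 34
  amask := 17179869183
  s1 := 5
  s2 := 10
  s3 := 18
  s4 := 26
  bsh := 11
  bmask := 2047
  nc := 4
  T := tmT
  A := auxT

end Cfsg.Agent.Helper4.TC.U33PB28
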