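import Cfsg.Agent.Lib.Helper4.TC.Timed

set_option autoImplicit false
set_option maxRecDepth 100000
set_option linter.unusedVariables false

namespace Cfsg.Agent.Helper4.TC.U33PB28

open Cfsg.Agent.Helper4.TC

def e0_0 : ℕ := 0xb4140000000002e04a00860902cf41887c202200000000108080000000159f033008403c0000000013c0f801482500190482b080689e101a80420191f84064010805c00000010c202d008402c13080a86e10148042014008404e230804c02100912c2023398404201080404e100e804201b00000003b080600194068042015000000001080280210040042011006b01c010800002040239c20070000000f30801400000000420030084018010802c0210010042001
def j0_0 : ℕ := 0xb000000000000012d000000130000003b000000020000000000000002000000000000019d0000000200000000000000130000019e0000019600000002000000010000000200000001000000020000000000000001000000020000000100000001000000020000000100000002000000020000000100000001000000020000000100000001000000000000000100000013000000010000000000000002000000020000000100000013000000020000030c000000020000000000000002000000000000000200000001000000010000000100000001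

noncomputable def ecol0 (b : ℕ) : ℕ := e0_0
noncomputable def jcol0 (b : ℕ) : ℕ := j0_0

end Cfsg.Agent.Helper4.TC.U33PB28
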