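import Cfsg.Agent.Lib.Helper4.TC.Perm

set_option autoImplicit false
set_option maxRecDepth 100000
set_option linter.unusedVariables false

namespace Cfsg.Agent.Helper4.TC.U33PS

open Cfsg.Agent.Helper4.TC

def l2_0 : ℕ := 0x4001abb010006a6800001a99000006960040015f70000057d8000015b5010005650000015930100055c8040011510000045400000112f0100043b8000010ed00000433000000cab01000322800000c890100031a000000c67010002118040008250000020900400040300000100800000001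
noncomputable def lT2 (b : ℕ) : ℕ := l2_0
noncomputable def ld2 : LData where
  cnt := 27
  pmask := 31
  dmask := 65535
  ew := 34
  emask := 17179869183
  s1 := 5
  s2 := 10
  s3 := 26
  bsh := 11
  bmask := 2047
  L := lT2

def W2 : List (List ℕ) := [
  [0, 0, 2, 1, 2],
  [0, 2, 1, 2, 1, 2, 0, 2]
]

def l3_0 : ℕ := 0x1000106c0800041a030001060040008360200020c0080008e900000101800000002
noncomputable def lT3 (b : ℕ) : ℕ := l3_0
noncomputable def ld3 : LData where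
  cnt := 8
  pmask := 31
  dmask := 65535
  ew := 34
  emask := 17179869183
  s1 := 5
  s2 := 10
  s3 := 26
  bsh := 11
  bmask := 2047
  L := lT3

def W3 : List (List ℕ) := [
  [0, 2, 0, 0, 2, 1, 1, 1, 1, 2, 0, 2, 1, 1, 2, 0, 1, 3, 1, 1, 1, 3, 0, 3, 1, 1, 3, 1, 3, 0, 3, 0, 3, 1, 3, 1, 3, 0, 3, 0, 3, 1, 3, 0, 3, 1, 1],
  [2, 0, 0, 2, 0, 0, 2, 1, 2, 1, 2, 1, 2, 0, 2, 1, 3, 0, 0, 3, 0, 3, 1, 1, 3, 0, 3, 1, 1, 3, 1, 3, 0, 3, 0, 3, 1, 3, 1, 3, 0, 3, 0, 3, 1],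
  [2, 1, 1, 1, 2, 0, 0, 2, 1, 2, 0, 0, 2, 0, 0, 0, 1, 3, 0, 3, 1, 1, 3, 0, 3, 1, 1, 3, 1, 3, 0, 3, 0, 3, 1, 3, 0, 3, 1, 1, 3, 0, 3, 1, 1],
  [2, 0, 2, 1, 1, 1, 1, 1, 2, 1, 1, 2, 0, 0, 2, 0, 0, 3, 0, 0]
]

end Cfsg.Agent.Helper4.TC.U33PS
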