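import Cfsg.Agent.Lib.Helper4.TC.U33PSLC

set_option autoImplicit false
set_option maxRecDepth 100000
set_option linter.unusedVariables false
set_option Elab.async false

namespace Cfsg.Agent.Helper4.TC.U33PS

open Cfsg.Agent.Helper4.TC

def xw : List ℕ := [0, 2]

end Cfsg.Agent.Helper4.TC.U33PS
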