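import Cfsg.Agent.Lib.Helper4.TC.Model

set_option autoImplicit false
set_option maxRecDepth 100000
set_option linter.unusedVariables false

namespace Cfsg.Agent.Helper4.TC.U35PB126

open Cfsg.Agent.Helper4.TC

def t0_0 : ℕ := 0x306ceda31fde7e3df9f9a6af757cb37aaf661deb7ba7cdeb1d6dcdb17874c2f78b0c86f79d94cb5c1d4eb3b9cb63153bea6ed1932ed212552b245d4a8104d3a6271cc5f486d1a2358501f9778ec5386e65a332a8d79f58a94204a311050278e1a305819426447871a2c4880c10100
noncomputable def tcol0 (b : ℕ) : ℕ := t0_0
def t1_0 : ℕ := 0x3c73ebb3a76e1ef1dcefbacddab9affca33f97a9bb65d7f326dfd8fa22e0cf0754ad6f78be90ea239cadb235854e1b0c4baf2dd2ae82a52c6d274d3a62446bd62141499583aef09bde6a31968dcbbc3c56018384aa11ac4110f5038f8c16fc53812cc3960c94284100ca021a04980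
noncomputable def tcol1 (b : ℕ) : ℕ := t1_0
def t2_0 : ℕ := 0x2d4fd88d017114eff4583ec185ea837b92b9f82494b2b64e6d5a6eb35a103bf4b713d2a411ed98abcf8b6f3a975b5d58431941271e225d2c4cd06731ca91590d5d7715f1cdfaa773c3b9c28c782067f485179295edb0c4d5ef0f16689f863aa5ce4486c606dc2f709b448717a0001
noncomputable def tcol2 (b : ℕ) : ℕ := t2_0
def t3_0 : ℕ := 0x2d4fd88d017114eff4583ec185ea837b92b9f82494b2b64e6d5a6eb35a103bf4b713d2a411ed98abcf8b6f3a975b5d58431941271e225d2c4cd06731ca91590d5d7715f1cdfaa773c3b9c28c782067f485179295edb0c4d5ef0f16689f863aa5ce4486c606dc2f709b448717a0001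
noncomputable def tcol3 (b : ℕ) : ℕ := t3_0
def a_0 : ℕ := 0x10900e3e004180786c010602dbb0001007668010902d4800420034f6010502d020041c032fb000701c7ec002806e79010600b7dc041406d69000a00b364041806bf7000902aabc041806a72010502a4180414068fa000502a3240020027cf0104019d0c040c0a6820006009b3404180266d000801973c04180654d01080193d40014024c9010800916c04200a3a60006018fb40410022e80006008b14042402160010700839c0024060bd01090081a8042401f4a0106007bac001c05e9b010a0179bc042401dbe01080275d8001c05d3201060173ac002409cbc01070271f0002001b360105026b78002401ab50108006908042009956010400630c0024058530106005f88001c057290105005b78001c056d1010302584c001c095c7010802551000200152a00050253a40420014310108014f580020053a40008004c980420052d2010a004930001c09229000600468c041c0916401080042b0001c090dd0008014038041808fc50107003cc8042804ec80008013ad8042004e460108013710001c08df30108013508001c08d6e01060132fc002804c9701080030d0041c00bb70008012e28041c08b670105022be8002000a9501080128d00420009980108012454001804923010802236c002400891010602218800200482a0109021ef4001c087f00109021de000200070e010702194400240861f000201160404180053f00080014280420004b800060213c8041c084120005000e1c0420083460003010c4c041c082b70007010a3c001000204010402061000100418b0108010424000c00102010402022c0008000810001020000000000000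
noncomputable def auxT (b : ℕ) : ℕ := a_0
noncomputable def tmT (c b : ℕ) : ℕ := Bool.rec (motive := fun _ => ℕ) (Bool.rec (motive := fun _ => ℕ) (tcol0 b) (tcol1 b) (Nat.ble 1 c)) (Bool.rec (motive := fun _ => ℕ) (tcol2 b) (tcol3 b) (Nat.ble 3 c)) (Nat.ble 2 c)

noncomputable def mdata : MData where
  n := 126
  w := 7
  mask := 127
  aw := 38
  amask := 274877906943
  s1 := 7
  s2 := 14
  s3 := 22
  s4 := 30
  bsh := 11
  bmask := 2047
  nc := 4
  T := tmT
  A := auxT

end Cfsg.Agent.Helper4.TC.U35PB126
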