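import Cfsg.Agent.Lib.Helper4.TC.Timed

set_option autoImplicit false
set_option maxRecDepth 100000
set_option linter.unusedVariables false

namespace Cfsg.Agent.Helper4.TC.U35PB126

open Cfsg.Agent.Helper4.TC

def e0_0 : ℕ := 0x2d8284016c14000b609e005b0448000e2b8000d15a00b607f0013c49800262b0006512000188880000000002d81c8016c0e20033077001cc3a80076230016c0de000000000000000008023c00000000000000005b035000000000000000005186c0006455802d8194004712600b60620009c54002d8184000000000b605d000000000000000016c0b000b6057000000012caa29c001e15200b605537b042e00000000000000000b60aa005b028802d81400000000001f89a0000000002d813800d30cc00b60a6005b025802d8294016c148006a8790000000002d8124feaa11a00b609f005b023a36d826c016c08a37b6099002a447002d810cbf6c12c00b60940032c3f002d8104016c1220000000002ec4200164214016c07a0000000000000020ed80ec00d10f471b608b000000000000000000000000b603629db043936d8218016c068bfb60828cdb019a1ed8204016c0640078063005b03e002d80c0016c0f000b602e005b03b002d81d0016c05800b6070005b037002d80a800e30ce00b606b005b014002d81a0016c04cebb60640000000002d8094016c048f7b605f00000000026a0e4016c044009883e88db02d002d8080016c0ac00b6054005b00f802d8078016c09e00b604d0000000002d8070016c09400b6048005b00d802d8068016c08800b60420000000002d8100016c03000b603c005b01d002d80e21f6c06e00b6035005b009002d80c64f6c05e00b602d005b008002d80a62f6c04e00b600e005b01180000000016c01a00000000054c0a802d802c016c03a00b600a005b00c802d805c016c01200b6013005b008802d803c016c00365b6007b0db00300000000016c01800b6005005b002002d800c016c00400b5800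
def j0_0 : ℕ := 0x20000000200000002000000020000005b0000000b000000020000009b0000000b00000033000000cb000000000000000200000002000003bd0000001b000000bb0000000200000000000000000000047d00000000000000000000000200000000000000000000009b0000000b000000020000053e000000020000000b00000002000000000000000200000000000000000000000200000002000000000000002b0000054d00000002000000430000000000000000000000010000000200000002000000000000001b00000000000000020000000b000000010000000200000001000000010000002b00000000000000020000046d00000001000000020000000100000002000000010000000b000000020000000100000001000000630000000200000001000000000000000b0000042d000000020000000000000000000000020000005b0000000100000000000000000000000000000002000000010000000100000002000000010000000200000001000000020000031d0000000100000002000000010000000200000001000000010000000200000001000000010000000200000043000000010000000200000001000000020000000100000000000000020000000200000001000000000000001b000000020000000b0000000100000002000000010000000100000002000000020000000100000001000000000000000200000001000000010000000200000002000000010000000100000000000000010000000200000001000000010000000100000001000000010000000200000001000000010000000100000002000000010000000100000002000000010000000000000002000000000000000b00000002000000010000000200000001000000010000000200000001000000010000000100000002000000020000000200000000000000010000000100000001000000010000000100000004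

noncomputable def ecol0 (b : ℕ) : ℕ := e0_0
noncomputable def jcol0 (b : ℕ) : ℕ := j0_0

end Cfsg.Agent.Helper4.TC.U35PB126
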