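import Cfsg.Agent.Lib.Helper4.TC.Timed

set_option autoImplicit false
set_option maxRecDepth 100000
set_option linter.unusedVariables false

namespace Cfsg.Agent.Helper4.TC.U35PB126

open Cfsg.Agent.Helper4.TC

def e1_0 : ℕ := 0xc2a8000c15200090a60006049802d8200001f10a001308f2695043002d81e0016c0ec00b6075000000000000000016c15c00b60ad005b038002d82b000000000000000005b0370007c1f0016c0d800000000000000176d81a4000000000b6068259385380000000016c0ca00320a5001044d001501ac00ab0e2001d09e37db02e00000000016c15600180a4005b02b802d815800b30c4005d0630000000002d81510b6c0a4003e871005b0540019419c008b0dc00b604f0000000001a017400d40e800b604d0019c50002d812c007213e00b604a0000000146d8288016c14200b60481adb04e802d811c00bd0a80051094005b0221e6d825c000000000b60420038822801a41e4936c12400b6040003c428002d8240016c11c0000000005b01e00000000016c1186d60083000000043ed80dc000000000b6089005b044002d80d4016c10800b6034000000000000000016c0fe00b607e005b018802d81e8016c0600000000005b03b802d80b4016c0e400b602c005b03780000000016c0da00b6029005b035002d80a0016c0cc00b60260000000002600e0016c0c200b602440db02f002d808c013407400b602286db010802d8160016c04000b60558ddb029802d8144016c03c00b604e005b00eba6d8130016c03800b604900000003e6d8118016c03400b6043005b00c802d8104016c07c00b603d005b00b802d80e4000000000b60368cdb019802d80c8016c02200b602e92db015802d80a8016c01e00b6025005b0070000000001520260000000005b006002d807c016c01600b601b005b005002d8060016c02a00b6005005b009002d8040016c01a0000000b3db004596d801c016c00800b6003005b001002d8004016c01200b5000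
def j1_0 : ℕ := 0x5550000054d000005350000049d00000002000000b30000047d00000435000000020000000200000002000000000000000000000001000000010000000200000001000000000000000000000002000003e50000000200000000000000000000000200000000000000020000053d00000000000000020000052d000000b30000035d00000093000004f5000000020000000000000001000005250000000200000002000000830000031d0000000000000002000000020000046e000000010000033d000004de0000000200000000000002ed000003a500000002000000b300000002000004fd0000000200000000000000010000000100000002000000010000000200000416000004a5000000020000000100000000000000020000022d000003cd00000001000000020000004b0000000100000001000000000000000200000000000000010000041d0000000000000002000000000000000100000001000000020000000100000002000000000000000000000001000000010000000200000001000000020000000000000001000000020000000100000002000000010000000000000001000000020000000100000002000000010000000200000000000001c500000001000000020000000100000002000001d500000002000000020000000100000002000000010000000100000001000000020000000100000002000000010000000200000001000000000000000100000002000000010000000200000001000000010000000100000002000000010000000000000001000000010000000100000002000000010000000100000001000000020000000100000002000000000000009d000000000000000200000001000000020000000100000002000000010000000100000002000000010000000100000001000000000000000100000001000000020000000200000002000000020000000100000005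

noncomputable def ecol1 (b : ℕ) : ℕ := e1_0
noncomputable def jcol1 (b : ℕ) : ℕ := j1_0

end Cfsg.Agent.Helper4.TC.U35PB126
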