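import Cfsg.Agent.Lib.Helper4.TC.Timed

set_option autoImplicit false
set_option maxRecDepth 100000
set_option linter.unusedVariables false

namespace Cfsg.Agent.Helper4.TC.U35PB126

open Cfsg.Agent.Helper4.TC

def e2_0 : ℕ := 0xa294000b15a00078a100054480003629800210fe001189f0015c3c0003a2a8000915c004487e0024439000000000011158004987000094540012a1bc0000000004b86e0000000001321b40000000004d86a00274470000000000a10d0003187600294330000000000450f0000b8ab0029c309e53e25d02000bc005686b000000000162160002b0b0001788800000000000000000b50aa005b8770030c2a0000000000000000062851005b0548011e29000cd09e001e87c0033c27000721e800d709a4bb60a7002e44217cc225800d909400638560036c249a6d828c00dd09000b60a0005b04f1d6d8270016c134006f844002bc461ded826000e108459b60950039420802d824c00e70800000000003cc1f001ea0f4016c11e007e83c00000001fed823400ff0740080839004241c00000000011306c2db608a004541a801921d0016c10a6db608300000000023a0c8016c100008f8313ddb03e8ced81ec016c0f200000000048416802d81d4d76c0e600b60710048c15002520b8012d05200b606c004141c176d81a4016c0ce00b6065004bc12802d818c016c0c4fbb6060004cc11802d8174df6c0b907b605b00000003b6d8164016c0ae009b81f0000000216d8148016c0a0009c81d00000003e656118016c096009d81b0000000002d811c016c08a009e81900000000027e061df6c07e00a081741db01d80286054014502600a3812005b01a00292044016c06000a5810005b0160029a03c016c05000b6026005b0120029e034016c04400aa80c86db010802d8080016c03c00b601c005b00d002ae026176c02d51b60140056402002b6008016c01c00b4800000000000000002c36c00c00b600b0057402802d8028016300000b6001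
def j2_0 : ℕ := 0x8b0000006b000000030000007b00000003000000030000000300000003000000d30000006b000000030000000300000000000000db000000030000006b000000030000000000000003000000000000000300000000000000030000000300000000000000030000006b00000003000000000000053e0000006b000000030000006b0000000000000003000000000000000300000456000000d300000000000000000000000300000003000000030000000000000000000000030000000100000053000000030000007b00000003000000c300000003000000010000007b00000053000000030000000300000003000000010000000300000001000000010000000100000001000000030000008b00000001000000030000000100000003000000010000000300000000000000030000000300000001000000030000000000000001000000030000000300000003000000000000000300000001000000030000006b000000010000000100000000000000030000000100000003000000010000000100000001000000000000000300000001000000010000000100000003000000030000000300000001000002de000000010000000100000001000000030000000100000001000000010000000300000001000000010000000100000000000000010000000100000003000000000000000100000001000000030000000000000023000000010000000300000000000000010000000100000003000000000000000300000001000000030000000100000003000000030000000300000001000000030000000100000003000000010000000300000001000000010000000100000003000000010000000300000001000000010000000100000001000000010000000300000001000000010000000300000003000000010000040c0000000000000000000000010000000100000003000000010000004600000001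

noncomputable def ecol2 (b : ℕ) : ℕ := e2_0
noncomputable def jcol2 (b : ℕ) : ℕ := j2_0

end Cfsg.Agent.Helper4.TC.U35PB126
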