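import Cfsg.Agent.Lib.Helper4.TC.Timed

set_option autoImplicit false
set_option maxRecDepth 100000
set_option linter.unusedVariables false

namespace Cfsg.Agent.Helper4.TC.U35PB126

open Cfsg.Agent.Helper4.TC

def e3_0 : ℕ := 0x10294000a15a00080a1000584800038298016c0fe001209f005b03c000342a8000415c004707e005b03900000000000e15800b60700008854002d81bc000000000b606e0000000002d81b4000000000b606a0027847000c01d8016c0d0002d876005b0330000000000430f0000a0ab005b0309e53825d036c0bc005706b0000000002d816000290b00017088000000000000000016c0aa005c077005b02a00000000000000000b6051000805480110290016c09e001e07c005b027000701e8016c09a4b2b0a7002d842000c4250016c0940064056005b0249a52028c016c09000490a0002504f1d52c270009813400b6044002b0461dd34260016c0845950095005b0208014824c016c0800000000005b01f002d80f400a611e00b603c00000001fc00234016c07400b6039005b01c00000000016c06c2d5808a005b01a8018c1d000b410a6d610830000000002d80c800c410000b60313db303e8cd9c1ec00d60f20000000005b016801b01d4d6da0e6006e071005b015002540b8016c052006f06c0040c1c175c01a400e40ce0073065005b012801e418c00f40c4fb7e060005b011801fc174df000b9078405b00000003b62416401140ae00b601f000000021638148011e0a000b601d00000003e650118012009600b601b00000000024411c012c08a00b60190000000002d8061df2e07e00b601741cc81d802d8054016c02600b6012004d81a002d8044013806000b6010004e816002d803c013c050009f0260050012002d8034014204400b600c86d10108028c080014803c00a501c005300d002d8026174e02d51aa014005b002002d8008015601c00000000000000002d8014015c00600ac00b0057c02802b4028016c00167b4008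
def j3_0 : ℕ := 0x52d0000056d0000050d000004850000053500000002000004fd000000020000055500000575000003f500000002000000000000056500000002000005450000000200000000000000020000000000000002000000000000000200000475000003b500000002000004b600000002000000000000053e0000055d00000002000004bd000000020000035d00000000000000020000045600000445000000000000000000000002000003bd000000020000000000000000000000020000054d0000052500000002000003e500000002000003d5000000020000053d00000425000004a500000002000002b5000000020000051d0000000200000505000004f5000004e5000004d50000000200000465000004c500000002000004ad000000020000049d000000020000000000000002000000020000047d00000002000000000000000000000002000000020000000200000000000000020000045500000002000003a50000042d0000041d00000000000000020000040500000002000003ed000003dd000003cd0000000000000002000003ad0000039d0000038d00000002000001750000000200000365000002de0000034d0000033d0000032d000000020000031d000003150000030500000002000002ed000002e5000002dd00000000000002cd000002bd000000020000000000000295000002850000000200000000000002350000025d00000002000000000000023d0000022d000000020000000000000002000001fd00000002000001dd000000020000000200000002000001a500000002000001850000000200000165000000020000014500000135000001250000000200000115000000020000010d00000105000000f5000000e5000000d500000002000000b5000000a50000000200000002000000750000000000000000000000020000001d0000005d00000036000000550000000200000045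

noncomputable def ecol3 (b : ℕ) : ℕ := e3_0
noncomputable def jcol3 (b : ℕ) : ℕ := j3_0

end Cfsg.Agent.Helper4.TC.U35PB126
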