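import Cfsg.Agent.Lib.Helper4.TC.Perm

set_option autoImplicit false
set_option maxRecDepth 100000
set_option linter.unusedVariables false

namespace Cfsg.Agent.Helper4.TC.U35PS

open Cfsg.Agent.Helper4.TC

def l2_0 : ℕ := 0x4002b87d01000adff004002b67b00000ad7e804002b4f9010009d1e00400273f7010009c9d8000027175000009b7d0040026d73010009b3c8000026c71010009adc0000026a6f010009a7b80400268ed010009a1b000002686b0000099da80400226e901000899a00000226670100089798000022565010008939004002246300000891880400223e10100088d8000002235f010008897800002225d010008837004002205b0000088168040021fd90100087b60040021e570000087958040021dd50100087550040021cd30000087348040021c510000087140040021bcf0000076b3804001da4d000007693004001d9cb010007632804001d8490000075f2004001d7470000075b1804001d645000007591004001d5c3000007550804001d4c1000007530000001d43f0100074ef804001d33d0000074cf000001d2bb01000748e804001d1b900000746e000001913701000642d804001903500000640d0000018fb30100063cc8040018eb101000638c0000018e2f01000636b8040018d2d00000634b0040018cab00000632a8040018c2900000630a0040018ba70100062c98000018b250100062a90040014a2300000528880400149a1010005248004001489f000005227804001481d000005207004001479b0000051e680400147190000051c600400146970000051a5804001059500000416500000105130100041248000010491010004104000001040f0100040e3800000c30d0100030a3000000c28b010003082800000c2090000030620040008107000002041804000808500000202100400040030000010008000000001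
noncomputable def lT2 (b : ℕ) : ℕ := l2_0
noncomputable def ld2 : LData where
  cnt := 125
  pmask := 127
  dmask := 65535
  ew := 38
  emask := 274877906943
  s1 := 7
  s2 := 14
  s3 := 30
  bsh := 11
  bmask := 2047
  L := lT2

def W2 : List (List ℕ) := [
  [0],
  [2, 0, 0, 0, 0, 2, 1, 1, 2]
]

def l3_0 : ℕ := 0x20002079c0400081d8020001008c08000c320000001007c08000809d0100010064000000002
noncomputable def lT3 (b : ℕ) : ℕ := l3_0
noncomputable def ld3 : LData where
  cnt := 8
  pmask := 127
  dmask := 65535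
  ew := 38
  emask := 274877906943
  s1 := 7
  s2 := 14
  s3 := 30
  bsh := 11
  bmask := 2047
  L := lT3

def W3 : List (List ℕ) := [
  [0, 2, 0, 2, 0, 2, 0, 0, 2, 0, 0, 2, 0, 0, 2, 1, 2, 1, 2, 1, 2, 0, 2, 1, 3, 0, 0, 0, 3, 3, 0, 0, 3, 1, 1, 1, 1, 3, 3, 0, 0, 3, 1, 1, 1, 1, 3, 1, 1, 1, 3, 0, 0, 3, 1, 1, 1, 1, 3, 1],
  [2, 1, 2, 0, 0, 2, 1, 1, 2, 0, 2, 1, 1, 2, 0, 0, 2, 1, 1, 1, 2, 0, 0, 2, 0, 0, 0, 3, 0, 3],
  [2, 1, 2, 0, 0, 2, 0, 0, 0, 2, 0, 2, 1, 2, 1, 1, 1, 2, 0, 2, 0, 2, 0, 0, 1, 1, 3, 1, 3, 1, 1, 1, 3, 1, 1, 1, 3, 0, 0, 3, 1, 1, 1, 1, 3]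
]

end Cfsg.Agent.Helper4.TC.U35PS
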