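import Cfsg.Agent.Lib.Helper4.TC.Timed

set_option autoImplicit false
set_option maxRecDepth 100000
set_option linter.unusedVariables false

namespace Cfsg.Agent.Helper4.TC.U35PZ1

open Cfsg.Agent.Helper4.TC

def e0_0 : ℕ := 0x880e00000005c0280000001701000000005c0180000001700c00000005c0080000001700800000005c0000b802017001
def j0_0 : ℕ := 0xb00000000000000020000000000000001000000000000000200000000000000010000000000000002000000000000000100000000000000020000000100000001
noncomputable def ecol0 (b : ℕ) : ℕ := e0_0
noncomputable def jcol0 (b : ℕ) : ℕ := j0_0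

def e1_0 : ℕ := 0x1700c0000000200400000001700800000005c0380000001700400000005c0280000001700100000005c0180b800017002
def j1_0 : ℕ := 0x200000000000000850000000000000002000000000000000100000000000000020000000000000001000000000000000200000000000000010000000200000001
noncomputable def ecol1 (b : ℕ) : ℕ := e1_0
noncomputable def jcol1 (b : ℕ) : ℕ := j1_0

def e2_0 : ℕ := 0xf70130000005dc048000001f7011000000adc03c0000033700d000000edc02c000004370090000012dc01e9b802db7003
def j2_0 : ℕ := 0x100000000000000010000000000000001000000000000000100000000000000010000000000000001000000000000000100000000000000010000000100000001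
noncomputable def ecol2 (b : ℕ) : ℕ := e2_0
noncomputable def jcol2 (b : ℕ) : ℕ := j2_0

def e3_0 : ℕ := 0x2e02005c0380b80600281002e0140120380b80400680c02e00c0260280b80200b80802e0040360180b80080f80402e00004600809c00815800
def j3_0 : ℕ := 0x200000002000000020000009e0000000200000096000000020000008e000000020000007e000000020000006e000000020000005e000000020000004e000000020000003e0000002e0000001e
noncomputable def ecol3 (b : ℕ) : ℕ := e3_0
noncomputable def jcol3 (b : ℕ) : ℕ := j3_0

def m_0 : ℕ := 0x202038100201c580e02018780c00018001002014a80a01014000e02010c80800010000c0200ce8060100c000a020090804000080008020052802010040006020034801000020004020016800010000002000000001000000000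
def jm_0 : ℕ := 0x100000001000000010000000000000001000000000000000100000000000000010000000000000001000000000000000100000000000000010000000000000001000000000000000000000000

noncomputable def mgT (b : ℕ) : ℕ := m_0
noncomputable def jmT (b : ℕ) : ℕ := jm_0
noncomputable def eT (c b : ℕ) : ℕ := Bool.rec (motive := fun _ => ℕ) (Bool.rec (motive := fun _ => ℕ) (ecol0 b) (ecol1 b) (Nat.ble 1 c)) (Bool.rec (motive := fun _ => ℕ) (ecol2 b) (ecol3 b) (Nat.ble 3 c)) (Nat.ble 2 c)
noncomputable def jT (c b : ℕ) : ℕ := Bool.rec (motive := fun _ => ℕ) (Bool.rec (motive := fun _ => ℕ) (jcol0 b) (jcol1 b) (Nat.ble 1 c)) (Bool.rec (motive := fun _ => ℕ) (jcol2 b) (jcol3 b) (Nat.ble 3 c)) (Nat.ble 2 c)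

def rw0 : List ℕ := [2]
def rw1 : List ℕ := [0, 0, 0, 0, 0, 0, 0, 0, 0, 0]
noncomputable def relW (i : ℕ) : List ℕ := Bool.rec (motive := fun _ => List ℕ) (rw0) (rw1) (Nat.ble 1 i)
noncomputable def subW (i : ℕ) : List ℕ := []

noncomputable def data : Data where
  w := 11
  mask := 2047
  tw := 6
  tmask := 63
  hsh := 17
  lsh := 28
  ew := 23
  emask := 8388607
  mw := 36
  mmask := 68719476735
  jw := 32
  jmask := 4294967295
  bsh := 11
  bmask := 2047
  nc := 4
  fuel := 3
  E := eT
  J := jT
  Mg := mgT
  JM := jmT
  relW := relW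
  nrot := 2
  subW := subW
  nsub := 0

def M : ℕ := 20
def n : ℕ := 10

def bases : List (List ℕ) := [
  [0, 0, 0, 0, 0, 0, 0, 0, 0, 0],
  [2]
]

def rots : List (ℕ × ℕ) := [(1, 0), (0, 0)]

def subsL : List (List ℕ) := [

]

end Cfsg.Agent.Helper4.TC.U35PZ1
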