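import Cfsg.Agent.Lib.Helper4.TC.Timed

set_option autoImplicit false
set_option maxRecDepth 100000
set_option linter.unusedVariables false

namespace Cfsg.Agent.Helper4.TC.U42PP40

open Cfsg.Agent.Helper4.TC

def e1_0 : ℕ := 0x80b800b05a00602c00381297cc07006603601282800000000cc06401105601402400c8102d00088035042018023000000006c07403903c64d02a00701480cc04c02604c03301201980880cc04006601e03300e00f00d007c06004002e02101601100a808c05006600003300b01700600ae02806601002d00901600180cc014066008029805a3880380cc00404e00402600d
def j1_0 : ℕ := 0x17500000013000001650000012d00000002000000020000002b0000000000000002000000130000012500000105000000000000002b0000011d00000000000000ed00000023000001550000014d00000002000001350000000200000002000000020000000200000002000000d5000000c5000000bd000000b5000000ad000000a500000002000000020000006500000013000000020000004d0000001d0000000200000002000000360000003d00000002000000150000006d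

noncomputable def ecol1 (b : ℕ) : ℕ := e1_0
noncomputable def jcol1 (b : ℕ) : ℕ := j1_0

end Cfsg.Agent.Helper4.TC.U42PP40
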