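import Cfsg.Agent.Lib.Helper4.TC.Timed

set_option autoImplicit false
set_option maxRecDepth 100000
set_option linter.unusedVariables false

namespace Cfsg.Agent.Helper4.TC.U42PP40

open Cfsg.Agent.Helper4.TC

def e2_0 : ℕ := 0xcc0a406604c00382e01980e800000000905a03301a00000000cc0b006603001182801980b800000006602c01702301980a80260ac066028000000019809a1cc09c03b0360330245b981100cc08006603c5f301c01980680cc064049020033009019802009603c06602402f80801980880cc02c06601403300100000051cc01c06001803300301980100cc038066000032005
def j2_0 : ℕ := 0x2000000020000000300000002000000000000005b00000002000000000000000100000002000000530000000200000000000000020000011d000000020000000300000002000000000000000200000001000000030000000100000001000000010000000100000001000000020000000100000003000000020000000200000003000000010000000300000001000000010000000100000002000000000000000100000065000000020000000200000001000000020000002d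

noncomputable def ecol2 (b : ℕ) : ℕ := e2_0
noncomputable def jcol2 (b : ℕ) : ℕ := j2_0

end Cfsg.Agent.Helper4.TC.U42PP40
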