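import Cfsg.Agent.Lib.Helper4.TC.Timed

set_option autoImplicit false
set_option maxRecDepth 100000
set_option linter.unusedVariables false

namespace Cfsg.Agent.Helper4.TC.U42PP40

open Cfsg.Agent.Helper4.TC

def e3_0 : ℕ := 0xc0b000805203302600480f000000006605c01102401980d00cc0b401f03403301800bc1000cc05c02b02e03301600000000cc05406605603301400e80c80cc0a006602403302501981180cc084ae603e03301d01980d80cc03406601602401101280700cc00806602603080501980500cc02406602002f00cab9803000000006500003300f01980200cc00c066010033001
def j3_0 : ℕ := 0x1650000014d00000002000000f500000000000000010000012500000002000000010000013e000000020000003b00000002000001160000000200000000000000020000000100000002000000cd000000010000000200000001000000010000000100000001000000010000000100000002000000020000008d00000075000000020000000100000314000000020000000200000001000000650000000200000000000002840000000100000001000000010000000100000001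

noncomputable def ecol3 (b : ℕ) : ℕ := e3_0
noncomputable def jcol3 (b : ℕ) : ℕ := j3_0

end Cfsg.Agent.Helper4.TC.U42PP40
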