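import Cfsg.Agent.Lib.Helper4.TC.U42PP40T0
import Cfsg.Agent.Lib.Helper4.TC.U42PP40T1
import Cfsg.Agent.Lib.Helper4.TC.U42PP40T2
import Cfsg.Agent.Lib.Helper4.TC.U42PP40T3

set_option autoImplicit false
set_option maxRecDepth 100000
set_option linter.unusedVariables false

namespace Cfsg.Agent.Helper4.TC.U42PP40

open Cfsg.Agent.Helper4.TC

def m_0 : ℕ := 0x1829000b80c130005a04098002c0303a00158001c3203c000d8005206068002802034841280019000980c0c0004a0406000240302e0011810175a0840c0b000420405800200302a540a01015000780c0a0003a04050b81503026000d800130006808090003200048001800022000b800100005800078002a0003800140301a00098100d00048080580022060240010030080007810020003800000001a0002c000c02014000581009000280004000120600400080200d440180005aa01000020000a0600c000403004000180001000080c0000002000000000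
def jm_0 : ℕ := 0xa10000000000000000000000010000000000000000000000000000000000000089000000000000000000001c1b000000000000000000002a0300000000000000000000000000000000000000000000000000000000000000000000000000000000000000000000000000000000000000000000000000000000000000000000000000000000000000000000061300000011000000000000000000000000000000000000000000000000

noncomputable def mgT (b : ℕ) : ℕ := m_0
noncomputable def jmT (b : ℕ) : ℕ := jm_0
noncomputable def eT (c b : ℕ) : ℕ := Bool.rec (motive := fun _ => ℕ) (Bool.rec (motive := fun _ => ℕ) (ecol0 b) (ecol1 b) (Nat.ble 1 c)) (Bool.rec (motive := fun _ => ℕ) (ecol2 b) (ecol3 b) (Nat.ble 3 c)) (Nat.ble 2 c)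
noncomputable def jT (c b : ℕ) : ℕ := Bool.rec (motive := fun _ => ℕ) (Bool.rec (motive := fun _ => ℕ) (jcol0 b) (jcol1 b) (Nat.ble 1 c)) (Bool.rec (motive := fun _ => ℕ) (jcol2 b) (jcol3 b) (Nat.ble 3 c)) (Nat.ble 2 c)

def rw0 : List ℕ := [2, 2, 2, 2, 2]
def rw1 : List ℕ := [0, 0]
def rw2 : List ℕ := [1, 2, 0, 3, 1, 2, 0, 3, 1, 2, 0, 3]
def rw3 : List ℕ := [0, 3, 1, 2, 0, 3, 1, 2, 0, 3, 1, 2]
def rw4 : List ℕ := [1, 3, 1, 2, 0, 2, 0, 3, 1, 3, 1, 2, 0, 2, 0, 3]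
def rw5 : List ℕ := [1, 2, 0, 2, 0, 3, 1, 3, 1, 2, 0, 2, 0, 3, 1, 3]
def rw6 : List ℕ := [0, 2, 0, 3, 1, 3, 1, 2, 0, 2, 0, 3, 1, 3, 1, 2]
def rw7 : List ℕ := [3, 1, 2, 0, 3, 1, 2, 0, 3, 1, 2, 0]
def rw8 : List ℕ := [3, 1, 2, 0, 2, 0, 3, 1, 3, 1, 2, 0, 2, 0, 3, 1]
def rw9 : List ℕ := [0, 3, 1, 3, 1, 2, 0, 2, 0, 3, 1, 3, 1, 2, 0, 2]
def rw10 : List ℕ := [2, 0, 2, 0, 2, 0, 2, 0, 2, 0, 2, 0, 2, 0, 2, 0, 2, 0]
def rw11 : List ℕ := [2, 0, 2, 0, 3, 1, 3, 1, 2, 0, 2, 0, 3, 1, 3, 1]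
def rw12 : List ℕ := [0, 2, 0, 2, 0, 2, 0, 2, 0, 2, 0, 2, 0, 2, 0, 2, 0, 2]
noncomputable def relW (i : ℕ) : List ℕ := Bool.rec (motive := fun _ => List ℕ) (Bool.rec (motive := fun _ => List ℕ) (Bool.rec (motive := fun _ => List ℕ) (rw0) (Bool.rec (motive := fun _ => List ℕ) (rw1) (rw2) (Nat.ble 2 i)) (Nat.ble 1 i)) (Bool.rec (motive := fun _ => List ℕ) (rw3) (Bool.rec (motive := fun _ => List ℕ) (rw4) (rw5) (Nat.ble 5 i)) (Nat.ble 4 i)) (Nat.ble 3 i)) (Bool.rec (motive := fun _ => List ℕ) (Bool.rec (motive := fun _ => List ℕ) (rw6) (Bool.rec (motive := fun _ => List ℕ) (rw7) (rw8) (Nat.ble 8 i)) (Nat.ble 7 i)) (Bool.rec (motive := fun _ => List ℕ) (Bool.rec (motive := fun _ => List ℕ) (rw9) (rw10) (Nat.ble 10 i)) (Bool.rec (motive := fun _ => List ℕ) (rw11) (rw12) (Nat.ble 12 i)) (Nat.ble 11 i)) (Nat.ble 9 i)) (Nat.ble 6 i)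
def sw0 : List ℕ := [3, 0, 3, 3, 0, 3]
def sw1 : List ℕ := [2, 0, 2, 0, 3, 0, 3]
def sw2 : List ℕ := [3, 3, 0, 2, 2, 0, 3, 3]
noncomputable def subW (i : ℕ) : List ℕ := Bool.rec (motive := fun _ => List ℕ) (sw0) (Bool.rec (motive := fun _ => List ℕ) (sw1) (sw2) (Nat.ble 2 i)) (Nat.ble 1 i)

noncomputable def data : Data where
  w := 11
  mask := 2047
  tw := 7
  tmask := 127
  hsh := 18
  lsh := 29
  ew := 25
  emask := 33554431
  mw := 37
  mmask := 137438953471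
  jw := 32
  jmask := 4294967295
  bsh := 11
  bmask := 2047
  nc := 4
  fuel := 3
  E := eT
  J := jT
  Mg := mgT
  JM := jmT
  relW := relW
  nrot := 13
  subW := subW
  nsub := 3

def M : ℕ := 47
def n : ℕ := 40

/-- the relators, as lists of letter codes in application order -/
def bases : List (List ℕ) := [
  [0, 0],
  [2, 2, 2, 2, 2],
  [2, 0, 2, 0, 2, 0, 2, 0, 2, 0, 2, 0, 2, 0, 2, 0, 2, 0],
  [2, 0, 3, 1, 2, 0, 3, 1, 2, 0, 3, 1],
  [2, 0, 2, 0, 3, 1, 3, 1, 2, 0, 2, 0, 3, 1, 3, 1]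
]

/-- the rotations used: (relator, amount) -/
def rots : List (ℕ × ℕ) := [(1, 0), (0, 0), (3, 3), (3, 1), (4, 5), (4, 7), (4, 1), (3, 2), (4, 6), (4, 3), (2, 0), (4, 0), (2, 1)]

/-- the subgroup generators, as lists of letter codes in application order -/
def subsL : List (List ℕ) := [
  [3, 0, 3, 3, 0, 3],
  [2, 0, 2, 0, 3, 0, 3],
  [3, 3, 0, 2, 2, 0, 3, 3]
]

end Cfsg.Agent.Helper4.TC.U42PP40
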