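import Cfsg.Agent.Lib.Helper4.TC.U42PP40Model
import Cfsg.Agent.Lib.Helper4.TC.U42PP40Data
import Cfsg.Agent.Lib.Helper4.TC.Strict

set_option autoImplicit false
set_option maxRecDepth 100000
set_option linter.unusedVariables false
set_option Elab.async false

namespace Cfsg.Agent.Helper4.TC.U42PP40

open Cfsg.Agent.Helper4.TC

theorem rel0 : relsRange mdata bases 40 0 = true := relsRange_strict mdata bases 40 0 (by decide +kernel)
theorem inv0 : invRange mdata 40 0 = true := invRange_strict mdata 40 0 (by decide +kernel)
theorem tree0 : treeRange mdata 39 1 = true := treeRange_strict mdata 39 1 (by decide +kernel)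
theorem closed1_0 : closedRange mdata subsL 1 28 27 1 = true := closedRange_strict mdata subsL 1 28 27 1 (by decide +kernel)
theorem reach1_0 : reachRange mdata subsL 1 26 2 = true := reachRange_strict mdata subsL 1 26 2 (by decide +kernel)
theorem closed2_0 : closedRange mdata subsL 28 40 12 28 = true := closedRange_strict mdata subsL 28 40 12 28 (by decide +kernel)
theorem reach2_0 : reachRange mdata subsL 28 11 29 = true := reachRange_strict mdata subsL 28 11 29 (by decide +kernel)
theorem sub0_ok : sub0OK mdata subsL = true := by decide +kernel

end Cfsg.Agent.Helper4.TC.U42PP40
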