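import Cfsg.Agent.Lib.Helper4.TC.Model

set_option autoImplicit false
set_option maxRecDepth 100000
set_option linter.unusedVariables false

namespace Cfsg.Agent.Helper4.TC.U42PP40

open Cfsg.Agent.Helper4.TC

def t0_0 : ℕ := 0x1854d8ce2127cc2c76da6665d69414e00c62a291e74f0a1710105449527
noncomputable def tcol0 (b : ℕ) : ℕ := t0_0
def t1_0 : ℕ := 0x1854d8ce2127cc2c76da6665d69414e00c62a291e74f0a1710105449527
noncomputable def tcol1 (b : ℕ) : ℕ := t1_0
def t2_0 : ℕ := 0x61746075e54840a1635213646929a25993892cc4c31db0a705c19f94400f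
noncomputable def tcol2 (b : ℕ) : ℕ := t2_0
def t3_0 : ℕ := 0x2150d87146a41228c62974a799385b35695f01164e3de4202c57423091c1
noncomputable def tcol3 (b : ℕ) : ℕ := t3_0
def a_0 : ℕ := 0x1008400203008180105008150003028180104037dd02030279400030078802030374800060274401030370a00030070b0003000070203025ca0004035e10105034cd0002024a70004024660005033d20204033a600020038100050234d0204002e00005032ce0205002460001022400104002220004002240104001de0002021cf01020018f0106021500002031670002030c102040309c00040209d02050004501050204c000603044000103000000000000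
noncomputable def auxT (b : ℕ) : ℕ := a_0
noncomputable def tmT (c b : ℕ) : ℕ := Bool.rec (motive := fun _ => ℕ) (Bool.rec (motive := fun _ => ℕ) (tcol0 b) (tcol1 b) (Nat.ble 1 c)) (Bool.rec (motive := fun _ => ℕ) (tcol2 b) (tcol3 b) (Nat.ble 3 c)) (Nat.ble 2 c)

noncomputable def mdata : MData where
  n := 40
  w := 6
  mask := 63
  aw := 36
  amask := 68719476735
  s1 := 6
  s2 := 12
  s3 := 20
  s4 := 28
  bsh := 11
  bmask := 2047
  nc := 4
  T := tmT
  A := auxT

end Cfsg.Agent.Helper4.TC.U42PP40
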