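import Cfsg.Agent.Lib.Helper4.TC.Timed

set_option autoImplicit false
set_option maxRecDepth 100000
set_option linter.unusedVariables false

namespace Cfsg.Agent.Helper4.TC.U42PP40

open Cfsg.Agent.Helper4.TC

def e0_0 : ℕ := 0xa0b800a05a00682c004012973607001d036012028000000004e06400f05601482400c4102d00088034042019823000000007007403703c67302a019814807a04c06604c01f812010408808604004501e02380e01980d00cc06006602e03301601980a80cc05004d00002e80b01980600ac02805b010033009018c018000002ae600c033005a36403809e00406600403300d
def j0_0 : ℕ := 0x630000016d0000004b0000012d0000000b0000000b00000145000000000000000b000000330000004b0000000b000000000000010d0000003300000000000000ed0000000b00000001000000010000000b000000010000000b0000000b0000000b0000000b0000000b0000000100000001000000010000000100000001000000010000000b0000000b00000001000000550000000b000000010000018c0000000000000001000000010000000b0000001b0000000100000001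

noncomputable def ecol0 (b : ℕ) : ℕ := e0_0
noncomputable def jcol0 (b : ℕ) : ℕ := j0_0

end Cfsg.Agent.Helper4.TC.U42PP40
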