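import Cfsg.Agent.Lib.Helper4.TC.Perm

set_option autoImplicit false
set_option maxRecDepth 100000
set_option linter.unusedVariables false

namespace Cfsg.Agent.Helper4.TC.U42PS

open Cfsg.Agent.Helper4.TC

def l2_0 : ℕ := 0x2000659b00000659a01000649900000545800000541700000539602000535500000535400000531302000429200000429102000421000000420f0100041ce0000041cd01000318c00000318b01000314a010003109000003108000002087020002046000002045020001004010001003000001002000000001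
noncomputable def lT2 (b : ℕ) : ℕ := l2_0
noncomputable def ld2 : LData where
  cnt := 27
  pmask := 63
  dmask := 65535
  ew := 36
  emask := 68719476735
  s1 := 6
  s2 := 12
  s3 := 28
  bsh := 11
  bmask := 2047
  L := lT2

def W2 : List (List ℕ) := [
  [3, 0, 3, 3, 0, 3],
  [2, 0, 2, 0, 3, 0, 3],
  [3, 3, 0, 2, 2, 0, 3, 3]
]

def l3_0 : ℕ := 0x200030590100020d20000041d102000101000000100c02000210b0000020c5000000002
noncomputable def lT3 (b : ℕ) : ℕ := l3_0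
noncomputable def ld3 : LData where
  cnt := 8
  pmask := 63
  dmask := 65535
  ew := 36
  emask := 68719476735
  s1 := 6
  s2 := 12
  s3 := 28
  bsh := 11
  bmask := 2047
  L := lT3

def W3 : List (List ℕ) := [
  [0, 3, 3, 0, 2, 2, 0, 3, 0, 2, 2, 0, 3, 3, 3, 3, 1, 2, 1, 2, 1, 2, 1, 3, 1, 3, 2, 1, 2, 2, 1, 2, 2, 1, 2, 2, 1, 2],
  [0, 3, 0, 3, 3, 0, 3, 0, 3, 0, 2, 0, 2, 2, 2, 2, 2, 1, 3],
  [3, 0, 2, 0, 3, 3, 3, 3, 0, 3, 3, 0, 3, 3, 0, 2, 3, 1, 3, 3, 2, 1, 2, 2, 1, 2, 2, 2, 1, 3, 3, 1, 2, 2, 2, 1, 2, 2, 1, 2, 2, 1, 2, 2, 1, 2, 2, 1, 2, 1, 3, 1, 3]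
]

def l4_0 : ℕ := 0x1006010001004000000003
noncomputable def lT4 (b : ℕ) : ℕ := l4_0
noncomputable def ld4 : LData where
  cnt := 3
  pmask := 63
  dmask := 65535
  ew := 36
  emask := 68719476735
  s1 := 6
  s2 := 12
  s3 := 28
  bsh := 11
  bmask := 2047
  L := lT4

def W4 : List (List ℕ) := [
  [3, 0, 2, 0, 2, 0, 2, 2, 2, 0, 3, 3, 0, 2, 2, 2, 1, 2, 2, 2, 2, 1, 3, 3, 1, 2, 2, 2, 1, 2, 2, 1, 2, 2, 1, 2, 2, 1, 2, 2, 1, 2, 1, 3, 1, 3],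
  [3, 0, 2, 2, 0, 2, 0, 3, 3, 3, 3, 3, 3, 0, 3, 0, 2, 1, 2, 2, 1, 3, 3, 1, 2, 2, 2, 1, 2, 2, 1, 2]
]

end Cfsg.Agent.Helper4.TC.U42PS
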