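import Cfsg.Agent.Lib.Helper4.TC.Timed

set_option autoImplicit false
set_option maxRecDepth 100000
set_option linter.unusedVariables false

namespace Cfsg.Agent.Helper4.TC.U42PZ1

open Cfsg.Agent.Helper4.TC

def e0_0 : ℕ := 0x3e8048000017a010000008e803574010000019d001
def j0_0 : ℕ := 0x100000000000000010000000000000001000000010000000000000001
noncomputable def ecol0 (b : ℕ) : ℕ := e0_0
noncomputable def jcol0 (b : ℕ) : ℕ := j0_0

def e1_0 : ℕ := 0x1a00e0d0050140383400c0900a0d00203c018260081a0000b800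
def j1_0 : ℕ := 0x2000000020000004e0000000200000046000000020000003600000026000000020000000e
noncomputable def ecol1 (b : ℕ) : ℕ := e1_0
noncomputable def jcol1 (b : ℕ) : ℕ := j1_0

def e2_0 : ℕ := 0x68018000000d00e0000006800034014000000d002
def j2_0 : ℕ := 0x2000000000000000b0000000000000002000000010000000000000001
noncomputable def ecol2 (b : ℕ) : ℕ := e2_0
noncomputable def jcol2 (b : ℕ) : ℕ := j2_0

def e3_0 : ℕ := 0x30028000001a0040000006803834000000000d003
def j3_0 : ℕ := 0x2d00000000000000020000000000000001000000020000000000000001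
noncomputable def ecol3 (b : ℕ) : ℕ := e3_0
noncomputable def jcol3 (b : ℕ) : ℕ := j3_0

def m_0 : ℕ := 0x39c0380005580503006000e0000e200c0801000280002a80203000000604000000800006400000000000
def jm_0 : ℕ := 0x1000000010000000000000001000000000000000100000000000000000000000100000000

noncomputable def mgT (b : ℕ) : ℕ := m_0
noncomputable def jmT (b : ℕ) : ℕ := jm_0
noncomputable def eT (c b : ℕ) : ℕ := Bool.rec (motive := fun _ => ℕ) (Bool.rec (motive := fun _ => ℕ) (ecol0 b) (ecol1 b) (Nat.ble 1 c)) (Bool.rec (motive := fun _ => ℕ) (ecol2 b) (ecol3 b) (Nat.ble 3 c)) (Nat.ble 2 c)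
noncomputable def jT (c b : ℕ) : ℕ := Bool.rec (motive := fun _ => ℕ) (Bool.rec (motive := fun _ => ℕ) (jcol0 b) (jcol1 b) (Nat.ble 1 c)) (Bool.rec (motive := fun _ => ℕ) (jcol2 b) (jcol3 b) (Nat.ble 3 c)) (Nat.ble 2 c)

def rw0 : List ℕ := [0]
def rw1 : List ℕ := [2, 2, 2, 2, 2]
noncomputable def relW (i : ℕ) : List ℕ := Bool.rec (motive := fun _ => List ℕ) (rw0) (rw1) (Nat.ble 1 i)
noncomputable def subW (i : ℕ) : List ℕ := []

noncomputable def data : Data where
  w := 11
  mask := 2047
  tw := 5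
  tmask := 31
  hsh := 16
  lsh := 27
  ew := 21
  emask := 2097151
  mw := 35
  mmask := 34359738367
  jw := 32
  jmask := 4294967295
  bsh := 11
  bmask := 2047
  nc := 4
  fuel := 3
  E := eT
  J := jT
  Mg := mgT
  JM := jmT
  relW := relW
  nrot := 2
  subW := subW
  nsub := 0

def M : ℕ := 10
def n : ℕ := 5

def bases : List (List ℕ) := [
  [2, 2, 2, 2, 2],
  [0]
]

def rots : List (ℕ × ℕ) := [(1, 0), (0, 0)]

def subsL : List (List ℕ) := [

]

end Cfsg.Agent.Helper4.TC.U42PZ1
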