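import Cfsg.Agent.Lib.Helper4.TC.U43KModModel
import Cfsg.Agent.Lib.Helper4.TC.Strict

set_option autoImplicit false
set_option maxRecDepth 100000
set_option linter.unusedVariables false
set_option Elab.async false

namespace Cfsg.Agent.Helper4.TC.U43KMod

open Cfsg.Agent.Helper4.TC

theorem rel88 : relsRange mdata basesM 122 10736 = true := relsRange_strict mdata basesM 122 10736 (by decide +kernel)
theorem rel89 : relsRange mdata basesM 122 10858 = true := relsRange_strict mdata basesM 122 10858 (by decide +kernel)
theorem rel90 : relsRange mdata basesM 122 10980 = true := relsRange_strict mdata basesM 122 10980 (by decide +kernel)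
theorem rel91 : relsRange mdata basesM 122 11102 = true := relsRange_strict mdata basesM 122 11102 (by decide +kernel)
theorem rel92 : relsRange mdata basesM 122 11224 = true := relsRange_strict mdata basesM 122 11224 (by decide +kernel)
theorem rel93 : relsRange mdata basesM 122 11346 = true := relsRange_strict mdata basesM 122 11346 (by decide +kernel)
theorem rel94 : relsRange mdata basesM 122 11468 = true := relsRange_strict mdata basesM 122 11468 (by decide +kernel)
theorem rel95 : relsRange mdata basesM 122 11590 = true := relsRange_strict mdata basesM 122 11590 (by decide +kernel)

end Cfsg.Agent.Helper4.TC.U43KMod
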