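import Cfsg.Agent.Lib.Helper4.TC.U43KModModel
import Cfsg.Agent.Lib.Helper4.TC.Strict

set_option autoImplicit false
set_option maxRecDepth 100000
set_option linter.unusedVariables false
set_option Elab.async false

namespace Cfsg.Agent.Helper4.TC.U43KMod

open Cfsg.Agent.Helper4.TC

theorem rel96 : relsRange mdata basesM 122 11712 = true := relsRange_strict mdata basesM 122 11712 (by decide +kernel)
theorem rel97 : relsRange mdata basesM 122 11834 = true := relsRange_strict mdata basesM 122 11834 (by decide +kernel)
theorem rel98 : relsRange mdata basesM 122 11956 = true := relsRange_strict mdata basesM 122 11956 (by decide +kernel)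
theorem rel99 : relsRange mdata basesM 122 12078 = true := relsRange_strict mdata basesM 122 12078 (by decide +kernel)
theorem rel100 : relsRange mdata basesM 122 12200 = true := relsRange_strict mdata basesM 122 12200 (by decide +kernel)
theorem rel101 : relsRange mdata basesM 122 12322 = true := relsRange_strict mdata basesM 122 12322 (by decide +kernel)
theorem rel102 : relsRange mdata basesM 122 12444 = true := relsRange_strict mdata basesM 122 12444 (by decide +kernel)
theorem rel103 : relsRange mdata basesM 122 12566 = true := relsRange_strict mdata basesM 122 12566 (by decide +kernel)

end Cfsg.Agent.Helper4.TC.U43KMod
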