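import Cfsg.Agent.Lib.Helper4.TC.U43KModModel
import Cfsg.Agent.Lib.Helper4.TC.Strict

set_option autoImplicit false
set_option maxRecDepth 100000
set_option linter.unusedVariables false
set_option Elab.async false

namespace Cfsg.Agent.Helper4.TC.U43KMod

open Cfsg.Agent.Helper4.TC

theorem rel104 : relsRange mdata basesM 122 12688 = true := relsRange_strict mdata basesM 122 12688 (by decide +kernel)
theorem rel105 : relsRange mdata basesM 122 12810 = true := relsRange_strict mdata basesM 122 12810 (by decide +kernel)
theorem rel106 : relsRange mdata basesM 122 12932 = true := relsRange_strict mdata basesM 122 12932 (by decide +kernel)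
theorem rel107 : relsRange mdata basesM 122 13054 = true := relsRange_strict mdata basesM 122 13054 (by decide +kernel)
theorem rel108 : relsRange mdata basesM 122 13176 = true := relsRange_strict mdata basesM 122 13176 (by decide +kernel)
theorem rel109 : relsRange mdata basesM 122 13298 = true := relsRange_strict mdata basesM 122 13298 (by decide +kernel)
theorem rel110 : relsRange mdata basesM 122 13420 = true := relsRange_strict mdata basesM 122 13420 (by decide +kernel)
theorem rel111 : relsRange mdata basesM 122 13542 = true := relsRange_strict mdata basesM 122 13542 (by decide +kernel)

end Cfsg.Agent.Helper4.TC.U43KMod
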