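import Cfsg.Agent.Lib.Helper4.TC.U43KModModel
import Cfsg.Agent.Lib.Helper4.TC.Strict

set_option autoImplicit false
set_option maxRecDepth 100000
set_option linter.unusedVariables false
set_option Elab.async false

namespace Cfsg.Agent.Helper4.TC.U43KMod

open Cfsg.Agent.Helper4.TC

theorem rel112 : relsRange mdata basesM 122 13664 = true := relsRange_strict mdata basesM 122 13664 (by decide +kernel)
theorem rel113 : relsRange mdata basesM 122 13786 = true := relsRange_strict mdata basesM 122 13786 (by decide +kernel)
theorem rel114 : relsRange mdata basesM 122 13908 = true := relsRange_strict mdata basesM 122 13908 (by decide +kernel)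
theorem rel115 : relsRange mdata basesM 122 14030 = true := relsRange_strict mdata basesM 122 14030 (by decide +kernel)
theorem rel116 : relsRange mdata basesM 122 14152 = true := relsRange_strict mdata basesM 122 14152 (by decide +kernel)
theorem rel117 : relsRange mdata basesM 122 14274 = true := relsRange_strict mdata basesM 122 14274 (by decide +kernel)
theorem rel118 : relsRange mdata basesM 122 14396 = true := relsRange_strict mdata basesM 122 14396 (by decide +kernel)
theorem rel119 : relsRange mdata basesM 122 14518 = true := relsRange_strict mdata basesM 122 14518 (by decide +kernel)

end Cfsg.Agent.Helper4.TC.U43KMod
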