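import Cfsg.Agent.Lib.Helper4.TC.U43KModModel
import Cfsg.Agent.Lib.Helper4.TC.Strict

set_option autoImplicit false
set_option maxRecDepth 100000
set_option linter.unusedVariables false
set_option Elab.async false

namespace Cfsg.Agent.Helper4.TC.U43KMod

open Cfsg.Agent.Helper4.TC

theorem rel120 : relsRange mdata basesM 122 14640 = true := relsRange_strict mdata basesM 122 14640 (by decide +kernel)
theorem rel121 : relsRange mdata basesM 122 14762 = true := relsRange_strict mdata basesM 122 14762 (by decide +kernel)
theorem rel122 : relsRange mdata basesM 122 14884 = true := relsRange_strict mdata basesM 122 14884 (by decide +kernel)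
theorem rel123 : relsRange mdata basesM 122 15006 = true := relsRange_strict mdata basesM 122 15006 (by decide +kernel)
theorem rel124 : relsRange mdata basesM 122 15128 = true := relsRange_strict mdata basesM 122 15128 (by decide +kernel)
theorem rel125 : relsRange mdata basesM 122 15250 = true := relsRange_strict mdata basesM 122 15250 (by decide +kernel)
theorem rel126 : relsRange mdata basesM 122 15372 = true := relsRange_strict mdata basesM 122 15372 (by decide +kernel)
theorem rel127 : relsRange mdata basesM 122 15494 = true := relsRange_strict mdata basesM 122 15494 (by decide +kernel)

end Cfsg.Agent.Helper4.TC.U43KMod
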