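import Cfsg.Agent.Lib.Helper4.TC.U43KModModel
import Cfsg.Agent.Lib.Helper4.TC.Strict

set_option autoImplicit false
set_option maxRecDepth 100000
set_option linter.unusedVariables false
set_option Elab.async false

namespace Cfsg.Agent.Helper4.TC.U43KMod

open Cfsg.Agent.Helper4.TC

theorem rel128 : relsRange mdata basesM 122 15616 = true := relsRange_strict mdata basesM 122 15616 (by decide +kernel)
theorem rel129 : relsRange mdata basesM 122 15738 = true := relsRange_strict mdata basesM 122 15738 (by decide +kernel)
theorem rel130 : relsRange mdata basesM 122 15860 = true := relsRange_strict mdata basesM 122 15860 (by decide +kernel)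
theorem rel131 : relsRange mdata basesM 122 15982 = true := relsRange_strict mdata basesM 122 15982 (by decide +kernel)
theorem rel132 : relsRange mdata basesM 122 16104 = true := relsRange_strict mdata basesM 122 16104 (by decide +kernel)
theorem rel133 : relsRange mdata basesM 122 16226 = true := relsRange_strict mdata basesM 122 16226 (by decide +kernel)
theorem rel134 : relsRange mdata basesM 122 16348 = true := relsRange_strict mdata basesM 122 16348 (by decide +kernel)
theorem rel135 : relsRange mdata basesM 122 16470 = true := relsRange_strict mdata basesM 122 16470 (by decide +kernel)

end Cfsg.Agent.Helper4.TC.U43KMod
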