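import Cfsg.Agent.Lib.Helper4.TC.U43KModModel
import Cfsg.Agent.Lib.Helper4.TC.Strict

set_option autoImplicit false
set_option maxRecDepth 100000
set_option linter.unusedVariables false
set_option Elab.async false

namespace Cfsg.Agent.Helper4.TC.U43KMod

open Cfsg.Agent.Helper4.TC

theorem rel152 : relsRange mdata basesM 122 18544 = true := relsRange_strict mdata basesM 122 18544 (by decide +kernel)
theorem rel153 : relsRange mdata basesM 122 18666 = true := relsRange_strict mdata basesM 122 18666 (by decide +kernel)
theorem rel154 : relsRange mdata basesM 122 18788 = true := relsRange_strict mdata basesM 122 18788 (by decide +kernel)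
theorem rel155 : relsRange mdata basesM 122 18910 = true := relsRange_strict mdata basesM 122 18910 (by decide +kernel)
theorem rel156 : relsRange mdata basesM 122 19032 = true := relsRange_strict mdata basesM 122 19032 (by decide +kernel)
theorem rel157 : relsRange mdata basesM 122 19154 = true := relsRange_strict mdata basesM 122 19154 (by decide +kernel)
theorem rel158 : relsRange mdata basesM 122 19276 = true := relsRange_strict mdata basesM 122 19276 (by decide +kernel)
theorem rel159 : relsRange mdata basesM 42 19398 = true := relsRange_strict mdata basesM 42 19398 (by decide +kernel)

end Cfsg.Agent.Helper4.TC.U43KMod
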