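import Cfsg.Agent.Lib.Helper4.TC.U43KModModel
import Cfsg.Agent.Lib.Helper4.TC.Strict

set_option autoImplicit false
set_option maxRecDepth 100000
set_option linter.unusedVariables false
set_option Elab.async false

namespace Cfsg.Agent.Helper4.TC.U43KMod

open Cfsg.Agent.Helper4.TC

theorem rel16 : relsRange mdata basesM 122 1952 = true := relsRange_strict mdata basesM 122 1952 (by decide +kernel)
theorem rel17 : relsRange mdata basesM 122 2074 = true := relsRange_strict mdata basesM 122 2074 (by decide +kernel)
theorem rel18 : relsRange mdata basesM 122 2196 = true := relsRange_strict mdata basesM 122 2196 (by decide +kernel)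
theorem rel19 : relsRange mdata basesM 122 2318 = true := relsRange_strict mdata basesM 122 2318 (by decide +kernel)
theorem rel20 : relsRange mdata basesM 122 2440 = true := relsRange_strict mdata basesM 122 2440 (by decide +kernel)
theorem rel21 : relsRange mdata basesM 122 2562 = true := relsRange_strict mdata basesM 122 2562 (by decide +kernel)
theorem rel22 : relsRange mdata basesM 122 2684 = true := relsRange_strict mdata basesM 122 2684 (by decide +kernel)
theorem rel23 : relsRange mdata basesM 122 2806 = true := relsRange_strict mdata basesM 122 2806 (by decide +kernel)

end Cfsg.Agent.Helper4.TC.U43KMod
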