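import Cfsg.Agent.Lib.Helper4.TC.U43KModModel
import Cfsg.Agent.Lib.Helper4.TC.Strict

set_option autoImplicit false
set_option maxRecDepth 100000
set_option linter.unusedVariables false
set_option Elab.async false

namespace Cfsg.Agent.Helper4.TC.U43KMod

open Cfsg.Agent.Helper4.TC

theorem inv0 : invRange mdata 8888 0 = true := invRange_strict mdata 8888 0 (by decide +kernel)
theorem inv1 : invRange mdata 8888 8888 = true := invRange_strict mdata 8888 8888 (by decide +kernel)
theorem inv2 : invRange mdata 1664 17776 = true := invRange_strict mdata 1664 17776 (by decide +kernel)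
theorem tree0 : treeRange mdata 19439 1 = true := treeRange_strict mdata 19439 1 (by decide +kernel)
theorem relc_ok : wordsLettersOK 6 basesM = true := by decide +kernel

end Cfsg.Agent.Helper4.TC.U43KMod
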