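import Cfsg.Agent.Lib.Helper4.TC.U43KModModel
import Cfsg.Agent.Lib.Helper4.TC.Strict

set_option autoImplicit false
set_option maxRecDepth 100000
set_option linter.unusedVariables false
set_option Elab.async false

namespace Cfsg.Agent.Helper4.TC.U43KMod

open Cfsg.Agent.Helper4.TC

theorem rel24 : relsRange mdata basesM 122 2928 = true := relsRange_strict mdata basesM 122 2928 (by decide +kernel)
theorem rel25 : relsRange mdata basesM 122 3050 = true := relsRange_strict mdata basesM 122 3050 (by decide +kernel)
theorem rel26 : relsRange mdata basesM 122 3172 = true := relsRange_strict mdata basesM 122 3172 (by decide +kernel)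
theorem rel27 : relsRange mdata basesM 122 3294 = true := relsRange_strict mdata basesM 122 3294 (by decide +kernel)
theorem rel28 : relsRange mdata basesM 122 3416 = true := relsRange_strict mdata basesM 122 3416 (by decide +kernel)
theorem rel29 : relsRange mdata basesM 122 3538 = true := relsRange_strict mdata basesM 122 3538 (by decide +kernel)
theorem rel30 : relsRange mdata basesM 122 3660 = true := relsRange_strict mdata basesM 122 3660 (by decide +kernel)
theorem rel31 : relsRange mdata basesM 122 3782 = true := relsRange_strict mdata basesM 122 3782 (by decide +kernel)

end Cfsg.Agent.Helper4.TC.U43KMod
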