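import Cfsg.Agent.Lib.Helper4.TC.U43KModModel
import Cfsg.Agent.Lib.Helper4.TC.Strict

set_option autoImplicit false
set_option maxRecDepth 100000
set_option linter.unusedVariables false
set_option Elab.async false

namespace Cfsg.Agent.Helper4.TC.U43KMod

open Cfsg.Agent.Helper4.TC

theorem rel32 : relsRange mdata basesM 122 3904 = true := relsRange_strict mdata basesM 122 3904 (by decide +kernel)
theorem rel33 : relsRange mdata basesM 122 4026 = true := relsRange_strict mdata basesM 122 4026 (by decide +kernel)
theorem rel34 : relsRange mdata basesM 122 4148 = true := relsRange_strict mdata basesM 122 4148 (by decide +kernel)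
theorem rel35 : relsRange mdata basesM 122 4270 = true := relsRange_strict mdata basesM 122 4270 (by decide +kernel)
theorem rel36 : relsRange mdata basesM 122 4392 = true := relsRange_strict mdata basesM 122 4392 (by decide +kernel)
theorem rel37 : relsRange mdata basesM 122 4514 = true := relsRange_strict mdata basesM 122 4514 (by decide +kernel)
theorem rel38 : relsRange mdata basesM 122 4636 = true := relsRange_strict mdata basesM 122 4636 (by decide +kernel)
theorem rel39 : relsRange mdata basesM 122 4758 = true := relsRange_strict mdata basesM 122 4758 (by decide +kernel)

end Cfsg.Agent.Helper4.TC.U43KMod
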