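import Cfsg.Agent.Lib.Helper4.TC.U43KModModel
import Cfsg.Agent.Lib.Helper4.TC.Strict

set_option autoImplicit false
set_option maxRecDepth 100000
set_option linter.unusedVariables false
set_option Elab.async false

namespace Cfsg.Agent.Helper4.TC.U43KMod

open Cfsg.Agent.Helper4.TC

theorem rel56 : relsRange mdata basesM 122 6832 = true := relsRange_strict mdata basesM 122 6832 (by decide +kernel)
theorem rel57 : relsRange mdata basesM 122 6954 = true := relsRange_strict mdata basesM 122 6954 (by decide +kernel)
theorem rel58 : relsRange mdata basesM 122 7076 = true := relsRange_strict mdata basesM 122 7076 (by decide +kernel)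
theorem rel59 : relsRange mdata basesM 122 7198 = true := relsRange_strict mdata basesM 122 7198 (by decide +kernel)
theorem rel60 : relsRange mdata basesM 122 7320 = true := relsRange_strict mdata basesM 122 7320 (by decide +kernel)
theorem rel61 : relsRange mdata basesM 122 7442 = true := relsRange_strict mdata basesM 122 7442 (by decide +kernel)
theorem rel62 : relsRange mdata basesM 122 7564 = true := relsRange_strict mdata basesM 122 7564 (by decide +kernel)
theorem rel63 : relsRange mdata basesM 122 7686 = true := relsRange_strict mdata basesM 122 7686 (by decide +kernel)

end Cfsg.Agent.Helper4.TC.U43KMod
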