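import Cfsg.Agent.Lib.Helper4.TC.U43KModModel
import Cfsg.Agent.Lib.Helper4.TC.Strict

set_option autoImplicit false
set_option maxRecDepth 100000
set_option linter.unusedVariables false
set_option Elab.async false

namespace Cfsg.Agent.Helper4.TC.U43KMod

open Cfsg.Agent.Helper4.TC

theorem rel64 : relsRange mdata basesM 122 7808 = true := relsRange_strict mdata basesM 122 7808 (by decide +kernel)
theorem rel65 : relsRange mdata basesM 122 7930 = true := relsRange_strict mdata basesM 122 7930 (by decide +kernel)
theorem rel66 : relsRange mdata basesM 122 8052 = true := relsRange_strict mdata basesM 122 8052 (by decide +kernel)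
theorem rel67 : relsRange mdata basesM 122 8174 = true := relsRange_strict mdata basesM 122 8174 (by decide +kernel)
theorem rel68 : relsRange mdata basesM 122 8296 = true := relsRange_strict mdata basesM 122 8296 (by decide +kernel)
theorem rel69 : relsRange mdata basesM 122 8418 = true := relsRange_strict mdata basesM 122 8418 (by decide +kernel)
theorem rel70 : relsRange mdata basesM 122 8540 = true := relsRange_strict mdata basesM 122 8540 (by decide +kernel)
theorem rel71 : relsRange mdata basesM 122 8662 = true := relsRange_strict mdata basesM 122 8662 (by decide +kernel)

end Cfsg.Agent.Helper4.TC.U43KMod
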