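import Cfsg.Agent.Lib.Helper4.TC.U43KModModel
import Cfsg.Agent.Lib.Helper4.TC.Strict

set_option autoImplicit false
set_option maxRecDepth 100000
set_option linter.unusedVariables false
set_option Elab.async false

namespace Cfsg.Agent.Helper4.TC.U43KMod

open Cfsg.Agent.Helper4.TC

theorem rel72 : relsRange mdata basesM 122 8784 = true := relsRange_strict mdata basesM 122 8784 (by decide +kernel)
theorem rel73 : relsRange mdata basesM 122 8906 = true := relsRange_strict mdata basesM 122 8906 (by decide +kernel)
theorem rel74 : relsRange mdata basesM 122 9028 = true := relsRange_strict mdata basesM 122 9028 (by decide +kernel)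
theorem rel75 : relsRange mdata basesM 122 9150 = true := relsRange_strict mdata basesM 122 9150 (by decide +kernel)
theorem rel76 : relsRange mdata basesM 122 9272 = true := relsRange_strict mdata basesM 122 9272 (by decide +kernel)
theorem rel77 : relsRange mdata basesM 122 9394 = true := relsRange_strict mdata basesM 122 9394 (by decide +kernel)
theorem rel78 : relsRange mdata basesM 122 9516 = true := relsRange_strict mdata basesM 122 9516 (by decide +kernel)
theorem rel79 : relsRange mdata basesM 122 9638 = true := relsRange_strict mdata basesM 122 9638 (by decide +kernel)

end Cfsg.Agent.Helper4.TC.U43KMod
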