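import Cfsg.Agent.Lib.Helper4.TC.U43KModMC0
import Cfsg.Agent.Lib.Helper4.TC.U43KModMC1
import Cfsg.Agent.Lib.Helper4.TC.U43KModMC2
import Cfsg.Agent.Lib.Helper4.TC.U43KModMC3
import Cfsg.Agent.Lib.Helper4.TC.U43KModMC4
import Cfsg.Agent.Lib.Helper4.TC.U43KModMC5
import Cfsg.Agent.Lib.Helper4.TC.U43KModMC6
import Cfsg.Agent.Lib.Helper4.TC.U43KModMC7
import Cfsg.Agent.Lib.Helper4.TC.U43KModMC8
import Cfsg.Agent.Lib.Helper4.TC.U43KModMC9
import Cfsg.Agent.Lib.Helper4.TC.U43KModMC10
import Cfsg.Agent.Lib.Helper4.TC.U43KModMC11
import Cfsg.Agent.Lib.Helper4.TC.U43KModMC12
import Cfsg.Agent.Lib.Helper4.TC.U43KModMC13
import Cfsg.Agent.Lib.Helper4.TC.U43KModMC14
import Cfsg.Agent.Lib.Helper4.TC.U43KModMC15
import Cfsg.Agent.Lib.Helper4.TC.U43KModMC16
import Cfsg.Agent.Lib.Helper4.TC.U43KModMC17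
import Cfsg.Agent.Lib.Helper4.TC.U43KModMC18
import Cfsg.Agent.Lib.Helper4.TC.U43KModMC19
import Cfsg.Agent.Lib.Helper4.TC.U43KModMC20
import Cfsg.Agent.Lib.Helper4.TC.Perm

set_option autoImplicit false
set_option maxRecDepth 100000
set_option linter.unusedVariables false

namespace Cfsg.Agent.Helper4.TC.U43KMod

open Cfsg.Agent.Helper4.TC

theorem model_ok : ModelOK mdata basesM [] := by
  refine ⟨by decide, ?_, ?_, wordsLettersOK_sound _ _ relc_ok, ?_, ?_, ?_⟩
  · intro k hk
    have hk' : k < 19440 := hk
    by_cases hh1 : k < 8888
    · skip
      exact invRange_sound mdata 8888 0 inv0 k (by omega) (by omega)
    · skip
      by_cases hh2 : k < 17776
      · skip
        exact invRange_sound mdata 8888 8888 inv1 k (by omega) (by omega)
      · skip
        exact invRange_sound mdata 1664 17776 inv2 k (by omega) (by omega)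
  · intro k hk
    have hk' : k < 19440 := hk
    by_cases hh1 : k < 9760
    · skip
      by_cases hh2 : k < 4880
      · skip
        by_cases hh3 : k < 2440
        · skip
          by_cases hh4 : k < 1220
          · skip
            by_cases hh5 : k < 610
            · skip
              by_cases hh6 : k < 244
              · skip
                by_cases hh7 : k < 122
                · skip
                  exact relsRange_sound mdata basesM 122 0 rel0 k (by omega) (by omega)
                · skip
                  exact relsRange_sound mdata basesM 122 122 rel1 k (by omega) (by omega)
              · skip
                by_cases hh8 : k < 366
                · skip
                  exact relsRange_sound mdata basesM 122 244 rel2 k (by omega) (by omega)
                · skip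
                  by_cases hh9 : k < 488
                  · skip
                    exact relsRange_sound mdata basesM 122 366 rel3 k (by omega) (by omega)
                  · skip
                    exact relsRange_sound mdata basesM 122 488 rel4 k (by omega) (by omega)
            · skip
              by_cases hh10 : k < 854
              · skip
                by_cases hh11 : k < 732
                · skip
                  exact relsRange_sound mdata basesM 122 610 rel5 k (by omega) (by omega)
                · skip
                  exact relsRange_sound mdata basesM 122 732 rel6 k (by omega) (by omega)
              · skip
                by_cases hh12 : k < 976
                · skip
                  exact relsRange_sound mdata basesM 122 854 rel7 k (by omega) (by omega)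
                · skip
                  by_cases hh13 : k < 1098
                  · skip
                    exact relsRange_sound mdata basesM 122 976 rel8 k (by omega) (by omega)
                  · skip
                    exact relsRange_sound mdata basesM 122 1098 rel9 k (by omega) (by omega)
          · skip
            by_cases hh14 : k < 1830
            · skip
              by_cases hh15 : k < 1464
              · skip
                by_cases hh16 : k < 1342
                · skip
                  exact relsRange_sound mdata basesM 122 1220 rel10 k (by omega) (by omega)
                · skip
                  exact relsRange_sound mdata basesM 122 1342 rel11 k (by omega) (by omega)
              · skip
                by_cases hh17 : k < 1586
                · skip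
                  exact relsRange_sound mdata basesM 122 1464 rel12 k (by omega) (by omega)
                · skip
                  by_cases hh18 : k < 1708
                  · skip
                    exact relsRange_sound mdata basesM 122 1586 rel13 k (by omega) (by omega)
                  · skip
                    exact relsRange_sound mdata basesM 122 1708 rel14 k (by omega) (by omega)
            · skip
              by_cases hh19 : k < 2074
              · skip
                by_cases hh20 : k < 1952
                · skip
                  exact relsRange_sound mdata basesM 122 1830 rel15 k (by omega) (by omega)
                · skip
                  exact relsRange_sound mdata basesM 122 1952 rel16 k (by omega) (by omega)
              · skip
                by_cases hh21 : k < 2196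
                · skip
                  exact relsRange_sound mdata basesM 122 2074 rel17 k (by omega) (by omega)
                · skip
                  by_cases hh22 : k < 2318
                  · skip
                    exact relsRange_sound mdata basesM 122 2196 rel18 k (by omega) (by omega)
                  · skip
                    exact relsRange_sound mdata basesM 122 2318 rel19 k (by omega) (by omega)
        · skip
          by_cases hh23 : k < 3660
          · skip
            by_cases hh24 : k < 3050
            · skip
              by_cases hh25 : k < 2684
              · skip
                by_cases hh26 : k < 2562
                · skip
                  exact relsRange_sound mdata basesM 122 2440 rel20 k (by omega) (by omega)
                · skip
                  exact relsRange_sound mdata basesM 122 2562 rel21 k (by omega) (by omega)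
              · skip
                by_cases hh27 : k < 2806
                · skip
                  exact relsRange_sound mdata basesM 122 2684 rel22 k (by omega) (by omega)
                · skip
                  by_cases hh28 : k < 2928
                  · skip
                    exact relsRange_sound mdata basesM 122 2806 rel23 k (by omega) (by omega)
                  · skip
                    exact relsRange_sound mdata basesM 122 2928 rel24 k (by omega) (by omega)
            · skip
              by_cases hh29 : k < 3294
              · skip
                by_cases hh30 : k < 3172
                · skip
                  exact relsRange_sound mdata basesM 122 3050 rel25 k (by omega) (by omega)
                · skip
                  exact relsRange_sound mdata basesM 122 3172 rel26 k (by omega) (by omega)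
              · skip
                by_cases hh31 : k < 3416
                · skip
                  exact relsRange_sound mdata basesM 122 3294 rel27 k (by omega) (by omega)
                · skip
                  by_cases hh32 : k < 3538
                  · skip
                    exact relsRange_sound mdata basesM 122 3416 rel28 k (by omega) (by omega)
                  · skip
                    exact relsRange_sound mdata basesM 122 3538 rel29 k (by omega) (by omega)
          · skip
            by_cases hh33 : k < 4270
            · skip
              by_cases hh34 : k < 3904
              · skip
                by_cases hh35 : k < 3782
                · skip
                  exact relsRange_sound mdata basesM 122 3660 rel30 k (by omega) (by omega)
                · skip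
                  exact relsRange_sound mdata basesM 122 3782 rel31 k (by omega) (by omega)
              · skip
                by_cases hh36 : k < 4026
                · skip
                  exact relsRange_sound mdata basesM 122 3904 rel32 k (by omega) (by omega)
                · skip
                  by_cases hh37 : k < 4148
                  · skip
                    exact relsRange_sound mdata basesM 122 4026 rel33 k (by omega) (by omega)
                  · skip
                    exact relsRange_sound mdata basesM 122 4148 rel34 k (by omega) (by omega)
            · skip
              by_cases hh38 : k < 4514
              · skip
                by_cases hh39 : k < 4392
                · skip
                  exact relsRange_sound mdata basesM 122 4270 rel35 k (by omega) (by omega)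
                · skip
                  exact relsRange_sound mdata basesM 122 4392 rel36 k (by omega) (by omega)
              · skip
                by_cases hh40 : k < 4636
                · skip
                  exact relsRange_sound mdata basesM 122 4514 rel37 k (by omega) (by omega)
                · skip
                  by_cases hh41 : k < 4758
                  · skip
                    exact relsRange_sound mdata basesM 122 4636 rel38 k (by omega) (by omega)
                  · skip
                    exact relsRange_sound mdata basesM 122 4758 rel39 k (by omega) (by omega)
      · skip
        by_cases hh42 : k < 7320
        · skip
          by_cases hh43 : k < 6100
          · skip
            by_cases hh44 : k < 5490
            · skip
              by_cases hh45 : k < 5124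
              · skip
                by_cases hh46 : k < 5002
                · skip
                  exact relsRange_sound mdata basesM 122 4880 rel40 k (by omega) (by omega)
                · skip
                  exact relsRange_sound mdata basesM 122 5002 rel41 k (by omega) (by omega)
              · skip
                by_cases hh47 : k < 5246
                · skip
                  exact relsRange_sound mdata basesM 122 5124 rel42 k (by omega) (by omega)
                · skip
                  by_cases hh48 : k < 5368
                  · skip
                    exact relsRange_sound mdata basesM 122 5246 rel43 k (by omega) (by omega)
                  · skip
                    exact relsRange_sound mdata basesM 122 5368 rel44 k (by omega) (by omega)
            · skip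
              by_cases hh49 : k < 5734
              · skip
                by_cases hh50 : k < 5612
                · skip
                  exact relsRange_sound mdata basesM 122 5490 rel45 k (by omega) (by omega)
                · skip
                  exact relsRange_sound mdata basesM 122 5612 rel46 k (by omega) (by omega)
              · skip
                by_cases hh51 : k < 5856
                · skip
                  exact relsRange_sound mdata basesM 122 5734 rel47 k (by omega) (by omega)
                · skip
                  by_cases hh52 : k < 5978
                  · skip
                    exact relsRange_sound mdata basesM 122 5856 rel48 k (by omega) (by omega)
                  · skip
                    exact relsRange_sound mdata basesM 122 5978 rel49 k (by omega) (by omega)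
          · skip
            by_cases hh53 : k < 6710
            · skip
              by_cases hh54 : k < 6344
              · skip
                by_cases hh55 : k < 6222
                · skip
                  exact relsRange_sound mdata basesM 122 6100 rel50 k (by omega) (by omega)
                · skip
                  exact relsRange_sound mdata basesM 122 6222 rel51 k (by omega) (by omega)
              · skip
                by_cases hh56 : k < 6466
                · skip
                  exact relsRange_sound mdata basesM 122 6344 rel52 k (by omega) (by omega)
                · skip
                  by_cases hh57 : k < 6588
                  · skip
                    exact relsRange_sound mdata basesM 122 6466 rel53 k (by omega) (by omega)
                  · skip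
                    exact relsRange_sound mdata basesM 122 6588 rel54 k (by omega) (by omega)
            · skip
              by_cases hh58 : k < 6954
              · skip
                by_cases hh59 : k < 6832
                · skip
                  exact relsRange_sound mdata basesM 122 6710 rel55 k (by omega) (by omega)
                · skip
                  exact relsRange_sound mdata basesM 122 6832 rel56 k (by omega) (by omega)
              · skip
                by_cases hh60 : k < 7076
                · skip
                  exact relsRange_sound mdata basesM 122 6954 rel57 k (by omega) (by omega)
                · skip
                  by_cases hh61 : k < 7198
                  · skip
                    exact relsRange_sound mdata basesM 122 7076 rel58 k (by omega) (by omega)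
                  · skip
                    exact relsRange_sound mdata basesM 122 7198 rel59 k (by omega) (by omega)
        · skip
          by_cases hh62 : k < 8540
          · skip
            by_cases hh63 : k < 7930
            · skip
              by_cases hh64 : k < 7564
              · skip
                by_cases hh65 : k < 7442
                · skip
                  exact relsRange_sound mdata basesM 122 7320 rel60 k (by omega) (by omega)
                · skip
                  exact relsRange_sound mdata basesM 122 7442 rel61 k (by omega) (by omega)
              · skip
                by_cases hh66 : k < 7686
                · skip
                  exact relsRange_sound mdata basesM 122 7564 rel62 k (by omega) (by omega)
                · skip
                  by_cases hh67 : k < 7808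
                  · skip
                    exact relsRange_sound mdata basesM 122 7686 rel63 k (by omega) (by omega)
                  · skip
                    exact relsRange_sound mdata basesM 122 7808 rel64 k (by omega) (by omega)
            · skip
              by_cases hh68 : k < 8174
              · skip
                by_cases hh69 : k < 8052
                · skip
                  exact relsRange_sound mdata basesM 122 7930 rel65 k (by omega) (by omega)
                · skip
                  exact relsRange_sound mdata basesM 122 8052 rel66 k (by omega) (by omega)
              · skip
                by_cases hh70 : k < 8296
                · skip
                  exact relsRange_sound mdata basesM 122 8174 rel67 k (by omega) (by omega)
                · skip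
                  by_cases hh71 : k < 8418
                  · skip
                    exact relsRange_sound mdata basesM 122 8296 rel68 k (by omega) (by omega)
                  · skip
                    exact relsRange_sound mdata basesM 122 8418 rel69 k (by omega) (by omega)
          · skip
            by_cases hh72 : k < 9150
            · skip
              by_cases hh73 : k < 8784
              · skip
                by_cases hh74 : k < 8662
                · skip
                  exact relsRange_sound mdata basesM 122 8540 rel70 k (by omega) (by omega)
                · skip
                  exact relsRange_sound mdata basesM 122 8662 rel71 k (by omega) (by omega)
              · skip
                by_cases hh75 : k < 8906
                · skip
                  exact relsRange_sound mdata basesM 122 8784 rel72 k (by omega) (by omega)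
                · skip
                  by_cases hh76 : k < 9028
                  · skip
                    exact relsRange_sound mdata basesM 122 8906 rel73 k (by omega) (by omega)
                  · skip
                    exact relsRange_sound mdata basesM 122 9028 rel74 k (by omega) (by omega)
            · skip
              by_cases hh77 : k < 9394
              · skip
                by_cases hh78 : k < 9272
                · skip
                  exact relsRange_sound mdata basesM 122 9150 rel75 k (by omega) (by omega)
                · skip
                  exact relsRange_sound mdata basesM 122 9272 rel76 k (by omega) (by omega)
              · skip
                by_cases hh79 : k < 9516
                · skip
                  exact relsRange_sound mdata basesM 122 9394 rel77 k (by omega) (by omega)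
                · skip
                  by_cases hh80 : k < 9638
                  · skip
                    exact relsRange_sound mdata basesM 122 9516 rel78 k (by omega) (by omega)
                  · skip
                    exact relsRange_sound mdata basesM 122 9638 rel79 k (by omega) (by omega)
    · skip
      by_cases hh81 : k < 14640
      · skip
        by_cases hh82 : k < 12200
        · skip
          by_cases hh83 : k < 10980
          · skip
            by_cases hh84 : k < 10370
            · skip
              by_cases hh85 : k < 10004
              · skip
                by_cases hh86 : k < 9882
                · skip
                  exact relsRange_sound mdata basesM 122 9760 rel80 k (by omega) (by omega)
                · skip
                  exact relsRange_sound mdata basesM 122 9882 rel81 k (by omega) (by omega)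
              · skip
                by_cases hh87 : k < 10126
                · skip
                  exact relsRange_sound mdata basesM 122 10004 rel82 k (by omega) (by omega)
                · skip
                  by_cases hh88 : k < 10248
                  · skip
                    exact relsRange_sound mdata basesM 122 10126 rel83 k (by omega) (by omega)
                  · skip
                    exact relsRange_sound mdata basesM 122 10248 rel84 k (by omega) (by omega)
            · skip
              by_cases hh89 : k < 10614
              · skip
                by_cases hh90 : k < 10492
                · skip
                  exact relsRange_sound mdata basesM 122 10370 rel85 k (by omega) (by omega)
                · skip
                  exact relsRange_sound mdata basesM 122 10492 rel86 k (by omega) (by omega)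
              · skip
                by_cases hh91 : k < 10736
                · skip
                  exact relsRange_sound mdata basesM 122 10614 rel87 k (by omega) (by omega)
                · skip
                  by_cases hh92 : k < 10858
                  · skip
                    exact relsRange_sound mdata basesM 122 10736 rel88 k (by omega) (by omega)
                  · skip
                    exact relsRange_sound mdata basesM 122 10858 rel89 k (by omega) (by omega)
          · skip
            by_cases hh93 : k < 11590
            · skip
              by_cases hh94 : k < 11224
              · skip
                by_cases hh95 : k < 11102
                · skip
                  exact relsRange_sound mdata basesM 122 10980 rel90 k (by omega) (by omega)
                · skip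
                  exact relsRange_sound mdata basesM 122 11102 rel91 k (by omega) (by omega)
              · skip
                by_cases hh96 : k < 11346
                · skip
                  exact relsRange_sound mdata basesM 122 11224 rel92 k (by omega) (by omega)
                · skip
                  by_cases hh97 : k < 11468
                  · skip
                    exact relsRange_sound mdata basesM 122 11346 rel93 k (by omega) (by omega)
                  · skip
                    exact relsRange_sound mdata basesM 122 11468 rel94 k (by omega) (by omega)
            · skip
              by_cases hh98 : k < 11834
              · skip
                by_cases hh99 : k < 11712
                · skip
                  exact relsRange_sound mdata basesM 122 11590 rel95 k (by omega) (by omega)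
                · skip
                  exact relsRange_sound mdata basesM 122 11712 rel96 k (by omega) (by omega)
              · skip
                by_cases hh100 : k < 11956
                · skip
                  exact relsRange_sound mdata basesM 122 11834 rel97 k (by omega) (by omega)
                · skip
                  by_cases hh101 : k < 12078
                  · skip
                    exact relsRange_sound mdata basesM 122 11956 rel98 k (by omega) (by omega)
                  · skip
                    exact relsRange_sound mdata basesM 122 12078 rel99 k (by omega) (by omega)
        · skip
          by_cases hh102 : k < 13420
          · skip
            by_cases hh103 : k < 12810
            · skip
              by_cases hh104 : k < 12444
              · skip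
                by_cases hh105 : k < 12322
                · skip
                  exact relsRange_sound mdata basesM 122 12200 rel100 k (by omega) (by omega)
                · skip
                  exact relsRange_sound mdata basesM 122 12322 rel101 k (by omega) (by omega)
              · skip
                by_cases hh106 : k < 12566
                · skip
                  exact relsRange_sound mdata basesM 122 12444 rel102 k (by omega) (by omega)
                · skip
                  by_cases hh107 : k < 12688
                  · skip
                    exact relsRange_sound mdata basesM 122 12566 rel103 k (by omega) (by omega)
                  · skip
                    exact relsRange_sound mdata basesM 122 12688 rel104 k (by omega) (by omega)
            · skip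
              by_cases hh108 : k < 13054
              · skip
                by_cases hh109 : k < 12932
                · skip
                  exact relsRange_sound mdata basesM 122 12810 rel105 k (by omega) (by omega)
                · skip
                  exact relsRange_sound mdata basesM 122 12932 rel106 k (by omega) (by omega)
              · skip
                by_cases hh110 : k < 13176
                · skip
                  exact relsRange_sound mdata basesM 122 13054 rel107 k (by omega) (by omega)
                · skip
                  by_cases hh111 : k < 13298
                  · skip
                    exact relsRange_sound mdata basesM 122 13176 rel108 k (by omega) (by omega)
                  · skip
                    exact relsRange_sound mdata basesM 122 13298 rel109 k (by omega) (by omega)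
          · skip
            by_cases hh112 : k < 14030
            · skip
              by_cases hh113 : k < 13664
              · skip
                by_cases hh114 : k < 13542
                · skip
                  exact relsRange_sound mdata basesM 122 13420 rel110 k (by omega) (by omega)
                · skip
                  exact relsRange_sound mdata basesM 122 13542 rel111 k (by omega) (by omega)
              · skip
                by_cases hh115 : k < 13786
                · skip
                  exact relsRange_sound mdata basesM 122 13664 rel112 k (by omega) (by omega)
                · skip
                  by_cases hh116 : k < 13908
                  · skip
                    exact relsRange_sound mdata basesM 122 13786 rel113 k (by omega) (by omega)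
                  · skip
                    exact relsRange_sound mdata basesM 122 13908 rel114 k (by omega) (by omega)
            · skip
              by_cases hh117 : k < 14274
              · skip
                by_cases hh118 : k < 14152
                · skip
                  exact relsRange_sound mdata basesM 122 14030 rel115 k (by omega) (by omega)
                · skip
                  exact relsRange_sound mdata basesM 122 14152 rel116 k (by omega) (by omega)
              · skip
                by_cases hh119 : k < 14396
                · skip
                  exact relsRange_sound mdata basesM 122 14274 rel117 k (by omega) (by omega)
                · skip
                  by_cases hh120 : k < 14518
                  · skip
                    exact relsRange_sound mdata basesM 122 14396 rel118 k (by omega) (by omega)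
                  · skip
                    exact relsRange_sound mdata basesM 122 14518 rel119 k (by omega) (by omega)
      · skip
        by_cases hh121 : k < 17080
        · skip
          by_cases hh122 : k < 15860
          · skip
            by_cases hh123 : k < 15250
            · skip
              by_cases hh124 : k < 14884
              · skip
                by_cases hh125 : k < 14762
                · skip
                  exact relsRange_sound mdata basesM 122 14640 rel120 k (by omega) (by omega)
                · skip
                  exact relsRange_sound mdata basesM 122 14762 rel121 k (by omega) (by omega)
              · skip
                by_cases hh126 : k < 15006
                · skip
                  exact relsRange_sound mdata basesM 122 14884 rel122 k (by omega) (by omega)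
                · skip
                  by_cases hh127 : k < 15128
                  · skip
                    exact relsRange_sound mdata basesM 122 15006 rel123 k (by omega) (by omega)
                  · skip
                    exact relsRange_sound mdata basesM 122 15128 rel124 k (by omega) (by omega)
            · skip
              by_cases hh128 : k < 15494
              · skip
                by_cases hh129 : k < 15372
                · skip
                  exact relsRange_sound mdata basesM 122 15250 rel125 k (by omega) (by omega)
                · skip
                  exact relsRange_sound mdata basesM 122 15372 rel126 k (by omega) (by omega)
              · skip
                by_cases hh130 : k < 15616
                · skip
                  exact relsRange_sound mdata basesM 122 15494 rel127 k (by omega) (by omega)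
                · skip
                  by_cases hh131 : k < 15738
                  · skip
                    exact relsRange_sound mdata basesM 122 15616 rel128 k (by omega) (by omega)
                  · skip
                    exact relsRange_sound mdata basesM 122 15738 rel129 k (by omega) (by omega)
          · skip
            by_cases hh132 : k < 16470
            · skip
              by_cases hh133 : k < 16104
              · skip
                by_cases hh134 : k < 15982
                · skip
                  exact relsRange_sound mdata basesM 122 15860 rel130 k (by omega) (by omega)
                · skip
                  exact relsRange_sound mdata basesM 122 15982 rel131 k (by omega) (by omega)
              · skip
                by_cases hh135 : k < 16226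
                · skip
                  exact relsRange_sound mdata basesM 122 16104 rel132 k (by omega) (by omega)
                · skip
                  by_cases hh136 : k < 16348
                  · skip
                    exact relsRange_sound mdata basesM 122 16226 rel133 k (by omega) (by omega)
                  · skip
                    exact relsRange_sound mdata basesM 122 16348 rel134 k (by omega) (by omega)
            · skip
              by_cases hh137 : k < 16714
              · skip
                by_cases hh138 : k < 16592
                · skip
                  exact relsRange_sound mdata basesM 122 16470 rel135 k (by omega) (by omega)
                · skip
                  exact relsRange_sound mdata basesM 122 16592 rel136 k (by omega) (by omega)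
              · skip
                by_cases hh139 : k < 16836
                · skip
                  exact relsRange_sound mdata basesM 122 16714 rel137 k (by omega) (by omega)
                · skip
                  by_cases hh140 : k < 16958
                  · skip
                    exact relsRange_sound mdata basesM 122 16836 rel138 k (by omega) (by omega)
                  · skip
                    exact relsRange_sound mdata basesM 122 16958 rel139 k (by omega) (by omega)
        · skip
          by_cases hh141 : k < 18300
          · skip
            by_cases hh142 : k < 17690
            · skip
              by_cases hh143 : k < 17324
              · skip
                by_cases hh144 : k < 17202
                · skip
                  exact relsRange_sound mdata basesM 122 17080 rel140 k (by omega) (by omega)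
                · skip
                  exact relsRange_sound mdata basesM 122 17202 rel141 k (by omega) (by omega)
              · skip
                by_cases hh145 : k < 17446
                · skip
                  exact relsRange_sound mdata basesM 122 17324 rel142 k (by omega) (by omega)
                · skip
                  by_cases hh146 : k < 17568
                  · skip
                    exact relsRange_sound mdata basesM 122 17446 rel143 k (by omega) (by omega)
                  · skip
                    exact relsRange_sound mdata basesM 122 17568 rel144 k (by omega) (by omega)
            · skip
              by_cases hh147 : k < 17934
              · skip
                by_cases hh148 : k < 17812
                · skip
                  exact relsRange_sound mdata basesM 122 17690 rel145 k (by omega) (by omega)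
                · skip
                  exact relsRange_sound mdata basesM 122 17812 rel146 k (by omega) (by omega)
              · skip
                by_cases hh149 : k < 18056
                · skip
                  exact relsRange_sound mdata basesM 122 17934 rel147 k (by omega) (by omega)
                · skip
                  by_cases hh150 : k < 18178
                  · skip
                    exact relsRange_sound mdata basesM 122 18056 rel148 k (by omega) (by omega)
                  · skip
                    exact relsRange_sound mdata basesM 122 18178 rel149 k (by omega) (by omega)
          · skip
            by_cases hh151 : k < 18910
            · skip
              by_cases hh152 : k < 18544
              · skip
                by_cases hh153 : k < 18422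
                · skip
                  exact relsRange_sound mdata basesM 122 18300 rel150 k (by omega) (by omega)
                · skip
                  exact relsRange_sound mdata basesM 122 18422 rel151 k (by omega) (by omega)
              · skip
                by_cases hh154 : k < 18666
                · skip
                  exact relsRange_sound mdata basesM 122 18544 rel152 k (by omega) (by omega)
                · skip
                  by_cases hh155 : k < 18788
                  · skip
                    exact relsRange_sound mdata basesM 122 18666 rel153 k (by omega) (by omega)
                  · skip
                    exact relsRange_sound mdata basesM 122 18788 rel154 k (by omega) (by omega)
            · skip
              by_cases hh156 : k < 19154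
              · skip
                by_cases hh157 : k < 19032
                · skip
                  exact relsRange_sound mdata basesM 122 18910 rel155 k (by omega) (by omega)
                · skip
                  exact relsRange_sound mdata basesM 122 19032 rel156 k (by omega) (by omega)
              · skip
                by_cases hh158 : k < 19276
                · skip
                  exact relsRange_sound mdata basesM 122 19154 rel157 k (by omega) (by omega)
                · skip
                  by_cases hh159 : k < 19398
                  · skip
                    exact relsRange_sound mdata basesM 122 19276 rel158 k (by omega) (by omega)
                  · skip
                    exact relsRange_sound mdata basesM 42 19398 rel159 k (by omega) (by omega)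
  · intro s hs
    cases hs
  · intro s hs
    cases hs
  · intro k h1 h2
    have h2' : k < 1 + (19440 - 1) := h2
    exact treeRange_sound mdata 19439 1 tree0 k (by omega) (by omega)

end Cfsg.Agent.Helper4.TC.U43KMod
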