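import Cfsg.Agent.Lib.Helper4.TC.U43KSchur
import Cfsg.Agent.Lib.Helper4.TC.U43KModGlue
import Cfsg.Agent.Lib.Helper4.TC.Cover
import Cfsg.Agent.Lib.Helper4.TC.MatGL
import Cfsg.Agent.Lib.Helper1.U43MKS
import Cfsg.Agent.Lib.Helper21.U43MPF

set_option autoImplicit false
set_option maxRecDepth 100000
set_option linter.unusedVariables false
set_option linter.style.haveILetI false

/-! The group with the weak relators is a stem extension of the group of order 3265920 with
kernel `C4 × C3 × C3`: three central words have 36 different products in a permutation model on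
19440 points. -/

namespace Cfsg.Agent.Helper4.TC.U43KEx

open Cfsg Cfsg.Agent.Helper4.TC Cfsg.Agent.Helper4.TC.U43KIso
open Cfsg.Agent.Helper4.Pres.U43K (Gen)

/-- the group with the weak relators -/
abbrev RW : Set (FreeGroup Gen) :=
  relSet decK (U43KSD.exL ++ Schur.weakify0 U43KSD.g3 U43KSD.ceL)
abbrev PW : Type := PresentedGroup RW

theorem card_PW : Finite PW ∧ Nat.card PW ≤ 117573120 := by
  have h := U43KSD.card3
  rw [U43KSD.hb3] at h
  exact h

instance : Finite PW := card_PW.1

theorem relW_one (b : List ℕ) (hb : b ∈ U43KSD.exL ++ Schur.weakify0 U43KSD.g3 U43KSD.ceL) :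
    evc (PresentedGroup.of (rels := RW)) decK b = 1 := by
  rw [evc_of]
  exact PresentedGroup.one_of_mem (mem_relSet _ b hb)

/-! ### the homomorphism onto the group -/

theorem exists_tau : ∃ τ : PW →* P, ∀ x, τ (PresentedGroup.of x) = PresentedGroup.of x :=
  Schur.exists_hom_weak0 U43KCod.coding (⊥ : Subgroup P) bot_le (PresentedGroup.of (rels := RP))
    U43KSD.exL U43KSD.ceL U43KSD.g3
    (fun b hb => U43KSchur.rel_one b (U43KSchur.mem_allL_of_exL b hb))
    (fun ρ hρ => by
      rw [Subgroup.mem_bot]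
      exact U43KSchur.rel_one ρ (U43KSchur.mem_allL_of_ceL ρ hρ))

/-! ### the permutation model -/

noncomputable abbrev nM : ℕ := U43KMod.mdata.n

noncomputable def fM : Gen → Equiv.Perm (Fin nM) := permG U43KMod.model_ok U43KCod.coding

theorem hword (b : List ℕ) (hb : ∀ c ∈ b, c < 6) (k : Fin nM) :
    (evc fM decK b k).val = mtrace U43KMod.mdata b k.val :=
  evc_permG_apply U43KMod.model_ok U43KCod.coding b hb k

theorem relM_one (b : List ℕ) (hb : b ∈ U43KMod.basesM) : evc fM decK b = 1 := by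
  apply Equiv.ext
  intro k
  apply Fin.ext
  rw [hword b (U43KMod.model_ok.relc b hb) k, U43KMod.model_ok.rel k.val k.2 b hb]
  rfl

theorem hexM : ∀ b ∈ U43KSD.exL, b ∈ U43KMod.basesM := by decide +kernel

theorem hceM : ∀ ρ ∈ U43KSD.ceL, ρ ∈ U43KMod.basesM ∨ ρ ∈ U43KMod.repL ∨
    ∃ w ∈ U43KMod.repL, (ρ ++ invW w) ∈ U43KMod.basesM := by decide +kernel

theorem hcoM : ∀ b ∈ Schur.weakify0 U43KSD.g3 U43KMod.repL, b ∈ U43KMod.basesM := by
  decide +kernel

theorem hrepL : ∀ w ∈ U43KMod.repL, w ∈ U43KSD.ceL := by decide +kernel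

/-- a commutator word which is trivial: the two elements commute -/
theorem commute_of_comm_word {Q : Type*} [Group Q] (f : Gen → Q) (x ρ : List ℕ)
    (h : evc f decK (invW x ++ invW ρ ++ x ++ ρ) = 1) :
    evc f decK ρ * evc f decK x = evc f decK x * evc f decK ρ := by
  rw [evc_append, evc_append, evc_append, evc_invW f U43KCod.coding,
    evc_invW f U43KCod.coding] at h
  have h2 : evc f decK ρ * evc f decK x * (evc f decK ρ)⁻¹ * (evc f decK x)⁻¹ = 1 := by
    rw [← h]
    group
  calc evc f decK ρ * evc f decK x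
      = (evc f decK ρ * evc f decK x * (evc f decK ρ)⁻¹ * (evc f decK x)⁻¹) *
          (evc f decK x * evc f decK ρ) := by group
    _ = evc f decK x * evc f decK ρ := by rw [h2, one_mul]

theorem evc_letter {Q : Type*} [Group Q] (f : Gen → Q) (c : ℕ) :
    evc f decK [c] = gl f (decK c) := by
  rw [evc_cons, evc_nil, one_mul]

/-- the words of the generators -/
def gw : Gen → List ℕ
  | .p => [0]
  | .q => [2]
  | .r => [4]

theorem evc_gw {Q : Type*} [Group Q] (f : Gen → Q) (k : Gen) : evc f decK (gw k) = f k := by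
  cases k <;> rw [gw, evc_letter] <;> rfl

theorem gw_mem (k : Gen) : gw k ∈ U43KSD.g3 := by
  cases k <;> decide

theorem comm_word_mem (k : Gen) (ρ : List ℕ) (L : List (List ℕ)) (hρ : ρ ∈ L) :
    invW (gw k) ++ invW ρ ++ gw k ++ ρ ∈ Schur.weakify0 U43KSD.g3 L := by
  unfold Schur.weakify0
  exact List.mem_flatMap.mpr ⟨ρ, hρ, List.mem_map.mpr ⟨gw k, gw_mem k, rfl⟩⟩

/-- the words of `repL` commute with the generators in the model -/
theorem rep_comm (w : List ℕ) (hw : w ∈ U43KMod.repL) (k : Gen) :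
    evc fM decK w * fM k = fM k * evc fM decK w := by
  have h := commute_of_comm_word fM (gw k) w
    (relM_one _ (hcoM _ (comm_word_mem k w U43KMod.repL hw)))
  rw [evc_gw] at h
  exact h

/-- the central words commute with the generators in the model -/
theorem ce_comm (ρ : List ℕ) (hρ : ρ ∈ U43KSD.ceL) (k : Gen) :
    evc fM decK ρ * fM k = fM k * evc fM decK ρ := by
  rcases hceM ρ hρ with h | h | ⟨w, hw, h⟩
  · rw [relM_one ρ h, one_mul, mul_one]
  · exact rep_comm ρ h k
  · have h2 := relM_one _ h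
    rw [evc_append, evc_invW fM U43KCod.coding] at h2
    have h3 : evc fM decK ρ = evc fM decK w := (inv_mul_eq_one.mp h2).symm
    rw [h3]
    exact rep_comm w hw k

/-- the group generated by the permutations of the model -/
noncomputable abbrev Δ : Subgroup (Equiv.Perm (Fin nM)) := Subgroup.closure (Set.range fM)

noncomputable def fΔ (k : Gen) : Δ := ⟨fM k, Subgroup.subset_closure ⟨k, rfl⟩⟩

theorem coe_evc_fΔ (b : List ℕ) : ((evc fΔ decK b : Δ) : Equiv.Perm (Fin nM)) = evc fM decK b := by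
  have h := Schur.map_evc (dec := decK) (Subgroup.subtype Δ) fΔ b
  exact h

/-- an element of the group of the model which commutes with the generators is central -/
theorem center_of_comm (g : Δ) (hg : ∀ k, (g : Equiv.Perm (Fin nM)) * fM k = fM k * g) :
    g ∈ Subgroup.center Δ := by
  have h : Δ ≤ Subgroup.centralizer {(g : Equiv.Perm (Fin nM))} := by
    rw [Subgroup.closure_le]
    rintro _ ⟨k, rfl⟩
    rw [SetLike.mem_coe, Subgroup.mem_centralizer_iff]
    intro h hh
    rw [Set.mem_singleton_iff.mp hh]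
    exact hg k
  rw [Subgroup.mem_center_iff]
  intro x
  apply Subtype.ext
  have hx := Subgroup.mem_centralizer_iff.mp (h x.2) (g : Equiv.Perm (Fin nM))
    (Set.mem_singleton _)
  show (x : Equiv.Perm (Fin nM)) * g = g * x
  exact hx.symm

theorem exists_phi : ∃ φ : PW →* Δ, ∀ x, φ (PresentedGroup.of x) = fΔ x := by
  refine Schur.exists_hom_weak0 U43KCod.coding (Subgroup.center Δ) le_rfl fΔ U43KSD.exL
    U43KSD.ceL U43KSD.g3 ?_ ?_
  · intro b hb
    apply Subtype.ext
    rw [coe_evc_fΔ]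
    exact relM_one b (hexM b hb)
  · intro ρ hρ
    refine center_of_comm _ ?_
    intro k
    rw [coe_evc_fΔ]
    exact ce_comm ρ hρ k

/-! ### the three central elements -/

theorem hx4 : U43KMod.x4 ∈ U43KSD.ceL := by decide +kernel
theorem hy3 : U43KMod.y3 ∈ U43KSD.ceL := by decide +kernel

/-- `z3` is the square of a central word -/
def w6 : List ℕ := U43KMod.z3.take (U43KMod.z3.length / 2)

theorem hz3 : U43KMod.z3 = w6 ++ w6 := by decide +kernel
theorem hw6 : w6 ∈ U43KSD.ceL := by decide +kernel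

noncomputable def cW (w : List ℕ) : PW := PresentedGroup.mk RW (wordF decK w)

theorem cW_eq (w : List ℕ) : cW w = evc (PresentedGroup.of (rels := RW)) decK w := by
  unfold cW
  rw [evc_of]

theorem cW_comm (ρ : List ℕ) (hρ : ρ ∈ U43KSD.ceL) (k : Gen) :
    cW ρ * PresentedGroup.of k = PresentedGroup.of k * cW ρ := by
  have h := commute_of_comm_word (PresentedGroup.of (rels := RW)) (gw k) ρ
    (relW_one _ (List.mem_append_right _ (comm_word_mem k ρ U43KSD.ceL hρ)))
  rw [evc_gw, ← cW_eq] at h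
  exact h

theorem center_of_comm_W (g : PW) (hg : ∀ k, g * PresentedGroup.of k = PresentedGroup.of k * g) :
    g ∈ Subgroup.center PW := by
  have h : (⊤ : Subgroup PW) ≤ Subgroup.centralizer {g} := by
    rw [← PresentedGroup.closure_range_of RW, Subgroup.closure_le]
    rintro _ ⟨k, rfl⟩
    rw [SetLike.mem_coe, Subgroup.mem_centralizer_iff]
    intro h hh
    rw [Set.mem_singleton_iff.mp hh]
    exact hg k
  rw [Subgroup.mem_center_iff]
  intro x
  have hx := Subgroup.mem_centralizer_iff.mp (h (Subgroup.mem_top x)) g (Set.mem_singleton _)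
  exact hx.symm

theorem cW_center (ρ : List ℕ) (hρ : ρ ∈ U43KSD.ceL) : cW ρ ∈ Subgroup.center PW :=
  center_of_comm_W _ (cW_comm ρ hρ)

theorem cW_append (u v : List ℕ) : cW (u ++ v) = cW v * cW u := by
  rw [cW_eq, cW_eq, cW_eq, evc_append]

noncomputable def xW : PW := cW U43KMod.x4
noncomputable def yW : PW := cW U43KMod.y3
noncomputable def zW : PW := cW U43KMod.z3

theorem xW_center : xW ∈ Subgroup.center PW := cW_center _ hx4
theorem yW_center : yW ∈ Subgroup.center PW := cW_center _ hy3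
theorem zW_center : zW ∈ Subgroup.center PW := by
  unfold zW
  rw [hz3, cW_append]
  exact Subgroup.mul_mem _ (cW_center _ hw6) (cW_center _ hw6)

theorem tau_cW (τ : PW →* P) (hτ : ∀ x, τ (PresentedGroup.of x) = PresentedGroup.of x)
    (w : List ℕ) : τ (cW w) = evc (PresentedGroup.of (rels := RP)) decK w := by
  unfold cW
  rw [hom_word]
  have h2 : (fun x => τ (PresentedGroup.of x)) = PresentedGroup.of (rels := RP) := funext hτ
  rw [h2]

theorem cW_mem_ker (τ : PW →* P) (hτ : ∀ x, τ (PresentedGroup.of x) = PresentedGroup.of x)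
    (ρ : List ℕ) (hρ : ρ ∈ U43KSD.ceL) : cW ρ ∈ τ.ker := by
  rw [MonoidHom.mem_ker, tau_cW τ hτ]
  exact U43KSchur.rel_one ρ (U43KSchur.mem_allL_of_ceL ρ hρ)

theorem phi_cW (φ : PW →* Δ) (hφ : ∀ x, φ (PresentedGroup.of x) = fΔ x) (w : List ℕ) :
    ((φ (cW w) : Δ) : Equiv.Perm (Fin nM)) = evc fM decK w := by
  unfold cW
  rw [hom_word]
  have h2 : (fun x => φ (PresentedGroup.of x)) = fΔ := funext hφ
  rw [h2, coe_evc_fΔ]

theorem hx44 : wpow U43KMod.x4 4 ∈ U43KMod.basesM := by decide +kernel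
theorem hy33 : wpow U43KMod.y3 3 ∈ U43KMod.basesM := by decide +kernel
theorem hz33 : wpow U43KMod.z3 3 ∈ U43KMod.basesM := by decide +kernel

theorem phi_pow (φ : PW →* Δ) (hφ : ∀ x, φ (PresentedGroup.of x) = fΔ x) (w : List ℕ) (t : ℕ)
    (h : wpow w t ∈ U43KMod.basesM) : φ (cW w) ^ t = 1 := by
  apply Subtype.ext
  rw [Subgroup.coe_pow, phi_cW φ hφ, ← evc_wpow]
  exact relM_one _ h

/-- the word of a product of powers of the three central words -/
def cw (t : Fin 4 × Fin 3 × Fin 3) : List ℕ :=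
  wpow U43KMod.z3 t.2.2.val ++ (wpow U43KMod.y3 t.2.1.val ++ wpow U43KMod.x4 t.1.val)

theorem cw_letters : ∀ t : Fin 4 × Fin 3 × Fin 3, ∀ c ∈ cw t, c < 6 := by decide +kernel

theorem cw_inj : ∀ t t' : Fin 4 × Fin 3 × Fin 3,
    mtrace U43KMod.mdata (cw t) 0 = mtrace U43KMod.mdata (cw t') 0 → t = t' := by decide +kernel

theorem phi_inj (φ : PW →* Δ) (hφ : ∀ x, φ (PresentedGroup.of x) = fΔ x) :
    Function.Injective (fun t : Fin 4 × Fin 3 × Fin 3 =>
      φ xW ^ t.1.val * φ yW ^ t.2.1.val * φ zW ^ t.2.2.val) := by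
  have hval : ∀ t : Fin 4 × Fin 3 × Fin 3,
      (((φ xW ^ t.1.val * φ yW ^ t.2.1.val * φ zW ^ t.2.2.val : Δ) :
        Equiv.Perm (Fin nM)) ⟨0, U43KMod.model_ok.npos⟩).val =
        mtrace U43KMod.mdata (cw t) 0 := by
    intro t
    have h1 : ((φ xW ^ t.1.val * φ yW ^ t.2.1.val * φ zW ^ t.2.2.val : Δ) :
        Equiv.Perm (Fin nM)) = evc fM decK (cw t) := by
      unfold cw xW yW zW
      rw [evc_append, evc_append, evc_wpow, evc_wpow, evc_wpow, Subgroup.coe_mul,
        Subgroup.coe_mul, Subgroup.coe_pow, Subgroup.coe_pow, Subgroup.coe_pow,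
        phi_cW φ hφ, phi_cW φ hφ, phi_cW φ hφ]
    rw [h1]
    exact hword (cw t) (cw_letters t) ⟨0, U43KMod.model_ok.npos⟩
  intro t t' htt
  apply cw_inj
  rw [← hval t, ← hval t']
  have htt' : (φ xW ^ t.1.val * φ yW ^ t.2.1.val * φ zW ^ t.2.2.val : Δ) =
      φ xW ^ t'.1.val * φ yW ^ t'.2.1.val * φ zW ^ t'.2.2.val := htt
  rw [htt']

/-! ### the stem extension -/

theorem of_pow7 (k : Gen) : (PresentedGroup.of k : PW) ^ 7 = 1 := by
  cases k
  · have h := relW_one (wpow [0] 7) (List.mem_append_left _ (by decide))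
    rw [U43KSchur.evc_pow7] at h
    exact h
  · have h := relW_one (wpow [2] 7) (List.mem_append_left _ (by decide))
    rw [U43KSchur.evc_pow7] at h
    exact h
  · have h := relW_one (wpow [4] 7) (List.mem_append_left _ (by decide))
    rw [U43KSchur.evc_pow7] at h
    exact h

theorem commutator_eq_top_of_equiv {A B : Type*} [Group A] [Group B] (e : A ≃* B)
    (h : commutator A = ⊤) : commutator B = ⊤ := by
  have h1 : (commutator A).map e.toMonoidHom = commutator B := by
    rw [commutator_def, Subgroup.map_commutator,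
      Subgroup.map_top_of_surjective _ e.surjective, ← commutator_def]
  rw [← h1, h, Subgroup.map_top_of_surjective _ e.surjective]

theorem perfect_P : commutator P = ⊤ := by
  haveI : IsSimpleGroup H := U43PS.main.1
  have hna : ∃ a b : H, a * b ≠ b * a :=
    not_comm_of_simple_of_not_prime (by rw [U43PS.main.2]; norm_num)
  exact commutator_eq_top_of_equiv iso (commutator_eq_top_of_simple hna)

theorem card_A : Nat.card (Multiplicative (ZMod 4 × ZMod 3 × ZMod 3)) = 36 := by
  rw [Nat.card_eq_fintype_card]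
  rfl

/-- the group with the weak relators is a stem extension with kernel `C4 × C3 × C3` -/
theorem exists_stem : ∃ τ : PW →* P, IsStemExtension τ ∧
    Nonempty (τ.ker ≃* Multiplicative (ZMod 4 × ZMod 3 × ZMod 3)) := by
  obtain ⟨τ, hτ⟩ := exists_tau
  obtain ⟨φ, hφ⟩ := exists_phi
  have hsurj : Function.Surjective τ := by
    rw [← MonoidHom.range_eq_top, eq_top_iff, ← PresentedGroup.closure_range_of RP,
      Subgroup.closure_le]
    rintro _ ⟨k, rfl⟩
    exact ⟨PresentedGroup.of k, hτ k⟩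
  have hcardK : Nat.card τ.ker ≤ 36 := by
    have h1 := SchurTwo.card_eq_ker_mul τ hsurj
    have h2 := card_PW.2
    rw [h1, card_P] at h2
    omega
  have hxk : xW ∈ τ.ker := cW_mem_ker τ hτ _ hx4
  have hyk : yW ∈ τ.ker := cW_mem_ker τ hτ _ hy3
  have hzk : zW ∈ τ.ker := by
    unfold zW
    rw [hz3, cW_append]
    exact Subgroup.mul_mem _ (cW_mem_ker τ hτ _ hw6) (cW_mem_ker τ hτ _ hw6)
  have hxy : Commute xW yW := (Subgroup.mem_center_iff.mp xW_center yW).symm
  have hxz : Commute xW zW := (Subgroup.mem_center_iff.mp xW_center zW).symm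
  have hyz : Commute yW zW := (Subgroup.mem_center_iff.mp yW_center zW).symm
  obtain ⟨hgen, ⟨e⟩⟩ := Cfsg.Agent.Lib.Helper4.U43M.kernel_c4c3c3 τ.ker hcardK φ xW yW zW
    hxk hyk hzk hxy hxz hyz (phi_pow φ hφ _ 4 hx44) (phi_pow φ hφ _ 3 hy33)
    (phi_pow φ hφ _ 3 hz33) (phi_inj φ hφ)
  have hcen : τ.ker ≤ Subgroup.center PW := by
    intro g hg
    obtain ⟨i, j, k, rfl⟩ := hgen g hg
    exact Subgroup.mul_mem _ (Subgroup.mul_mem _ (Subgroup.pow_mem _ xW_center i)
      (Subgroup.pow_mem _ yW_center j)) (Subgroup.pow_mem _ zW_center k)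
  have hcard36 : Nat.card τ.ker = 36 := by
    rw [Nat.card_congr e.toEquiv, card_A]
  have hcomm : τ.ker ≤ commutator PW :=
    Cfsg.Agent.Lib.Helper4.U43M.ker_le_commutator_of_pow τ hsurj perfect_P hcen 7
      (by rw [hcard36]; norm_num) (Set.range (PresentedGroup.of (rels := RW)))
      (PresentedGroup.closure_range_of RW) (by
        rintro _ ⟨k, rfl⟩
        exact of_pow7 k)
  exact ⟨τ, ⟨hsurj, hcen, hcomm⟩, ⟨e⟩⟩

end Cfsg.Agent.Helper4.TC.U43KEx
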