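import Cfsg.Agent.Lib.Helper4.TC.U43KSD
import Cfsg.Agent.Lib.Helper4.TC.U43PSMain
import Cfsg.Agent.Lib.Helper4.TC.U43PSLC
import Cfsg.Agent.Lib.Helper4.TC.Embed

set_option autoImplicit false
set_option maxRecDepth 100000
set_option linter.unusedVariables false
set_option linter.style.haveILetI false

/-! The presented group of order 3265920 on three generators is the group presented on three
elements of order 7 by the relators of `U43KSD`, the relators of the presented group written in
these elements, and the words of the three elements. -/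

namespace Cfsg.Agent.Helper4.TC.U43KIso

open Cfsg Cfsg.Agent.Helper4.TC
open Cfsg.Agent.Helper4.Pres.U43K (Gen)

abbrev decK : ℕ → Letter Gen := U43KCod.dec
abbrev decH : ℕ → Letter Cfsg.Agent.Helper4.Pres.U43.Gen := U43PK126.dec
abbrev RH : Set (FreeGroup Cfsg.Agent.Helper4.Pres.U43.Gen) := U43PS.Rset
abbrev H : Type := PresentedGroup RH

def pts : List ℕ := [0, 1, 2, 3]

/-- the words of the three generators in the generators of the presented group, rewritten in the
three generators, are the generators -/
def defL : List (List ℕ) :=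
  [substW U43KSD.vups decH (U43KSD.wups .p) ++ [1], substW U43KSD.vups decH (U43KSD.wups .q) ++ [3],
    substW U43KSD.vups decH (U43KSD.wups .r) ++ [5]]

/-- the relators of the presented group in the three generators, and the words of the generators -/
def tzL : List (List ℕ) := U43PK126.bases.map (substW U43KSD.vups decH) ++ defL

def allL : List (List ℕ) := U43KSD.exL ++ U43KSD.ceL ++ tzL

abbrev RP : Set (FreeGroup Gen) := relSet decK allL
abbrev P : Type := PresentedGroup RP

set_option maxHeartbeats 4000000 in
theorem chk : ∀ b ∈ allL, fixesB U43PK126.mdata pts (substW U43KSD.wups decK b) = true := by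
  decide +kernel

/-- the generators of the presented group, written in the three generators and back, are themselves -/
def idL : List (List ℕ) :=
  [substW U43KSD.wups decK (U43KSD.vups .a) ++ [1], substW U43KSD.wups decK (U43KSD.vups .b) ++ [3],
    substW U43KSD.wups decK (U43KSD.vups .c) ++ [5]]

theorem chk2 : ∀ b ∈ idL, fixesB U43PK126.mdata pts b = true := by decide +kernel

theorem hone (w : List ℕ) (hw : fixesB U43PK126.mdata pts w = true) :
    PresentedGroup.mk RH (wordF decH w) = 1 := by
  obtain ⟨h1, h2⟩ := fixesB_sound hw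
  have hpts : pts = 0 :: U43PS.specs.map fun s => s.b := rfl
  refine word_eq_one_of_base U43PK126.coding U43PK126.hR1 U43PK126.model_ok 3265920 (by norm_num)
    U43PS.card_top U43PS.specs U43PS.levels_ok (by decide) w h1 ?_ ?_
  · exact h2 0 (by rw [hpts]; exact List.mem_cons_self)
  · intro s hs
    exact h2 s.b (by rw [hpts]; exact List.mem_cons_of_mem _ (List.mem_map_of_mem hs))

theorem exists_phi : ∃ φ : P →* H,
    ∀ x, φ (PresentedGroup.of x) = PresentedGroup.mk RH (wordF decH (U43KSD.wups x)) :=
  exists_hom_of_subst U43PK126.coding U43PK126.hR1 U43PK126.model_ok 3265920 (by norm_num) U43PS.card_top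
    U43PS.specs U43PS.levels_ok (by decide) RP allL (fun r hr => hr) U43KSD.wups pts rfl chk

/-- the value of a homomorphism on a word -/
theorem hom_word {α : Type} {R : Set (FreeGroup α)} {dec : ℕ → Letter α} {Q : Type*} [Group Q]
    (θ : PresentedGroup R →* Q) (w : List ℕ) :
    θ (PresentedGroup.mk R (wordF dec w)) = evc (fun x => θ (PresentedGroup.of x)) dec w := by
  rw [← evc_of, Schur.map_evc]

/-- words in words -/
theorem evc_mk_subst {α β : Type} {R : Set (FreeGroup α)} {dec : ℕ → Letter α} {enc : α → ℕ}
    {nc : ℕ} (hcod : Coding dec enc nc) {dec' : ℕ → Letter β} (σ : β → List ℕ) (b : List ℕ) :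
    evc (fun x => PresentedGroup.mk R (wordF dec (σ x))) dec' b =
      PresentedGroup.mk R (wordF dec (substW σ dec' b)) := by
  have h2 : (fun x => PresentedGroup.mk R (wordF dec (σ x))) =
      fun x => evc (PresentedGroup.of (rels := R)) dec (σ x) := funext fun x => (evc_of R dec _).symm
  rw [h2, ← evc_substW _ hcod, evc_of]

theorem psi_rel : ∀ r ∈ RH,
    FreeGroup.lift (fun x => PresentedGroup.mk RP (wordF decK (U43KSD.vups x))) r = 1 := by
  intro r hr
  obtain ⟨b, hb, rfl⟩ := U43PK126.hR1 r hr
  rw [lift_wordF, evc_mk_subst U43KCod.coding]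
  refine PresentedGroup.one_of_mem (mem_relSet _ _ ?_)
  unfold allL tzL
  exact List.mem_append_right _ (List.mem_append_left _ (List.mem_map_of_mem hb))

noncomputable def ψ : H →* P := PresentedGroup.toGroup psi_rel

theorem ψ_of (x : Cfsg.Agent.Helper4.Pres.U43.Gen) :
    ψ (PresentedGroup.of x) = PresentedGroup.mk RP (wordF decK (U43KSD.vups x)) :=
  PresentedGroup.toGroup.of _

theorem ψ_word (w : List ℕ) : ψ (PresentedGroup.mk RH (wordF decH w)) =
    PresentedGroup.mk RP (wordF decK (substW U43KSD.vups decH w)) := by
  rw [hom_word]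
  have h : (fun x => ψ (PresentedGroup.of x)) =
      fun x => PresentedGroup.mk RP (wordF decK (U43KSD.vups x)) := funext ψ_of
  rw [h, evc_mk_subst U43KCod.coding]

/-- a word followed by the inverse of a letter is trivial: the word is the letter -/
theorem eq_of_of_snoc {α : Type} {R : Set (FreeGroup α)} {dec : ℕ → Letter α} (w : List ℕ)
    (c : ℕ) (x : α) (hc : dec c = (x, false))
    (h : PresentedGroup.mk R (wordF dec (w ++ [c])) = 1) :
    PresentedGroup.mk R (wordF dec w) = PresentedGroup.of x := by
  rw [← evc_of, evc_append, evc_cons, evc_nil, one_mul, evc_of, hc] at h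
  have h2 : gl (PresentedGroup.of (rels := R)) ((x, false) : Letter α) =
      (PresentedGroup.of x)⁻¹ := by simp [gl]
  rw [h2] at h
  exact (inv_mul_eq_one.mp h).symm

theorem ψ_surjective : Function.Surjective ψ := by
  rw [← MonoidHom.range_eq_top, eq_top_iff, ← PresentedGroup.closure_range_of RP,
    Subgroup.closure_le]
  rintro _ ⟨k, rfl⟩
  refine ⟨PresentedGroup.mk RH (wordF decH (U43KSD.wups k)), ?_⟩
  rw [ψ_word]
  have hdef : ∀ b ∈ defL, PresentedGroup.mk RP (wordF decK b) = 1 := fun b hb =>
    PresentedGroup.one_of_mem (mem_relSet _ _ (by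
      unfold allL tzL
      exact List.mem_append_right _ (List.mem_append_right _ hb)))
  cases k
  · exact eq_of_of_snoc (substW U43KSD.vups decH (U43KSD.wups .p)) 1 .p rfl
      (hdef _ (by simp only [defL, List.mem_cons, true_or, or_true]))
  · exact eq_of_of_snoc (substW U43KSD.vups decH (U43KSD.wups .q)) 3 .q rfl
      (hdef _ (by simp only [defL, List.mem_cons, true_or, or_true]))
  · exact eq_of_of_snoc (substW U43KSD.vups decH (U43KSD.wups .r)) 5 .r rfl
      (hdef _ (by simp only [defL, List.mem_cons, true_or, or_true]))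

theorem phi_psi (φ : P →* H)
    (hφ : ∀ x, φ (PresentedGroup.of x) = PresentedGroup.mk RH (wordF decH (U43KSD.wups x)))
    (x : Cfsg.Agent.Helper4.Pres.U43.Gen) : φ (ψ (PresentedGroup.of x)) = PresentedGroup.of x := by
  rw [ψ_of, hom_word]
  have h : (fun k => φ (PresentedGroup.of k)) =
      fun k => PresentedGroup.mk RH (wordF decH (U43KSD.wups k)) := funext hφ
  rw [h, evc_mk_subst U43PK126.coding]
  have hid : ∀ b ∈ idL, PresentedGroup.mk RH (wordF decH b) = 1 := fun b hb => hone b (chk2 b hb)
  cases x
  · exact eq_of_of_snoc (substW U43KSD.wups decK (U43KSD.vups .a)) 1 .a rfl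
      (hid _ (by simp only [idL, List.mem_cons, true_or, or_true]))
  · exact eq_of_of_snoc (substW U43KSD.wups decK (U43KSD.vups .b)) 3 .b rfl
      (hid _ (by simp only [idL, List.mem_cons, true_or, or_true]))
  · exact eq_of_of_snoc (substW U43KSD.wups decK (U43KSD.vups .c)) 5 .c rfl
      (hid _ (by simp only [idL, List.mem_cons, true_or, or_true]))

theorem ψ_injective : Function.Injective ψ := by
  obtain ⟨φ, hφ⟩ := exists_phi
  have hcomp : φ.comp ψ = MonoidHom.id H := by
    apply PresentedGroup.ext
    intro x
    exact phi_psi φ hφ x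
  intro a b hab
  have := congrArg φ hab
  have ha : φ (ψ a) = a := DFunLike.congr_fun hcomp a
  have hb : φ (ψ b) = b := DFunLike.congr_fun hcomp b
  rw [ha, hb] at this
  exact this

/-- the isomorphism -/
noncomputable def iso : H ≃* P := MulEquiv.ofBijective ψ ⟨ψ_injective, ψ_surjective⟩

theorem card_P : Nat.card P = 3265920 := by
  rw [← Nat.card_congr iso.toEquiv]
  exact U43PS.main.2

instance : Finite P := Nat.finite_of_card_ne_zero (by rw [card_P]; norm_num)

end Cfsg.Agent.Helper4.TC.U43KIso
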