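import Cfsg.Agent.Lib.Helper4.TC.U43KEx
import Cfsg.Agent.Lib.Helper4.TC.U43Iso
import Cfsg.Agent.Lib.Helper23.L34T
import Cfsg.Agent.Lib.Helper17.O73MultUT

set_option autoImplicit false
set_option linter.unusedVariables false

/-! The Schur multiplier of `PSU₄(3)` is `C4 × C3 × C3`. -/

namespace Cfsg.Agent.Helper4.TC.U43KMain

open Cfsg Cfsg.Agent.Helper4.TC

/-- the group presented on three elements of order 7 -/
theorem hasMult_P :
    HasSchurMultiplier U43KIso.P (Multiplicative (ZMod 4 × ZMod 3 × ZMod 3)) := by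
  obtain ⟨τ, hτ, he⟩ := U43KEx.exists_stem
  refine Cfsg.Agent.Lib.Helper7.L34.hasSchurMultiplier_of_card_le
    ⟨U43KEx.PW, inferInstance, inferInstance, τ, hτ, he⟩ ?_
  intro Γ _ _ σ hσ
  rw [U43KEx.card_A]
  exact U43KSchur.card_ker_le σ hσ

theorem main {F : Type*} [Field F] [Fintype F] (hF : Fintype.card F = 9) :
    HasSchurMultiplier (Cfsg.PSU 4 F 3) (Multiplicative (ZMod 4 × ZMod 3 × ZMod 3)) := by
  obtain ⟨e⟩ := U43Iso.iso_su_field hF
  exact Cfsg.Agent.Lib.Helper2.O73Mult.hasSchurMultiplier_of_mulEquiv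
    (e.symm.trans U43KIso.iso) hasMult_P

end Cfsg.Agent.Helper4.TC.U43KMain
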