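import Cfsg.Agent.Lib.Helper4.TC.U43KModModel
import Cfsg.Agent.Lib.Helper4.TC.Strict

set_option autoImplicit false
set_option maxRecDepth 100000
set_option linter.unusedVariables false
set_option Elab.async false

namespace Cfsg.Agent.Helper4.TC.U43KMod

open Cfsg.Agent.Helper4.TC

theorem rel136 : relsRange mdata basesM 122 16592 = true := relsRange_strict mdata basesM 122 16592 (by decide +kernel)
theorem rel137 : relsRange mdata basesM 122 16714 = true := relsRange_strict mdata basesM 122 16714 (by decide +kernel)
theorem rel138 : relsRange mdata basesM 122 16836 = true := relsRange_strict mdata basesM 122 16836 (by decide +kernel)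
theorem rel139 : relsRange mdata basesM 122 16958 = true := relsRange_strict mdata basesM 122 16958 (by decide +kernel)
theorem rel140 : relsRange mdata basesM 122 17080 = true := relsRange_strict mdata basesM 122 17080 (by decide +kernel)
theorem rel141 : relsRange mdata basesM 122 17202 = true := relsRange_strict mdata basesM 122 17202 (by decide +kernel)
theorem rel142 : relsRange mdata basesM 122 17324 = true := relsRange_strict mdata basesM 122 17324 (by decide +kernel)
theorem rel143 : relsRange mdata basesM 122 17446 = true := relsRange_strict mdata basesM 122 17446 (by decide +kernel)

end Cfsg.Agent.Helper4.TC.U43KMod
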