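import Cfsg.Agent.Lib.Helper4.TC.Timed

set_option autoImplicit false
set_option maxRecDepth 100000
set_option linter.unusedVariables false

namespace Cfsg.Agent.Helper4.TC.U43KS1

open Cfsg.Agent.Helper4.TC

def e0_0 : ℕ := 0x7c0200000000000001d01c0000000000001f0020000000000000f80580000000000007c0000f80281f001
def j0_0 : ℕ := 0x20000000000000000000000130000000000000000000000020000000000000000000000010000000000000000000000020000000100000001
noncomputable def ecol0 (b : ℕ) : ℕ := e0_0
noncomputable def jcol0 (b : ℕ) : ℕ := j0_0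

def e1_0 : ℕ := 0x3802c0000000000003e00a0000000000001f00e0000000000000f80080000000000007c0200f80001f002
def j1_0 : ℕ := 0x5d0000000000000000000000020000000000000000000000010000000000000000000000020000000000000000000000010000000200000001
noncomputable def ecol1 (b : ℕ) : ℕ := e1_0
noncomputable def jcol1 (b : ℕ) : ℕ := j1_0

def e2_0 : ℕ := 0x5fc04c000000000004fe0220000000000037f00f0000000000025f8060000000000016fc0275f8037bf003
def j2_0 : ℕ := 0x10000000000000000000000010000000000000000000000010000000000000000000000010000000000000000000000010000000100000001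
noncomputable def ecol2 (b : ℕ) : ℕ := e2_0
noncomputable def jcol2 (b : ℕ) : ℕ := j2_0

def e3_0 : ℕ := 0x3e01c0000000f80580000003e0100120380000001f0050110160000000f80100c80800000007c00408c0280000003e0000560080cc0081d800
def j3_0 : ℕ := 0x2000000000000000200000000000000020000009e00000000000000020000008e00000000000000020000007e00000000000000020000006600000000000000020000004e000000360000001e
noncomputable def ecol3 (b : ℕ) : ℕ := e3_0
noncomputable def jcol3 (b : ℕ) : ℕ := j3_0

def e4_0 : ℕ := 0x3fc050000000000003fe024000000000002ff0100000000000021f8068000000000014fc02b1f803f3f004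
def j4_0 : ℕ := 0x10000000000000000000000010000000000000000000000010000000000000000000000010000000000000000000000010000000100000001
noncomputable def ecol4 (b : ℕ) : ℕ := e4_0
noncomputable def jcol4 (b : ℕ) : ℕ := j4_0

def e5_0 : ℕ := 0x1f00e00000007c02c0000001f00800000000a0380f80280000000d01607c0080000000a80803e00200000007c0281f00000000004e0080bc0081b800
def j5_0 : ℕ := 0x20000000000000002000000000000000200000000000000a600000002000000000000009600000002000000000000008600000002000000000000006e0000000200000000000000560000003e00000026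
noncomputable def ecol5 (b : ℕ) : ℕ := e5_0
noncomputable def jcol5 (b : ℕ) : ℕ := j5_0

def m_0 : ℕ := 0x401c380e0201c580e04016780b02016980b04010b80802010d80801010000e0400b08050200b28050000a000b04005480202005680201004000804003880102003a80100002000504001c80002001e800010000002000000001000000000
def jm_0 : ℕ := 0x110000000100000011000000010000001100000001000000000000001100000001000000000000001100000001000000000000001100000001000000000000001100000001000000000000000000000000

noncomputable def mgT (b : ℕ) : ℕ := m_0
noncomputable def jmT (b : ℕ) : ℕ := jm_0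
noncomputable def eT (c b : ℕ) : ℕ := Bool.rec (motive := fun _ => ℕ) (Bool.rec (motive := fun _ => ℕ) (ecol0 b) (Bool.rec (motive := fun _ => ℕ) (ecol1 b) (ecol2 b) (Nat.ble 2 c)) (Nat.ble 1 c)) (Bool.rec (motive := fun _ => ℕ) (ecol3 b) (Bool.rec (motive := fun _ => ℕ) (ecol4 b) (ecol5 b) (Nat.ble 5 c)) (Nat.ble 4 c)) (Nat.ble 3 c)
noncomputable def jT (c b : ℕ) : ℕ := Bool.rec (motive := fun _ => ℕ) (Bool.rec (motive := fun _ => ℕ) (jcol0 b) (Bool.rec (motive := fun _ => ℕ) (jcol1 b) (jcol2 b) (Nat.ble 2 c)) (Nat.ble 1 c)) (Bool.rec (motive := fun _ => ℕ) (jcol3 b) (Bool.rec (motive := fun _ => ℕ) (jcol4 b) (jcol5 b) (Nat.ble 5 c)) (Nat.ble 4 c)) (Nat.ble 3 c)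

def rw0 : List ℕ := [2]
def rw1 : List ℕ := [4]
def rw2 : List ℕ := [0, 0, 0, 0, 0, 0, 0]
noncomputable def relW (i : ℕ) : List ℕ := Bool.rec (motive := fun _ => List ℕ) (rw0) (Bool.rec (motive := fun _ => List ℕ) (rw1) (rw2) (Nat.ble 2 i)) (Nat.ble 1 i)
noncomputable def subW (i : ℕ) : List ℕ := []

noncomputable def data : Data where
  w := 11
  mask := 2047
  tw := 6
  tmask := 63
  hsh := 17
  lsh := 28
  ew := 23
  emask := 8388607
  mw := 36
  mmask := 68719476735
  jw := 32
  jmask := 4294967295
  bsh := 11
  bmask := 2047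
  nc := 6
  fuel := 3
  E := eT
  J := jT
  Mg := mgT
  JM := jmT
  relW := relW
  nrot := 3
  subW := subW
  nsub := 0

def M : ℕ := 21
def n : ℕ := 7

def bases : List (List ℕ) := [
  [0, 0, 0, 0, 0, 0, 0],
  [2],
  [4]
]

def rots : List (ℕ × ℕ) := [(1, 0), (2, 0), (0, 0)]

def subsL : List (List ℕ) := [

]

end Cfsg.Agent.Helper4.TC.U43KS1
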