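import Cfsg.Agent.Lib.Helper4.TC.U43KS3D
import Cfsg.Agent.Lib.Helper4.TC.Strict

set_option autoImplicit false
set_option maxRecDepth 100000
set_option linter.unusedVariables false
set_option Elab.async false

namespace Cfsg.Agent.Helper4.TC.U43KS3

open Cfsg.Agent.Helper4.TC

theorem e0_c0 : edgeRange data 0 16968 0 = true := edgeRange_strict data 0 16968 0 (by decide +kernel)
theorem e0_c1 : edgeRange data 0 16729 16968 = true := edgeRange_strict data 0 16729 16968 (by decide +kernel)
theorem e0_c2 : edgeRange data 0 17048 33697 = true := edgeRange_strict data 0 17048 33697 (by decide +kernel)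
theorem e0_c3 : edgeRange data 0 15502 50745 = true := edgeRange_strict data 0 15502 50745 (by decide +kernel)
theorem e0_c4 : edgeRange data 0 15836 66247 = true := edgeRange_strict data 0 15836 66247 (by decide +kernel)
theorem e0_c5 : edgeRange data 0 16596 82083 = true := edgeRange_strict data 0 16596 82083 (by decide +kernel)
theorem e0_c6 : edgeRange data 0 17005 98679 = true := edgeRange_strict data 0 17005 98679 (by decide +kernel)
theorem e0_c7 : edgeRange data 0 16733 115684 = true := edgeRange_strict data 0 16733 115684 (by decide +kernel)
theorem e0_c8 : edgeRange data 0 42754 132417 = true := edgeRange_strict data 0 42754 132417 (by decide +kernel)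
theorem e0_c9 : edgeRange data 0 50000 175171 = true := edgeRange_strict data 0 50000 175171 (by decide +kernel)
theorem e0_c10 : edgeRange data 0 36973 225171 = true := edgeRange_strict data 0 36973 225171 (by decide +kernel)

end Cfsg.Agent.Helper4.TC.U43KS3
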