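import Cfsg.Agent.Lib.Helper4.TC.U43KS3D
import Cfsg.Agent.Lib.Helper4.TC.Strict

set_option autoImplicit false
set_option maxRecDepth 100000
set_option linter.unusedVariables false
set_option Elab.async false

namespace Cfsg.Agent.Helper4.TC.U43KS3

open Cfsg.Agent.Helper4.TC

theorem e1_c0 : edgeRange data 1 17165 0 = true := edgeRange_strict data 1 17165 0 (by decide +kernel)
theorem e1_c1 : edgeRange data 1 16960 17165 = true := edgeRange_strict data 1 16960 17165 (by decide +kernel)
theorem e1_c2 : edgeRange data 1 17212 34125 = true := edgeRange_strict data 1 17212 34125 (by decide +kernel)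
theorem e1_c3 : edgeRange data 1 15538 51337 = true := edgeRange_strict data 1 15538 51337 (by decide +kernel)
theorem e1_c4 : edgeRange data 1 15878 66875 = true := edgeRange_strict data 1 15878 66875 (by decide +kernel)
theorem e1_c5 : edgeRange data 1 16486 82753 = true := edgeRange_strict data 1 16486 82753 (by decide +kernel)
theorem e1_c6 : edgeRange data 1 17312 99239 = true := edgeRange_strict data 1 17312 99239 (by decide +kernel)
theorem e1_c7 : edgeRange data 1 16641 116551 = true := edgeRange_strict data 1 16641 116551 (by decide +kernel)
theorem e1_c8 : edgeRange data 1 44645 133192 = true := edgeRange_strict data 1 44645 133192 (by decide +kernel)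
theorem e1_c9 : edgeRange data 1 50000 177837 = true := edgeRange_strict data 1 50000 177837 (by decide +kernel)
theorem e1_c10 : edgeRange data 1 34307 227837 = true := edgeRange_strict data 1 34307 227837 (by decide +kernel)

end Cfsg.Agent.Helper4.TC.U43KS3
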