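import Cfsg.Agent.Lib.Helper4.TC.U43KS3D
import Cfsg.Agent.Lib.Helper4.TC.Strict

set_option autoImplicit false
set_option maxRecDepth 100000
set_option linter.unusedVariables false
set_option Elab.async false

namespace Cfsg.Agent.Helper4.TC.U43KS3

open Cfsg.Agent.Helper4.TC

theorem e2_c0 : edgeRange data 2 19415 0 = true := edgeRange_strict data 2 19415 0 (by decide +kernel)
theorem e2_c1 : edgeRange data 2 19598 19415 = true := edgeRange_strict data 2 19598 19415 (by decide +kernel)
theorem e2_c2 : edgeRange data 2 19551 39013 = true := edgeRange_strict data 2 19551 39013 (by decide +kernel)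
theorem e2_c3 : edgeRange data 2 18506 58564 = true := edgeRange_strict data 2 18506 58564 (by decide +kernel)
theorem e2_c4 : edgeRange data 2 20255 77070 = true := edgeRange_strict data 2 20255 77070 (by decide +kernel)
theorem e2_c5 : edgeRange data 2 19788 97325 = true := edgeRange_strict data 2 19788 97325 (by decide +kernel)
theorem e2_c6 : edgeRange data 2 19961 117113 = true := edgeRange_strict data 2 19961 117113 (by decide +kernel)
theorem e2_c7 : edgeRange data 2 50000 137074 = true := edgeRange_strict data 2 50000 137074 (by decide +kernel)
theorem e2_c8 : edgeRange data 2 50000 187074 = true := edgeRange_strict data 2 50000 187074 (by decide +kernel)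
theorem e2_c9 : edgeRange data 2 25070 237074 = true := edgeRange_strict data 2 25070 237074 (by decide +kernel)

end Cfsg.Agent.Helper4.TC.U43KS3
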