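import Cfsg.Agent.Lib.Helper4.TC.U43KS3D
import Cfsg.Agent.Lib.Helper4.TC.Strict

set_option autoImplicit false
set_option maxRecDepth 100000
set_option linter.unusedVariables false
set_option Elab.async false

namespace Cfsg.Agent.Helper4.TC.U43KS3

open Cfsg.Agent.Helper4.TC

theorem e3_c0 : edgeRange data 3 18650 0 = true := edgeRange_strict data 3 18650 0 (by decide +kernel)
theorem e3_c1 : edgeRange data 3 18961 18650 = true := edgeRange_strict data 3 18961 18650 (by decide +kernel)
theorem e3_c2 : edgeRange data 3 19138 37611 = true := edgeRange_strict data 3 19138 37611 (by decide +kernel)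
theorem e3_c3 : edgeRange data 3 18678 56749 = true := edgeRange_strict data 3 18678 56749 (by decide +kernel)
theorem e3_c4 : edgeRange data 3 20007 75427 = true := edgeRange_strict data 3 20007 75427 (by decide +kernel)
theorem e3_c5 : edgeRange data 3 20051 95434 = true := edgeRange_strict data 3 20051 95434 (by decide +kernel)
theorem e3_c6 : edgeRange data 3 20175 115485 = true := edgeRange_strict data 3 20175 115485 (by decide +kernel)
theorem e3_c7 : edgeRange data 3 49356 135660 = true := edgeRange_strict data 3 49356 135660 (by decide +kernel)
theorem e3_c8 : edgeRange data 3 50000 185016 = true := edgeRange_strict data 3 50000 185016 (by decide +kernel)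
theorem e3_c9 : edgeRange data 3 27128 235016 = true := edgeRange_strict data 3 27128 235016 (by decide +kernel)

end Cfsg.Agent.Helper4.TC.U43KS3
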