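import Cfsg.Agent.Lib.Helper4.TC.U43KS3D
import Cfsg.Agent.Lib.Helper4.TC.Strict

set_option autoImplicit false
set_option maxRecDepth 100000
set_option linter.unusedVariables false
set_option Elab.async false

namespace Cfsg.Agent.Helper4.TC.U43KS3

open Cfsg.Agent.Helper4.TC

theorem e4_c0 : edgeRange data 4 20360 0 = true := edgeRange_strict data 4 20360 0 (by decide +kernel)
theorem e4_c1 : edgeRange data 4 19386 20360 = true := edgeRange_strict data 4 19386 20360 (by decide +kernel)
theorem e4_c2 : edgeRange data 4 18619 39746 = true := edgeRange_strict data 4 18619 39746 (by decide +kernel)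
theorem e4_c3 : edgeRange data 4 17316 58365 = true := edgeRange_strict data 4 17316 58365 (by decide +kernel)
theorem e4_c4 : edgeRange data 4 18304 75681 = true := edgeRange_strict data 4 18304 75681 (by decide +kernel)
theorem e4_c5 : edgeRange data 4 18653 93985 = true := edgeRange_strict data 4 18653 93985 (by decide +kernel)
theorem e4_c6 : edgeRange data 4 18799 112638 = true := edgeRange_strict data 4 18799 112638 (by decide +kernel)
theorem e4_c7 : edgeRange data 4 43054 131437 = true := edgeRange_strict data 4 43054 131437 (by decide +kernel)
theorem e4_c8 : edgeRange data 4 50000 174491 = true := edgeRange_strict data 4 50000 174491 (by decide +kernel)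
theorem e4_c9 : edgeRange data 4 37653 224491 = true := edgeRange_strict data 4 37653 224491 (by decide +kernel)

end Cfsg.Agent.Helper4.TC.U43KS3
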