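import Cfsg.Agent.Lib.Helper4.TC.U43KS3D
import Cfsg.Agent.Lib.Helper4.TC.Strict

set_option autoImplicit false
set_option maxRecDepth 100000
set_option linter.unusedVariables false
set_option Elab.async false

namespace Cfsg.Agent.Helper4.TC.U43KS3

open Cfsg.Agent.Helper4.TC

theorem e5_c0 : edgeRange data 5 20586 0 = true := edgeRange_strict data 5 20586 0 (by decide +kernel)
theorem e5_c1 : edgeRange data 5 19886 20586 = true := edgeRange_strict data 5 19886 20586 (by decide +kernel)
theorem e5_c2 : edgeRange data 5 18853 40472 = true := edgeRange_strict data 5 18853 40472 (by decide +kernel)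
theorem e5_c3 : edgeRange data 5 17875 59325 = true := edgeRange_strict data 5 17875 59325 (by decide +kernel)
theorem e5_c4 : edgeRange data 5 19011 77200 = true := edgeRange_strict data 5 19011 77200 (by decide +kernel)
theorem e5_c5 : edgeRange data 5 19538 96211 = true := edgeRange_strict data 5 19538 96211 (by decide +kernel)
theorem e5_c6 : edgeRange data 5 19652 115749 = true := edgeRange_strict data 5 19652 115749 (by decide +kernel)
theorem e5_c7 : edgeRange data 5 48914 135401 = true := edgeRange_strict data 5 48914 135401 (by decide +kernel)
theorem e5_c8 : edgeRange data 5 50000 184315 = true := edgeRange_strict data 5 50000 184315 (by decide +kernel)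
theorem e5_c9 : edgeRange data 5 27829 234315 = true := edgeRange_strict data 5 27829 234315 (by decide +kernel)

end Cfsg.Agent.Helper4.TC.U43KS3
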