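import Cfsg.Agent.Lib.Helper4.TC.U43KS3D
import Cfsg.Agent.Lib.Helper4.TC.Strict

set_option autoImplicit false
set_option maxRecDepth 100000
set_option linter.unusedVariables false
set_option Elab.async false

namespace Cfsg.Agent.Helper4.TC.U43KS3

open Cfsg.Agent.Helper4.TC

theorem cnt0 : countFinal data 50000 0 0 = 17511 := countFinal_strict data 50000 0 0 17511 (by decide +kernel)
theorem cnt1 : countFinal data 50000 50000 0 = 1861 := countFinal_strict data 50000 50000 0 1861 (by decide +kernel)
theorem cnt2 : countFinal data 36061 100000 0 = 68 := countFinal_strict data 36061 100000 0 68 (by decide +kernel)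
theorem rows0 : rowsRange data 136061 3042 0 = true := rowsRange_strict data 136061 3042 0 (by decide +kernel)
theorem rows1 : rowsRange data 136061 3806 3042 = true := rowsRange_strict data 136061 3806 3042 (by decide +kernel)
theorem rows2 : rowsRange data 136061 4465 6848 = true := rowsRange_strict data 136061 4465 6848 (by decide +kernel)
theorem rows3 : rowsRange data 136061 5520 11313 = true := rowsRange_strict data 136061 5520 11313 (by decide +kernel)
theorem rows4 : rowsRange data 136061 6791 16833 = true := rowsRange_strict data 136061 6791 16833 (by decide +kernel)

end Cfsg.Agent.Helper4.TC.U43KS3
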