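import Cfsg.Agent.Lib.Helper4.TC.U43KS3D
import Cfsg.Agent.Lib.Helper4.TC.Strict

set_option autoImplicit false
set_option maxRecDepth 100000
set_option linter.unusedVariables false
set_option Elab.async false

namespace Cfsg.Agent.Helper4.TC.U43KS3

open Cfsg.Agent.Helper4.TC

theorem rows5 : rowsRange data 136061 9166 23624 = true := rowsRange_strict data 136061 9166 23624 (by decide +kernel)
theorem rows6 : rowsRange data 136061 12506 32790 = true := rowsRange_strict data 136061 12506 32790 (by decide +kernel)
theorem rows7 : rowsRange data 136061 19985 45296 = true := rowsRange_strict data 136061 19985 45296 (by decide +kernel)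
theorem rows8 : rowsRange data 136061 35960 65281 = true := rowsRange_strict data 136061 35960 65281 (by decide +kernel)
theorem rows9 : rowsRange data 136061 34820 101241 = true := rowsRange_strict data 136061 34820 101241 (by decide +kernel)

end Cfsg.Agent.Helper4.TC.U43KS3
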