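import Cfsg.Agent.Lib.Helper4.TC.U43KS3D
import Cfsg.Agent.Lib.Helper4.TC.Strict

set_option autoImplicit false
set_option maxRecDepth 100000
set_option linter.unusedVariables false
set_option Elab.async false

namespace Cfsg.Agent.Helper4.TC.U43KS3

open Cfsg.Agent.Helper4.TC

theorem m_c0 : mergeRange data 22964 0 = true := mergeRange_strict data 22964 0 (by decide +kernel)
theorem m_c1 : mergeRange data 17781 22964 = true := mergeRange_strict data 17781 22964 (by decide +kernel)
theorem m_c2 : mergeRange data 16775 40745 = true := mergeRange_strict data 16775 40745 (by decide +kernel)
theorem m_c3 : mergeRange data 9799 57520 = true := mergeRange_strict data 9799 57520 (by decide +kernel)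
theorem m_c4 : mergeRange data 9024 67319 = true := mergeRange_strict data 9024 67319 (by decide +kernel)
theorem m_c5 : mergeRange data 7827 76343 = true := mergeRange_strict data 7827 76343 (by decide +kernel)
theorem m_c6 : mergeRange data 8308 84170 = true := mergeRange_strict data 8308 84170 (by decide +kernel)
theorem m_c7 : mergeRange data 7907 92478 = true := mergeRange_strict data 7907 92478 (by decide +kernel)
theorem m_c8 : mergeRange data 6850 100385 = true := mergeRange_strict data 6850 100385 (by decide +kernel)
theorem m_c9 : mergeRange data 6809 107235 = true := mergeRange_strict data 6809 107235 (by decide +kernel)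
theorem m_c10 : mergeRange data 6561 114044 = true := mergeRange_strict data 6561 114044 (by decide +kernel)
theorem m_c11 : mergeRange data 6467 120605 = true := mergeRange_strict data 6467 120605 (by decide +kernel)
theorem m_c12 : mergeRange data 6855 127072 = true := mergeRange_strict data 6855 127072 (by decide +kernel)
theorem m_c13 : mergeRange data 34855 133927 = true := mergeRange_strict data 34855 133927 (by decide +kernel)
theorem m_c14 : mergeRange data 50000 168782 = true := mergeRange_strict data 50000 168782 (by decide +kernel)
theorem m_c15 : mergeRange data 43362 218782 = true := mergeRange_strict data 43362 218782 (by decide +kernel)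

end Cfsg.Agent.Helper4.TC.U43KS3
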