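import Cfsg.Agent.Lib.Helper4.TC.Perm
import Cfsg.Agent.Lib.Helper4.TC.U43KCod
import Cfsg.Agent.Lib.Helper4.TC.U43KS3Fin
import Cfsg.Agent.Lib.Helper4.TC.U43KS3CM
import Cfsg.Agent.Lib.Helper4.TC.U43KS3CE0
import Cfsg.Agent.Lib.Helper4.TC.U43KS3CE1
import Cfsg.Agent.Lib.Helper4.TC.U43KS3CE2
import Cfsg.Agent.Lib.Helper4.TC.U43KS3CE3
import Cfsg.Agent.Lib.Helper4.TC.U43KS3CE4
import Cfsg.Agent.Lib.Helper4.TC.U43KS3CE5
import Cfsg.Agent.Lib.Helper4.TC.U43KS3CF0
import Cfsg.Agent.Lib.Helper4.TC.U43KS3CF1

set_option autoImplicit false
set_option maxRecDepth 100000
set_option linter.unusedVariables false

namespace Cfsg.Agent.Helper4.TC.U43KS3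

open Cfsg.Agent.Helper4.TC

theorem allE0 : ∀ k, k < 262144 → justE data 0 k = true := by
  intro k hk
  by_cases hh1 : k < 82083
  · skip
    by_cases hh2 : k < 33697
    · skip
      by_cases hh3 : k < 16968
      · skip
        exact edgeRange_sound data 0 16968 0 e0_c0 k (by omega) (by omega)
      · skip
        exact edgeRange_sound data 0 16729 16968 e0_c1 k (by omega) (by omega)
    · skip
      by_cases hh4 : k < 50745
      · skip
        exact edgeRange_sound data 0 17048 33697 e0_c2 k (by omega) (by omega)
      · skip
        by_cases hh5 : k < 66247
        · skip
          exact edgeRange_sound data 0 15502 50745 e0_c3 k (by omega) (by omega)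
        · skip
          exact edgeRange_sound data 0 15836 66247 e0_c4 k (by omega) (by omega)
  · skip
    by_cases hh6 : k < 132417
    · skip
      by_cases hh7 : k < 98679
      · skip
        exact edgeRange_sound data 0 16596 82083 e0_c5 k (by omega) (by omega)
      · skip
        by_cases hh8 : k < 115684
        · skip
          exact edgeRange_sound data 0 17005 98679 e0_c6 k (by omega) (by omega)
        · skip
          exact edgeRange_sound data 0 16733 115684 e0_c7 k (by omega) (by omega)
    · skip
      by_cases hh9 : k < 175171
      · skip
        exact edgeRange_sound data 0 42754 132417 e0_c8 k (by omega) (by omega)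
      · skip
        by_cases hh10 : k < 225171
        · skip
          exact edgeRange_sound data 0 50000 175171 e0_c9 k (by omega) (by omega)
        · skip
          exact edgeRange_sound data 0 36973 225171 e0_c10 k (by omega) (by omega)

theorem allE1 : ∀ k, k < 262144 → justE data 1 k = true := by
  intro k hk
  by_cases hh1 : k < 82753
  · skip
    by_cases hh2 : k < 34125
    · skip
      by_cases hh3 : k < 17165
      · skip
        exact edgeRange_sound data 1 17165 0 e1_c0 k (by omega) (by omega)
      · skip
        exact edgeRange_sound data 1 16960 17165 e1_c1 k (by omega) (by omega)
    · skip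
      by_cases hh4 : k < 51337
      · skip
        exact edgeRange_sound data 1 17212 34125 e1_c2 k (by omega) (by omega)
      · skip
        by_cases hh5 : k < 66875
        · skip
          exact edgeRange_sound data 1 15538 51337 e1_c3 k (by omega) (by omega)
        · skip
          exact edgeRange_sound data 1 15878 66875 e1_c4 k (by omega) (by omega)
  · skip
    by_cases hh6 : k < 133192
    · skip
      by_cases hh7 : k < 99239
      · skip
        exact edgeRange_sound data 1 16486 82753 e1_c5 k (by omega) (by omega)
      · skip
        by_cases hh8 : k < 116551
        · skip
          exact edgeRange_sound data 1 17312 99239 e1_c6 k (by omega) (by omega)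
        · skip
          exact edgeRange_sound data 1 16641 116551 e1_c7 k (by omega) (by omega)
    · skip
      by_cases hh9 : k < 177837
      · skip
        exact edgeRange_sound data 1 44645 133192 e1_c8 k (by omega) (by omega)
      · skip
        by_cases hh10 : k < 227837
        · skip
          exact edgeRange_sound data 1 50000 177837 e1_c9 k (by omega) (by omega)
        · skip
          exact edgeRange_sound data 1 34307 227837 e1_c10 k (by omega) (by omega)

theorem allE2 : ∀ k, k < 262144 → justE data 2 k = true := by
  intro k hk
  by_cases hh1 : k < 97325
  · skip
    by_cases hh2 : k < 39013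
    · skip
      by_cases hh3 : k < 19415
      · skip
        exact edgeRange_sound data 2 19415 0 e2_c0 k (by omega) (by omega)
      · skip
        exact edgeRange_sound data 2 19598 19415 e2_c1 k (by omega) (by omega)
    · skip
      by_cases hh4 : k < 58564
      · skip
        exact edgeRange_sound data 2 19551 39013 e2_c2 k (by omega) (by omega)
      · skip
        by_cases hh5 : k < 77070
        · skip
          exact edgeRange_sound data 2 18506 58564 e2_c3 k (by omega) (by omega)
        · skip
          exact edgeRange_sound data 2 20255 77070 e2_c4 k (by omega) (by omega)
  · skip
    by_cases hh6 : k < 137074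
    · skip
      by_cases hh7 : k < 117113
      · skip
        exact edgeRange_sound data 2 19788 97325 e2_c5 k (by omega) (by omega)
      · skip
        exact edgeRange_sound data 2 19961 117113 e2_c6 k (by omega) (by omega)
    · skip
      by_cases hh8 : k < 187074
      · skip
        exact edgeRange_sound data 2 50000 137074 e2_c7 k (by omega) (by omega)
      · skip
        by_cases hh9 : k < 237074
        · skip
          exact edgeRange_sound data 2 50000 187074 e2_c8 k (by omega) (by omega)
        · skip
          exact edgeRange_sound data 2 25070 237074 e2_c9 k (by omega) (by omega)

theorem allE3 : ∀ k, k < 262144 → justE data 3 k = true := by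
  intro k hk
  by_cases hh1 : k < 95434
  · skip
    by_cases hh2 : k < 37611
    · skip
      by_cases hh3 : k < 18650
      · skip
        exact edgeRange_sound data 3 18650 0 e3_c0 k (by omega) (by omega)
      · skip
        exact edgeRange_sound data 3 18961 18650 e3_c1 k (by omega) (by omega)
    · skip
      by_cases hh4 : k < 56749
      · skip
        exact edgeRange_sound data 3 19138 37611 e3_c2 k (by omega) (by omega)
      · skip
        by_cases hh5 : k < 75427
        · skip
          exact edgeRange_sound data 3 18678 56749 e3_c3 k (by omega) (by omega)
        · skip
          exact edgeRange_sound data 3 20007 75427 e3_c4 k (by omega) (by omega)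
  · skip
    by_cases hh6 : k < 135660
    · skip
      by_cases hh7 : k < 115485
      · skip
        exact edgeRange_sound data 3 20051 95434 e3_c5 k (by omega) (by omega)
      · skip
        exact edgeRange_sound data 3 20175 115485 e3_c6 k (by omega) (by omega)
    · skip
      by_cases hh8 : k < 185016
      · skip
        exact edgeRange_sound data 3 49356 135660 e3_c7 k (by omega) (by omega)
      · skip
        by_cases hh9 : k < 235016
        · skip
          exact edgeRange_sound data 3 50000 185016 e3_c8 k (by omega) (by omega)
        · skip
          exact edgeRange_sound data 3 27128 235016 e3_c9 k (by omega) (by omega)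

theorem allE4 : ∀ k, k < 262144 → justE data 4 k = true := by
  intro k hk
  by_cases hh1 : k < 93985
  · skip
    by_cases hh2 : k < 39746
    · skip
      by_cases hh3 : k < 20360
      · skip
        exact edgeRange_sound data 4 20360 0 e4_c0 k (by omega) (by omega)
      · skip
        exact edgeRange_sound data 4 19386 20360 e4_c1 k (by omega) (by omega)
    · skip
      by_cases hh4 : k < 58365
      · skip
        exact edgeRange_sound data 4 18619 39746 e4_c2 k (by omega) (by omega)
      · skip
        by_cases hh5 : k < 75681
        · skip
          exact edgeRange_sound data 4 17316 58365 e4_c3 k (by omega) (by omega)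
        · skip
          exact edgeRange_sound data 4 18304 75681 e4_c4 k (by omega) (by omega)
  · skip
    by_cases hh6 : k < 131437
    · skip
      by_cases hh7 : k < 112638
      · skip
        exact edgeRange_sound data 4 18653 93985 e4_c5 k (by omega) (by omega)
      · skip
        exact edgeRange_sound data 4 18799 112638 e4_c6 k (by omega) (by omega)
    · skip
      by_cases hh8 : k < 174491
      · skip
        exact edgeRange_sound data 4 43054 131437 e4_c7 k (by omega) (by omega)
      · skip
        by_cases hh9 : k < 224491
        · skip
          exact edgeRange_sound data 4 50000 174491 e4_c8 k (by omega) (by omega)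
        · skip
          exact edgeRange_sound data 4 37653 224491 e4_c9 k (by omega) (by omega)

theorem allE5 : ∀ k, k < 262144 → justE data 5 k = true := by
  intro k hk
  by_cases hh1 : k < 96211
  · skip
    by_cases hh2 : k < 40472
    · skip
      by_cases hh3 : k < 20586
      · skip
        exact edgeRange_sound data 5 20586 0 e5_c0 k (by omega) (by omega)
      · skip
        exact edgeRange_sound data 5 19886 20586 e5_c1 k (by omega) (by omega)
    · skip
      by_cases hh4 : k < 59325
      · skip
        exact edgeRange_sound data 5 18853 40472 e5_c2 k (by omega) (by omega)
      · skip
        by_cases hh5 : k < 77200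
        · skip
          exact edgeRange_sound data 5 17875 59325 e5_c3 k (by omega) (by omega)
        · skip
          exact edgeRange_sound data 5 19011 77200 e5_c4 k (by omega) (by omega)
  · skip
    by_cases hh6 : k < 135401
    · skip
      by_cases hh7 : k < 115749
      · skip
        exact edgeRange_sound data 5 19538 96211 e5_c5 k (by omega) (by omega)
      · skip
        exact edgeRange_sound data 5 19652 115749 e5_c6 k (by omega) (by omega)
    · skip
      by_cases hh8 : k < 184315
      · skip
        exact edgeRange_sound data 5 48914 135401 e5_c7 k (by omega) (by omega)
      · skip
        by_cases hh9 : k < 234315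
        · skip
          exact edgeRange_sound data 5 50000 184315 e5_c8 k (by omega) (by omega)
        · skip
          exact edgeRange_sound data 5 27829 234315 e5_c9 k (by omega) (by omega)

theorem allE : ∀ c k, c < data.nc → k ≤ data.mask → justE data c k = true := by
  intro c k hc hk
  have hc' : c < 6 := hc
  have hk' : k < 262144 := Nat.lt_succ_of_le hk
  interval_cases c
  · exact allE0 k hk'
  · exact allE1 k hk'
  · exact allE2 k hk'
  · exact allE3 k hk'
  · exact allE4 k hk'
  · exact allE5 k hk'

theorem allM : ∀ k, k ≤ data.mask → justM data k = true := by
  intro k hk
  have hk' : k < 262144 := Nat.lt_succ_of_le hk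
  by_cases hh1 : k < 100385
  · skip
    by_cases hh2 : k < 67319
    · skip
      by_cases hh3 : k < 40745
      · skip
        by_cases hh4 : k < 22964
        · skip
          exact mergeRange_sound data 22964 0 m_c0 k (by omega) (by omega)
        · skip
          exact mergeRange_sound data 17781 22964 m_c1 k (by omega) (by omega)
      · skip
        by_cases hh5 : k < 57520
        · skip
          exact mergeRange_sound data 16775 40745 m_c2 k (by omega) (by omega)
        · skip
          exact mergeRange_sound data 9799 57520 m_c3 k (by omega) (by omega)
    · skip
      by_cases hh6 : k < 84170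
      · skip
        by_cases hh7 : k < 76343
        · skip
          exact mergeRange_sound data 9024 67319 m_c4 k (by omega) (by omega)
        · skip
          exact mergeRange_sound data 7827 76343 m_c5 k (by omega) (by omega)
      · skip
        by_cases hh8 : k < 92478
        · skip
          exact mergeRange_sound data 8308 84170 m_c6 k (by omega) (by omega)
        · skip
          exact mergeRange_sound data 7907 92478 m_c7 k (by omega) (by omega)
  · skip
    by_cases hh9 : k < 127072
    · skip
      by_cases hh10 : k < 114044
      · skip
        by_cases hh11 : k < 107235
        · skip
          exact mergeRange_sound data 6850 100385 m_c8 k (by omega) (by omega)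
        · skip
          exact mergeRange_sound data 6809 107235 m_c9 k (by omega) (by omega)
      · skip
        by_cases hh12 : k < 120605
        · skip
          exact mergeRange_sound data 6561 114044 m_c10 k (by omega) (by omega)
        · skip
          exact mergeRange_sound data 6467 120605 m_c11 k (by omega) (by omega)
    · skip
      by_cases hh13 : k < 168782
      · skip
        by_cases hh14 : k < 133927
        · skip
          exact mergeRange_sound data 6855 127072 m_c12 k (by omega) (by omega)
        · skip
          exact mergeRange_sound data 34855 133927 m_c13 k (by omega) (by omega)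
      · skip
        by_cases hh15 : k < 218782
        · skip
          exact mergeRange_sound data 50000 168782 m_c14 k (by omega) (by omega)
        · skip
          exact mergeRange_sound data 43362 218782 m_c15 k (by omega) (by omega)

theorem rows_all : ∀ k, k < M → isFinal data k = true → rowOK data M k data.nc = true := by
  intro k hk
  have hk' : k < 136061 := hk
  by_cases hh1 : k < 23624
  · skip
    by_cases hh2 : k < 6848
    · skip
      by_cases hh3 : k < 3042
      · skip
        exact rowsRange_sound data M 3042 0 rows0 k (by omega) (by omega)
      · skip
        exact rowsRange_sound data M 3806 3042 rows1 k (by omega) (by omega)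
    · skip
      by_cases hh4 : k < 11313
      · skip
        exact rowsRange_sound data M 4465 6848 rows2 k (by omega) (by omega)
      · skip
        by_cases hh5 : k < 16833
        · skip
          exact rowsRange_sound data M 5520 11313 rows3 k (by omega) (by omega)
        · skip
          exact rowsRange_sound data M 6791 16833 rows4 k (by omega) (by omega)
  · skip
    by_cases hh6 : k < 45296
    · skip
      by_cases hh7 : k < 32790
      · skip
        exact rowsRange_sound data M 9166 23624 rows5 k (by omega) (by omega)
      · skip
        exact rowsRange_sound data M 12506 32790 rows6 k (by omega) (by omega)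
    · skip
      by_cases hh8 : k < 65281
      · skip
        exact rowsRange_sound data M 19985 45296 rows7 k (by omega) (by omega)
      · skip
        by_cases hh9 : k < 101241
        · skip
          exact rowsRange_sound data M 35960 65281 rows8 k (by omega) (by omega)
        · skip
          exact rowsRange_sound data M 34820 101241 rows9 k (by omega) (by omega)

theorem cnt_ok : countFinal data M 0 0 = n := by
  have c0 : countFinal data 50000 0 0 = 17511 := cnt0
  have c1 : countFinal data (50000 + 50000) 0 0 = 17511 + 1861 :=
    countFinal_split data (50000) 50000 0 50000 (17511) 1861 (by norm_num) c0 cnt1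
  have c2 : countFinal data (50000 + 50000 + 36061) 0 0 = 17511 + 1861 + 68 :=
    countFinal_split data (50000 + 50000) 36061 0 100000 (17511 + 1861) 68 (by norm_num) c1 cnt2
  have e1 : 50000 + 50000 + 36061 = M := by norm_num [M]
  have e2 : 17511 + 1861 + 68 = n := by norm_num [n]
  rw [← e1, ← e2]
  exact c2

/-- the index of the subgroup generated by `subsL` in the group with relators `bases` -/
theorem bound : Finite (PresentedGroup (relSet U43KCod.dec bases) ⧸ (Subgroup.closure (relSet U43KCod.dec subsL)).map (PresentedGroup.mk (relSet U43KCod.dec bases))) ∧
    Nat.card (PresentedGroup (relSet U43KCod.dec bases) ⧸ (Subgroup.closure (relSet U43KCod.dec subsL)).map (PresentedGroup.mk (relSet U43KCod.dec bases))) ≤ n :=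
  tc_bound data bases subsL rots U43KCod.coding (mem_relSet bases) (mem_relSet subsL) words_ok allE allM M n fin0_ok (by decide) (by decide) cnt_ok rows_all

end Cfsg.Agent.Helper4.TC.U43KS3
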