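import Cfsg.Agent.Lib.Helper4.TC.U43KS3B
import Cfsg.Agent.Lib.Helper4.TC.U43KS2B
import Cfsg.Agent.Lib.Helper4.TC.U43KS1B
import Cfsg.Agent.Lib.Helper4.TC.Schur3
import Cfsg.Agent.Lib.Helper4.TC.PresU43

set_option autoImplicit false
set_option maxRecDepth 100000
set_option linter.unusedVariables false

namespace Cfsg.Agent.Helper4.TC.U43KSD

open Cfsg.Agent.Helper4.TC

/-- the relators which hold exactly for the lifts: products of two conjugates of powers of generators -/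
def exD : List (List ℕ × ℕ × ℕ × List ℕ × ℕ × ℕ) := [([2, 0, 3, 3, 0, 2, 0, 3], 0, 1, [], 1, 2),
  ([1, 1, 2, 2, 1, 2, 2, 0, 0, 3], 0, 1, [], 2, 1),
  ([4, 1, 1, 1], 4, 1, [], 1, 4),
  ([5, 5, 1, 1], 4, 1, [], 1, 1),
  ([0, 0], 4, 1, [5, 5], 1, 1),
  ([0, 0, 4, 4], 0, 1, [], 5, 1),
  ([0], 4, 1, [4, 0, 5], 1, 1),
  ([0, 0, 0], 4, 2, [4], 1, 1),
  ([0, 0, 0, 5], 0, 1, [], 5, 2),
  ([0, 0], 4, 2, [4, 1], 5, 1),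
  ([], 0, 2, [4, 4, 4, 1], 5, 1),
  ([], 0, 2, [5, 5, 5, 0], 5, 1),
  ([], 0, 3, [4, 1, 1, 1], 4, 1),
  ([], 0, 3, [5, 0, 5, 5], 0, 1),
  ([], 0, 2, [4, 4, 0, 0], 5, 2)]
def pwL : List (List ℕ) := [[0, 0, 0, 0, 0, 0, 0],
  [2, 2, 2, 2, 2, 2, 2],
  [4, 4, 4, 4, 4, 4, 4]]
def exL : List (List ℕ) := pwL ++ exD.map Schur.pairW
def ceL : List (List ℕ) := [[0, 2, 0, 2, 0, 2],
  [0, 0, 2, 2, 0, 0, 2, 2],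
  [0, 3, 0, 3, 0, 3, 0, 3],
  [0, 0, 2, 1, 3, 1, 3, 0, 2, 2],
  [0, 0, 2, 2, 0, 3, 1, 3, 1, 2],
  [0, 0, 0, 0, 0, 0, 3, 1, 3, 1, 3],
  [0, 0, 0, 0, 0, 3, 3, 1, 1, 3, 3],
  [0, 0, 2, 2, 0, 0, 3, 3, 3, 3, 3],
  [0, 2, 0, 2, 0, 3, 3, 3, 3, 3, 3],
  [0, 0, 2, 0, 2, 0, 0, 3, 0, 3, 0, 3],
  [0, 0, 2, 1, 3, 0, 2, 2, 0, 3, 1, 2],
  [0, 2, 0, 2, 1, 3, 0, 2, 0, 2, 1, 3],
  [0, 2, 0, 2, 2, 1, 2, 1, 2, 1, 2, 2],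
  [0, 2, 0, 3, 1, 2, 0, 2, 0, 3, 1, 2],
  [0, 2, 1, 3, 0, 2, 1, 3, 0, 2, 1, 3],
  [0, 0, 0, 0, 0, 0, 2, 1, 2, 1, 2, 1, 2],
  [0, 0, 0, 0, 0, 3, 0, 2, 0, 2, 1, 3, 3],
  [0, 0, 0, 0, 0, 3, 3, 1, 2, 0, 2, 0, 3],
  [0, 0, 0, 2, 1, 2, 0, 0, 3, 0, 2, 1, 3],
  [0, 0, 0, 3, 1, 2, 0, 3, 0, 0, 2, 1, 2],
  [0, 0, 2, 1, 3, 1, 3, 0, 3, 3, 3, 3, 3],
  [0, 0, 3, 3, 3, 3, 3, 0, 3, 1, 3, 1, 2],
  [0, 2, 1, 2, 2, 0, 3, 0, 2, 2, 2, 1, 3],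
  [0, 2, 1, 3, 0, 3, 3, 1, 2, 1, 3, 3, 3],
  [0, 2, 2, 2, 2, 2, 2, 0, 3, 0, 3, 0, 3],
  [0, 0, 5, 1, 4, 0, 5, 0, 4, 4],
  [0, 0, 0, 0, 5, 0, 4, 4, 4, 0, 5],
  [0, 0, 0, 0, 5, 5, 1, 4, 4, 0, 5],
  [0, 0, 5, 0, 4, 1, 4, 1, 4, 0, 5],
  [0, 0, 0, 0, 0, 4, 1, 1, 4, 1, 1, 4],
  [0, 0, 0, 4, 1, 5, 0, 0, 5, 1, 1, 5],
  [0, 0, 5, 5, 0, 5, 3, 5, 5, 0, 5, 2],
  [0, 0, 0, 4, 4, 4, 3, 5, 5, 0, 5, 2, 4],
  [0, 0, 3, 3, 5, 0, 2, 0, 2, 5, 5, 3, 4],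
  [0, 0, 4, 0, 2, 5, 1, 4, 1, 4, 3, 5, 5],
  [0, 2, 0, 3, 3, 3, 1, 3, 3, 4, 1, 4, 4],
  [0, 2, 0, 3, 4, 1, 4, 1, 5, 2, 0, 3, 3],
  [0, 2, 1, 5, 5, 2, 0, 3, 4, 4, 4, 0, 3],
  [0, 2, 2, 1, 5, 0, 5, 5, 3, 1, 2, 2, 2],
  [0, 4, 4, 3, 5, 5, 0, 5, 2, 0, 4, 4, 4],
  [0, 3, 5, 0, 3, 5, 0, 3, 5]]
def g3 : List (List ℕ) := [[0], [2], [4]]

/-- the generators as words in the three generators of the presented group of order 3265920 -/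
def wups : Cfsg.Agent.Helper4.Pres.U43K.Gen → List ℕ
  | .p => [3, 4, 2, 0, 3, 0, 5, 1, 4, 2, 2]
  | .q => [0, 3, 0, 3, 3, 5, 0, 3, 5, 1]
  | .r => [2, 5, 3, 3, 5, 3, 3, 4, 2, 2]
/-- the three generators of the presented group as words in the generators -/
def vups : Cfsg.Agent.Helper4.Pres.U43.Gen → List ℕ
  | .a => [5, 2, 5, 3, 3, 5, 3, 3, 3, 4]
  | .b => [4, 2, 1, 2, 5, 0, 5, 2, 0, 5]
  | .c => [0, 5, 0, 5, 5, 2, 2]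

theorem hb3 : U43KS3.bases = exL ++ Schur.weakify0 g3 ceL := by decide +kernel

theorem card1 : Finite (PresentedGroup (relSet U43KCod.dec U43KS1.bases)) ∧ Nat.card (PresentedGroup (relSet U43KCod.dec U43KS1.bases)) ≤ 7 := by
  refine stage_bot _ _ ?_ _ U43KS1.bound
  rintro s ⟨b, hb, _⟩
  simp [U43KS1.subsL] at hb

theorem card2 : Finite (PresentedGroup (relSet U43KCod.dec U43KS2.bases)) ∧ Nat.card (PresentedGroup (relSet U43KCod.dec U43KS2.bases)) ≤ 6048 := by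
  have h := stage_bound (relSet U43KCod.dec U43KS2.bases) (relSet U43KCod.dec U43KS1.bases) (relSet U43KCod.dec U43KS2.subsL) U43KS2.bases U43KS1.bases U43KS2.subsL
    (fun x : Cfsg.Agent.Helper4.Pres.U43K.Gen => decide (x ∈ ([.p] : List Cfsg.Agent.Helper4.Pres.U43K.Gen))) (mem_relSet _) (fun r hr => hr) (fun s hs => hs) (by decide +kernel) (by decide +kernel) U43KS2.n 7 U43KS2.bound card1
  exact ⟨h.1, h.2.trans (by decide)⟩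

theorem card3 : Finite (PresentedGroup (relSet U43KCod.dec U43KS3.bases)) ∧ Nat.card (PresentedGroup (relSet U43KCod.dec U43KS3.bases)) ≤ 117573120 := by
  have h := stage_bound (relSet U43KCod.dec U43KS3.bases) (relSet U43KCod.dec U43KS2.bases) (relSet U43KCod.dec U43KS3.subsL) U43KS3.bases U43KS2.bases U43KS3.subsL
    (fun x : Cfsg.Agent.Helper4.Pres.U43K.Gen => decide (x ∈ ([.p, .q] : List Cfsg.Agent.Helper4.Pres.U43K.Gen))) (mem_relSet _) (fun r hr => hr) (fun s hs => hs) (by decide +kernel) (by decide +kernel) U43KS3.n 6048 U43KS3.bound card2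
  exact ⟨h.1, h.2.trans (by decide)⟩

end Cfsg.Agent.Helper4.TC.U43KSD
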