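import Cfsg.Agent.Lib.Helper4.TC.U43KIso
import Cfsg.Agent.Lib.Helper4.TC.SchurTwo

set_option autoImplicit false
set_option maxRecDepth 100000
set_option linter.unusedVariables false
set_option linter.style.haveILetI false

/-! The kernel of a stem extension of the group of order 3265920 presented on three elements of
order 7 has order at most 36: its order is prime to 7, so the extension is a quotient of the group
in which the relators which are not products of two conjugates of powers of the generators are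
only central, and this group has at most 36 times the order of the group. -/

namespace Cfsg.Agent.Helper4.TC.U43KSchur

open Cfsg Cfsg.Agent.Helper4.TC Cfsg.Agent.Helper4.TC.U43KIso
open Cfsg.Agent.Helper4.Pres.U43K (Gen)

theorem mem_allL_of_exL (b : List ℕ) (hb : b ∈ U43KSD.exL) : b ∈ allL := by
  unfold allL
  exact List.mem_append_left _ (List.mem_append_left _ hb)

theorem mem_allL_of_ceL (b : List ℕ) (hb : b ∈ U43KSD.ceL) : b ∈ allL := by
  unfold allL
  exact List.mem_append_left _ (List.mem_append_right _ hb)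

theorem rel_one (b : List ℕ) (hb : b ∈ allL) :
    evc (PresentedGroup.of (rels := RP)) decK b = 1 := by
  rw [evc_of]
  exact PresentedGroup.one_of_mem (mem_relSet _ b hb)

/-- the word of the 7th power of a generator -/
theorem evc_pow7 {Q : Type*} [Group Q] (f : Gen → Q) (c : ℕ) :
    evc f decK (wpow [c] 7) = (gl f (decK c)) ^ 7 := by
  rw [evc_wpow, evc_cons, evc_nil, one_mul]

theorem of_pow7 (k : Gen) : (PresentedGroup.of k : P) ^ 7 = 1 := by
  cases k
  · have h := rel_one (wpow [0] 7) (mem_allL_of_exL _ (by decide))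
    rw [evc_pow7] at h
    exact h
  · have h := rel_one (wpow [2] 7) (mem_allL_of_exL _ (by decide))
    rw [evc_pow7] at h
    exact h
  · have h := rel_one (wpow [4] 7) (mem_allL_of_exL _ (by decide))
    rw [evc_pow7] at h
    exact h

theorem mem_pwL (b : List ℕ) (hb : b ∈ U43KSD.pwL) :
    b = wpow [0] 7 ∨ b = wpow [2] 7 ∨ b = wpow [4] 7 := by
  simp only [U43KSD.pwL, List.mem_cons, List.not_mem_nil, or_false] at hb
  rcases hb with rfl | rfl | rfl
  · exact Or.inl rfl
  · exact Or.inr (Or.inl rfl)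
  · exact Or.inr (Or.inr rfl)

/-- the sixth power of a number prime to 7 is 1 modulo 7 -/
theorem pow_six_mod_seven (e : ℕ) (he : Nat.Coprime e 7) : e ^ 6 % 7 = 1 := by
  have h7 : ¬ 7 ∣ e := by
    intro h
    have := Nat.Coprime.eq_one_of_dvd he.symm h
    omega
  have hmod : e % 7 = 1 ∨ e % 7 = 2 ∨ e % 7 = 3 ∨ e % 7 = 4 ∨ e % 7 = 5 ∨ e % 7 = 6 := by
    omega
  rw [Nat.pow_mod]
  rcases hmod with h | h | h | h | h | h <;> rw [h]

/-- a stem extension whose kernel has order prime to 7 has at most 36 times the order of the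
group -/
theorem card_le {Γ : Type*} [Group Γ] [Finite Γ] (σ : Γ →* P) (hσ : IsStemExtension σ)
    (hcop : Nat.Coprime (Nat.card σ.ker) 7) : Nat.card Γ ≤ 117573120 := by
  choose l hl using fun k : Gen => hσ.1 (PresentedGroup.of k)
  have hcen := hσ.2.1
  obtain ⟨e, hedef⟩ : ∃ e : ℕ, e = Nat.card σ.ker := ⟨_, rfl⟩
  have hexp : ∀ z ∈ σ.ker, z ^ e = 1 := by
    intro z hz
    have h1 : (⟨z, hz⟩ : σ.ker) ^ Nat.card σ.ker = 1 := pow_card_eq_one'
    have := congrArg Subtype.val h1
    rw [Subgroup.coe_pow] at this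
    rw [hedef]
    exact this
  have he7 : Nat.Coprime e 7 := hedef ▸ hcop
  obtain ⟨g, hgdef⟩ : ∃ g : Gen → Γ, g = fun k => (l k) ^ (e ^ 6) := ⟨_, rfl⟩
  have hg : ∀ k, σ (g k) = PresentedGroup.of k := by
    intro k
    rw [hgdef]
    show σ ((l k) ^ (e ^ 6)) = _
    rw [Schur.map_pow_lift σ (l k) 7 (e ^ 6) (by rw [hl]; exact of_pow7 k)
      (pow_six_mod_seven e he7), hl]
  have hord : ∀ k, g k ^ 7 = 1 := by
    intro k
    rw [hgdef]
    exact Schur.pow_lift_eq_one σ e hexp (l k) 7 (e ^ 6) (by rw [hl]; exact of_pow7 k)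
      (dvd_pow_self e (by norm_num))
  have hex : ∀ b ∈ U43KSD.exL, evc g decK b = 1 := by
    intro b hb
    have hb0 := hb
    unfold U43KSD.exL at hb
    rcases List.mem_append.mp hb with h | h
    · rcases mem_pwL b h with rfl | rfl | rfl
      · rw [evc_pow7]
        exact hord .p
      · rw [evc_pow7]
        exact hord .q
      · rw [evc_pow7]
        exact hord .r
    · obtain ⟨d, hd, rfl⟩ := List.mem_map.mp h
      exact Schur.evc_pairW_eq_one U43KCod.coding σ hcen e hexp g hg 7 he7.symm hord d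
        (mem_relSet _ _ (mem_allL_of_exL _ hb0))
  have hW := U43KSD.card3
  rw [U43KSD.hb3] at hW
  exact Schur.card_le_of_weak0 U43KCod.coding σ hσ g hg U43KSD.exL U43KSD.ceL U43KSD.g3 hex
    (fun ρ hρ => mem_relSet _ ρ (mem_allL_of_ceL ρ hρ)) 117573120 hW

/-- the primes whose square does not divide the order of the group -/
theorem factorization_le_one (r : ℕ) (hr : r.Prime) (h2 : r ≠ 2) (h3 : r ≠ 3) :
    (3265920 : ℕ).factorization r ≤ 1 := by
  by_contra hlt
  push Not at hlt
  have hd : r ^ 2 ∣ 3265920 := (hr.pow_dvd_iff_le_factorization (by norm_num)).mpr hlt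
  have hc2 : Nat.Coprime r 2 := (Nat.coprime_primes hr Nat.prime_two).mpr h2
  have hc3 : Nat.Coprime r 3 := (Nat.coprime_primes hr Nat.prime_three).mpr h3
  have hc : Nat.Coprime (r ^ 2) (2 ^ 7 * 3 ^ 6) :=
    Nat.Coprime.pow_left 2 (Nat.Coprime.mul_right (hc2.pow_right 7) (hc3.pow_right 6))
  have hN : (3265920 : ℕ) = 2 ^ 7 * 3 ^ 6 * 35 := by norm_num
  rw [hN] at hd
  have hd2 : r ^ 2 ∣ 35 := hc.dvd_of_dvd_mul_left hd
  have hle : r ^ 2 ≤ 35 := Nat.le_of_dvd (by norm_num) hd2
  have hr6 : r < 6 := by nlinarith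
  have h2le := hr.two_le
  interval_cases r
  · exact h2 rfl
  · exact h3 rfl
  · exact absurd hr (by decide)
  · omega

/-- the kernel of a finite stem extension has order at most 36 -/
theorem card_ker_le {Γ : Type} [Group Γ] [Finite Γ] (σ : Γ →* P) (hσ : IsStemExtension σ) :
    Nat.card σ.ker ≤ 36 := by
  have h7 : ¬ 7 ∣ Nat.card σ.ker := by
    haveI : Fact (Nat.Prime 7) := ⟨by norm_num⟩
    refine Cfsg.Agent.S2117.not_dvd_of_sylow_trivial σ 7 ?_
    intro S a haS haker
    refine Schur.sylow_inter_ker_of_factorization_le_one σ hσ 7 ?_ S a haS haker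
    rw [card_P]
    exact factorization_le_one 7 (by norm_num) (by norm_num) (by norm_num)
  have hcop : Nat.Coprime (Nat.card σ.ker) 7 :=
    ((Nat.Prime.coprime_iff_not_dvd (by norm_num : Nat.Prime 7)).mpr h7).symm
  have h1 := card_le σ hσ hcop
  rw [SchurTwo.card_eq_ker_mul σ hσ.1, card_P] at h1
  omega

end Cfsg.Agent.Helper4.TC.U43KSchur
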