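import Cfsg.Agent.Lib.Helper4.TC.U43PK126Model
import Cfsg.Agent.Lib.Helper4.TC.U43PK126Data

set_option autoImplicit false
set_option maxRecDepth 100000
set_option linter.unusedVariables false
set_option Elab.async false

namespace Cfsg.Agent.Helper4.TC.U43PK126

open Cfsg.Agent.Helper4.TC

theorem relc_ok : wordsLettersOK 6 bases = true := by decide +kernel
theorem subc_ok : wordsLettersOK 6 subsL = true := by decide +kernel

end Cfsg.Agent.Helper4.TC.U43PK126
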