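import Cfsg.Agent.Lib.Helper4.TC.Model

set_option autoImplicit false
set_option maxRecDepth 100000
set_option linter.unusedVariables false

namespace Cfsg.Agent.Helper4.TC.U43PK126

open Cfsg.Agent.Helper4.TC

def t0_0 : ℕ := 0x3efcf5efcf7f1cbaf4e7db66adba37f1d7c326ecf8b2e9b99b0dabf66ee3af82f55b752c56a74694fa13674a93325c2890ddc78d21c396cd19308abe04158fd4be4ef533c748d2374479a9d66c4dad5cacd172ca94144a84890407c71c182cc981254413241878d08281870a04100
noncomputable def tcol0 (b : ℕ) : ℕ := t0_0
def t1_0 : ℕ := 0x3efcf5efcf7f1cbaf4e7db66adba37f1d7c326ecf8b2e9b99b0dabf66ee3af82f55b752c56a74694fa13674a93325c2890ddc78d21c396cd19308abe04158fd4be4ef533c748d2374479a9d66c4dad5cacd172ca94144a84890407c71c182cc981254413241878d08281870a04100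
noncomputable def tcol1 (b : ℕ) : ℕ := t1_0
def t2_0 : ℕ := 0x3dfdf1f3b7af3bb4f1ef6f1f5e9cf970ad6336fdbb35ead19f2d2a392f60c586fddb96acd7ab529c175427ae9cde6cc971654990aa3c67cf5e353f121c28035fa526cce0a76e54386c8038f68c98b05e156ac32ad4a74c911a24208f1d3604d182e58a94244480e182c4880c10180
noncomputable def tcol2 (b : ℕ) : ℕ := t2_0
def t3_0 : ℕ := 0x3e7afbe3bfbe7e786fddb7a6cd1db3e6cb93ae3c5a70dee36ed5cb376c57e55aaeaa9ae9d2a382fce9b2e4c88f16243830233a72e28376afdf3d5f3d72c94ade2764992a447310a03d08ead386da1a3260baa7654a312644f901e3868c662c5095021b070cc0284520d1020258900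
noncomputable def tcol3 (b : ℕ) : ℕ := t3_0
def t4_0 : ℕ := 0x23c0fbef43f5d9a6dc55ccf024dd144ba00daf884e998c10935e5294b48ab55b823ce3889c2562dc4ee2657a9ee7059c418bce5eb0b3b2ac5f10bfd7b6e0985e6c3b56a459269c0bda1cda1269e9cc32352ade5f21a97ad355ddedd17160ae0858c03cd7c881b1fc720c32bc3e881
noncomputable def tcol4 (b : ℕ) : ℕ := t4_0
def t5_0 : ℕ := 0x3d9ef5306e89ee5d6ee47ca592ee15b4c266ef9afdb00b0f1db49760cc74a36e45219699314b780eb9713aa4d935786fa3d8503b9c8fcf0f4db5819a52d2c2749aca11f1387dd04225cce6d4dbd0e2b05540a11c59d452b91858b05fdf4f4eabc055916459727635518837d5c000e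
noncomputable def tcol5 (b : ℕ) : ℕ := t5_0
def a_0 : ℕ := 0x10502f9f0041013d1e000503f5e004140fc7c010404ee34001017bbf010503e7e4001403972010402e1c004140f7f1010504ddc804100f6db000405d878000c17502010504d05c001413438010404ceac04100f370010303cb58040c17203000502c9d404100b1e3010503c5b400140f16c010403c3ac04100af5e000305b82004100addb010402b56800100ed52010303b344000c12c83010403b178041002be3000304af44040c0ab56010405abc000100aaea010400a96c000816a0e010402a74c040c02956010305a248000c028d1000204000404100e7410105009b4004141658901050493d404140a4480105048fb004100e2b70105058980001012106010402830404101200f000505765c041401d470105007318041401c480003057058041009bb70103056a54001009a3f00050064c80014158100104055f7c0014157f50105005d0004100164100030458580410095ab00040352fc0414153ec0005024ec80410113040104054b5004140d20a01050346ec0018091cc01050342a004101500b0103043c48001000f1e0105033a1c00100ce8f010502387004140cdb2000405374c041410d620105043360040c10c150105022e5c001400b970003002c58040c08a9501050028a0001010a54010500269404140889100040523a80010108050104021e3c04080870e0102001a3804101065f000600183000080c5810104051504041014485000304120804041440000030310540414083870103000c480010003060104000a3c04080c20e0004000810040c08183000300060c040c0810201020202040008000810001040000000000000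
noncomputable def auxT (b : ℕ) : ℕ := a_0
noncomputable def tmT (c b : ℕ) : ℕ := Bool.rec (motive := fun _ => ℕ) (Bool.rec (motive := fun _ => ℕ) (tcol0 b) (Bool.rec (motive := fun _ => ℕ) (tcol1 b) (tcol2 b) (Nat.ble 2 c)) (Nat.ble 1 c)) (Bool.rec (motive := fun _ => ℕ) (tcol3 b) (Bool.rec (motive := fun _ => ℕ) (tcol4 b) (tcol5 b) (Nat.ble 5 c)) (Nat.ble 4 c)) (Nat.ble 3 c)

noncomputable def mdata : MData where
  n := 126
  w := 7
  mask := 127
  aw := 38
  amask := 274877906943
  s1 := 7
  s2 := 14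
  s3 := 22
  s4 := 30
  bsh := 11
  bmask := 2047
  nc := 6
  T := tmT
  A := auxT

end Cfsg.Agent.Helper4.TC.U43PK126
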