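import Cfsg.Agent.Lib.Helper4.TC.Perm

set_option autoImplicit false
set_option maxRecDepth 100000
set_option linter.unusedVariables false

namespace Cfsg.Agent.Helper4.TC.U43PS

open Cfsg.Agent.Helper4.TC

def l2_0 : ℕ := 0x1000d9b4004003264f01000c953804002e44d01000b8f3004002e34b01000a892804002a1c900000a832004002a04701000a7f18000025d450100097310040025c430100096f08000025bc10100096d00040025a3f00000966f80000258bd0000085ef004002173b0000085ce80400216b901000856e00000215b701000854d80000214350100084cd00000213330100084ac804002123101000746c004001d12f00000744b804001d02d0100073eb004001ceab0000073aa804001ce2900000738a004001cda7010007349800001cd250100063290040018c230100062e88040018b210000062c80000018a9f010006287804001899d000006267004001891b01000520680000148190000051e600400147170100051a5804001461501000516500000145930000041448040010491010004104000001040f0100040e3800001038d0100040c3004000c28b0000030a2804000c209010003062000000c187010002041800000810501000202100400040030000010008000000001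
noncomputable def lT2 (b : ℕ) : ℕ := l2_0
noncomputable def ld2 : LData where
  cnt := 80
  pmask := 127
  dmask := 65535
  ew := 38
  emask := 274877906943
  s1 := 7
  s2 := 14
  s3 := 30
  bsh := 11
  bmask := 2047
  L := lT2

def W2 : List (List ℕ) := [
  [0],
  [2]
]

def l3_0 : ℕ := 0xc000c0d00000021d340400087cb000003111c08000c84201000227000c000cc3f03000100e80400087350200021ecc08000872e01000100a8080004028020003329804000c324020003228c00000c49e0000020a700c0008294030003224804000829100000100380c000878c0300021c280c000cc880200020a0c000000002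
noncomputable def lT3 (b : ℕ) : ℕ := l3_0
noncomputable def ld3 : LData where
  cnt := 27
  pmask := 127
  dmask := 65535
  ew := 38
  emask := 274877906943
  s1 := 7
  s2 := 14
  s3 := 30
  bsh := 11
  bmask := 2047
  L := lT3

def W3 : List (List ℕ) := [
  [0, 3, 3, 3, 5, 2, 5, 0, 5, 2, 4, 4, 3, 5, 5, 3, 3, 5, 3, 3, 5, 3, 1, 3, 3, 3, 1, 3, 1, 3, 1, 3],
  [0, 3, 4, 3, 4, 4, 2, 5, 2, 2, 2, 0, 2, 2, 2, 5, 3, 4, 1, 5, 3, 3],
  [5, 3, 5, 5, 2, 4, 4, 3, 5, 3, 3, 4, 2, 4, 4, 2, 2, 4, 4, 1, 3, 3, 1, 3, 3, 1, 3, 1],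
  [4, 3, 4, 3, 4, 4, 3, 5, 5, 2, 2, 5, 3, 4, 3, 3, 5, 3, 4, 1, 5, 3, 3, 1, 3, 1, 3, 3]
]

def l4_0 : ℕ := 0x2000101400800085cd030002112c04000404701000207000c00081b500000216cc0800081a600000100900c000400e0000020620000000003
noncomputable def lT4 (b : ℕ) : ℕ := l4_0
noncomputable def ld4 : LData where
  cnt := 12
  pmask := 127
  dmask := 65535
  ew := 38
  emask := 274877906943
  s1 := 7
  s2 := 14
  s3 := 30
  bsh := 11
  bmask := 2047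
  L := lT4

def W4 : List (List ℕ) := [
  [5, 5, 5, 5, 5, 5, 3, 4, 3, 5, 0, 3, 0, 2, 0, 5, 1, 5, 5, 5, 3, 3, 1, 3, 1, 3, 0, 2, 0, 2, 2, 0, 2, 2, 0, 5, 5, 3, 3, 5, 5, 3, 5, 2, 2, 4, 2, 5, 5, 3, 4, 4, 2, 4, 0, 2, 0, 2, 2, 0, 2, 2, 0, 5, 5, 3, 3, 5, 5, 3, 5, 2, 2, 4, 2, 5, 5, 3, 4, 4, 2, 4],
  [0, 3, 5, 2, 0, 5, 2, 2, 2, 0, 4, 0, 3, 3, 0, 3, 4, 3, 1, 4, 1, 3, 3, 1, 3, 3, 1, 3, 1, 0, 2, 0, 2, 2, 0, 2, 2, 0, 5, 5, 3, 3, 5, 5, 3, 5, 2, 2, 4, 2, 5, 5, 3, 4, 4, 2, 4, 0, 2, 0, 2, 2, 0, 2, 2, 0, 5, 5, 3, 3, 5, 5, 3, 5, 2, 2, 4, 2, 5, 5, 3, 4, 4, 2, 4, 2, 2, 4, 0, 5, 2, 4, 3, 3, 3, 1, 3, 3, 3, 4, 3, 5, 5, 2, 5, 2, 1],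
  [4, 0, 3, 4, 2, 4, 2, 0, 3, 0, 4, 2, 5, 5, 5, 3, 4, 4, 1, 3, 5, 3, 1, 3, 1, 3, 1, 3, 0, 2, 0, 2, 2, 0, 2, 2, 0, 5, 5, 3, 3, 5, 5, 3, 5, 2, 2, 4, 2, 5, 5, 3, 4, 4, 2, 4],
  [2, 5, 0, 5, 2, 0, 3, 0, 2, 2, 2, 0, 4, 2, 5, 0, 1, 3, 1, 3, 1, 5, 3, 1, 3, 1, 3, 1, 3, 1, 3, 2, 2, 4, 0, 5, 2, 4, 3, 3, 3, 1, 3, 3, 3, 4, 3, 5, 5, 2, 5, 2, 1, 2, 2, 4, 0, 5, 2, 4, 3, 3, 3, 1, 3, 3, 3, 4, 3, 5, 5, 2, 5, 2, 1]
]

end Cfsg.Agent.Helper4.TC.U43PS
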