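import Cfsg.Agent.Lib.Helper4.TC.Timed

set_option autoImplicit false
set_option maxRecDepth 100000
set_option linter.unusedVariables false

namespace Cfsg.Agent.Helper4.TC.U43PX

open Cfsg.Agent.Helper4.TC

def e0_0 : ℕ := 0x108060000006ca014000000000003eb006000000000000b88020000000780411f00700000057c0169f80200ec000fe001
def j0_0 : ℕ := 0x300000000000000030000000000000000000000030000000000000000000000030000000000000001000000010000000000000001000000010000000300000001
noncomputable def ecol0 (b : ℕ) : ℕ := e0_0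
noncomputable def jcol0 (b : ℕ) : ℕ := j0_0

def e1_0 : ℕ := 0x1e0060000006f8014000000000003fc006000000000000be0020000000400411900700000056a0169e00200f0000fd001
def j1_0 : ℕ := 0x20000000000000002000000000000000000000002000000000000000000000002000000000000008500000075000000000000005d00000045000000020000000d
noncomputable def ecol1 (b : ℕ) : ℕ := e1_0
noncomputable def jcol1 (b : ℕ) : ℕ := j1_0

def e2_0 : ℕ := 0x3404000000000000000000000000000001fe0030000000000009a40601e0120000003f80040000000000003c0005f8024df0028be002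
def j2_0 : ℕ := 0x85000000000000000000000000000000000000000000000002000000000000000000000013000000010000000000000002000000000000000000000002000000010000000100000001
noncomputable def ecol2 (b : ℕ) : ℕ := e2_0
noncomputable def jcol2 (b : ℕ) : ℕ := j2_0

def e3_0 : ℕ := 0x9f80200000000d812000000000000000001740090000000000005f0010000000000000000007f00080000027c0180780000f0031fe003
def j3_0 : ℕ := 0x2000000000000001b0000000000000000000000000000004d000000000000000000000002000000000000000000000000000000020000000000000001000000020000000100000001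
noncomputable def ecol3 (b : ℕ) : ℕ := e3_0
noncomputable def jcol3 (b : ℕ) : ℕ := j3_0

def e4_0 : ℕ := 0xaae02c000000000000000000000000000022c00e000000ff80463f0078000009fc01b7f802b5f003f3e004
def j4_0 : ℕ := 0x2b0000000000000000000000000000000000000000000000750000000000000001000000010000000000000001000000010000000100000001
noncomputable def ecol4 (b : ℕ) : ℕ := e4_0
noncomputable def jcol4 (b : ℕ) : ℕ := j4_0

def e5_0 : ℕ := 0xf00300000037c00a9b2020ff00180000045601c2f8008000000000001fc00203a018d000281e0003c00062da0087cc0081b800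
def j5_0 : ℕ := 0x2000000000000000200000023000000020000000000000075000000020000000000000000000000020000008e000000000000000200000000000000560000003e00000026
noncomputable def ecol5 (b : ℕ) : ℕ := e5_0
noncomputable def jcol5 (b : ℕ) : ℕ := j5_0

def m_0 : ℕ := 0x201000000400cf8060000c00020400b18050000a880204007380303006480000006a80204005780202004580000004980304003a80103002000202002680204001c800030007802020002800000003800000000000
def jm_0 : ℕ := 0x11000000000000001100000b2b000000110000031b00000061000000110000031300000b03000000110000000000000e030000001100000823000009130000051b00000000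

noncomputable def mgT (b : ℕ) : ℕ := m_0
noncomputable def jmT (b : ℕ) : ℕ := jm_0
noncomputable def eT (c b : ℕ) : ℕ := Bool.rec (motive := fun _ => ℕ) (Bool.rec (motive := fun _ => ℕ) (ecol0 b) (Bool.rec (motive := fun _ => ℕ) (ecol1 b) (ecol2 b) (Nat.ble 2 c)) (Nat.ble 1 c)) (Bool.rec (motive := fun _ => ℕ) (ecol3 b) (Bool.rec (motive := fun _ => ℕ) (ecol4 b) (ecol5 b) (Nat.ble 5 c)) (Nat.ble 4 c)) (Nat.ble 3 c)
noncomputable def jT (c b : ℕ) : ℕ := Bool.rec (motive := fun _ => ℕ) (Bool.rec (motive := fun _ => ℕ) (jcol0 b) (Bool.rec (motive := fun _ => ℕ) (jcol1 b) (jcol2 b) (Nat.ble 2 c)) (Nat.ble 1 c)) (Bool.rec (motive := fun _ => ℕ) (jcol3 b) (Bool.rec (motive := fun _ => ℕ) (jcol4 b) (jcol5 b) (Nat.ble 5 c)) (Nat.ble 4 c)) (Nat.ble 3 c)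

def rw0 : List ℕ := [0, 0]
def rw1 : List ℕ := [4]
def rw2 : List ℕ := [2, 2, 2, 2, 2]
def rw3 : List ℕ := [3, 3, 0, 4, 3, 4, 0, 5, 0, 4, 0, 3, 0]
def rw4 : List ℕ := [5, 2, 2, 0, 5, 2, 2, 0]
def rw5 : List ℕ := [4, 0, 2, 0, 4, 4, 0, 2, 0, 4]
def rw6 : List ℕ := [4, 0, 4, 0, 4, 0, 4, 0, 4, 0]
noncomputable def relW (i : ℕ) : List ℕ := Bool.rec (motive := fun _ => List ℕ) (Bool.rec (motive := fun _ => List ℕ) (rw0) (Bool.rec (motive := fun _ => List ℕ) (rw1) (rw2) (Nat.ble 2 i)) (Nat.ble 1 i)) (Bool.rec (motive := fun _ => List ℕ) (Bool.rec (motive := fun _ => List ℕ) (rw3) (rw4) (Nat.ble 4 i)) (Bool.rec (motive := fun _ => List ℕ) (rw5) (rw6) (Nat.ble 6 i)) (Nat.ble 5 i)) (Nat.ble 3 i)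
noncomputable def subW (i : ℕ) : List ℕ := []

noncomputable def data : Data where
  w := 11
  mask := 2047
  tw := 6
  tmask := 63
  hsh := 17
  lsh := 28
  ew := 23
  emask := 8388607
  mw := 36
  mmask := 68719476735
  jw := 32
  jmask := 4294967295
  bsh := 11
  bmask := 2047
  nc := 6
  fuel := 5
  E := eT
  J := jT
  Mg := mgT
  JM := jmT
  relW := relW
  nrot := 7
  subW := subW
  nsub := 0

def M : ℕ := 19
def n : ℕ := 1

def bases : List (List ℕ) := [
  [0, 0],
  [2, 2, 2, 2, 2],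
  [2, 0, 2, 0, 2, 0, 2, 0, 2, 0, 2, 0, 2, 0, 2, 0, 2, 0],
  [2, 0, 3, 1, 2, 0, 3, 1, 2, 0, 3, 1],
  [2, 0, 2, 0, 3, 1, 3, 1, 2, 0, 2, 0, 3, 1, 3, 1],
  [4, 4, 4, 4, 4, 4, 4],
  [5, 2, 2, 0, 5, 2, 2, 0],
  [2, 0, 4, 4, 0, 2, 0, 4, 4, 0],
  [4, 0, 4, 0, 4, 0, 4, 0, 4, 0],
  [2, 2, 5, 0, 2, 2, 5, 0, 2, 2, 5, 0],
  [4, 2, 4, 2, 4, 2, 4, 2, 4, 2, 4, 2],
  [0, 2, 0, 3, 5, 0, 3, 3, 4, 4, 2, 4, 4],
  [0, 2, 2, 0, 2, 5, 2, 2, 5, 0, 4, 3, 5],
  [0, 3, 0, 3, 3, 0, 4, 3, 4, 0, 5, 0, 4],
  [2, 0, 4, 3, 0, 2, 4, 0, 5, 3, 0, 2, 4, 0],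
  [4]
]

def rots : List (ℕ × ℕ) := [(0, 0), (15, 0), (1, 0), (13, 3), (6, 0), (7, 3), (8, 0)]

def subsL : List (List ℕ) := [

]

end Cfsg.Agent.Helper4.TC.U43PX
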