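import Cfsg.Agent.Lib.Helper4.TC.Timed

set_option autoImplicit false
set_option maxRecDepth 100000
set_option linter.unusedVariables false

namespace Cfsg.Agent.Helper4.TC.U43PZ2

open Cfsg.Agent.Helper4.TC

def e0_0 : ℕ := 0xbb8068000000000009dc02c0000000000076e0112dc014000005b7001
def j0_0 : ℕ := 0x1000000000000000000000001000000000000000000000001000000010000000000000001
noncomputable def ecol0 (b : ℕ) : ℕ := e0_0
noncomputable def jcol0 (b : ℕ) : ℕ := j0_0

def e1_0 : ℕ := 0xb80480000002e00c000000024048170030000000220180b80100000001b0060460080b800015800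
def j1_0 : ℕ := 0x20000000000000002000000000000006e00000002000000000000005e0000000200000000000000460000002e000000020000000e
noncomputable def ecol1 (b : ℕ) : ℕ := e1_0
noncomputable def jcol1 (b : ℕ) : ℕ := j1_0

def e2_0 : ℕ := 0xb8018000000000000320240000000000002e00005c01800000017002
def j2_0 : ℕ := 0x2000000000000000000000013000000000000000000000002000000010000000000000001
noncomputable def ecol2 (b : ℕ) : ℕ := e2_0
noncomputable def jcol2 (b : ℕ) : ℕ := j2_0

def e3_0 : ℕ := 0x600300000000000005c0080000000000002e01205c00000000017003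
def j3_0 : ℕ := 0x35000000000000000000000002000000000000000000000001000000020000000000000001
noncomputable def ecol3 (b : ℕ) : ℕ := e3_0
noncomputable def jcol3 (b : ℕ) : ℕ := j3_0

def e4_0 : ℕ := 0x7b8070000000000007dc030000000000005ee0150dc01c00000537004
def j4_0 : ℕ := 0x1000000000000000000000001000000000000000000000001000000010000000000000001
noncomputable def ecol4 (b : ℕ) : ℕ := e4_0
noncomputable def jcol4 (b : ℕ) : ℕ := j4_0

def e5_0 : ℕ := 0x5c0240000001700600000005c00c0140480000002e00401a0180000001700001500603e00800000013800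
def j5_0 : ℕ := 0x200000000000000020000000000000002000000760000000000000002000000660000000000000002000000560000003e0000000000000026
noncomputable def ecol5 (b : ℕ) : ℕ := e5_0
noncomputable def jcol5 (b : ℕ) : ℕ := j5_0

def m_0 : ℕ := 0x401238090001258090400c78060000c980604006b80303006000900006e803040050802020040006000052802040014800030000003020000002000016800000000000
def jm_0 : ℕ := 0x110000000100000011000000010000001100000000000000010000001100000000000000010000001100000000000000000000000100000000

noncomputable def mgT (b : ℕ) : ℕ := m_0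
noncomputable def jmT (b : ℕ) : ℕ := jm_0
noncomputable def eT (c b : ℕ) : ℕ := Bool.rec (motive := fun _ => ℕ) (Bool.rec (motive := fun _ => ℕ) (ecol0 b) (Bool.rec (motive := fun _ => ℕ) (ecol1 b) (ecol2 b) (Nat.ble 2 c)) (Nat.ble 1 c)) (Bool.rec (motive := fun _ => ℕ) (ecol3 b) (Bool.rec (motive := fun _ => ℕ) (ecol4 b) (ecol5 b) (Nat.ble 5 c)) (Nat.ble 4 c)) (Nat.ble 3 c)
noncomputable def jT (c b : ℕ) : ℕ := Bool.rec (motive := fun _ => ℕ) (Bool.rec (motive := fun _ => ℕ) (jcol0 b) (Bool.rec (motive := fun _ => ℕ) (jcol1 b) (jcol2 b) (Nat.ble 2 c)) (Nat.ble 1 c)) (Bool.rec (motive := fun _ => ℕ) (jcol3 b) (Bool.rec (motive := fun _ => ℕ) (jcol4 b) (jcol5 b) (Nat.ble 5 c)) (Nat.ble 4 c)) (Nat.ble 3 c)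

def rw0 : List ℕ := [0]
def rw1 : List ℕ := [4]
def rw2 : List ℕ := [2, 2, 2, 2, 2]
noncomputable def relW (i : ℕ) : List ℕ := Bool.rec (motive := fun _ => List ℕ) (rw0) (Bool.rec (motive := fun _ => List ℕ) (rw1) (rw2) (Nat.ble 2 i)) (Nat.ble 1 i)
noncomputable def subW (i : ℕ) : List ℕ := []

noncomputable def data : Data where
  w := 11
  mask := 2047
  tw := 6
  tmask := 63
  hsh := 17
  lsh := 28
  ew := 23
  emask := 8388607
  mw := 36
  mmask := 68719476735
  jw := 32
  jmask := 4294967295
  bsh := 11
  bmask := 2047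
  nc := 6
  fuel := 3
  E := eT
  J := jT
  Mg := mgT
  JM := jmT
  relW := relW
  nrot := 3
  subW := subW
  nsub := 0

def M : ℕ := 15
def n : ℕ := 5

def bases : List (List ℕ) := [
  [2, 2, 2, 2, 2],
  [0],
  [4]
]

def rots : List (ℕ × ℕ) := [(1, 0), (2, 0), (0, 0)]

def subsL : List (List ℕ) := [

]

end Cfsg.Agent.Helper4.TC.U43PZ2
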