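import Cfsg.Agent.Lib.Helper4.TC.MatSU
import Cfsg.Agent.Lib.Helper4.TC.PresU62

set_option autoImplicit false
set_option maxRecDepth 100000
set_option linter.unusedVariables false

/-! Eight unitary transvections of the six-dimensional hermitian space over the field with four
elements, as data. -/

namespace Cfsg.Agent.Helper4.TC.U62Mat

open Cfsg.Agent.Helper4.TC Cfsg.Agent.Lib.Helper6.FFour

def mC : MatD 6 K4 := ⟨[.i, .o, .o, .o, .o, .o, .o, .i, .o, .o, .o, .o, .o, .o, .o, .w, .w, .w, .o, .o, .v, .o, .i, .i, .o, .o, .v, .i, .o, .i, .o, .o, .v, .i, .i, .o]⟩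
def mD : MatD 6 K4 := ⟨[.i, .o, .o, .o, .o, .o, .o, .o, .w, .v, .w, .o, .o, .v, .o, .w, .i, .o, .o, .w, .v, .o, .v, .o, .o, .v, .i, .w, .o, .o, .o, .o, .o, .o, .o, .i]⟩
def mE : MatD 6 K4 := ⟨[.o, .w, .w, .v, .o, .o, .v, .o, .i, .w, .o, .o, .v, .i, .o, .w, .o, .o, .w, .v, .v, .o, .o, .o, .o, .o, .o, .o, .i, .o, .o, .o, .o, .o, .o, .i]⟩
def mF : MatD 6 K4 := ⟨[.o, .i, .i, .w, .w, .w, .i, .o, .i, .w, .w, .w, .i, .i, .o, .w, .w, .w, .v, .v, .v, .o, .i, .i, .v, .v, .v, .i, .o, .i, .v, .v, .v, .i, .i, .o]⟩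
def mG : MatD 6 K4 := ⟨[.o, .w, .o, .o, .v, .v, .v, .o, .o, .o, .w, .w, .o, .o, .i, .o, .o, .o, .o, .o, .o, .i, .o, .o, .w, .v, .o, .o, .o, .i, .w, .v, .o, .o, .i, .o]⟩
def mH : MatD 6 K4 := ⟨[.o, .i, .i, .v, .w, .v, .i, .o, .i, .v, .w, .v, .i, .i, .o, .v, .w, .v, .w, .w, .w, .o, .v, .i, .v, .v, .v, .w, .o, .w, .w, .w, .w, .i, .v, .o]⟩
def mI : MatD 6 K4 := ⟨[.o, .i, .o, .i, .i, .o, .i, .o, .o, .i, .i, .o, .o, .o, .i, .o, .o, .o, .i, .i, .o, .o, .i, .o, .i, .i, .o, .i, .o, .o, .o, .o, .o, .o, .o, .i]⟩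
def mX : MatD 6 K4 := ⟨[.o, .v, .i, .o, .o, .w, .w, .o, .w, .o, .o, .v, .i, .v, .o, .o, .o, .w, .o, .o, .o, .i, .o, .o, .o, .o, .o, .o, .i, .o, .v, .w, .v, .o, .o, .o]⟩

def DP : Cfsg.Agent.Helper4.Pres.U62.Gen → MatD 6 K4
  | .c => mC
  | .d => mD
  | .e => mE
  | .f => mF
  | .g => mG
  | .h => mH
  | .i => mI
  | .x => mX

theorem hinvP : ∀ x, (DP x).mul (DP x) = MatD.one := by
  intro x; cases x <;> decide +kernel

theorem hunitP : ∀ x, (DP x).tr.mul ((DP x).mapE fun y => y * y) = MatD.one := by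
  intro x; cases x <;> decide +kernel

def DQ : Cfsg.Agent.Helper4.Pres.U62Q.Gen → MatD 6 K4
  | .c => mC
  | .d => mD
  | .e => mE
  | .f => mF
  | .g => mG
  | .h => mH
  | .i => mI
  | .x => mX

theorem hinvQ : ∀ x, (DQ x).mul (DQ x) = MatD.one := by
  intro x; cases x <;> decide +kernel

theorem hunitQ : ∀ x, (DQ x).tr.mul ((DQ x).mapE fun y => y * y) = MatD.one := by
  intro x; cases x <;> decide +kernel

theorem hncQ : ((DQ .c).mul (DQ .d)).entry ((1 : Fin 6) : ℕ) ((2 : Fin 6) : ℕ) ≠ ((DQ .d).mul (DQ .c)).entry ((1 : Fin 6) : ℕ) ((2 : Fin 6) : ℕ) := by decide +kernel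

end Cfsg.Agent.Helper4.TC.U62Mat
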