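import Cfsg.Agent.Lib.Helper4.TC.Timed

set_option autoImplicit false
set_option maxRecDepth 100000
set_option linter.unusedVariables false

namespace Cfsg.Agent.Helper4.TC.U62PAB

open Cfsg.Agent.Helper4.TC

def e0_0 : ℕ := 0xe00078b2001c9a000c8d400556c002337000ddbe00400000000000015000340000000000000000003d0002404f000268001
def j0_0 : ℕ := 0x3d000000350000002d000000250000001d00000015000000000000000000000000000000000000000000000000000000000000000300000001
noncomputable def ecol0 (b : ℕ) : ℕ := e0_0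
noncomputable def jcol0 (b : ℕ) : ℕ := j0_0

def e1_0 : ℕ := 0xe0007800000098000c0000000000000000001d800041400081a440715420352a9018b5880b6ae4053d7e024050000267001
def j1_0 : ℕ := 0xcb0000009b000000830000006b0000005300000043000000020000000d
noncomputable def ecol1 (b : ℕ) : ℕ := e1_0
noncomputable def jcol1 (b : ℕ) : ℕ := j1_0

def e2_0 : ℕ := 0xe00078b0001c99e00c8c0005560002336c00c00000000000000000015320340000000000006a0005009a001ed0012ee8002
def j2_0 : ℕ := 0x3500000000000000000000001d000000000000000000000000000000b30000000000000000000000000000000b0000000100000001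
noncomputable def ecol2 (b : ℕ) : ℕ := e2_0
noncomputable def jcol2 (b : ℕ) : ℕ := j2_0

def e3_0 : ℕ := 0xe0007800000099800c000000000000330000c4d00021400081a0007153e035280018b4000b6adc0500a0000000000ee6002
def j3_0 : ℕ := 0x35000000000000000000000000000000020000000000000000000000a300000000000000000000005b000000020000000000000015
noncomputable def ecol3 (b : ℕ) : ℕ := e3_0
noncomputable def jcol3 (b : ℕ) : ℕ := j3_0

def e4_0 : ℕ := 0xe00078b0001c98000c8c000556b80200000000000000000000000001500034000000b4000b012c000000001ad0014ce8003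
def j4_0 : ℕ := 0x250000000000000000000000000000000000000000000000000000000000000013000000000000000100000001
noncomputable def ecol4 (b : ℕ) : ℕ := e4_0
noncomputable def jcol4 (b : ℕ) : ℕ := j4_0

def e5_0 : ℕ := 0xe0007800000098000c00000056000209a00040000001400081a00071500035280018b5780b0140000000000000000ce5003
def j5_0 : ℕ := 0x20000000000000000000000000000000000000000000000730000000200000000000000000000001d
noncomputable def ecol5 (b : ℕ) : ℕ := e5_0
noncomputable def jcol5 (b : ℕ) : ℕ := j5_0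

def e6_0 : ℕ := 0xb0001c98000c8d300500000000000000000001e800f000000150003528001802480000000000000016d0016ae8004
def j6_0 : ℕ := 0x2d000000000000000000000000000000010000000000000000000000000000001b00000000000000000000000100000001
noncomputable def ecol6 (b : ℕ) : ℕ := e6_0
noncomputable def jcol6 (b : ℕ) : ℕ := j6_0

def e7_0 : ℕ := 0xb4004000000098000c8c000513400080000000000001400081a000715000352a70180280000000000000000000000ae4004
def j7_0 : ℕ := 0x20000000000000000000000000000000200000000000000000000000000000000000000000000008b0000000200000000000000000000000000000025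
noncomputable def ecol7 (b : ℕ) : ℕ := e7_0
noncomputable def jcol7 (b : ℕ) : ℕ := j7_0

def e8_0 : ℕ := 0xb0001c99c00c0000000000000000000000000000000000000153603404700000000000000000000012d00188e8005
def j8_0 : ℕ := 0x3500000000000000000000000000000000000000000000000000000023000000230000000000000000000000000000000100000001
noncomputable def ecol8 (b : ℕ) : ℕ := e8_0
noncomputable def jcol8 (b : ℕ) : ℕ := j8_0

def e9_0 : ℕ := 0x99a00c26800100000000000000000000000001a0007153a03405000000000000000000000000000008e3005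
def j9_0 : ℕ := 0x35000000020000000000000000000000000000000000000000000000ab00000002000000000000000000000000000000000000002d
noncomputable def ecol9 (b : ℕ) : ℕ := e9_0
noncomputable def jcol9 (b : ℕ) : ℕ := j9_0

def e10_0 : ℕ := 0xb1c01c49600200000000000000000000000000000001a0007008a0000000000000000000000000000ad001a4e8006
def j10_0 : ℕ := 0x3d0000000d0000000000000000000000000000000000000000000000000000002b000000000000000000000000000000000000000100000001
noncomputable def ecol10 (b : ℕ) : ℕ := e10_0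
noncomputable def jcol10 (b : ℕ) : ℕ := j10_0

def e11_0 : ℕ := 0xb0001c4d000200000000000000000000000000000001a3c0700a00000000000000000000000000000a9701a4e2006
def j11_0 : ℕ := 0x20000000000000000000000000000000000000000000000d30000000200000000000000000000000000000000000000bb00000035
noncomputable def ecol11 (b : ℕ) : ℕ := e11_0
noncomputable def jcol11 (b : ℕ) : ℕ := j11_0

def e12_0 : ℕ := 0x10c00000000000000000000000000000000006d001c2e8007
def j12_0 : ℕ := 0x3300000000000000000000000000000000000000000000000100000001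
noncomputable def ecol12 (b : ℕ) : ℕ := e12_0
noncomputable def jcol12 (b : ℕ) : ℕ := j12_0

def e13_0 : ℕ := 0x9a00040000000000000000000000000000000000000014000000000000000000000000000000000000000002e1007
def j13_0 : ℕ := 0x2000000000000000000000000000000000000000000000000000000020000000000000000000000000000000000000000000000000000003d
noncomputable def ecol13 (b : ℕ) : ℕ := e13_0
noncomputable def jcol13 (b : ℕ) : ℕ := j13_0

def e14_0 : ℕ := 0x2080000000000000000000000000000000000000000000000168008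
def j14_0 : ℕ := 0x3b0000000000000000000000000000000000000000000000000000000000000001
noncomputable def ecol14 (b : ℕ) : ℕ := e14_0
noncomputable def jcol14 (b : ℕ) : ℕ := j14_0

def e15_0 : ℕ := 0x2800000000000000000000000000000000000000000000000160008
def j15_0 : ℕ := 0x20000000000000000000000000000000000000000000000000000000000000045
noncomputable def ecol15 (b : ℕ) : ℕ := e15_0
noncomputable def jcol15 (b : ℕ) : ℕ := j15_0

def m_0 : ℕ := 0x60101c04060011a00028009500010005280006002b400020016a0000800bd0001c00028000c0002c0085000260042000230020c001580104000cc008100076004000009000000000000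
def jm_0 : ℕ := 0x1d9000001b90000018900000129000000f9000000c900000099000001e900000e0300000d0300000c0300000b0300000a0300000903000001c900000000

noncomputable def mgT (b : ℕ) : ℕ := m_0
noncomputable def jmT (b : ℕ) : ℕ := jm_0
noncomputable def eT (c b : ℕ) : ℕ := Bool.rec (motive := fun _ => ℕ) (Bool.rec (motive := fun _ => ℕ) (Bool.rec (motive := fun _ => ℕ) (Bool.rec (motive := fun _ => ℕ) (ecol0 b) (ecol1 b) (Nat.ble 1 c)) (Bool.rec (motive := fun _ => ℕ) (ecol2 b) (ecol3 b) (Nat.ble 3 c)) (Nat.ble 2 c)) (Bool.rec (motive := fun _ => ℕ) (Bool.rec (motive := fun _ => ℕ) (ecol4 b) (ecol5 b) (Nat.ble 5 c)) (Bool.rec (motive := fun _ => ℕ) (ecol6 b) (ecol7 b) (Nat.ble 7 c)) (Nat.ble 6 c)) (Nat.ble 4 c)) (Bool.rec (motive := fun _ => ℕ) (Bool.rec (motive := fun _ => ℕ) (Bool.rec (motive := fun _ => ℕ) (ecol8 b) (ecol9 b) (Nat.ble 9 c)) (Bool.rec (motive := fun _ => ℕ) (ecol10 b) (ecol11 b) (Nat.ble 11 c)) (Nat.ble 10 c)) (Bool.rec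 (motive := fun _ => ℕ) (Bool.rec (motive := fun _ => ℕ) (ecol12 b) (ecol13 b) (Nat.ble 13 c)) (Bool.rec (motive := fun _ => ℕ) (ecol14 b) (ecol15 b) (Nat.ble 15 c)) (Nat.ble 14 c)) (Nat.ble 12 c)) (Nat.ble 8 c)
noncomputable def jT (c b : ℕ) : ℕ := Bool.rec (motive := fun _ => ℕ) (Bool.rec (motive := fun _ => ℕ) (Bool.rec (motive := fun _ => ℕ) (Bool.rec (motive := fun _ => ℕ) (jcol0 b) (jcol1 b) (Nat.ble 1 c)) (Bool.rec (motive := fun _ => ℕ) (jcol2 b) (jcol3 b) (Nat.ble 3 c)) (Nat.ble 2 c)) (Bool.rec (motive := fun _ => ℕ) (Bool.rec (motive := fun _ => ℕ) (jcol4 b) (jcol5 b) (Nat.ble 5 c)) (Bool.rec (motive := fun _ => ℕ) (jcol6 b) (jcol7 b) (Nat.ble 7 c)) (Nat.ble 6 c)) (Nat.ble 4 c)) (Bool.rec (motive := fun _ => ℕ) (Bool.rec (motive := fun _ => ℕ) (Bool.rec (motive := fun _ => ℕ) (jcol8 b) (jcol9 b) (Nat.ble 9 c)) (Bool.rec (motive := fun _ => ℕ) (jcol10 b) (jcol11 b) (Nat.ble 11 c)) (Nat.ble 10 c)) (Bool.rec (motive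 := fun _ => ℕ) (Bool.rec (motive := fun _ => ℕ) (jcol12 b) (jcol13 b) (Nat.ble 13 c)) (Bool.rec (motive := fun _ => ℕ) (jcol14 b) (jcol15 b) (Nat.ble 15 c)) (Nat.ble 14 c)) (Nat.ble 12 c)) (Nat.ble 8 c)

def rw0 : List ℕ := [0, 0]
def rw1 : List ℕ := [2, 2]
def rw2 : List ℕ := [4, 4]
def rw3 : List ℕ := [6, 6]
def rw4 : List ℕ := [8, 8]
def rw5 : List ℕ := [10, 10]
def rw6 : List ℕ := [12, 12]
def rw7 : List ℕ := [14, 14]
def rw8 : List ℕ := [1, 3, 0, 2]
def rw9 : List ℕ := [0, 2, 0, 2, 0, 2]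
def rw10 : List ℕ := [1, 5, 0, 4]
def rw11 : List ℕ := [3, 5, 2, 4]
def rw12 : List ℕ := [2, 4, 2, 4, 2, 4]
def rw13 : List ℕ := [1, 7, 0, 6]
def rw14 : List ℕ := [5, 7, 4, 6]
def rw15 : List ℕ := [4, 6, 4, 6, 4, 6]
def rw16 : List ℕ := [1, 9, 0, 8]
def rw17 : List ℕ := [7, 9, 6, 8]
def rw18 : List ℕ := [6, 8, 6, 8, 6, 8]
def rw19 : List ℕ := [1, 11, 0, 10]
def rw20 : List ℕ := [3, 11, 2, 10]
def rw21 : List ℕ := [9, 11, 8, 10]
def rw22 : List ℕ := [2, 8, 3, 9]
def rw23 : List ℕ := [11, 8, 10, 9]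
def rw24 : List ℕ := [10, 2, 10, 2, 10, 2]
def rw25 : List ℕ := [1, 13, 0, 12]
def rw26 : List ℕ := [11, 13, 10, 12]
def rw27 : List ℕ := [10, 12, 10, 12, 10, 12]
def rw28 : List ℕ := [12, 10, 8, 6, 4, 2, 0, 12, 10, 8, 6, 4, 2, 0, 12, 10, 8, 6, 4, 2, 0, 12, 10, 8, 6, 4, 2, 0, 12, 10, 8, 6, 4, 2, 0, 12, 10, 8, 6, 4, 2, 0, 12, 10, 8, 6, 4, 2, 0, 12, 10, 8, 6, 4, 2, 0, 12, 10, 8, 6, 4, 2, 0]
def rw29 : List ℕ := [7, 15, 6, 14]
def rw30 : List ℕ := [6, 14, 6, 14, 6, 14]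
noncomputable def relW (i : ℕ) : List ℕ := Bool.rec (motive := fun _ => List ℕ) (Bool.rec (motive := fun _ => List ℕ) (Bool.rec (motive := fun _ => List ℕ) (Bool.rec (motive := fun _ => List ℕ) (rw0) (Bool.rec (motive := fun _ => List ℕ) (rw1) (rw2) (Nat.ble 2 i)) (Nat.ble 1 i)) (Bool.rec (motive := fun _ => List ℕ) (Bool.rec (motive := fun _ => List ℕ) (rw3) (rw4) (Nat.ble 4 i)) (Bool.rec (motive := fun _ => List ℕ) (rw5) (rw6) (Nat.ble 6 i)) (Nat.ble 5 i)) (Nat.ble 3 i)) (Bool.rec (motive := fun _ => List ℕ) (Bool.rec (motive := fun _ => List ℕ) (Bool.rec (motive := fun _ => List ℕ) (rw7) (rw8) (Nat.ble 8 i)) (Bool.rec (motive := fun _ => List ℕ) (rw9) (rw10) (Nat.ble 10 i)) (Nat.ble 9 i)) (Bool.rec (motive := fun _ => List ℕ) (Bool.rec (motive := fun _ => List ℕ) (rw11) (rw12) (Nat.ble 12 i)) (Bool.rec (motive := fun _ => List ℕ) (rw13) (rw14) (Nat.ble 14 i)) (Nat.ble 13 i)) (Nat.ble 11 i)) (Nat.ble 7 i)) (Bool.rec (motive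 := fun _ => List ℕ) (Bool.rec (motive := fun _ => List ℕ) (Bool.rec (motive := fun _ => List ℕ) (Bool.rec (motive := fun _ => List ℕ) (rw15) (rw16) (Nat.ble 16 i)) (Bool.rec (motive := fun _ => List ℕ) (rw17) (rw18) (Nat.ble 18 i)) (Nat.ble 17 i)) (Bool.rec (motive := fun _ => List ℕ) (Bool.rec (motive := fun _ => List ℕ) (rw19) (rw20) (Nat.ble 20 i)) (Bool.rec (motive := fun _ => List ℕ) (rw21) (rw22) (Nat.ble 22 i)) (Nat.ble 21 i)) (Nat.ble 19 i)) (Bool.rec (motive := fun _ => List ℕ) (Bool.rec (motive := fun _ => List ℕ) (Bool.rec (motive := fun _ => List ℕ) (rw23) (rw24) (Nat.ble 24 i)) (Bool.rec (motive := fun _ => List ℕ) (rw25) (rw26) (Nat.ble 26 i)) (Nat.ble 25 i)) (Bool.rec (motive := fun _ => List ℕ) (Bool.rec (motive := fun _ => List ℕ) (rw27) (rw28) (Nat.ble 28 i)) (Bool.rec (motive := fun _ => List ℕ) (rw29) (rw30) (Nat.ble 30 i)) (Nat.ble 29 i)) (Nat.ble 27 i)) (Nat.ble 23 i)) (Nat.ble 15 i)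
noncomputable def subW (i : ℕ) : List ℕ := []

noncomputable def data : Data where
  w := 11
  mask := 2047
  tw := 7
  tmask := 127
  hsh := 18
  lsh := 29
  ew := 25
  emask := 33554431
  mw := 37
  mmask := 137438953471
  jw := 32
  jmask := 4294967295
  bsh := 11
  bmask := 2047
  nc := 16
  fuel := 4
  E := eT
  J := jT
  Mg := mgT
  JM := jmT
  relW := relW
  nrot := 31
  subW := subW
  nsub := 0

def M : ℕ := 16
def n : ℕ := 1

def bases : List (List ℕ) := [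
  [0, 0],
  [2, 0, 2, 0, 2, 0],
  [4, 0, 4, 0],
  [6, 0, 6, 0],
  [10, 0, 10, 0],
  [12, 0, 12, 0],
  [8, 0, 8, 0],
  [14, 0, 14, 0],
  [0, 2, 0, 2, 0, 2],
  [2, 2],
  [4, 2, 4, 2, 4, 2],
  [6, 2, 6, 2],
  [10, 2, 10, 2, 10, 2],
  [12, 2, 12, 2],
  [8, 2, 8, 2],
  [14, 2, 14, 2],
  [0, 4, 0, 4],
  [2, 4, 2, 4, 2, 4],
  [4, 4],
  [6, 4, 6, 4, 6, 4],
  [10, 4, 10, 4],
  [12, 4, 12, 4],
  [8, 4, 8, 4],
  [14, 4, 14, 4],
  [0, 6, 0, 6],
  [2, 6, 2, 6],
  [4, 6, 4, 6, 4, 6],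
  [6, 6],
  [10, 6, 10, 6],
  [12, 6, 12, 6],
  [8, 6, 8, 6, 8, 6],
  [14, 6, 14, 6, 14, 6],
  [0, 10, 0, 10],
  [2, 10, 2, 10, 2, 10],
  [4, 10, 4, 10],
  [6, 10, 6, 10],
  [10, 10],
  [12, 10, 12, 10, 12, 10],
  [8, 10, 8, 10],
  [14, 10, 14, 10],
  [0, 12, 0, 12],
  [2, 12, 2, 12],
  [4, 12, 4, 12],
  [6, 12, 6, 12],
  [10, 12, 10, 12, 10, 12],
  [12, 12],
  [8, 12, 8, 12],
  [14, 12, 14, 12, 14, 12],
  [0, 8, 0, 8],
  [2, 8, 2, 8],
  [4, 8, 4, 8],
  [6, 8, 6, 8, 6, 8],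
  [10, 8, 10, 8],
  [12, 8, 12, 8],
  [8, 8],
  [14, 8, 14, 8],
  [0, 14, 0, 14],
  [2, 14, 2, 14],
  [4, 14, 4, 14],
  [6, 14, 6, 14, 6, 14],
  [10, 14, 10, 14],
  [12, 14, 12, 14, 12, 14],
  [8, 14, 8, 14],
  [14, 14],
  [4, 6, 14, 12, 10, 12, 14, 6, 4, 2, 4, 6, 14, 12, 10, 12, 14, 6, 4, 2, 4, 6, 14, 12, 10, 12, 14, 6, 4, 2],
  [10, 12, 14, 6, 4, 2, 10, 12, 14, 6, 4, 2, 10, 12, 14, 6, 4, 2, 10, 12, 14, 6, 4, 2, 10, 12, 14, 6, 4, 2],
  [10, 12, 14, 8, 6, 4, 10, 12, 14, 8, 6, 4, 10, 12, 14, 8, 6, 4, 10, 12, 14, 8, 6, 4, 10, 12, 14, 8, 6, 4],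
  [12, 10, 8, 6, 4, 2, 0, 12, 10, 8, 6, 4, 2, 0, 12, 10, 8, 6, 4, 2, 0, 12, 10, 8, 6, 4, 2, 0, 12, 10, 8, 6, 4, 2, 0, 12, 10, 8, 6, 4, 2, 0, 12, 10, 8, 6, 4, 2, 0, 12, 10, 8, 6, 4, 2, 0, 12, 10, 8, 6, 4, 2, 0],
  [0, 2, 1, 3],
  [0, 4, 1, 5],
  [0, 6, 1, 7],
  [0, 8, 1, 9],
  [0, 10, 1, 11],
  [0, 12, 1, 13],
  [0, 14, 1, 15],
  [2, 4, 3, 5],
  [2, 6, 3, 7],
  [2, 8, 3, 9],
  [2, 10, 3, 11],
  [2, 12, 3, 13],
  [2, 14, 3, 15],
  [4, 6, 5, 7],
  [4, 8, 5, 9],
  [4, 10, 5, 11],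
  [4, 12, 5, 13],
  [4, 14, 5, 15],
  [6, 8, 7, 9],
  [6, 10, 7, 11],
  [6, 12, 7, 13],
  [6, 14, 7, 15],
  [8, 10, 9, 11],
  [8, 12, 9, 13],
  [8, 14, 9, 15],
  [10, 12, 11, 13],
  [10, 14, 11, 15],
  [12, 14, 13, 15]
]

def rots : List (ℕ × ℕ) := [(0, 0), (9, 0), (18, 0), (27, 0), (54, 0), (36, 0), (45, 0), (63, 0), (68, 2), (1, 1), (69, 2), (75, 2), (10, 1), (70, 2), (81, 2), (19, 1), (71, 2), (86, 2), (30, 1), (72, 2), (78, 2), (90, 2), (77, 0), (90, 3), (12, 0), (73, 2), (93, 2), (37, 1), (67, 0), (89, 2), (31, 1)]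

def subsL : List (List ℕ) := [

]

end Cfsg.Agent.Helper4.TC.U62PAB
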