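import Cfsg.Agent.Lib.Helper4.TC.U62PPcModel
import Cfsg.Agent.Lib.Helper4.TC.U62PPcData
import Cfsg.Agent.Lib.Helper4.TC.Strict

set_option autoImplicit false
set_option maxRecDepth 100000
set_option linter.unusedVariables false
set_option Elab.async false

namespace Cfsg.Agent.Helper4.TC.U62PPc

open Cfsg.Agent.Helper4.TC

theorem rel0 : relsRange mdata bases 188 0 = true := relsRange_strict mdata bases 188 0 (by decide +kernel)
theorem rel1 : relsRange mdata bases 188 188 = true := relsRange_strict mdata bases 188 188 (by decide +kernel)
theorem rel2 : relsRange mdata bases 188 376 = true := relsRange_strict mdata bases 188 376 (by decide +kernel)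
theorem rel3 : relsRange mdata bases 188 564 = true := relsRange_strict mdata bases 188 564 (by decide +kernel)
theorem rel4 : relsRange mdata bases 188 752 = true := relsRange_strict mdata bases 188 752 (by decide +kernel)
theorem rel5 : relsRange mdata bases 188 940 = true := relsRange_strict mdata bases 188 940 (by decide +kernel)
theorem rel6 : relsRange mdata bases 188 1128 = true := relsRange_strict mdata bases 188 1128 (by decide +kernel)
theorem rel7 : relsRange mdata bases 188 1316 = true := relsRange_strict mdata bases 188 1316 (by decide +kernel)

end Cfsg.Agent.Helper4.TC.U62PPc
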