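import Cfsg.Agent.Lib.Helper4.TC.U62PPcModel
import Cfsg.Agent.Lib.Helper4.TC.U62PPcData
import Cfsg.Agent.Lib.Helper4.TC.Strict

set_option autoImplicit false
set_option maxRecDepth 100000
set_option linter.unusedVariables false
set_option Elab.async false

namespace Cfsg.Agent.Helper4.TC.U62PPc

open Cfsg.Agent.Helper4.TC

theorem rel8 : relsRange mdata bases 188 1504 = true := relsRange_strict mdata bases 188 1504 (by decide +kernel)
theorem rel9 : relsRange mdata bases 188 1692 = true := relsRange_strict mdata bases 188 1692 (by decide +kernel)
theorem rel10 : relsRange mdata bases 188 1880 = true := relsRange_strict mdata bases 188 1880 (by decide +kernel)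
theorem rel11 : relsRange mdata bases 188 2068 = true := relsRange_strict mdata bases 188 2068 (by decide +kernel)
theorem rel12 : relsRange mdata bases 188 2256 = true := relsRange_strict mdata bases 188 2256 (by decide +kernel)
theorem rel13 : relsRange mdata bases 188 2444 = true := relsRange_strict mdata bases 188 2444 (by decide +kernel)
theorem rel14 : relsRange mdata bases 184 2632 = true := relsRange_strict mdata bases 184 2632 (by decide +kernel)
theorem inv0 : invRange mdata 1666 0 = true := invRange_strict mdata 1666 0 (by decide +kernel)

end Cfsg.Agent.Helper4.TC.U62PPc
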