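import Cfsg.Agent.Lib.Helper4.TC.U62PPcModel
import Cfsg.Agent.Lib.Helper4.TC.U62PPcData
import Cfsg.Agent.Lib.Helper4.TC.Strict

set_option autoImplicit false
set_option maxRecDepth 100000
set_option linter.unusedVariables false
set_option Elab.async false

namespace Cfsg.Agent.Helper4.TC.U62PPc

open Cfsg.Agent.Helper4.TC

theorem inv1 : invRange mdata 1150 1666 = true := invRange_strict mdata 1150 1666 (by decide +kernel)
theorem tree0 : treeRange mdata 2815 1 = true := treeRange_strict mdata 2815 1 (by decide +kernel)
theorem closed1_0 : closedRange mdata subsL 1 568 567 1 = true := closedRange_strict mdata subsL 1 568 567 1 (by decide +kernel)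
theorem reach1_0 : reachRange mdata subsL 1 566 2 = true := reachRange_strict mdata subsL 1 566 2 (by decide +kernel)
theorem closed2_0 : closedRange mdata subsL 568 1135 567 568 = true := closedRange_strict mdata subsL 568 1135 567 568 (by decide +kernel)
theorem reach2_0 : reachRange mdata subsL 568 566 569 = true := reachRange_strict mdata subsL 568 566 569 (by decide +kernel)
theorem closed3_0 : closedRange mdata subsL 1135 2815 1680 1135 = true := closedRange_strict mdata subsL 1135 2815 1680 1135 (by decide +kernel)
theorem reach3_0 : reachRange mdata subsL 1135 1679 1136 = true := reachRange_strict mdata subsL 1135 1679 1136 (by decide +kernel)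

end Cfsg.Agent.Helper4.TC.U62PPc
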