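import Cfsg.Agent.Lib.Helper4.TC.U62PPcModel
import Cfsg.Agent.Lib.Helper4.TC.U62PPcData
import Cfsg.Agent.Lib.Helper4.TC.Strict

set_option autoImplicit false
set_option maxRecDepth 100000
set_option linter.unusedVariables false
set_option Elab.async false

namespace Cfsg.Agent.Helper4.TC.U62PPc

open Cfsg.Agent.Helper4.TC

theorem closed4_0 : closedRange mdata subsL 2815 2816 1 2815 = true := closedRange_strict mdata subsL 2815 2816 1 2815 (by decide +kernel)
theorem sub0_ok : sub0OK mdata subsL = true := by decide +kernel
theorem relc_ok : wordsLettersOK 16 bases = true := by decide +kernel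
theorem subc_ok : wordsLettersOK 16 subsL = true := by decide +kernel

end Cfsg.Agent.Helper4.TC.U62PPc
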