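import Cfsg.Agent.Lib.Helper4.TC.Std
import Cfsg.Agent.Lib.Helper4.TC.U62PPcFin
import Cfsg.Agent.Lib.Helper4.TC.U62PPcCM
import Cfsg.Agent.Lib.Helper4.TC.U62PPcCE0
import Cfsg.Agent.Lib.Helper4.TC.U62PPcCE1
import Cfsg.Agent.Lib.Helper4.TC.U62PPcCE2
import Cfsg.Agent.Lib.Helper4.TC.U62PPcCE3
import Cfsg.Agent.Lib.Helper4.TC.U62PPcCE4
import Cfsg.Agent.Lib.Helper4.TC.U62PPcCE5
import Cfsg.Agent.Lib.Helper4.TC.U62PPcCE6
import Cfsg.Agent.Lib.Helper4.TC.U62PPcCE7
import Cfsg.Agent.Lib.Helper4.TC.U62PPcCE8
import Cfsg.Agent.Lib.Helper4.TC.U62PPcCE9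
import Cfsg.Agent.Lib.Helper4.TC.U62PPcCE10
import Cfsg.Agent.Lib.Helper4.TC.U62PPcCE11
import Cfsg.Agent.Lib.Helper4.TC.U62PPcCE12
import Cfsg.Agent.Lib.Helper4.TC.U62PPcCE13
import Cfsg.Agent.Lib.Helper4.TC.U62PPcCE14
import Cfsg.Agent.Lib.Helper4.TC.U62PPcCE15
import Cfsg.Agent.Lib.Helper4.TC.U62PPcCF0
import Cfsg.Agent.Lib.Helper4.TC.U62PPcMC0
import Cfsg.Agent.Lib.Helper4.TC.U62PPcMC1
import Cfsg.Agent.Lib.Helper4.TC.U62PPcMC2
import Cfsg.Agent.Lib.Helper4.TC.U62PPcMC3
import Cfsg.Agent.Lib.Helper4.TC.PresU62

set_option autoImplicit false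
set_option maxRecDepth 100000
set_option linter.unusedVariables false

namespace Cfsg.Agent.Helper4.TC.U62PPc

open Cfsg.Agent.Helper4.TC

def gens : List Cfsg.Agent.Helper4.Pres.U62.Gen := [.c, .d, .e, .f, .g, .h, .i, .x]

abbrev dec : ℕ → Letter Cfsg.Agent.Helper4.Pres.U62.Gen := stdDec gens .c
abbrev enc : Cfsg.Agent.Helper4.Pres.U62.Gen → ℕ := stdEnc gens

theorem coding : Coding dec enc 16 :=
  std_coding gens .c (by decide) (by intro x; cases x <;> decide) 16 (by decide)

theorem allE0 : ∀ k, k < 4096 → justE data 0 k = true := by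
  intro k hk
  exact edgeRange_sound data 0 4096 0 e0_c0 k (by omega) (by omega)

theorem allE1 : ∀ k, k < 4096 → justE data 1 k = true := by
  intro k hk
  exact edgeRange_sound data 1 4096 0 e1_c0 k (by omega) (by omega)

theorem allE2 : ∀ k, k < 4096 → justE data 2 k = true := by
  intro k hk
  exact edgeRange_sound data 2 4096 0 e2_c0 k (by omega) (by omega)

theorem allE3 : ∀ k, k < 4096 → justE data 3 k = true := by
  intro k hk
  exact edgeRange_sound data 3 4096 0 e3_c0 k (by omega) (by omega)

theorem allE4 : ∀ k, k < 4096 → justE data 4 k = true := by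
  intro k hk
  exact edgeRange_sound data 4 4096 0 e4_c0 k (by omega) (by omega)

theorem allE5 : ∀ k, k < 4096 → justE data 5 k = true := by
  intro k hk
  exact edgeRange_sound data 5 4096 0 e5_c0 k (by omega) (by omega)

theorem allE6 : ∀ k, k < 4096 → justE data 6 k = true := by
  intro k hk
  exact edgeRange_sound data 6 4096 0 e6_c0 k (by omega) (by omega)

theorem allE7 : ∀ k, k < 4096 → justE data 7 k = true := by
  intro k hk
  exact edgeRange_sound data 7 4096 0 e7_c0 k (by omega) (by omega)

theorem allE8 : ∀ k, k < 4096 → justE data 8 k = true := by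
  intro k hk
  exact edgeRange_sound data 8 4096 0 e8_c0 k (by omega) (by omega)

theorem allE9 : ∀ k, k < 4096 → justE data 9 k = true := by
  intro k hk
  exact edgeRange_sound data 9 4096 0 e9_c0 k (by omega) (by omega)

theorem allE10 : ∀ k, k < 4096 → justE data 10 k = true := by
  intro k hk
  exact edgeRange_sound data 10 4096 0 e10_c0 k (by omega) (by omega)

theorem allE11 : ∀ k, k < 4096 → justE data 11 k = true := by
  intro k hk
  exact edgeRange_sound data 11 4096 0 e11_c0 k (by omega) (by omega)

theorem allE12 : ∀ k, k < 4096 → justE data 12 k = true := by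
  intro k hk
  exact edgeRange_sound data 12 4096 0 e12_c0 k (by omega) (by omega)

theorem allE13 : ∀ k, k < 4096 → justE data 13 k = true := by
  intro k hk
  exact edgeRange_sound data 13 4096 0 e13_c0 k (by omega) (by omega)

theorem allE14 : ∀ k, k < 4096 → justE data 14 k = true := by
  intro k hk
  exact edgeRange_sound data 14 4096 0 e14_c0 k (by omega) (by omega)

theorem allE15 : ∀ k, k < 4096 → justE data 15 k = true := by
  intro k hk
  exact edgeRange_sound data 15 4096 0 e15_c0 k (by omega) (by omega)

theorem allE : ∀ c k, c < data.nc → k ≤ data.mask → justE data c k = true := by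
  intro c k hc hk
  have hc' : c < 16 := hc
  have hk' : k < 4096 := Nat.lt_succ_of_le hk
  interval_cases c
  · exact allE0 k hk'
  · exact allE1 k hk'
  · exact allE2 k hk'
  · exact allE3 k hk'
  · exact allE4 k hk'
  · exact allE5 k hk'
  · exact allE6 k hk'
  · exact allE7 k hk'
  · exact allE8 k hk'
  · exact allE9 k hk'
  · exact allE10 k hk'
  · exact allE11 k hk'
  · exact allE12 k hk'
  · exact allE13 k hk'
  · exact allE14 k hk'
  · exact allE15 k hk'

theorem allM : ∀ k, k ≤ data.mask → justM data k = true := by
  intro k hk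
  have hk' : k < 4096 := Nat.lt_succ_of_le hk
  exact mergeRange_sound data 4096 0 m_c0 k (by omega) (by omega)

theorem rows_all : ∀ k, k < M → isFinal data k = true → rowOK data M k data.nc = true := by
  intro k hk
  have hk' : k < 2886 := hk
  by_cases hh1 : k < 1077
  · skip
    exact rowsRange_sound data M 1077 0 rows0 k (by omega) (by omega)
  · skip
    by_cases hh2 : k < 2111
    · skip
      exact rowsRange_sound data M 1034 1077 rows1 k (by omega) (by omega)
    · skip
      exact rowsRange_sound data M 775 2111 rows2 k (by omega) (by omega)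

theorem cnt_ok : countFinal data M 0 0 = n := by
  exact cnt0

abbrev Rset : Set (FreeGroup Cfsg.Agent.Helper4.Pres.U62.Gen) := Cfsg.Spor.coxRelators Cfsg.Agent.Helper4.Pres.U62.edges ∪ {r | r ∈ Cfsg.Agent.Helper4.Pres.U62.extra}
abbrev Sset : Set (FreeGroup Cfsg.Agent.Helper4.Pres.U62.Gen) := {Cfsg.Agent.Helper4.Pres.U62.d, Cfsg.Agent.Helper4.Pres.U62.e, Cfsg.Agent.Helper4.Pres.U62.f, Cfsg.Agent.Helper4.Pres.U62.g, Cfsg.Agent.Helper4.Pres.U62.h, Cfsg.Agent.Helper4.Pres.U62.i, Cfsg.Agent.Helper4.Pres.U62.x}
def SL : List (FreeGroup Cfsg.Agent.Helper4.Pres.U62.Gen) := [Cfsg.Agent.Helper4.Pres.U62.d, Cfsg.Agent.Helper4.Pres.U62.e, Cfsg.Agent.Helper4.Pres.U62.f, Cfsg.Agent.Helper4.Pres.U62.g, Cfsg.Agent.Helper4.Pres.U62.h, Cfsg.Agent.Helper4.Pres.U62.i, Cfsg.Agent.Helper4.Pres.U62.x]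

theorem mem_S (s : FreeGroup Cfsg.Agent.Helper4.Pres.U62.Gen) : s ∈ Sset ↔ s ∈ SL := by
  simp only [Sset, SL, Set.mem_insert_iff, Set.mem_singleton_iff, List.mem_cons, List.not_mem_nil, or_false]

theorem hR1 : ∀ r ∈ Rset, ∃ b ∈ bases, r = wordF dec b := by
  intro r hr
  rw [mem_rels_iff] at hr
  revert r
  decide +kernel

theorem hR2 : ∀ b ∈ bases, wordF dec b ∈ Rset := by
  intro b hb
  rw [mem_rels_iff]
  revert b
  decide +kernel

theorem hS1 : ∀ s ∈ Sset, ∃ b ∈ subsL, s = wordF dec b := by
  intro s hs
  rw [mem_S] at hs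
  revert s
  decide +kernel

theorem hS2 : ∀ b ∈ subsL, wordF dec b ∈ Sset := by
  intro b hb
  rw [mem_S]
  revert b
  decide +kernel

theorem bound : Finite (PresentedGroup Rset ⧸ (Subgroup.closure Sset).map (PresentedGroup.mk Rset)) ∧
    Nat.card (PresentedGroup Rset ⧸ (Subgroup.closure Sset).map (PresentedGroup.mk Rset)) ≤ n :=
  tc_bound data bases subsL rots coding hR2 hS2 words_ok allE allM M n fin0_ok (by decide) (by decide) cnt_ok rows_all

theorem model_ok : ModelOK mdata bases subsL := by
  refine ⟨by decide, ?_, ?_, wordsLettersOK_sound _ _ relc_ok, wordsLettersOK_sound _ _ subc_ok,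
    sub0OK_sound _ _ sub0_ok, ?_⟩
  · intro k hk
    have hk' : k < 2816 := hk
    by_cases hh1 : k < 1666
    · skip
      exact invRange_sound mdata 1666 0 inv0 k (by omega) (by omega)
    · skip
      exact invRange_sound mdata 1150 1666 inv1 k (by omega) (by omega)
  · intro k hk
    have hk' : k < 2816 := hk
    by_cases hh1 : k < 1316
    · skip
      by_cases hh2 : k < 564
      · skip
        by_cases hh3 : k < 188
        · skip
          exact relsRange_sound mdata bases 188 0 rel0 k (by omega) (by omega)
        · skip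
          by_cases hh4 : k < 376
          · skip
            exact relsRange_sound mdata bases 188 188 rel1 k (by omega) (by omega)
          · skip
            exact relsRange_sound mdata bases 188 376 rel2 k (by omega) (by omega)
      · skip
        by_cases hh5 : k < 940
        · skip
          by_cases hh6 : k < 752
          · skip
            exact relsRange_sound mdata bases 188 564 rel3 k (by omega) (by omega)
          · skip
            exact relsRange_sound mdata bases 188 752 rel4 k (by omega) (by omega)
        · skip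
          by_cases hh7 : k < 1128
          · skip
            exact relsRange_sound mdata bases 188 940 rel5 k (by omega) (by omega)
          · skip
            exact relsRange_sound mdata bases 188 1128 rel6 k (by omega) (by omega)
    · skip
      by_cases hh8 : k < 2068
      · skip
        by_cases hh9 : k < 1692
        · skip
          by_cases hh10 : k < 1504
          · skip
            exact relsRange_sound mdata bases 188 1316 rel7 k (by omega) (by omega)
          · skip
            exact relsRange_sound mdata bases 188 1504 rel8 k (by omega) (by omega)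
        · skip
          by_cases hh11 : k < 1880
          · skip
            exact relsRange_sound mdata bases 188 1692 rel9 k (by omega) (by omega)
          · skip
            exact relsRange_sound mdata bases 188 1880 rel10 k (by omega) (by omega)
      · skip
        by_cases hh12 : k < 2444
        · skip
          by_cases hh13 : k < 2256
          · skip
            exact relsRange_sound mdata bases 188 2068 rel11 k (by omega) (by omega)
          · skip
            exact relsRange_sound mdata bases 188 2256 rel12 k (by omega) (by omega)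
        · skip
          by_cases hh14 : k < 2632
          · skip
            exact relsRange_sound mdata bases 188 2444 rel13 k (by omega) (by omega)
          · skip
            exact relsRange_sound mdata bases 184 2632 rel14 k (by omega) (by omega)
  · intro k h1 h2
    have h2' : k < 1 + (2816 - 1) := h2
    exact treeRange_sound mdata 2815 1 tree0 k (by omega) (by omega)

theorem orb1 : OrbOK mdata subsL 1 568 := by
  refine ⟨by decide, by decide, ?_, ?_⟩
  · intro k h1 h2
    exact closedRange_sound mdata subsL 1 568 567 1 closed1_0 k (by omega) (by omega)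
  · intro k h1 h2
    exact reachRange_sound mdata subsL 1 566 2 reach1_0 k (by omega) (by omega)

theorem orb2 : OrbOK mdata subsL 568 1135 := by
  refine ⟨by decide, by decide, ?_, ?_⟩
  · intro k h1 h2
    exact closedRange_sound mdata subsL 568 1135 567 568 closed2_0 k (by omega) (by omega)
  · intro k h1 h2
    exact reachRange_sound mdata subsL 568 566 569 reach2_0 k (by omega) (by omega)

theorem orb3 : OrbOK mdata subsL 1135 2815 := by
  refine ⟨by decide, by decide, ?_, ?_⟩
  · intro k h1 h2
    exact closedRange_sound mdata subsL 1135 2815 1680 1135 closed3_0 k (by omega) (by omega)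
  · intro k h1 h2
    exact reachRange_sound mdata subsL 1135 1679 1136 reach3_0 k (by omega) (by omega)

theorem orb4 : OrbOK mdata subsL 2815 2816 := by
  refine ⟨by decide, by decide, ?_, ?_⟩
  · intro k h1 h2
    exact closedRange_sound mdata subsL 2815 2816 1 2815 closed4_0 k (by omega) (by omega)
  · intro k h1 h2
    omega

theorem main : ((Subgroup.closure Sset).map (PresentedGroup.mk Rset)).index = 2816 ∧
    ∃ e : (PresentedGroup Rset ⧸ (Subgroup.closure Sset).map (PresentedGroup.mk Rset)) ≃ Fin 2816,
      ∀ lo hi, OrbOK mdata subsL lo hi → ∀ q, (e q).val = lo →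
        e '' (MulAction.orbit ((Subgroup.closure Sset).map (PresentedGroup.mk Rset)) q) =
          {x : Fin 2816 | lo ≤ x.val ∧ x.val < hi} :=
  model_main mdata bases subsL coding hR1 hS1 hS2 model_ok bound

end Cfsg.Agent.Helper4.TC.U62PPc
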