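import Cfsg.Agent.Lib.Helper4.TC.U62QSL
import Cfsg.Agent.Lib.Helper4.TC.U62QPcGlue
import Cfsg.Agent.Lib.Helper4.TC.Strict

set_option autoImplicit false
set_option maxRecDepth 100000
set_option linter.unusedVariables false
set_option Elab.async false

namespace Cfsg.Agent.Helper4.TC.U62QS

open Cfsg.Agent.Helper4.TC

theorem lvl2_c0 : lvlRange U62QPc.mdata ld2 W2 568 840 0 = true := lvlRange_strict U62QPc.mdata ld2 W2 568 840 0 (by decide +kernel)
theorem srt2_c0 : srtRange ld2 839 0 = true := srtRange_strict ld2 839 0 (by decide +kernel)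
theorem fix2 : ∀ w ∈ W2, (∀ c ∈ w, c < U62QPc.mdata.nc) ∧ ∀ q ∈ [0], mtrace U62QPc.mdata w q = q := by decide +kernel

theorem lvl3_c0 : lvlRange U62QPc.mdata ld3 W3 8 243 0 = true := lvlRange_strict U62QPc.mdata ld3 W3 8 243 0 (by decide +kernel)
theorem srt3_c0 : srtRange ld3 242 0 = true := srtRange_strict ld3 242 0 (by decide +kernel)
theorem fix3 : ∀ w ∈ W3, (∀ c ∈ w, c < U62QPc.mdata.nc) ∧ ∀ q ∈ [568, 0], mtrace U62QPc.mdata w q = q := by decide +kernel

theorem lvl4_c0 : lvlRange U62QPc.mdata ld4 W4 6 16 0 = true := lvlRange_strict U62QPc.mdata ld4 W4 6 16 0 (by decide +kernel)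
theorem srt4_c0 : srtRange ld4 15 0 = true := srtRange_strict ld4 15 0 (by decide +kernel)
theorem fix4 : ∀ w ∈ W4, (∀ c ∈ w, c < U62QPc.mdata.nc) ∧ ∀ q ∈ [8, 568, 0], mtrace U62QPc.mdata w q = q := by decide +kernel

theorem lvl5_c0 : lvlRange U62QPc.mdata ld5 W5 1 2 0 = true := lvlRange_strict U62QPc.mdata ld5 W5 1 2 0 (by decide +kernel)
theorem srt5_c0 : srtRange ld5 1 0 = true := srtRange_strict ld5 1 0 (by decide +kernel)
theorem fix5 : ∀ w ∈ W5, (∀ c ∈ w, c < U62QPc.mdata.nc) ∧ ∀ q ∈ [6, 8, 568, 0], mtrace U62QPc.mdata w q = q := by decide +kernel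

theorem lvl2 : LevelOK U62QPc.mdata ld2 W2 568 := by
  refine ⟨?_, ?_⟩
  · intro k hk
    have hk' : k < 840 := hk
    exact lvlRange_sound U62QPc.mdata ld2 W2 568 840 0 lvl2_c0 k (by omega) (by omega)
  · intro k hk
    have hk' : k + 1 < 840 := hk
    exact srtRange_sound ld2 839 0 srt2_c0 k (by omega) (by omega)

theorem lvl3 : LevelOK U62QPc.mdata ld3 W3 8 := by
  refine ⟨?_, ?_⟩
  · intro k hk
    have hk' : k < 243 := hk
    exact lvlRange_sound U62QPc.mdata ld3 W3 8 243 0 lvl3_c0 k (by omega) (by omega)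
  · intro k hk
    have hk' : k + 1 < 243 := hk
    exact srtRange_sound ld3 242 0 srt3_c0 k (by omega) (by omega)

theorem lvl4 : LevelOK U62QPc.mdata ld4 W4 6 := by
  refine ⟨?_, ?_⟩
  · intro k hk
    have hk' : k < 16 := hk
    exact lvlRange_sound U62QPc.mdata ld4 W4 6 16 0 lvl4_c0 k (by omega) (by omega)
  · intro k hk
    have hk' : k + 1 < 16 := hk
    exact srtRange_sound ld4 15 0 srt4_c0 k (by omega) (by omega)

theorem lvl5 : LevelOK U62QPc.mdata ld5 W5 1 := by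
  refine ⟨?_, ?_⟩
  · intro k hk
    have hk' : k < 2 := hk
    exact lvlRange_sound U62QPc.mdata ld5 W5 1 2 0 lvl5_c0 k (by omega) (by omega)
  · intro k hk
    have hk' : k + 1 < 2 := hk
    exact srtRange_sound ld5 1 0 srt5_c0 k (by omega) (by omega)

noncomputable def specs : List LSpec := [⟨ld2, W2, 568⟩, ⟨ld3, W3, 8⟩, ⟨ld4, W4, 6⟩, ⟨ld5, W5, 1⟩]

theorem levels_ok : LevelsOK U62QPc.mdata [0] specs := by
  refine levelsOK_cons U62QPc.mdata [0] ⟨ld2, W2, 568⟩ _ lvl2 (by decide) fix2 ?_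
  refine levelsOK_cons U62QPc.mdata [568, 0] ⟨ld3, W3, 8⟩ _ lvl3 (by decide) fix3 ?_
  refine levelsOK_cons U62QPc.mdata [8, 568, 0] ⟨ld4, W4, 6⟩ _ lvl4 (by decide) fix4 ?_
  refine levelsOK_cons U62QPc.mdata [6, 8, 568, 0] ⟨ld5, W5, 1⟩ _ lvl5 (by decide) fix5 ?_
  exact levelsOK_nil _ _

end Cfsg.Agent.Helper4.TC.U62QS
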