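import Cfsg.Agent.Lib.Helper4.TC.U62QSLC
import Cfsg.Agent.Lib.Helper4.TC.Strict

set_option autoImplicit false
set_option maxRecDepth 100000
set_option linter.unusedVariables false
set_option Elab.async false

namespace Cfsg.Agent.Helper4.TC.U62QS

open Cfsg.Agent.Helper4.TC

def xw : List ℕ := [10, 12, 10, 4, 0, 14, 8, 2, 6]
def xpw : List ℕ := [10, 12, 10, 4, 0, 14, 8, 2, 6, 10, 12, 10, 4, 0, 14, 8, 2, 6, 10, 12, 10, 4, 0, 14, 8, 2, 6, 10, 12, 10, 4, 0, 14, 8, 2, 6, 10, 12, 10, 4, 0, 14, 8, 2, 6, 10, 12, 10, 4, 0, 14, 8, 2, 6, 10, 12, 10, 4, 0, 14, 8, 2, 6, 10, 12, 10, 4, 0, 14, 8, 2, 6, 10, 12, 10, 4, 0, 14, 8, 2, 6, 10, 12, 10, 4, 0, 14, 8, 2, 6, 10, 12, 10, 4, 0, 14, 8, 2, 6]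
theorem xp_c0 : relsRange U62QPc.mdata [xpw] 808 0 = true := relsRange_strict U62QPc.mdata [xpw] 808 0 (by decide +kernel)
theorem xp_c1 : relsRange U62QPc.mdata [xpw] 600 808 = true := relsRange_strict U62QPc.mdata [xpw] 600 808 (by decide +kernel)

end Cfsg.Agent.Helper4.TC.U62QS
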